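import Cfsg.Agent.FusSys.Alperin
import Cfsg.Agent.Fusion.Residual

/-!
Criteria for normal and central subgroups of a saturated system; the decomposition
`Aut_F(P) = O^p(Aut_F(P)) Aut_S(P)`.
-/

set_option autoImplicit false

namespace Cfsg.Agent.FusSys

open Cfsg Cfsg.FusionSystem

universe u

variable {Ω : Type u} [Group Ω] {S : Subgroup Ω}
variable {F : FusionSystem S} {P Q R : Subgroup Ω} {f g : Ω → Ω} {p : ℕ}

theorem apl_mem_iff_of_invariant {α : MulAut P}
    (h : (Q.subgroupOf P).map α.toMonoidHom = Q.subgroupOf P) {x : Ω} (hx : x ∈ P) :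
    apl α x ∈ Q ↔ x ∈ Q := by
  rw [apl_apply α hx]
  constructor
  · intro hQ
    have h1 : α ⟨x, hx⟩ ∈ (Q.subgroupOf P).map α.toMonoidHom := by rw [h]; exact hQ
    obtain ⟨y, hy, hyx⟩ := Subgroup.mem_map.1 h1
    rw [α.injective hyx] at hy
    exact hy
  · intro hQ
    have h1 : α ⟨x, hx⟩ ∈ Q.subgroupOf P := by
      rw [← h]; exact Subgroup.mem_map.2 ⟨⟨x, hx⟩, hQ, rfl⟩
    exact h1

theorem invariant_of_apl {α : MulAut P} (h : ∀ x ∈ P, apl α x ∈ Q ↔ x ∈ Q) :
    (Q.subgroupOf P).map α.toMonoidHom = Q.subgroupOf P := by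
  ext x
  rw [Subgroup.mem_map]
  constructor
  · rintro ⟨y, hy, rfl⟩
    have := (h y y.2).2 hy
    rwa [apl_coe] at this
  · intro hx
    refine ⟨α.symm x, ?_, α.apply_symm_apply x⟩
    refine Subgroup.mem_subgroupOf.2 ((h _ (α.symm x).2).1 ?_)
    rw [apl_coe, α.apply_symm_apply]
    exact hx

theorem apl_invariant_of_stronglyClosed (hQ : F.StronglyClosed Q) (hP : P ≤ S) {α : MulAut P}
    (hα : α ∈ F.autGroup P) {x : Ω} (hx : x ∈ P) : apl α x ∈ Q ↔ x ∈ Q := by
  refine ⟨fun h => ?_, fun h => StronglyClosed.mor_mem hQ (iso_apl hP hα).1 hx h⟩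
  have := StronglyClosed.mor_mem hQ (iso_apl hP (Subgroup.inv_mem _ hα)).1 (apl_mem α hx) h
  rwa [apl_inv_apl α hx] at this

/-- If conjugation by `a` lies in a normal `p`-subgroup of `Aut_F(P)`, `P` centric radical, then `a ∈ P`. -/
theorem mem_of_normal_pGroup (hc : F.IsCentric P) (hr : F.IsRadical p P) {a : Ω} (ha : a ∈ S)
    (han : a ∈ Subgroup.normalizer (P : Set Ω)) {Γ : Subgroup (MulAut P)} (hΓ : Γ ≤ F.autGroup P)
    (hΓp : IsPGroup p Γ) (hnorm : ∀ α ∈ F.autGroup P, ∀ γ ∈ Γ, α * γ * α⁻¹ ∈ Γ)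
    (h : ∀ γ : MulAut P, γ ∈ F.autGroup P → (∀ x ∈ P, apl γ x = a * x * a⁻¹) → γ ∈ Γ) : a ∈ P := by
  obtain ⟨β, hβ, hβx⟩ := exists_mem_autInducedBy (P := P) ha han
  have hβF : β ∈ F.autGroup P := autInducedBy_le_autGroup hc.1 hβ
  have hn : (Γ.subgroupOf (F.autGroup P)).Normal := ⟨fun x hx y => hnorm y y.2 x hx⟩
  have h1 : (⟨β, hβF⟩ : F.autGroup P) ∈ pCore p (F.autGroup P) :=
    Cfsg.Agent.Core.le_pCore (N := Γ.subgroupOf (F.autGroup P)) (hN := hn) hΓp.comap_subtype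
      (h β hβF hβx)
  have h2 : β ∈ Inn P := hr.2 ▸ Subgroup.mem_map.2 ⟨_, h1, rfl⟩
  exact mem_of_conj_mem_inn (centric_self hc) hc.1 ha hβx h2

/-- The automorphisms of `P` stabilizing an ascending chain `C 0 ≤ ... ≤ C n = P`. -/
noncomputable def chainStab [Finite P] (C : ℕ → Subgroup Ω) (hmono : Monotone C) (n : ℕ) :
    Subgroup (MulAut P) :=
  subgroupOfFiniteSubmonoid
    { carrier := {α | ∀ i < n, ∀ x ∈ P, x ∈ C (i + 1) → x⁻¹ * apl α x ∈ C i}
      one_mem' := fun i _ x hx _ => by rw [apl_one hx, inv_mul_cancel]; exact one_mem _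
      mul_mem' := by
        intro α β hα hβ i hi x hx hxC
        rw [apl_mul _ _ hx]
        have h1 := hβ i hi x hx hxC
        have hy : apl β x ∈ C (i + 1) := by
          have := mul_mem hxC (hmono (Nat.le_succ i) h1)
          rwa [mul_inv_cancel_left] at this
        have h2 := hα i hi _ (apl_mem β hx) hy
        have := mul_mem h1 h2
        rwa [mul_assoc, mul_inv_cancel_left] at this }
where
  /-- A submonoid of a finite group as a subgroup. -/
  subgroupOfFiniteSubmonoid [Finite P] (M : Submonoid (MulAut P)) : Subgroup (MulAut P) :=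
    { M with
      inv_mem' := fun {x} hx => by
        haveI : Finite (MulAut P) := Finite.of_injective _ MulEquiv.toEquiv_injective
        have : x⁻¹ = x ^ (orderOf x - 1) := by
          rw [inv_eq_iff_mul_eq_one, ← pow_succ', Nat.sub_add_cancel (orderOf_pos x),
            pow_orderOf_eq_one]
        show x⁻¹ ∈ M
        rw [this]
        exact M.pow_mem hx _ }

theorem mem_chainStab [Finite P] {C : ℕ → Subgroup Ω} {hmono : Monotone C} {n : ℕ} {α : MulAut P} :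
    α ∈ chainStab C hmono n ↔ ∀ i < n, ∀ x ∈ P, x ∈ C (i + 1) → x⁻¹ * apl α x ∈ C i := Iff.rfl

/-- A `p'`-automorphism stabilizing a chain of a `p`-group, trivial on the bottom, is trivial. -/
theorem eq_one_of_chain [Finite P] [Fact p.Prime] (hP : IsPGroup p P) {C : ℕ → Subgroup Ω} {n : ℕ}
    (htop : P ≤ C n) {δ : MulAut P} (hδ : (orderOf δ).Coprime p)
    (hbot : ∀ x ∈ P, x ∈ C 0 → apl δ x = x)
    (h : ∀ i < n, ∀ x ∈ P, x ∈ C (i + 1) → x⁻¹ * apl δ x ∈ C i) : δ = 1 := by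
  suffices H : ∀ i ≤ n, ∀ x ∈ P, x ∈ C i → apl δ x = x from
    apl_ext fun x hx => by rw [apl_one hx]; exact H n le_rfl x hx (htop hx)
  intro i
  induction i with
  | zero => exact fun _ => hbot
  | succ i ih =>
    intro hi x hx hxC
    have hy : x⁻¹ * apl δ x ∈ P := P.mul_mem (P.inv_mem hx) (apl_mem δ hx)
    have hfix := ih (by omega) _ hy (h i (by omega) x hx hxC)
    have hit : ∀ k : ℕ, apl (δ ^ k) x = x * (x⁻¹ * apl δ x) ^ k := by
      intro k
      induction k with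
      | zero => rw [pow_zero, pow_zero, mul_one, apl_one hx]
      | succ k ihk =>
        have hyk : ∀ j : ℕ, apl δ ((x⁻¹ * apl δ x) ^ j) = (x⁻¹ * apl δ x) ^ j := by
          intro j
          have h1 : (⟨_, hy⟩ : P) ^ j = ⟨(x⁻¹ * apl δ x) ^ j, P.pow_mem hy j⟩ := rfl
          rw [apl_apply δ (P.pow_mem hy j), ← h1, map_pow]
          rw [apl_apply δ hy] at hfix
          show ((δ ⟨_, hy⟩ : P) : Ω) ^ j = _
          rw [hfix]
        rw [pow_succ', apl_mul _ _ hx, ihk, apl_apply δ (P.mul_mem hx (P.pow_mem hy k))]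
        have h2 : (⟨x * (x⁻¹ * apl δ x) ^ k, P.mul_mem hx (P.pow_mem hy k)⟩ : P) =
            ⟨x, hx⟩ * ⟨(x⁻¹ * apl δ x) ^ k, P.pow_mem hy k⟩ := rfl
        rw [h2, map_mul, Subgroup.coe_mul, ← apl_apply δ hx, ← apl_apply δ (P.pow_mem hy k), hyk,
          pow_succ', ← mul_assoc, ← mul_assoc, mul_inv_cancel, one_mul]
    have h3 := hit (orderOf δ)
    rw [pow_orderOf_eq_one, apl_one hx, left_eq_mul] at h3
    obtain ⟨k, hk⟩ := hP ⟨_, hy⟩
    have h4 : (⟨_, hy⟩ : P) ^ orderOf δ = 1 := Subtype.ext h3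
    have h5 : (orderOf δ).Coprime (p ^ k) := Nat.Coprime.pow_right k hδ
    have h6 : (⟨_, hy⟩ : P) = 1 := by
      rw [← orderOf_eq_one_iff]
      exact Nat.eq_one_of_dvd_coprimes h5 (orderOf_dvd_of_pow_eq_one h4) (orderOf_dvd_of_pow_eq_one hk)
    have h7 : x⁻¹ * apl δ x = 1 := congrArg Subtype.val h6
    calc apl δ x = x * (x⁻¹ * apl δ x) := by group
      _ = x := by rw [h7, mul_one]

theorem isPGroup_chainStab [Finite P] [Fact p.Prime] (hP : IsPGroup p P) {C : ℕ → Subgroup Ω}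
    (hmono : Monotone C) {n : ℕ} (htop : P ≤ C n) {Γ : Subgroup (MulAut P)}
    (hbot : ∀ δ ∈ Γ, (orderOf δ).Coprime p → ∀ x ∈ P, x ∈ C 0 → apl δ x = x) :
    IsPGroup p ↥(Γ ⊓ chainStab (P := P) C hmono n) := by
  haveI : Finite (MulAut P) := Finite.of_injective _ MulEquiv.toEquiv_injective
  rintro ⟨δ, hδ⟩
  obtain ⟨k, m, hm, hn⟩ := Nat.exists_eq_pow_mul_and_not_dvd (orderOf_pos δ).ne' p
    (Fact.out : p.Prime).ne_one
  refine ⟨k, Subtype.ext ?_⟩
  show δ ^ p ^ k = 1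
  have hord : (orderOf (δ ^ p ^ k)).Coprime p := by
    refine Nat.Coprime.coprime_dvd_left (orderOf_dvd_of_pow_eq_one (x := δ ^ p ^ k) ?_)
      ((Nat.Prime.coprime_iff_not_dvd Fact.out).2 hm).symm
    rw [← pow_mul, ← hn, pow_orderOf_eq_one]
  exact eq_one_of_chain hP htop hord (hbot _ (Subgroup.pow_mem _ hδ.1 _) hord)
    (mem_chainStab.1 (Subgroup.pow_mem _ hδ.2 _))

theorem chainStab_conj [Finite P] {C : ℕ → Subgroup Ω} {hmono : Monotone C} {n : ℕ} {α γ : MulAut P}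
    (hα : ∀ i ≤ n, ∀ x ∈ P, apl α x ∈ C i ↔ x ∈ C i) (hγ : γ ∈ chainStab C hmono n) :
    α * γ * α⁻¹ ∈ chainStab C hmono n := by
  rw [mem_chainStab] at hγ ⊢
  intro i hi x hx hxC
  have hy : apl α⁻¹ x ∈ P := apl_mem _ hx
  have hyC : apl α⁻¹ x ∈ C (i + 1) := by
    rw [← hα (i + 1) hi _ hy, apl_apl_inv α hx]; exact hxC
  have h1 := hγ i hi _ hy hyC
  have hw : (apl α⁻¹ x)⁻¹ * apl γ (apl α⁻¹ x) ∈ P := P.mul_mem (P.inv_mem hy) (apl_mem γ hy)
  have h2 := (hα i hi.le _ hw).2 h1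
  rw [apl_apply α hw] at h2
  have e : (⟨_, hw⟩ : P) = (⟨_, hy⟩ : P)⁻¹ * ⟨_, apl_mem γ hy⟩ := rfl
  rw [e, map_mul, map_inv, Subgroup.coe_mul, Subgroup.coe_inv, ← apl_apply α hy,
    ← apl_apply α (apl_mem γ hy), apl_apl_inv α hx] at h2
  rwa [apl_mul _ _ hx, apl_mul _ _ hy]

/-- The chain criterion: an element of `N_S(P)` stabilizing an invariant chain of a centric radical
subgroup lies in it. -/
theorem mem_of_chain [Fact p.Prime] [Finite S] (hS : IsPGroup p S) (hc : F.IsCentric P)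
    (hr : F.IsRadical p P) {a : Ω} (ha : a ∈ S) (han : a ∈ Subgroup.normalizer (P : Set Ω))
    {C : ℕ → Subgroup Ω} (hmono : Monotone C) {n : ℕ} (htop : P ≤ C n)
    (hinv : ∀ α ∈ F.autGroup P, ∀ i ≤ n, ∀ x ∈ P, apl α x ∈ C i ↔ x ∈ C i)
    (hbot : ∀ δ ∈ F.autGroup P, (orderOf δ).Coprime p → ∀ x ∈ P, x ∈ C 0 → apl δ x = x)
    (h : ∀ i < n, ∀ x ∈ P, x ∈ C (i + 1) → x⁻¹ * (a * x * a⁻¹) ∈ C i) : a ∈ P := by
  haveI := finite_of_le hc.1
  refine mem_of_normal_pGroup hc hr ha han (inf_le_left : F.autGroup P ⊓ chainStab C hmono n ≤ _)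
    (isPGroup_chainStab (hS.to_le hc.1) hmono htop hbot) ?_ fun γ hγ hx => ⟨hγ, ?_⟩
  · intro α hα γ hγ
    exact ⟨Subgroup.mul_mem _ (Subgroup.mul_mem _ hα hγ.1) (Subgroup.inv_mem _ hα),
      chainStab_conj (hinv α hα) hγ.2⟩
  · exact mem_chainStab.2 fun i hi x hxP hxC => hx x hxP ▸ h i hi x hxP hxC

theorem Iso.map_pResidual (hP : P ≤ S) [Finite P] {f : Ω → Ω} (hf : Iso F P Q f) {α : MulAut P}
    (hα : α ∈ (pResidual p (F.autGroup P)).map (F.autGroup P).subtype) :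
    hf.conjAut α ∈ (pResidual p (F.autGroup Q)).map (F.autGroup Q).subtype := by
  obtain ⟨⟨a, ha⟩, hres, rfl⟩ := Subgroup.mem_map.1 hα
  let e : F.autGroup P →* F.autGroup Q :=
    (hf.conjAut.toMonoidHom.comp (F.autGroup P).subtype).codRestrict _ fun x => hf.conjAut_mem x.2
  refine Subgroup.mem_map.2 ⟨e ⟨a, ha⟩, ?_, rfl⟩
  exact Cfsg.Agent.Fusion.map_pResidual_le e (Subgroup.mem_map_of_mem e hres)

section Saturated

variable [Fact p.Prime] [Finite S] (hS : IsPGroup p S) (hF : F.IsSaturated p)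
include hS hF

theorem autGroup_eq_residual_sup (hP : F.IsFullyNormalized P) :
    F.autGroup P = (pResidual p (F.autGroup P)).map (F.autGroup P).subtype ⊔ autInducedBy S P := by
  haveI := finite_of_le hP.1
  obtain ⟨-, T, hT⟩ := fullyAutomized_of_fullyNormalized hS hF hP
  have h := congrArg (Subgroup.map (F.autGroup P).subtype) (Cfsg.Agent.Fusion.sylow_sup_pResidual T)
  rw [Subgroup.map_sup, ← MonoidHom.range_eq_map, Subgroup.range_subtype, hT,
    Subgroup.map_subgroupOf_eq_of_le (autInducedBy_le_autGroup hP.1), sup_comm] at h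
  exact h.symm

theorem normalizerIn_eq_of_conj {s : Ω} (hinv : ∀ α ∈ F.autGroup S, (Q.subgroupOf S).map α.toMonoidHom = Q.subgroupOf S)
    (hQ : Q ≤ S) (hs : s ∈ S) : s ∈ normalizerIn S Q := by
  refine ⟨hs, Subgroup.mem_normalizer_iff.2 fun y => ⟨fun hy => ?_, fun hy => ?_⟩⟩
  · obtain ⟨α, hα, hαx⟩ := exists_mem_autInducedBy (P := S) hs (Subgroup.le_normalizer hs)
    rw [← hαx y (hQ hy)]
    exact (apl_mem_iff_of_invariant (hinv α (autInducedBy_le_autGroup le_rfl hα)) (hQ hy)).2 hy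
  · have hyS : y ∈ S := by
      have := S.mul_mem (S.mul_mem (S.inv_mem hs) (hQ hy)) hs
      simpa [mul_assoc] using this
    obtain ⟨α, hα, hαx⟩ := exists_mem_autInducedBy (P := S) hs (Subgroup.le_normalizer hs)
    rw [← hαx y hyS] at hy
    exact (apl_mem_iff_of_invariant (hinv α (autInducedBy_le_autGroup le_rfl hα)) hyS).1 hy

omit hS hF in
theorem le_of_normal_centric_radical (hS : IsPGroup p S) (hQ : F.IsNormal Q) (hc : F.IsCentric P)
    (hr : F.IsRadical p P) : Q ≤ P := by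
  obtain ⟨hQS, hext⟩ := isNormal_iff.1 hQ
  have hsc := stronglyClosed_of_isNormal hQ
  have hle : Q ⊓ Subgroup.normalizer (P : Set Ω) ≤ P := by
    rintro a ⟨haQ, han⟩
    refine mem_of_normal_pGroup hc hr (hQS haQ) han (Γ := autInducedBy Q P) ?_
      (isPGroup_autInducedBy (hS.to_le hQS)) ?_ ?_
    · exact (autInducedBy_mono hQS).trans (autInducedBy_le_autGroup hc.1)
    · intro α hα γ hγ
      obtain ⟨b, hb, hbn, hbx⟩ := mem_autInducedBy_iff.1 hγ
      obtain ⟨k, hk, hkα, hkQ⟩ := hext P _ (iso_apl hc.1 hα).1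
      have hPk : Iso F P P k := (iso_apl hc.1 hα).congr hkα
      refine mem_autInducedBy_iff.2 ⟨k b, (hkQ _).2 ⟨b, hb, rfl⟩, ?_, fun x hx => ?_⟩
      · exact (hk.mem_normalizerIn le_sup_left hPk (Subgroup.mem_sup_right hb) hbn).2
      · have hy : apl α⁻¹ x ∈ P := apl_mem _ hx
        have hby := (Subgroup.mem_normalizer_iff.1 hbn _).1 hy
        rw [apl_mul _ _ hx, apl_mul _ _ hy, hbx _ hy, ← hkα _ hby,
          hk.map_conj (Subgroup.mem_sup_right hb) (Subgroup.mem_sup_left hy), hkα _ hy,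
          apl_apl_inv _ hx]
    · exact fun γ _ hx => mem_autInducedBy_iff.2 ⟨a, haQ, han, hx⟩
  by_contra hne
  have hlt : P < P ⊔ Q := lt_of_le_of_ne le_sup_left fun h => hne (h ▸ le_sup_right)
  obtain ⟨c, ⟨hcPQ, hcn⟩, hcP⟩ :=
    SetLike.exists_of_lt (lt_inf_normalizer hS (sup_le hc.1 hQS) hlt)
  have hPn : P ≤ Subgroup.normalizer (Q : Set Ω) := hc.1.trans (StronglyClosed.le_normalizer hsc)
  have hcPQ' : c ∈ ((P ⊔ Q : Subgroup Ω) : Set Ω) := hcPQ
  rw [Subgroup.coe_mul_of_left_le_normalizer_right _ _ hPn] at hcPQ'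
  obtain ⟨x, hx, q, hq, rfl⟩ := hcPQ'
  have hqn : q ∈ Subgroup.normalizer (P : Set Ω) := by
    have := Subgroup.mul_mem _ (Subgroup.inv_mem _ (Subgroup.le_normalizer hx)) hcn
    rwa [inv_mul_cancel_left] at this
  exact hcP (P.mul_mem hx (hle ⟨hq, hqn⟩))

theorem isNormal_iff_essential :
    F.IsNormal Q ↔ ∀ P : Subgroup Ω, (P = S ∨ F.IsEssential p P) →
      (Q ≤ P ∧ ∀ α ∈ F.autGroup P, (Q.subgroupOf P).map α.toMonoidHom = Q.subgroupOf P) := by
  constructor
  · intro hQ P hP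
    refine ⟨?_, fun α hα => ?_⟩
    · rcases hP with rfl | hP
      · exact hQ.1
      · exact le_of_normal_centric_radical hS hQ hP.1 (essential_radical hS hF hP)
    · have hPS : P ≤ S := hP.elim (fun e => e.le) fun e => e.1.1
      exact invariant_of_apl fun x hx =>
        apl_invariant_of_stronglyClosed (stronglyClosed_of_isNormal hQ) hPS hα hx
  · intro h
    obtain ⟨hQS, hinv⟩ := h S (Or.inl rfl)
    have hN : normalizerIn S Q = S :=
      le_antisymm inf_le_left fun s hs => normalizerIn_eq_of_conj hS hF hinv hQS hs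
    have hM : SubRel F S (NRel F Q) := by
      have h1 := subRel_nRel (F := F) hQS
      rwa [hN] at h1
    refine isNormal_iff.2 ⟨hQS, fun P f hf => ?_⟩
    refine (alperin_induction hS hF hM (fun R hR α hα => ?_) P f hf).2.2
    have hRS : R ≤ S := hR.elim (fun e => e.le) fun e => e.1.1
    obtain ⟨hQR, hRinv⟩ := h R hR
    refine ⟨hN.symm ▸ hRS, fun x hx => hN.symm ▸ hRS (apl_mem α hx), apl α, ?_, fun _ _ => rfl,
      fun y => ⟨fun hy => ?_, ?_⟩⟩
    · rw [sup_eq_left.2 hQR]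
      exact (iso_apl hRS hα).1
    · exact ⟨apl α⁻¹ y, (apl_mem_iff_of_invariant (hRinv _ (Subgroup.inv_mem _ hα)) (hQR hy)).2 hy,
        apl_apl_inv α (hQR hy)⟩
    · rintro ⟨x, hx, rfl⟩
      exact (apl_mem_iff_of_invariant (hRinv α hα) (hQR hx)).2 hx

theorem isNormal_of_stronglyClosed_le (hQ : F.StronglyClosed Q)
    (h : ∀ P, F.IsCentric P → F.IsRadical p P → Q ≤ P) : F.IsNormal Q := by
  refine (isNormal_iff_essential hS hF).2 fun P hP => ⟨?_, fun α hα => ?_⟩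
  · rcases hP with rfl | hP
    · exact hQ.1
    · exact h P hP.1 (essential_radical hS hF hP)
  · have hPS : P ≤ S := hP.elim (fun e => e.le) fun e => e.1.1
    exact invariant_of_apl fun x hx => apl_invariant_of_stronglyClosed hQ hPS hα hx

/-- To show `Q ≤ P` it is enough to show that `N_Q(P) ≤ P`. -/
theorem le_of_normalizer_le (hQ : F.StronglyClosed Q) (hP : P ≤ S)
    (h : ∀ a ∈ Q, a ∈ Subgroup.normalizer (P : Set Ω) → a ∈ P) : Q ≤ P := by
  by_contra hne
  have hlt : P < P ⊔ Q := lt_of_le_of_ne le_sup_left fun h => hne (h ▸ le_sup_right)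
  obtain ⟨c, ⟨hcPQ, hcn⟩, hcP⟩ :=
    SetLike.exists_of_lt (lt_inf_normalizer hS (sup_le hP hQ.1) hlt)
  have hcPQ' : c ∈ ((P ⊔ Q : Subgroup Ω) : Set Ω) := hcPQ
  rw [Subgroup.coe_mul_of_left_le_normalizer_right _ _
    (hP.trans (StronglyClosed.le_normalizer hQ))] at hcPQ'
  obtain ⟨x, hx, q, hq, rfl⟩ := hcPQ'
  have hqn : q ∈ Subgroup.normalizer (P : Set Ω) := by
    have := Subgroup.mul_mem _ (Subgroup.inv_mem _ (Subgroup.le_normalizer hx)) hcn
    rwa [inv_mul_cancel_left] at this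
  exact hcP (P.mul_mem hx (h q hq hqn))

/-- A strongly closed subgroup with a suitable series is normal: a series `C 0 ≤ ... ≤ C n` inside
`Q`, each term invariant, centralized by `Q` modulo the previous one, on whose bottom the
`p'`-automorphisms act trivially. -/
theorem isNormal_of_series (hQ : F.StronglyClosed Q) {C : ℕ → Subgroup Ω} (hmono : Monotone C) {n : ℕ}
    (hn : C n = Q)
    (h : ∀ P, F.IsCentric P → F.IsRadical p P →
      (∀ α ∈ F.autGroup P, ∀ i ≤ n, ∀ x ∈ P, apl α x ∈ C i ↔ x ∈ C i) ∧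
      (∀ δ ∈ F.autGroup P, (orderOf δ).Coprime p → ∀ x ∈ P, x ∈ C 0 → apl δ x = x))
    (hcomm : ∀ i < n, ∀ a ∈ Q, ∀ x ∈ C (i + 1), x⁻¹ * (a * x * a⁻¹) ∈ C i) :
    F.IsNormal Q := by
  refine isNormal_of_stronglyClosed_le hS hF hQ fun P hc hr => ?_
  refine le_of_normalizer_le hS hF hQ hc.1 fun a haQ han => ?_
  obtain ⟨hinv, hbot⟩ := h P hc hr
  let D : ℕ → Subgroup Ω := fun i => if i ≤ n then C i else S
  have hD : ∀ i, i ≤ n → D i = C i := fun i hi => if_pos hi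
  have hD' : ∀ i, n < i → D i = S := fun i hi => if_neg (by omega)
  have hmonoD : Monotone D := monotone_nat_of_le_succ fun i => by
    rcases Nat.lt_or_ge n (i + 1) with h1 | h1
    · rw [hD' _ h1]
      rcases Nat.lt_or_ge n i with h2 | h2
      · rw [hD' _ h2]
      · rw [hD _ h2]
        exact (hmono h2).trans (hn.le.trans hQ.1)
    · rw [hD _ h1, hD _ (by omega)]
      exact hmono (Nat.le_succ i)
  refine mem_of_chain hS hc hr (hQ.1 haQ) han hmonoD (n := n + 1)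
    (by rw [hD' _ (Nat.lt_succ_self n)]; exact hc.1) ?_ ?_ ?_
  · intro α hα i hi x hx
    rcases Nat.lt_or_ge n i with h1 | h1
    · rw [hD' _ h1]
      exact iff_of_true (hc.1 (apl_mem α hx)) (hc.1 hx)
    · rw [hD _ h1]
      exact hinv α hα i h1 x hx
  · rw [hD 0 (Nat.zero_le n)]
    exact hbot
  · intro i hi x hx hxD
    rcases Nat.lt_or_ge n (i + 1) with h1 | h1
    · rw [hD i (by omega), show i = n by omega, hn]
      have := StronglyClosed.le_normalizer hQ (hc.1 hx)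
      have e : x⁻¹ * (a * x * a⁻¹) = x⁻¹ * a * x * a⁻¹ := by group
      rw [e]
      refine Q.mul_mem ?_ (Q.inv_mem haQ)
      have h2 := (Subgroup.mem_normalizer_iff''.1 this a).1 haQ
      exact h2
    · rw [hD _ h1] at hxD
      rw [hD i (by omega)]
      exact hcomm i (by omega) a haQ x hxD

theorem isCentral_iff_singleton :
    F.IsCentral Q ↔ (Q ≤ S ∧ ∀ x ∈ Q, ∀ y : Ω, F.IsConjElt x y → y = x) := by
  constructor
  · intro hQ
    refine ⟨hQ.1, fun x hx y ⟨φ, hφ, hφx⟩ => ?_⟩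
    obtain ⟨g, hg, hgφ, hgQ⟩ := (isCentral_iff.1 hQ).2 _ _ (mor_extendFn hφ)
    rw [← hφx, ← extendFn_apply φ (Subgroup.mem_zpowers x), ← hgφ x (Subgroup.mem_zpowers x), hgQ x hx]
  · rintro ⟨hQS, h⟩
    have hfix : ∀ P f, Mor F P f → ∀ x ∈ P, x ∈ Q → f x = x := by
      intro P f hf x hx hxQ
      obtain ⟨φ, hφ, hφf⟩ := hf.mono ((Subgroup.zpowers_le).2 hx)
      exact h x hxQ (f x) ⟨φ, hφ, hφf ⟨x, Subgroup.mem_zpowers x⟩⟩
    have hC : centralizerIn S Q = S := le_antisymm inf_le_left fun s hs =>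
      ⟨hs, Subgroup.mem_centralizer_iff.2 fun x hx => by
        have := hfix S _ (mor_conj le_rfl hs) x (hQS hx) hx
        calc x * s = s * x * s⁻¹ * s := by rw [this]
          _ = s * x := by group⟩
    have hM : SubRel F S (CRel F Q) := by
      have h1 := subRel_cRel (F := F) hQS
      rwa [hC] at h1
    refine isCentral_iff.2 ⟨hQS, fun P f hf => ?_⟩
    refine (alperin_induction hS hF hM (fun R hR α hα => ?_) P f hf).2.2
    have hRS : R ≤ S := hR.elim (fun e => e.le) fun e => e.1.1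
    have hQR : Q ≤ R := by
      rcases hR with rfl | hR
      · exact hQS
      · intro x hx
        refine centric_self hR.1 ⟨hQS hx, Subgroup.mem_centralizer_iff.2 fun y hy => ?_⟩
        exact (Subgroup.mem_centralizer_iff.1 (hC.ge (hRS hy)).2 x hx).symm
    refine ⟨hC.symm ▸ hRS, fun x hx => hC.symm ▸ hRS (apl_mem α hx), apl α, ?_, fun _ _ => rfl, ?_⟩
    · rw [sup_eq_left.2 hQR]
      exact (iso_apl hRS hα).1
    · exact fun x hx => hfix R _ (iso_apl hRS hα).1 x (hQR hx) hx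

end Saturated

end Cfsg.Agent.FusSys
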