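import Cfsg.Agent.FusSys.Extender

/-!
Normal, central and strongly closed subgroups; `core` and `center`; subsystem constructor;
normalizer and centralizer systems.
-/

set_option autoImplicit false

namespace Cfsg.Agent.FusSys

open Cfsg Cfsg.FusionSystem

variable {Ω : Type*} [Group Ω] {S : Subgroup Ω}
variable {F : FusionSystem S} {P Q R U : Subgroup Ω} {f g : Ω → Ω}

theorem Mor.mem_of_sup {A B : Subgroup Ω} (hg : Mor F (A ⊔ B) g) (hA : ∀ x ∈ A, g x ∈ R)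
    (hB : ∀ x ∈ B, g x ∈ R) {x : Ω} (hx : x ∈ A ⊔ B) : g x ∈ R := by
  obtain ⟨φ, -, hφ⟩ := hg
  have hle : A ⊔ B ≤ (R.comap φ).map (A ⊔ B).subtype :=
    sup_le (fun a ha => ⟨⟨a, le_sup_left (b := B) ha⟩, by
        show φ _ ∈ R
        rw [hφ]
        exact hA a ha, rfl⟩)
      fun a ha => ⟨⟨a, le_sup_right (a := A) ha⟩, by
        show φ _ ∈ R
        rw [hφ]
        exact hB a ha, rfl⟩
  obtain ⟨y, hy, rfl⟩ := hle hx
  have h1 : φ y ∈ R := hy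
  rwa [hφ] at h1

theorem Mor.eqOn_sup {A B : Subgroup Ω} (hf : Mor F (A ⊔ B) f) (hg : Mor F (A ⊔ B) g)
    (hA : ∀ x ∈ A, f x = g x) (hB : ∀ x ∈ B, f x = g x) {x : Ω} (hx : x ∈ A ⊔ B) :
    f x = g x := by
  obtain ⟨φ, -, hφ⟩ := hf
  obtain ⟨ψ, -, hψ⟩ := hg
  have hle : A ⊔ B ≤ (φ.eqLocus ψ).map (A ⊔ B).subtype :=
    sup_le (fun a ha => ⟨⟨a, le_sup_left (b := B) ha⟩, by
        show φ _ = ψ _
        rw [hφ, hψ]
        exact hA a ha, rfl⟩)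
      fun a ha => ⟨⟨a, le_sup_right (a := A) ha⟩, by
        show φ _ = ψ _
        rw [hφ, hψ]
        exact hB a ha, rfl⟩
  obtain ⟨y, hy, rfl⟩ := hle hx
  have h1 : φ y = ψ y := hy
  rwa [hφ, hψ] at h1

/-! ### Normal subgroups of the system -/

theorem map_subgroupOf_eq_iff {A : Subgroup Ω} (hQA : Q ≤ A) {ψ : A →* Ω} (hψ : ∀ x : A, ψ x = g x) :
    (Q.subgroupOf A).map ψ = Q ↔ ∀ y, y ∈ Q ↔ ∃ x ∈ Q, g x = y := by
  rw [SetLike.ext_iff]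
  refine forall_congr' fun y => ?_
  rw [Subgroup.mem_map]
  constructor
  · intro h
    rw [← h]
    exact ⟨fun ⟨x, hx, hxy⟩ => ⟨x, hx, (hψ x).symm.trans hxy⟩,
      fun ⟨x, hx, hxy⟩ => ⟨⟨x, hQA hx⟩, hx, (hψ _).trans hxy⟩⟩
  · intro h
    rw [h]
    exact ⟨fun ⟨x, hx, hxy⟩ => ⟨x, hx, (hψ x).symm.trans hxy⟩,
      fun ⟨x, hx, hxy⟩ => ⟨⟨x, hQA hx⟩, hx, (hψ _).trans hxy⟩⟩

theorem isNormal_iff :
    F.IsNormal Q ↔ Q ≤ S ∧ ∀ P f, Mor F P f →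
      ∃ g, Mor F (P ⊔ Q) g ∧ (∀ x ∈ P, g x = f x) ∧ ∀ y, y ∈ Q ↔ ∃ x ∈ Q, g x = y := by
  constructor
  · rintro ⟨hQ, h⟩
    refine ⟨hQ, fun P f hf => ?_⟩
    obtain ⟨φ, hφ, hφf⟩ := hf
    obtain ⟨ψ, hψ, hψφ, hψQ⟩ := h P φ hφ
    refine ⟨extendFn ψ, mor_extendFn hψ, fun x hx => ?_,
      (map_subgroupOf_eq_iff le_sup_right fun x => (extendFn_coe ψ x).symm).1 hψQ⟩
    rw [extendFn_apply ψ (le_sup_left (b := Q) hx)]
    exact (hψφ ⟨x, hx⟩).trans (hφf ⟨x, hx⟩)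
  · rintro ⟨hQ, h⟩
    refine ⟨hQ, fun P φ hφ => ?_⟩
    obtain ⟨g, ⟨ψ, hψ, hψg⟩, hgφ, hgQ⟩ := h P _ (mor_extendFn hφ)
    exact ⟨ψ, hψ, fun x => (hψg _).trans ((hgφ x x.2).trans (extendFn_coe φ x)),
      (map_subgroupOf_eq_iff le_sup_right hψg).2 hgQ⟩

theorem isCentral_iff :
    F.IsCentral Q ↔ Q ≤ S ∧ ∀ P f, Mor F P f →
      ∃ g, Mor F (P ⊔ Q) g ∧ (∀ x ∈ P, g x = f x) ∧ ∀ x ∈ Q, g x = x := by
  constructor
  · rintro ⟨hQ, h⟩
    refine ⟨hQ, fun P f hf => ?_⟩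
    obtain ⟨φ, hφ, hφf⟩ := hf
    obtain ⟨ψ, hψ, hψφ, hψQ⟩ := h P φ hφ
    refine ⟨extendFn ψ, mor_extendFn hψ, fun x hx => ?_, fun x hx => ?_⟩
    · rw [extendFn_apply ψ (le_sup_left (b := Q) hx)]
      exact (hψφ ⟨x, hx⟩).trans (hφf ⟨x, hx⟩)
    · rw [extendFn_apply ψ (le_sup_right (a := P) hx)]
      exact hψQ ⟨x, hx⟩
  · rintro ⟨hQ, h⟩
    refine ⟨hQ, fun P φ hφ => ?_⟩
    obtain ⟨g, ⟨ψ, hψ, hψg⟩, hgφ, hgQ⟩ := h P _ (mor_extendFn hφ)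
    exact ⟨ψ, hψ, fun x => (hψg _).trans ((hgφ x x.2).trans (extendFn_coe φ x)),
      fun x => (hψg _).trans (hgQ x x.2)⟩

theorem isCentral_isNormal (h : F.IsCentral Q) : F.IsNormal Q := by
  obtain ⟨hQ, h⟩ := isCentral_iff.1 h
  refine isNormal_iff.2 ⟨hQ, fun P f hf => ?_⟩
  obtain ⟨g, hg, hgf, hgQ⟩ := h P f hf
  exact ⟨g, hg, hgf, fun y => ⟨fun hy => ⟨y, hy, hgQ y hy⟩, fun ⟨x, hx, hxy⟩ => by
    rw [← hxy, hgQ x hx]; exact hx⟩⟩

theorem isNormal_bot : F.IsNormal (⊥ : Subgroup Ω) :=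
  isNormal_iff.2 ⟨bot_le, fun P f hf => ⟨f, (sup_bot_eq P).symm ▸ hf, fun _ _ => rfl, fun y => by
    simp [Subgroup.mem_bot, hf.map_one, eq_comm]⟩⟩

theorem isCentral_bot : F.IsCentral (⊥ : Subgroup Ω) :=
  isCentral_iff.2 ⟨bot_le, fun P f hf => ⟨f, (sup_bot_eq P).symm ▸ hf, fun _ _ => rfl, fun x hx => by
    rw [Subgroup.mem_bot.1 hx, hf.map_one]⟩⟩

theorem isNormal_sup (hQ : F.IsNormal Q) (hR : F.IsNormal R) : F.IsNormal (Q ⊔ R) := by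
  rw [isNormal_iff] at hQ hR ⊢
  refine ⟨sup_le hQ.1 hR.1, fun P f hf => ?_⟩
  obtain ⟨g, hg, hgf, hgQ⟩ := hQ.2 P f hf
  obtain ⟨k, hk, hkg, hkR⟩ := hR.2 _ g hg
  have hk' : Mor F (P ⊔ (Q ⊔ R)) k := sup_assoc P Q R ▸ hk
  have hkQ : ∀ y, y ∈ Q ↔ ∃ x ∈ Q, k x = y := fun y => by
    rw [hgQ y]
    exact ⟨fun ⟨x, hx, hxy⟩ => ⟨x, hx, (hkg x (le_sup_right (a := P) hx)).trans hxy⟩,
      fun ⟨x, hx, hxy⟩ => ⟨x, hx, (hkg x (le_sup_right (a := P) hx)).symm.trans hxy⟩⟩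
  obtain ⟨I, hI⟩ := (hk'.mono le_sup_right).exists_iso
  have hI' : Q ⊔ R ≤ I := sup_le
    (fun y hy => by
      obtain ⟨x, hx, rfl⟩ := (hkQ y).1 hy
      exact hI.mem (le_sup_left (b := R) hx))
    (fun y hy => by
      obtain ⟨x, hx, rfl⟩ := (hkR y).1 hy
      exact hI.mem (le_sup_right (a := Q) hx))
  refine ⟨k, hk', fun x hx => (hkg x (le_sup_left (b := Q) hx)).trans (hgf x hx),
    fun y => ⟨fun hy => hI.exists_eq (hI' hy), ?_⟩⟩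
  rintro ⟨x, hx, rfl⟩
  exact (hk'.mono le_sup_right).mem_of_sup
    (fun a ha => Subgroup.mem_sup_left ((hkQ _).2 ⟨a, ha, rfl⟩))
    (fun a ha => Subgroup.mem_sup_right ((hkR _).2 ⟨a, ha, rfl⟩)) hx

theorem isCentral_sup (hQ : F.IsCentral Q) (hR : F.IsCentral R) : F.IsCentral (Q ⊔ R) := by
  rw [isCentral_iff] at hQ hR ⊢
  refine ⟨sup_le hQ.1 hR.1, fun P f hf => ?_⟩
  obtain ⟨g, hg, hgf, hgQ⟩ := hQ.2 P f hf
  obtain ⟨k, hk, hkg, hkR⟩ := hR.2 _ g hg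
  have hk' : Mor F (P ⊔ (Q ⊔ R)) k := sup_assoc P Q R ▸ hk
  refine ⟨k, hk', fun x hx => (hkg x (le_sup_left (b := Q) hx)).trans (hgf x hx), fun x hx => ?_⟩
  exact (hk'.mono le_sup_right).eqOn_sup (g := id) (mor_id (sup_le hQ.1 hR.1))
    (fun a ha => (hkg a (le_sup_right (a := P) ha)).trans (hgQ a ha)) hkR hx

theorem finite_subgroups_le [Finite S] (M : Subgroup Ω → Prop) (h : ∀ Q, M Q → Q ≤ S) :
    {Q : Subgroup Ω | M Q}.Finite := by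
  refine (Set.toFinite ((fun T : Subgroup S => T.map S.subtype) '' Set.univ)).subset ?_
  intro Q hQ
  exact ⟨Q.subgroupOf S, trivial, Subgroup.map_subgroupOf_eq_of_le (h Q hQ)⟩

theorem sSup_closed_of_finite {α : Type*} [CompleteLattice α] {M : α → Prop} {s : Set α}
    (hs : s.Finite) (hM : ∀ x ∈ s, M x) (hbot : M ⊥) (hsup : ∀ x y, M x → M y → M (x ⊔ y)) :
    M (sSup s) := by
  induction s, hs using Set.Finite.induction_on with
  | empty => rwa [sSup_empty]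
  | @insert a s _ _ ih =>
    rw [sSup_insert]
    exact hsup _ _ (hM a (Set.mem_insert a s)) (ih fun x hx => hM x (Set.mem_insert_of_mem a hx))

theorem isNormal_core [Finite S] : F.IsNormal F.core :=
  sSup_closed_of_finite (finite_subgroups_le _ fun _ h => h.1) (fun _ h => h) isNormal_bot
    fun _ _ => isNormal_sup

theorem isCentral_center [Finite S] : F.IsCentral F.center :=
  sSup_closed_of_finite (finite_subgroups_le _ fun _ h => h.1) (fun _ h => h) isCentral_bot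
    fun _ _ => isCentral_sup

theorem le_core (h : F.IsNormal Q) : Q ≤ F.core := le_sSup h

theorem le_center (h : F.IsCentral Q) : Q ≤ F.center := le_sSup h

theorem stronglyClosed_iff :
    F.StronglyClosed Q ↔ Q ≤ S ∧ ∀ R f, R ≤ Q → Mor F R f → ∀ x ∈ R, f x ∈ Q := by
  constructor
  · rintro ⟨hQ, h⟩
    refine ⟨hQ, fun R f hR hf x hx => ?_⟩
    obtain ⟨φ, hφ, hφf⟩ := hf
    exact hφf ⟨x, hx⟩ ▸ h R hR φ hφ ⟨x, hx⟩
  · rintro ⟨hQ, h⟩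
    refine ⟨hQ, fun R hR φ hφ x => ?_⟩
    exact extendFn_coe φ x ▸ h R _ hR (mor_extendFn hφ) x x.2

/-- A strongly closed subgroup is invariant under all maps defined anywhere. -/
theorem StronglyClosed.mor_mem (hQ : F.StronglyClosed Q) (hf : Mor F P f) {x : Ω} (hx : x ∈ P)
    (hxQ : x ∈ Q) : f x ∈ Q :=
  (stronglyClosed_iff.1 hQ).2 (P ⊓ Q) f inf_le_right (hf.mono inf_le_left) x ⟨hx, hxQ⟩

theorem stronglyClosed_of_isNormal (hQ : F.IsNormal Q) : F.StronglyClosed Q := by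
  obtain ⟨hQS, h⟩ := isNormal_iff.1 hQ
  refine stronglyClosed_iff.2 ⟨hQS, fun R f hR hf x hx => ?_⟩
  obtain ⟨g, -, hgf, hgQ⟩ := h R f hf
  rw [← hgf x hx]
  exact (hgQ _).2 ⟨x, hR hx, rfl⟩

theorem isStronglyClosed_normal (hQ : F.StronglyClosed Q) {s x : Ω} (hs : s ∈ S) (hx : x ∈ Q) :
    s * x * s⁻¹ ∈ Q :=
  StronglyClosed.mor_mem hQ (mor_conj (F := F) hQ.1 hs) hx hx

theorem StronglyClosed.le_normalizer (hQ : F.StronglyClosed Q) :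
    S ≤ Subgroup.normalizer (Q : Set Ω) :=
  Subgroup.le_normalizer_iff.2 fun _ hs _ hx => isStronglyClosed_normal hQ hs hx

theorem StronglyClosed.iso_self [Finite S] (hQ : F.StronglyClosed Q) (hf : Mor F P f)
    (hle : Q ≤ P) : Iso F Q Q f := by
  refine ⟨hf.mono hle, fun y => ⟨fun hy => ?_, fun ⟨x, hx, hxy⟩ =>
    hxy ▸ StronglyClosed.mor_mem hQ hf (hle hx) hx⟩⟩
  exact (hf.mono hle).surj_of_card hQ.1
    (fun x hx => StronglyClosed.mor_mem hQ hf (hle hx) hx) le_rfl hy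

theorem isNormal_of_characteristic (hQ : F.IsNormal Q) (hUQ : U ≤ Q)
    (hU : (U.subgroupOf Q).Characteristic) : F.IsNormal U := by
  obtain ⟨hQS, h⟩ := isNormal_iff.1 hQ
  refine isNormal_iff.2 ⟨hUQ.trans hQS, fun P f hf => ?_⟩
  obtain ⟨g, hg, hgf, hgQ⟩ := h P f hf
  have hi : Iso F Q Q g := ⟨hg.mono le_sup_right, hgQ⟩
  obtain ⟨α, hα⟩ := hi.exists_aut
  refine ⟨g, hg.mono (sup_le_sup_left hUQ P), hgf, fun y => ⟨fun hy => ?_, ?_⟩⟩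
  · have h1 : (⟨y, hUQ hy⟩ : Q) ∈ (U.subgroupOf Q).map α.toMonoidHom := by
      rw [Subgroup.characteristic_iff_map_eq.1 hU α]
      exact hy
    obtain ⟨x, hx, hxy⟩ := Subgroup.mem_map.1 h1
    refine ⟨x, hx, ?_⟩
    rw [← hα x x.2, apl_coe]
    exact congrArg Subtype.val hxy
  · rintro ⟨x, hx, rfl⟩
    have h1 : α ⟨x, hUQ hx⟩ ∈ U.subgroupOf Q := by
      rw [← Subgroup.characteristic_iff_map_eq.1 hU α]
      exact Subgroup.mem_map.2 ⟨⟨x, hUQ hx⟩, hx, rfl⟩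
    rw [← hα x (hUQ hx), apl_apply _ (hUQ hx)]
    exact h1

/-! ### Subsystems cut out by a predicate -/

/-- Hypotheses under which a predicate on maps of `F` cuts out a fusion system over `T`. -/
structure SubRel (F : FusionSystem S) (T : Subgroup Ω) (M : Subgroup Ω → (Ω → Ω) → Prop) :
    Prop where
  congr : ∀ {P f g}, M P f → (∀ x ∈ P, g x = f x) → M P g
  le : ∀ {P f}, M P f → P ≤ T ∧ ∀ x ∈ P, f x ∈ T
  conj : ∀ {P} {s : Ω}, P ≤ T → s ∈ T → Mor F P (fun x => s * x * s⁻¹) ∧ M P (fun x => s * x * s⁻¹)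
  comp : ∀ {P Q f g}, Mor F P f → M P f → Mor F Q g → M Q g → (∀ x ∈ P, f x ∈ Q) → M P (g ∘ f)
  inv : ∀ {P Q f g}, Iso F P Q f → M P f → Iso F Q P g → (∀ x ∈ P, g (f x) = x) → M Q g

/-- The fusion system cut out by a predicate. -/
def subSys {T : Subgroup Ω} {M : Subgroup Ω → (Ω → Ω) → Prop} (hM : SubRel F T M) :
    FusionSystem T where
  Hom P := {φ | φ ∈ F.Hom P ∧ M P (extendFn φ)}
  le_of_mem h := ⟨(hM.le h.2).1, fun x => extendFn_coe _ x ▸ (hM.le h.2).2 x x.2⟩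
  injective_of_mem h := F.injective_of_mem h.1
  conj_mem := by
    intro P s hP hs
    obtain ⟨h1, h2⟩ := hM.conj hP hs
    have h3 : ∀ x ∈ P, extendFn (conjHom P s) x = s * x * s⁻¹ := fun x hx => by
      rw [extendFn_apply _ hx]; rfl
    exact ⟨h1.hom_eq (by intro x; rfl), hM.congr h2 h3⟩
  comp_mem := by
    intro P Q φ ψ hφ hψ h
    refine ⟨F.comp_mem hφ.1 hψ.1 h, hM.congr (hM.comp (mor_extendFn hφ.1) hφ.2
      (mor_extendFn hψ.1) hψ.2 (fun x hx => extendFn_apply φ hx ▸ h ⟨x, hx⟩)) fun x hx => ?_⟩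
    rw [extendFn_apply _ hx, Function.comp_apply, extendFn_apply φ hx,
      extendFn_apply ψ (h ⟨x, hx⟩)]
    rfl
  inv_mem := by
    intro P φ hφ
    obtain ⟨g, hg, hgf, -⟩ := (iso_extendFn hφ.1).symm
    obtain ⟨ψ, hψ, hψg⟩ := hg.1
    refine ⟨ψ, ⟨hψ, hM.congr (hM.inv (iso_extendFn hφ.1) hφ.2 hg hgf) fun y hy => ?_⟩, fun x => ?_⟩
    · rw [extendFn_apply ψ hy, hψg]
    · rw [hψg]
      show g (φ x) = x
      rw [← extendFn_coe φ x]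
      exact hgf x x.2

theorem mor_subSys {T : Subgroup Ω} {M : Subgroup Ω → (Ω → Ω) → Prop} (hM : SubRel F T M) :
    Mor (subSys hM) P f ↔ Mor F P f ∧ M P f := by
  constructor
  · rintro ⟨φ, hφ, hφf⟩
    exact ⟨⟨φ, hφ.1, hφf⟩, hM.congr hφ.2 fun x hx => by
      rw [extendFn_apply φ hx]; exact (hφf ⟨x, hx⟩).symm⟩
  · rintro ⟨⟨φ, hφ, hφf⟩, hMf⟩
    exact ⟨φ, ⟨hφ, hM.congr hMf fun x hx => by
      rw [extendFn_apply φ hx]; exact hφf ⟨x, hx⟩⟩, hφf⟩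

/-- The condition defining maps of `N_F(Q)`. -/
def NRel (F : FusionSystem S) (Q P : Subgroup Ω) (f : Ω → Ω) : Prop :=
  P ≤ normalizerIn S Q ∧ (∀ x ∈ P, f x ∈ normalizerIn S Q) ∧
    ∃ g, Mor F (P ⊔ Q) g ∧ (∀ x ∈ P, g x = f x) ∧ ∀ y, y ∈ Q ↔ ∃ x ∈ Q, g x = y

/-- The condition defining maps of `C_F(Q)`. -/
def CRel (F : FusionSystem S) (Q P : Subgroup Ω) (f : Ω → Ω) : Prop :=
  P ≤ centralizerIn S Q ∧ (∀ x ∈ P, f x ∈ centralizerIn S Q) ∧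
    ∃ g, Mor F (P ⊔ Q) g ∧ (∀ x ∈ P, g x = f x) ∧ ∀ x ∈ Q, g x = x

theorem mem_normalizerHom_iff {φ : P →* Ω} :
    φ ∈ F.normalizerHom Q P ↔ φ ∈ F.Hom P ∧ NRel F Q P (extendFn φ) := by
  constructor
  · rintro ⟨h1, h2, h3, ψ, hψ, hψφ, hψQ⟩
    refine ⟨h1, h2, fun x hx => extendFn_apply φ hx ▸ h3 ⟨x, hx⟩, extendFn ψ, mor_extendFn hψ,
      fun x hx => ?_,
      (map_subgroupOf_eq_iff le_sup_right fun x => (extendFn_coe ψ x).symm).1 hψQ⟩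
    rw [extendFn_apply φ hx, extendFn_apply ψ (le_sup_left (b := Q) hx)]
    exact hψφ ⟨x, hx⟩
  · rintro ⟨h1, h2, h3, g, ⟨ψ, hψ, hψg⟩, hgφ, hgQ⟩
    exact ⟨h1, h2, fun x => extendFn_coe φ x ▸ h3 x x.2, ψ, hψ,
      fun x => (hψg _).trans ((hgφ x x.2).trans (extendFn_coe φ x)),
      (map_subgroupOf_eq_iff le_sup_right hψg).2 hgQ⟩

theorem mem_centralizerHom_iff {φ : P →* Ω} :
    φ ∈ F.centralizerHom Q P ↔ φ ∈ F.Hom P ∧ CRel F Q P (extendFn φ) := by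
  constructor
  · rintro ⟨h1, h2, h3, ψ, hψ, hψφ, hψQ⟩
    refine ⟨h1, h2, fun x hx => extendFn_apply φ hx ▸ h3 ⟨x, hx⟩, extendFn ψ, mor_extendFn hψ,
      fun x hx => ?_, fun x hx => ?_⟩
    · rw [extendFn_apply φ hx, extendFn_apply ψ (le_sup_left (b := Q) hx)]
      exact hψφ ⟨x, hx⟩
    · rw [extendFn_apply ψ (le_sup_right (a := P) hx)]
      exact hψQ ⟨x, hx⟩
  · rintro ⟨h1, h2, h3, g, ⟨ψ, hψ, hψg⟩, hgφ, hgQ⟩
    exact ⟨h1, h2, fun x => extendFn_coe φ x ▸ h3 x x.2, ψ, hψ,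
      fun x => (hψg _).trans ((hgφ x x.2).trans (extendFn_coe φ x)),
      fun x => (hψg _).trans (hgQ x x.2)⟩

theorem subRel_nRel (hQ : Q ≤ S) : SubRel F (normalizerIn S Q) (NRel F Q) where
  congr := by
    rintro P f g ⟨h1, h2, k, hk, hkf, hkQ⟩ he
    exact ⟨h1, fun x hx => he x hx ▸ h2 x hx, k, hk, fun x hx => (hkf x hx).trans (he x hx).symm, hkQ⟩
  le h := ⟨h.1, h.2.1⟩
  conj := by
    intro P s hP hs
    have hsup : P ⊔ Q ≤ S := sup_le (hP.trans inf_le_left) hQ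
    refine ⟨mor_conj (hP.trans inf_le_left) hs.1, hP, fun x hx =>
      Subgroup.mul_mem _ (Subgroup.mul_mem _ hs (hP hx)) (Subgroup.inv_mem _ hs),
      _, mor_conj hsup hs.1, fun _ _ => rfl, ?_⟩
    exact (iso_conj_self (F := F) hQ hs.1 hs.2).2
  comp := by
    rintro P R f g - ⟨h1, h2, k, hk, hkf, hkQ⟩ - ⟨-, h2', l, hl, hlg, hlQ⟩ hfR
    have hm : ∀ x ∈ P ⊔ Q, k x ∈ R ⊔ Q := fun x hx => hk.mem_of_sup
      (fun a ha => Subgroup.mem_sup_left ((hkf a ha).symm ▸ hfR a ha))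
      (fun a ha => Subgroup.mem_sup_right ((hkQ _).2 ⟨a, ha, rfl⟩)) hx
    refine ⟨h1, fun x hx => h2' _ (hfR x hx), l ∘ k, hk.comp hl hm, fun x hx => ?_, fun y => ?_⟩
    · show l (k x) = g (f x)
      rw [hkf x hx, hlg _ (hfR x hx)]
    · rw [hlQ y]
      constructor
      · rintro ⟨z, hz, rfl⟩
        obtain ⟨x, hx, rfl⟩ := (hkQ z).1 hz
        exact ⟨x, hx, rfl⟩
      · rintro ⟨x, hx, rfl⟩
        exact ⟨k x, (hkQ _).2 ⟨x, hx, rfl⟩, rfl⟩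
  inv := by
    rintro P R f g hf ⟨h1, h2, k, hk, hkf, hkQ⟩ hg hgf
    have hR : R ≤ normalizerIn S Q := fun y hy => by
      obtain ⟨x, hx, rfl⟩ := hf.exists_eq hy
      exact h2 x hx
    obtain ⟨I, hI⟩ := hk.exists_iso
    obtain ⟨k', hk', hk'k, -⟩ := hI.symm
    have hle : R ⊔ Q ≤ I := sup_le
      (fun y hy => by
        obtain ⟨x, hx, rfl⟩ := hf.exists_eq hy
        rw [← hkf x hx]
        exact hI.mem (le_sup_left (b := Q) hx))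
      fun y hy => by
        obtain ⟨x, hx, rfl⟩ := (hkQ y).1 hy
        exact hI.mem (le_sup_right (a := P) hx)
    refine ⟨hR, fun y hy => h1 (hg.mem hy), k', hk'.1.mono hle, fun y hy => ?_, fun y => ⟨fun hy => ?_, ?_⟩⟩
    · obtain ⟨x, hx, rfl⟩ := hf.exists_eq hy
      rw [hgf x hx, ← hkf x hx]
      exact hk'k x (le_sup_left (b := Q) hx)
    · exact ⟨k y, (hkQ _).2 ⟨y, hy, rfl⟩, hk'k y (le_sup_right (a := P) hy)⟩
    · rintro ⟨x, hx, rfl⟩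
      obtain ⟨z, hz, rfl⟩ := (hkQ x).1 hx
      rw [hk'k z (le_sup_right (a := P) hz)]
      exact hz

theorem subRel_cRel (hQ : Q ≤ S) : SubRel F (centralizerIn S Q) (CRel F Q) where
  congr := by
    rintro P f g ⟨h1, h2, k, hk, hkf, hkQ⟩ he
    exact ⟨h1, fun x hx => he x hx ▸ h2 x hx, k, hk, fun x hx => (hkf x hx).trans (he x hx).symm, hkQ⟩
  le h := ⟨h.1, h.2.1⟩
  conj := by
    intro P s hP hs
    have hsup : P ⊔ Q ≤ S := sup_le (hP.trans inf_le_left) hQ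
    refine ⟨mor_conj (hP.trans inf_le_left) hs.1, hP, fun x hx =>
      Subgroup.mul_mem _ (Subgroup.mul_mem _ hs (hP hx)) (Subgroup.inv_mem _ hs),
      _, mor_conj hsup hs.1, fun _ _ => rfl, fun x hx => ?_⟩
    show s * x * s⁻¹ = x
    rw [← Subgroup.mem_centralizer_iff.1 hs.2 x hx]
    group
  comp := by
    rintro P R f g - ⟨h1, h2, k, hk, hkf, hkQ⟩ - ⟨-, h2', l, hl, hlg, hlQ⟩ hfR
    have hm : ∀ x ∈ P ⊔ Q, k x ∈ R ⊔ Q := fun x hx => hk.mem_of_sup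
      (fun a ha => Subgroup.mem_sup_left ((hkf a ha).symm ▸ hfR a ha))
      (fun a ha => Subgroup.mem_sup_right ((hkQ a ha).symm ▸ ha)) hx
    refine ⟨h1, fun x hx => h2' _ (hfR x hx), l ∘ k, hk.comp hl hm, fun x hx => ?_, fun x hx => ?_⟩
    · show l (k x) = g (f x)
      rw [hkf x hx, hlg _ (hfR x hx)]
    · show l (k x) = x
      rw [hkQ x hx, hlQ x hx]
  inv := by
    rintro P R f g hf ⟨h1, h2, k, hk, hkf, hkQ⟩ hg hgf
    have hR : R ≤ centralizerIn S Q := fun y hy => by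
      obtain ⟨x, hx, rfl⟩ := hf.exists_eq hy
      exact h2 x hx
    obtain ⟨I, hI⟩ := hk.exists_iso
    obtain ⟨k', hk', hk'k, -⟩ := hI.symm
    have hle : R ⊔ Q ≤ I := sup_le
      (fun y hy => by
        obtain ⟨x, hx, rfl⟩ := hf.exists_eq hy
        rw [← hkf x hx]
        exact hI.mem (le_sup_left (b := Q) hx))
      fun y hy => by
        rw [← hkQ y hy]
        exact hI.mem (le_sup_right (a := P) hy)
    refine ⟨hR, fun y hy => h1 (hg.mem hy), k', hk'.1.mono hle, fun y hy => ?_, fun x hx => ?_⟩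
    · obtain ⟨x, hx, rfl⟩ := hf.exists_eq hy
      rw [hgf x hx, ← hkf x hx]
      exact hk'k x (le_sup_left (b := Q) hx)
    · have h3 := hk'k x (le_sup_right (a := P) hx)
      rwa [hkQ x hx] at h3

/-- `N_F(Q)`. -/
def normalizerSys (F : FusionSystem S) (hQ : Q ≤ S) : FusionSystem (normalizerIn S Q) :=
  subSys (subRel_nRel (F := F) hQ)

/-- `C_F(Q)`. -/
def centralizerSys (F : FusionSystem S) (hQ : Q ≤ S) : FusionSystem (centralizerIn S Q) :=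
  subSys (subRel_cRel (F := F) hQ)

theorem isNormalizerSystem_normalizerSys (hQ : Q ≤ S) :
    F.IsNormalizerSystem Q (normalizerSys F hQ) := fun _ =>
  Set.ext fun _ => mem_normalizerHom_iff.symm

theorem isCentralizerSystem_centralizerSys (hQ : Q ≤ S) :
    F.IsCentralizerSystem Q (centralizerSys F hQ) := fun _ =>
  Set.ext fun _ => mem_centralizerHom_iff.symm

theorem NRel.congr {f' : Ω → Ω} (h : NRel F Q P f) (he : ∀ x ∈ P, f' x = f x) : NRel F Q P f' := by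
  obtain ⟨h1, h2, k, hk, hkf, hkQ⟩ := h
  exact ⟨h1, fun x hx => he x hx ▸ h2 x hx, k, hk, fun x hx => (hkf x hx).trans (he x hx).symm, hkQ⟩

theorem CRel.congr {f' : Ω → Ω} (h : CRel F Q P f) (he : ∀ x ∈ P, f' x = f x) : CRel F Q P f' := by
  obtain ⟨h1, h2, k, hk, hkf, hkQ⟩ := h
  exact ⟨h1, fun x hx => he x hx ▸ h2 x hx, k, hk, fun x hx => (hkf x hx).trans (he x hx).symm, hkQ⟩

theorem mor_normalizerSystem {E : FusionSystem (normalizerIn S Q)}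
    (hE : F.IsNormalizerSystem Q E) : Mor E P f ↔ Mor F P f ∧ NRel F Q P f := by
  constructor
  · rintro ⟨φ, hφ, hφf⟩
    rw [hE P, mem_normalizerHom_iff] at hφ
    exact ⟨⟨φ, hφ.1, hφf⟩, hφ.2.congr fun x hx => by
      rw [extendFn_apply φ hx]; exact (hφf ⟨x, hx⟩).symm⟩
  · rintro ⟨⟨φ, hφ, hφf⟩, hM⟩
    refine ⟨φ, ?_, hφf⟩
    rw [hE P, mem_normalizerHom_iff]
    exact ⟨hφ, hM.congr fun x hx => by rw [extendFn_apply φ hx]; exact hφf ⟨x, hx⟩⟩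

theorem mor_centralizerSystem {E : FusionSystem (centralizerIn S Q)}
    (hE : F.IsCentralizerSystem Q E) : Mor E P f ↔ Mor F P f ∧ CRel F Q P f := by
  constructor
  · rintro ⟨φ, hφ, hφf⟩
    rw [hE P, mem_centralizerHom_iff] at hφ
    exact ⟨⟨φ, hφ.1, hφf⟩, hφ.2.congr fun x hx => by
      rw [extendFn_apply φ hx]; exact (hφf ⟨x, hx⟩).symm⟩
  · rintro ⟨⟨φ, hφ, hφf⟩, hM⟩
    refine ⟨φ, ?_, hφf⟩
    rw [hE P, mem_centralizerHom_iff]
    exact ⟨hφ, hM.congr fun x hx => by rw [extendFn_apply φ hx]; exact hφf ⟨x, hx⟩⟩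

end Cfsg.Agent.FusSys
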