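import Cfsg.Agent.FusSys.Factor
import Cfsg.Agent.FusSys.Normal

/-!
Saturation of `K`-normalizer systems, in particular of normalizer and centralizer systems.
-/

set_option autoImplicit false

namespace Cfsg.Agent.FusSys

open Cfsg Cfsg.FusionSystem

universe u

variable {Ω : Type u} [Group Ω] {S T : Subgroup Ω} {F : FusionSystem S} {E : FusionSystem T}
variable {P Q R R' : Subgroup Ω} {f g : Ω → Ω} {p : ℕ} {K : Subgroup (MulAut Q)}

/-- `g` acts on `Q` as an element of `K`. -/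
def InK (K : Subgroup (MulAut Q)) (g : Ω → Ω) : Prop := ∃ κ ∈ K, ∀ x ∈ Q, g x = apl κ x

theorem InK.mem (h : InK K g) {x : Ω} (hx : x ∈ Q) : g x ∈ Q := by
  obtain ⟨κ, -, hκ⟩ := h
  rw [hκ x hx]
  exact apl_mem κ hx

theorem InK.surj (h : InK K g) {y : Ω} (hy : y ∈ Q) : ∃ x ∈ Q, g x = y := by
  obtain ⟨κ, -, hκ⟩ := h
  exact ⟨apl κ⁻¹ y, apl_mem _ hy, by rw [hκ _ (apl_mem _ hy), apl_apl_inv κ hy]⟩

theorem InK.congr (h : InK K g) {g' : Ω → Ω} (he : ∀ x ∈ Q, g' x = g x) : InK K g' := by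
  obtain ⟨κ, hκ, hx⟩ := h
  exact ⟨κ, hκ, fun x hxQ => (he x hxQ).trans (hx x hxQ)⟩

theorem InK.comp {g' : Ω → Ω} (h : InK K g) (h' : InK K g') : InK K (g' ∘ g) := by
  obtain ⟨κ, hκ, hx⟩ := h
  obtain ⟨l, hl, hlx⟩ := h'
  refine ⟨l * κ, K.mul_mem hl hκ, fun x hxQ => ?_⟩
  show g' (g x) = _
  rw [hx x hxQ, hlx _ (apl_mem κ hxQ), apl_mul _ _ hxQ]

theorem InK.inv {g' : Ω → Ω} (h : InK K g) (he : ∀ x ∈ Q, g' (g x) = x) : InK K g' := by
  obtain ⟨κ, hκ, hx⟩ := h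
  refine ⟨κ⁻¹, K.inv_mem hκ, fun y hy => ?_⟩
  conv_lhs => rw [← apl_apl_inv κ hy, ← hx _ (apl_mem _ hy)]
  exact he _ (apl_mem _ hy)

/-- The automorphisms of `R` stabilizing `P` and acting on the copy `g Q` of `Q` as elements
of `K`. -/
def stabK (R : Subgroup Ω) (K : Subgroup (MulAut Q)) (g : Ω → Ω) (hg : ∀ x ∈ Q, g x ∈ R)
    (P : Subgroup Ω) : Subgroup (MulAut R) where
  carrier := {β | (∀ x ∈ R, (apl β x ∈ P ↔ x ∈ P)) ∧ ∃ κ ∈ K, ∀ x ∈ Q, apl β (g x) = g (apl κ x)}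
  one_mem' := ⟨fun x hx => by rw [apl_one hx], 1, K.one_mem, fun x hx => by
    rw [apl_one (hg x hx), apl_one hx]⟩
  mul_mem' := by
    rintro a b ⟨ha, κ, hκ, hax⟩ ⟨hb, l, hl, hbx⟩
    refine ⟨fun x hx => ?_, κ * l, K.mul_mem hκ hl, fun x hx => ?_⟩
    · rw [apl_mul _ _ hx]
      exact (ha _ (apl_mem b hx)).trans (hb x hx)
    · rw [apl_mul _ _ (hg x hx), hbx x hx, hax _ (apl_mem l hx), apl_mul _ _ hx]
  inv_mem' := by
    rintro a ⟨ha, κ, hκ, hax⟩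
    refine ⟨fun x hx => ?_, κ⁻¹, K.inv_mem hκ, fun x hx => ?_⟩
    · have h := ha _ (apl_mem a⁻¹ hx)
      rw [apl_apl_inv a hx] at h
      exact h.symm
    · have h := hax _ (apl_mem κ⁻¹ hx)
      rw [apl_apl_inv κ hx] at h
      rw [← h, apl_inv_apl a (hg _ (apl_mem _ hx))]

theorem conjAut_mem_stabK {φ : Ω → Ω} (hφ : Iso F R R' φ) (hg : ∀ x ∈ Q, g x ∈ R) {P P' : Subgroup Ω}
    {g' : Ω → Ω} (hg' : ∀ x ∈ Q, g' x ∈ R') (hgg : ∀ x ∈ Q, g' x = φ (g x))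
    (hPP : ∀ x ∈ R, (φ x ∈ P' ↔ x ∈ P)) {β : MulAut R} :
    hφ.conjAut β ∈ stabK R' K g' hg' P' ↔ β ∈ stabK R K g hg P := by
  constructor
  · rintro ⟨h1, κ, hκ, h2⟩
    refine ⟨fun x hx => ?_, κ, hκ, fun x hx => ?_⟩
    · have h := h1 (φ x) (hφ.mem hx)
      rw [hφ.conjAut_apl β hx, hPP _ (apl_mem β hx), hPP x hx] at h
      exact h
    · have h := h2 x hx
      rw [hgg x hx, hφ.conjAut_apl β (hg x hx), hgg _ (apl_mem κ hx)] at h
      exact hφ.1.injOn (apl_mem β (hg x hx)) (hg _ (apl_mem κ hx)) h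
  · rintro ⟨h1, κ, hκ, h2⟩
    refine ⟨fun y hy => ?_, κ, hκ, fun x hx => ?_⟩
    · obtain ⟨x, hx, rfl⟩ := hφ.exists_eq hy
      rw [hφ.conjAut_apl β hx, hPP _ (apl_mem β hx), hPP x hx]
      exact h1 x hx
    · rw [hgg x hx, hφ.conjAut_apl β (hg x hx), h2 x hx, ← hgg _ (apl_mem κ hx)]

theorem map_stabK {φ : Ω → Ω} (hφ : Iso F R R' φ) (hg : ∀ x ∈ Q, g x ∈ R) {P P' : Subgroup Ω}
    {g' : Ω → Ω} (hg' : ∀ x ∈ Q, g' x ∈ R') (hgg : ∀ x ∈ Q, g' x = φ (g x))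
    (hPP : ∀ x ∈ R, (φ x ∈ P' ↔ x ∈ P)) :
    (F.autGroup R ⊓ stabK R K g hg P).map hφ.conjAut.toMonoidHom =
      F.autGroup R' ⊓ stabK R' K g' hg' P' := by
  ext β
  rw [Subgroup.mem_map_equiv]
  obtain ⟨α, rfl⟩ := hφ.conjAut.surjective β
  rw [MulEquiv.symm_apply_apply, Subgroup.mem_inf, Subgroup.mem_inf,
    conjAut_mem_stabK hφ hg hg' hgg hPP]
  refine and_congr_left fun _ => ⟨fun h => hφ.conjAut_mem h, fun h => ?_⟩
  rw [← hφ.map_autGroup] at h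
  obtain ⟨γ, hγ, hγα⟩ := Subgroup.mem_map.1 h
  exact hφ.conjAut.injective hγα ▸ hγ

/-- `stabK` with the identity embedding. -/
theorem stabK_eq_of_inK (hg : ∀ x ∈ Q, g x ∈ R) (hQR : Q ≤ R) (h : InK K g) (P : Subgroup Ω) :
    stabK R K g hg P = stabK R K id hQR P := by
  obtain ⟨l, hl, hlx⟩ := h
  ext β
  refine and_congr_right fun _ => ⟨?_, ?_⟩
  · rintro ⟨κ, hκ, hβ⟩
    refine ⟨l * κ * l⁻¹, K.mul_mem (K.mul_mem hl hκ) (K.inv_mem hl), fun x hx => ?_⟩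
    have h := hβ _ (apl_mem l⁻¹ hx)
    rw [hlx _ (apl_mem l⁻¹ hx), apl_apl_inv l hx, hlx _ (apl_mem κ (apl_mem l⁻¹ hx))] at h
    show apl β x = id (apl (l * κ * l⁻¹) x)
    rw [h, id, apl_mul _ _ hx, apl_mul _ _ (apl_mem _ hx)]
  · rintro ⟨κ, hκ, hβ⟩
    refine ⟨l⁻¹ * κ * l, K.mul_mem (K.mul_mem (K.inv_mem hl) hκ) hl, fun x hx => ?_⟩
    have h : apl β (apl l x) = apl κ (apl l x) := hβ _ (apl_mem l hx)
    rw [hlx x hx, h, hlx _ (apl_mem _ hx), apl_mul _ _ hx, apl_mul _ _ (apl_mem _ hx),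
      apl_apl_inv l (apl_mem κ (apl_mem l hx))]

/-- `E` over `T` is the `K`-normalizer system of `Q`. -/
structure IsKSys (F : FusionSystem S) (K : Subgroup (MulAut Q)) (E : FusionSystem T) : Prop where
  le : Q ≤ S
  mem_iff : ∀ s, s ∈ T ↔ s ∈ S ∧ s ∈ Subgroup.normalizer (Q : Set Ω) ∧
    InK K (fun x => s * x * s⁻¹)
  mor_iff : ∀ P f, Mor E P f ↔ Mor F P f ∧ P ≤ T ∧ (∀ x ∈ P, f x ∈ T) ∧
    ∃ g, Mor F (P ⊔ Q) g ∧ (∀ x ∈ P, g x = f x) ∧ InK K g

/-- Every isomorphism onto a conjugate of `Q` has a one-sided inverse defined on the elements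
acting on the conjugate as elements of `K`. -/
def HasReturn (F : FusionSystem S) (K : Subgroup (MulAut Q)) : Prop :=
  ∀ Q' g, Iso F Q Q' g → ∃ D h, Q' ≤ D ∧ Mor F D h ∧ InK K (h ∘ g) ∧
    ∀ s ∈ S, (∃ κ ∈ K, ∀ x ∈ Q, s * g x * s⁻¹ = g (apl κ x)) → s ∈ D

theorem mem_normalizer_of_maps {G : Type*} [Group G] {A : Subgroup G} [Finite A] {h : G}
    (hc : ∀ y ∈ A, h * y * h⁻¹ ∈ A) : h ∈ Subgroup.normalizer (A : Set G) := by
  refine Subgroup.mem_normalizer_iff.2 fun y => ⟨hc y, fun hy => ?_⟩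
  obtain ⟨⟨z, hz⟩, hzy⟩ := (Finite.injective_iff_surjective
    (f := fun y : A => (⟨h * y * h⁻¹, hc y y.2⟩ : A))).1 (fun a b hab => Subtype.ext <|
      mul_left_cancel (mul_right_cancel (congrArg Subtype.val hab))) ⟨_, hy⟩
  have : z = y := mul_left_cancel (mul_right_cancel (congrArg Subtype.val hzy))
  exact this ▸ hz

theorem mem_normalizer_sup {G : Type*} [Group G] {A B : Subgroup G} {n : G}
    (hA : n ∈ Subgroup.normalizer (A : Set G)) (hB : n ∈ Subgroup.normalizer (B : Set G)) :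
    n ∈ Subgroup.normalizer ((A ⊔ B : Subgroup G) : Set G) := by
  have key : ∀ m : G, m ∈ Subgroup.normalizer (A : Set G) → m ∈ Subgroup.normalizer (B : Set G) →
      A ⊔ B ≤ (A ⊔ B).comap (MulAut.conj m).toMonoidHom := fun m hA hB => sup_le
    (fun x hx => Subgroup.mem_sup_left ((Subgroup.mem_normalizer_iff.1 hA x).1 hx))
    (fun x hx => Subgroup.mem_sup_right ((Subgroup.mem_normalizer_iff.1 hB x).1 hx))
  refine Subgroup.mem_normalizer_iff.2 fun x => ⟨fun hx => key n hA hB hx, fun hx => ?_⟩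
  have h := key n⁻¹ (Subgroup.inv_mem _ hA) (Subgroup.inv_mem _ hB) hx
  rw [Subgroup.mem_comap, MulEquiv.coe_toMonoidHom, MulAut.conj_apply] at h
  have e : n⁻¹ * (n * x * n⁻¹) * n⁻¹⁻¹ = x := by group
  rwa [e] at h

section

variable [Finite S] (hE : IsKSys F K E)
include hE

theorem IsKSys.T_le : T ≤ S := fun s hs => ((hE.mem_iff s).1 hs).1

/-- A map sends the elements acting as `K` on the copy `g Q` into `T`. -/
theorem IsKSys.mor_mem_T {D : Subgroup Ω} {h : Ω → Ω} (hh : Mor F D h)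
    (hD : ∀ x ∈ Q, g x ∈ D) (hK : InK K (h ∘ g)) {s : Ω} (hs : s ∈ D)
    (hsx : ∃ κ ∈ K, ∀ x ∈ Q, s * g x * s⁻¹ = g (apl κ x)) : h s ∈ T := by
  obtain ⟨l, hl, hlx⟩ := hK
  obtain ⟨κ, hκ, hκx⟩ := hsx
  have key : ∀ y ∈ Q, h s * y * (h s)⁻¹ = apl (l * κ * l⁻¹) y := by
    intro y hy
    have hx := apl_mem l⁻¹ hy
    have h1 : h (g (apl l⁻¹ y)) = y := (hlx _ hx).trans (apl_apl_inv l hy)
    have h2 := hh.map_conj hs (hD _ hx)
    rw [h1, hκx _ hx] at h2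
    rw [← h2, apl_mul _ _ hy, apl_mul _ _ hx]
    exact hlx _ (apl_mem κ hx)
  refine (hE.mem_iff _).2 ⟨hh.mem_S hs, ?_, _, K.mul_mem (K.mul_mem hl hκ) (K.inv_mem hl), key⟩
  haveI := finite_of_le hE.le
  exact mem_normalizer_of_maps fun y hy => key y hy ▸ apl_mem _ hy

end

section Saturated

variable [Fact p.Prime] [Finite S] (hS : IsPGroup p S) (hF : F.IsSaturated p) (hE : IsKSys F K E)
include hS hF hE

/-- `P` has its product with `Q` fully centralized and `Aut_T` Sylow in the stabilizer. -/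
def Good (F : FusionSystem S) (K : Subgroup (MulAut Q)) (T : Subgroup Ω) (p : ℕ) (P : Subgroup Ω) :
    Prop :=
  P ≤ T ∧ F.IsFullyCentralized (P ⊔ Q) ∧
    ¬ p ∣ (autInducedBy T (P ⊔ Q)).relIndex
      (F.autGroup (P ⊔ Q) ⊓ stabK (P ⊔ Q) K id (fun _ hx => Subgroup.mem_sup_right hx) P)

theorem exists_good (hret : HasReturn F K) {P₀ : Subgroup Ω} (hP₀ : P₀ ≤ T) :
    ∃ P, E.IsConj P₀ P ∧ Good F K T p P := by
  classical
  have hP₀Q : P₀ ⊔ Q ≤ S := sup_le (hP₀.trans hE.T_le) hE.le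
  obtain ⟨R, f₀, hR, -, hf₀, -⟩ := exists_fullyNormalized_mor hS hF hP₀Q
  haveI := finite_of_le hR.1
  haveI : Finite (MulAut R) := Finite.of_injective _ MulEquiv.toEquiv_injective
  -- conjugate a Sylow subgroup of the stabilizer into `Aut_S(R)`
  obtain ⟨P₁, hP₁⟩ : ∃ P₁, Iso F P₀ P₁ f₀ := (hf₀.1.mono le_sup_left).exists_iso
  have hgR₀ : ∀ x ∈ Q, f₀ x ∈ R := fun x hx => hf₀.mem (Subgroup.mem_sup_right hx)
  let St₀ : Subgroup (F.autGroup R) :=
    (F.autGroup R ⊓ stabK R K f₀ hgR₀ P₁).subgroupOf (F.autGroup R)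
  obtain ⟨V⟩ := (inferInstance : Nonempty (Sylow p St₀))
  obtain ⟨-, T0, hT0⟩ := fullyAutomized_of_fullyNormalized hS hF hR
  obtain ⟨α, hαV⟩ := exists_conj_mem_sylow (V.2.map St₀.subtype) T0
  have hαi : Iso F R R (apl (α : MulAut R)) := iso_apl hR.1 α.2
  obtain ⟨f, hfdef⟩ : ∃ f, f = apl (α : MulAut R) ∘ f₀ := ⟨_, rfl⟩
  have hf : Iso F (P₀ ⊔ Q) R f := hfdef ▸ hf₀.comp hαi
  obtain ⟨P₂, hP₂⟩ : ∃ P₂, Iso F P₀ P₂ f := (hf.1.mono le_sup_left).exists_iso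
  have hgR : ∀ x ∈ Q, f x ∈ R := fun x hx => hf.mem (Subgroup.mem_sup_right hx)
  have hP₁R : ∀ y ∈ P₁, y ∈ R := fun y hy => by
    obtain ⟨x, hx, rfl⟩ := hP₁.exists_eq hy
    exact hf₀.mem (Subgroup.mem_sup_left hx)
  have hPP : ∀ x ∈ R, (apl (α : MulAut R) x ∈ P₂ ↔ x ∈ P₁) := by
    intro x hx
    constructor
    · intro h
      obtain ⟨z, hz, hzx⟩ := hP₂.exists_eq h
      rw [hfdef] at hzx
      have hz' : f₀ z ∈ R := hf₀.mem (Subgroup.mem_sup_left hz)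
      have : f₀ z = x := hαi.1.injOn hz' hx hzx
      exact this ▸ hP₁.mem hz
    · intro h
      obtain ⟨z, hz, rfl⟩ := hP₁.exists_eq h
      have := hP₂.mem hz
      rwa [hfdef] at this
  have hidx : ¬ p ∣ (autInducedBy S R).relIndex (F.autGroup R ⊓ stabK R K f hgR P₂) := by
    have hmap := map_stabK (K := K) hαi hgR₀ (P' := P₂) (g' := f) hgR
      (fun x _ => congrFun hfdef x) hPP
    intro hd
    let c := hαi.conjAut.toMonoidHom
    let V' : Subgroup (MulAut R) :=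
      (((V : Subgroup St₀).map St₀.subtype).map (F.autGroup R).subtype).map c
    have hV'le : V' ≤ autInducedBy S R := by
      rintro _ ⟨_, ⟨_, ⟨v, hv, rfl⟩, rfl⟩, rfl⟩
      have h1 := hαV _ (Subgroup.mem_map_of_mem _ hv)
      rw [hT0] at h1
      have e : c ((v : F.autGroup R) : MulAut R) =
          (α : MulAut R) * ((v : F.autGroup R) : MulAut R) * (α : MulAut R)⁻¹ := by
        refine apl_ext fun y hy => ?_
        show apl (hαi.conjAut _) y = _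
        have hy' : apl (α : MulAut R)⁻¹ y ∈ R := apl_mem _ hy
        conv_lhs => rw [← apl_apl_inv (α : MulAut R) hy]
        rw [hαi.conjAut_apl _ hy', apl_mul _ _ hy, apl_mul _ _ hy']
      show c ((v : F.autGroup R) : MulAut R) ∈ _
      rw [e]
      exact Subgroup.mem_subgroupOf.1 h1
    have h2 := hd.trans (Subgroup.relIndex_dvd_of_le_left _ hV'le)
    rw [← hmap, Subgroup.relIndex_map_map_of_injective _ _ hαi.conjAut.injective] at h2
    have e1 : ((V : Subgroup St₀).map St₀.subtype).map (F.autGroup R).subtype =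
        ((V : Subgroup St₀).map St₀.subtype).map (F.autGroup R).subtype := rfl
    rw [Subgroup.relIndex] at h2
    refine V.not_dvd_index (h2.trans (dvd_of_eq ?_))
    rw [← Subgroup.relIndex, ← Subgroup.map_subgroupOf_eq_of_le
      (inf_le_left : F.autGroup R ⊓ stabK R K f₀ hgR₀ P₁ ≤ F.autGroup R),
      Subgroup.relIndex_map_map_of_injective _ _ (F.autGroup R).subtype_injective]
    show ((V : Subgroup St₀).map St₀.subtype).relIndex St₀ = _
    rw [Subgroup.relIndex]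
    congr 1
    exact Subgroup.comap_map_eq_self_of_injective St₀.subtype_injective _
  -- move back to `Q`
  obtain ⟨Q', hQ'⟩ : ∃ Q', Iso F Q Q' f := (hf.1.mono le_sup_right).exists_iso
  obtain ⟨D, h, hQ'D, hh, hK, hD⟩ := hret Q' f hQ'
  have hD' : ∀ s ∈ P₂, s ∈ D := by
    intro s hs
    obtain ⟨a, ha, rfl⟩ := hP₂.exists_eq hs
    obtain ⟨-, haN, κ, hκ, hκx⟩ := (hE.mem_iff a).1 (hP₀ ha)
    refine hD _ (hf.1.mem_S (Subgroup.mem_sup_left ha)) ⟨κ, hκ, fun x hx => ?_⟩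
    rw [← hf.1.map_conj (Subgroup.mem_sup_left ha) (Subgroup.mem_sup_right hx)]
    exact congrArg f (hκx x hx)
  have hRD : ∀ y ∈ R, y ∈ D := by
    intro y hy
    obtain ⟨x, hx, rfl⟩ := hf.exists_eq hy
    exact hf.1.mem_of_sup (fun a ha => hD' _ (hP₂.mem ha)) (fun a ha => hQ'D (hQ'.mem ha)) hx
  obtain ⟨R', hR'⟩ := (hh.mono hRD).exists_iso
  have hk : Iso F (P₀ ⊔ Q) R' (h ∘ f) := hf.comp hR'
  obtain ⟨P, hP⟩ : ∃ P, Iso F P₀ P (h ∘ f) := (hk.1.mono le_sup_left).exists_iso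
  have hR'eq : R' = P ⊔ Q := by
    refine le_antisymm (fun y hy => ?_) (sup_le (fun y hy => ?_) fun y hy => ?_)
    · obtain ⟨x, hx, rfl⟩ := hk.exists_eq hy
      exact hk.1.mem_of_sup (fun a ha => Subgroup.mem_sup_left (hP.mem ha))
        (fun a ha => Subgroup.mem_sup_right (hK.mem ha)) hx
    · obtain ⟨x, hx, rfl⟩ := hP.exists_eq hy
      exact hk.mem (Subgroup.mem_sup_left hx)
    · obtain ⟨x, hx, rfl⟩ := hK.surj hy
      exact hk.mem (Subgroup.mem_sup_right hx)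
  subst hR'eq
  have hPT : P ≤ T := fun y hy => by
    obtain ⟨a, ha, rfl⟩ := hP.exists_eq hy
    obtain ⟨-, haN, κ, hκ, hκx⟩ := (hE.mem_iff a).1 (hP₀ ha)
    refine hE.mor_mem_T hh (fun x hx => hQ'D (hQ'.mem hx)) hK (hD' _ (hP₂.mem ha))
      ⟨κ, hκ, fun x hx => ?_⟩
    rw [← hf.1.map_conj (Subgroup.mem_sup_left ha) (Subgroup.mem_sup_right hx)]
    exact congrArg f (hκx x hx)
  have hconj : E.IsConj P₀ P := by
    refine Iso.isConj (f := h ∘ f) ⟨(hE.mor_iff _ _).2 ⟨hP.1, hP₀, fun x hx => hPT (hP.mem hx),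
      h ∘ f, hk.1, fun _ _ => rfl, hK⟩, hP.2⟩
  refine ⟨P, hconj, hPT, ?_, ?_⟩
  · refine ⟨hR'.right_le, fun R'' hR'' => ?_⟩
    refine le_trans ((fullyCentralized_of_fullyNormalized hS hF hR).2 R''
      (isConj_trans hR'.isConj hR'')) ?_
    have hm : ∀ s : centralizerIn S R, (s : Ω) ∈ D := fun s => hD _ s.2.1 ⟨1, K.one_mem,
      fun x hx => by
        rw [apl_one hx, ← Subgroup.mem_centralizer_iff.1 s.2.2 _ (hgR x hx), mul_inv_cancel_right]⟩
    haveI := finite_of_le (centralizerIn_le S (P ⊔ Q))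
    exact Nat.card_le_card_of_injective
      (fun s => (⟨h s, hh.mem_centralizerIn hRD hR' (hm s) s.2.2⟩ : centralizerIn S (P ⊔ Q)))
      fun a b hab => Subtype.ext (hh.injOn (hm a) (hm b) (congrArg Subtype.val hab))
  · intro hd
    refine hidx ?_
    have hmap := map_stabK (K := K) hR' hgR (P' := P) (g' := h ∘ f)
      (fun x hx => hk.mem (Subgroup.mem_sup_right hx)) (fun _ _ => rfl) (P := P₂) (fun x hx => by
        constructor
        · intro hx'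
          obtain ⟨z, hz, hzx⟩ := hP.exists_eq hx'
          have : f z = x := hh.injOn (hD' _ (hP₂.mem hz)) (hRD x hx) hzx
          exact this ▸ hP₂.mem hz
        · intro hx'
          obtain ⟨z, hz, rfl⟩ := hP₂.exists_eq hx'
          exact hP.mem hz)
    rw [stabK_eq_of_inK _ (le_sup_right : Q ≤ P ⊔ Q) hK] at hmap
    have hle : ((F.autGroup R ⊓ stabK R K f hgR P₂) ⊓ autInducedBy S R).map
        hR'.conjAut.toMonoidHom ≤ autInducedBy T (P ⊔ Q) := by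
      rintro _ ⟨β, ⟨⟨-, hβP, κ, hκ, hβx⟩, hβS⟩, rfl⟩
      obtain ⟨s, hs, hsn, hsx⟩ := mem_autInducedBy_iff.1 hβS
      have hsK : ∃ κ ∈ K, ∀ x ∈ Q, s * f x * s⁻¹ = f (apl κ x) :=
        ⟨κ, hκ, fun x hx => by rw [← hsx _ (hgR x hx)]; exact hβx x hx⟩
      have hsD := hD s hs hsK
      have hact : ∀ y ∈ P ⊔ Q, apl (hR'.conjAut β) y = h s * y * (h s)⁻¹ := by
        intro y hy
        obtain ⟨x, hx, rfl⟩ := hR'.exists_eq hy
        rw [hR'.conjAut_apl β hx, hsx x hx, hh.map_conj hsD (hRD x hx)]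
      refine mem_autInducedBy_iff.2 ⟨h s,
        hE.mor_mem_T hh (fun x hx => hQ'D (hQ'.mem hx)) hK hsD hsK, ?_, hact⟩
      haveI := finite_of_le hR'.right_le
      exact mem_normalizer_of_maps fun y hy => hact y hy ▸ apl_mem _ hy
    have h2 := hd.trans (Subgroup.relIndex_dvd_of_le_left _ hle)
    rw [← hmap, Subgroup.relIndex_map_map_of_injective _ _ hR'.conjAut.injective,
      Subgroup.inf_relIndex_left] at h2
    exact h2

theorem Good.fullyAutomized (hP : Good F K T p P) : E.IsFullyAutomized p P := by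
  classical
  obtain ⟨hPT, hc, hd⟩ := hP
  have hQR : Q ≤ P ⊔ Q := le_sup_right
  have hRS : P ⊔ Q ≤ S := hc.1
  haveI := finite_of_le hE.T_le
  haveI := finite_of_le hRS
  haveI : Finite (MulAut ↥(P ⊔ Q)) := Finite.of_injective _ MulEquiv.toEquiv_injective
  rw [fullyAutomized_iff (hS.to_le hE.T_le) hPT]
  obtain ⟨St, hSt⟩ : ∃ St, St = F.autGroup (P ⊔ Q) ⊓
      stabK (P ⊔ Q) K id (fun _ hx => Subgroup.mem_sup_right hx) P := ⟨_, rfl⟩
  rw [← hSt] at hd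
  have hPR : P ≤ P ⊔ Q := le_sup_left
  have hex : ∀ β : St, ∃ γ : MulAut P, γ ∈ E.autGroup P ∧
      ∀ x ∈ P, apl γ x = apl (β : MulAut ↥(P ⊔ Q)) x := by
    intro β
    obtain ⟨hβA, hβP, κ, hκ, hβK⟩ := hSt.le β.2
    have hi := iso_apl hRS hβA
    have hiE : Iso E P P (apl (β : MulAut ↥(P ⊔ Q))) := by
      refine ⟨(hE.mor_iff _ _).2 ⟨hi.1.mono hPR, hPT, fun x hx => hPT ((hβP x (hPR hx)).2 hx),
        _, hi.1, fun _ _ => rfl, κ, hκ, hβK⟩, fun y => ⟨fun hy => ?_, ?_⟩⟩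
      · obtain ⟨z, hz, hzy⟩ := hi.exists_eq (hPR hy)
        exact ⟨z, (hβP z hz).1 (hzy.symm ▸ hy), hzy⟩
      · rintro ⟨x, hx, rfl⟩
        exact (hβP x (hPR hx)).2 hx
    obtain ⟨γ, hγ, hγx⟩ := hiE.exists_mem_autGroup
    exact ⟨γ, hγ, hγx⟩
  choose res hres hresx using hex
  let π : St →* E.autGroup P :=
    MonoidHom.mk' (fun β => ⟨res β, hres β⟩) fun a b => Subtype.ext <| apl_ext fun x hx => by
      show apl (res (a * b)) x = apl (res a * res b) x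
      rw [hresx _ x hx, apl_mul _ _ hx, hresx b x hx, hresx a _ (by
        rw [← hresx b x hx]; exact apl_mem _ hx)]
      exact apl_mul _ _ (hPR hx)
  have hsurj : Function.Surjective π := by
    rintro ⟨γ, hγ⟩
    have hiE := iso_apl hPT hγ
    obtain ⟨-, -, -, g, hg, hgf, hgK⟩ := (hE.mor_iff _ _).1 hiE.1
    have hgi : Iso F (P ⊔ Q) (P ⊔ Q) g := by
      refine ⟨hg, fun y => ⟨fun hy => ?_, ?_⟩⟩
      · obtain ⟨I, hI⟩ := hg.exists_iso
        suffices h : P ⊔ Q ≤ I from hI.exists_eq (h hy)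
        refine sup_le (fun a ha => ?_) (fun a ha => ?_)
        · obtain ⟨z, hz, rfl⟩ := hiE.exists_eq ha
          rw [← hgf z hz]
          exact hI.mem (Subgroup.mem_sup_left hz)
        · obtain ⟨z, hz, rfl⟩ := hgK.surj ha
          exact hI.mem (Subgroup.mem_sup_right hz)
      · rintro ⟨x, hx, rfl⟩
        exact hg.mem_of_sup (fun a ha => Subgroup.mem_sup_left ((hgf a ha).symm ▸ hiE.mem ha))
          (fun a ha => Subgroup.mem_sup_right (hgK.mem ha)) hx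
    obtain ⟨β, hβ, hβg⟩ := hgi.exists_mem_autGroup
    have hβSt : β ∈ St := by
      rw [hSt]
      refine ⟨hβ, fun x hx => ?_, ?_⟩
      · rw [hβg x hx]
        refine ⟨fun h => ?_, fun h => (hgf x h).symm ▸ hiE.mem h⟩
        obtain ⟨z, hz, hzx⟩ := hiE.exists_eq h
        rw [← hgf z hz] at hzx
        exact hg.injOn (hPR hz) hx hzx ▸ hz
      · obtain ⟨κ, hκ, hκx⟩ := hgK
        exact ⟨κ, hκ, fun x hx => (hβg x (hQR hx)).trans (hκx x hx)⟩
    refine ⟨⟨β, hβSt⟩, Subtype.ext (apl_ext fun x hx => ?_)⟩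
    show apl (res _) x = apl γ x
    rw [hresx _ x hx]
    exact (hβg x (hPR hx)).trans (hgf x hx)
  intro hdiv
  refine hd ?_
  rw [Subgroup.relIndex]
  refine hdiv.trans (dvd_trans ?_ (Subgroup.index_map_dvd _ hsurj))
  refine Subgroup.index_dvd_of_le ?_
  rintro _ ⟨β, hβ, rfl⟩
  obtain ⟨t, ht, -, htx⟩ := mem_autInducedBy_iff.1 (Subgroup.mem_subgroupOf.1 hβ)
  refine Subgroup.mem_subgroupOf.2 (mem_autInducedBy_iff.2 ⟨t, ht, ?_, fun x hx => ?_⟩)
  · haveI := finite_of_le (hPR.trans hRS)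
    refine mem_normalizer_of_maps fun y hy => ?_
    rw [← htx y (hPR hy), ← hresx β y hy]
    exact apl_mem _ hy
  · show apl (res β) x = _
    rw [hresx β x hx, htx x (hPR hx)]

theorem Good.receptive (hP : Good F K T p P) : E.IsReceptive P := by
  classical
  obtain ⟨hPT, hc, hd⟩ := hP
  have hPR : P ≤ P ⊔ Q := le_sup_left
  have hQR : Q ≤ P ⊔ Q := le_sup_right
  have hRS : P ⊔ Q ≤ S := hc.1
  haveI := finite_of_le hRS
  haveI : Finite (MulAut ↥(P ⊔ Q)) := Finite.of_injective _ MulEquiv.toEquiv_injective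
  rw [isReceptive_iff]
  refine ⟨hPT, fun P₁ f hf => ?_⟩
  obtain ⟨-, hP₁T, -, f', hf', hff, hfK⟩ := (hE.mor_iff _ _).1 hf.1
  have hi : Iso F (P₁ ⊔ Q) (P ⊔ Q) f' := by
    obtain ⟨I, hI⟩ := hf'.exists_iso
    have : I = P ⊔ Q := by
      refine le_antisymm (fun y hy => ?_) (sup_le (fun y hy => ?_) fun y hy => ?_)
      · obtain ⟨x, hx, rfl⟩ := hI.exists_eq hy
        exact hf'.mem_of_sup (fun a ha => hPR ((hff a ha).symm ▸ hf.mem ha))
          (fun a ha => hQR (hfK.mem ha)) hx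
      · obtain ⟨x, hx, rfl⟩ := hf.exists_eq hy
        rw [← hff x hx]
        exact hI.mem (Subgroup.mem_sup_left hx)
      · obtain ⟨x, hx, rfl⟩ := hfK.surj hy
        exact hI.mem (Subgroup.mem_sup_right hx)
    exact this ▸ hI
  obtain ⟨St, hSt⟩ : ∃ St, St = F.autGroup (P ⊔ Q) ⊓
      stabK (P ⊔ Q) K id (fun _ hx => Subgroup.mem_sup_right hx) P := ⟨_, rfl⟩
  rw [← hSt] at hd
  -- automorphisms trivial on `P`
  let K₀ : Subgroup St :=
    { carrier := {β | ∀ x ∈ P, apl (β : MulAut ↥(P ⊔ Q)) x = x}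
      one_mem' := fun x hx => apl_one (hPR hx)
      mul_mem' := fun {a b} ha hb x hx => by
        show apl ((a : MulAut ↥(P ⊔ Q)) * (b : MulAut ↥(P ⊔ Q))) x = x
        rw [apl_mul _ _ (hPR hx), hb x hx, ha x hx]
      inv_mem' := fun {a} ha x hx => by
        show apl (a : MulAut ↥(P ⊔ Q))⁻¹ x = x
        conv_lhs => rw [← ha x hx]
        exact apl_inv_apl _ (hPR hx) }
  haveI : K₀.Normal := ⟨fun b hb a x hx => by
    show apl ((a : MulAut ↥(P ⊔ Q)) * (b : MulAut ↥(P ⊔ Q)) * (a : MulAut ↥(P ⊔ Q))⁻¹) x = x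
    have hy : apl (a : MulAut ↥(P ⊔ Q))⁻¹ x ∈ P :=
      (((hSt.le (St.inv_mem a.2)).2).1 x (hPR hx)).2 hx
    rw [apl_mul _ _ (hPR hx), apl_mul _ _ (apl_mem _ (hPR hx)), hb _ hy,
      apl_apl_inv _ (hPR hx)]⟩
  let T0 : Sylow p St :=
    ((isPGroup_autInducedBy (P := P ⊔ Q) (hS.to_le hE.T_le)).comap_subtype :
      IsPGroup p ((autInducedBy T (P ⊔ Q)).subgroupOf St)).toSylow hd
  let N : Subgroup Ω := nPhi T P₁ f
  have hNS : N ≤ S := fun n hn => hE.T_le hn.1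
  have hNn : N ≤ Subgroup.normalizer ((P₁ ⊔ Q : Subgroup Ω) : Set Ω) := by
    intro n hn
    obtain ⟨hnT, hnP, -⟩ := hn
    exact mem_normalizer_sup hnP ((hE.mem_iff n).1 hnT).2.1
  let R₀ : Subgroup (MulAut ↥(P ⊔ Q)) :=
    (autInducedBy N (P₁ ⊔ Q)).map hi.conjAut.toMonoidHom
  have hR₀St : R₀ ≤ St := by
    rintro _ ⟨β, hβ, rfl⟩
    obtain ⟨n, hn, hnn, hnx⟩ := mem_autInducedBy_iff.1 hβ
    rw [hSt]
    refine ⟨hi.conjAut_mem (autInducedBy_le_autGroup hi.left_le (autInducedBy_mono hNS hβ)), ?_⟩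
    rw [← stabK_eq_of_inK (g := f') (fun x hx => hi.mem (Subgroup.mem_sup_right hx)) hQR hfK]
    refine (conjAut_mem_stabK hi (g := id) (fun _ hx => Subgroup.mem_sup_right hx) _
      (fun _ _ => rfl) (P := P₁) (fun x hx => ?_)).2 ⟨fun x hx => ?_, ?_⟩
    · refine ⟨fun h => ?_, fun h => (hff x h).symm ▸ hf.mem h⟩
      obtain ⟨z, hz, hzx⟩ := hf.exists_eq h
      rw [← hff z hz] at hzx
      exact hf'.injOn (Subgroup.mem_sup_left hz) hx hzx ▸ hz
    · rw [hnx x hx]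
      exact (Subgroup.mem_normalizer_iff.1 hn.2.1 x).symm
    · obtain ⟨-, -, κ, hκ, hκx⟩ := (hE.mem_iff n).1 hn.1
      exact ⟨κ, hκ, fun x hx => (hnx x (Subgroup.mem_sup_right hx)).trans (hκx x hx)⟩
  have hle : R₀.subgroupOf St ≤ (T0 : Subgroup St) ⊔ K₀ := by
    rintro ⟨δ, hδSt⟩ hδ
    obtain ⟨β, hβ, hβδ⟩ := Subgroup.mem_map.1 hδ
    obtain ⟨n, hn, hnn, hnx⟩ := mem_autInducedBy_iff.1 hβ
    obtain ⟨hnT, hnP, h, hhT, hhx⟩ := hn
    obtain ⟨-, hhQn, κ, hκ, hκx⟩ := (hE.mem_iff h).1 hhT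
    have hδP : ∀ y ∈ P, apl δ y = h * y * h⁻¹ := by
      intro y hy
      obtain ⟨x, hx, rfl⟩ := hf.exists_eq hy
      have hxn : n * x * n⁻¹ ∈ P₁ := (Subgroup.mem_normalizer_iff.1 hnP x).1 hx
      rw [show δ = hi.conjAut β from hβδ.symm, ← hff x hx,
        hi.conjAut_apl β (Subgroup.mem_sup_left hx), hnx x (Subgroup.mem_sup_left hx),
        hff _ hxn, hhx x hx, hff x hx]
    have hhP : h ∈ Subgroup.normalizer (P : Set Ω) := by
      haveI := finite_of_le (hPR.trans hRS)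
      refine mem_normalizer_of_maps fun y hy => ?_
      rw [← hδP y hy]
      exact (((hSt.le hδSt).2).1 y (hPR hy)).2 hy
    have hhR := mem_normalizer_sup hhP hhQn
    obtain ⟨γ, hγ, hγx⟩ := exists_mem_autInducedBy (P := P ⊔ Q) hhT hhR
    have hγSt : γ ∈ St := by
      rw [hSt]
      refine ⟨autInducedBy_le_autGroup hRS (autInducedBy_mono hE.T_le hγ), fun x hx => ?_, κ, hκ,
        fun x hx => (hγx x (hQR hx)).trans (hκx x hx)⟩
      rw [hγx x hx]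
      exact (Subgroup.mem_normalizer_iff.1 hhP x).symm
    have e : (⟨δ, hδSt⟩ : St) =
        ⟨γ, hγSt⟩ * ⟨γ⁻¹ * δ, St.mul_mem (St.inv_mem hγSt) hδSt⟩ :=
      Subtype.ext (mul_inv_cancel_left _ _).symm
    rw [e]
    refine Subgroup.mul_mem_sup hγ fun y hy => ?_
    show apl (γ⁻¹ * δ) y = y
    rw [apl_mul _ _ (hPR hy), hδP y hy, ← hγx y (hPR hy), apl_inv_apl _ (hPR hy)]
  obtain ⟨k, hk, hkR⟩ := exists_conj_mem_sylow_of_le_sup T0 K₀
    (((isPGroup_autInducedBy (hS.to_le hNS)).map _ : IsPGroup p R₀).comap_subtype) hle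
  have hkA := (hSt.le k.2).1
  obtain ⟨-, l, hl, hlx⟩ := (hSt.le k.2).2
  have hf2 : Iso F (P₁ ⊔ Q) (P ⊔ Q) (apl (k : MulAut ↥(P ⊔ Q)) ∘ f') :=
    hi.comp (iso_apl hRS hkA)
  obtain ⟨g, hg, hgf⟩ := (isReceptive_iff.1 (receptive_of_fullyCentralized hS hF hc)).2 _ _ hf2
  have hsub : N ⊔ Q ≤ nPhi S (P₁ ⊔ Q) (apl (k : MulAut ↥(P ⊔ Q)) ∘ f') := by
    refine sup_le (fun n hn => ?_) (le_sup_right.trans hf2.1.le_nPhi)
    obtain ⟨β, hβ, hβx⟩ := exists_mem_autInducedBy (P := P₁ ⊔ Q) hn (hNn hn)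
    have hm : hi.conjAut β ∈ R₀ := Subgroup.mem_map.2 ⟨β, hβ, rfl⟩
    obtain ⟨e, he, -, hex⟩ := mem_autInducedBy_iff.1
      (Subgroup.mem_subgroupOf.1 (hkR ⟨_, hR₀St hm⟩ hm))
    refine ⟨hNS hn, hNn hn, e, hE.T_le he, fun x hx => ?_⟩
    show apl (k : MulAut ↥(P ⊔ Q)) (f' (n * x * n⁻¹)) =
      e * apl (k : MulAut ↥(P ⊔ Q)) (f' x) * e⁻¹
    have hfx := hi.mem hx
    rw [← hex _ (apl_mem _ hfx), ← hβx x hx, ← hi.conjAut_apl β hx]
    show _ = apl ((k : MulAut ↥(P ⊔ Q)) * hi.conjAut β * (k : MulAut ↥(P ⊔ Q))⁻¹) _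
    rw [apl_mul _ _ (apl_mem _ hfx), apl_inv_apl _ hfx, apl_mul _ _ hfx]
  have hgK : InK K g := by
    have h2 : InK K (apl (k : MulAut ↥(P ⊔ Q))) := ⟨l, hl, hlx⟩
    exact (hfK.comp h2).congr fun x hx => hgf x (Subgroup.mem_sup_right hx)
  have hgN := hg.mono hsub
  refine ⟨g, (hE.mor_iff _ _).2 ⟨hgN.mono le_sup_left, fun n hn => hn.1, fun n hn => ?_,
    g, hgN, fun _ _ => rfl, hgK⟩, fun x hx => ?_⟩
  · obtain ⟨-, -, κ, hκ, hκx⟩ := (hE.mem_iff n).1 hn.1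
    exact hE.mor_mem_T (g := id) hgN (fun x hx => Subgroup.mem_sup_right hx) hgK
      (Subgroup.mem_sup_left hn) ⟨κ, hκ, fun x hx => hκx x hx⟩
  · rw [hgf x (Subgroup.mem_sup_left hx)]
    show apl (k : MulAut ↥(P ⊔ Q)) (f' x) = f x
    rw [hff x hx]
    exact hk _ (hf.mem hx)

theorem kSys_saturated (hret : HasReturn F K) : E.IsSaturated p := fun P₀ hP₀ => by
  obtain ⟨P, hconj, hgood⟩ := exists_good hS hF hE hret hP₀
  exact ⟨P, hconj, Good.fullyAutomized hS hF hE hgood, Good.receptive hS hF hE hgood⟩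

end Saturated

section Instances

variable [Fact p.Prime] [Finite S] (hS : IsPGroup p S) (hF : F.IsSaturated p)
include hS hF

theorem normalizerSystem_saturated (hQ : F.IsFullyNormalized Q)
    {N : FusionSystem (normalizerIn S Q)} (hN : F.IsNormalizerSystem Q N) : N.IsSaturated p := by
  refine kSys_saturated hS hF (K := (⊤ : Subgroup (MulAut Q)))
    ⟨hQ.1, fun s => ⟨fun hs => ⟨hs.1, hs.2, ?_⟩, fun hs => ⟨hs.1, hs.2.1⟩⟩, fun P f => ?_⟩ ?_
  · obtain ⟨α, -, hα⟩ := exists_mem_autInducedBy (P := Q) hs.1 hs.2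
    exact ⟨α, trivial, fun x hx => (hα x hx).symm⟩
  · rw [mor_normalizerSystem hN]
    refine and_congr_right fun _ => and_congr_right fun _ => and_congr_right fun _ =>
      exists_congr fun g => and_congr_right fun hg => and_congr_right fun _ => ?_
    refine ⟨fun h => ?_, fun h y => ⟨fun hy => h.surj hy, ?_⟩⟩
    · obtain ⟨α, hα⟩ := Iso.exists_aut (F := F) (P := Q) (f := g) ⟨hg.mono le_sup_right, h⟩
      exact ⟨α, trivial, fun x hx => (hα x hx).symm⟩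
    · rintro ⟨x, hx, rfl⟩
      exact h.mem hx
  · intro Q' g hg
    obtain ⟨h, hh, hiso, -⟩ := exists_mor_to_fullyNormalized hS hF hQ (isConj_symm hg.isConj)
    obtain ⟨α, hα⟩ := (hg.comp hiso).exists_aut
    refine ⟨_, h, le_inf hg.right_le Subgroup.le_normalizer, hh,
      ⟨α, trivial, fun x hx => (hα x hx).symm⟩, fun s hs hsK => ?_⟩
    obtain ⟨κ, -, hκ⟩ := hsK
    haveI := finite_of_le hg.right_le
    refine ⟨hs, mem_normalizer_of_maps fun y hy => ?_⟩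
    obtain ⟨x, hx, rfl⟩ := hg.exists_eq hy
    rw [hκ x hx]
    exact hg.mem (apl_mem κ hx)

theorem centralizerSystem_saturated (hQ : F.IsFullyCentralized Q)
    {C : FusionSystem (centralizerIn S Q)} (hC : F.IsCentralizerSystem Q C) : C.IsSaturated p := by
  refine kSys_saturated hS hF (K := (⊥ : Subgroup (MulAut Q)))
    ⟨hQ.1, fun s => ⟨fun hs => ⟨hs.1, Subgroup.centralizer_le_normalizer _ hs.2, 1,
      Subgroup.one_mem _, fun x hx => ?_⟩, fun ⟨hs, _, κ, hκ, hx⟩ => ⟨hs, ?_⟩⟩, fun P f => ?_⟩ ?_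
  · show s * x * s⁻¹ = _
    rw [apl_one hx, ← Subgroup.mem_centralizer_iff.1 hs.2 x hx, mul_inv_cancel_right]
  · refine Subgroup.mem_centralizer_iff.2 fun x hxQ => ?_
    have h := hx x hxQ
    rw [Subgroup.mem_bot.1 hκ, apl_one hxQ] at h
    exact (mul_inv_eq_iff_eq_mul.1 h).symm
  · rw [mor_centralizerSystem hC]
    refine and_congr_right fun _ => and_congr_right fun _ => and_congr_right fun _ =>
      exists_congr fun g => and_congr_right fun _ => and_congr_right fun _ => ?_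
    refine ⟨fun h => ⟨1, Subgroup.one_mem _, fun x hx => (h x hx).trans (apl_one hx).symm⟩, ?_⟩
    rintro ⟨κ, hκ, hx⟩ x hxQ
    rw [hx x hxQ, Subgroup.mem_bot.1 hκ, apl_one hxQ]
  · intro Q' g hg
    obtain ⟨g', hg', hgg, -⟩ := hg.symm
    obtain ⟨h, hh, hhf⟩ := (isReceptive_iff.1 (receptive_of_fullyCentralized hS hF hQ)).2 Q' g' hg'
    refine ⟨_, h, hg'.1.le_nPhi, hh, ⟨1, Subgroup.one_mem _, fun x hx => ?_⟩, fun s hs hsK => ?_⟩
    · show h (g x) = _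
      rw [hhf _ (hg.mem hx), hgg x hx, apl_one hx]
    obtain ⟨κ, hκ, hκx⟩ := hsK
    refine centralizerIn_le_nPhi ⟨hs, Subgroup.mem_centralizer_iff.2 fun y hy => ?_⟩
    obtain ⟨x, hx, rfl⟩ := hg.exists_eq hy
    have h1 := hκx x hx
    rw [Subgroup.mem_bot.1 hκ, apl_one hx] at h1
    exact (mul_inv_eq_iff_eq_mul.1 h1).symm

end Instances

end Cfsg.Agent.FusSys
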