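import Cfsg.Agent.FusSys.Abelian
import Cfsg.Agent.FusSys.KNorm

/-!
Systems with a normal subgroup between the derived and the Frattini subgroup.
-/

set_option autoImplicit false

namespace Cfsg.Agent.FusSys

open Cfsg Cfsg.FusionSystem

variable {Ω : Type*} [Group Ω] {S : Subgroup Ω} {F : FusionSystem S} {p : ℕ}

/-- If `Aut_F(S)` is inner, `Q` is normal and `S/Q` is abelian, morphisms are trivial modulo `Q`. -/
theorem mod_trivial_of_abelian_quot [Fact p.Prime] [Finite S] (hS : IsPGroup p S)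
    (hF : F.IsSaturated p) (htop : ∀ α ∈ F.autGroup S, α ∈ autInducedBy S S)
    {Q : Subgroup Ω} (hQ : F.StronglyClosed Q) (hQn : F.IsNormal Q)
    (hc : ∀ a ∈ S, ∀ b ∈ S, a * b * a⁻¹ * b⁻¹ ∈ Q)
    {P : Subgroup Ω} {f : Ω → Ω} (hf : Mor F P f) {x : Ω} (hx : x ∈ P) : x⁻¹ * f x ∈ Q := by
  classical
  haveI : (Q.subgroupOf S).Normal := ⟨fun n hn g => by
    rw [Subgroup.mem_subgroupOf] at hn ⊢
    have h := Subgroup.mul_mem _ (hc g g.2 n n.2) hn
    have e : ((g * n * g⁻¹ : S) : Ω) = ((g : Ω) * n * (g : Ω)⁻¹ * (n : Ω)⁻¹) * n := by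
      simp [mul_assoc]
    rw [e]
    exact h⟩
  set θ := QuotientGroup.mk' (Q.subgroupOf S) with hθ
  have hker : ∀ s : S, θ s = 1 ↔ (s : Ω) ∈ Q := fun s => by
    rw [hθ, QuotientGroup.mk'_apply, QuotientGroup.eq_one_iff, Subgroup.mem_subgroupOf]
  obtain ⟨E, hE⟩ := exists_factorSystem (S' := ⊤) hQ hker (QuotientGroup.range_mk' _)
  have hEs := factor_saturated hS hF hE hQ
  have hS' : IsPGroup p (⊤ : Subgroup (S ⧸ Q.subgroupOf S)) :=
    (hS.to_quotient _).to_subgroup ⊤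
  have hab : ∀ a ∈ (⊤ : Subgroup (S ⧸ Q.subgroupOf S)), ∀ b ∈
      (⊤ : Subgroup (S ⧸ Q.subgroupOf S)), a * b = b * a := by
    intro a _ b _
    obtain ⟨u, rfl⟩ := QuotientGroup.mk'_surjective _ a
    obtain ⟨v, rfl⟩ := QuotientGroup.mk'_surjective _ b
    rw [← map_mul, ← map_mul]
    refine QuotientGroup.eq.2 (Subgroup.mem_subgroupOf.2 ?_)
    have h := hc _ (S.inv_mem v.2) _ (S.inv_mem u.2)
    simp only [inv_inv] at h
    simpa [mul_assoc] using h
  obtain ⟨g, hg, hgf, -⟩ := (isNormal_iff.1 hQn).2 P f hf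
  obtain ⟨I, hI⟩ := hg.exists_iso
  obtain ⟨f', hf', hval⟩ := exists_iso_image hE hQ hI le_sup_right
  haveI : Finite (S ⧸ Q.subgroupOf S) := inferInstance
  obtain ⟨β, hβ, hβf⟩ := exists_extend_abelian hS' hEs hab hf'.1
  have hdom : imageAlong θ S = ⊤ := by
    refine eq_top_iff.2 fun z _ => ?_
    obtain ⟨u, rfl⟩ := QuotientGroup.mk'_surjective _ z
    exact (mem_imageAlong le_rfl).2 ⟨u, u.2, thFn_coe u⟩
  have hg' := iso_apl (F := E) le_rfl hβ
  have hg'' : Iso E (imageAlong θ S) (imageAlong θ S) (apl β) := by rw [hdom]; exact hg'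
  obtain ⟨l, hl, hlval⟩ := exists_iso_lift hE hQ hg''
  have e : preimageAlong θ (imageAlong θ S) = S := by
    rw [preimage_image hker hQ le_rfl, sup_eq_left.2 hQ.1]
  rw [e] at hl hlval
  obtain ⟨α, hα, hαl⟩ := hl.exists_mem_autGroup
  obtain ⟨s, hs, -, hsx⟩ := mem_autInducedBy_iff.1 (htop α hα)
  have hxS : x ∈ S := hf.le hx
  have hxI : x ∈ P ⊔ Q := Subgroup.mem_sup_left hx
  have hlx : l x = s * x * s⁻¹ := by rw [← hαl x hxS, hsx x hxS]
  have h1 : thFn θ (f x) = thFn θ (l x) := by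
    rw [← hlval x hxS, hβf _ ((mem_imageAlong hI.left_le).2 ⟨x, hxI, rfl⟩), hval x hxI, hgf x hx]
  have hfS : f x ∈ S := hf.mem_S hx
  have h4 : thFn θ (f x) = thFn θ x := by
    rw [h1]
    refine ((thFn_eq_iff hker (hl.1.mem_S hxS) hxS).2 ?_)
    rw [hlx]
    have h5 := hc s hs x⁻¹ (S.inv_mem hxS)
    simp only [inv_inv] at h5
    simpa [mul_assoc] using h5
  exact (thFn_eq_iff hker hxS hfS).1 h4.symm


/-- If `Aut_F(S)` is inner and a normal `Q` lies between `S'` and `Φ(S)`, the system is inner. -/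
theorem eq_inner_of_normal_between [Fact p.Prime] [Finite S] (hS : IsPGroup p S)
    (hF : F.IsSaturated p) (htop : ∀ α ∈ F.autGroup S, α ∈ autInducedBy S S)
    {Q : Subgroup Ω} (hQn : F.IsNormal Q) (h1 : (commutator S).map S.subtype ≤ Q)
    (h2 : Q ≤ (frattini S).map S.subtype) : F = innerFusionSystem S := by
  have hc : ∀ a ∈ S, ∀ b ∈ S, a * b * a⁻¹ * b⁻¹ ∈ Q := fun a ha b hb => by
    refine h1 ?_
    rw [map_subtype_commutator_eq]
    exact Subgroup.commutator_mem_commutator ha hb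
  have hQ : F.StronglyClosed Q := stronglyClosed_of_isNormal hQn
  refine (eq_inner_iff_frattini hS hF htop ?_)
  refine stronglyClosed_iff.2 ⟨Subgroup.map_subtype_le _, fun P f hP hf x hx => ?_⟩
  have h3 := h2 (mod_trivial_of_abelian_quot hS hF htop hQ hQn hc hf hx)
  have h4 := Subgroup.mul_mem _ (hP hx) h3
  rwa [mul_inv_cancel_left] at h4

/-- `Q` is normal in its normalizer system. -/
theorem normalizerSystem_isNormal {Q : Subgroup Ω} {N : FusionSystem (normalizerIn S Q)}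
    (hN : F.IsNormalizerSystem Q N) (hQ : Q ≤ S) : N.IsNormal Q := by
  have hQN : Q ≤ normalizerIn S Q := le_inf hQ Subgroup.le_normalizer
  refine isNormal_iff.2 ⟨hQN, fun P f hf => ?_⟩
  obtain ⟨hfF, hP, himg, g, hg, hgf, hgQ⟩ := (mor_normalizerSystem hN).1 hf
  refine ⟨g, (mor_normalizerSystem hN).2 ⟨hg, sup_le hP hQN, fun x hx => ?_, g,
    hg.mono (sup_le le_rfl le_sup_right), fun _ _ => rfl, hgQ⟩, hgf, hgQ⟩
  exact hg.mem_of_sup (fun a ha => (hgf a ha).symm ▸ himg a ha)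
    (fun a ha => hQN ((hgQ _).2 ⟨a, ha, rfl⟩)) hx

end Cfsg.Agent.FusSys
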