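import Cfsg.Agent.FusSys.Unique
import Cfsg.Agent.FusSys.InnerCrit

/-!
Embedding the models of subsystems with a normal centric subgroup into the models of normalizer
systems.
-/

set_option autoImplicit false

namespace Cfsg.Agent.FusSys

open Cfsg Cfsg.FusionSystem

universe u

variable {Ω : Type u} [Group Ω] {S : Subgroup Ω} {F : FusionSystem S} {p : ℕ}

theorem mor_of_sub {T : Subgroup Ω} {D : FusionSystem T} (h : D.IsSubsystemOf F)
    {P : Subgroup Ω} {f : Ω → Ω} (hf : Mor D P f) : Mor F P f := by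
  obtain ⟨φ, hφ, hφf⟩ := hf
  exact ⟨φ, h P hφ, hφf⟩

/-- A normal subgroup which is self-centralizing is centric. -/
theorem centric_of_normal [Finite S] {Q : Subgroup Ω} (hQn : F.IsNormal Q)
    (hc : centralizerIn S Q ≤ Q) : F.IsCentric Q := by
  refine ⟨hQn.1, fun R hR => ?_⟩
  obtain ⟨f, hf⟩ := isConj_iff.1 hR
  have hle : R ≤ Q := fun y hy => by
    obtain ⟨x, hx, rfl⟩ := hf.exists_eq hy
    exact (stronglyClosed_iff.1 (stronglyClosed_of_isNormal hQn)).2 _ _ le_rfl hf.1 x hx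
  rwa [eq_of_le_of_card hQn.1 hle hf.card_eq.le]

/-- The model of a subsystem with normal centric `P` embeds into the model of the normalizer of
any image of `P` under a map defined on all of the subsystem's group. -/
theorem model_embeds [Fact p.Prime] [Finite S] (hS : IsPGroup p S) (hF : F.IsSaturated p)
    {T : Subgroup Ω} {D : FusionSystem T} (hDF : D.IsSubsystemOf F)
    {P P' : Subgroup Ω} (hPc : F.IsCentric P) (hDn : D.IsNormal P)
    {φ : Ω → Ω} (hφ : Mor F T φ) (hPP' : Iso F P P' φ)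
    {N' : FusionSystem (normalizerIn S P')} (hN' : F.IsNormalizerSystem P' N')
    {L L' : Type*} [Group L] [Group L'] {ι : T →* L} (hM : D.IsModel p L ι)
    {ι' : normalizerIn S P' →* L'} (hM' : N'.IsModel p L' ι') :
    ∃ θ : L →* L', Function.Injective θ := by
  classical
  have hTS : T ≤ S := hφ.le
  haveI : Finite T := finite_of_le hTS
  haveI : Finite (normalizerIn S P') := finite_of_le inf_le_left
  haveI : Finite L := hM.1
  haveI : Finite L' := hM'.1
  have hPT : P ≤ T := hDn.1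
  have hTP : T ≤ Subgroup.normalizer (P : Set Ω) :=
    StronglyClosed.le_normalizer (stronglyClosed_of_isNormal hDn)
  have hT' : ∀ x : T, φ x ∈ normalizerIn S P' := fun x =>
    hφ.mem_normalizerIn hPT hPP' x.2 (hTP x.2)
  have hP'T : P' ≤ normalizerIn S P' := le_inf hPP'.right_le Subgroup.le_normalizer
  let φh : T →* normalizerIn S P' :=
    MonoidHom.mk' (fun x => ⟨φ x, hT' x⟩) fun x y => Subtype.ext (hφ.map_mul x.2 y.2)
  let j : T →* L' := ι'.comp φh
  have hjinj : Function.Injective j := fun x y h =>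
    Subtype.ext (hφ.injOn x.2 y.2 (congrArg Subtype.val (hM'.2.1.1 h)))
  have hN'n : N'.IsNormal P' := normalizerSystem_isNormal hN' hPP'.right_le
  have hN'c : N'.IsCentric P' := centric_of_normal hN'n fun z hz =>
    hPc.2 P' hPP'.isConj ⟨hz.1.1, hz.2⟩
  have hcen := model_centralizer hM' hN'n hN'c
  have hDc : D.IsCentric P := centric_of_normal hDn fun z hz =>
    centric_self hPc ⟨hTS hz.1, hz.2⟩
  obtain ⟨prL, hprL, hprLι, hprLs⟩ := exists_autHom hM hDn hTP
  have hkerL : ∀ l, prL l = 1 → ∃ z : T, (z : Ω) ∈ P ∧ ι z = l := fun l hl => by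
    obtain ⟨z, hz, rfl⟩ := model_centralizer hM hDn hDc (x := l)
      (Subgroup.mem_centralizer_iff.2 (by
        rintro _ ⟨x, hx, rfl⟩
        have h1 : l * ι x * l⁻¹ = ι x := (hprL l x hx).trans (congrArg ι (Subtype.ext (by
          show apl (prL l : MulAut P) x = x
          rw [hl]
          exact apl_one hx)))
        calc ι x * l = l * ι x * l⁻¹ * l := by rw [h1]
          _ = l * ι x := by group))
    exact ⟨z, hz, rfl⟩
  let Rel : L' → D.autGroup P → Prop := fun g α => ∀ (x : T) (hx : (x : Ω) ∈ P),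
    g * j x * g⁻¹ = j ⟨apl (α : MulAut P) x, hPT (apl_mem _ hx)⟩
  have hrmul : ∀ g g' α α', Rel g α → Rel g' α' → Rel (g * g') (α * α') := by
    intro g g' α α' h h' x hx
    rw [show g * g' * j x * (g * g')⁻¹ = g * (g' * j x * g'⁻¹) * g⁻¹ by group, h' x hx,
      h ⟨_, hPT (apl_mem _ hx)⟩ (apl_mem _ hx)]
    congr 1
    exact Subtype.ext (apl_mul _ _ hx).symm
  have hrinv : ∀ g α, Rel g α → Rel g⁻¹ α⁻¹ := by
    intro g α h x hx
    have h1 := h ⟨_, hPT (apl_mem ((α⁻¹ : D.autGroup P) : MulAut P) hx)⟩ (apl_mem _ hx)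
    rw [show (⟨apl (α : MulAut P) (apl ((α⁻¹ : D.autGroup P) : MulAut P) x),
        hPT (apl_mem _ (apl_mem _ hx))⟩ : T) = x from Subtype.ext (apl_apl_inv _ hx)] at h1
    rw [← h1]
    group
  let K : Subgroup L' :=
    { carrier := {g | ∃ α, Rel g α}
      one_mem' := ⟨1, fun x hx => by
        rw [one_mul, inv_one, mul_one]
        congr 1
        exact Subtype.ext (apl_one hx).symm⟩
      mul_mem' := fun ⟨α, hα⟩ ⟨α', hα'⟩ => ⟨_, hrmul _ _ _ _ hα hα'⟩
      inv_mem' := fun ⟨α, hα⟩ => ⟨_, hrinv _ _ hα⟩ }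
  have huniq : ∀ g α α', Rel g α → Rel g α' → α = α' := fun g α α' h h' =>
    Subtype.ext (apl_ext fun z hz => congrArg Subtype.val
      (hjinj ((h ⟨z, hPT hz⟩ hz).symm.trans (h' ⟨z, hPT hz⟩ hz))))
  choose f hf using fun g : K => g.2
  let pr : K →* D.autGroup P := MonoidHom.mk' f fun g g' =>
    huniq _ _ _ (hf (g * g')) (hrmul _ _ _ _ (hf g) (hf g'))
  have hrj : ∀ x : T, Rel (j x) (toAut D hPT hTP x) := by
    intro x y hy
    rw [← map_inv, ← map_mul, ← map_mul]
    congr 1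
    exact (Subtype.ext ((apl_toAut _ hy).trans (by simp))).symm
  let ι'' : T →* K := j.codRestrict K fun x => ⟨_, hrj x⟩
  have hprι : ∀ x, pr (ι'' x) = toAut D hPT hTP x := fun x =>
    huniq _ _ _ (hf (ι'' x)) (hrj x)
  have hker : ∀ g, pr g = 1 → ∃ z : T, (z : Ω) ∈ P ∧ ι'' z = g := fun g hg => by
    have hc : (g : L') ∈ (P'.subgroupOf (normalizerIn S P')).map ι' := by
      refine hcen (Subgroup.mem_centralizer_iff.2 ?_)
      rintro _ ⟨y, hy, rfl⟩
      obtain ⟨x, hx, hxy⟩ := hPP'.exists_eq hy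
      have h1 := hf g ⟨x, hPT hx⟩ hx
      rw [show f g = 1 from hg] at h1
      rw [show (⟨apl ((1 : D.autGroup P) : MulAut P) x, hPT (apl_mem _ hx)⟩ : T) = ⟨x, hPT hx⟩
        from Subtype.ext (apl_one hx)] at h1
      rw [show ι' y = j ⟨x, hPT hx⟩ from congrArg ι' (Subtype.ext hxy.symm)]
      calc j ⟨x, hPT hx⟩ * g = g * j ⟨x, hPT hx⟩ * (g : L')⁻¹ * g := by rw [h1]
        _ = g * j ⟨x, hPT hx⟩ := by group
    obtain ⟨y, hy, hyg⟩ := hc
    obtain ⟨z, hz, hzy⟩ := hPP'.exists_eq hy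
    exact ⟨⟨z, hPT hz⟩, hz, Subtype.ext ((congrArg ι' (Subtype.ext hzy)).trans hyg)⟩
  obtain ⟨I, hI⟩ := hφ.exists_iso
  obtain ⟨ψ, hψ, hψφ, hφψ⟩ := hI.symm
  have hsurj : Function.Surjective pr := by
    intro α
    have hαF : Iso F P P (apl (α : MulAut P)) :=
      ⟨mor_of_sub hDF (iso_apl hPT α.2).1, (iso_apl hPT α.2).2⟩
    obtain ⟨β, hβ, hβx⟩ := hαF.exists_mem_autGroup
    have hc := hPP'.conjAut_mem hβ
    have hci := iso_apl hPP'.right_le hc
    have hmor : Mor N' P' (apl (hPP'.conjAut β)) :=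
      (mor_normalizerSystem hN').2 ⟨hci.1, hP'T, fun z hz => hP'T (hci.mem hz), _,
        hci.1.mono (sup_le le_rfl le_rfl), fun _ _ => rfl, hci.2⟩
    obtain ⟨-, -, g, hg⟩ := (mor_realized hM'.2.1).1 hmor
    have hrel : Rel g α := fun x hx => by
      have h1 := hg (φh x) (hPP'.mem hx)
      rw [show ((φh x : normalizerIn S P') : Ω) = φ x from rfl, hPP'.conjAut_apl β hx,
        hβx x hx, show φ (apl (α : MulAut P) x) =
          ((φh ⟨apl (α : MulAut P) x, hPT (apl_mem _ hx)⟩ : normalizerIn S P') : Ω) from rfl,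
        thFn_coe] at h1
      exact h1.symm
    exact ⟨⟨g, α, hrel⟩, huniq _ _ _ (hf _) hrel⟩
  have hidx : ι''.range.index = ι.range.index := by
    have e1 : ι''.range = (toAut D hPT hTP).range.comap pr := by
      refine le_antisymm ?_ ?_
      · rintro _ ⟨x, rfl⟩
        exact ⟨x, (hprι x).symm⟩
      · rintro g ⟨x, hx⟩
        obtain ⟨z, -, hz⟩ := hker ((ι'' x)⁻¹ * g) (by rw [map_mul, map_inv, hprι, hx]; group)
        exact ⟨x * z, by rw [map_mul, hz, mul_inv_cancel_left]⟩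
    have e2 : ι.range = (toAut D hPT hTP).range.comap prL := by
      refine le_antisymm ?_ ?_
      · rintro _ ⟨x, rfl⟩
        exact ⟨x, (hprLι x).symm⟩
      · rintro g ⟨x, hx⟩
        obtain ⟨z, -, hz⟩ := hkerL ((ι x)⁻¹ * g) (by rw [map_mul, map_inv, hprLι, hx]; group)
        exact ⟨x * z, by rw [map_mul, hz, mul_inv_cancel_left]⟩
    rw [e1, e2, Subgroup.index_comap_of_surjective _ hsurj,
      Subgroup.index_comap_of_surjective _ hprLs]
  have hTp : IsPGroup p T := hS.to_le hTS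
  have hdvd : ¬ p ∣ ι''.range.index := by
    obtain ⟨R, hR⟩ := hM.2.2.1
    rw [hidx, ← hR]
    exact R.not_dvd_index
  haveI hNn : ((P.subgroupOf T).map ι'').Normal := ⟨by
    rintro _ ⟨x, hx, rfl⟩ g
    exact ⟨_, apl_mem (f g : MulAut P) hx, Subtype.ext (hf g x hx).symm⟩⟩
  have hCN : Subgroup.centralizer ((P.subgroupOf T).map ι'' : Set K) ≤
      (P.subgroupOf T).map ι'' := by
    intro g hg
    have h1 : pr g = 1 := huniq _ _ _ (hf g) fun x hx => by
      have h2 := congrArg Subtype.val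
        (Subgroup.mem_centralizer_iff.1 hg _ ⟨x, hx, rfl⟩)
      rw [Subgroup.coe_mul, Subgroup.coe_mul] at h2
      rw [← show j x * (g : L') = g * j x from h2]
      refine (mul_inv_cancel_right _ _).trans ?_
      exact congrArg j (Subtype.ext (apl_one hx).symm)
    obtain ⟨z, hz, rfl⟩ := hker g h1
    exact ⟨z, hz, rfl⟩
  have hNp : (P.subgroupOf T).map ι'' ≤ pCore p K :=
    Cfsg.Agent.Core.le_pCore ((hTp.to_subgroup _).map ι'')
  have hι''inj : Function.Injective ι'' := fun x y h => hjinj (congrArg Subtype.val h)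
  have hK : D.IsModel p K ι'' := by
    refine ⟨inferInstance, ⟨hι''inj, fun X hX χ hχ => ⟨fun h => ?_, ?_⟩⟩,
      ⟨(hTp.of_surjective ι''.rangeRestrict ι''.rangeRestrict_surjective).toSylow hdvd, rfl⟩,
      (Subgroup.centralizer_le hNp).trans (hCN.trans hNp)⟩
    · obtain ⟨k, hk, hkf, hkP⟩ := (isNormal_iff.1 hDn).2 X _ (mor_extendFn h)
      obtain ⟨R', hR'⟩ := ((hφ.mono (sup_le hX hPT)).exists_iso)
      obtain ⟨ψ', hψ', hψ'φ, hφψ'⟩ := hR'.symm
      have hkT : ∀ x ∈ X ⊔ P, k x ∈ T := fun x hx => by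
        obtain ⟨χ', hχ', hχ'k⟩ := hk
        exact hχ'k ⟨x, hx⟩ ▸ (D.le_of_mem hχ').2 ⟨x, hx⟩
      have hn : Mor F R' (φ ∘ k ∘ ψ') :=
        (hψ'.1.comp (mor_of_sub hDF hk) fun y hy => hψ'.mem hy).comp hφ
          fun y hy => hkT _ (hψ'.mem hy)
      have hP'R : P' ≤ R' := fun y hy => by
        obtain ⟨x, hx, rfl⟩ := hPP'.exists_eq hy
        exact hR'.mem (Subgroup.mem_sup_right hx)
      have hkP' : ∀ y, y ∈ P' ↔ ∃ x ∈ P', (φ ∘ k ∘ ψ') x = y := by
        intro y
        constructor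
        · intro hy
          obtain ⟨x, hx, rfl⟩ := hPP'.exists_eq hy
          obtain ⟨x₀, hx₀, rfl⟩ := (hkP x).1 hx
          exact ⟨φ x₀, hPP'.mem hx₀, by
            simp only [Function.comp_apply, hψ'φ x₀ (Subgroup.mem_sup_right hx₀)]⟩
        · rintro ⟨x, hx, rfl⟩
          obtain ⟨x₀, hx₀, rfl⟩ := hPP'.exists_eq hx
          simp only [Function.comp_apply, hψ'φ x₀ (Subgroup.mem_sup_right hx₀)]
          exact hPP'.mem ((hkP _).2 ⟨x₀, hx₀, rfl⟩)
      have hR'T : R' ≤ normalizerIn S P' := fun y hy => by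
        obtain ⟨x, hx, rfl⟩ := hR'.exists_eq hy
        exact hT' ⟨x, sup_le hX hPT hx⟩
      have hmor : Mor N' R' (φ ∘ k ∘ ψ') :=
        (mor_normalizerSystem hN').2 ⟨hn, hR'T, fun y hy => hT' ⟨_, hkT _ (hψ'.mem hy)⟩, _,
          hn.mono (sup_le le_rfl hP'R), fun _ _ => rfl, hkP'⟩
      obtain ⟨-, -, g, hg⟩ := (mor_realized hM'.2.1).1 hmor
      have hgk : ∀ (x : T) (hx : (x : Ω) ∈ X ⊔ P),
          g * j x * g⁻¹ = j ⟨k x, hkT _ hx⟩ := fun x hx => by
        have h1 := hg (φh x) (hR'.mem hx)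
        simp only [Function.comp_apply] at h1
        rw [show ((φh x : normalizerIn S P') : Ω) = φ x from rfl, hψ'φ _ hx,
          show φ (k x) = ((φh ⟨k x, hkT _ hx⟩ : normalizerIn S P') : Ω) from rfl, thFn_coe] at h1
        exact h1.symm
      have hkI : Iso D P P k := ⟨hk.mono le_sup_right, hkP⟩
      obtain ⟨α, hα, hαx⟩ := hkI.exists_mem_autGroup
      have hrel : Rel g ⟨α, hα⟩ := fun x hx => by
        rw [hgk x (Subgroup.mem_sup_right hx)]
        congr 1
        exact Subtype.ext (hαx x hx).symm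
      refine ⟨⟨g, _, hrel⟩, fun x => Subtype.ext ?_⟩
      show j _ = g * j _ * g⁻¹
      rw [hgk ⟨x, hX x.2⟩ (Subgroup.mem_sup_left x.2)]
      congr 1
      exact Subtype.ext ((hkf x x.2).trans (extendFn_coe χ x)).symm
    · rintro ⟨g, hg⟩
      set R := X ⊔ P with hRdef
      have hRT : R ≤ T := sup_le hX hPT
      have hgR : ∀ x : T, (x : Ω) ∈ R → ∃ w : T, g * ι'' x * g⁻¹ = ι'' w := by
        intro x hx
        have hle : R ≤ ((ι''.range.comap (MulAut.conj g).toMonoidHom).comap ι'').map T.subtype := by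
          refine sup_le (fun z hz => ⟨⟨z, hX hz⟩, ?_, rfl⟩) fun z hz => ⟨⟨z, hPT hz⟩, ?_, rfl⟩
          · show g * ι'' ⟨z, hX hz⟩ * g⁻¹ ∈ ι''.range
            exact ⟨_, hg ⟨z, hz⟩⟩
          · show g * ι'' ⟨z, hPT hz⟩ * g⁻¹ ∈ ι''.range
            exact ⟨_, (Subtype.ext (hf g ⟨z, hPT hz⟩ hz)).symm⟩
        obtain ⟨y, ⟨w, hw⟩, hyx⟩ := hle hx
        obtain rfl : y = x := Subtype.ext hyx
        exact ⟨w, hw.symm⟩
      obtain ⟨l, hl⟩ := hprLs (pr g)
      have hlR : ∀ x : T, (x : Ω) ∈ R → ∃ w : T, l * ι x * l⁻¹ = ι w := by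
        intro x hx
        obtain ⟨w, hw⟩ := hgR x hx
        have h1 := congrArg pr hw
        rw [map_mul, map_mul, map_inv, hprι, hprι] at h1
        obtain ⟨z, -, hz⟩ := hkerL ((ι w)⁻¹ * (l * ι x * l⁻¹)) (by
          rw [map_mul, map_mul, map_mul, map_inv, map_inv, hprLι, hprLι, hl, h1]
          group)
        exact ⟨w * z, by rw [map_mul, hz, mul_inv_cancel_left]⟩
      have hkD : Mor D R (pullConj ι l) := by
        refine (mor_realized hM.2.1).2 ⟨hRT, fun z hz => ?_, l, fun z hz => ?_⟩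
        · obtain ⟨w, hw⟩ := hlR ⟨z, hRT hz⟩ hz
          exact pullConj_eq hM.2.1.1 hw ▸ w.2
        · obtain ⟨w, hw⟩ := hlR z hz
          rw [pullConj_eq hM.2.1.1 hw, thFn_coe, hw]
      obtain ⟨R', hR'⟩ := (hφ.mono hRT).exists_iso
      have hR'T : R' ≤ normalizerIn S P' := fun y hy => by
        obtain ⟨x, hx, rfl⟩ := hR'.exists_eq hy
        exact hT' ⟨x, hRT hx⟩
      have hgj : ∀ (x w : T), g * ι'' x * g⁻¹ = ι'' w →
          pullConj ι' (g : L') (φ x) = φ w := fun x w h =>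
        pullConj_eq hM'.2.1.1 (x := φh x) (y := φh w) (congrArg Subtype.val h)
      have hn : Mor N' R' (pullConj ι' (g : L')) := by
        refine (mor_realized hM'.2.1).2 ⟨hR'T, fun y hy => ?_, (g : L'), fun y hy => ?_⟩
        · obtain ⟨x, hx, rfl⟩ := hR'.exists_eq hy
          obtain ⟨w, hw⟩ := hgR ⟨x, hRT hx⟩ hx
          rw [hgj ⟨x, hRT hx⟩ w hw]
          exact hT' w
        · obtain ⟨x, hx, hxy⟩ := hR'.exists_eq hy
          obtain ⟨w, hw⟩ := hgR ⟨x, hRT hx⟩ hx
          obtain rfl : φh ⟨x, hRT hx⟩ = y := Subtype.ext hxy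
          rw [show ((φh ⟨x, hRT hx⟩ : normalizerIn S P') : Ω) = φ x from rfl,
            hgj ⟨x, hRT hx⟩ w hw, show φ (w : Ω) = ((φh w : normalizerIn S P') : Ω) from rfl,
            thFn_coe]
          exact (congrArg Subtype.val hw).symm
      have hfF : Mor F R (pullConj ι'' g) := by
        have h1 := ((hφ.mono hRT).comp ((mor_normalizerSystem hN').1 hn).1
          fun x hx => hR'.mem hx).comp hψ.1 fun x hx => ?_
        · refine h1.congr fun x hx => ?_
          obtain ⟨w, hw⟩ := hgR ⟨x, hRT hx⟩ hx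
          simp only [Function.comp_apply]
          rw [hgj ⟨x, hRT hx⟩ w hw, hψφ _ w.2]
          exact pullConj_eq hι''inj (x := ⟨x, hRT hx⟩) hw
        · obtain ⟨w, hw⟩ := hgR ⟨x, hRT hx⟩ hx
          show pullConj ι' (g : L') (φ x) ∈ I
          rw [hgj ⟨x, hRT hx⟩ w hw]
          exact hI.mem w.2
      have hagree : ∀ x ∈ P, pullConj ι'' g x = pullConj ι l x := by
        intro x hx
        rw [pullConj_eq hι''inj (x := ⟨x, hPT hx⟩) (Subtype.ext (hf g ⟨x, hPT hx⟩ hx)),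
          pullConj_eq hM.2.1.1 (x := ⟨x, hPT hx⟩) (hprL l ⟨x, hPT hx⟩ hx)]
        rw [hl]
        rfl
      obtain ⟨z, hz, hzy⟩ := eq_on_centric hS hF (P := R) (Q := P) le_sup_right hPc hfF
        (mor_of_sub hDF hkD) hagree
      have hzR : z ∈ R := Subgroup.mem_sup_right (centric_self hPc hz)
      have hfin : Mor D X (pullConj ι'' g) := by
        have h1 := ((mor_conj (F := D) hRT (hRT (R.inv_mem hzR))).comp hkD
          fun x hx => R.mul_mem (R.mul_mem (R.inv_mem hzR) hx) (R.inv_mem (R.inv_mem hzR)))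
        refine (h1.congr fun x hx => ?_).mono le_sup_left
        simp only [Function.comp_apply]
        rw [hzy _ (R.mul_mem (R.mul_mem (R.inv_mem hzR) hx) (R.inv_mem (R.inv_mem hzR)))]
        congr 1
        group
      refine hfin.hom_eq fun x => ?_
      exact (pullConj_eq hι''inj (x := ⟨x, hX x.2⟩) (hg x).symm).symm
  obtain ⟨e, -⟩ := model_unique hTp (model_constrained hM) hM hK
  exact ⟨K.subtype.comp e.toMonoidHom, (Subtype.val_injective).comp e.injective⟩

end Cfsg.Agent.FusSys
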