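import Cfsg.Agent.FusSys.Saturation
import Cfsg.Agent.FusSys.Normal

/-!
The fusion system of a finite group on a Sylow subgroup.
-/

set_option autoImplicit false

namespace Cfsg.Agent.FusSys

open Cfsg Cfsg.FusionSystem

variable {G : Type*} [Group G] {S : Subgroup G} {P Q R : Subgroup G} {f : G → G} {p : ℕ}

theorem mor_gfs : Mor (groupFusionSystem S) P f ↔
    P ≤ S ∧ (∀ x ∈ P, f x ∈ S) ∧ ∃ g : G, ∀ x ∈ P, f x = g * x * g⁻¹ := by
  constructor
  · rintro ⟨φ, ⟨h1, h2, g, hg⟩, hφf⟩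
    exact ⟨h1, fun x hx => hφf ⟨x, hx⟩ ▸ h2 ⟨x, hx⟩, g,
      fun x hx => (hφf ⟨x, hx⟩).symm.trans (hg ⟨x, hx⟩)⟩
  · rintro ⟨h1, h2, g, hg⟩
    refine ⟨conjHom P g, ⟨h1, fun x => ?_, g, fun _ => rfl⟩, fun x => (hg x x.2).symm⟩
    show g * (x : G) * g⁻¹ ∈ S
    exact hg x x.2 ▸ h2 x x.2

theorem Iso.exists_conj_gfs (hf : Iso (groupFusionSystem S) P Q f) :
    ∃ g : G, (∀ x ∈ P, f x = g * x * g⁻¹) ∧ ∀ x : G, x ∈ P ↔ g * x * g⁻¹ ∈ Q := by
  obtain ⟨-, -, g, hg⟩ := mor_gfs.1 hf.1
  refine ⟨g, hg, fun x => ⟨fun hx => hg x hx ▸ hf.mem hx, fun hx => ?_⟩⟩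
  obtain ⟨z, hz, hzx⟩ := hf.exists_eq hx
  rw [hg z hz] at hzx
  exact mul_left_cancel (mul_right_cancel hzx) ▸ hz

theorem iso_gfs {g : G} (hP : P ≤ S) (hQ : Q ≤ S) (h : ∀ x : G, x ∈ P ↔ g * x * g⁻¹ ∈ Q) :
    Iso (groupFusionSystem S) P Q (fun x => g * x * g⁻¹) := by
  refine ⟨mor_gfs.2 ⟨hP, fun x hx => hQ ((h x).1 hx), g, fun _ _ => rfl⟩, fun y => ⟨fun hy => ?_, ?_⟩⟩
  · exact ⟨g⁻¹ * y * g, (h _).2 (by simpa [mul_assoc] using hy), by group⟩
  · rintro ⟨x, hx, rfl⟩
    exact (h x).1 hx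

theorem autGroup_gfs (hP : P ≤ S) :
    (groupFusionSystem S).autGroup P = autInducedBy ⊤ P := by
  ext α
  rw [mem_autGroup_iff hP, mem_autInducedBy_iff]
  constructor
  · intro h
    obtain ⟨g, hg, hiff⟩ := h.exists_conj_gfs
    exact ⟨g, trivial, Subgroup.mem_normalizer_iff.2 hiff, hg⟩
  · rintro ⟨g, -, hn, hg⟩
    exact (iso_gfs hP hP (Subgroup.mem_normalizer_iff.1 hn)).congr hg

theorem relIndex_normal_dvd {H : Type*} [Group H] [Finite H] (R C : Subgroup H) [C.Normal] :
    R.relIndex C ∣ R.index := by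
  have h1 := Subgroup.relIndex_mul_relIndex (⊥ : Subgroup H) R (R ⊔ C) bot_le le_sup_left
  have h2 := Subgroup.relIndex_mul_relIndex (⊥ : Subgroup H) C (R ⊔ C) bot_le le_sup_right
  have h3 := Subgroup.relIndex_mul_relIndex (⊥ : Subgroup H) (R ⊓ C) R bot_le inf_le_left
  have h4 := Subgroup.relIndex_mul_relIndex (⊥ : Subgroup H) (R ⊓ C) C bot_le inf_le_right
  rw [Subgroup.inf_relIndex_left] at h3
  rw [Subgroup.inf_relIndex_right] at h4
  rw [Subgroup.relIndex_sup_right] at h2
  simp only [Subgroup.relIndex_bot_left] at h1 h2 h3 h4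
  have hC : 0 < C.relIndex R := Nat.pos_of_ne_zero fun h => by
    rw [h, mul_zero] at h3
    exact absurd h3.symm Nat.card_pos.ne'
  have hI : 0 < Nat.card ↥(R ⊓ C) := Nat.card_pos
  have key : Nat.card ↥(R ⊓ C) * C.relIndex R * R.relIndex (R ⊔ C) =
      Nat.card ↥(R ⊓ C) * C.relIndex R * R.relIndex C := by
    rw [h3, h1, ← h2, ← h4, ← h3]
    ring
  rw [← Nat.eq_of_mul_eq_mul_left (Nat.mul_pos hI hC) key]
  exact Subgroup.relIndex_dvd_index_of_le le_sup_left

/-- `R` is a Sylow `p`-subgroup of `H` (for `R` a `p`-group): `R ≤ H` of index prime to `p`. -/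
def SylIn (p : ℕ) (R H : Subgroup G) : Prop := R ≤ H ∧ ¬ p ∣ R.relIndex H

theorem sylIn_iff [Finite G] [Fact p.Prime] {H' : Subgroup G} (hR : IsPGroup p R) (hRH : R ≤ H') :
    SylIn p R H' ↔ ∃ T : Sylow p ↥H', (T : Subgroup ↥H') = R.subgroupOf H' := by
  constructor
  · rintro ⟨-, h⟩
    exact ⟨(hR.comap_subtype : IsPGroup p (R.subgroupOf H')).toSylow h, rfl⟩
  · rintro ⟨T, hT⟩
    refine ⟨hRH, ?_⟩
    show ¬ p ∣ (R.subgroupOf H').index
    rw [← hT]
    exact T.not_dvd_index

variable [Finite G] [Fact p.Prime]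

theorem exists_conj_mem_of_sylIn {H A : Subgroup G} (hR : IsPGroup p R) (h : SylIn p R H)
    (hA : IsPGroup p A) (hAH : A ≤ H) : ∃ m ∈ H, ∀ x ∈ A, m * x * m⁻¹ ∈ R := by
  obtain ⟨T, hT⟩ := (sylIn_iff hR h.1).1 h
  obtain ⟨m, hm⟩ := exists_conj_mem_sylow (hA.comap_subtype : IsPGroup p (A.subgroupOf H)) T
  refine ⟨m, m.2, fun x hx => ?_⟩
  have h1 := hm ⟨x, hAH hx⟩ hx
  rw [hT, Subgroup.mem_subgroupOf] at h1
  exact h1

theorem card_le_of_sylIn {H A : Subgroup G} (hR : IsPGroup p R) (h : SylIn p R H)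
    (hA : IsPGroup p A) (hAH : A ≤ H) : Nat.card A ≤ Nat.card R := by
  obtain ⟨m, -, hm⟩ := exists_conj_mem_of_sylIn hR h hA hAH
  exact Nat.card_le_card_of_injective (fun x : A => (⟨_, hm x x.2⟩ : R))
    fun a b hab => Subtype.ext (mul_left_cancel (mul_right_cancel (congrArg Subtype.val hab)))

theorem sylIn_of_card_le {H A : Subgroup G} (hR : IsPGroup p R) (h : SylIn p R H)
    (hAH : A ≤ H) (hc : Nat.card A = Nat.card R) : SylIn p A H := by
  refine ⟨hAH, ?_⟩
  have h1 := Subgroup.relIndex_mul_relIndex (⊥ : Subgroup G) A H bot_le hAH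
  have h2 := Subgroup.relIndex_mul_relIndex (⊥ : Subgroup G) R H bot_le h.1
  simp only [Subgroup.relIndex_bot_left] at h1 h2
  rw [← h2, hc] at h1
  rw [Nat.eq_of_mul_eq_mul_left Nat.card_pos h1]
  exact h.2

theorem exists_sylIn (p : ℕ) [Fact p.Prime] (H : Subgroup G) :
    ∃ R : Subgroup G, IsPGroup p R ∧ SylIn p R H := by
  let T : Sylow p H := default
  refine ⟨(T : Subgroup H).map H.subtype, T.2.map _, Subgroup.map_subtype_le _, ?_⟩
  have h : ((T : Subgroup H).map H.subtype).subgroupOf H = (T : Subgroup H) :=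
    Subgroup.comap_map_eq_self_of_injective H.subtype_injective _
  show ¬ p ∣ (((T : Subgroup H).map H.subtype).subgroupOf H).index
  rw [h]
  exact T.not_dvd_index

theorem sylIn_inter_normal {H C : Subgroup G} (h : SylIn p R H) (hCH : C ≤ H)
    (hn : (C.subgroupOf H).Normal) : SylIn p (R ⊓ C) C := by
  refine ⟨inf_le_right, fun hd => h.2 (hd.trans ?_)⟩
  rw [Subgroup.inf_relIndex_right, ← Subgroup.relIndex_subgroupOf hCH]
  exact relIndex_normal_dvd _ _

theorem sylIn_mono {H M : Subgroup G} (h : SylIn p R H) (hRM : R ≤ M) (hMH : M ≤ H) :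
    SylIn p R M :=
  ⟨hRM, fun hd => h.2 (hd.trans
    (Dvd.intro _ (Subgroup.relIndex_mul_relIndex R M H hRM hMH)))⟩

theorem centralizer_normal_in_normalizer (P : Subgroup G) :
    ((Subgroup.centralizer (P : Set G)).subgroupOf (Subgroup.normalizer (P : Set G))).Normal := by
  rw [← Subgroup.normalizerMonoidHom_ker]
  exact inferInstance

section Sylow

variable (S : Sylow p G) {P Q : Subgroup G}

theorem isPGroup_sylow : IsPGroup p ↥(S : Subgroup G) := S.2

theorem isPGroup_normalizerIn (P : Subgroup G) : IsPGroup p ↥(normalizerIn (S : Subgroup G) P) :=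
  S.2.to_le inf_le_left

theorem isPGroup_centralizerIn (P : Subgroup G) : IsPGroup p ↥(centralizerIn (S : Subgroup G) P) :=
  S.2.to_le inf_le_left

theorem exists_conj_sylIn_normalizer (hP : P ≤ S) :
    ∃ g : G, P.map (MulAut.conj g).toMonoidHom ≤ S ∧
      SylIn p (normalizerIn (S : Subgroup G) (P.map (MulAut.conj g).toMonoidHom))
        (Subgroup.normalizer ((P.map (MulAut.conj g).toMonoidHom : Subgroup G) : Set G)) := by
  obtain ⟨T, hT, hTN⟩ := exists_sylIn p (Subgroup.normalizer (P : Set G))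
  have hPN : P ≤ Subgroup.normalizer (P : Set G) := Subgroup.le_normalizer
  haveI : (P.subgroupOf (Subgroup.normalizer (P : Set G))).Normal := Subgroup.normal_in_normalizer
  have hPT : P ≤ T := by
    obtain ⟨U, hU⟩ := (sylIn_iff hT hTN.1).1 hTN
    obtain ⟨m, hm⟩ := exists_conj_mem_sylow
      ((S.2.to_le hP).comap_subtype : IsPGroup p (P.subgroupOf (Subgroup.normalizer (P : Set G)))) U
    intro x hx
    have h1 := hm (m⁻¹ * ⟨x, hPN hx⟩ * m)
      ((Subgroup.normal_in_normalizer :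
        (P.subgroupOf (Subgroup.normalizer (P : Set G))).Normal).conj_mem' ⟨x, hPN hx⟩ hx m)
    rw [hU, Subgroup.mem_subgroupOf] at h1
    simpa [mul_assoc] using h1
  obtain ⟨g, hg⟩ := exists_conj_mem_sylow hT S
  refine ⟨g, ?_, ?_⟩
  · rintro _ ⟨x, hx, rfl⟩
    exact hg x (hPT hx)
  · have hnorm : Subgroup.normalizer ((P.map (MulAut.conj g).toMonoidHom : Subgroup G) : Set G) =
        (Subgroup.normalizer (P : Set G)).map (MulAut.conj g).toMonoidHom :=
      (Subgroup.map_equiv_normalizer_eq P (MulAut.conj g)).symm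
    have hinj := (MulAut.conj g).toMonoidHom
    have hle : T.map (MulAut.conj g).toMonoidHom ≤
        normalizerIn (S : Subgroup G) (P.map (MulAut.conj g).toMonoidHom) := by
      refine le_inf ?_ (hnorm.ge.trans' (Subgroup.map_mono hTN.1))
      rintro _ ⟨x, hx, rfl⟩
      exact hg x hx
    refine ⟨inf_le_right, fun hd => hTN.2 ?_⟩
    have h1 := hd.trans (Subgroup.relIndex_dvd_of_le_left _ hle)
    rw [hnorm] at h1
    rwa [Subgroup.relIndex_map_map_of_injective _ _ (MulAut.conj g).injective] at h1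

theorem isFullyNormalized_gfs_iff (hP : P ≤ S) :
    (groupFusionSystem (S : Subgroup G)).IsFullyNormalized P ↔
      SylIn p (normalizerIn (S : Subgroup G) P) (Subgroup.normalizer (P : Set G)) := by
  constructor
  · intro h
    obtain ⟨g, hgS, hg⟩ := exists_conj_sylIn_normalizer S hP
    have hc := h.2 _ (iso_gfs (g := g) hP hgS fun x => by
      simp [Subgroup.mem_map]).isConj
    have e : Nat.card ↥((normalizerIn (S : Subgroup G) P).map (MulAut.conj g).toMonoidHom) =
        Nat.card ↥(normalizerIn (S : Subgroup G) P) :=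
      Subgroup.card_map_of_injective (f := (MulAut.conj g).toMonoidHom) (MulAut.conj g).injective
    have hle : (normalizerIn (S : Subgroup G) P).map (MulAut.conj g).toMonoidHom ≤
        Subgroup.normalizer ((P.map (MulAut.conj g).toMonoidHom : Subgroup G) : Set G) :=
      (Subgroup.map_equiv_normalizer_eq P (MulAut.conj g)).le.trans' (Subgroup.map_mono inf_le_right)
    have h2 := card_le_of_sylIn (isPGroup_normalizerIn S _) hg
      ((isPGroup_normalizerIn S P).map _) hle
    have h3 := sylIn_of_card_le (isPGroup_normalizerIn S _) hg hle (le_antisymm h2 (by rw [e]; exact hc))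
    refine ⟨inf_le_right, fun hd => h3.2 ?_⟩
    rw [show Subgroup.normalizer ((P.map (MulAut.conj g).toMonoidHom : Subgroup G) : Set G) =
      (Subgroup.normalizer (P : Set G)).map (MulAut.conj g).toMonoidHom from
        (Subgroup.map_equiv_normalizer_eq P (MulAut.conj g)).symm,
      Subgroup.relIndex_map_map_of_injective _ _ (MulAut.conj g).injective]
    exact hd
  · intro h
    refine ⟨hP, fun Q hQ => ?_⟩
    obtain ⟨f, hf⟩ := isConj_iff.1 (isConj_symm hQ)
    obtain ⟨g, -, hg⟩ := hf.exists_conj_gfs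
    rw [← Subgroup.card_map_of_injective (K := normalizerIn (S : Subgroup G) Q)
      (f := (MulAut.conj g).toMonoidHom) (MulAut.conj g).injective]
    refine card_le_of_sylIn (isPGroup_normalizerIn S P) h ((isPGroup_normalizerIn S Q).map _) ?_
    rintro _ ⟨a, ha, rfl⟩
    refine Subgroup.mem_normalizer_iff.2 fun y => ?_
    show y ∈ P ↔ g * a * g⁻¹ * y * (g * a * g⁻¹)⁻¹ ∈ P
    have e1 : y = g * (g⁻¹ * y * g) * g⁻¹ := by group
    have e2 : g * a * g⁻¹ * y * (g * a * g⁻¹)⁻¹ = g * (a * (g⁻¹ * y * g) * a⁻¹) * g⁻¹ := by group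
    rw [e2]
    conv_lhs => rw [e1, ← hg, Subgroup.mem_normalizer_iff.1 ha.2, hg]

theorem sylIn_centralizer_of_normalizer
    (h : SylIn p (normalizerIn (S : Subgroup G) P) (Subgroup.normalizer (P : Set G))) :
    SylIn p (centralizerIn (S : Subgroup G) P) (Subgroup.centralizer (P : Set G)) := by
  have h1 := sylIn_inter_normal h (Subgroup.centralizer_le_normalizer (P : Set G))
    (centralizer_normal_in_normalizer P)
  have e : normalizerIn (S : Subgroup G) P ⊓ Subgroup.centralizer (P : Set G) =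
      centralizerIn (S : Subgroup G) P := by
    show (S : Subgroup G) ⊓ _ ⊓ _ = (S : Subgroup G) ⊓ _
    rw [inf_assoc, inf_eq_right.2 (Subgroup.centralizer_le_normalizer (P : Set G))]
  rwa [e] at h1

theorem isFullyCentralized_gfs_iff (hP : P ≤ S) :
    (groupFusionSystem (S : Subgroup G)).IsFullyCentralized P ↔
      SylIn p (centralizerIn (S : Subgroup G) P) (Subgroup.centralizer (P : Set G)) := by
  have key : ∀ {A B : Subgroup G} {g : G}, (∀ x : G, x ∈ A ↔ g * x * g⁻¹ ∈ B) →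
      (Subgroup.centralizer (A : Set G)).map (MulAut.conj g).toMonoidHom =
        Subgroup.centralizer (B : Set G) := by
    intro A B g hg
    ext y
    simp only [Subgroup.mem_map, MulEquiv.coe_toMonoidHom, MulAut.conj_apply,
      Subgroup.mem_centralizer_iff, SetLike.mem_coe]
    constructor
    · rintro ⟨a, ha, rfl⟩ b hb
      have hb' : g⁻¹ * b * g ∈ A := (hg _).2 (by simpa [mul_assoc] using hb)
      calc b * (g * a * g⁻¹) = g * ((g⁻¹ * b * g) * a) * g⁻¹ := by group
        _ = g * (a * (g⁻¹ * b * g)) * g⁻¹ := by rw [ha _ hb']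
        _ = g * a * g⁻¹ * b := by group
    · intro hy
      refine ⟨g⁻¹ * y * g, fun a ha => ?_, by group⟩
      calc a * (g⁻¹ * y * g) = g⁻¹ * ((g * a * g⁻¹) * y) * g := by group
        _ = g⁻¹ * (y * (g * a * g⁻¹)) * g := by rw [hy _ ((hg a).1 ha)]
        _ = g⁻¹ * y * g * a := by group
  constructor
  · intro h
    obtain ⟨g, hgS, hg⟩ := exists_conj_sylIn_normalizer S hP
    have hg' := sylIn_centralizer_of_normalizer S hg
    have hiff : ∀ x : G, x ∈ P ↔ g * x * g⁻¹ ∈ P.map (MulAut.conj g).toMonoidHom := fun x => by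
      simp [Subgroup.mem_map]
    have hc := h.2 _ (iso_gfs (g := g) hP hgS hiff).isConj
    have e : Nat.card ↥((centralizerIn (S : Subgroup G) P).map (MulAut.conj g).toMonoidHom) =
        Nat.card ↥(centralizerIn (S : Subgroup G) P) :=
      Subgroup.card_map_of_injective (f := (MulAut.conj g).toMonoidHom) (MulAut.conj g).injective
    have hle : (centralizerIn (S : Subgroup G) P).map (MulAut.conj g).toMonoidHom ≤
        Subgroup.centralizer ((P.map (MulAut.conj g).toMonoidHom : Subgroup G) : Set G) :=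
      (key hiff).le.trans' (Subgroup.map_mono inf_le_right)
    have h2 := card_le_of_sylIn (isPGroup_centralizerIn S _) hg'
      ((isPGroup_centralizerIn S P).map _) hle
    have h3 := sylIn_of_card_le (isPGroup_centralizerIn S _) hg' hle
      (le_antisymm h2 (by rw [e]; exact hc))
    refine ⟨inf_le_right, fun hd => h3.2 ?_⟩
    rw [← key hiff, Subgroup.relIndex_map_map_of_injective _ _ (MulAut.conj g).injective]
    exact hd
  · intro h
    refine ⟨hP, fun Q hQ => ?_⟩
    obtain ⟨f, hf⟩ := isConj_iff.1 (isConj_symm hQ)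
    obtain ⟨g, -, hg⟩ := hf.exists_conj_gfs
    rw [← Subgroup.card_map_of_injective (K := centralizerIn (S : Subgroup G) Q)
      (f := (MulAut.conj g).toMonoidHom) (MulAut.conj g).injective]
    exact card_le_of_sylIn (isPGroup_centralizerIn S P) h ((isPGroup_centralizerIn S Q).map _)
      ((key hg).le.trans' (Subgroup.map_mono inf_le_right))

/-- The conjugating element can be moved into the centralizer so that a subgroup lands in `S`. -/
theorem exists_centralizer_conj_into (hQ : Q ≤ S)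
    (hN : SylIn p (normalizerIn (S : Subgroup G) Q) (Subgroup.normalizer (Q : Set G)))
    {A : Subgroup G} (hA : IsPGroup p A)
    (hAM : A ≤ normalizerIn (S : Subgroup G) Q ⊔ Subgroup.centralizer (Q : Set G)) :
    ∃ h ∈ Subgroup.centralizer (Q : Set G), ∀ x ∈ A, h * x * h⁻¹ ∈ (S : Subgroup G) := by
  have hM : normalizerIn (S : Subgroup G) Q ⊔ Subgroup.centralizer (Q : Set G) ≤
      Subgroup.normalizer (Q : Set G) :=
    sup_le inf_le_right (Subgroup.centralizer_le_normalizer (Q : Set G))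
  have hnc : normalizerIn (S : Subgroup G) Q ≤
      Subgroup.normalizer (Subgroup.centralizer (Q : Set G) : Set G) := by
    have := centralizer_normal_in_normalizer Q
    exact inf_le_right.trans
      ((Subgroup.normal_subgroupOf_iff_le_normalizer
        (Subgroup.centralizer_le_normalizer (Q : Set G))).1 this)
  obtain ⟨m, hm, hmA⟩ := exists_conj_mem_of_sylIn (isPGroup_normalizerIn S Q)
    (sylIn_mono hN le_sup_left hM) hA hAM
  rw [← SetLike.mem_coe, Subgroup.coe_mul_of_left_le_normalizer_right _ _ hnc] at hm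
  obtain ⟨s, hs, c, hc, rfl⟩ := hm
  refine ⟨c, hc, fun x hx => ?_⟩
  have h2 := (hmA x hx).1
  have e : c * x * c⁻¹ = s⁻¹ * (s * c * x * (s * c)⁻¹) * s := by group
  rw [e]
  exact S.mul_mem (S.mul_mem (S.inv_mem hs.1) h2) hs.1

theorem gfs_receptive (hQ : Q ≤ S)
    (hN : SylIn p (normalizerIn (S : Subgroup G) Q) (Subgroup.normalizer (Q : Set G))) :
    (groupFusionSystem (S : Subgroup G)).IsReceptive Q := by
  refine isReceptive_iff.2 ⟨hQ, fun P f hf => ?_⟩
  obtain ⟨g, hgf, hg⟩ := hf.exists_conj_gfs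
  have hAM : (nPhi (S : Subgroup G) P f).map (MulAut.conj g).toMonoidHom ≤
      normalizerIn (S : Subgroup G) Q ⊔ Subgroup.centralizer (Q : Set G) := by
    rintro _ ⟨a, ⟨haS, han, b, hb, hab⟩, rfl⟩
    have hbn : b ∈ Subgroup.normalizer (Q : Set G) := by
      refine Subgroup.mem_normalizer_fintype (S := (Q : Set G)) fun y hy => ?_
      obtain ⟨x, hx, rfl⟩ := hf.exists_eq hy
      rw [← hab x hx]
      exact hf.mem ((Subgroup.mem_normalizer_iff.1 han x).1 hx)
    have hc : b⁻¹ * (g * a * g⁻¹) ∈ Subgroup.centralizer (Q : Set G) := by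
      refine Subgroup.mem_centralizer_iff.2 fun y hy => ?_
      obtain ⟨x, hx, rfl⟩ := hf.exists_eq hy
      have h1 := hab x hx
      rw [hgf _ ((Subgroup.mem_normalizer_iff.1 han x).1 hx), hgf x hx] at h1
      rw [hgf x hx]
      calc g * x * g⁻¹ * (b⁻¹ * (g * a * g⁻¹))
          = b⁻¹ * (b * (g * x * g⁻¹) * b⁻¹) * (g * a * g⁻¹) := by group
        _ = b⁻¹ * (g * (a * x * a⁻¹) * g⁻¹) * (g * a * g⁻¹) := by rw [h1]
        _ = b⁻¹ * (g * a * g⁻¹) * (g * x * g⁻¹) := by group
    have e : (MulAut.conj g).toMonoidHom a = b * (b⁻¹ * (g * a * g⁻¹)) := by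
      simp [MulAut.conj_apply, mul_assoc]
    rw [e]
    exact Subgroup.mul_mem_sup ⟨hb, hbn⟩ hc
  obtain ⟨h, hh, hhS⟩ := exists_centralizer_conj_into S hQ hN
    ((S.2.to_le (nPhi_le.trans inf_le_left) :
      IsPGroup p ↥(nPhi (S : Subgroup G) P f)).map (MulAut.conj g).toMonoidHom) hAM
  refine ⟨fun x => h * g * x * (h * g)⁻¹, mor_gfs.2 ⟨nPhi_le.trans inf_le_left, fun x hx => ?_,
    h * g, fun _ _ => rfl⟩, fun x hx => ?_⟩
  · have h1 := hhS _ (Subgroup.mem_map.2 ⟨x, hx, rfl⟩)
    show h * g * x * (h * g)⁻¹ ∈ _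
    have e : h * g * x * (h * g)⁻¹ = h * (g * x * g⁻¹) * h⁻¹ := by group
    rwa [e]
  · show h * g * x * (h * g)⁻¹ = f x
    have h1 := Subgroup.mem_centralizer_iff.1 hh (f x) (hf.mem hx)
    rw [hgf x hx] at h1 ⊢
    calc h * g * x * (h * g)⁻¹ = h * (g * x * g⁻¹) * h⁻¹ := by group
      _ = g * x * g⁻¹ * h * h⁻¹ := by rw [h1]
      _ = g * x * g⁻¹ := by group

theorem gfs_fullyAutomized (hQ : Q ≤ S)
    (hN : SylIn p (normalizerIn (S : Subgroup G) Q) (Subgroup.normalizer (Q : Set G))) :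
    (groupFusionSystem (S : Subgroup G)).IsFullyAutomized p Q := by
  refine (fullyAutomized_iff (isPGroup_sylow S) hQ).2 ?_
  show ¬ p ∣ (autInducedBy (S : Subgroup G) Q).relIndex ((groupFusionSystem (S : Subgroup G)).autGroup Q)
  rw [autGroup_gfs hQ, autInducedBy_eq_map, autInducedBy_eq_map, Subgroup.top_subgroupOf]
  refine fun hd => hN.2 (hd.trans ?_)
  have h1 : (normalizerIn (S : Subgroup G) Q).relIndex (Subgroup.normalizer (Q : Set G)) =
      ((S : Subgroup G).subgroupOf (Subgroup.normalizer (Q : Set G))).index := by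
    rw [show normalizerIn (S : Subgroup G) Q = (S : Subgroup G) ⊓ _ from rfl,
      Subgroup.inf_relIndex_right]
    rfl
  rw [h1, ← Subgroup.relIndex_top_right, Subgroup.relIndex_map_map, top_sup_eq]
  exact Subgroup.relIndex_dvd_of_le_left _ le_sup_left

theorem gfs_saturated : (groupFusionSystem (S : Subgroup G)).IsSaturated p := by
  intro P hP
  obtain ⟨g, hgS, hg⟩ := exists_conj_sylIn_normalizer S hP
  refine ⟨_, (iso_gfs (g := g) hP hgS fun x => ?_).isConj, gfs_fullyAutomized S hgS hg, gfs_receptive S hgS hg⟩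
  simp [Subgroup.mem_map]

end Sylow

end Cfsg.Agent.FusSys
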