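import Cfsg.Agent.FusSys.Hyperfocal
import Cfsg.Agent.FusSys.GroupSys
import Cfsg.Agent.Fusion.Transfer

/-!
The hyperfocal subgroup theorem for finite groups.
-/

set_option autoImplicit false

namespace Cfsg.Agent.FusSys

open Cfsg Cfsg.FusionSystem
open scoped commutatorElement

variable {G : Type*} [Group G] [Finite G] {p : ℕ} [Fact p.Prime]

theorem hyperfocal_gfs_le (S : Subgroup G) :
    (groupFusionSystem S).hyperfocalSubgroup p ≤ S ⊓ pResidual p G := by
  refine le_inf (hyperfocal_le _ _) ((Subgroup.closure_le _).2 ?_)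
  rintro _ ⟨P, α, x, hP, hα, rfl⟩
  let N : Subgroup G := Subgroup.normalizer (P : Set G)
  let ρ : N →* (groupFusionSystem S).autGroup P :=
    P.normalizerMonoidHom.codRestrict _ fun n => (autGroup_gfs hP).ge
      (mem_autInducedBy_iff.2 ⟨n, trivial, n.2, fun _ hy => apl_normalizerMonoidHom n hy⟩)
  have hρ : Function.Surjective ρ := by
    rintro ⟨β, hβ⟩
    obtain ⟨g, -, hn, hg⟩ := mem_autInducedBy_iff.1 ((autGroup_gfs hP).le hβ)
    refine ⟨⟨g, hn⟩, Subtype.ext (apl_ext fun y hy => ?_)⟩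
    exact (apl_normalizerMonoidHom ⟨g, hn⟩ hy).trans (hg y hy).symm
  rw [← Cfsg.Agent.Fusion.map_pResidual_of_surjective ρ hρ] at hα
  obtain ⟨n, hn, rfl⟩ := hα
  have hnG : (n : G) ∈ pResidual p G :=
    Cfsg.Agent.Fusion.map_pResidual_le N.subtype (Subgroup.mem_map_of_mem _ hn)
  show (x : G)⁻¹ * ((n : G) * (x : G) * (n : G)⁻¹) ∈ pResidual p G
  have hnor : (pResidual p G).Normal := inferInstance
  have e : (x : G)⁻¹ * ((n : G) * (x : G) * (n : G)⁻¹) =
      (x : G)⁻¹ * (n : G) * (x : G)⁻¹⁻¹ * (n : G)⁻¹ := by group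
  rw [e]
  exact Subgroup.mul_mem _ (hnor.conj_mem _ hnG _) (Subgroup.inv_mem _ hnG)

/-- A normal subgroup `M` of the Sylow subgroup inside `K = S ∩ O^p(G)` with `K ≤ M S'` is `K`. -/
theorem inf_pResidual_le_of_sup (S : Sylow p G) {M : Subgroup (S : Subgroup G)} [M.Normal]
    (hM : M ≤ (pResidual p G).subgroupOf (S : Subgroup G))
    (hle : (pResidual p G).subgroupOf (S : Subgroup G) ≤ M ⊔ commutator (S : Subgroup G)) :
    (pResidual p G).subgroupOf (S : Subgroup G) ≤ M := by
  classical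
  generalize hKdef : (pResidual p G).subgroupOf (S : Subgroup G) = K at *
  haveI hKn : K.Normal := hKdef ▸ inferInstance
  have hstep : K ≤ M ⊔ ⁅K, (⊤ : Subgroup (S : Subgroup G))⁆ := by
    intro k hk
    obtain ⟨L, hL⟩ : ∃ L, L = M ⊔ ⁅K, (⊤ : Subgroup (S : Subgroup G))⁆ := ⟨_, rfl⟩
    rw [← hL]
    haveI : L.Normal := hL ▸ inferInstance
    have hcen : ∀ k ∈ K, QuotientGroup.mk' L k ∈ Subgroup.center ((S : Subgroup G) ⧸ L) := by
      intro k hk
      refine Subgroup.mem_center_iff.2 fun z => ?_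
      obtain ⟨x, rfl⟩ := QuotientGroup.mk'_surjective L z
      rw [← map_mul, ← map_mul]
      refine QuotientGroup.eq.2 ?_
      have h1 : ⁅k⁻¹, x⁻¹⁆ ∈ L := hL ▸ Subgroup.mem_sup_right
        (Subgroup.commutator_mem_commutator (K.inv_mem hk) (Subgroup.mem_top _))
      rw [commutatorElement_def] at h1
      have e : (x * k)⁻¹ * (k * x) = k⁻¹ * x⁻¹ * k⁻¹⁻¹ * x⁻¹⁻¹ := by group
      rwa [e]
    have hrep : ∀ x : (S : Subgroup G), x * ((x : (S : Subgroup G) ⧸ K).out)⁻¹ *
        (((1 : (S : Subgroup G)) : (S : Subgroup G) ⧸ K).out) ∈ K := by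
      intro x
      rw [← QuotientGroup.eq_one_iff, QuotientGroup.mk_mul, QuotientGroup.mk_mul,
        QuotientGroup.mk_inv, QuotientGroup.out_eq', QuotientGroup.out_eq', mul_inv_cancel,
        QuotientGroup.mk_one, one_mul]
    letI : CommGroup (Subgroup.center ((S : Subgroup G) ⧸ L)) :=
      { (inferInstance : Group (Subgroup.center ((S : Subgroup G) ⧸ L))) with
        mul_comm := fun a b =>
          Subtype.ext (Subgroup.mem_center_iff.1 b.2 (a : (S : Subgroup G) ⧸ L)) }
    let c : ↥(S : Subgroup G) → Subgroup.center ((S : Subgroup G) ⧸ L) := fun x =>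
      ⟨QuotientGroup.mk' L (x * ((x : (S : Subgroup G) ⧸ K).out)⁻¹ *
        (((1 : (S : Subgroup G)) : (S : Subgroup G) ⧸ K).out)), hcen _ (hrep x)⟩
    have hck : ∀ k ∈ K, (c k : (S : Subgroup G) ⧸ L) = QuotientGroup.mk' L k := by
      intro k hk
      show QuotientGroup.mk' L _ = _
      rw [(QuotientGroup.eq_one_iff (N := K) k).2 hk, ← QuotientGroup.mk_one, inv_mul_cancel_right]
    have hc : ∀ k ∈ K, ∀ x, c (k * x) = c k * c x := by
      intro k hk x
      refine Subtype.ext ?_
      rw [Subgroup.coe_mul, hck k hk]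
      show QuotientGroup.mk' L _ = _ * QuotientGroup.mk' L _
      rw [← map_mul]
      have e : ((k * x : (S : Subgroup G)) : (S : Subgroup G) ⧸ K) = (x : (S : Subgroup G) ⧸ K) := by
        rw [QuotientGroup.mk_mul, (QuotientGroup.eq_one_iff (N := K) k).2 hk, one_mul]
      rw [e, mul_assoc k, mul_assoc k]
    have hinv : ∀ k ∈ K, ∀ x, c (x * k * x⁻¹) = c k := by
      intro k hk x
      refine Subtype.ext ?_
      rw [hck k hk, hck _ (Subgroup.Normal.conj_mem inferInstance k hk x), map_mul, map_mul,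
        map_inv, Subgroup.mem_center_iff.1 (hcen k hk), mul_inv_cancel_right]
    have hδ : ∀ x y x' y' : (S : Subgroup G), x⁻¹ * x' ∈ K → y⁻¹ * y' ∈ K →
        c (x' * y') = c x' * c y' * (c (x * y) / (c x * c y)) := by
      intro x y x' y' hx hy
      have hk : x' * x⁻¹ ∈ K := by
        have := hKn.conj_mem _ hx x
        rwa [mul_assoc, mul_assoc, ← mul_assoc x x⁻¹, mul_inv_cancel, one_mul] at this
      have hl : y' * y⁻¹ ∈ K := by
        have := hKn.conj_mem _ hy y
        rwa [mul_assoc, mul_assoc, ← mul_assoc y y⁻¹, mul_inv_cancel, one_mul] at this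
      have hcx : c x' = c (x' * x⁻¹) * c x := by rw [← hc _ hk, inv_mul_cancel_right]
      have hcy : c y' = c (y' * y⁻¹) * c y := by rw [← hc _ hl, inv_mul_cancel_right]
      have hxl : x * (y' * y⁻¹) * x⁻¹ ∈ K := hKn.conj_mem _ hl x
      have e : x' * y' = x' * x⁻¹ * ((x * (y' * y⁻¹) * x⁻¹) * (x * y)) := by group
      rw [e, hc _ hk, hc _ hxl, hinv _ hl x, hcx, hcy, div_eq_mul_inv, mul_inv]
      calc c (x' * x⁻¹) * (c (y' * y⁻¹) * c (x * y))
          = c (x' * x⁻¹) * (c (y' * y⁻¹) * c (x * y)) *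
              ((c x * (c x)⁻¹) * (c y * (c y)⁻¹)) := by
            rw [mul_inv_cancel, mul_inv_cancel, mul_one, mul_one]
        _ = _ := by ac_rfl
    -- sections of `G / S` inside `O^p(G)`
    have ht : ∀ q : G ⧸ (S : Subgroup G), ∃ t ∈ pResidual p G, (t : G ⧸ (S : Subgroup G)) = q := by
      intro q
      obtain ⟨g, rfl⟩ := QuotientGroup.mk_surjective q
      have hg : g ∈ pResidual p G ⊔ (S : Subgroup G) := by
        rw [sup_comm, Cfsg.Agent.Fusion.sylow_sup_pResidual]; trivial
      rw [Subgroup.mem_sup_of_normal_left] at hg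
      obtain ⟨m, hm, s, hs, rfl⟩ := hg
      exact ⟨m, hm, QuotientGroup.eq.2 (by rwa [inv_mul_cancel_left])⟩
    choose t htO htq using ht
    have hx : ∀ (g : G) q, (t (g • q))⁻¹ * g * t q ∈ (S : Subgroup G) := by
      intro g q
      rw [mul_assoc, ← QuotientGroup.eq, htq, ← smul_eq_mul, ← MulAction.Quotient.smul_coe, htq]
    let x : G → G ⧸ (S : Subgroup G) → ↥(S : Subgroup G) := fun g q => ⟨_, hx g q⟩
    have hxm : ∀ g h q, x (g * h) q = x g (h • q) * x h q := by
      intro g h q
      refine Subtype.ext ?_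
      show (t ((g * h) • q))⁻¹ * (g * h) * t q =
        ((t (g • h • q))⁻¹ * g * t (h • q)) * ((t (h • q))⁻¹ * h * t q)
      rw [mul_smul]
      group
    have hnor : (pResidual p G).Normal := inferInstance
    have hadapt : ∀ (u : (S : Subgroup G)) q, u⁻¹ * x u q ∈ K := by
      intro u q
      rw [← hKdef, Subgroup.mem_subgroupOf]
      show (u : G)⁻¹ * ((t ((u : G) • q))⁻¹ * (u : G) * t q) ∈ pResidual p G
      have e : (u : G)⁻¹ * ((t ((u : G) • q))⁻¹ * (u : G) * t q) =
          (u : G)⁻¹ * (t ((u : G) • q))⁻¹ * (u : G)⁻¹⁻¹ * t q := by group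
      rw [e]
      exact Subgroup.mul_mem _ (hnor.conj_mem _ (Subgroup.inv_mem _ (htO _)) _) (htO q)
    haveI := Fintype.ofFinite (G ⧸ (S : Subgroup G))
    let T : G → Subgroup.center ((S : Subgroup G) ⧸ L) := fun g => ∏ q, c (x g q)
    have hperm : ∀ (h : G) (f : G ⧸ (S : Subgroup G) → Subgroup.center ((S : Subgroup G) ⧸ L)),
        (∏ q, f (h • q)) = ∏ q, f q := fun h f => Equiv.prod_comp (MulAction.toPerm h) f
    -- on `O^p(G)` the transfer is a homomorphism, hence trivial
    have hres : ∀ m ∈ pResidual p G, ∀ q, x m q ∈ K := by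
      intro m hm q
      rw [← hKdef, Subgroup.mem_subgroupOf]
      exact Subgroup.mul_mem _ (Subgroup.mul_mem _ (Subgroup.inv_mem _ (htO _)) hm) (htO q)
    let θ : pResidual p G →* Subgroup.center ((S : Subgroup G) ⧸ L) :=
      MonoidHom.mk' (fun m => T m) fun m n => by
        show (∏ q, c (x ((m : G) * n) q)) = (∏ q, c (x m q)) * ∏ q, c (x n q)
        rw [← hperm (n : G) (fun q => c (x m q)), ← Finset.prod_mul_distrib]
        exact Finset.prod_congr rfl fun q _ => by rw [hxm, hc _ (hres m m.2 _)]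
    have hA : IsPGroup p (Subgroup.center ((S : Subgroup G) ⧸ L)) :=
      (S.2.to_quotient L).to_subgroup _
    have hθ : ∀ m ∈ pResidual p G, T m = 1 := fun m hm =>
      MonoidHom.mem_ker.1 (Cfsg.Agent.Fusion.pResidual_le_ker θ hA
        ((Cfsg.Agent.Fusion.pResidual_pResidual (G := G) (p := p)).ge
          (Subgroup.mem_top (⟨m, hm⟩ : pResidual p G))))
    -- on `S` it differs from a power of `c` by a homomorphism
    let n := Fintype.card (G ⧸ (S : Subgroup G))
    let ψ : (S : Subgroup G) →* Subgroup.center ((S : Subgroup G) ⧸ L) :=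
      MonoidHom.mk' (fun u => T u / c u ^ n) fun u v => by
        have h1 : T ((u : G) * v) = T u * T v * (c (u * v) / (c u * c v)) ^ n := by
          show (∏ q, c (x ((u : G) * v) q)) =
            (∏ q, c (x u q)) * (∏ q, c (x v q)) * (c (u * v) / (c u * c v)) ^ Fintype.card _
          rw [← hperm (v : G) (fun q => c (x u q)), ← Finset.card_univ, ← Finset.prod_const,
            ← Finset.prod_mul_distrib, ← Finset.prod_mul_distrib]
          exact Finset.prod_congr rfl fun q _ => by
            rw [hxm, hδ u v _ _ (hadapt u _) (hadapt v q)]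
        show T ((u * v : (S : Subgroup G)) : G) / c (u * v) ^ n = _
        rw [Subgroup.coe_mul, h1, div_pow, mul_pow]
        rw [div_eq_mul_inv, div_eq_mul_inv, div_eq_mul_inv, div_eq_mul_inv, mul_inv]
        calc T u * T v * (c (u * v) ^ n * ((c u ^ n)⁻¹ * (c v ^ n)⁻¹)) * (c (u * v) ^ n)⁻¹
            = T u * (c u ^ n)⁻¹ * (T v * (c v ^ n)⁻¹) * (c (u * v) ^ n * (c (u * v) ^ n)⁻¹) := by
              ac_rfl
          _ = _ := by rw [mul_inv_cancel, mul_one]
    have hψK : ∀ u ∈ K, ψ u = (c u ^ n)⁻¹ := fun u hu => by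
      show T u / c u ^ n = _
      rw [← hKdef, Subgroup.mem_subgroupOf] at hu
      rw [hθ _ hu, one_div]
    have hψk : ψ k = 1 := by
      have h := hle hk
      rw [Subgroup.mem_sup_of_normal_left] at h
      obtain ⟨m, hm, z, hz, rfl⟩ := h
      rw [map_mul, MonoidHom.mem_ker.1 (Abelianization.commutator_subset_ker ψ hz), mul_one,
        hψK m (hM hm)]
      have : c m = 1 := Subtype.ext (by
        rw [hck m (hM hm), OneMemClass.coe_one]
        exact (QuotientGroup.eq_one_iff m).2 (hL ▸ Subgroup.mem_sup_left hm))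
      rw [this, one_pow, inv_one]
    have hcn : c k ^ n = 1 := by
      have := hψK k hk
      rwa [hψk, eq_comm, inv_eq_one] at this
    obtain ⟨e, he⟩ := hA (c k)
    have hn : p.Coprime n := by
      refine (Fact.out : p.Prime).coprime_iff_not_dvd.2 ?_
      show ¬ p ∣ Fintype.card (G ⧸ (S : Subgroup G))
      rw [← Nat.card_eq_fintype_card]
      exact S.not_dvd_index
    have : c k = 1 := orderOf_eq_one_iff.1 (Nat.eq_one_of_dvd_coprimes
      (Nat.Coprime.pow_right e hn.symm) (orderOf_dvd_of_pow_eq_one hcn) (orderOf_dvd_of_pow_eq_one he))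
    have h2 := congrArg Subtype.val this
    rw [hck k hk, OneMemClass.coe_one] at h2
    exact (QuotientGroup.eq_one_iff k).1 h2
  haveI : Group.IsNilpotent (S : Subgroup G) := S.2.isNilpotent
  have hmap : ∀ n, K.map (QuotientGroup.mk' M) ≤
      Subgroup.lowerCentralSeries (⊤ : Subgroup ((S : Subgroup G) ⧸ M)) n := by
    intro n
    induction n with
    | zero => exact le_top
    | succ n ih =>
      rw [Subgroup.lowerCentralSeries_succ]
      refine (Subgroup.map_mono hstep).trans ?_
      rw [Subgroup.map_sup, QuotientGroup.map_mk'_self, bot_sup_eq, Subgroup.map_commutator,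
        Subgroup.map_top_of_surjective _ (QuotientGroup.mk'_surjective M)]
      exact Subgroup.commutator_mono ih le_rfl
  obtain ⟨n, hn⟩ := Subgroup.nilpotent_iff_lowerCentralSeries.1
    (inferInstance : Group.IsNilpotent ((S : Subgroup G) ⧸ M))
  intro k hk
  have := hmap n (Subgroup.mem_map_of_mem _ hk)
  rw [hn, Subgroup.mem_bot] at this
  exact (QuotientGroup.eq_one_iff k).1 this

theorem focalSubgroup_le_gfs (S : Subgroup G) :
    S.focalSubgroup ≤ (groupFusionSystem S).focalSubgroup := by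
  rw [Subgroup.focalSubgroup_def, Subgroup.closure_le]
  rintro _ ⟨hgS, x, hx, u, rfl⟩
  have e : u * x⁻¹ * u⁻¹ = x⁻¹ * ⁅x, u⁆ := by rw [commutatorElement_def]; group
  have h2 : Mor (groupFusionSystem S) (Subgroup.zpowers x⁻¹) (fun y => u * y * u⁻¹) := by
    refine mor_gfs.2 ⟨Subgroup.zpowers_le.2 (S.inv_mem hx), fun y hy => ?_, u, fun y _ => rfl⟩
    obtain ⟨k, rfl⟩ := Subgroup.mem_zpowers_iff.1 hy
    rw [← conj_zpow, e]
    exact Subgroup.zpow_mem _ (S.mul_mem (S.inv_mem hx) hgS) k
  have := quot_mem_focal h2 (Subgroup.mem_zpowers x⁻¹)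
  rwa [inv_inv, e, mul_inv_cancel_left] at this

theorem hyperfocal_gfs (S : Sylow p G) :
    (groupFusionSystem (S : Subgroup G)).hyperfocalSubgroup p =
      (S : Subgroup G) ⊓ pResidual p G := by
  refine le_antisymm (hyperfocal_gfs_le _) fun x hx => ?_
  haveI : (((groupFusionSystem (S : Subgroup G)).hyperfocalSubgroup p).subgroupOf
      (S : Subgroup G)).Normal :=
    ⟨fun n hn g => (hyperfocal_conj_iff g.2 n.2).2 hn⟩
  have key := inf_pResidual_le_of_sup S
    (M := ((groupFusionSystem (S : Subgroup G)).hyperfocalSubgroup p).subgroupOf (S : Subgroup G))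
    (fun y hy => (hyperfocal_gfs_le _ hy).2) ?_
  · exact key (x := ⟨x, hx.1⟩) hx.2
  · intro y hy
    have h1 := focalSubgroup_le_gfs _ (Cfsg.Agent.Fusion.inf_pResidual_le_focal S ⟨y.2, hy⟩)
    rw [focal_eq S.2 (gfs_saturated S), ← Subgroup.map_subgroupOf_eq_of_le
        (hyperfocal_le (groupFusionSystem (S : Subgroup G)) p),
      ← map_subtype_commutator_S, ← Subgroup.map_sup] at h1
    obtain ⟨z, hz, hzy⟩ := h1
    rwa [Subtype.ext hzy] at hz
where
  map_subtype_commutator_S {H : Subgroup G} : (commutator H).map H.subtype = ⁅H, H⁆ := by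
    rw [commutator_def, Subgroup.map_commutator, ← MonoidHom.range_eq_map, Subgroup.range_subtype]

end Cfsg.Agent.FusSys
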