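import Cfsg.Agent.FusSys.InvariantAux
import Cfsg.Agent.Fusion.TransferTools

/-!
Normal subsystems of the fusion system of a strictly `p`-constrained group correspond to normal
subgroups (Aschbacher; Broto-Castellana-Grodal-Levi-Oliver).
-/

set_option autoImplicit false

namespace Cfsg.Agent.FusSys

open Cfsg Cfsg.FusionSystem

universe u

variable {G : Type u} [Group G]

/-- The elements acting trivially on `Q/U` (for normal subgroups `U ≤ Q`). -/
def trivQuot (Q U : Subgroup G) [hQ : Q.Normal] [hU : U.Normal] : Subgroup G where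
  carrier := {g | ∀ q ∈ Q, g * q * g⁻¹ * q⁻¹ ∈ U}
  one_mem' := fun q _ => by simp [U.one_mem]
  mul_mem' := by
    intro a b ha hb q hq
    have h1 := hb q hq
    have h2 := ha _ (hQ.conj_mem q hq b)
    have e : a * b * q * (a * b)⁻¹ * q⁻¹ =
        a * (b * q * b⁻¹) * a⁻¹ * (b * q * b⁻¹)⁻¹ * (b * q * b⁻¹ * q⁻¹) := by group
    rw [e]
    exact U.mul_mem h2 h1
  inv_mem' := by
    intro a ha q hq
    have h1 := hU.conj_mem _ (ha _ (hQ.conj_mem q hq a⁻¹)) 1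
    have e : 1 * (a * (a⁻¹ * q * a⁻¹⁻¹) * a⁻¹ * (a⁻¹ * q * a⁻¹⁻¹)⁻¹) * 1⁻¹ =
        (a⁻¹ * q * a⁻¹⁻¹ * q⁻¹)⁻¹ := by group
    rw [e] at h1
    exact inv_mem_iff.1 h1

theorem mem_trivQuot {Q U : Subgroup G} [Q.Normal] [U.Normal] {g : G} :
    g ∈ trivQuot Q U ↔ ∀ q ∈ Q, g * q * g⁻¹ * q⁻¹ ∈ U := Iff.rfl

instance trivQuot_normal {Q U : Subgroup G} [hQ : Q.Normal] [hU : U.Normal] :
    (trivQuot Q U).Normal := by
  refine ⟨fun n hn a q hq => ?_⟩
  have h1 := hU.conj_mem _ (hn _ (hQ.conj_mem q hq a⁻¹)) a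
  have e : a * (n * (a⁻¹ * q * a⁻¹⁻¹) * n⁻¹ * (a⁻¹ * q * a⁻¹⁻¹)⁻¹) * a⁻¹ =
      a * n * a⁻¹ * q * (a * n * a⁻¹)⁻¹ * q⁻¹ := by group
  rwa [e] at h1

theorem mor_sub {H T : Subgroup G} {hTH : T ≤ H} {P : Subgroup G} {f : G → G} :
    Mor (fusionSystemOfSubgroup H T hTH) P f ↔
      P ≤ T ∧ (∀ x ∈ P, f x ∈ T) ∧ ∃ g ∈ H, ∀ x ∈ P, f x = g * x * g⁻¹ := by
  constructor
  · rintro ⟨φ, ⟨h1, h2, g, hgH, hg⟩, hφf⟩
    exact ⟨h1, fun x hx => hφf ⟨x, hx⟩ ▸ h2 ⟨x, hx⟩, g, hgH,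
      fun x hx => (hφf ⟨x, hx⟩).symm.trans (hg ⟨x, hx⟩)⟩
  · rintro ⟨h1, h2, g, hgH, hg⟩
    refine ⟨conjHom P g, ⟨h1, fun x => ?_, g, hgH, fun _ => rfl⟩, fun x => (hg x x.2).symm⟩
    show g * (x : G) * g⁻¹ ∈ T
    exact hg x x.2 ▸ h2 x x.2

theorem apl_conjNormal {U : Subgroup G} [U.Normal] (g : G) {x : G} (hx : x ∈ U) :
    apl (MulAut.conjNormal g : MulAut U) x = g * x * g⁻¹ := by
  rw [apl_apply _ hx]
  exact MulAut.conjNormal_apply g ⟨x, hx⟩

/-- The elements of `G` that act trivially on `Q/U` and on `U` as automorphisms of `E`. -/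
def nmX {T : Subgroup G} (E : FusionSystem T) (Q U : Subgroup G) [Q.Normal] [U.Normal] :
    Subgroup G :=
  (E.autGroup U).comap (MulAut.conjNormal (H := U)) ⊓ trivQuot Q U

set_option linter.unusedSectionVars false
set_option maxHeartbeats 400000

section Main

variable [Finite G] (p : ℕ) [hp : Fact p.Prime] (S : Sylow p G)
variable {T : Subgroup G} (hTS : T ≤ S) {E : FusionSystem T}
variable (hE : E.IsNormalIn (groupFusionSystem (S : Subgroup G)) p)

include hE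

theorem tclosed {t a : G} (ht : t ∈ T) (h : a * t * a⁻¹ ∈ (S : Subgroup G)) : a * t * a⁻¹ ∈ T := by
  have hsc : (groupFusionSystem (S : Subgroup G)).StronglyClosed T := hE.1.2.2.2.1
  refine (stronglyClosed_iff.1 hsc).2 (Subgroup.zpowers t) (fun x => a * x * a⁻¹)
    (Subgroup.zpowers_le.2 ht) ?_ t (Subgroup.mem_zpowers t)
  refine mor_gfs.2 ⟨(Subgroup.zpowers_le.2 ht).trans hsc.1, ?_, a, fun _ _ => rfl⟩
  rintro _ ⟨k, rfl⟩
  show a * t ^ k * a⁻¹ ∈ (S : Subgroup G)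
  rw [← conj_zpow]
  exact Subgroup.zpow_mem _ h k

theorem inter_normal (Q : Subgroup G) [hQ : Q.Normal] (hQS : Q ≤ S) : (T ⊓ Q).Normal :=
  ⟨fun n hn g => ⟨tclosed p S hE hn.1 (hQS (hQ.conj_mem n hn.2 g)), hQ.conj_mem n hn.2 g⟩⟩

/-- `Aut_E(U)` is invariant under the conjugations of `G`, for `U = T ∩ Q` normal in `G`. -/
theorem conj_autGroup_normal {U : Subgroup G} (hUT : U ≤ T) [hU : U.Normal] (g : G)
    {α : MulAut U} (hα : α ∈ E.autGroup U) :
    ∃ γ ∈ E.autGroup U, ∀ x ∈ U, apl γ (g * x * g⁻¹) = g * apl α x * g⁻¹ := by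
  have hsc : (groupFusionSystem (S : Subgroup G)).StronglyClosed T := hE.1.2.2.2.1
  have hTS : T ≤ S := hsc.1
  obtain ⟨b, hb, φ₀, hφ₀, heq⟩ := hE.1.2.2.2.2.2 U hUT (conjHom U g)
    ⟨hUT.trans hTS, fun x => hTS (hUT (hU.conj_mem x x.2 g)), g, fun _ => rfl⟩
  have hm : Mor E U (extendFn φ₀) := mor_extendFn hφ₀
  -- `b` maps `U` onto itself
  have hbU : ∀ y, y ∈ U ↔ ∃ x ∈ U, apl b x = y := by
    obtain ⟨c, hc⟩ := (iso_apl (F := groupFusionSystem (S : Subgroup G)) hTS hb).exists_conj_gfs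
    intro y
    refine ⟨fun hy => ⟨c⁻¹ * y * c, ?_, ?_⟩, fun ⟨x, hx, hxy⟩ => ?_⟩
    · have := hU.conj_mem y hy c⁻¹
      rwa [inv_inv] at this
    · have := hU.conj_mem y hy c⁻¹
      rw [inv_inv] at this
      rw [hc.1 _ (hUT this)]
      group
    · rw [← hxy, hc.1 x (hUT hx)]
      exact hU.conj_mem x hx c
  have hφb : ∀ x ∈ U, g * x * g⁻¹ = apl b (extendFn φ₀ x) := by
    intro x hx
    have h1 := heq ⟨x, hx⟩ ((E.le_of_mem hφ₀).2 ⟨x, hx⟩)
    rw [extendFn_apply φ₀ hx, apl_apply b ((E.le_of_mem hφ₀).2 ⟨x, hx⟩)]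
    exact h1
  have hmU : ∀ x ∈ U, extendFn φ₀ x ∈ U := by
    intro x hx
    obtain ⟨z, hz, hzy⟩ := (hbU _).1 (hU.conj_mem x hx g)
    rw [hφb x hx] at hzy
    have hinj := (iso_apl (F := groupFusionSystem (S : Subgroup G)) hTS hb).1.injOn
    exact hinj (hUT hz) (hm.mem_S hx) hzy ▸ hz
  have hi : Iso E U U (extendFn φ₀) := ⟨hm, fun y => ⟨fun hy => by
    haveI : Finite T := inferInstance
    exact hm.surj_of_card hUT hmU le_rfl hy, fun ⟨x, hx, hxy⟩ => hxy ▸ hmU x hx⟩⟩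
  obtain ⟨a, ha, hax⟩ := hi.exists_mem_autGroup
  obtain ⟨γ, hγ, hγx⟩ := conj_mem_of_invariant hE.1.2.2 hUT hb hbU
    (mul_mem (mul_mem ha hα) (inv_mem ha))
  refine ⟨γ, hγ, fun x hx => ?_⟩
  rw [hφb x hx, hγx _ (hmU x hx), hφb _ (apl_mem α hx), apl_mul _ _ (hmU x hx),
    ← hax x hx, apl_inv_apl a hx, apl_mul _ _ hx, hax _ (apl_mem α hx)]

section Setting

variable {Q U : Subgroup G} [hQn : Q.Normal] [hUn : U.Normal]
variable (hU : U = T ⊓ Q) (hQS : Q ≤ S) (hG : Subgroup.centralizer (Q : Set G) ≤ Q ∧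
  ∀ K : Subgroup G, K.Normal → IsPGroup p K → K ≤ Q)

include hU hQS hG

theorem basic : T ≤ S ∧ U ≤ T ∧ U ≤ Q ∧ IsPGroup p Q ∧ IsPGroup p T := by
  have hTS : T ≤ S := hE.1.2.2.2.1.1
  exact ⟨hTS, hU.le.trans inf_le_left, hU.le.trans inf_le_right, S.2.to_le hQS, S.2.to_le hTS⟩

theorem T_normalized : (S : Subgroup G) ≤ Subgroup.normalizer (T : Set G) :=
  StronglyClosed.le_normalizer hE.1.2.2.2.1

theorem mem_U {x : G} (h1 : x ∈ T) (h2 : x ∈ Q) : x ∈ U := hU.ge ⟨h1, h2⟩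

theorem T_le_trivQuot : T ≤ trivQuot Q U := by
  obtain ⟨hTS, -, -, -, -⟩ := basic p S hE hU hQS hG
  intro t ht q hq
  refine mem_U p S hE hU hQS hG ?_ (Q.mul_mem (hQn.conj_mem q hq t) (Q.inv_mem hq))
  have h1 := (Subgroup.mem_normalizer_iff.1 (T_normalized p S hE hU hQS hG (hQS hq)) t⁻¹).1
    (T.inv_mem ht)
  have e : t * q * t⁻¹ * q⁻¹ = t * (q * t⁻¹ * q⁻¹) := by group
  rw [e]
  exact T.mul_mem ht h1

/-- An element centralizing `U` and acting trivially on `Q/U` lies in `Q`. -/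
theorem mem_Q_of_fix {g : G} (hg : g ∈ trivQuot Q U) (hc : g ∈ Subgroup.centralizer (U : Set G)) :
    g ∈ Q := by
  obtain ⟨-, -, hUQ, hQp, -⟩ := basic p S hE hU hQS hG
  let K : Subgroup G := trivQuot Q U ⊓ Subgroup.centralizer (U : Set G)
  haveI : K.Normal := Subgroup.normal_inf_normal _ _
  obtain ⟨e, he⟩ := IsPGroup.iff_card.1 (hQp.to_le hUQ)
  have hKp : IsPGroup p K := by
    rintro ⟨x, hx1, hx2⟩
    have hpow : x ^ p ^ e ∈ Q := hG.1 (Subgroup.mem_centralizer_iff.2 fun q hq => by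
      have hd : x * q * x⁻¹ * q⁻¹ ∈ U := hx1 q hq
      have h := conj_pow_of_commute (g := x) (d := x * q * x⁻¹ * q⁻¹) (q := q) (by group)
        (show x * _ = _ * x from ((Subgroup.mem_centralizer_iff.1 hx2) _ hd).symm) (p ^ e)
      have h1 : (⟨_, hd⟩ : U) ^ p ^ e = 1 := by rw [← he]; exact pow_card_eq_one'
      rw [show (x * q * x⁻¹ * q⁻¹) ^ p ^ e = 1 from congrArg Subtype.val h1, one_mul,
        mul_inv_eq_iff_eq_mul] at h
      exact h.symm)
    obtain ⟨a, ha⟩ := hQp ⟨_, hpow⟩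
    refine ⟨e + a, Subtype.ext ?_⟩
    show x ^ p ^ (e + a) = 1
    rw [pow_add, pow_mul]
    exact congrArg Subtype.val ha
  exact hG.2 K inferInstance hKp ⟨hg, hc⟩

theorem centralizer_T_le {t : G} (ht : t ∈ T) (hc : t ∈ Subgroup.centralizer (U : Set G)) :
    t ∈ U :=
  mem_U p S hE hU hQS hG ht
    (mem_Q_of_fix p S hE hU hQS hG (T_le_trivQuot p S hE hU hQS hG ht) hc)

theorem exists_conj_of_sub {P : Subgroup G} {f : G → G} (hf : Mor E P f) :
    ∃ g : G, ∀ x ∈ P, f x = g * x * g⁻¹ := by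
  obtain ⟨φ, hφ, hφf⟩ := hf
  obtain ⟨-, -, g, hg⟩ := mor_gfs.1 ⟨φ, hE.1.2.2.1 P hφ, hφf⟩
  exact ⟨g, hg⟩

theorem isConj_U {R : Subgroup G} (h : E.IsConj U R) : R = U := by
  obtain ⟨f, hf⟩ := isConj_iff.1 h
  obtain ⟨g, hg⟩ := exists_conj_of_sub p S hE hU hQS hG hf.1
  ext y
  constructor
  · intro hy
    obtain ⟨x, hx, rfl⟩ := hf.exists_eq hy
    rw [hg x hx]
    exact hUn.conj_mem x hx g
  · intro hy
    have hx := hUn.conj_mem y hy g⁻¹
    rw [inv_inv] at hx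
    have := hf.mem hx
    rw [hg _ hx] at this
    have e : g * (g⁻¹ * y * g) * g⁻¹ = y := by group
    rwa [e] at this

theorem fullyNormalized_U : E.IsFullyNormalized U := by
  obtain ⟨-, hUT, -, -, -⟩ := basic p S hE hU hQS hG
  exact ⟨hUT, fun R hR => by rw [isConj_U p S hE hU hQS hG hR]⟩

theorem centric_U : E.IsCentric U := by
  obtain ⟨-, hUT, -, -, -⟩ := basic p S hE hU hQS hG
  refine ⟨hUT, fun R hR => ?_⟩
  rw [isConj_U p S hE hU hQS hG hR]
  exact fun t ht => centralizer_T_le p S hE hU hQS hG ht.1 ht.2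

theorem T_le_X : T ≤ nmX E Q U := by
  obtain ⟨-, hUT, -, -, -⟩ := basic p S hE hU hQS hG
  intro t ht
  refine ⟨?_, T_le_trivQuot p S hE hU hQS hG ht⟩
  obtain ⟨α, hα, hαx⟩ := exists_mem_autInducedBy (P := U) ht
    (mem_normalizer_of_conj_mem fun x hx => hUn.conj_mem x hx t)
  have e : (MulAut.conjNormal t : MulAut U) = α := apl_ext fun x hx => by
    rw [apl_conjNormal t hx, hαx x hx]
  show (MulAut.conjNormal t : MulAut U) ∈ E.autGroup U
  exact e ▸ autInducedBy_le_autGroup hUT hα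

theorem X_normal : (nmX E Q U).Normal := by
  obtain ⟨-, hUT, -, -, -⟩ := basic p S hE hU hQS hG
  refine ⟨fun n hn g => ⟨?_, (trivQuot_normal (Q := Q) (U := U)).conj_mem n hn.2 g⟩⟩
  obtain ⟨γ, hγ, hγx⟩ := conj_autGroup_normal p S hE hUT g (α := MulAut.conjNormal n) hn.1
  have e : (MulAut.conjNormal (g * n * g⁻¹) : MulAut U) = γ := apl_ext fun x hx => by
    have hy := hUn.conj_mem x hx g⁻¹
    have h1 := hγx _ hy
    rw [apl_conjNormal n hy] at h1
    rw [apl_conjNormal _ hx]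
    have e1 : g * (g⁻¹ * x * g⁻¹⁻¹) * g⁻¹ = x := by group
    rw [e1] at h1
    rw [h1]
    group
  show (MulAut.conjNormal (g * n * g⁻¹) : MulAut U) ∈ E.autGroup U
  exact e ▸ hγ

theorem exists_T_mul {s : G} (hs : s ∈ (S : Subgroup G)) (hsX : s ∈ nmX E Q U) :
    ∃ t ∈ T, t⁻¹ * s ∈ Subgroup.centralizer (U : Set G) ∧ t⁻¹ * s ∈ nmX E Q U ∧ t⁻¹ * s ∈ Q := by
  obtain ⟨hTS, hUT, -, -, hTp⟩ := basic p S hE hU hQS hG
  obtain ⟨-, R, hR⟩ := fullyAutomized_of_fullyNormalized hTp hE.1.1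
    (fullyNormalized_U p S hE hU hQS hG)
  set M : Subgroup G := (S : Subgroup G) ⊓ nmX E Q U with hM
  have hMA : autInducedBy M U ≤ E.autGroup U := by
    intro α hα
    obtain ⟨g, hg, -, hgx⟩ := mem_autInducedBy_iff.1 hα
    have e : α = MulAut.conjNormal g := apl_ext fun x hx => by rw [apl_conjNormal g hx, hgx x hx]
    rw [e]
    exact hg.2.1
  have hMp : IsPGroup p ((autInducedBy M U).subgroupOf (E.autGroup U)) :=
    (isPGroup_autInducedBy (S.2.to_le inf_le_left)).comap_subtype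
  have hle : (R : Subgroup (E.autGroup U)) ≤ (autInducedBy M U).subgroupOf (E.autGroup U) := by
    rw [hR]
    exact fun a ha => autInducedBy_mono (le_inf hTS (T_le_X p S hE hU hQS hG)) ha
  have heq := R.3 hMp hle
  have hn : s ∈ Subgroup.normalizer (U : Set G) :=
    mem_normalizer_of_conj_mem fun x hx => hUn.conj_mem x hx s
  obtain ⟨α, hα, hαx⟩ := exists_mem_autInducedBy (K := M) (P := U) ⟨hs, hsX⟩ hn
  have h1 : (⟨α, hMA hα⟩ : E.autGroup U) ∈ (R : Subgroup (E.autGroup U)) := heq ▸ hα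
  rw [autInducedBy_subgroupOf_eq R hR, mem_autInducedBy_iff] at h1
  obtain ⟨t, ht, -, htx⟩ := h1
  have hc : t⁻¹ * s ∈ Subgroup.centralizer (U : Set G) := by
    refine Subgroup.mem_centralizer_iff.2 fun x hx => ?_
    have h2 : s * x * s⁻¹ = t * x * t⁻¹ := (hαx x hx).symm.trans (htx x hx)
    calc x * (t⁻¹ * s) = t⁻¹ * (t * x * t⁻¹) * s := by group
      _ = t⁻¹ * (s * x * s⁻¹) * s := by rw [h2]
      _ = t⁻¹ * s * x := by group
  have hX := mul_mem (inv_mem (T_le_X p S hE hU hQS hG ht)) hsX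
  exact ⟨t, ht, hc, hX, mem_Q_of_fix p S hE hU hQS hG hX.2 hc⟩

theorem conj_diff_mem {a s : G} (ha : a ∈ nmX E Q U) (hs : s ∈ (S : Subgroup G))
    (hsX : s ∈ nmX E Q U) (has : a * s * a⁻¹ ∈ (S : Subgroup G)) : a * s * a⁻¹ * s⁻¹ ∈ T := by
  obtain ⟨hTS, hUT, -, -, -⟩ := basic p S hE hU hQS hG
  obtain ⟨t, ht, -, -, hcQ⟩ := exists_T_mul p S hE hU hQS hG hs hsX
  have hu : a * (t⁻¹ * s) * a⁻¹ * (t⁻¹ * s)⁻¹ ∈ T := hUT (ha.2 _ hcQ)
  have h1 : a * t * a⁻¹ ∈ T := by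
    refine tclosed p S hE ht ?_
    have e : a * t * a⁻¹ = a * s * a⁻¹ * (a * (t⁻¹ * s) * a⁻¹)⁻¹ := by group
    rw [e]
    exact (S : Subgroup G).mul_mem has ((S : Subgroup G).inv_mem (hQS (hQn.conj_mem _ hcQ a)))
  have e : a * s * a⁻¹ * s⁻¹ = a * t * a⁻¹ * (a * (t⁻¹ * s) * a⁻¹ * (t⁻¹ * s)⁻¹) * t⁻¹ := by group
  rw [e]
  exact T.mul_mem (T.mul_mem h1 hu) (T.inv_mem ht)

theorem residual_inter_S {x : nmX E Q U} (hx : x ∈ pResidual p (nmX E Q U))
    (hxS : (x : G) ∈ (S : Subgroup G)) : (x : G) ∈ T := by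
  haveI := X_normal p S hE hU hQS hG
  let P : Subgroup (nmX E Q U) := (S : Subgroup G).subgroupOf (nmX E Q U)
  let N : Subgroup P := (T.subgroupOf (nmX E Q U)).subgroupOf P
  haveI hN : N.Normal := ⟨fun n hn g => by
    show ((g : ↥(nmX E Q U)) : G) * ((n : ↥(nmX E Q U)) : G) * ((g : ↥(nmX E Q U)) : G)⁻¹ ∈ T
    exact (Subgroup.mem_normalizer_iff.1 (T_normalized p S hE hU hQS hG g.2) _).1 hn⟩
  have hcomm : ∀ a b : P ⧸ N, a * b = b * a := by
    intro a b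
    obtain ⟨a, rfl⟩ := QuotientGroup.mk_surjective a
    obtain ⟨b, rfl⟩ := QuotientGroup.mk_surjective b
    rw [← QuotientGroup.mk_mul, ← QuotientGroup.mk_mul, QuotientGroup.eq]
    show ((((a * b)⁻¹ * (b * a) : P) : ↥(nmX E Q U)) : G) ∈ T
    have h := conj_diff_mem p S hE hU hQS hG (inv_mem (b : ↥(nmX E Q U)).2) ((S : Subgroup G).inv_mem a.2)
      (inv_mem (a : ↥(nmX E Q U)).2) ((S : Subgroup G).mul_mem
        ((S : Subgroup G).mul_mem ((S : Subgroup G).inv_mem b.2) ((S : Subgroup G).inv_mem a.2))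
        ((S : Subgroup G).inv_mem ((S : Subgroup G).inv_mem b.2)))
    push_cast
    have e : ((((a : ↥(nmX E Q U)) : G) * ((b : ↥(nmX E Q U)) : G))⁻¹ * (((b : ↥(nmX E Q U)) : G) * ((a : ↥(nmX E Q U)) : G))) =
        ((b : ↥(nmX E Q U)) : G)⁻¹ * ((a : ↥(nmX E Q U)) : G)⁻¹ * ((b : ↥(nmX E Q U)) : G)⁻¹⁻¹ * ((a : ↥(nmX E Q U)) : G)⁻¹⁻¹ := by group
    rw [e]
    exact h
  letI : CommGroup (P ⧸ N) := { (inferInstance : Group (P ⧸ N)) with mul_comm := hcomm }
  have key := Cfsg.Agent.Fusion.transfer_apply_eq_pow (QuotientGroup.mk' N) (⟨x, hxS⟩ : P)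
    (fun k a hk => by
      show QuotientGroup.mk' N _ = QuotientGroup.mk' N _
      rw [QuotientGroup.mk'_apply, QuotientGroup.mk'_apply, eq_comm, QuotientGroup.eq]
      have h := conj_diff_mem p S hE hU hQS hG a.2 ((S : Subgroup G).pow_mem hxS k)
        ((nmX E Q U).pow_mem x.2 k) hk
      show (((⟨x, hxS⟩ : P) ^ k)⁻¹ * ⟨a * (x : ↥(nmX E Q U)) ^ k * a⁻¹, hk⟩ : P).1.1 ∈ T
      push_cast
      have h2 := (Subgroup.mem_normalizer_iff.1 (T_normalized p S hE hU hQS hG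
        ((S : Subgroup G).inv_mem ((S : Subgroup G).pow_mem hxS k))) _).1 h
      have e : ((x : G) ^ k)⁻¹ * ((a : G) * (x : G) ^ k * (a : G)⁻¹) =
          ((x : G) ^ k)⁻¹ * ((a : G) * (x : G) ^ k * (a : G)⁻¹ * ((x : G) ^ k)⁻¹) *
            (((x : G) ^ k)⁻¹)⁻¹ := by group
      rw [e]
      exact h2)
  have hA : IsPGroup p (P ⧸ N) := (S.2.comap_subtype : IsPGroup p P).of_surjective (QuotientGroup.mk' N)
      (QuotientGroup.mk'_surjective N)
  have h0 : MonoidHom.transfer (QuotientGroup.mk' N) x = 1 :=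
    Cfsg.Agent.Fusion.pResidual_le_ker _ hA hx
  rw [h0] at key
  have hidx : ¬ p ∣ P.index := fun hd => S.not_dvd_index (hd.trans (relIndex_normal_dvd _ _))
  obtain ⟨k, hk⟩ := IsPGroup.iff_orderOf.1 hA (QuotientGroup.mk' N ⟨x, hxS⟩)
  have h2 : orderOf (QuotientGroup.mk' N (⟨x, hxS⟩ : P)) = 1 :=
    Nat.eq_one_of_dvd_coprimes
      (Nat.Coprime.pow_left k ((Nat.Prime.coprime_iff_not_dvd hp.out).2 hidx))
      hk.dvd (orderOf_dvd_iff_pow_eq_one.2 key.symm)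
  rw [orderOf_eq_one_iff, QuotientGroup.mk'_apply, QuotientGroup.eq_one_iff] at h2
  exact h2

/-- Elements of order prime to `p` inducing an element of `Aut_E(T)` that extends to `T C_S(T)`
trivially modulo `Z(T)` act trivially on `Q/U`. -/
theorem pPrime_trivQuot {g : G} {n : ℕ} (hn : ¬ p ∣ n) (hgn : g ^ n = 1) {α : MulAut T}
    (hα : α ∈ E.autGroup T) (hgT : ∀ x ∈ T, apl α x = g * x * g⁻¹)
    (hgC : ∀ c ∈ centralizerIn (S : Subgroup G) T, c⁻¹ * (g * c * g⁻¹) ∈ T) :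
    g ∈ trivQuot Q U := by
  obtain ⟨hTS, hUT, hUQ, hQp, hTp⟩ := basic p S hE hU hQS hG
  have hgTT : ∀ x ∈ T, g * x * g⁻¹ ∈ T := fun x hx => hgT x hx ▸ apl_mem α hx
  -- `[g, Q] ≤ T C_S(T)`
  have h1 : ∀ q ∈ Q, ∃ t ∈ T, t⁻¹ * (g * q * g⁻¹ * q⁻¹) ∈ centralizerIn (S : Subgroup G) T := by
    intro q hq
    have hqn : q ∈ Subgroup.normalizer (T : Set G) := T_normalized p S hE hU hQS hG (hQS hq)
    obtain ⟨b, hb, hbx⟩ := exists_mem_autInducedBy (P := T) (hQS hq) hqn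
    obtain ⟨γ, hγ, hγx⟩ := conj_mem_of_invariant hE.1.2.2 le_rfl
      (autInducedBy_le_autGroup hTS hb) (fun y => ⟨fun hy =>
        ⟨q⁻¹ * y * q, (Subgroup.mem_normalizer_iff''.1 hqn y).1 hy, by
          rw [hbx _ ((Subgroup.mem_normalizer_iff''.1 hqn y).1 hy)]; group⟩,
        fun ⟨x, hx, hxy⟩ => hxy ▸ apl_mem b hx⟩) (inv_mem hα)
    have hd : g * q * g⁻¹ * q⁻¹ ∈ Q := Q.mul_mem (hQn.conj_mem q hq g) (Q.inv_mem hq)
    have hdx : ∀ x ∈ T, apl (α * γ) x =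
        (g * q * g⁻¹ * q⁻¹) * x * (g * q * g⁻¹ * q⁻¹)⁻¹ := by
      intro x hx
      have hy := (Subgroup.mem_normalizer_iff''.1 hqn x).1 hx
      have hz : g⁻¹ * (q⁻¹ * x * q) * g ∈ T :=
        (Subgroup.mem_normalizer_iff''.1 (mem_normalizer_of_conj_mem hgTT) _).1 hy
      have hinv : apl α⁻¹ (q⁻¹ * x * q) = g⁻¹ * (q⁻¹ * x * q) * g := by
        have h := apl_inv_apl α hz
        rw [hgT _ hz] at h
        have e : g * (g⁻¹ * (q⁻¹ * x * q) * g) * g⁻¹ = q⁻¹ * x * q := by group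
        rwa [e] at h
      have h := hγx _ hy
      rw [hbx _ hy, hinv, hbx _ hz] at h
      have e : q * (q⁻¹ * x * q) * q⁻¹ = x := by group
      rw [e] at h
      rw [apl_mul _ _ hx, h, hgT _ ((Subgroup.mem_normalizer_iff.1 hqn _).1 hz)]
      group
    obtain ⟨k, hk⟩ := hQp ⟨_, hd⟩
    have hdk : (g * q * g⁻¹ * q⁻¹) ^ p ^ k = 1 := congrArg Subtype.val hk
    have hpow : ∀ m : ℕ, ∀ x ∈ T, apl ((α * γ) ^ m) x =
        (g * q * g⁻¹ * q⁻¹) ^ m * x * ((g * q * g⁻¹ * q⁻¹) ^ m)⁻¹ := by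
      intro m
      induction m with
      | zero => intro x hx; rw [pow_zero, apl_one hx]; simp
      | succ m ih =>
        intro x hx
        rw [pow_succ' (α * γ), apl_mul _ _ hx, hdx _ (apl_mem _ hx), ih x hx, pow_succ']
        generalize g * q * g⁻¹ * q⁻¹ = d
        group
    obtain ⟨t, ht⟩ := mem_inn_of_pow hTp hE.1.1 (mul_mem hα hγ)
      (apl_ext fun x hx => by rw [hpow _ x hx, hdk, apl_one hx]; simp)
    refine ⟨t, t.2, (S : Subgroup G).mul_mem ((S : Subgroup G).inv_mem (hTS t.2)) (hQS hd),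
      Subgroup.mem_centralizer_iff.2 fun x hx => ?_⟩
    have h2 := hdx x hx
    rw [← ht, apl_conj t hx] at h2
    calc x * ((t : G)⁻¹ * (g * q * g⁻¹ * q⁻¹))
        = (t : G)⁻¹ * ((t : G) * x * (t : G)⁻¹) * (g * q * g⁻¹ * q⁻¹) := by group
      _ = (t : G)⁻¹ * ((g * q * g⁻¹ * q⁻¹) * x * (g * q * g⁻¹ * q⁻¹)⁻¹) *
          (g * q * g⁻¹ * q⁻¹) := by rw [h2]
      _ = (t : G)⁻¹ * (g * q * g⁻¹ * q⁻¹) * x := by group
  intro q hq
  obtain ⟨t, ht, htc⟩ := h1 q hq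
  set d := g * q * g⁻¹ * q⁻¹ with hdd
  have hd : d ∈ Q := Q.mul_mem (hQn.conj_mem q hq g) (Q.inv_mem hq)
  have h2 : g * d * g⁻¹ * d⁻¹ ∈ U := by
    refine mem_U p S hE hU hQS hG ?_ (Q.mul_mem (hQn.conj_mem d hd g) (Q.inv_mem hd))
    have e : g * d * g⁻¹ * d⁻¹ =
        g * t * g⁻¹ * ((t⁻¹ * d) * ((t⁻¹ * d)⁻¹ * (g * (t⁻¹ * d) * g⁻¹)) * (t⁻¹ * d)⁻¹) * t⁻¹ := by
      group
    rw [e]
    refine T.mul_mem (T.mul_mem (hgTT t ht) ?_) (T.inv_mem ht)
    exact (Subgroup.mem_normalizer_iff.1 (T_normalized p S hE hU hQS hG htc.1) _).1 (hgC _ htc)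
  -- pass to `G/U`
  set π := QuotientGroup.mk' U with hπ
  have hcomm : Commute (π g) (π d) := by
    have h3 : π (g * d * g⁻¹ * d⁻¹) = 1 := by
      rw [hπ, QuotientGroup.mk'_apply, QuotientGroup.eq_one_iff]; exact h2
    rw [map_mul, map_mul, map_mul, map_inv, map_inv, mul_inv_eq_one, mul_inv_eq_iff_eq_mul] at h3
    exact h3
  have hconj : π g * π q * (π g)⁻¹ = π d * π q := by
    rw [← map_inv, ← map_mul, ← map_mul, ← map_mul, hdd]
    congr 1
    group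
  have h4 := conj_pow_of_commute hconj hcomm n
  rw [← map_pow, ← map_pow, hgn, map_one] at h4
  have h5 : π d ^ n = 1 := by
    rw [← map_pow]
    simpa using h4
  obtain ⟨k, hk⟩ := hQp ⟨d, hd⟩
  have h6 : π d ^ p ^ k = 1 := by
    rw [← map_pow, show d ^ p ^ k = 1 from congrArg Subtype.val hk, map_one]
  have h7 : orderOf (π d) = 1 := Nat.eq_one_of_dvd_coprimes
    (Nat.Coprime.pow_left k ((Nat.Prime.coprime_iff_not_dvd hp.out).2 hn))
    (orderOf_dvd_of_pow_eq_one h6) (orderOf_dvd_of_pow_eq_one h5)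
  rw [orderOf_eq_one_iff, hπ, QuotientGroup.mk'_apply, QuotientGroup.eq_one_iff] at h7
  exact h7

theorem top_le : E.autGroup T ≤ autInducedBy (nmX E Q U) T := by
  obtain ⟨hTS, hUT, hUQ, hQp, hTp⟩ := basic p S hE hU hQS hG
  rw [autGroup_eq_residual_sup hTp hE.1.1 ⟨le_rfl, fun R hR => by
    refine Subgroup.card_le_of_le (le_inf inf_le_left ?_)
    exact inf_le_left.trans Subgroup.le_normalizer⟩]
  refine sup_le ?_ (autInducedBy_mono (T_le_X p S hE hU hQS hG))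
  rw [Subgroup.map_le_iff_le_comap, pResidual, Subgroup.closure_le]
  intro α hαc
  have hαT := iso_apl (F := E) le_rfl α.2
  obtain ⟨β, hβ, hβT, hβC⟩ := hE.2 α α.2
  obtain ⟨g, hgx, -⟩ := (iso_apl (F := groupFusionSystem (S : Subgroup G))
    (sup_le hTS inf_le_left) hβ).exists_conj_gfs
  have hgT : ∀ x ∈ T, apl (α : MulAut T) x = g * x * g⁻¹ := fun x hx => by
    rw [apl_apply _ hx, ← hβT ⟨x, hx⟩]
    exact (apl_apply β (Subgroup.mem_sup_left hx)).symm.trans (hgx _ (Subgroup.mem_sup_left hx))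
  have hgC : ∀ c ∈ centralizerIn (S : Subgroup G) T, c⁻¹ * (g * c * g⁻¹) ∈ T := fun c hc => by
    have h : c⁻¹ * ((β ⟨c, Subgroup.mem_sup_right hc⟩ :
        ↥(T ⊔ centralizerIn (S : Subgroup G) T)) : G) ∈ T :=
      (hβC ⟨c, Subgroup.mem_sup_right hc⟩ hc).1
    have e1 := apl_apply β (Subgroup.mem_sup_right (S := T) hc)
    have e2 : apl β c = g * c * g⁻¹ := hgx c (Subgroup.mem_sup_right hc)
    rw [← e1, e2] at h
    exact h
  have hpow : ∀ k : ℕ, (∀ x ∈ T, apl ((α : MulAut T) ^ k) x = g ^ k * x * (g ^ k)⁻¹) ∧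
      ∀ c ∈ centralizerIn (S : Subgroup G) T, c⁻¹ * (g ^ k * c * (g ^ k)⁻¹) ∈ T := by
    intro k
    induction k with
    | zero => exact ⟨fun x hx => by rw [pow_zero, apl_one hx]; simp, fun c _ => by simp [T.one_mem]⟩
    | succ k ih =>
      refine ⟨fun x hx => ?_, fun c hc => ?_⟩
      · rw [pow_succ' (α : MulAut T), apl_mul _ _ hx, hgT _ (apl_mem _ hx), ih.1 x hx, pow_succ']
        group
      · have h1 := hgC c hc
        have h2 := ih.2 c hc
        have h3 : g * (c⁻¹ * (g ^ k * c * (g ^ k)⁻¹)) * g⁻¹ ∈ T := hgT _ h2 ▸ apl_mem _ h2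
        have h4 := T.mul_mem h1 h3
        have e : c⁻¹ * (g * c * g⁻¹) * (g * (c⁻¹ * (g ^ k * c * (g ^ k)⁻¹)) * g⁻¹) =
            c⁻¹ * (g ^ (k + 1) * c * (g ^ (k + 1))⁻¹) := by
          rw [pow_succ']; group
        rwa [e] at h4
  obtain ⟨a, m, hm, hord⟩ := Nat.exists_eq_pow_mul_and_not_dvd
    (orderOf_pos g).ne' p hp.out.ne_one
  have hco : Nat.Coprime (p ^ a) (orderOf α) := Nat.Coprime.pow_left a (Nat.Coprime.symm hαc)
  obtain ⟨k, hk1, hk2⟩ := Nat.chineseRemainder hco 0 1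
  have hαk : (α : MulAut T) ^ k = (α : MulAut T) := by
    rw [← SubmonoidClass.coe_pow]
    refine congrArg Subtype.val ?_
    conv_rhs => rw [← pow_one α]
    exact pow_eq_pow_iff_modEq.2 hk2
  have hgn : (g ^ k) ^ m = 1 := by
    obtain ⟨j, rfl⟩ := Nat.modEq_zero_iff_dvd.1 hk1
    rw [← pow_mul, mul_right_comm, ← hord, pow_mul, pow_orderOf_eq_one, one_pow]
  have hgT' : ∀ x ∈ T, apl (α : MulAut T) x = g ^ k * x * (g ^ k)⁻¹ := fun x hx => by
    rw [← (hpow k).1 x hx, hαk]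
  have htriv := pPrime_trivQuot p S hE hU hQS hG hm hgn α.2 hgT' (hpow k).2
  show (α : MulAut T) ∈ autInducedBy (nmX E Q U) T
  refine mem_autInducedBy_iff.2 ⟨g ^ k, ⟨?_, htriv⟩,
    mem_normalizer_of_conj_mem fun x hx => hgT' x hx ▸ apl_mem _ hx, hgT'⟩
  -- the restriction of `α` to `U`
  have hUU : ∀ x ∈ U, apl (α : MulAut T) x ∈ U := fun x hx =>
    hgT' x (hUT hx) ▸ hUn.conj_mem x hx _
  have hi : Iso E U U (apl (α : MulAut T)) := ⟨hαT.1.mono hUT, fun y => ⟨fun hy =>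
    (hαT.1.mono hUT).surj_of_card hUT hUU le_rfl hy, fun ⟨x, hx, hxy⟩ => hxy ▸ hUU x hx⟩⟩
  obtain ⟨α', hα', hα'x⟩ := hi.exists_mem_autGroup
  have e : (MulAut.conjNormal (g ^ k) : MulAut U) = α' := apl_ext fun x hx => by
    rw [apl_conjNormal _ hx, hα'x x hx, hgT' x (hUT hx)]
  show (MulAut.conjNormal (g ^ k) : MulAut U) ∈ E.autGroup U
  exact e ▸ hα'

theorem exists_X_of_aut {α : MulAut U} (hα : α ∈ E.autGroup U) :
    ∃ x ∈ nmX E Q U, ∀ u ∈ U, apl α u = x * u * x⁻¹ := by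
  obtain ⟨hTS, hUT, hUQ, hQp, hTp⟩ := basic p S hE hU hQS hG
  haveI := X_normal p S hE hU hQS hG
  have hUf := fullyNormalized_U p S hE hU hQS hG
  obtain ⟨-, R, hR⟩ := fullyAutomized_of_fullyNormalized hTp hE.1.1 hUf
  have hle : autInducedBy (nmX E Q U) U ≤ E.autGroup U := by
    intro γ hγ
    obtain ⟨g, hg, -, hgx⟩ := mem_autInducedBy_iff.1 hγ
    have e : γ = MulAut.conjNormal g := apl_ext fun x hx => by rw [apl_conjNormal g hx, hgx x hx]
    exact e ▸ hg.1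
  let N : Subgroup (E.autGroup U) := (autInducedBy (nmX E Q U) U).subgroupOf (E.autGroup U)
  haveI : N.Normal := by
    refine ⟨fun n hn a => ?_⟩
    obtain ⟨x, hx, -, hxx⟩ := mem_autInducedBy_iff.1 (show (n : MulAut U) ∈ _ from hn)
    obtain ⟨φ, hφ, hφa⟩ := (iso_apl hUT a.2).1
    obtain ⟨g, hg⟩ := exists_conj_of_sub p S hE hU hQS hG ⟨φ, hφ, hφa⟩
    refine mem_autInducedBy_iff.2 ⟨g * x * g⁻¹, (X_normal p S hE hU hQS hG).conj_mem x hx g,
      mem_normalizer_of_conj_mem fun y hy => hUn.conj_mem y hy _, fun y hy => ?_⟩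
    show apl ((a : MulAut U) * (n : MulAut U) * (a : MulAut U)⁻¹) y = _
    rw [apl_mul _ _ hy, apl_mul _ _ (apl_mem _ hy), hg _ (apl_mem _ (apl_mem _ hy)),
      hxx _ (apl_mem _ hy)]
    have h := hg _ (apl_mem (a : MulAut U)⁻¹ hy)
    rw [apl_apl_inv _ hy] at h
    have h' : apl (a : MulAut U)⁻¹ y = g⁻¹ * y * g := by
      conv_rhs => rw [h]
      group
    rw [h']
    group
  have hRN : (R : Subgroup (E.autGroup U)) ≤ N := by
    rw [hR]
    exact fun b hb => autInducedBy_mono (T_le_X p S hE hU hQS hG) hb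
  have htop := R.normalizer_sup_eq_top' hRN
  have hmem : (⟨α, hα⟩ : E.autGroup U) ∈ (⊤ : Subgroup (E.autGroup U)) := Subgroup.mem_top _
  rw [← htop, Subgroup.mem_sup_of_normal_right] at hmem
  obtain ⟨b, hb, k, hk, hbk⟩ := hmem
  have hbX : (b : MulAut U) ∈ autInducedBy (nmX E Q U) U := by
    have hbi := iso_apl hUT b.2
    obtain ⟨γ, hγ, hγb⟩ := (isReceptive_iff.1 (receptive_of_fullyNormalized hTp hE.1.1 hUf)).2
      U _ hbi
    have hnp : T ≤ nPhi T U (apl (b : MulAut U)) := by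
      intro t ht
      have htn : t ∈ Subgroup.normalizer (U : Set G) :=
        mem_normalizer_of_conj_mem fun y hy => hUn.conj_mem y hy _
      obtain ⟨c, hc, hcx⟩ := exists_mem_autInducedBy (P := U) ht htn
      have hcR : (⟨c, autInducedBy_le_autGroup hUT hc⟩ : E.autGroup U) ∈
          (R : Subgroup (E.autGroup U)) := (autInducedBy_subgroupOf_eq R hR).2 hc
      have h2 := (autInducedBy_subgroupOf_eq R hR).1 ((Subgroup.mem_normalizer_iff.1 hb _).1 hcR)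
      obtain ⟨d, hd, -, hdx⟩ := mem_autInducedBy_iff.1 h2
      refine mem_nPhi.2 ⟨ht, htn, d, hd, fun x hx => ?_⟩
      rw [← hcx x hx, ← hdx _ (apl_mem _ hx)]
      show _ = apl ((b : MulAut U) * c * (b : MulAut U)⁻¹) _
      rw [apl_mul _ _ (apl_mem _ hx), apl_inv_apl _ hx, apl_mul _ _ hx]
    have hm := hγ.mono hnp
    have hi : Iso E T T γ := ⟨hm, fun y => ⟨fun hy =>
      hm.surj_of_card le_rfl (fun x hx => hm.mem_S hx) le_rfl hy,
      fun ⟨x, hx, hxy⟩ => hxy ▸ hm.mem_S hx⟩⟩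
    obtain ⟨a, ha, hax⟩ := hi.exists_mem_autGroup
    obtain ⟨x, hx, -, hxx⟩ := mem_autInducedBy_iff.1 (top_le p S hE hU hQS hG ha)
    refine mem_autInducedBy_iff.2 ⟨x, hx,
      mem_normalizer_of_conj_mem fun y hy => hUn.conj_mem y hy _, fun u hu => ?_⟩
    rw [← hγb u hu, ← hax u (hUT hu), hxx u (hUT hu)]
  have h3 : α ∈ autInducedBy (nmX E Q U) U := by
    have e : α = (b : MulAut U) * k := (congrArg Subtype.val hbk).symm
    rw [e]
    exact mul_mem hbX hk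
  obtain ⟨x, hx, -, hxx⟩ := mem_autInducedBy_iff.1 h3
  exact ⟨x, hx, hxx⟩

/-- The normal subgroup that belongs to `E`. -/
def nmH (E : FusionSystem T) (p : ℕ) (Q U : Subgroup G) [Q.Normal] [U.Normal] : Subgroup G :=
  (pResidual p (nmX E Q U)).map (nmX E Q U).subtype ⊔ T

theorem residual_normal : ((pResidual p (nmX E Q U)).map (nmX E Q U).subtype).Normal := by
  haveI := X_normal p S hE hU hQS hG
  haveI := Cfsg.Agent.Fusion.pResidual_characteristic (G := ↥(nmX E Q U)) (p := p)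
  infer_instance

theorem H_le_X : nmH E p Q U ≤ nmX E Q U :=
  sup_le (Subgroup.map_subtype_le _) (T_le_X p S hE hU hQS hG)

theorem H_inter_S {h : G} (hh : h ∈ nmH E p Q U) (hS : h ∈ (S : Subgroup G)) : h ∈ T := by
  obtain ⟨hTS, -, -, -, -⟩ := basic p S hE hU hQS hG
  haveI := residual_normal p S hE hU hQS hG
  rw [nmH, Subgroup.mem_sup_of_normal_left] at hh
  obtain ⟨_, ⟨y, hy, rfl⟩, t, ht, rfl⟩ := hh
  have hyS : (y : G) ∈ (S : Subgroup G) := by
    have := (S : Subgroup G).mul_mem hS ((S : Subgroup G).inv_mem (hTS ht))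
    simpa using this
  exact T.mul_mem (residual_inter_S p S hE hU hQS hG hy hyS) ht

theorem H_normal : (nmH E p Q U).Normal := by
  obtain ⟨hTS, -, -, -, hTp⟩ := basic p S hE hU hQS hG
  haveI := X_normal p S hE hU hQS hG
  have hR := residual_normal p S hE hU hQS hG
  have key : ∀ t ∈ T, ∀ g : G, g * t * g⁻¹ ∈ nmH E p Q U := by
    intro t ht g
    have hy : g * t * g⁻¹ ∈ nmX E Q U :=
      (X_normal p S hE hU hQS hG).conj_mem t (T_le_X p S hE hU hQS hG ht) g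
    obtain ⟨k, hk⟩ := hTp ⟨t, ht⟩
    have hyp : IsPGroup p ((Subgroup.zpowers (⟨_, hy⟩ : nmX E Q U))) :=
      isPGroup_zpowers_of_pow_eq_one (e := k) (Subtype.ext (by
        show (g * t * g⁻¹) ^ p ^ k = 1
        rw [conj_pow, show t ^ p ^ k = 1 from congrArg Subtype.val hk]
        group))
    obtain ⟨P, hP⟩ := sylIn_iff (S.2.to_le inf_le_left) inf_le_right |>.1
      (sylIn_inter_normal (p := p) (H := ⊤) (C := nmX E Q U)
        ⟨le_top, by rw [Subgroup.relIndex_top_right]; exact S.not_dvd_index⟩ le_top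
        Subgroup.normal_subgroupOf)
    obtain ⟨c, hc⟩ := exists_conj_mem_sylow hyp P
    have h1 := hc _ (Subgroup.mem_zpowers _)
    rw [hP] at h1
    have h2 : ((c : G) * g) * t * ((c : G) * g)⁻¹ ∈ T := by
      refine tclosed p S hE ht ?_
      have e : ((c : G) * g) * t * ((c : G) * g)⁻¹ = (c : G) * (g * t * g⁻¹) * (c : G)⁻¹ := by group
      rw [e]
      exact h1.1
    -- `c ∈ X = (S ∩ X) O^p(X)`
    have hcm : c ∈ (⊤ : Subgroup (nmX E Q U)) := Subgroup.mem_top _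
    rw [← Cfsg.Agent.Fusion.sylow_sup_pResidual P, Subgroup.mem_sup_of_normal_right] at hcm
    obtain ⟨s, hs, y, hy', hsy⟩ := hcm
    rw [hP] at hs
    have h3 : (s : G)⁻¹ * (((c : G) * g) * t * ((c : G) * g)⁻¹) * (s : G) ∈ T :=
      (Subgroup.mem_normalizer_iff''.1 (T_normalized p S hE hU hQS hG hs.1) _).1 h2
    have h4 : (y : G) ∈ nmH E p Q U := Subgroup.mem_sup_left ⟨y, hy', rfl⟩
    have h5 := (nmH E p Q U).mul_mem ((nmH E p Q U).mul_mem ((nmH E p Q U).inv_mem h4)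
      (Subgroup.mem_sup_right h3)) h4
    have e : (y : G)⁻¹ * ((s : G)⁻¹ * (((c : G) * g) * t * ((c : G) * g)⁻¹) * (s : G)) * (y : G) =
        g * t * g⁻¹ := by
      rw [show (c : G) = (s : G) * (y : G) from (congrArg Subtype.val hsy).symm]
      group
    rwa [e] at h5
  refine ⟨fun n hn g => ?_⟩
  have hle : nmH E p Q U ≤ (nmH E p Q U).comap (MulAut.conj g).toMonoidHom := by
    refine sup_le (fun x hx => ?_) fun t ht => key t ht g
    exact Subgroup.mem_sup_left (hR.conj_mem x hx g)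
  exact hle hn

theorem H_centralizer {h : G} (hh : h ∈ nmH E p Q U)
    (hc : h ∈ Subgroup.centralizer (U : Set G)) : h ∈ U := by
  have hX := H_le_X p S hE hU hQS hG hh
  have hQ := mem_Q_of_fix p S hE hU hQS hG hX.2 hc
  exact mem_U p S hE hU hQS hG (H_inter_S p S hE hU hQS hG hh (hQS hQ)) hQ

theorem exists_H_of_aut {α : MulAut U} (hα : α ∈ E.autGroup U) :
    ∃ h ∈ nmH E p Q U, ∀ u ∈ U, apl α u = h * u * h⁻¹ := by
  haveI := X_normal p S hE hU hQS hG
  obtain ⟨x, hx, hxu⟩ := exists_X_of_aut p S hE hU hQS hG hα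
  obtain ⟨P, hP⟩ := sylIn_iff (S.2.to_le inf_le_left) inf_le_right |>.1
    (sylIn_inter_normal (p := p) (R := (S : Subgroup G)) (H := ⊤) (C := nmX E Q U)
      ⟨le_top, by rw [Subgroup.relIndex_top_right]; exact S.not_dvd_index⟩ le_top
      Subgroup.normal_subgroupOf)
  have hxm : (⟨x, hx⟩ : nmX E Q U) ∈ (⊤ : Subgroup (nmX E Q U)) := Subgroup.mem_top _
  rw [← Cfsg.Agent.Fusion.sylow_sup_pResidual P, sup_comm,
    Subgroup.mem_sup_of_normal_left] at hxm
  obtain ⟨y, hy, s, hs, hys⟩ := hxm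
  rw [hP] at hs
  obtain ⟨t, ht, hc, -, -⟩ := exists_T_mul p S hE hU hQS hG hs.1 s.2
  refine ⟨(y : G) * t, (nmH E p Q U).mul_mem (Subgroup.mem_sup_left ⟨y, hy, rfl⟩)
    (Subgroup.mem_sup_right ht), fun u hu => ?_⟩
  have h1 : (t⁻¹ * (s : G)) * u * (t⁻¹ * (s : G))⁻¹ = u := by
    have hc' : t⁻¹ * (s : G) ∈ Subgroup.centralizer (U : Set G) := hc
    rw [← (Subgroup.mem_centralizer_iff.1 hc') u hu]
    group
  rw [hxu u hu, show x = (y : G) * (s : G) from (congrArg Subtype.val hys).symm]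
  calc (y : G) * s * u * ((y : G) * s)⁻¹
      = (y : G) * t * ((t⁻¹ * (s : G)) * u * (t⁻¹ * (s : G))⁻¹) * ((y : G) * t)⁻¹ := by group
    _ = (y : G) * t * u * ((y : G) * t)⁻¹ := by rw [h1]

theorem U_normal_in_E : E.IsNormal U := by
  obtain ⟨hTS, hUT, hUQ, hQp, hTp⟩ := basic p S hE hU hQS hG
  have hmem : ∀ {P : Subgroup G} {f : G → G}, Mor E P f → ∀ x ∈ P, x ∈ U → f x ∈ U := by
    intro P f hf x hx hxU
    obtain ⟨g, hg⟩ := exists_conj_of_sub p S hE hU hQS hG hf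
    rw [hg x hx]
    exact hUn.conj_mem x hxU g
  have hsc : E.StronglyClosed U :=
    stronglyClosed_iff.2 ⟨hUT, fun R f hR hf x hx => hmem hf x hx (hR hx)⟩
  refine isNormal_of_stronglyClosed_le hTp hE.1.1 hsc fun R hc hr => ?_
  refine le_of_normalizer_le hTp hE.1.1 hsc hc.1 fun a haU han => ?_
  refine mem_of_normal_pGroup hc hr (hUT haU) han (Γ := autInducedBy U R)
    ((autInducedBy_mono hUT).trans (autInducedBy_le_autGroup hc.1))
    (isPGroup_autInducedBy (hTp.to_le hUT)) ?_ fun γ _ hx => mem_autInducedBy_iff.2 ⟨a, haU, han, hx⟩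
  intro α hα γ hγ
  obtain ⟨b, hb, hbn, hbx⟩ := mem_autInducedBy_iff.1 hγ
  obtain ⟨g, hg⟩ := exists_conj_of_sub p S hE hU hQS hG (iso_apl hc.1 hα).1
  have hi : ∀ y ∈ R, apl α⁻¹ y = g⁻¹ * y * g := fun y hy => by
    have h := hg _ (apl_mem α⁻¹ hy)
    rw [apl_apl_inv α hy] at h
    conv_rhs => rw [h]
    group
  have hb' : ∀ y ∈ R, apl (α * γ * α⁻¹) y = (g * b * g⁻¹) * y * (g * b * g⁻¹)⁻¹ := fun y hy => by
    rw [apl_mul _ _ hy, apl_mul _ _ (apl_mem _ hy), hg _ (apl_mem _ (apl_mem _ hy)),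
      hbx _ (apl_mem _ hy), hi y hy]
    group
  exact mem_autInducedBy_iff.2 ⟨g * b * g⁻¹, hUn.conj_mem b hb g,
    mem_normalizer_of_conj_mem fun y hy => hb' y hy ▸ apl_mem _ hy, hb'⟩

/-- `E` is the fusion system of `H` on `T`. -/
theorem E_iff_H (hTH : T ≤ nmH E p Q U) {P : Subgroup G} {f : G → G} :
    Mor E P f ↔ Mor (fusionSystemOfSubgroup (nmH E p Q U) T hTH) P f := by
  obtain ⟨hTS, hUT, hUQ, hQp, hTp⟩ := basic p S hE hU hQS hG
  have hUN := U_normal_in_E p S hE hU hQS hG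
  haveI hHn := H_normal p S hE hU hQS hG
  have hUf := fullyNormalized_U p S hE hU hQS hG
  have hle : E ≤ fusionSystemOfSubgroup (nmH E p Q U) T hTH := by
    refine le_of_aut_le hTp hE.1.1 fun R hR => ?_
    have hRT : R ≤ T := hR.elim (fun e => e.le) fun e => e.1.1
    have hUR : U ≤ R := by
      rcases hR with rfl | hR
      · exact hUT
      · exact le_of_normal_centric_radical hTp hUN hR.1 (essential_radical hTp hE.1.1 hR)
    have hD : autInducedBy (nmH E p Q U) R ≤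
        (fusionSystemOfSubgroup (nmH E p Q U) T hTH).autGroup R := by
      intro γ hγ
      obtain ⟨h, hh, -, hhx⟩ := mem_autInducedBy_iff.1 hγ
      exact Subgroup.subset_closure ((mor_sub.2 ⟨hRT, fun x hx => hRT (apl_mem γ hx), h, hh, hhx⟩ :
        Mor (fusionSystemOfSubgroup (nmH E p Q U) T hTH) R (apl γ)).hom_eq fun x => (apl_coe γ x).symm)
    refine le_trans ?_ hD
    have hRn : E.IsFullyNormalized R := by
      rcases hR with rfl | hR
      · exact ⟨le_rfl, fun R' _ =>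
          Subgroup.card_le_of_le (le_inf inf_le_left (inf_le_left.trans Subgroup.le_normalizer))⟩
      · exact hR.2.1
    rw [autGroup_eq_residual_sup hTp hE.1.1 hRn]
    refine sup_le ?_ (autInducedBy_mono hTH)
    rw [Subgroup.map_le_iff_le_comap, pResidual, Subgroup.closure_le]
    intro α hαc
    show (α : MulAut R) ∈ autInducedBy (nmH E p Q U) R
    have hαR := iso_apl hRT α.2
    obtain ⟨g, hg⟩ := exists_conj_of_sub p S hE hU hQS hG hαR.1
    -- restriction to `U`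
    have hUU : ∀ x ∈ U, apl (α : MulAut R) x ∈ U := fun x hx =>
      hg x (hUR hx) ▸ hUn.conj_mem x hx _
    have hi : Iso E U U (apl (α : MulAut R)) := ⟨hαR.1.mono hUR, fun y => ⟨fun hy =>
      (hαR.1.mono hUR).surj_of_card hUT hUU le_rfl hy, fun ⟨x, hx, hxy⟩ => hxy ▸ hUU x hx⟩⟩
    obtain ⟨α', hα', hα'x⟩ := hi.exists_mem_autGroup
    obtain ⟨h, hh, hhu⟩ := exists_H_of_aut p S hE hU hQS hG hα'
    have heq : ∀ u ∈ U, g * u * g⁻¹ = h * u * h⁻¹ := fun u hu => by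
      rw [← hg u (hUR hu), ← hα'x u hu, hhu u hu]
    set w := h⁻¹ * g with hw
    have hwc : w ∈ Subgroup.centralizer (U : Set G) := Subgroup.mem_centralizer_iff.2 fun u hu => by
      calc u * (h⁻¹ * g) = h⁻¹ * (h * u * h⁻¹) * g := by group
        _ = h⁻¹ * (g * u * g⁻¹) * g := by rw [heq u hu]
        _ = h⁻¹ * g * u := by group
    have hz : ∀ y ∈ R, w * y * w⁻¹ * y⁻¹ ∈ U := by
      intro y hy
      have hyH : y ∈ nmH E p Q U := hTH (hRT hy)
      have hgy : g * y * g⁻¹ ∈ nmH E p Q U := hTH (hRT (hg y hy ▸ apl_mem _ hy))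
      refine H_centralizer p S hE hU hQS hG ?_ ?_
      · refine (nmH E p Q U).mul_mem ?_ ((nmH E p Q U).inv_mem hyH)
        have e : w * y * w⁻¹ = h⁻¹ * (g * y * g⁻¹) * h := by rw [hw]; group
        rw [e]
        exact (nmH E p Q U).mul_mem ((nmH E p Q U).mul_mem ((nmH E p Q U).inv_mem hh) hgy) hh
      · refine Subgroup.mem_centralizer_iff.2 fun u hu => ?_
        have hyu := hUn.conj_mem u hu y⁻¹
        rw [inv_inv] at hyu
        have h1 : w * (y⁻¹ * u * y) * w⁻¹ = y⁻¹ * u * y := by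
          rw [← (Subgroup.mem_centralizer_iff.1 hwc) _ hyu]; group
        have h2 : w⁻¹ * u * w = u := by
          rw [mul_assoc, (Subgroup.mem_centralizer_iff.1 hwc) u hu]; group
        calc u * (w * y * w⁻¹ * y⁻¹)
            = w * y * (y⁻¹ * (w⁻¹ * u * w) * y) * w⁻¹ * y⁻¹ := by group
          _ = w * y * w⁻¹ * (w * (y⁻¹ * u * y) * w⁻¹) * y⁻¹ := by rw [h2]; group
          _ = w * y * w⁻¹ * (y⁻¹ * u * y) * y⁻¹ := by rw [h1]
          _ = w * y * w⁻¹ * y⁻¹ * u := by group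
    obtain ⟨e, he⟩ := IsPGroup.iff_card.1 (hTp.to_le hUT)
    have hwp : w ^ p ^ e ∈ Subgroup.centralizer (R : Set G) :=
      Subgroup.mem_centralizer_iff.2 fun y hy => by
        have h1 := conj_pow_of_commute (g := w) (d := w * y * w⁻¹ * y⁻¹) (q := y) (by group)
          (show w * _ = _ * w from ((Subgroup.mem_centralizer_iff.1 hwc) _ (hz y hy)).symm) (p ^ e)
        have h2 : (⟨_, hz y hy⟩ : U) ^ p ^ e = 1 := by rw [← he]; exact pow_card_eq_one'
        rw [show (w * y * w⁻¹ * y⁻¹) ^ p ^ e = 1 from congrArg Subtype.val h2, one_mul,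
          mul_inv_eq_iff_eq_mul] at h1
        exact h1.symm
    -- work in `N_G(R)`
    set N := Subgroup.normalizer (R : Set G) with hN
    have hgN : g ∈ N := mem_normalizer_of_conj_mem fun y hy => hg y hy ▸ apl_mem _ hy
    have hwN : w ∈ N := mem_normalizer_of_conj_mem fun y hy => by
      have := R.mul_mem (hUR (hz y hy)) hy
      simpa using this
    haveI := centralizer_normal_in_normalizer R
    haveI : ((nmH E p Q U).subgroupOf N).Normal := Subgroup.normal_subgroupOf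
    let M : Subgroup N := (nmH E p Q U).subgroupOf N ⊔ (Subgroup.centralizer (R : Set G)).subgroupOf N
    haveI : M.Normal := Subgroup.sup_normal _ _
    have hαg : ∀ k : ℕ, ∀ y ∈ R, apl ((α : MulAut R) ^ k) y = g ^ k * y * (g ^ k)⁻¹ := by
      intro k
      induction k with
      | zero => intro y hy; rw [pow_zero, apl_one hy]; simp
      | succ k ih =>
        intro y hy
        rw [pow_succ' (α : MulAut R), apl_mul _ _ hy, hg _ (apl_mem _ hy), ih y hy, pow_succ']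
        group
    have hgo : (⟨g, hgN⟩ : N) ^ orderOf α ∈ M := Subgroup.mem_sup_right <| by
      refine Subgroup.mem_subgroupOf.2 (Subgroup.mem_centralizer_iff.2 fun y hy => ?_)
      have h1 := hαg (orderOf α) y hy
      rw [← SubmonoidClass.coe_pow, pow_orderOf_eq_one, OneMemClass.coe_one, apl_one hy] at h1
      show y * g ^ orderOf α = g ^ orderOf α * y
      conv_lhs => rw [h1]
      group
    have hhN : h ∈ N := by
      have : h = g * w⁻¹ := by rw [hw]; group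
      rw [this]
      exact N.mul_mem hgN (N.inv_mem hwN)
    have hgw : QuotientGroup.mk' M ⟨g, hgN⟩ = QuotientGroup.mk' M ⟨w, hwN⟩ := by
      have h1 : (⟨h, hhN⟩ : N) * ⟨w, hwN⟩ = ⟨g, hgN⟩ := Subtype.ext (by
        show h * w = g
        rw [hw]; group)
      rw [← h1, map_mul]
      have h2 : QuotientGroup.mk' M ⟨h, hhN⟩ = 1 := by
        rw [QuotientGroup.mk'_apply, QuotientGroup.eq_one_iff]
        exact Subgroup.mem_sup_left hh
      rw [h2, one_mul]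
    have h3 : orderOf (QuotientGroup.mk' M ⟨g, hgN⟩) = 1 := by
      refine Nat.eq_one_of_dvd_coprimes (Nat.Coprime.pow_right e hαc)
        (orderOf_dvd_of_pow_eq_one ?_) (orderOf_dvd_of_pow_eq_one ?_)
      · rw [← map_pow, QuotientGroup.mk'_apply, QuotientGroup.eq_one_iff]; exact hgo
      · rw [hgw, ← map_pow, QuotientGroup.mk'_apply, QuotientGroup.eq_one_iff]
        exact Subgroup.mem_sup_right hwp
    rw [orderOf_eq_one_iff, QuotientGroup.mk'_apply, QuotientGroup.eq_one_iff,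
      Subgroup.mem_sup_of_normal_right] at h3
    obtain ⟨a, ha, c, hc, hac⟩ := h3
    refine mem_autInducedBy_iff.2 ⟨a, ha, a.2, fun y hy => ?_⟩
    rw [hg y hy, show g = (a : G) * c from (congrArg Subtype.val hac).symm]
    have h4 : (c : G) * y * (c : G)⁻¹ = y := by
      have hc' : (c : G) ∈ Subgroup.centralizer (R : Set G) := hc
      rw [← (Subgroup.mem_centralizer_iff.1 hc') y hy]; group
    calc (a : G) * c * y * ((a : G) * c)⁻¹ = (a : G) * ((c : G) * y * (c : G)⁻¹) * (a : G)⁻¹ := by group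
      _ = (a : G) * y * (a : G)⁻¹ := by rw [h4]
  refine ⟨le_iff_mor.1 hle P f, fun hf => ?_⟩
  obtain ⟨hPT, hfT, h, hh, hhx⟩ := mor_sub.1 hf
  have hX := H_le_X p S hE hU hQS hG hh
  have hα : Iso E U U (apl (MulAut.conjNormal h : MulAut U)) := iso_apl hUT hX.1
  obtain ⟨γ, hγ, hγb⟩ := (isReceptive_iff.1 (receptive_of_fullyNormalized hTp hE.1.1 hUf)).2
    U _ hα
  set N := nPhi T U (apl (MulAut.conjNormal h : MulAut U)) with hNdef
  have hPN : P ⊔ U ≤ N := by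
    refine sup_le (fun y hy => mem_nPhi.2 ⟨hPT hy,
      mem_normalizer_of_conj_mem fun z hz => hUn.conj_mem z hz _, f y, hfT y hy, fun x hx => ?_⟩)
      hα.1.le_nPhi
    rw [apl_conjNormal h hx, apl_conjNormal h (hUn.conj_mem x hx y), hhx y hy]
    group
  obtain ⟨-, -, h', hh', hh'x⟩ := mor_sub.1 (le_iff_mor.1 hle _ _ hγ)
  have hz : h'⁻¹ * h ∈ U := by
    refine H_centralizer p S hE hU hQS hG
      ((nmH E p Q U).mul_mem ((nmH E p Q U).inv_mem hh') hh)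
      (Subgroup.mem_centralizer_iff.2 fun u hu => ?_)
    have h1 : h' * u * h'⁻¹ = h * u * h⁻¹ := by
      rw [← hh'x u (hPN (Subgroup.mem_sup_right hu)), hγb u hu, apl_conjNormal h hu]
    calc u * (h'⁻¹ * h) = h'⁻¹ * (h' * u * h'⁻¹) * h := by group
      _ = h'⁻¹ * (h * u * h⁻¹) * h := by rw [h1]
      _ = h'⁻¹ * h * u := by group
  have hzN : ∀ y ∈ P, (h'⁻¹ * h) * y * (h'⁻¹ * h)⁻¹ ∈ N := fun y hy =>
    N.mul_mem (N.mul_mem (hPN (Subgroup.mem_sup_right hz)) (hPN (Subgroup.mem_sup_left hy)))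
      (N.inv_mem (hPN (Subgroup.mem_sup_right hz)))
  refine ((mor_conj hPT (hUT hz)).comp hγ hzN).congr fun y hy => ?_
  show f y = γ _
  rw [hh'x _ (hzN y hy), hhx y hy]
  group

theorem H_unique {H' : Subgroup G} (hTH' : T ≤ H') (hn : H'.Normal)
    (hT' : ∀ x ∈ H', x ∈ (S : Subgroup G) → x ∈ T)
    (hHom : ∀ P : Subgroup G, E.Hom P = (fusionSystemOfSubgroup H' T hTH').Hom P) :
    H' = nmH E p Q U := by
  obtain ⟨hTS, hUT, hUQ, hQp, hTp⟩ := basic p S hE hU hQS hG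
  haveI := X_normal p S hE hU hQS hG
  have hmor : ∀ {P : Subgroup G} {f : G → G},
      Mor E P f ↔ Mor (fusionSystemOfSubgroup H' T hTH') P f := by
    intro P f; unfold Mor; rw [hHom]
  have hX : H' ≤ nmX E Q U := by
    intro h hh
    constructor
    · show (MulAut.conjNormal h : MulAut U) ∈ E.autGroup U
      refine Subgroup.subset_closure ((hmor.2 (mor_sub.2 ⟨hUT, fun x hx =>
        hUT (apl_mem _ hx), h, hh, fun x hx => apl_conjNormal h hx⟩)).hom_eq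
        fun x => (apl_coe _ x).symm)
    · intro q hq
      have h1 : h * q * h⁻¹ * q⁻¹ ∈ Q := Q.mul_mem (hQn.conj_mem q hq h) (Q.inv_mem hq)
      have h2 : h * q * h⁻¹ * q⁻¹ ∈ H' := by
        have := H'.mul_mem hh (hn.conj_mem _ (H'.inv_mem hh) q)
        have e : h * q * h⁻¹ * q⁻¹ = h * (q * h⁻¹ * q⁻¹) := by group
        rw [e]; exact this
      exact mem_U p S hE hU hQS hG (hT' _ h2 (hQS h1)) h1
  obtain ⟨P, hP⟩ := sylIn_iff (S.2.to_le inf_le_left) inf_le_right |>.1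
    (sylIn_inter_normal (p := p) (R := (S : Subgroup G)) (H := ⊤) (C := H')
      ⟨le_top, by rw [Subgroup.relIndex_top_right]; exact S.not_dvd_index⟩ le_top
      Subgroup.normal_subgroupOf)
  refine le_antisymm (fun x hx => ?_) (fun x hx => ?_)
  · have hxm : (⟨x, hx⟩ : H') ∈ (⊤ : Subgroup H') := Subgroup.mem_top _
    rw [← Cfsg.Agent.Fusion.sylow_sup_pResidual P, sup_comm,
      Subgroup.mem_sup_of_normal_left] at hxm
    obtain ⟨y, hy, s, hs, hys⟩ := hxm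
    rw [hP] at hs
    have hy' : (⟨y, hX y.2⟩ : nmX E Q U) ∈ pResidual p (nmX E Q U) :=
      Cfsg.Agent.Fusion.map_pResidual_le (Subgroup.inclusion hX)
        (Subgroup.mem_map_of_mem _ hy)
    rw [show x = (y : G) * (s : G) from (congrArg Subtype.val hys).symm]
    exact (nmH E p Q U).mul_mem (Subgroup.mem_sup_left ⟨⟨y, hX y.2⟩, hy', rfl⟩)
      (Subgroup.mem_sup_right (hT' _ s.2 hs.1))
  · have hxX := H_le_X p S hE hU hQS hG hx
    obtain ⟨-, -, h', hh', hh'x⟩ := mor_sub.1 (hmor.1 (iso_apl hUT hxX.1).1)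
    have hle : H' ≤ nmH E p Q U := by
      intro w hw
      have hwm : (⟨w, hw⟩ : H') ∈ (⊤ : Subgroup H') := Subgroup.mem_top _
      rw [← Cfsg.Agent.Fusion.sylow_sup_pResidual P, sup_comm,
        Subgroup.mem_sup_of_normal_left] at hwm
      obtain ⟨y, hy, s, hs, hys⟩ := hwm
      rw [hP] at hs
      have hy' : (⟨y, hX y.2⟩ : nmX E Q U) ∈ pResidual p (nmX E Q U) :=
        Cfsg.Agent.Fusion.map_pResidual_le (Subgroup.inclusion hX)
          (Subgroup.mem_map_of_mem _ hy)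
      rw [show w = (y : G) * (s : G) from (congrArg Subtype.val hys).symm]
      exact (nmH E p Q U).mul_mem (Subgroup.mem_sup_left ⟨⟨y, hX y.2⟩, hy', rfl⟩)
        (Subgroup.mem_sup_right (hT' _ s.2 hs.1))
    have hc : h'⁻¹ * x ∈ U := by
      refine H_centralizer p S hE hU hQS hG
        ((nmH E p Q U).mul_mem ((nmH E p Q U).inv_mem (hle hh')) hx)
        (Subgroup.mem_centralizer_iff.2 fun u hu => ?_)
      have h1 : h' * u * h'⁻¹ = x * u * x⁻¹ := by rw [← hh'x u hu, apl_conjNormal x hu]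
      calc u * (h'⁻¹ * x) = h'⁻¹ * (h' * u * h'⁻¹) * x := by group
        _ = h'⁻¹ * (x * u * x⁻¹) * x := by rw [h1]
        _ = h'⁻¹ * x * u := by group
    have := H'.mul_mem hh' (hTH' (hUT hc))
    rwa [mul_inv_cancel_left] at this

end Setting

end Main

end Cfsg.Agent.FusSys
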