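import Cfsg.Agent.FusSys.Factor
import Cfsg.Agent.FusSys.GroupSys
import Cfsg.Agent.FusSys.NormalModel

/-!
Fusion systems of subgroups; a normal subgroup induces a normal subsystem.
-/

set_option autoImplicit false

namespace Cfsg.Agent.FusSys

open Cfsg Cfsg.FusionSystem

universe u

variable {G : Type u} [Group G] [Finite G] {p : ℕ} [Fact p.Prime]

/-- The fusion system of a subgroup on one of its Sylow subgroups is saturated. -/
theorem sub_saturated {H T : Subgroup G} (hTH : T ≤ H) (hT : IsPGroup p T) (hs : SylIn p T H) :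
    (fusionSystemOfSubgroup H T hTH).IsSaturated p := by
  obtain ⟨R, hR⟩ := (sylIn_iff hT hTH).1 hs
  have hmem : ∀ {x : H}, x ∈ (R : Subgroup H) ↔ (x : G) ∈ T := fun {x} => by
    rw [hR, Subgroup.mem_subgroupOf]
  let θ : (R : Subgroup H) →* G := H.subtype.comp (R : Subgroup H).subtype
  have hrange : θ.range = T := by
    ext x
    exact ⟨fun ⟨y, hy⟩ => hy ▸ hmem.1 y.2, fun hx => ⟨⟨⟨x, hTH hx⟩, hmem.2 hx⟩, rfl⟩⟩
  have hF := gfs_saturated (p := p) R
  refine factor_saturated (θ := θ) (T := (⊥ : Subgroup H)) (F := groupFusionSystem (R : Subgroup H))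
    R.2 hF ⟨bot_le, fun s => ?_, hrange, fun P' φ' => ?_⟩ (stronglyClosed_iff.2 ⟨bot_le,
      fun X f hX hf x hx => by
        rw [Subgroup.mem_bot.1 (hX hx), hf.map_one]; exact Subgroup.one_mem _⟩)
  · rw [Subgroup.mem_bot]
    exact ⟨fun h => Subtype.ext h, fun h => congrArg Subtype.val h⟩
  constructor
  · rintro ⟨hP, hv, h, hh, hφ⟩
    refine ⟨hP, conjHom _ (⟨h, hh⟩ : H),
      ⟨pre_le, fun x => ?_, ⟨h, hh⟩, fun _ => rfl⟩, pre_le, fun x => ?_, fun x => ?_, fun x => ?_⟩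
    · obtain ⟨y, hy, hyx⟩ := x.2
      refine hmem.2 ?_
      show h * ((x : H) : G) * h⁻¹ ∈ T
      rw [← hyx, show h * (((R : Subgroup H).subtype y : H) : G) * h⁻¹ = φ' ⟨θ y, hy⟩ from
        (hφ ⟨θ y, hy⟩).symm]
      exact hv _
    · obtain ⟨y, hy, hyx⟩ := x.2
      refine hmem.2 ?_
      show h * ((x : H) : G) * h⁻¹ ∈ T
      rw [← hyx, show h * (((R : Subgroup H).subtype y : H) : G) * h⁻¹ = φ' ⟨θ y, hy⟩ from
        (hφ ⟨θ y, hy⟩).symm]
      exact hv _
    · obtain ⟨y, hy, hyx⟩ := x.2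
      show ((x : H) : G) ∈ P'
      rw [← hyx]
      exact hy
    · exact hφ _
  · rintro ⟨hP, φ, ⟨-, -, g, hg⟩, hpre, hval, hm, heq⟩
    refine ⟨hP, ?_, g, g.2, ?_⟩
    all_goals
      rintro ⟨z, hz⟩
      have hzR : (⟨z, hTH (hP hz)⟩ : H) ∈ (R : Subgroup H) := hmem.2 (hP hz)
      have hzp : (⟨z, hTH (hP hz)⟩ : H) ∈ preimageAlong θ P' := ⟨⟨_, hzR⟩, hz, rfl⟩
      have h1 := heq ⟨_, hzp⟩
      rw [show φ' ⟨z, hz⟩ = φ' ⟨θ ⟨_, hpre hzp⟩, hm ⟨_, hzp⟩⟩ from rfl, h1]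
    · exact hmem.1 (hval ⟨_, hzp⟩)
    · exact congrArg Subtype.val (hg ⟨_, hzp⟩)

theorem sylow_inter_normal (S : Sylow p G) (H : Subgroup G) [H.Normal] :
    SylIn p ((S : Subgroup G) ⊓ H) H :=
  sylIn_inter_normal (H := ⊤) ⟨le_top, by rw [Subgroup.relIndex_top_right]; exact S.not_dvd_index⟩
    le_top Subgroup.normal_subgroupOf

/-- The fusion system of a normal subgroup is a normal subsystem. -/
theorem normalSub_isNormalIn (S : Sylow p G) (H : Subgroup G) [hH : H.Normal] :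
    (fusionSystemOfSubgroup H ((S : Subgroup G) ⊓ H) inf_le_right).IsNormalIn
      (groupFusionSystem (S : Subgroup G)) p := by
  set T := (S : Subgroup G) ⊓ H with hT
  have hTS : T ≤ (S : Subgroup G) := inf_le_left
  have hTp : IsPGroup p T := S.2.to_le hTS
  have hsyl : SylIn p T H := sylow_inter_normal S H
  have hsub : ∀ (P : Subgroup G) φ, φ ∈ (fusionSystemOfSubgroup H T inf_le_right).Hom P →
      φ ∈ (groupFusionSystem (S : Subgroup G)).Hom P := fun P φ ⟨h1, h2, g, _, hg⟩ =>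
    ⟨h1.trans hTS, fun x => hTS (h2 x), g, hg⟩
  have hSn : (S : Subgroup G) ≤ Subgroup.normalizer (T : Set G) :=
    Subgroup.le_normalizer_iff.2 fun s hs x hx =>
      ⟨(S : Subgroup G).mul_mem ((S : Subgroup G).mul_mem hs hx.1) ((S : Subgroup G).inv_mem hs),
        hH.conj_mem x hx.2 s⟩
  have hTf : SylIn p (normalizerIn (S : Subgroup G) T) (Subgroup.normalizer (T : Set G)) := by
    have e : normalizerIn (S : Subgroup G) T = (S : Subgroup G) :=
      le_antisymm inf_le_left (le_inf le_rfl hSn)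
    rw [e]
    exact sylIn_mono (H := ⊤) ⟨le_top, by rw [Subgroup.relIndex_top_right]; exact S.not_dvd_index⟩
      hSn le_top
  refine ⟨⟨sub_saturated inf_le_right hTp hsyl, gfs_saturated S, hsub, ?_, ?_, ?_⟩, ?_⟩
  · refine stronglyClosed_iff.2 ⟨hTS, fun R f hR hf x hx => ⟨hf.mem_S hx, ?_⟩⟩
    obtain ⟨-, -, g, hg⟩ := mor_gfs.1 hf
    rw [hg x hx]
    exact hH.conj_mem x (hR hx).2 g
  · rintro P hPT φ ⟨-, hφT, h, hh, hφ⟩ α hα
    obtain ⟨g, hg, -⟩ := (iso_apl (F := groupFusionSystem (S : Subgroup G)) hTS hα).exists_conj_gfs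
    have hval : ∀ x : P, apl α (φ x) = (g * h * g⁻¹) * apl α (x : G) * (g * h * g⁻¹)⁻¹ := fun x => by
      rw [hg _ (hφT x), hg _ (hPT x.2), hφ x]; group
    refine ⟨conjHom _ (g * h * g⁻¹), ⟨?_, ?_, g * h * g⁻¹, hH.conj_mem h hh g, fun _ => rfl⟩, ?_⟩
    · rintro _ ⟨y, -, rfl⟩
      exact (α y).2
    · rintro ⟨_, y, hy, rfl⟩
      show g * h * g⁻¹ * ((α y : T) : G) * (g * h * g⁻¹)⁻¹ ∈ T
      rw [← apl_coe, ← hval ⟨y, hy⟩]
      exact apl_mem α (hφT _)
    · intro x hφx hαx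
      show g * h * g⁻¹ * ((α ⟨x, hPT x.2⟩ : T) : G) * (g * h * g⁻¹)⁻¹ = _
      rw [← apl_apply α hφx, ← apl_apply α (hPT x.2)]
      exact (hval x).symm
  · rintro P hPT φ ⟨-, hφS, g, hg⟩
    obtain ⟨R, hR⟩ := (sylIn_iff hTp inf_le_right).1 hsyl
    have hfr := Sylow.normalizer_sup_eq_top R
    rw [hR, Subgroup.subgroupOf_map_subtype, inf_eq_left.2 (inf_le_right : T ≤ H)] at hfr
    have hgm : g ∈ (⊤ : Subgroup G) := Subgroup.mem_top g
    rw [← hfr, Subgroup.mem_sup_of_normal_right] at hgm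
    obtain ⟨n, hn, h, hh, rfl⟩ := hgm
    obtain ⟨α, hα, hαx⟩ := exists_mem_autInducedBy (K := (⊤ : Subgroup G)) (P := T)
      (Subgroup.mem_top n) hn
    have hv : ∀ x : P, h * (x : G) * h⁻¹ ∈ T := fun x => by
      have h1 : φ x ∈ T := ⟨hφS x, by rw [hg x]; exact hH.conj_mem _ (hPT x.2).2 _⟩
      rw [hg x] at h1
      rw [Subgroup.mem_normalizer_iff.1 hn]
      have e : n * (h * (x : G) * h⁻¹) * n⁻¹ = n * h * x * (n * h)⁻¹ := by group
      rwa [e]
    refine ⟨α, (autGroup_gfs hTS).ge hα, conjHom P h, ⟨hPT, hv, h, hh, fun _ => rfl⟩, fun x hx => ?_⟩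
    rw [← apl_apply α hx, hαx _ hx, hg x]
    show _ = n * (h * (x : G) * h⁻¹) * n⁻¹
    group
  · intro α hα
    obtain ⟨-, -, h, hh, hhx⟩ := mor_sub.1 (iso_apl le_rfl hα).1
    have hhT : ∀ x ∈ T, h * x * h⁻¹ ∈ T := fun x hx => hhx x hx ▸ apl_mem α hx
    have hhn : h ∈ Subgroup.normalizer (T : Set G) := mem_normalizer_of_conj_mem hhT
    set C := centralizerIn (S : Subgroup G) T with hC
    have hCp : IsPGroup p C := isPGroup_centralizerIn S T
    have hCs := sylIn_centralizer_of_normalizer S hTf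
    let K : Subgroup G := H ⊓ Subgroup.centralizer (T : Set G)
    have hCn : C ≤ Subgroup.normalizer (K : Set G) := Subgroup.le_normalizer_iff.2 fun c hc x hx =>
      ⟨hH.conj_mem x hx.1 c, (Subgroup.centralizer (T : Set G)).mul_mem
        ((Subgroup.centralizer (T : Set G)).mul_mem hc.2 hx.2)
        ((Subgroup.centralizer (T : Set G)).inv_mem hc.2)⟩
    have hMC : C ⊔ K ≤ Subgroup.centralizer (T : Set G) := sup_le inf_le_right inf_le_right
    have hcent : ∀ c ∈ C, ∀ x ∈ T, c * x * c⁻¹ = x := fun c hc x hx => by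
      rw [← (Subgroup.mem_centralizer_iff.1 hc.2) x hx]; group
    have hA : ∀ a ∈ C.map (MulAut.conj h).toMonoidHom, a ∈ C ⊔ K := by
      rintro _ ⟨c, hc, rfl⟩
      show h * c * h⁻¹ ∈ C ⊔ K
      have hk : c⁻¹ * (h * c * h⁻¹) ∈ K := by
        refine ⟨?_, ?_⟩
        · have e : c⁻¹ * (h * c * h⁻¹) = (c⁻¹ * h * c⁻¹⁻¹) * h⁻¹ := by group
          rw [e]
          exact H.mul_mem (hH.conj_mem h hh _) (H.inv_mem hh)
        · refine (Subgroup.centralizer (T : Set G)).mul_mem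
            ((Subgroup.centralizer (T : Set G)).inv_mem hc.2) (Subgroup.mem_centralizer_iff.2
              fun x hx => ?_)
          have hy : h⁻¹ * x * h ∈ T := (Subgroup.mem_normalizer_iff''.1 hhn x).1 hx
          calc x * (h * c * h⁻¹) = h * ((h⁻¹ * x * h) * c) * h⁻¹ := by group
            _ = h * (c * (h⁻¹ * x * h)) * h⁻¹ := by
              rw [Subgroup.mem_centralizer_iff.1 hc.2 _ hy]
            _ = h * c * h⁻¹ * x := by group
      have := Subgroup.mul_mem_sup hc hk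
      rwa [mul_inv_cancel_left] at this
    obtain ⟨m, hm, hmC⟩ := exists_conj_mem_of_sylIn hCp (sylIn_mono hCs le_sup_left hMC)
      (hCp.map _) (fun a ha => hA a ha)
    have hm' : m ∈ ((C ⊔ K : Subgroup G) : Set G) := hm
    rw [Subgroup.coe_mul_of_left_le_normalizer_right _ _ hCn] at hm'
    obtain ⟨c₀, hc₀, k, hk, hmk⟩ := hm'
    have hkh : ∀ c ∈ C, (k * h) * c * (k * h)⁻¹ ∈ C := by
      intro c hc
      have h1 := C.mul_mem (C.mul_mem (C.inv_mem hc₀) (hmC _ ⟨c, hc, rfl⟩)) hc₀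
      have e : c₀⁻¹ * (m * (MulAut.conj h).toMonoidHom c * m⁻¹) * c₀ = (k * h) * c * (k * h)⁻¹ := by
        rw [← hmk]
        show c₀⁻¹ * (c₀ * k * (h * c * h⁻¹) * (c₀ * k)⁻¹) * c₀ = _
        group
      rwa [e] at h1
    have hkT : ∀ x ∈ T, (k * h) * x * (k * h)⁻¹ = apl α x := fun x hx => by
      rw [hhx x hx]
      calc k * h * x * (k * h)⁻¹ = k * (h * x * h⁻¹) * k⁻¹ := by group
        _ = (h * x * h⁻¹) * k * k⁻¹ := by rw [Subgroup.mem_centralizer_iff.1 hk.2 _ (hhT x hx)]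
        _ = h * x * h⁻¹ := by group
    have hle : T ⊔ C ≤ (S : Subgroup G) := sup_le hTS inf_le_left
    have hn : k * h ∈ Subgroup.normalizer ((T ⊔ C : Subgroup G) : Set G) := by
      refine mem_normalizer_of_conj_mem fun x hx => ?_
      have hle' : T ⊔ C ≤ (T ⊔ C).comap (MulAut.conj (k * h)).toMonoidHom :=
        sup_le (fun y hy => Subgroup.mem_sup_left (show (k * h) * y * (k * h)⁻¹ ∈ T by
          rw [hkT y hy]; exact apl_mem α hy)) fun y hy => Subgroup.mem_sup_right (hkh y hy)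
      exact hle' hx
    obtain ⟨β, hβ, hβx⟩ := exists_mem_autInducedBy (K := (⊤ : Subgroup G)) (P := T ⊔ C)
      (Subgroup.mem_top (k * h)) hn
    refine ⟨β, (autGroup_gfs hle).ge hβ, fun x => ?_, fun c hc => ?_⟩
    · rw [← apl_coe β, ← apl_coe α]
      exact (hβx _ (Subgroup.mem_sup_left x.2)).trans (hkT x x.2)
    · rw [← apl_coe β, hβx _ c.2]
      have h2 := C.mul_mem (C.inv_mem hc) (hkh _ hc)
      refine ⟨⟨h2.1, ?_⟩, h2.2⟩
      have e : (c : G)⁻¹ * (k * h * c * (k * h)⁻¹) =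
          ((c : G)⁻¹ * (k * h) * (c : G)⁻¹⁻¹) * (k * h)⁻¹ := by group
      rw [e]
      exact H.mul_mem (hH.conj_mem _ (H.mul_mem hk.1 hh) _) (H.inv_mem (H.mul_mem hk.1 hh))

end Cfsg.Agent.FusSys
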