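import Cfsg.Agent.FusSys.Realized
import Cfsg.Agent.FusSys.NormalSub

/-!
A normal subgroup of a group realizing a system gives a normal subsystem; simple systems and
simple groups.
-/

set_option autoImplicit false

namespace Cfsg.Agent.FusSys

open Cfsg Cfsg.FusionSystem

universe u v

variable {Ω : Type u} [Group Ω] {S : Subgroup Ω} {F : FusionSystem S} {G : Type v} [Group G]
variable {ι : S →* G} {P Q : Subgroup Ω} {f : Ω → Ω} {p : ℕ}

theorem thFn_pullConj (hinj : Function.Injective ι) {g : G} (x : S)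
    (h : g * ι x * g⁻¹ ∈ ι.range) :
    pullConj ι g x ∈ S ∧ thFn ι (pullConj ι g x) = g * ι x * g⁻¹ := by
  obtain ⟨y, hy⟩ := h
  rw [pullConj_eq hinj hy.symm]
  exact ⟨y.2, by rw [thFn_coe, hy]⟩

theorem mor_pullConj (hr : F.IsRealizedBy ι) {g : G} (hP : P ≤ S)
    (h : ∀ x : S, (x : Ω) ∈ P → g * ι x * g⁻¹ ∈ ι.range) : Mor F P (pullConj ι g) :=
  (mor_realized hr).2 ⟨hP, fun x hx => (thFn_pullConj hr.1 ⟨x, hP hx⟩ (h ⟨x, hP hx⟩ hx)).1, g,
    fun x hx => (thFn_pullConj hr.1 x (h x hx)).2⟩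

theorem eq_pullConj (hinj : Function.Injective ι) {g : G} {x : S} {y : Ω} (hy : y ∈ S)
    (h : thFn ι y = g * ι x * g⁻¹) : pullConj ι g x = y := by
  rw [thFn_apply hy] at h
  exact pullConj_eq hinj h.symm

/-- The maps coming from a normal subgroup. -/
def PullRel (ι : S →* G) (N : Subgroup G) (T P : Subgroup Ω) (f : Ω → Ω) : Prop :=
  P ≤ T ∧ (∀ x ∈ P, f x ∈ T) ∧ ∃ n ∈ N, ∀ x : S, (x : Ω) ∈ P → thFn ι (f x) = n * ι x * n⁻¹

theorem subRel_pullRel (hr : F.IsRealizedBy ι) (N : Subgroup G) {T : Subgroup Ω} (hTS : T ≤ S)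
    (hT : ∀ x : S, (x : Ω) ∈ T → ι x ∈ N) : SubRel F T (PullRel ι N T) where
  congr := by
    rintro P f g ⟨h1, h2, n, hn, hnf⟩ he
    exact ⟨h1, fun x hx => he x hx ▸ h2 x hx, n, hn, fun x hx => by rw [he x hx]; exact hnf x hx⟩
  le h := ⟨h.1, h.2.1⟩
  conj := fun {P s} hP hs =>
    ⟨mor_conj (hP.trans hTS) (hTS hs), hP,
      fun x hx => T.mul_mem (T.mul_mem hs (hP hx)) (T.inv_mem hs), ι ⟨s, hTS hs⟩,
      hT ⟨s, hTS hs⟩ hs, fun x hx => by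
        rw [thFn_conj (hTS hs) x.2, thFn_coe, thFn_apply (hTS hs)]⟩
  comp := by
    rintro P R f g hf ⟨h1, h2, n, hn, hnf⟩ - ⟨-, h2', m, hm, hmg⟩ hfR
    refine ⟨h1, fun x hx => h2' _ (hfR x hx), m * n, N.mul_mem hm hn, fun x hx => ?_⟩
    have h := hmg ⟨f x, hTS (h2 x hx)⟩ (hfR x hx)
    have h' := hnf x hx
    rw [thFn_apply (hTS (h2 x hx))] at h'
    show thFn ι (g (f x)) = _
    rw [h, h']
    group
  inv := by
    rintro P R f g hf ⟨h1, h2, n, hn, hnf⟩ hg hgf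
    refine ⟨fun y hy => ?_, fun y hy => h1 (hg.mem hy), n⁻¹, N.inv_mem hn, fun y hy => ?_⟩
    · obtain ⟨x, hx, rfl⟩ := hf.exists_eq hy
      exact h2 x hx
    obtain ⟨x, hx, hxy⟩ := hf.exists_eq hy
    have h := hnf ⟨x, hf.left_le hx⟩ hx
    rw [thFn_apply (hTS (h2 x hx))] at h
    rw [show ι y = ι ⟨f x, hTS (h2 x hx)⟩ from congrArg ι (Subtype.ext hxy.symm), h, ← hxy,
      hgf x hx, thFn_apply (hf.left_le hx)]
    group

variable [Finite G] [Fact p.Prime]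

/-- A normal subgroup of a realizing group gives a normal subsystem. -/
theorem exists_normal_of_normal [Finite S] (hr : F.IsRealizedBy ι) (T₀ : Sylow p G)
    (hT₀ : (T₀ : Subgroup G) = ι.range) (N : Subgroup G) [hN : N.Normal] :
    ∃ E : FusionSystem ((N.comap ι).map S.subtype), E.IsNormalIn F p ∧
      ∀ P f, Mor E P f ↔ Mor F P f ∧ PullRel ι N ((N.comap ι).map S.subtype) P f := by
  set T := (N.comap ι).map S.subtype with hTdef
  have hTS : T ≤ S := Subgroup.map_subtype_le _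
  have hmem : ∀ x : S, (x : Ω) ∈ T ↔ ι x ∈ N := fun x =>
    ⟨fun ⟨y, hy, hyx⟩ => Subtype.ext hyx ▸ hy, fun h => ⟨x, h, rfl⟩⟩
  have hM := subRel_pullRel hr N hTS fun x hx => (hmem x).1 hx
  haveI := finite_of_le hTS
  have himg : ∀ {g : G}, (∀ x : S, (x : Ω) ∈ T → g * ι x * g⁻¹ ∈ ι.range) →
      ∀ x ∈ T, pullConj ι g x ∈ T := by
    intro g h x hx
    obtain ⟨h1, h2⟩ := thFn_pullConj hr.1 ⟨x, hTS hx⟩ (h ⟨x, hTS hx⟩ hx)
    rw [thFn_apply h1] at h2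
    exact (hmem ⟨_, h1⟩).2 (h2 ▸ hN.conj_mem _ ((hmem ⟨x, hTS hx⟩).1 hx) g)
  refine ⟨subSys hM, ⟨⟨?_, realized_saturated hr ⟨T₀, hT₀⟩, fun P φ hφ => hφ.1, ?_, ?_, ?_⟩, ?_⟩,
    fun P f => mor_subSys hM⟩
  · -- saturated: realized by `N`
    let κ : T →* N := (ι.comp (Subgroup.inclusion hTS)).codRestrict N fun t => (hmem _).1 t.2
    refine realized_saturated (ι := κ) (G := N) ⟨fun a b hab => ?_, fun P hP φ hφ => ?_⟩ ?_
    · exact Subtype.ext (congrArg (fun s : S => (s : Ω)) (hr.1 (congrArg Subtype.val hab)))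
    · constructor
      · intro h
        obtain ⟨-, -, n, hn, hnx⟩ := h.2
        refine ⟨⟨n, hn⟩, fun x => Subtype.ext ?_⟩
        have h1 := hnx ⟨x, hTS (hP x.2)⟩ x.2
        rw [extendFn_coe, thFn_apply (hTS (hφ x))] at h1
        exact h1
      · rintro ⟨n, hn⟩
        have hv : ∀ x : S, (x : Ω) ∈ P → thFn ι (extendFn φ x) = (n : G) * ι x * (n : G)⁻¹ :=
          fun x hx => by
            rw [extendFn_apply φ hx, thFn_apply (hTS (hφ ⟨x, hx⟩))]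
            exact congrArg Subtype.val (hn ⟨x, hx⟩)
        have hm : Mor F P (extendFn φ) := (mor_realized hr).2 ⟨hP.trans hTS,
          fun x hx => by rw [extendFn_apply φ hx]; exact hTS (hφ ⟨x, hx⟩), n, hv⟩
        exact ((mor_subSys hM).2 ⟨hm, hP, fun x hx => by rw [extendFn_apply φ hx]; exact hφ ⟨x, hx⟩,
          n, n.2, hv⟩).hom_eq fun x => (extendFn_coe φ x).symm
    · have hs := sylow_inter_normal T₀ N
      obtain ⟨R, hR⟩ := (sylIn_iff (T₀.2.to_le inf_le_left) inf_le_right).1 hs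
      refine ⟨R, ?_⟩
      rw [hR]
      ext ⟨y, hy⟩
      rw [Subgroup.mem_subgroupOf]
      constructor
      · rintro ⟨h1, -⟩
        obtain ⟨x, hx⟩ := hT₀.le h1
        exact ⟨⟨x, (hmem x).2 (hx ▸ hy)⟩, Subtype.ext hx⟩
      · rintro ⟨t, ht⟩
        exact ⟨hT₀.ge ⟨_, congrArg Subtype.val ht⟩, hy⟩
  · refine stronglyClosed_iff.2 ⟨hTS, fun R f hR hf x hx => ?_⟩
    obtain ⟨hRS, hfS, g, hg⟩ := (mor_realized hr).1 hf
    have h := hg ⟨x, hRS hx⟩ hx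
    rw [thFn_apply (hfS x hx)] at h
    exact (hmem ⟨_, hfS x hx⟩).2 (h ▸ hN.conj_mem _ ((hmem _).1 (hR hx)) g)
  · intro P hPT φ hφ α hα
    obtain ⟨-, -, n, hn, hnx⟩ := hφ.2
    obtain ⟨-, hαS, g, hg⟩ := (mor_realized hr).1 (iso_apl hTS hα).1
    set R := (P.subgroupOf T).map (T.subtype.comp α.toMonoidHom) with hR
    have hRT : R ≤ T := by
      rintro _ ⟨y, -, rfl⟩
      exact (α y).2
    have hRv : ∀ x : P, ∀ (hφx : extendFn φ x ∈ T) (hx : apl α (x : Ω) ∈ S),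
        thFn ι (apl α (extendFn φ x)) = (g * n * g⁻¹) * ι ⟨_, hx⟩ * (g * n * g⁻¹)⁻¹ := by
      intro x hφx hx
      have h1 := hnx ⟨x, hTS (hPT x.2)⟩ x.2
      have h2 := hg ⟨x, hTS (hPT x.2)⟩ (hPT x.2)
      have h3 := hg ⟨_, hTS hφx⟩ hφx
      rw [thFn_apply (hTS hφx)] at h1
      rw [thFn_apply hx] at h2
      rw [h3, h1, h2]
      group
    have hval : ∀ y, ∀ hy : y ∈ S, y ∈ R →
        (g * n * g⁻¹) * ι ⟨y, hy⟩ * (g * n * g⁻¹)⁻¹ ∈ ι.range ∧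
          pullConj ι (g * n * g⁻¹) y ∈ T := by
      rintro _ hyS ⟨z, hz, rfl⟩
      have hy : apl α (z : Ω) ∈ S := hTS (apl_mem α z.2)
      have hφz : extendFn φ (z : Ω) ∈ T :=
        (mor_extendFn hφ).mem_S (show (z : Ω) ∈ P from hz)
      have h := hRv ⟨z, hz⟩ hφz hy
      have e : (⟨_, hyS⟩ : S) = ⟨_, hy⟩ := Subtype.ext (apl_coe α z).symm
      rw [e, ← h, thFn_apply (hTS (apl_mem α hφz))]
      refine ⟨⟨_, rfl⟩, ?_⟩
      rw [show T.subtype.comp α.toMonoidHom z = apl α (z : Ω) from (apl_coe α z).symm,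
        show apl α (z : Ω) = ((⟨_, hy⟩ : S) : Ω) from rfl,
        eq_pullConj hr.1 (hTS (apl_mem α hφz)) h]
      exact apl_mem α hφz
    obtain ⟨χ, hχ, hχx⟩ : Mor (subSys hM) R (pullConj ι (g * n * g⁻¹)) :=
      (mor_subSys hM).2 ⟨mor_pullConj hr (hRT.trans hTS) fun x hx => (hval x x.2 hx).1, hRT,
        fun x hx => (hval x (hTS (hRT hx)) hx).2, g * n * g⁻¹, hN.conj_mem n hn g,
        fun x hx => (thFn_pullConj hr.1 x (hval x x.2 hx).1).2⟩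
    refine ⟨χ, hχ, fun x hφx hαx => ?_⟩
    have hy : apl α (x : Ω) ∈ S := hTS (apl_mem α (hPT x.2))
    have hφx' : extendFn φ x ∈ T := by rw [extendFn_coe]; exact hφx
    rw [hχx]
    show pullConj ι (g * n * g⁻¹) ((α ⟨x, hPT x.2⟩ : T) : Ω) = ((α ⟨φ x, hφx⟩ : T) : Ω)
    rw [← apl_apply α (hPT x.2), ← apl_apply α hφx,
      show apl α (x : Ω) = ((⟨_, hy⟩ : S) : Ω) from rfl]
    refine eq_pullConj hr.1 (hTS (apl_mem α hφx)) ?_
    rw [← extendFn_coe φ x]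
    exact hRv x hφx' hy
  · intro P hPT φ hφ
    obtain ⟨hPS, hfS, g, hg⟩ := (mor_realized hr).1 (mor_extendFn hφ)
    -- the Frattini argument in `G`
    have hs := sylow_inter_normal T₀ N
    obtain ⟨R, hR⟩ := (sylIn_iff (T₀.2.to_le inf_le_left) inf_le_right).1 hs
    have hfr := Sylow.normalizer_sup_eq_top R
    rw [hR, Subgroup.subgroupOf_map_subtype,
      inf_eq_left.2 (inf_le_right : (T₀ : Subgroup G) ⊓ N ≤ N)] at hfr
    have hgm : g ∈ (⊤ : Subgroup G) := Subgroup.mem_top g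
    rw [← hfr, Subgroup.mem_sup_of_normal_right] at hgm
    obtain ⟨m, hm, n, hn, hmn⟩ := hgm
    subst hmn
    have hmT : ∀ x : S, (x : Ω) ∈ T → m * ι x * m⁻¹ ∈ ι.range := fun x hx =>
      hT₀.le ((Subgroup.mem_normalizer_iff.1 hm _).1 ⟨hT₀.ge ⟨x, rfl⟩, (hmem x).1 hx⟩).1
    have hiso : Iso F T T (pullConj ι m) := ⟨mor_pullConj hr hTS hmT, fun y =>
      ⟨fun hy => (mor_pullConj hr hTS hmT).surj_of_card hTS (himg hmT) le_rfl hy,
        fun ⟨x, hx, hxy⟩ => hxy ▸ himg hmT x hx⟩⟩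
    obtain ⟨α, hα, hαx⟩ := hiso.exists_mem_autGroup
    have hnv : ∀ x : S, (x : Ω) ∈ P → n * ι x * n⁻¹ ∈ ι.range ∧ pullConj ι n x ∈ T := by
      intro x hx
      have h1 := hg x hx
      rw [thFn_apply (hfS x hx)] at h1
      have h2 : n * ι x * n⁻¹ ∈ (T₀ : Subgroup G) ⊓ N := by
        rw [Subgroup.mem_normalizer_iff.1 hm]
        have e : m * (n * ι x * n⁻¹) * m⁻¹ = m * n * ι x * (m * n)⁻¹ := by group
        rw [e]
        exact ⟨hT₀.ge ⟨_, h1⟩, hN.conj_mem _ ((hmem x).1 (hPT hx)) _⟩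
      refine ⟨hT₀.le h2.1, ?_⟩
      obtain ⟨h3, h4⟩ := thFn_pullConj hr.1 x (hT₀.le h2.1)
      rw [thFn_apply h3] at h4
      exact (hmem ⟨_, h3⟩).2 (h4 ▸ h2.2)
    obtain ⟨φ₀, hφ₀, h₀⟩ : Mor (subSys hM) P (pullConj ι n) :=
      (mor_subSys hM).2 ⟨mor_pullConj hr hPS fun x hx => (hnv x hx).1, hPT,
        fun x hx => (hnv ⟨x, hPS hx⟩ hx).2, n, hn, fun x hx => (thFn_pullConj hr.1 x (hnv x hx).1).2⟩
    refine ⟨α, hα, φ₀, hφ₀, fun x hx => ?_⟩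
    rw [← apl_apply α hx, hαx _ hx, h₀, ← extendFn_coe φ x]
    obtain ⟨h3, h4⟩ := thFn_pullConj hr.1 ⟨x, hPS x.2⟩ (hnv ⟨x, hPS x.2⟩ x.2).1
    symm
    show pullConj ι m ((⟨_, h3⟩ : S) : Ω) = _
    refine eq_pullConj hr.1 (hfS x x.2) ?_
    rw [hg ⟨x, hPS x.2⟩ x.2]
    rw [thFn_apply h3] at h4
    rw [h4]
    group
  · -- the extension condition, from the group version
    intro α hα
    obtain ⟨-, -, n, hn, hnx⟩ := ((mor_subSys hM).1 (iso_apl le_rfl hα).1).2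
    have hG := normalSub_isNormalIn T₀ N
    set Tg := (T₀ : Subgroup G) ⊓ N with hTg
    have hcorr : ∀ x : S, (x : Ω) ∈ T ↔ ι x ∈ Tg := fun x =>
      ⟨fun h => ⟨hT₀.ge ⟨x, rfl⟩, (hmem x).1 h⟩, fun h => (hmem x).2 h.2⟩
    have hnT : ∀ y ∈ Tg, n * y * n⁻¹ ∈ Tg := fun y hy => by
      obtain ⟨x, rfl⟩ := hT₀.le hy.1
      have hx := (hcorr x).2 hy
      have hαS := hTS (apl_mem α hx)
      have h := hnx x hx
      rw [thFn_apply hαS] at h
      rw [← h]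
      exact (hcorr ⟨_, hαS⟩).1 (apl_mem α hx)
    have hi : Iso (fusionSystemOfSubgroup N Tg inf_le_right) Tg Tg (fun y => n * y * n⁻¹) := by
      have hm := mor_sub (hTH := (inf_le_right : Tg ≤ N)).2
        ⟨le_rfl, hnT, n, hn, fun _ _ => rfl⟩
      exact ⟨hm, fun y => ⟨fun hy => hm.surj_of_card le_rfl hnT le_rfl hy,
        fun ⟨x, hx, hxy⟩ => hxy ▸ hnT x hx⟩⟩
    obtain ⟨αg, hαg, hαgx⟩ := hi.exists_mem_autGroup
    obtain ⟨βg, hβg, hβT, hβC⟩ := hG.2 αg hαg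
    obtain ⟨g, hgx, -⟩ := (iso_apl (F := groupFusionSystem (T₀ : Subgroup G))
      (show Tg ⊔ centralizerIn (T₀ : Subgroup G) Tg ≤ (T₀ : Subgroup G) from
        sup_le inf_le_left inf_le_left) hβg).exists_conj_gfs
    set C := centralizerIn S T with hC
    have hcC : ∀ x : S, (x : Ω) ∈ C → ι x ∈ centralizerIn (T₀ : Subgroup G) Tg := fun x hx => by
      refine ⟨hT₀.ge ⟨x, rfl⟩, Subgroup.mem_centralizer_iff.2 fun y hy => ?_⟩
      obtain ⟨t, rfl⟩ := hT₀.le hy.1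
      rw [← map_mul, ← map_mul]
      exact congrArg ι (Subtype.ext (Subgroup.mem_centralizer_iff.1 hx.2 t ((hcorr t).2 hy)))
    have hgT : ∀ x : S, (x : Ω) ∈ T → g * ι x * g⁻¹ = n * ι x * n⁻¹ := fun x hx => by
      have hy := (hcorr x).1 hx
      rw [← hgx _ (Subgroup.mem_sup_left hy), apl_apply βg (Subgroup.mem_sup_left hy)]
      have h := hβT ⟨ι x, hy⟩
      rw [← apl_coe αg, hαgx _ hy] at h
      exact h
    have hgC : ∀ x : S, (x : Ω) ∈ C → (ι x)⁻¹ * (g * ι x * g⁻¹) ∈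
        Tg ⊓ Subgroup.centralizer (Tg : Set G) := fun x hx => by
      have hy := hcC x hx
      rw [← hgx _ (Subgroup.mem_sup_right hy), apl_apply βg (Subgroup.mem_sup_right hy)]
      exact hβC ⟨_, Subgroup.mem_sup_right hy⟩ hy
    have hTn : ∀ x : S, (x : Ω) ∈ T → g * ι x * g⁻¹ ∈ ι.range := fun x hx => by
      rw [hgT x hx]; exact hT₀.le (hnT _ ((hcorr x).1 hx)).1
    have hCn : ∀ x : S, (x : Ω) ∈ C → g * ι x * g⁻¹ ∈ ι.range := fun x hx => by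
      have h := ι.range.mul_mem ⟨x, rfl⟩ (hT₀.le (hgC x hx).1.1)
      rwa [mul_inv_cancel_left] at h
    have hle : T ⊔ C ≤ S := sup_le hTS inf_le_left
    have hall : ∀ x : S, (x : Ω) ∈ T ⊔ C → g * ι x * g⁻¹ ∈ ι.range := by
      have h : T ⊔ C ≤ ((ι.range.comap (MulAut.conj g).toMonoidHom).comap ι).map S.subtype :=
        sup_le (fun z hz => ⟨⟨z, hTS hz⟩, hTn _ hz, rfl⟩)
          fun z hz => ⟨⟨z, hz.1⟩, hCn _ hz, rfl⟩
      intro x hx
      obtain ⟨w, hw, hwx⟩ := h hx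
      have e : w = x := Subtype.ext hwx
      exact e ▸ hw
    have hm := mor_pullConj hr hle hall
    have hkC : ∀ x ∈ C, x⁻¹ * pullConj ι g x ∈ T ⊓ Subgroup.centralizer (T : Set Ω) := by
      intro x hx
      obtain ⟨h3, h4⟩ := thFn_pullConj hr.1 ⟨x, hx.1⟩ (hCn ⟨x, hx.1⟩ hx)
      rw [thFn_apply h3] at h4
      have h5 := hgC ⟨x, hx.1⟩ hx
      rw [← h4, ← map_inv, ← map_mul] at h5
      refine ⟨(hcorr (⟨x, hx.1⟩⁻¹ * ⟨_, h3⟩)).2 h5.1, Subgroup.mem_centralizer_iff.2 fun t ht => ?_⟩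
      refine congrArg Subtype.val (hr.1 (a₁ := ⟨t, hTS ht⟩ * (⟨x, hx.1⟩⁻¹ * ⟨_, h3⟩))
        (a₂ := (⟨x, hx.1⟩⁻¹ * ⟨_, h3⟩) * ⟨t, hTS ht⟩) ?_)
      rw [map_mul, map_mul ι _ (⟨t, hTS ht⟩ : S)]
      exact Subgroup.mem_centralizer_iff.1 h5.2 _ ((hcorr ⟨t, hTS ht⟩).1 ht)
    have hkT : ∀ x ∈ T, pullConj ι g x = apl α x := fun x hx => by
      show pullConj ι g ((⟨x, hTS hx⟩ : S) : Ω) = _
      refine eq_pullConj hr.1 (hTS (apl_mem α hx)) ?_
      rw [hgT ⟨x, hTS hx⟩ hx]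
      exact hnx ⟨x, hTS hx⟩ hx
    have hmaps : ∀ x ∈ T ⊔ C, pullConj ι g x ∈ T ⊔ C := fun x hx => hm.mem_of_sup
      (fun a ha => Subgroup.mem_sup_left (hkT a ha ▸ apl_mem α ha))
      (fun a ha => by
        have h := Subgroup.mul_mem (T ⊔ C) (Subgroup.mem_sup_right ha)
          (Subgroup.mem_sup_left (hkC a ha).1)
        rwa [mul_inv_cancel_left] at h) hx
    haveI := finite_of_le hle
    obtain ⟨β, hβ, hβx⟩ := Iso.exists_mem_autGroup (show Iso F (T ⊔ C) (T ⊔ C) (pullConj ι g) from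
      ⟨hm, fun y => ⟨fun hy => hm.surj_of_card hle hmaps le_rfl hy,
        fun ⟨x, hx, hxy⟩ => hxy ▸ hmaps x hx⟩⟩)
    refine ⟨β, hβ, fun x => ?_, fun c hc => ?_⟩
    · rw [← apl_coe β, ← apl_coe α]
      exact (hβx _ (Subgroup.mem_sup_left x.2)).trans (hkT x x.2)
    · rw [← apl_coe β, hβx _ c.2]
      exact hkC c hc

end Cfsg.Agent.FusSys
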