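import Mathlib.GroupTheory.Sylow
import Mathlib.GroupTheory.Nilpotent
import Mathlib.Data.Nat.ChineseRemainder

/-!
Sylow lemmas used for fusion systems.
-/

set_option autoImplicit false

namespace Cfsg.Agent.FusSys

variable {G : Type*} [Group G] {p : ℕ} [Fact p.Prime]

theorem exists_conj_mem_sylow [Finite G] {R : Subgroup G} (hR : IsPGroup p R) (T : Sylow p G) :
    ∃ g : G, ∀ x ∈ R, g * x * g⁻¹ ∈ (T : Subgroup G) := by
  obtain ⟨U, hU⟩ := hR.exists_le_sylow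
  obtain ⟨g, hg⟩ := MulAction.exists_smul_eq G U T
  refine ⟨g, fun x hx => ?_⟩
  rw [← hg, Sylow.coe_subgroup_smul]
  exact Subgroup.smul_mem_pointwise_smul x (MulAut.conj g) _ (hU hx)

theorem exists_normalizer_not_mem [Finite G] {R : Subgroup G} (hR : IsPGroup p R)
    (hi : p ∣ R.index) :
    ∃ g ∈ Subgroup.normalizer (R : Set G), g ∉ R ∧ ∃ e : ℕ, g ^ p ^ e = 1 := by
  obtain ⟨U, hU⟩ := hR.exists_le_sylow
  have hne : R ≠ (U : Subgroup G) := fun h => U.not_dvd_index (h ▸ hi)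
  haveI := U.2.isNilpotent
  have hlt : R.subgroupOf (U : Subgroup G) < ⊤ := lt_of_le_of_ne le_top fun h =>
    hne (le_antisymm hU (Subgroup.subgroupOf_eq_top.1 h))
  obtain ⟨⟨g, hgU⟩, hg, hgR⟩ := SetLike.exists_of_lt
    (Group.normalizerCondition_of_isNilpotent _ hlt)
  obtain ⟨e, he⟩ := U.2 ⟨g, hgU⟩
  refine ⟨g, Subgroup.mem_normalizer_iff.2 fun x => ⟨fun hx => ?_, fun hx => ?_⟩, hgR, e,
    congrArg Subtype.val he⟩
  · exact (Subgroup.mem_normalizer_iff.1 hg ⟨x, hU hx⟩).1 hx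
  · have hxU : x ∈ (U : Subgroup G) := by
      have h1 := U.mul_mem (U.mul_mem (U.inv_mem hgU) (hU hx)) hgU
      simpa [mul_assoc] using h1
    exact (Subgroup.mem_normalizer_iff.1 hg ⟨x, hxU⟩).2 hx

omit [Group G] in
theorem exists_exponent_one_mod {H : Type*} [Group H] (x : H) (hx : IsOfFinOrder x) (N : ℕ) :
    ∃ k : ℕ, k % p ^ N = 1 % p ^ N ∧ ∃ e : ℕ, (x ^ k) ^ p ^ e = 1 := by
  obtain ⟨a, m, hm, hn⟩ := Nat.exists_eq_pow_mul_and_not_dvd hx.orderOf_pos.ne' p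
    (Fact.out : p.Prime).ne_one
  have hco : (p ^ (N + a)).Coprime m :=
    Nat.Coprime.pow_left _ ((Fact.out : p.Prime).coprime_iff_not_dvd.2 hm)
  obtain ⟨k, hk1, hk0⟩ := Nat.chineseRemainder hco 1 0
  refine ⟨k, ?_, a, ?_⟩
  · exact Nat.ModEq.of_dvd (pow_dvd_pow p (Nat.le_add_right N a)) hk1
  · rw [← pow_mul, ← orderOf_dvd_iff_pow_eq_one, hn]
    rw [mul_comm k]
    exact mul_dvd_mul_left _ (Nat.modEq_zero_iff_dvd.1 hk0)

theorem pow_eq_self_of_mod {H : Type*} [Group H] {x : H} {N k : ℕ} (hx : x ^ p ^ N = 1)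
    (hk : k % p ^ N = 1 % p ^ N) : x ^ k = x := by
  conv_rhs => rw [← pow_one x]
  exact pow_eq_pow_iff_modEq.2 (Nat.ModEq.of_dvd (orderOf_dvd_iff_pow_eq_one.2 hx) hk)

theorem isPGroup_zpowers_of_pow_eq_one {H : Type*} [Group H] {x : H} {e : ℕ}
    (hx : x ^ p ^ e = 1) : IsPGroup p (Subgroup.zpowers x) := by
  rintro ⟨_, n, rfl⟩
  refine ⟨e, Subtype.ext ?_⟩
  show (x ^ n) ^ p ^ e = 1
  rw [← zpow_natCast (x ^ n), ← zpow_mul, mul_comm, zpow_mul, zpow_natCast, hx, one_zpow]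

end Cfsg.Agent.FusSys
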