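import Cfsg.Agent.FusSys.Extender
import Cfsg.Agent.FusSys.SylowAux

/-!
Consequences of saturation, and the two equivalent definitions of it.
-/

set_option autoImplicit false

namespace Cfsg.Agent.FusSys

open Cfsg Cfsg.FusionSystem

variable {Ω : Type*} [Group Ω] {S : Subgroup Ω}
variable {F : FusionSystem S} {P Q R : Subgroup Ω} {f g : Ω → Ω}

theorem fullyCentralized_of_receptive [Finite S] (hP : F.IsReceptive P) :
    F.IsFullyCentralized P := by
  refine ⟨hP.1, fun Q hQ => ?_⟩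
  obtain ⟨f, hf⟩ := isConj_iff.1 (isConj_symm hQ)
  obtain ⟨g, hg, hgf⟩ := (isReceptive_iff.1 hP).2 Q f hf
  exact (hg.mono centralizerIn_le_nPhi).card_image_le (centralizerIn_le S P) fun x hx =>
    hg.mem_centralizerIn hf.1.le_nPhi (hf.congr hgf) (centralizerIn_le_nPhi hx) hx.2

variable {p : ℕ}

theorem autInducedBy_subgroupOf_eq {T : Subgroup (MulAut P)} (R : Sylow p T)
    (h : (R : Subgroup T) = (autInducedBy S P).subgroupOf T) {β : T} :
    β ∈ (R : Subgroup T) ↔ (β : MulAut P) ∈ autInducedBy S P := by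
  rw [h]
  rfl

theorem fullyAutomized_iff [Fact p.Prime] [Finite S] (hS : IsPGroup p S) (hP : P ≤ S) :
    F.IsFullyAutomized p P ↔ ¬ p ∣ ((autInducedBy S P).subgroupOf (F.autGroup P)).index := by
  haveI := finite_of_le hP
  constructor
  · rintro ⟨-, R, hR⟩
    rw [← hR]
    exact R.not_dvd_index
  · intro h
    have hp : IsPGroup p ((autInducedBy S P).subgroupOf (F.autGroup P)) :=
      (isPGroup_autInducedBy hS).comap_subtype
    exact ⟨hP, hp.toSylow h, rfl⟩

/-- An isomorphism onto a fully automized receptive subgroup can be corrected so that it extends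
to the normalizer. -/
theorem exists_mor_normalizerIn [Fact p.Prime] [Finite S] (hS : IsPGroup p S)
    (hA : F.IsFullyAutomized p Q) (hR : F.IsReceptive Q) (h : F.IsConj P Q) :
    ∃ g, Mor F (normalizerIn S P) g ∧ Iso F P Q g ∧
      ∀ x ∈ normalizerIn S P, g x ∈ normalizerIn S Q := by
  obtain ⟨f, hf⟩ := isConj_iff.1 h
  obtain ⟨hQ, T, hT⟩ := hA
  haveI := finite_of_le hQ
  let D : Subgroup (F.autGroup Q) :=
    ((autInducedBy S P).map hf.conjAut.toMonoidHom).subgroupOf (F.autGroup Q)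
  have hD : IsPGroup p D := ((isPGroup_autInducedBy hS).map _).comap_subtype
  obtain ⟨c, hc⟩ := exists_conj_mem_sylow hD T
  have hf' : Iso F P Q (apl (c : MulAut Q) ∘ f) := hf.comp (iso_apl hQ c.2)
  have hle : normalizerIn S P ≤ nPhi S P (apl (c : MulAut Q) ∘ f) := fun a ha => by
    obtain ⟨α, hα, hax⟩ := exists_mem_autInducedBy (P := P) (K := S) ha.1 ha.2
    have hmem : hf.conjAut α ∈ F.autGroup Q :=
      hf.conjAut_mem (autInducedBy_le_autGroup hf.left_le hα)
    have h1 := hc ⟨_, hmem⟩ (Subgroup.mem_map.2 ⟨α, hα, rfl⟩)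
    rw [autInducedBy_subgroupOf_eq T hT, mem_autInducedBy_iff] at h1
    obtain ⟨s, hs, -, hsx⟩ := h1
    refine ⟨ha.1, ha.2, s, hs, fun x hx => ?_⟩
    show apl (c : MulAut Q) (f (a * x * a⁻¹)) = s * apl (c : MulAut Q) (f x) * s⁻¹
    rw [← hsx _ (apl_mem (c : MulAut Q) (hf.mem hx)), ← hax x hx, ← hf.conjAut_apl α hx]
    show _ = apl ((c : MulAut Q) * hf.conjAut α * (c : MulAut Q)⁻¹) _
    rw [apl_mul _ _ (apl_mem (c : MulAut Q) (hf.mem hx)), apl_inv_apl _ (hf.mem hx),
      apl_mul _ _ (hf.mem hx)]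
  obtain ⟨g, hg, hgf⟩ := (isReceptive_iff.1 hR).2 P _ hf'
  have hgN := hg.mono hle
  refine ⟨g, hgN, hf'.congr hgf, fun x hx => ?_⟩
  exact hgN.mem_normalizerIn (le_normalizerIn hf.left_le) (hf'.congr hgf) hx hx.2

theorem fullyNormalized_of_automized_receptive [Fact p.Prime] [Finite S] (hS : IsPGroup p S)
    (hA : F.IsFullyAutomized p Q) (hR : F.IsReceptive Q) : F.IsFullyNormalized Q := by
  refine ⟨hA.1, fun P hP => ?_⟩
  obtain ⟨g, hg, -, hgN⟩ := exists_mor_normalizerIn hS hA hR (isConj_symm hP)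
  exact hg.card_image_le (normalizerIn_le S Q) hgN

theorem exists_fullyNormalized_conj [Finite S] (hP : P ≤ S) :
    ∃ Q, F.IsConj P Q ∧ F.IsFullyNormalized Q := by
  classical
  have hfin : {Q : Subgroup Ω | F.IsConj P Q}.Finite := by
    refine (Set.toFinite ((fun T : Subgroup S => T.map S.subtype) '' Set.univ)).subset ?_
    intro Q hQ
    exact ⟨Q.subgroupOf S, trivial, Subgroup.map_subgroupOf_eq_of_le (isConj_le_right hQ)⟩
  obtain ⟨Q, hQ, hmax⟩ := Set.exists_max_image _ (fun Q => Nat.card ↥(normalizerIn S Q)) hfin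
    ⟨P, isConj_refl hP⟩
  exact ⟨Q, hQ, isConj_le_right hQ, fun T hT => hmax T (isConj_trans hQ hT)⟩

theorem exists_fullyCentralized_conj [Finite S] (hP : P ≤ S) :
    ∃ Q, F.IsConj P Q ∧ F.IsFullyCentralized Q := by
  classical
  have hfin : {Q : Subgroup Ω | F.IsConj P Q}.Finite := by
    refine (Set.toFinite ((fun T : Subgroup S => T.map S.subtype) '' Set.univ)).subset ?_
    intro Q hQ
    exact ⟨Q.subgroupOf S, trivial, Subgroup.map_subgroupOf_eq_of_le (isConj_le_right hQ)⟩
  obtain ⟨Q, hQ, hmax⟩ := Set.exists_max_image _ (fun Q => Nat.card ↥(centralizerIn S Q)) hfin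
    ⟨P, isConj_refl hP⟩
  exact ⟨Q, hQ, isConj_le_right hQ, fun T hT => hmax T (isConj_trans hQ hT)⟩

section Saturated

variable [Fact p.Prime] [Finite S] (hS : IsPGroup p S) (hF : F.IsSaturated p)
include hS hF

theorem fullyNormalized_imp_centralized_automized (hP : F.IsFullyNormalized P) :
    F.IsFullyCentralized P ∧ F.IsFullyAutomized p P := by
  obtain ⟨R, hPR, hA, hRec⟩ := hF P hP.1
  obtain ⟨g, hg, hgi, hgN⟩ := exists_mor_normalizerIn hS hA hRec hPR
  haveI := finite_of_le (normalizerIn_le S P)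
  haveI := finite_of_le hA.1
  have hcN : Nat.card ↥(normalizerIn S P) = Nat.card ↥(normalizerIn S R) :=
    le_antisymm (hg.card_image_le (normalizerIn_le S R) hgN) (hP.2 R hPR)
  have hcC : Nat.card ↥(centralizerIn S P) = Nat.card ↥(centralizerIn S R) := by
    refine le_antisymm ((fullyCentralized_of_receptive hRec).2 P (isConj_symm hPR)) ?_
    obtain ⟨N', hN'⟩ := hg.exists_iso
    obtain ⟨g', hg', hg'g, hgg'⟩ := hN'.symm
    have hpre : ∀ y ∈ centralizerIn S R, ∃ x ∈ normalizerIn S P, g x = y := fun y hy =>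
      hg.surj_of_card (normalizerIn_le S R) hgN hcN.ge (centralizerIn_le_normalizerIn S R hy)
    have hle : centralizerIn S R ≤ N' := fun y hy => by
      obtain ⟨x, hx, rfl⟩ := hpre y hy
      exact hN'.mem hx
    refine (hg'.1.mono hle).card_image_le (centralizerIn_le S P) fun y hy => ?_
    obtain ⟨x, hx, rfl⟩ := hpre y hy
    rw [hg'g x hx]
    exact ⟨hx.1, hg.centralizes_of_image (le_normalizerIn hP.1) hgi hx hy.2⟩
  refine ⟨⟨hP.1, fun Q hQ => ?_⟩, (fullyAutomized_iff hS hP.1).2 ?_⟩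
  · rw [hcC]
    exact (fullyCentralized_of_receptive hRec).2 Q (isConj_trans (isConj_symm hPR) hQ)
  · have h1 := (fullyAutomized_iff hS hA.1).1 hA
    have e1 := card_autInducedBy_mul (P := P) (K := S)
    have e2 := card_autInducedBy_mul (P := R) (K := S)
    rw [hcN, hcC] at e1
    haveI := finite_of_le hP.1
    haveI : Finite (MulAut P) := Finite.of_injective _ MulEquiv.toEquiv_injective
    haveI := finite_of_le (centralizerIn_le S R)
    have hpos : 0 < Nat.card ↥(centralizerIn S R) := Nat.card_pos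
    have e3 : Nat.card (autInducedBy S P) = Nat.card (autInducedBy S R) :=
      Nat.eq_of_mul_eq_mul_right hpos (e1.trans e2.symm)
    have i1 := Subgroup.card_mul_index ((autInducedBy S P).subgroupOf (F.autGroup P))
    have i2 := Subgroup.card_mul_index ((autInducedBy S R).subgroupOf (F.autGroup R))
    rw [Nat.card_congr
      (Subgroup.subgroupOfEquivOfLe (autInducedBy_le_autGroup hP.1)).toEquiv] at i1
    rw [Nat.card_congr
      (Subgroup.subgroupOfEquivOfLe (autInducedBy_le_autGroup hA.1)).toEquiv, ← e3,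
      ← hgi.card_autGroup] at i2
    rwa [Nat.eq_of_mul_eq_mul_left Nat.card_pos (i1.trans i2.symm)]

theorem receptive_of_fullyCentralized (hP : F.IsFullyCentralized P) : F.IsReceptive P := by
  obtain ⟨R, hPR, hA, hRec⟩ := hF P hP.1
  obtain ⟨g, hg, hgi, hgN⟩ := exists_mor_normalizerIn hS hA hRec hPR
  refine isReceptive_iff.2 ⟨hP.1, fun P' h hh => ?_⟩
  have hb : ∀ {a b : Ω}, a ∈ Subgroup.normalizer (P' : Set Ω) → b ∈ S →
      (∀ x ∈ P', h (a * x * a⁻¹) = b * h x * b⁻¹) → b ∈ normalizerIn S P := by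
    intro a b han hbS hx
    refine ⟨hbS, Subgroup.mem_normalizer_iff.2 fun y => ⟨fun hy => ?_, fun hy => ?_⟩⟩
    · obtain ⟨x, hxP, rfl⟩ := hh.exists_eq hy
      rw [← hx x hxP]
      exact hh.mem ((Subgroup.mem_normalizer_iff.1 han x).1 hxP)
    · obtain ⟨z, hz, hzy⟩ := hh.exists_eq hy
      have hw : a⁻¹ * z * a ∈ P' := by
        refine (Subgroup.mem_normalizer_iff.1 han _).2 ?_
        have : a * (a⁻¹ * z * a) * a⁻¹ = z := by group
        rwa [this]
      have h1 := hx _ hw
      have : a * (a⁻¹ * z * a) * a⁻¹ = z := by group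
      rw [this, hzy] at h1
      rw [mul_left_cancel (mul_right_cancel h1)]
      exact hh.mem hw
  have hgh : Iso F P' R (g ∘ h) := hh.comp hgi
  have hle : nPhi S P' h ≤ nPhi S P' (g ∘ h) := by
    rintro a ⟨haS, han, b, hbS, hx⟩
    have hbN := hb han hbS hx
    refine ⟨haS, han, g b, hg.mem_S hbN, fun x hxP => ?_⟩
    show g (h (a * x * a⁻¹)) = _
    rw [hx x hxP, hg.map_conj hbN (le_normalizerIn hP.1 (hh.mem hxP))]
    rfl
  obtain ⟨k, hk, hkh⟩ := (isReceptive_iff.1 hRec).2 P' _ hgh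
  have hk' := hk.mono hle
  obtain ⟨N', hN'⟩ := hg.exists_iso
  obtain ⟨g', hg', hg'g, hgg'⟩ := hN'.symm
  have hcent : ∀ y ∈ centralizerIn S R, ∃ x ∈ centralizerIn S P, g x = y := fun y hy =>
    (hg.mono (centralizerIn_le_normalizerIn S P)).surj_of_card (centralizerIn_le S R)
      (fun x hx => hg.mem_centralizerIn (le_normalizerIn hP.1) hgi
        (centralizerIn_le_normalizerIn S P hx) hx.2)
      (hP.2 R hPR) hy
  have himg : ∀ a ∈ nPhi S P' h, k a ∈ N' := by
    rintro a ha
    obtain ⟨haS, han, b, hbS, hx⟩ := ha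
    have hbN := hb han hbS hx
    have haN : a ∈ nPhi S P' h := ⟨haS, han, b, hbS, hx⟩
    have hc : (g b)⁻¹ * k a ∈ centralizerIn S R := by
      refine ⟨S.mul_mem (S.inv_mem (hg.mem_S hbN)) (hk'.mem_S haN),
        Subgroup.mem_centralizer_iff.2 fun y hy => ?_⟩
      obtain ⟨x, hxP, rfl⟩ := hgh.exists_eq hy
      have h1 := hk'.map_conj haN (hh.1.le_nPhi hxP)
      rw [hkh _ ((Subgroup.mem_normalizer_iff.1 han x).1 hxP), hkh x hxP] at h1
      have h2 : (g ∘ h) (a * x * a⁻¹) = g b * (g ∘ h) x * (g b)⁻¹ := by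
        show g (h (a * x * a⁻¹)) = _
        rw [hx x hxP, hg.map_conj hbN (le_normalizerIn hP.1 (hh.mem hxP))]
        rfl
      rw [h2] at h1
      calc (g ∘ h) x * ((g b)⁻¹ * k a)
          = (g b)⁻¹ * (g b * (g ∘ h) x * (g b)⁻¹) * k a := by group
        _ = (g b)⁻¹ * (k a * (g ∘ h) x * (k a)⁻¹) * k a := by rw [h1]
        _ = (g b)⁻¹ * k a * (g ∘ h) x := by group
    obtain ⟨c, hcm, hcc⟩ := hcent _ hc
    have : k a = g (b * c) := by
      rw [hg.map_mul hbN (centralizerIn_le_normalizerIn S P hcm), hcc]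
      group
    rw [this]
    exact hN'.mem (Subgroup.mul_mem _ hbN (centralizerIn_le_normalizerIn S P hcm))
  refine ⟨g' ∘ k, hk'.comp hg'.1 himg, fun x hx => ?_⟩
  show g' (k x) = h x
  rw [hkh x hx]
  exact hg'g _ (le_normalizerIn hP.1 (hh.mem hx))

theorem fullyAutomized_of_fullyNormalized (hP : F.IsFullyNormalized P) :
    F.IsFullyAutomized p P := (fullyNormalized_imp_centralized_automized hS hF hP).2

theorem fullyCentralized_of_fullyNormalized (hP : F.IsFullyNormalized P) :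
    F.IsFullyCentralized P := (fullyNormalized_imp_centralized_automized hS hF hP).1

theorem receptive_of_fullyNormalized (hP : F.IsFullyNormalized P) : F.IsReceptive P :=
  receptive_of_fullyCentralized hS hF (fullyCentralized_of_fullyNormalized hS hF hP)

/-- Into every fully normalized subgroup there is a map of the normalizer. -/
theorem exists_mor_to_fullyNormalized (hQ : F.IsFullyNormalized Q) (h : F.IsConj P Q) :
    ∃ g, Mor F (normalizerIn S P) g ∧ Iso F P Q g ∧
      ∀ x ∈ normalizerIn S P, g x ∈ normalizerIn S Q :=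
  exists_mor_normalizerIn hS (fullyAutomized_of_fullyNormalized hS hF hQ)
    (receptive_of_fullyNormalized hS hF hQ) h

theorem exists_fullyNormalized_mor (hP : P ≤ S) :
    ∃ Q g, F.IsFullyNormalized Q ∧ Mor F (normalizerIn S P) g ∧ Iso F P Q g ∧
      ∀ x ∈ normalizerIn S P, g x ∈ normalizerIn S Q := by
  obtain ⟨Q, hQ, hQn⟩ := exists_fullyNormalized_conj (F := F) hP
  obtain ⟨g, hg⟩ := exists_mor_to_fullyNormalized hS hF hQn hQ
  exact ⟨Q, g, hQn, hg⟩

end Saturated

theorem saturated_iff_fullyNormalized [Fact p.Prime] [Finite S] (hS : IsPGroup p S) :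
    F.IsSaturated p ↔
      (∀ P, F.IsFullyNormalized P → F.IsFullyCentralized P ∧ F.IsFullyAutomized p P) ∧
        ∀ P, F.IsFullyCentralized P → F.IsReceptive P := by
  refine ⟨fun hF => ⟨fun P => fullyNormalized_imp_centralized_automized hS hF,
    fun P => receptive_of_fullyCentralized hS hF⟩, fun h P hP => ?_⟩
  obtain ⟨Q, hQ, hQn⟩ := exists_fullyNormalized_conj (F := F) hP
  exact ⟨Q, hQ, (h.1 Q hQn).2, h.2 Q (h.1 Q hQn).1⟩

theorem apl_pow {α : MulAut P} {N : Subgroup Ω} {β : MulAut N} (hPN : P ≤ N)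
    (h : ∀ x ∈ P, apl β x = apl α x) (k : ℕ) : ∀ x ∈ P, apl (β ^ k) x = apl (α ^ k) x := by
  induction k with
  | zero => intro x hx; rw [pow_zero, pow_zero, apl_one hx, apl_one (hPN hx)]
  | succ k ih =>
    intro x hx
    rw [pow_succ, pow_succ, apl_mul _ _ hx, apl_mul _ _ (hPN hx), h x hx,
      ih _ (apl_mem α hx)]

theorem fullyAutomized_of_top_of_receptive [Fact p.Prime] [Finite S] (hS : IsPGroup p S)
    (htop : F.IsFullyAutomized p S)
    (hrec : ∀ P, F.IsFullyNormalized P → F.IsReceptive P) :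
    ∀ P, F.IsFullyNormalized P → F.IsFullyAutomized p P := by
  suffices H : ∀ n : ℕ, ∀ P, F.IsFullyNormalized P → Nat.card S - Nat.card P ≤ n →
      F.IsFullyAutomized p P from fun P hP => H _ P hP le_rfl
  intro n
  induction n using Nat.strong_induction_on with
  | h n ih =>
    intro P hP hn
    haveI := finite_of_le hP.1
    rcases eq_or_ne P S with rfl | hne
    · exact htop
    by_contra hA
    rw [fullyAutomized_iff hS hP.1, not_not] at hA
    obtain ⟨α, hαN, hαR, e, hαe⟩ := exists_normalizer_not_mem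
      ((isPGroup_autInducedBy hS).comap_subtype) hA
    have hαi : Iso F P P (apl (α : MulAut P)) := iso_apl hP.1 α.2
    have hN : normalizerIn S P ≤ nPhi S P (apl (α : MulAut P)) := fun a ha => by
      obtain ⟨γ, hγ, hγx⟩ := exists_mem_autInducedBy (P := P) (K := S) ha.1 ha.2
      have hγF := autInducedBy_le_autGroup (F := F) hP.1 hγ
      have h1 := (Subgroup.mem_normalizer_iff.1 hαN ⟨γ, hγF⟩).1 hγ
      obtain ⟨b, hb, -, hbx⟩ := mem_autInducedBy_iff.1 (Subgroup.mem_subgroupOf.1 h1)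
      refine ⟨ha.1, ha.2, b, hb, fun x hx => ?_⟩
      rw [← hbx _ (apl_mem _ hx), ← hγx x hx]
      show _ = apl ((α : MulAut P) * γ * (α : MulAut P)⁻¹) _
      rw [apl_mul _ _ (apl_mem _ hx), apl_inv_apl _ hx, apl_mul _ _ hx]
    obtain ⟨g, hg, hgα⟩ := (isReceptive_iff.1 (hrec P hP)).2 P _ hαi
    have hgN := hg.mono hN
    have hgm : ∀ x ∈ normalizerIn S P, g x ∈ normalizerIn S P := fun x hx =>
      hgN.mem_normalizerIn (le_normalizerIn hP.1) (hαi.congr hgα) hx hx.2
    haveI := finite_of_le (normalizerIn_le S P)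
    have hgi : Iso F (normalizerIn S P) (normalizerIn S P) g :=
      ⟨hgN, fun y => ⟨fun hy => hgN.surj_of_card (normalizerIn_le S P) hgm le_rfl hy,
        fun ⟨x, hx, hxy⟩ => hxy ▸ hgm x hx⟩⟩
    obtain ⟨β₀, hβ₀, hβ₀g⟩ := hgi.exists_mem_autGroup
    have hPN := le_normalizerIn (S := S) hP.1
    have hres : ∀ x ∈ P, apl β₀ x = apl (α : MulAut P) x := fun x hx =>
      (hβ₀g x (hPN hx)).trans (hgα x hx)
    obtain ⟨k, hk, e', hke⟩ := exists_exponent_one_mod (p := p) β₀ (isOfFinOrder_of_finite β₀) e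
    have hαk : (α : MulAut P) ^ k = α :=
      pow_eq_self_of_mod (by rw [← Subgroup.coe_pow, hαe]; rfl) hk
    have hβres : ∀ x ∈ P, apl (β₀ ^ k) x = apl (α : MulAut P) x := fun x hx => by
      rw [apl_pow hPN hres k x hx, hαk]
    have hβmem : β₀ ^ k ∈ F.autGroup (normalizerIn S P) := Subgroup.pow_mem _ hβ₀ k
    obtain ⟨R, hNR, hRn⟩ := exists_fullyNormalized_conj (F := F) (normalizerIn_le S P)
    obtain ⟨f, hf⟩ := isConj_iff.1 hNR
    have hlt : Nat.card P < Nat.card ↥(normalizerIn S P) := by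
      refine lt_of_le_of_ne (Subgroup.card_le_of_le hPN) fun he => hne ?_
      haveI : Group.IsNilpotent S := hS.isNilpotent
      by_contra hne'
      have hlt : P.subgroupOf S < ⊤ := lt_of_le_of_ne le_top fun h =>
        hne' (le_antisymm hP.1 (Subgroup.subgroupOf_eq_top.1 h))
      obtain ⟨⟨x, hxS⟩, hxn, hxP⟩ := SetLike.exists_of_lt
        (Group.normalizerCondition_of_isNilpotent _ hlt)
      refine hxP ?_
      have hxN : x ∈ normalizerIn S P := ⟨hxS, Subgroup.mem_normalizer_iff.2 fun y =>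
        ⟨fun hy => (Subgroup.mem_normalizer_iff.1 hxn ⟨y, hP.1 hy⟩).1 hy, fun hy => by
          have hyS : y ∈ S := by
            have := S.mul_mem (S.mul_mem (S.inv_mem hxS) (hP.1 hy)) hxS
            simpa [mul_assoc] using this
          exact (Subgroup.mem_normalizer_iff.1 hxn ⟨y, hyS⟩).2 hy⟩⟩
      rw [← Subgroup.eq_of_le_of_card_ge hPN he.ge] at hxN
      exact hxN
    have hRA : F.IsFullyAutomized p R := by
      have h1 := hf.card_eq
      have h2 := Subgroup.card_le_of_le hRn.1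
      exact ih (Nat.card S - Nat.card R) (by omega) R hRn le_rfl
    obtain ⟨-, T, hT⟩ := hRA
    haveI := finite_of_le hRn.1
    have hβR : hf.conjAut (β₀ ^ k) ∈ F.autGroup R := hf.conjAut_mem hβmem
    obtain ⟨c, hc⟩ := exists_conj_mem_sylow
      (isPGroup_zpowers_of_pow_eq_one (x := (⟨_, hβR⟩ : F.autGroup R)) (e := e')
        (Subtype.ext (by
          show hf.conjAut (β₀ ^ k) ^ p ^ e' = 1
          rw [← map_pow, hke, map_one]))) T
    have h1 := hc _ (Subgroup.mem_zpowers _)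
    rw [autInducedBy_subgroupOf_eq T hT, mem_autInducedBy_iff] at h1
    obtain ⟨s, hs, -, hsx⟩ := h1
    have hh : Iso F (normalizerIn S P) R (apl (c : MulAut R) ∘ f) :=
      hf.comp (iso_apl hRn.1 c.2)
    obtain ⟨P', hP', hP'R⟩ := hh.restrict hPN
    have hhs : ∀ x ∈ normalizerIn S P,
        s * (apl (c : MulAut R) ∘ f) x * s⁻¹ = (apl (c : MulAut R) ∘ f) (apl (β₀ ^ k) x) := by
      intro x hx
      show s * apl (c : MulAut R) (f x) * s⁻¹ = _
      rw [← hsx _ (apl_mem (c : MulAut R) (hf.mem hx))]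
      show apl ((c : MulAut R) * hf.conjAut (β₀ ^ k) * (c : MulAut R)⁻¹) _ =
        apl (c : MulAut R) (f _)
      rw [apl_mul _ _ (apl_mem (c : MulAut R) (hf.mem hx)), apl_inv_apl _ (hf.mem hx),
        apl_mul _ _ (hf.mem hx), hf.conjAut_apl _ hx]
    have hsP' : s ∈ normalizerIn S P' := by
      refine ⟨hs, Subgroup.mem_normalizer_iff.2 fun y => ⟨fun hy => ?_, fun hy => ?_⟩⟩
      · obtain ⟨x, hx, rfl⟩ := hP'.exists_eq hy
        rw [hhs x (hPN hx)]
        exact hP'.mem (by rw [hβres x hx]; exact apl_mem _ hx)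
      · obtain ⟨z, hz, hzy⟩ := hP'.exists_eq hy
        have hx : apl (α : MulAut P)⁻¹ z ∈ P := apl_mem _ hz
        have h1 := hhs _ (hPN hx)
        rw [hβres _ hx, apl_apl_inv _ hz, hzy] at h1
        exact mul_left_cancel (mul_right_cancel h1) ▸ hP'.mem hx
    have hRN : R ≤ normalizerIn S P' := fun y hy => by
      obtain ⟨x, hx, rfl⟩ := hh.exists_eq hy
      exact hh.1.mem_normalizerIn hPN hP' hx hx.2
    have hReq : R = normalizerIn S P' :=
      eq_of_le_of_card (normalizerIn_le S P') hRN ((hP.2 P' hP'.isConj).trans hh.card_eq.le)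
    obtain ⟨a, ha, has⟩ := hh.exists_eq (hReq.ge hsP')
    refine hαR (Subgroup.mem_subgroupOf.2 (mem_autInducedBy_iff.2 ⟨a, ha.1, ha.2, fun x hx => ?_⟩))
    refine hh.1.injOn (hPN (apl_mem _ hx)) ?_ ?_
    · exact Subgroup.mul_mem _ (Subgroup.mul_mem _ ha (hPN hx)) (Subgroup.inv_mem _ ha)
    · rw [hh.1.map_conj ha (hPN hx), has, hhs x (hPN hx), hβres x hx]

theorem saturated_iff_top_receptive [Fact p.Prime] [Finite S] (hS : IsPGroup p S) :
    F.IsSaturated p ↔
      F.IsFullyAutomized p S ∧ ∀ P, F.IsFullyNormalized P → F.IsReceptive P := by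
  refine ⟨fun hF => ⟨?_, fun P => receptive_of_fullyNormalized hS hF⟩, fun h P hP => ?_⟩
  · refine fullyAutomized_of_fullyNormalized hS hF ⟨le_rfl, fun Q _ => ?_⟩
    haveI := finite_of_le (normalizerIn_le S S)
    exact Subgroup.card_le_of_le (le_inf (normalizerIn_le S Q) ((normalizerIn_le S Q).trans
      Subgroup.le_normalizer))
  · obtain ⟨Q, hQ, hQn⟩ := exists_fullyNormalized_conj (F := F) hP
    exact ⟨Q, hQ, fullyAutomized_of_top_of_receptive hS h.1 h.2 Q hQn, h.2 Q hQn⟩

end Cfsg.Agent.FusSys
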