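import Cfsg.Agent.FusSys.Normal
import Cfsg.Agent.FusSys.Saturation
import Cfsg.Prelude.Def_FusionComponents

/-!
Subsystems over strongly closed subgroups.
-/

set_option autoImplicit false

namespace Cfsg.Agent.FusSys

open Cfsg Cfsg.FusionSystem

variable {Ω : Type*} [Group Ω] {S T : Subgroup Ω}
variable {F : FusionSystem S} {E : FusionSystem T} {Q : Subgroup Ω} {p : ℕ}

theorem isConj_of_sub (hsub : E.IsSubsystemOf F) {P : Subgroup Ω} (h : E.IsConj P Q) :
    F.IsConj P Q := by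
  obtain ⟨φ, hφ, hr⟩ := h
  exact ⟨φ, hsub P hφ, hr⟩

section

variable [Fact p.Prime] [Finite S] (hS : IsPGroup p S) (hF : F.IsSaturated p)
  (hT : F.StronglyClosed T) (hsub : E.IsSubsystemOf F) (hQT : Q ≤ T)
include hS hF hT hsub hQT

theorem fullyCentralized_sub (hQ : F.IsFullyCentralized Q) : E.IsFullyCentralized Q := by
  refine ⟨hQT, fun R hR => ?_⟩
  have hR' := isConj_of_sub hsub hR
  obtain ⟨f, hf⟩ := isConj_iff.1 (isConj_symm hR')
  obtain ⟨g, hg, hgf⟩ := (isReceptive_iff.1 (receptive_of_fullyCentralized hS hF hQ)).2 R f hf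
  have hfg : Iso F R Q g := hf.congr fun x hx => hgf x hx
  have hm : ∀ x : centralizerIn T R, g x ∈ centralizerIn T Q := fun x => by
    have hxN : (x : Ω) ∈ nPhi S R f := centralizerIn_le_nPhi ⟨hT.1 x.2.1, x.2.2⟩
    exact ⟨StronglyClosed.mor_mem hT hg hxN x.2.1,
      (hg.mem_centralizerIn hf.1.le_nPhi hfg hxN x.2.2).2⟩
  haveI := finite_of_le ((centralizerIn_le T Q).trans hT.1)
  exact Nat.card_le_card_of_injective (fun x => (⟨g x, hm x⟩ : centralizerIn T Q)) fun a b hab =>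
    Subtype.ext (hg.injOn (centralizerIn_le_nPhi ⟨hT.1 a.2.1, a.2.2⟩)
      (centralizerIn_le_nPhi ⟨hT.1 b.2.1, b.2.2⟩) (congrArg Subtype.val hab))

theorem fullyNormalized_sub (hQ : F.IsFullyNormalized Q) : E.IsFullyNormalized Q := by
  refine ⟨hQT, fun R hR => ?_⟩
  have hR' := isConj_of_sub hsub hR
  obtain ⟨g, hg, -, hgN⟩ := exists_mor_to_fullyNormalized hS hF hQ (isConj_symm hR')
  have hm : ∀ x : normalizerIn T R, g x ∈ normalizerIn T Q := fun x =>
    ⟨StronglyClosed.mor_mem hT hg ⟨hT.1 x.2.1, x.2.2⟩ x.2.1, (hgN x ⟨hT.1 x.2.1, x.2.2⟩).2⟩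
  haveI := finite_of_le ((normalizerIn_le T Q).trans hT.1)
  exact Nat.card_le_card_of_injective (fun x => (⟨g x, hm x⟩ : normalizerIn T Q)) fun a b hab =>
    Subtype.ext (hg.injOn ⟨hT.1 a.2.1, a.2.2⟩ ⟨hT.1 b.2.1, b.2.2⟩ (congrArg Subtype.val hab))

end

theorem IsSubnormal.le (h : E.IsSubnormalIn F p) : T ≤ S := by
  induction h with
  | refl => exact le_rfl
  | step _ h2 ih => exact ih.trans h2.1.2.2.2.1.1

theorem IsSubnormal.fullyNormalized {T S : Subgroup Ω} {E : FusionSystem T} {F : FusionSystem S}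
    {p : ℕ} (h : E.IsSubnormalIn F p) : [Fact p.Prime] → [Finite S] → IsPGroup p S →
      F.IsSaturated p → ∀ {Q : Subgroup Ω}, Q ≤ T → F.IsFullyNormalized Q →
        E.IsFullyNormalized Q := by
  induction h with
  | refl => intro _ _ _ _ Q _ hQ; exact hQ
  | step h1 h2 ih =>
    intro _ _ hS hF Q hQT hQ
    obtain ⟨⟨hDsat, -, hDsub, hU, -⟩, -⟩ := h2
    haveI := finite_of_le hU.1
    exact ih (hS.to_le hU.1) hDsat hQT
      (fullyNormalized_sub hS hF hU hDsub (hQT.trans (IsSubnormal.le h1)) hQ)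

end Cfsg.Agent.FusSys
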