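import Cfsg.Agent.FusSys.Saturation
import Cfsg.Agent.FusSys.Normal

/-!
Centric subgroups, `p`-elements of automorphism groups realized inside `S`, and the lemma that
two maps agreeing on a centric subgroup differ by an element of its centre.
-/

set_option autoImplicit false

namespace Cfsg.Agent.FusSys

open Cfsg Cfsg.FusionSystem

variable {Ω : Type*} [Group Ω] {S : Subgroup Ω}
variable {F : FusionSystem S} {P Q R : Subgroup Ω} {f g : Ω → Ω} {p : ℕ}

theorem Mor.inv_apply (hf : Mor F P f) {x y : Ω} (hx : x ∈ P) (hy : y ∈ P) :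
    f (x⁻¹ * y) = (f x)⁻¹ * f y := by
  rw [hf.map_mul (P.inv_mem hx) hy, hf.map_inv hx]

theorem lt_inf_normalizer [Fact p.Prime] [Finite S] (hS : IsPGroup p S) (hP : P ≤ S) (hQP : Q < P) :
    Q < P ⊓ Subgroup.normalizer (Q : Set Ω) := by
  refine lt_of_le_of_ne (le_inf hQP.le Subgroup.le_normalizer) fun he => ?_
  haveI := finite_of_le hP
  haveI : Group.IsNilpotent P := (hS.to_le hP).isNilpotent
  have hlt : Q.subgroupOf P < ⊤ := lt_of_le_of_ne le_top fun h =>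
    hQP.not_ge (Subgroup.subgroupOf_eq_top.1 h)
  obtain ⟨⟨g, hgP⟩, hg, hgQ⟩ := SetLike.exists_of_lt
    (Group.normalizerCondition_of_isNilpotent _ hlt)
  refine hgQ (he.ge ⟨hgP, Subgroup.mem_normalizer_iff.2 fun y => ⟨fun hy => ?_, fun hy => ?_⟩⟩)
  · exact (Subgroup.mem_normalizer_iff.1 hg ⟨y, hQP.le hy⟩).1 hy
  · have hyP : y ∈ P := by
      have := P.mul_mem (P.mul_mem (P.inv_mem hgP) (hQP.le hy)) hgP
      simpa [mul_assoc] using this
    exact (Subgroup.mem_normalizer_iff.1 hg ⟨y, hyP⟩).2 hy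

theorem lt_normalizerIn [Fact p.Prime] [Finite S] (hS : IsPGroup p S) (hP : P < S) :
    P < normalizerIn S P := lt_inf_normalizer hS le_rfl hP

theorem card_lt_of_lt' [Finite S] (hQ : Q ≤ S) (h : R < Q) : Nat.card R < Nat.card Q := by
  refine lt_of_le_of_ne ?_ fun he => h.ne (eq_of_le_of_card hQ h.le he.ge)
  haveI := finite_of_le hQ
  exact Subgroup.card_le_of_le h.le

/-! ### Centric subgroups -/

theorem centric_of_isConj (h : F.IsCentric P) (hc : F.IsConj P Q) : F.IsCentric Q :=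
  ⟨isConj_le_right hc, fun R hR => h.2 R (isConj_trans hc hR)⟩

theorem centric_self (h : F.IsCentric P) : centralizerIn S P ≤ P := h.2 P (isConj_refl h.1)

theorem centric_card (h : F.IsCentric P) (hc : F.IsConj P Q) :
    Nat.card ↥(centralizerIn S Q) = Nat.card (Subgroup.center P) := by
  obtain ⟨f, hf⟩ := isConj_iff.1 hc
  have e : centralizerIn S Q = (Subgroup.center Q).map Q.subtype := by
    ext x
    rw [Subgroup.mem_map]
    constructor
    · intro hx
      refine ⟨⟨x, h.2 Q hc hx⟩, Subgroup.mem_center_iff.2 fun y => Subtype.ext ?_, rfl⟩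
      exact Subgroup.mem_centralizer_iff.1 hx.2 y y.2
    · rintro ⟨y, hy, rfl⟩
      refine ⟨(isConj_le_right hc) y.2, Subgroup.mem_centralizer_iff.2 fun z hz => ?_⟩
      exact congrArg Subtype.val (Subgroup.mem_center_iff.1 hy ⟨z, hz⟩)
  rw [e, Subgroup.card_subtype]
  exact (Nat.card_congr (Subgroup.centerCongr hf.toEquiv).toEquiv).symm

theorem centric_fullyCentralized (h : F.IsCentric P) : F.IsFullyCentralized P :=
  ⟨h.1, fun Q hQ => le_of_eq ((centric_card h hQ).trans (centric_card h (isConj_refl h.1)).symm)⟩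

theorem centric_of_le [Finite S] (h : F.IsCentric P) (hPR : P ≤ R) (hR : R ≤ S) :
    F.IsCentric R := by
  refine ⟨hR, fun R' hR' => ?_⟩
  obtain ⟨f, hf⟩ := isConj_iff.1 hR'
  obtain ⟨P', hP', hP'R⟩ := hf.restrict hPR
  exact le_trans (inf_le_inf_left S (Subgroup.centralizer_le hP'R))
    ((h.2 P' hP'.isConj).trans hP'R)

theorem centric_top (F : FusionSystem S) [Finite S] : F.IsCentric S := by
  refine ⟨le_rfl, fun Q hQ => ?_⟩
  have := eq_of_le_of_card le_rfl (isConj_le_right hQ) (isConj_card_eq hQ).le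
  rw [this]
  exact inf_le_left

theorem centric_of_fullyCentralized [Finite S] (hU : F.IsFullyCentralized P)
    (hC : centralizerIn S P ≤ P) : F.IsCentric P := by
  refine ⟨hU.1, fun Q hQ => ?_⟩
  obtain ⟨f, hf⟩ := isConj_iff.1 hQ
  have e : Nat.card ↥(centralizerIn S P) ≤ Nat.card ↥(centralizerIn S Q ⊓ Q) := by
    refine (hf.1.mono hC).card_image_le (inf_le_right.trans (isConj_le_right hQ))
      fun x hx => ⟨⟨hf.1.mem_S (hC hx), Subgroup.mem_centralizer_iff.2 fun y hy => ?_⟩, hf.mem (hC hx)⟩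
    obtain ⟨z, hz, rfl⟩ := hf.exists_eq hy
    rw [← hf.1.map_mul hz (hC hx), ← hf.1.map_mul (hC hx) hz,
      Subgroup.mem_centralizer_iff.1 hx.2 z hz]
  exact (eq_of_le_of_card (centralizerIn_le S Q) inf_le_left ((hU.2 Q hQ).trans e)).ge.trans
    inf_le_right

section Saturated

variable [Fact p.Prime] [Finite S] (hS : IsPGroup p S) (hF : F.IsSaturated p)
include hS hF

theorem centric_receptive (h : F.IsCentric P) : F.IsReceptive P :=
  receptive_of_fullyCentralized hS hF (centric_fullyCentralized h)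

/-- A `p`-automorphism in the system becomes conjugation by an element of `S` after an isomorphism. -/
theorem exists_iso_conj_of_pElement (hP : P ≤ S) {α : MulAut P} (hα : α ∈ F.autGroup P) {e : ℕ}
    (he : α ^ p ^ e = 1) :
    ∃ P' h s, Iso F P P' h ∧ s ∈ normalizerIn S P' ∧
      ∀ x ∈ P, h (apl α x) = s * h x * s⁻¹ := by
  obtain ⟨R, hR, hRn⟩ := exists_fullyNormalized_conj (F := F) hP
  obtain ⟨f, hf⟩ := isConj_iff.1 hR
  obtain ⟨-, T, hT⟩ := fullyAutomized_of_fullyNormalized hS hF hRn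
  haveI := finite_of_le hRn.1
  have hαR : hf.conjAut α ∈ F.autGroup R := hf.conjAut_mem hα
  obtain ⟨c, hc⟩ := exists_conj_mem_sylow
    (isPGroup_zpowers_of_pow_eq_one (x := (⟨_, hαR⟩ : F.autGroup R)) (e := e)
      (Subtype.ext (by
        show hf.conjAut α ^ p ^ e = 1
        rw [← map_pow, he, map_one]))) T
  have h1 := hc _ (Subgroup.mem_zpowers _)
  rw [autInducedBy_subgroupOf_eq T hT, mem_autInducedBy_iff] at h1
  obtain ⟨s, hs, hsn, hsx⟩ := h1
  refine ⟨R, apl (c : MulAut R) ∘ f, s, hf.comp (iso_apl hRn.1 c.2), ⟨hs, hsn⟩, fun x hx => ?_⟩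
  show apl (c : MulAut R) (f (apl α x)) = s * apl (c : MulAut R) (f x) * s⁻¹
  rw [← hsx _ (apl_mem (c : MulAut R) (hf.mem hx))]
  show _ = apl ((c : MulAut R) * hf.conjAut α * (c : MulAut R)⁻¹) _
  rw [apl_mul _ _ (apl_mem (c : MulAut R) (hf.mem hx)), apl_inv_apl _ (hf.mem hx),
    apl_mul _ _ (hf.mem hx), hf.conjAut_apl _ hx]

/-- An automorphism of `P` fixing a centric normal subgroup pointwise is conjugation by an element
of its centre. -/
theorem aut_fixing_centric (hP : P ≤ S) (hQP : Q ≤ P) (hn : P ≤ Subgroup.normalizer (Q : Set Ω))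
    (hQ : F.IsCentric Q) {δ : MulAut P} (hδ : δ ∈ F.autGroup P)
    (hfix : ∀ x ∈ Q, apl δ x = x) :
    ∃ z, z ∈ centralizerIn S Q ∧ ∀ y ∈ P, apl δ y = z * y * z⁻¹ := by
  have hm : Mor F P (apl δ) := (iso_apl hP hδ).1
  have hd : ∀ y ∈ P, y⁻¹ * apl δ y ∈ centralizerIn S Q := fun y hy => by
    refine ⟨S.mul_mem (S.inv_mem (hP hy)) (hm.mem_S hy), Subgroup.mem_centralizer_iff.2 fun x hx => ?_⟩
    have hyx := (Subgroup.mem_normalizer_iff.1 (hn hy) x).1 hx
    have h1 := hm.map_conj hy (hQP hx)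
    rw [hfix _ hyx, hfix x hx] at h1
    calc x * (y⁻¹ * apl δ y) = y⁻¹ * (y * x * y⁻¹) * apl δ y := by group
      _ = y⁻¹ * (apl δ y * x * (apl δ y)⁻¹) * apl δ y := by rw [h1]
      _ = y⁻¹ * apl δ y * x := by group
  have hdQ : ∀ y ∈ P, y⁻¹ * apl δ y ∈ Q := fun y hy => centric_self hQ (hd y hy)
  have hiter : ∀ k : ℕ, ∀ y ∈ P, apl (δ ^ k) y = y * (y⁻¹ * apl δ y) ^ k := by
    intro k
    induction k with
    | zero => intro y hy; rw [pow_zero, pow_zero, mul_one, apl_one hy]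
    | succ k ih =>
      intro y hy
      have hdm : (y⁻¹ * apl δ y) ^ k ∈ Q := Q.pow_mem (hdQ y hy) k
      rw [pow_succ', apl_mul _ _ hy, ih y hy, hm.map_mul hy (hQP hdm), hfix _ hdm, pow_succ',
        ← mul_assoc, ← mul_assoc, mul_inv_cancel, one_mul]
  haveI := finite_of_le (centralizerIn_le S Q)
  obtain ⟨n, hn'⟩ := IsPGroup.iff_card.1 (hS.to_le (centralizerIn_le S Q))
  have hδp : δ ^ p ^ n = 1 := apl_ext fun y hy => by
    rw [hiter _ y hy, apl_one hy]
    have h1 : (⟨_, hd y hy⟩ : centralizerIn S Q) ^ p ^ n = 1 := by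
      rw [← hn']; exact pow_card_eq_one'
    rw [show (y⁻¹ * apl δ y) ^ p ^ n = 1 from congrArg Subtype.val h1, mul_one]
  obtain ⟨P', h, s, hh, hs, hsx⟩ := exists_iso_conj_of_pElement hS hF hP hδ hδp
  obtain ⟨Q', hQ', hQ'P⟩ := hh.restrict hQP
  have hsQ : s ∈ centralizerIn S Q' := by
    refine ⟨hs.1, Subgroup.mem_centralizer_iff.2 fun y hy => ?_⟩
    obtain ⟨x, hx, rfl⟩ := hQ'.exists_eq hy
    have h1 := hsx x (hQP hx)
    rw [hfix x hx] at h1
    calc h x * s = s * h x * s⁻¹ * s := by rw [← h1]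
      _ = s * h x := by group
  obtain ⟨z, hz, rfl⟩ := hQ'.exists_eq (hQ.2 Q' hQ'.isConj hsQ)
  refine ⟨z, ⟨hP (hQP hz), Subgroup.mem_centralizer_iff.2 fun x hx => ?_⟩, fun y hy => ?_⟩
  · refine hQ'.1.injOn (Q.mul_mem hx hz) (Q.mul_mem hz hx) ?_
    rw [hQ'.1.map_mul hx hz, hQ'.1.map_mul hz hx]
    exact Subgroup.mem_centralizer_iff.1 hsQ.2 _ (hQ'.mem hx)
  · refine hh.1.injOn (apl_mem _ hy) (P.mul_mem (P.mul_mem (hQP hz) hy) (P.inv_mem (hQP hz))) ?_
    rw [hsx y hy, hh.1.map_conj (hQP hz) hy]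

theorem eq_on_centric_of_normal (hQP : Q ≤ P) (hn : P ≤ Subgroup.normalizer (Q : Set Ω))
    (hQ : F.IsCentric Q) {f f' : Ω → Ω} (hf : Mor F P f) (hf' : Mor F P f')
    (h : ∀ x ∈ Q, f x = f' x) :
    ∃ z, z ∈ centralizerIn S Q ∧ ∀ y ∈ P, f' y = f (z * y * z⁻¹) := by
  obtain ⟨P', hP'⟩ := hf.exists_iso
  obtain ⟨f₀, hf₀, hf₀f, hff₀⟩ := hP'.symm
  obtain ⟨Q', hQ', hQ'P⟩ := hP'.restrict hQP
  have himg : ∀ y ∈ P, f' y ∈ P' := fun y hy => by
    have hc : (f y)⁻¹ * f' y ∈ centralizerIn S Q' := by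
      refine ⟨S.mul_mem (S.inv_mem (hf.mem_S hy)) (hf'.mem_S hy),
        Subgroup.mem_centralizer_iff.2 fun w hw => ?_⟩
      obtain ⟨x, hx, rfl⟩ := hQ'.exists_eq hw
      have hyx := (Subgroup.mem_normalizer_iff.1 (hn hy) x).1 hx
      have h1 := hf.map_conj hy (hQP hx)
      rw [h _ hyx, hf'.map_conj hy (hQP hx), ← h x hx] at h1
      calc f x * ((f y)⁻¹ * f' y) = (f y)⁻¹ * (f y * f x * (f y)⁻¹) * f' y := by group
        _ = (f y)⁻¹ * (f' y * f x * (f' y)⁻¹) * f' y := by rw [h1]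
        _ = (f y)⁻¹ * f' y * f x := by group
    have h2 := hQ'P (hQ.2 Q' hQ'.isConj hc)
    have h3 := P'.mul_mem (hP'.mem hy) h2
    rwa [mul_inv_cancel_left] at h3
  have hcomp : Mor F P (f₀ ∘ f') := hf'.comp hf₀.1 himg
  haveI := finite_of_le hf.le
  have hi : Iso F P P (f₀ ∘ f') :=
    ⟨hcomp, fun y => ⟨fun hy => hcomp.surj_of_card hf.le (fun x hx => hf₀.mem (himg x hx)) le_rfl hy,
      fun ⟨x, hx, hxy⟩ => hxy ▸ hf₀.mem (himg x hx)⟩⟩
  obtain ⟨δ, hδ, hδx⟩ := hi.exists_mem_autGroup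
  obtain ⟨z, hz, hzy⟩ := aut_fixing_centric hS hF hf.le hQP hn hQ hδ fun x hx => by
    rw [hδx x (hQP hx)]
    show f₀ (f' x) = x
    rw [← h x hx, hf₀f x (hQP hx)]
  refine ⟨z, hz, fun y hy => ?_⟩
  have h1 := hzy y hy
  rw [hδx y hy] at h1
  rw [← h1]
  exact (hff₀ _ (himg y hy)).symm

theorem eq_on_centric : ∀ {P Q : Subgroup Ω} {f f' : Ω → Ω}, Q ≤ P → F.IsCentric Q →
    Mor F P f → Mor F P f' → (∀ x ∈ Q, f x = f' x) →
    ∃ z, z ∈ centralizerIn S Q ∧ ∀ y ∈ P, f' y = f (z * y * z⁻¹) := by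
  suffices H : ∀ n : ℕ, ∀ {P Q : Subgroup Ω} {f f' : Ω → Ω}, Nat.card P - Nat.card Q ≤ n → Q ≤ P →
      F.IsCentric Q → Mor F P f → Mor F P f' → (∀ x ∈ Q, f x = f' x) →
      ∃ z, z ∈ centralizerIn S Q ∧ ∀ y ∈ P, f' y = f (z * y * z⁻¹) from
    fun {_ _ _ _} hQP => H _ le_rfl hQP
  intro n
  induction n using Nat.strong_induction_on with
  | h n ih =>
    intro P Q f f' hn hQP hQ hf hf' h
    rcases eq_or_ne Q P with rfl | hne
    · exact eq_on_centric_of_normal hS hF le_rfl Subgroup.le_normalizer hQ hf hf' h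
    have hlt := lt_inf_normalizer hS hf.le (lt_of_le_of_ne hQP hne)
    obtain ⟨z, hz, hzy⟩ := eq_on_centric_of_normal hS hF hlt.le inf_le_right hQ
      (hf.mono inf_le_left) (hf'.mono inf_le_left) h
    have hzP : z ∈ P := hQP (centric_self hQ hz)
    have hfz : Mor F P (fun y => f (z * y * z⁻¹)) :=
      (mor_conj hf.le hz.1).comp hf fun x hx => P.mul_mem (P.mul_mem hzP hx) (P.inv_mem hzP)
    have h2 := card_lt_of_lt' (inf_le_left.trans hf.le) hlt
    haveI := finite_of_le hf.le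
    have h3 := Subgroup.card_le_of_le (inf_le_left : P ⊓ Subgroup.normalizer (Q : Set Ω) ≤ P)
    obtain ⟨z₁, hz₁, hz₁y⟩ := ih (Nat.card P - Nat.card ↥(P ⊓ Subgroup.normalizer (Q : Set Ω)))
      (by omega) le_rfl inf_le_left (centric_of_le hQ hlt.le (inf_le_left.trans hf.le)) hfz hf'
      fun x hx => (hzy x hx).symm
    have hz₁' : z₁ ∈ centralizerIn S Q :=
      ⟨hz₁.1, Subgroup.centralizer_le hlt.le hz₁.2⟩
    refine ⟨z * z₁, Subgroup.mul_mem _ hz hz₁', fun y hy => ?_⟩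
    rw [hz₁y y hy]
    show f (z * (z₁ * y * z₁⁻¹) * z⁻¹) = _
    congr 1
    group

end Saturated

end Cfsg.Agent.FusSys
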