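import Cfsg.Agent.FusSys.Inner
import Cfsg.Agent.FusSys.Centric

/-!
Generating families: what a subsystem must contain to be the whole system.
-/

set_option autoImplicit false

namespace Cfsg.Agent.FusSys

open Cfsg Cfsg.FusionSystem

universe u

variable {Ω : Type u} [Group Ω] {S : Subgroup Ω}
variable {F F' : FusionSystem S} {P Q R : Subgroup Ω} {f g : Ω → Ω} {p : ℕ}

theorem mor_of_le (hle : F' ≤ F) (hf : Mor F' P f) : Mor F P f := le_iff_mor.1 hle P f hf

theorem iso_of_le (hle : F' ≤ F) (hf : Iso F' P Q f) : Iso F P Q f := ⟨mor_of_le hle hf.1, hf.2⟩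

theorem centric_of_sub (hle : F' ≤ F) (h : F.IsCentric P) : F'.IsCentric P :=
  ⟨h.1, fun R hR => by
    obtain ⟨f, hf⟩ := isConj_iff.1 hR
    exact h.2 R (iso_of_le hle hf).isConj⟩

section Saturated

variable [Fact p.Prime] [Finite S] (hS : IsPGroup p S) (hF : F.IsSaturated p)
include hS hF

/-- A map of `F` that restricts to a map of the saturated subsystem `F'` on a centric subgroup
is a map of `F'`. -/
theorem mor_of_restrict_centric (hF' : F'.IsSaturated p) (hle : F' ≤ F) :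
    ∀ {Q R : Subgroup Ω} {f : Ω → Ω}, Q ≤ R → F.IsCentric Q → Mor F R f → Mor F' Q f →
      Mor F' R f := by
  suffices H : ∀ n : ℕ, ∀ {Q R : Subgroup Ω} {f : Ω → Ω}, Nat.card R - Nat.card Q ≤ n → Q ≤ R →
      F.IsCentric Q → Mor F R f → Mor F' Q f → Mor F' R f from fun {_ _ _} h => H _ le_rfl h
  intro n
  induction n using Nat.strong_induction_on with
  | h n ih =>
    intro Q R f hn hQR hQ hf hf'
    rcases eq_or_ne Q R with rfl | hne
    · exact hf'
    set N := R ⊓ Subgroup.normalizer (Q : Set Ω) with hN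
    have hlt : Q < N := lt_inf_normalizer hS hf.le (lt_of_le_of_ne hQR hne)
    obtain ⟨Q', hQ'⟩ := hf'.exists_iso
    have hQ'c : F'.IsCentric Q' := centric_of_isConj (centric_of_sub hle hQ) hQ'.isConj
    obtain ⟨γ, hγ, hγf⟩ := (isReceptive_iff.1 (centric_receptive hS hF' hQ'c)).2 Q _ hQ'
    have hNn : N ≤ nPhi S Q f := fun y hy => mem_nPhi.2 ⟨hf.le hy.1, hy.2, f y, hf.mem_S hy.1,
      fun x hx => hf.map_conj hy.1 (hQR hx)⟩
    have hγN := hγ.mono hNn
    obtain ⟨z, hz, hzy⟩ := eq_on_centric_of_normal hS hF hlt.le inf_le_right hQ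
      (mor_of_le hle hγN) (hf.mono inf_le_left) hγf
    have hzN : z ∈ N := hlt.le (centric_self hQ hz)
    have hf'N : Mor F' N f := ((mor_conj hγN.le hz.1).comp hγN fun y hy =>
      N.mul_mem (N.mul_mem hzN hy) (N.inv_mem hzN)).congr hzy
    have h2 : Nat.card Q < Nat.card N := card_lt_of_lt' (inf_le_left.trans hf.le) hlt
    haveI := finite_of_le hf.le
    have h3 : Nat.card N ≤ Nat.card R := Subgroup.card_le_of_le inf_le_left
    exact ih (Nat.card R - Nat.card N) (by omega) le_rfl inf_le_left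
      (centric_of_le hQ hlt.le (inf_le_left.trans hf.le)) hf hf'N

theorem essential_lt_top (hQ : F.IsEssential p Q) : Q < S := by
  refine lt_of_le_of_ne hQ.1.1 ?_
  rintro rfl
  obtain ⟨-, -, _, E, hE⟩ := hQ
  haveI := innIn_normal F Q
  obtain ⟨-, T, hT⟩ := top_fullyAutomized hS hF
  have hcard : p ∣ (innIn F Q).index := by
    rw [Subgroup.index_eq_card]; exact hE.1
  rw [show innIn F Q = (T : Subgroup (F.autGroup Q)) from by
    rw [hT, autInducedBy_self_eq_inn]] at hcard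
  haveI : Finite (MulAut Q) := Finite.of_injective _ MulEquiv.toEquiv_injective
  exact T.not_dvd_index hcard

end Saturated

/-- An isomorphism onto `Q` defined on the normalizer. -/
def GenGood (F : FusionSystem S) (Q P : Subgroup Ω) (a : Ω → Ω) : Prop :=
  Mor F (normalizerIn S P) a ∧ Iso F P Q a

/-- Maps that act on the class of `Q` through the extendable automorphisms. -/
def OmitRel (F : FusionSystem S) (Q P : Subgroup Ω) (f : Ω → Ω) : Prop :=
  P ≤ S ∧ (∀ x ∈ P, f x ∈ S) ∧ (F.IsConj Q P → ∀ P', Iso F P P' f → ∀ a b,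
    GenGood F Q P a → GenGood F Q P' b → ∃ α ∈ Subgroup.closure (extGen F Q), ∀ x ∈ P, b (f x) = apl α (a x))

section Omit

variable [Fact p.Prime] [Finite S] (hS : IsPGroup p S)
include hS

/-- Maps extending to a larger subgroup are of this kind. -/
theorem omit_step {M P' : Subgroup Ω} {a b : Ω → Ω} (hPM : P < M) (hf : Mor F M f)
    (hi : Iso F P P' f) (ha : GenGood F Q P a) (hb : GenGood F Q P' b) :
    ∃ α ∈ Subgroup.closure (extGen F Q), ∀ x ∈ P, b (f x) = apl α (a x) := by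
  set N := M ⊓ Subgroup.normalizer (P : Set Ω) with hN
  have hlt : P < N := lt_inf_normalizer hS hf.le hPM
  have hNS : N ≤ normalizerIn S P := inf_le_inf_right _ hf.le
  obtain ⟨T₁, hT₁⟩ := (ha.1.mono hNS).exists_iso
  obtain ⟨g, hg, hga, -⟩ := hT₁.symm
  obtain ⟨a', ha', ha'a, haa'⟩ := ha.2.symm
  have hQT : Q ≤ T₁ := fun y hy => haa' y hy ▸ hT₁.mem (hlt.le (ha'.mem hy))
  have hgQ : ∀ y ∈ Q, g y = a' y := fun y hy => by
    conv_lhs => rw [← haa' y hy]
    exact hga _ (hlt.le (ha'.mem hy))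
  have hlt' : Q < T₁ := lt_of_le_of_ne hQT fun h => by
    have := card_lt_of_lt' (inf_le_left.trans hf.le) hlt
    rw [ha.2.card_eq, hT₁.card_eq, h] at this
    exact lt_irrefl _ this
  have hfN : ∀ x ∈ N, f x ∈ normalizerIn S P' := fun x hx =>
    hf.mem_normalizerIn hPM.le hi hx.1 hx.2
  have hγ : Mor F T₁ (b ∘ (f ∘ g)) :=
    (hg.1.comp (hf.mono inf_le_left) fun y hy => hg.mem hy).comp hb.1
      fun y hy => hfN _ (hg.mem hy)
  have hγi : Iso F Q Q (b ∘ (f ∘ g)) :=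
    ((ha'.comp hi).comp hb.2).congr fun y hy => by
      show b (f (g y)) = b (f (a' y))
      rw [hgQ y hy]
  obtain ⟨α, -, hαx⟩ := hγi.exists_mem_autGroup
  refine ⟨α, Subgroup.subset_closure ⟨T₁, _, hlt', hγ, fun y hy => (hαx y hy).symm⟩, fun x hx => ?_⟩
  rw [hαx _ (ha.2.mem hx)]
  show b (f x) = b (f (g (a x)))
  rw [hga x (hlt.le hx)]

theorem subRel_omit (hF : F.IsSaturated p) (hQ : F.IsEssential p Q) :
    SubRel F S (OmitRel F Q) where
  congr := by
    rintro P f g ⟨h1, h2, h3⟩ he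
    refine ⟨h1, fun x hx => he x hx ▸ h2 x hx, fun hc P' hi a b ha hb => ?_⟩
    obtain ⟨α, hα, h⟩ := h3 hc P' (hi.congr fun x hx => (he x hx).symm) a b ha hb
    exact ⟨α, hα, fun x hx => by rw [he x hx]; exact h x hx⟩
  le h := ⟨h.1, h.2.1⟩
  conj := by
    intro P s hP hs
    refine ⟨mor_conj hP hs, hP, fun x hx => S.mul_mem (S.mul_mem hs (hP hx)) (S.inv_mem hs),
      fun hc P' hi a b ha hb => omit_step hS (M := S) ?_ (mor_conj le_rfl hs) hi ha hb⟩
    refine lt_of_le_of_ne hP fun h => (essential_lt_top hS hF hQ).ne ?_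
    exact eq_of_le_of_card le_rfl hQ.1.1 (by rw [isConj_card_eq hc, h])
  comp := by
    rintro P R f g hf ⟨h1, h2, h3⟩ hg ⟨-, h2', h3'⟩ hfR
    refine ⟨h1, fun x hx => h2' _ (hfR x hx), fun hc P'' hi a b ha hb => ?_⟩
    obtain ⟨P', hP'⟩ := hf.exists_iso
    have hle : P' ≤ R := fun y hy => by
      obtain ⟨x, hx, rfl⟩ := hP'.exists_eq hy
      exact hfR x hx
    have hgi : Iso F P' P'' g := ⟨hg.mono hle, fun y => ⟨fun hy => by
      obtain ⟨x, hx, rfl⟩ := hi.exists_eq hy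
      exact ⟨f x, hP'.mem hx, rfl⟩, fun ⟨z, hz, hzy⟩ => by
      obtain ⟨x, hx, rfl⟩ := hP'.exists_eq hz
      exact hzy ▸ hi.mem hx⟩⟩
    have hc' : F.IsConj Q P' := isConj_trans hc hP'.isConj
    obtain ⟨c, hc1, hc2, -⟩ := exists_mor_to_fullyNormalized hS hF hQ.2.1 (isConj_symm hc')
    obtain ⟨α, hα, hαx⟩ := h3 hc P' hP' a c ha ⟨hc1, hc2⟩
    have key : ∃ β ∈ Subgroup.closure (extGen F Q), ∀ y ∈ P', b (g y) = apl β (c y) := by
      rcases eq_or_lt_of_le hle with h | h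
      · exact (h ▸ h3') hc' P'' hgi c b ⟨hc1, hc2⟩ hb
      · exact omit_step hS h hg hgi ⟨hc1, hc2⟩ hb
    obtain ⟨β, hβ, hβx⟩ := key
    refine ⟨β * α, mul_mem hβ hα, fun x hx => ?_⟩
    show b (g (f x)) = _
    rw [apl_mul _ _ (ha.2.mem hx), hβx _ (hP'.mem hx), hαx x hx]
  inv := by
    rintro P R f g hf ⟨h1, -, h3⟩ hg hgf
    refine ⟨hf.right_le, fun y hy => hg.right_le (hg.mem hy), fun hc P' hi a b ha hb => ?_⟩
    obtain rfl : P' = P := hi.eq_image hg
    obtain ⟨α, hα, hαx⟩ := h3 (isConj_trans hc hi.isConj) R hf b a hb ha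
    refine ⟨α⁻¹, inv_mem hα, fun y hy => ?_⟩
    obtain ⟨x, hx, rfl⟩ := hf.exists_eq hy
    rw [hgf x hx, hαx x hx, apl_inv_apl _ (hb.2.mem hx)]

/-- The class of an essential subgroup cannot be omitted. -/
theorem exists_omit (hF : F.IsSaturated p) (hQ : F.IsEssential p Q) :
    ∃ E : FusionSystem S, (∀ R : Subgroup Ω, R ≤ S → ¬ F.IsConj Q R → F.autGroup R ≤ E.autGroup R) ∧
      ¬ F ≤ E := by
  have hM := subRel_omit hS hF hQ
  refine ⟨subSys hM, fun R hR hc α hα => Subgroup.subset_closure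
    (((mor_subSys hM).2 ⟨(iso_apl hR hα).1, hR, fun x hx => hR (apl_mem α hx),
      fun h => absurd h hc⟩).hom_eq fun x => (apl_coe α x).symm), fun hle => ?_⟩
  have hQS := hQ.1.1
  have htop : Subgroup.closure (extGen F Q) = F.autGroup Q := by
    refine le_antisymm extGen_closure_le fun α hα => ?_
    have h := ((mor_subSys hM).1 (le_iff_mor.1 hle Q _ (iso_apl hQS hα).1)).2
    have hg : GenGood F Q Q id := ⟨mor_id inf_le_left, iso_id hQS⟩
    obtain ⟨β, hβ, hβx⟩ := h.2.2 (isConj_refl hQS) Q (iso_apl hQS hα) id id hg hg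
    have e : α = β := apl_ext hβx
    exact e ▸ hβ
  rcases essential_or_extGen hS hF (essential_lt_top hS hF hQ) hQ.2.1 with ⟨h, -⟩ | ⟨-, h⟩
  · exact h hQ
  · refine h.2.1 ?_
    rw [htop, Subgroup.subgroupOf_self]
    exact Subgroup.map_top_of_surjective _ (QuotientGroup.mk'_surjective _)

omit [Fact p.Prime] hS in
/-- The subsystem with all maps off `S` and only inner automorphisms of `S`. -/
theorem subRel_omitTop :
    SubRel F S (fun P f => P ≤ S ∧ (∀ x ∈ P, f x ∈ S) ∧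
      (P = S → ∃ s ∈ S, ∀ x ∈ P, f x = s * x * s⁻¹)) where
  congr := by
    rintro P f g ⟨h1, h2, h3⟩ he
    exact ⟨h1, fun x hx => he x hx ▸ h2 x hx, fun h => by
      obtain ⟨s, hs, hsx⟩ := h3 h
      exact ⟨s, hs, fun x hx => (he x hx).trans (hsx x hx)⟩⟩
  le h := ⟨h.1, h.2.1⟩
  conj := fun {P s} hP hs =>
    ⟨mor_conj hP hs, hP, fun x hx => S.mul_mem (S.mul_mem hs (hP hx)) (S.inv_mem hs),
      fun _ => ⟨s, hs, fun _ _ => rfl⟩⟩
  comp := by
    rintro P R f g hf ⟨h1, h2, h3⟩ hg ⟨-, h2', h3'⟩ hfR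
    refine ⟨h1, fun x hx => h2' _ (hfR x hx), fun h => ?_⟩
    obtain ⟨s, hs, hsx⟩ := h3 h
    have hR : R = S := le_antisymm hg.le fun y hy => by
      subst h
      have hx : s⁻¹ * y * s ∈ P := P.mul_mem (P.mul_mem (P.inv_mem hs) hy) hs
      have := hfR _ hx
      rw [hsx _ hx] at this
      have e : s * (s⁻¹ * y * s) * s⁻¹ = y := by group
      rwa [e] at this
    obtain ⟨t, ht, htx⟩ := h3' hR
    refine ⟨t * s, S.mul_mem ht hs, fun x hx => ?_⟩
    show g (f x) = _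
    rw [htx _ (hfR x hx), hsx x hx]
    group
  inv := by
    rintro P R f g hf ⟨h1, -, h3⟩ hg hgf
    refine ⟨hf.right_le, fun y hy => hg.right_le (hg.mem hy), fun h => ?_⟩
    have hP : P = S := eq_of_le_of_card le_rfl h1 (by rw [hf.card_eq, h])
    obtain ⟨s, hs, hsx⟩ := h3 hP
    refine ⟨s⁻¹, S.inv_mem hs, fun y hy => ?_⟩
    obtain ⟨x, hx, rfl⟩ := hf.exists_eq hy
    rw [hgf x hx, hsx x hx]
    group

omit [Fact p.Prime] hS in
theorem autGroup_top_inn_of_omit
    (hg : ∀ E : FusionSystem S, (∀ R : Subgroup Ω, R ≠ S → F.autGroup R ≤ E.autGroup R) → F ≤ E) :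
    F.autGroup S ≤ Inn S := by
  have hM := subRel_omitTop (F := F)
  have hle := hg (subSys hM) fun R hR α hα => by
    by_cases hRS : R ≤ S
    · exact Subgroup.subset_closure (((mor_subSys hM).2 ⟨(iso_apl hRS hα).1, hRS,
        fun x hx => hRS (apl_mem α hx), fun h => absurd h hR⟩).hom_eq fun x => (apl_coe α x).symm)
    · rw [autGroup_eq_bot hRS, Subgroup.mem_bot] at hα
      rw [hα]
      exact one_mem _
  intro α hα
  obtain ⟨s, hs, hsx⟩ :=
    ((mor_subSys hM).1 (le_iff_mor.1 hle S _ (iso_apl le_rfl hα).1)).2.2.2 rfl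
  exact ⟨⟨s, hs⟩, apl_ext fun x hx => by rw [apl_conj _ hx, hsx x hx]⟩

/-- A conjugation-closed generating family contains every essential subgroup, and `S` unless
`Aut_F(S) = Inn(S)`. -/
theorem mem_of_generating (hF : F.IsSaturated p) {𝒬 : Set (Subgroup Ω)}
    (h : ∀ R ∈ 𝒬, ∀ R' : Subgroup Ω, F.IsConj R R' → R' ∈ 𝒬)
    (hg : ∀ E : FusionSystem S, (∀ R ∈ 𝒬, F.autGroup R ≤ E.autGroup R) → F ≤ E) :
    (∀ Q, F.IsEssential p Q → Q ∈ 𝒬) ∧ (S ∈ 𝒬 ∨ F.autGroup S ≤ Inn S) := by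
  refine ⟨fun Q hQ => ?_, ?_⟩
  · by_contra hne
    obtain ⟨E, hE, hnle⟩ := exists_omit hS hF hQ
    refine hnle (hg E fun R hR => ?_)
    by_cases hRS : R ≤ S
    · exact hE R hRS fun hc => hne (h R hR Q (isConj_symm hc))
    · rw [autGroup_eq_bot hRS]; exact bot_le
  · by_cases hS' : S ∈ 𝒬
    · exact Or.inl hS'
    · exact Or.inr (autGroup_top_inn_of_omit fun E hE =>
        hg E fun R hR => hE R fun e => hS' (e ▸ hR))

end Omit

end Cfsg.Agent.FusSys
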