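import Cfsg.Agent.FusSys.TateCor
import Cfsg.Agent.FusSys.Generation

/-!
Inner systems of abelian groups as normal subsystems.
-/

set_option autoImplicit false

namespace Cfsg.Agent.FusSys

open Cfsg Cfsg.FusionSystem

universe u

variable {Ω : Type u} [Group Ω] {S T : Subgroup Ω} {F : FusionSystem S} {p : ℕ}

theorem mor_inner_comm (hab : ∀ x ∈ T, ∀ y ∈ T, x * y = y * x) {P : Subgroup Ω} {f : Ω → Ω} :
    Mor (innerFusionSystem T) P f ↔ P ≤ T ∧ ∀ x ∈ P, f x = x := by
  rw [mor_inner]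
  refine ⟨fun ⟨h1, g, hg, h⟩ => ⟨h1, fun x hx => ?_⟩, fun ⟨h1, h⟩ => ⟨h1, 1, T.one_mem, fun x hx => by
    rw [h x hx]; group⟩⟩
  rw [h x hx, hab g hg x (h1 hx)]
  group

/-- Inner systems are saturated. -/
theorem inner_saturated' [Fact p.Prime] [Finite S] (hS : IsPGroup p S) :
    (innerFusionSystem S).IsSaturated p := by
  rw [saturated_iff_top_receptive hS]
  refine ⟨⟨le_rfl, ?_⟩, fun P hP => isReceptive_iff.2 ⟨hP.1, fun R f hf => ?_⟩⟩
  · have hinn : (innerFusionSystem S).autGroup S = autInducedBy S S := by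
      refine le_antisymm (fun α hα => ?_) (autInducedBy_le_inner le_rfl)
      obtain ⟨-, g, hg, hgx⟩ := mor_inner.1 (iso_apl le_rfl hα).1
      exact mem_autInducedBy_iff.2 ⟨g, hg, Subgroup.le_normalizer hg, hgx⟩
    have hp : IsPGroup p ((innerFusionSystem S).autGroup S) := by
      rw [hinn]
      exact isPGroup_autInducedBy hS
    refine ⟨(hp.of_equiv Subgroup.topEquiv.symm).toSylow ?_, ?_⟩
    · rw [Subgroup.index_top]
      exact (Fact.out : p.Prime).not_dvd_one
    · show (⊤ : Subgroup ((innerFusionSystem S).autGroup S)) = _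
      rw [← hinn, Subgroup.subgroupOf_self]
  · obtain ⟨hR, g, hg, hgx⟩ := mor_inner.1 hf.1
    exact ⟨fun x => g * x * g⁻¹, mor_inner.2 ⟨fun x hx => hx.1, g, hg, fun x _ => rfl⟩,
      fun x hx => (hgx x hx).symm⟩

/-- The inner system of a strongly closed abelian subgroup with the Frattini property is normal. -/
theorem inner_isNormalIn [Fact p.Prime] [Finite S] (hS : IsPGroup p S) (hF : F.IsSaturated p)
    (hT : F.StronglyClosed T) (hab : ∀ x ∈ T, ∀ y ∈ T, x * y = y * x)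
    (hext : ∀ P f, P ≤ T → Mor F P f → ∃ α ∈ F.autGroup T, ∀ x ∈ P, apl α x = f x) :
    (innerFusionSystem T).IsNormalIn F p := by
  haveI := finite_of_le hT.1
  refine ⟨⟨inner_saturated' (hS.to_le hT.1), hF, fun P φ hφ => ?_, hT, ?_, ?_⟩, ?_⟩
  · obtain ⟨hPT, h⟩ := (mor_inner_comm hab).1 (mor_extendFn hφ)
    exact ((mor_id (hPT.trans hT.1)).congr h).hom_eq fun x => (extendFn_coe φ x).symm
  · intro P hPT φ hφ α hα
    have h := ((mor_inner_comm hab).1 (mor_extendFn hφ)).2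
    have hle : (P.subgroupOf T).map (T.subtype.comp α.toMonoidHom) ≤ T := by
      rintro _ ⟨x, -, rfl⟩
      exact (α x).2
    obtain ⟨χ, hχ, hχx⟩ := (mor_inner_comm (f := id) hab).2 ⟨hle, fun x _ => rfl⟩
    refine ⟨χ, hχ, fun x hφx hαx => ?_⟩
    rw [hχx]
    show ((α ⟨x, hPT x.2⟩ : T) : Ω) = ((α ⟨φ x, hφx⟩ : T) : Ω)
    have e : φ x = x := (extendFn_coe φ x).symm.trans (h x x.2)
    simp only [e]
  · intro P hPT φ hφ
    obtain ⟨α, hα, hαx⟩ := hext P _ hPT (mor_extendFn hφ)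
    obtain ⟨φ₀, hφ₀, h₀⟩ := (mor_inner_comm (f := id) hab).2 ⟨hPT, fun x _ => rfl⟩
    refine ⟨α, hα, φ₀, hφ₀, fun x hx => ?_⟩
    rw [← apl_apply α hx, h₀]
    exact (extendFn_coe φ x).symm.trans (hαx x x.2).symm
  · intro α hα
    have h := ((mor_inner_comm hab).1 (iso_apl le_rfl hα).1).2
    refine ⟨1, one_mem _, fun x => ?_, fun c _ => ?_⟩
    · rw [← apl_coe α, h x x.2]; rfl
    · show (c : Ω)⁻¹ * (c : Ω) ∈ _
      rw [inv_mul_cancel]; exact one_mem _

/-- In a saturated system over an abelian group every map extends to `S`. -/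
theorem isNormal_top_of_comm [Fact p.Prime] [Finite S] (hS : IsPGroup p S) (hF : F.IsSaturated p)
    (hab : ∀ x ∈ S, ∀ y ∈ S, x * y = y * x) : F.IsNormal S := by
  refine (isNormal_iff_essential hS hF).2 fun P hP => ?_
  rcases hP with rfl | hP
  · exact ⟨le_rfl, fun α _ => by
      rw [Subgroup.subgroupOf_self]
      exact Subgroup.map_top_of_surjective _ α.surjective⟩
  · refine absurd ?_ (essential_lt_top hS hF hP).ne
    exact le_antisymm hP.1.1 fun s hs => centric_self hP.1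
      ⟨hs, Subgroup.mem_centralizer_iff.2 fun y hy => hab y (hP.1.1 hy) s hs⟩

theorem simple_iff_comm [Fact p.Prime] [Finite S] (hS : IsPGroup p S) (hF : F.IsSaturated p)
    (hab : ∀ x ∈ S, ∀ y ∈ S, x * y = y * x) :
    F.IsSimple p ↔
      (Nat.card S = p ∧ ∀ P : Subgroup Ω, F.Hom P = (innerFusionSystem S).Hom P) := by
  have hext : ∀ P f, P ≤ S → Mor F P f → ∃ α ∈ F.autGroup S, ∀ x ∈ P, apl α x = f x := by
    intro P f hP hf
    obtain ⟨g, hg, hgf, hgS⟩ := (isNormal_iff.1 (isNormal_top_of_comm hS hF hab)).2 P f hf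
    obtain ⟨α, hα, hαx⟩ :=
      Iso.exists_mem_autGroup (show Iso F S S g from ⟨hg.mono le_sup_right, hgS⟩)
    exact ⟨α, hα, fun x hx => (hαx x (hP hx)).trans (hgf x hx)⟩
  have hsc : F.StronglyClosed S := stronglyClosed_iff.2 ⟨le_rfl, fun R f _ hf x hx => hf.mem_S hx⟩
  constructor
  · rintro ⟨-, hne, hs⟩
    rcases hs S _ (inner_isNormalIn hS hF hsc hab hext) with h | ⟨-, hhom⟩
    · exact absurd h hne
    refine ⟨?_, fun P => (hhom P).symm⟩
    have hmor : ∀ {P f}, Mor F P f → ∀ x ∈ P, f x = x := fun {P f} hf => by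
      obtain ⟨φ, hφ, hφf⟩ := hf
      exact ((mor_inner_comm hab).1 ⟨φ, (hhom P).ge hφ, hφf⟩).2
    haveI := (Subgroup.nontrivial_iff_ne_bot _).2 hne
    obtain ⟨n, hn, hcard⟩ := hS.nontrivial_iff_card.1 inferInstance
    obtain ⟨x, hx⟩ := exists_prime_orderOf_dvd_card' (G := S) p (hcard ▸ dvd_pow_self p hn.ne')
    have hTS : Subgroup.zpowers (x : Ω) ≤ S := Subgroup.zpowers_le.2 x.2
    have hTc : ∀ a ∈ Subgroup.zpowers (x : Ω), ∀ b ∈ Subgroup.zpowers (x : Ω), a * b = b * a :=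
      fun a ha b hb => hab a (hTS ha) b (hTS hb)
    have hTn := inner_isNormalIn hS hF
      (stronglyClosed_iff.2 ⟨hTS, fun R f hR hf y hy => by rw [hmor hf y hy]; exact hR hy⟩) hTc
      fun P f hP hf => ⟨1, one_mem _, fun y hy => by rw [apl_one (hP hy), hmor hf y hy]⟩
    rcases hs _ _ hTn with h | ⟨h, -⟩
    · rw [Subgroup.zpowers_eq_bot, OneMemClass.coe_eq_one] at h
      rw [h, orderOf_one] at hx
      exact absurd hx.symm (Fact.out : p.Prime).ne_one
    · rw [← h, Nat.card_zpowers, Subgroup.orderOf_coe]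
      exact hx
  · rintro ⟨hcard, hhom⟩
    refine ⟨hF, fun h => ?_, fun T E hE => ?_⟩
    · rw [h, Subgroup.card_bot] at hcard
      exact (Fact.out : p.Prime).ne_one hcard.symm
    have hTS : T ≤ S := hE.1.2.2.2.1.1
    rcases (Nat.dvd_prime (Fact.out : p.Prime)).1 (hcard ▸ Subgroup.card_dvd_of_le hTS) with h | h
    · exact Or.inl (Subgroup.card_eq_one.1 h)
    · obtain rfl : T = S := eq_of_le_of_card le_rfl hTS (by rw [h, hcard])
      refine Or.inr ⟨rfl, fun P => Set.Subset.antisymm (hE.1.2.2.1 P) ?_⟩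
      rw [hhom P]
      exact inner_le E P

end Cfsg.Agent.FusSys
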