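import Cfsg.Agent.FusSys.Criteria
import Cfsg.Agent.FusSys.GroupSys

/-!
Transport of automorphisms of an invariant subsystem; `p`-elements of `Aut_E(T)`; elementary
identities for iterated conjugation.
-/

set_option autoImplicit false

namespace Cfsg.Agent.FusSys

open Cfsg Cfsg.FusionSystem

universe u

theorem conj_pow_of_commute {H : Type*} [Group H] {g d q : H} (h : g * q * g⁻¹ = d * q)
    (hc : Commute g d) (n : ℕ) : g ^ n * q * (g ^ n)⁻¹ = d ^ n * q := by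
  induction n with
  | zero => simp
  | succ n ih =>
    have e : g ^ (n + 1) * q * (g ^ (n + 1))⁻¹ = g * (g ^ n * q * (g ^ n)⁻¹) * g⁻¹ := by
      rw [pow_succ']; group
    rw [e, ih]
    calc g * (d ^ n * q) * g⁻¹ = g * d ^ n * (q * g⁻¹) := by group
      _ = d ^ n * g * (q * g⁻¹) := by rw [(hc.pow_right n).eq]
      _ = d ^ n * (g * q * g⁻¹) := by group
      _ = d ^ (n + 1) * q := by rw [h, ← mul_assoc, pow_succ]

theorem mem_normalizer_of_conj_mem {H : Type*} [Group H] {A : Subgroup H} [Finite A] {g : H}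
    (h : ∀ x ∈ A, g * x * g⁻¹ ∈ A) : g ∈ Subgroup.normalizer (A : Set H) := by
  refine Subgroup.mem_normalizer_iff.2 fun y => ⟨h y, fun hy => ?_⟩
  have hinj : Function.Injective (fun x : A => (⟨g * x * g⁻¹, h x x.2⟩ : A)) := fun a b hab =>
    Subtype.ext (mul_left_cancel (mul_right_cancel (congrArg Subtype.val hab)))
  obtain ⟨⟨x, hx⟩, hxy⟩ := Finite.injective_iff_surjective.1 hinj ⟨_, hy⟩
  have : x = y := mul_left_cancel (mul_right_cancel (congrArg Subtype.val hxy))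
  exact this ▸ hx

variable {Ω : Type u} [Group Ω] {S T : Subgroup Ω}
variable {F : FusionSystem S} {E : FusionSystem T} {P Q R : Subgroup Ω} {p : ℕ}

/-- `Aut_E(R)` is transported by `Aut_F(T)` when `E` is invariant in `F`. -/
theorem conj_mem_of_invariant (hE : E.IsInvariantIn F) (hR : R ≤ T) {b : MulAut T}
    (hb : b ∈ F.autGroup T) (hbR : ∀ y, y ∈ R ↔ ∃ x ∈ R, apl b x = y) {α : MulAut R}
    (hα : α ∈ E.autGroup R) :
    ∃ γ ∈ E.autGroup R, ∀ x ∈ R, apl γ (apl b x) = apl b (apl α x) := by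
  have hαm := (iso_apl hR hα).1
  obtain ⟨χ, hχ, h⟩ := hE.2.2.1 R hR (R.subtype.comp α.toMonoidHom)
    (hαm.hom_eq fun x => (apl_coe α x).symm) b hb
  have e : (R.subgroupOf T).map (T.subtype.comp b.toMonoidHom) = R := by
    ext y
    rw [hbR y]
    constructor
    · rintro ⟨x, hx, rfl⟩
      exact ⟨x, hx, apl_coe b x⟩
    · rintro ⟨x, hx, rfl⟩
      exact ⟨⟨x, hR hx⟩, hx, (apl_apply b (hR hx)).symm⟩
  have hval : ∀ x ∈ R, extendFn χ (apl b x) = apl b (apl α x) := by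
    intro x hx
    have hmem : apl b x ∈ R := (hbR _).2 ⟨x, hx, rfl⟩
    have hx2 : ((b ⟨x, hR hx⟩ : T) : Ω) ∈ (R.subgroupOf T).map (T.subtype.comp b.toMonoidHom) := by
      rw [e, ← apl_apply]; exact hmem
    have h1 := h ⟨x, hx⟩ (hR (α ⟨x, hx⟩).2) hx2
    rw [apl_apply b (hR hx), extendFn_apply χ hx2, h1, apl_apply α hx,
      apl_apply b (hR (α ⟨x, hx⟩).2)]
    rfl
  have hi : Iso E R R (extendFn χ) := by
    refine ⟨(mor_extendFn hχ).mono e.ge, fun y => ⟨fun hy => ?_, ?_⟩⟩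
    · obtain ⟨x, hx, rfl⟩ := (hbR y).1 hy
      exact ⟨apl b (apl α⁻¹ x), (hbR _).2 ⟨_, apl_mem _ hx, rfl⟩,
        by rw [hval _ (apl_mem _ hx), apl_apl_inv α hx]⟩
    · rintro ⟨z, hz, rfl⟩
      obtain ⟨x, hx, rfl⟩ := (hbR z).1 hz
      rw [hval x hx]
      exact (hbR _).2 ⟨_, apl_mem α hx, rfl⟩
  obtain ⟨γ, hγ, hγx⟩ := hi.exists_mem_autGroup
  exact ⟨γ, hγ, fun x hx => by rw [hγx _ ((hbR _).2 ⟨x, hx, rfl⟩), hval x hx]⟩

/-- A `p`-element of `Aut_E(T)` is inner. -/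
theorem mem_inn_of_pow [Fact p.Prime] [Finite T] (hT : IsPGroup p T) (hE : E.IsSaturated p)
    {α : MulAut T} (hα : α ∈ E.autGroup T) {e : ℕ} (he : α ^ p ^ e = 1) : α ∈ Inn T := by
  obtain ⟨-, U, hU⟩ := ((saturated_iff_top_receptive hT).1 hE).1
  haveI := innIn_normal E T
  haveI : Finite (MulAut T) := Finite.of_injective _ MulEquiv.toEquiv_injective
  obtain ⟨c, hc⟩ := exists_conj_mem_sylow
    (isPGroup_zpowers_of_pow_eq_one (x := (⟨α, hα⟩ : E.autGroup T)) (e := e) (Subtype.ext he)) U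
  have h1 : c * ⟨α, hα⟩ * c⁻¹ ∈ innIn E T := by
    have h2 := (autInducedBy_subgroupOf_eq U hU).1 (hc _ (Subgroup.mem_zpowers _))
    rw [← inn_eq_autInducedBy] at h2
    exact h2
  have h3 := (innIn_normal E T).conj_mem _ h1 c⁻¹
  have e1 : c⁻¹ * (c * (⟨α, hα⟩ : E.autGroup T) * c⁻¹) * c⁻¹⁻¹ = ⟨α, hα⟩ := by group
  rw [e1] at h3
  exact h3

end Cfsg.Agent.FusSys
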