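import Cfsg.Agent.FusSys.ElemCrit
import Cfsg.Agent.FusSys.InvariantAux
import Cfsg.Agent.FusSys.AbelianSimple

/-!
A subgroup whose conjugation action is carried around by the system is normal.
-/

set_option autoImplicit false

namespace Cfsg.Agent.FusSys

open Cfsg Cfsg.FusionSystem

universe u

variable {Ω : Type u} [Group Ω] {S T W P R : Subgroup Ω} {F : FusionSystem S}
variable {E : FusionSystem T} {f : Ω → Ω} {p : ℕ}

/-- A strongly closed `W ≤ T` whose conjugations on subgroups of `T` are carried to conjugations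
by elements of `W` is normal. -/
theorem isNormal_of_conj [Fact p.Prime] [Finite S] (hS : IsPGroup p S) (hF : F.IsSaturated p)
    (hT : F.StronglyClosed T) (hW : F.StronglyClosed W) (hWT : W ≤ T)
    (hconj : ∀ Y ≤ T, ∀ f, Mor F Y f → ∀ b ∈ W, (∀ y ∈ Y, b * y * b⁻¹ ∈ Y) →
      ∃ b' ∈ W, ∀ y ∈ Y, f (b * y * b⁻¹) = b' * f y * b'⁻¹) : F.IsNormal W := by
  refine isNormal_of_stronglyClosed_le hS hF hW fun P hc hr => ?_
  refine le_of_normalizer_le hS hF hW hc.1 fun a ha han => ?_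
  haveI := finite_of_le hc.1
  haveI := finite_of_le hW.1
  have hP : IsPGroup p P := hS.to_le hc.1
  set Y := P ⊓ T with hY
  have hYinv : ∀ α ∈ F.autGroup P, ∀ y ∈ Y, apl α y ∈ Y := fun α hα y hy =>
    ⟨apl_mem α hy.1, StronglyClosed.mor_mem hT (iso_apl hc.1 hα).1 hy.1 hy.2⟩
  let Γ : Subgroup (MulAut P) := F.autGroup P ⊓
    (chainStab.subgroupOfFiniteSubmonoid
      { carrier := {α | (∀ x ∈ P, x⁻¹ * apl α x ∈ T) ∧ (∀ y ∈ Y, apl α y ∈ Y) ∧
          ∃ b ∈ W, ∀ y ∈ Y, apl α y = b * y * b⁻¹}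
        one_mem' := ⟨fun x hx => by rw [apl_one hx, inv_mul_cancel]; exact T.one_mem,
          fun y hy => by rw [apl_one hy.1]; exact hy, 1, W.one_mem,
          fun y hy => by rw [apl_one hy.1]; group⟩
        mul_mem' := by
          rintro α β ⟨hα, hαY, c, hc', hαc⟩ ⟨hβ, hβY, b, hb, hβb⟩
          refine ⟨fun x hx => ?_, fun y hy => ?_, c * b, W.mul_mem hc' hb, fun y hy => ?_⟩
          · rw [apl_mul _ _ hx]
            have := T.mul_mem (hβ x hx) (hα _ (apl_mem β hx))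
            rwa [mul_assoc, mul_inv_cancel_left] at this
          · rw [apl_mul _ _ hy.1]
            exact hαY _ (hβY y hy)
          · rw [apl_mul _ _ hy.1, hαc _ (hβY y hy), hβb y hy]
            group })
  refine mem_of_normal_pGroup hc hr (hW.1 ha) han (Γ := Γ) inf_le_left ?_ ?_ ?_
  · refine isPGroup_of_coprime_eq_one fun g hg => ?_
    obtain ⟨δ, hδF, hδT, hδY, b, hb, hδb⟩ := g
    refine Subtype.ext ?_
    rw [← Subgroup.orderOf_coe] at hg
    obtain ⟨β, hβ, hd⟩ := exists_restrict δ (inf_le_left : Y ≤ P) hδY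
    obtain ⟨k, hk⟩ := hS ⟨b, hW.1 hb⟩
    have hpow : ∀ n : ℕ, ∀ y ∈ Y, apl (β ^ n) y = b ^ n * y * (b ^ n)⁻¹ := by
      intro n
      induction n with
      | zero => intro y hy; rw [pow_zero, apl_one hy]; group
      | succ n ih =>
        intro y hy
        rw [pow_succ' β, apl_mul _ _ hy, hβ _ (apl_mem _ hy), hδb _ (apl_mem _ hy), ih y hy,
          pow_succ']
        group
    have h1 : β ^ p ^ k = 1 := apl_ext fun y hy => by
      rw [hpow _ y hy, show b ^ p ^ k = 1 from congrArg Subtype.val hk, apl_one hy]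
      group
    have hβ1 : β = 1 := by
      refine orderOf_eq_one_iff.1 ?_
      exact Nat.eq_one_of_dvd_coprimes (Nat.Coprime.pow_right k hg) hd
        (orderOf_dvd_of_pow_eq_one h1)
    refine apl_ext fun x hx => ?_
    rw [show ((1 : Γ) : MulAut P) = 1 from rfl, apl_one hx]
    refine eq_of_fixed_quot hP hg hx ?_
    have hz : x⁻¹ * apl δ x ∈ Y := ⟨P.mul_mem (P.inv_mem hx) (apl_mem δ hx), hδT x hx⟩
    rw [← hβ _ hz, hβ1, apl_one hz]
  · rintro α hα γ ⟨hγF, hγT, hγY, b, hb, hγb⟩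
    have hm := (iso_apl hc.1 hα).1
    refine ⟨Subgroup.mul_mem _ (Subgroup.mul_mem _ hα hγF) (Subgroup.inv_mem _ hα), fun x hx => ?_, fun y hy => ?_, ?_⟩
    · rw [mul_assoc, apl_mul _ _ hx, apl_mul _ _ hx]
      have hz := apl_mem α⁻¹ hx
      have h := StronglyClosed.mor_mem hT hm (P.mul_mem (P.inv_mem hz) (apl_mem γ hz)) (hγT _ hz)
      rwa [hm.map_mul (P.inv_mem hz) (apl_mem γ hz), hm.map_inv hz, apl_apl_inv α hx] at h
    · rw [mul_assoc, apl_mul _ _ hy.1, apl_mul _ _ hy.1]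
      exact hYinv α hα _ (hγY _ (hYinv α⁻¹ (Subgroup.inv_mem _ hα) y hy))
    obtain ⟨b', hb', hbb⟩ := hconj Y inf_le_right (apl α) (hm.mono inf_le_left) b hb
      fun y hy => hγb y hy ▸ hγY y hy
    refine ⟨b', hb', fun y hy => ?_⟩
    rw [mul_assoc, apl_mul _ _ hy.1, apl_mul _ _ hy.1]
    have hz := hYinv α⁻¹ (Subgroup.inv_mem _ hα) y hy
    rw [hγb _ hz, hbb _ hz, apl_apl_inv α hy.1]
  · intro γ hγ hγx
    refine ⟨hγ, fun x hx => ?_, hYinv γ hγ, a, ha, fun y hy => hγx y hy.1⟩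
    rw [hγx x hx]
    have h := isStronglyClosed_normal hT (S.inv_mem (hc.1 hx)) (hWT ha)
    have := T.mul_mem h (T.inv_mem (hWT ha))
    simpa [mul_assoc] using this

/-- The transport of a map of an invariant subsystem by an automorphism of `T`. -/
theorem exists_transport (hE : E.IsInvariantIn F) (hf : Mor E P f) {β : MulAut T}
    (hβ : β ∈ F.autGroup T) :
    ∃ h, Mor E ((P.subgroupOf T).map (T.subtype.comp β.toMonoidHom)) h ∧
      ∀ x ∈ P, h (apl β x) = apl β (f x) := by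
  obtain ⟨φ, hφ, hφf⟩ := hf
  have hPT := (E.le_of_mem hφ).1
  obtain ⟨χ, hχ, h⟩ := hE.2.2.1 P hPT φ hφ β hβ
  refine ⟨extendFn χ, mor_extendFn hχ, fun x hx => ?_⟩
  have hx2 : ((β ⟨x, hPT hx⟩ : T) : Ω) ∈ (P.subgroupOf T).map (T.subtype.comp β.toMonoidHom) :=
    ⟨⟨x, hPT hx⟩, hx, rfl⟩
  rw [apl_apply β (hPT hx), extendFn_apply χ hx2, h ⟨x, hx⟩ ((E.le_of_mem hφ).2 _) hx2,
    ← apl_apply β ((E.le_of_mem hφ).2 ⟨x, hx⟩)]
  exact congrArg (apl β) (hφf ⟨x, hx⟩)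

/-- Frattini condition. -/
theorem exists_frattini (hE : E.IsInvariantIn F) (hP : P ≤ T) (hf : Mor F P f) :
    ∃ β ∈ F.autGroup T, ∃ g, Mor E P g ∧ ∀ x ∈ P, f x = apl β (g x) := by
  obtain ⟨φ, hφ, hφf⟩ := hf
  obtain ⟨β, hβ, φ₀, hφ₀, h⟩ := hE.2.2.2 P hP φ hφ
  refine ⟨β, hβ, extendFn φ₀, mor_extendFn hφ₀, fun x hx => ?_⟩
  rw [← hφf ⟨x, hx⟩, h ⟨x, hx⟩ ((E.le_of_mem hφ₀).2 _), extendFn_apply φ₀ hx,
    apl_apply β ((E.le_of_mem hφ₀).2 _)]

/-- A normal subgroup `W` of a weakly normal subsystem that is invariant under `Aut_F(T)` is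
normal. -/
theorem isNormal_of_weaklyNormal [Fact p.Prime] [Finite S] (hS : IsPGroup p S)
    (hE : E.IsWeaklyNormalIn F p) (hW : E.IsNormal W)
    (hinv : ∀ β ∈ F.autGroup T, ∀ w ∈ W, apl β w ∈ W) : F.IsNormal W := by
  have hT := hE.2.2.2.1
  obtain ⟨hWT, hext⟩ := isNormal_iff.1 hW
  have hWc : F.StronglyClosed W := by
    refine stronglyClosed_iff.2 ⟨hWT.trans hT.1, fun X f hX hf x hx => ?_⟩
    obtain ⟨β, hβ, g, hg, hfg⟩ := exists_frattini hE.2.2 (hX.trans hWT) hf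
    rw [hfg x hx]
    exact hinv β hβ _ (StronglyClosed.mor_mem (stronglyClosed_of_isNormal hW) hg hx (hX hx))
  refine isNormal_of_conj hS hE.2.1 hT hWc hWT fun Y hY f hf b hb hbY => ?_
  obtain ⟨β, hβ, g, hg, hfg⟩ := exists_frattini hE.2.2 hY hf
  obtain ⟨k, hk, hkg, hkW⟩ := hext Y g hg
  have hbm : b ∈ Y ⊔ W := Subgroup.mem_sup_right hb
  have hkb : k b ∈ W := (hkW _).2 ⟨b, hb, rfl⟩
  refine ⟨apl β (k b), hinv β hβ _ hkb, fun y hy => ?_⟩
  have hgT : g y ∈ T := hg.mem_S hy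
  have hm := (iso_apl (F := F) hT.1 hβ).1
  rw [hfg _ (hbY y hy), hfg y hy, ← hkg _ (hbY y hy),
    hk.map_conj hbm (Subgroup.mem_sup_left hy), hkg y hy, hm.map_conj (hWT hkb) hgT]

/-- An image of a normal subgroup of an invariant subsystem under `Aut_F(T)` is normal in it. -/
theorem isNormal_image (hE : E.IsInvariantIn F) (hR : E.IsNormal R) {β : MulAut T}
    (hβ : β ∈ F.autGroup T) :
    E.IsNormal ((R.subgroupOf T).map (T.subtype.comp β.toMonoidHom)) := by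
  obtain ⟨hRT, hext⟩ := isNormal_iff.1 hR
  have hmem : ∀ {Q : Subgroup Ω}, Q ≤ T → ∀ y,
      y ∈ (Q.subgroupOf T).map (T.subtype.comp β.toMonoidHom) ↔ ∃ x ∈ Q, apl β x = y := by
    intro Q hQ y
    constructor
    · rintro ⟨x, hx, rfl⟩
      exact ⟨x, hx, apl_coe β x⟩
    · rintro ⟨x, hx, rfl⟩
      exact ⟨⟨x, hQ hx⟩, hx, (apl_apply β (hQ hx)).symm⟩
  refine isNormal_iff.2 ⟨by rintro _ ⟨x, -, rfl⟩; exact (β x).2, fun P f hf => ?_⟩
  obtain ⟨h, hh, hhx⟩ := exists_transport hE hf (Subgroup.inv_mem _ hβ)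
  obtain ⟨g, hg, hgh, hgR⟩ := hext _ h hh
  obtain ⟨k, hk, hkx⟩ := exists_transport hE hg hβ
  set P' := (P.subgroupOf T).map (T.subtype.comp (β⁻¹).toMonoidHom) with hP'
  have hP'T : P' ≤ T := by rintro _ ⟨x, -, rfl⟩; exact (β⁻¹ x).2
  have hPT : P ≤ T := hf.le
  have hP'mem : ∀ x ∈ P, apl β⁻¹ x ∈ P' := fun x hx =>
    ⟨⟨x, hPT hx⟩, hx, (apl_apply _ (hPT hx)).symm⟩
  have hle : P ⊔ (R.subgroupOf T).map (T.subtype.comp β.toMonoidHom) ≤
      ((P' ⊔ R).subgroupOf T).map (T.subtype.comp β.toMonoidHom) := by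
    refine sup_le (fun x hx => ?_) fun y hy => ?_
    · exact (hmem (sup_le hP'T hRT) x).2
        ⟨_, Subgroup.mem_sup_left (hP'mem x hx), apl_apl_inv β (hPT hx)⟩
    · obtain ⟨x, hx, hxy⟩ := (hmem hRT y).1 hy
      exact (hmem (sup_le hP'T hRT) y).2 ⟨x, Subgroup.mem_sup_right hx, hxy⟩
  refine ⟨k, hk.mono hle, fun x hx => ?_, fun y => ?_⟩
  · have h1 := hkx _ (Subgroup.mem_sup_left (hP'mem x hx))
    rw [apl_apl_inv β (hPT hx), hgh _ (hP'mem x hx), hhx x hx,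
      apl_apl_inv β (hf.mem_S hx)] at h1
    exact h1
  · rw [hmem hRT]
    constructor
    · rintro ⟨r, hr, rfl⟩
      obtain ⟨r₀, hr₀, rfl⟩ := (hgR r).1 hr
      exact ⟨apl β r₀, (hmem hRT _).2 ⟨r₀, hr₀, rfl⟩, hkx r₀ (Subgroup.mem_sup_right hr₀)⟩
    · rintro ⟨y', hy', rfl⟩
      obtain ⟨r₀, hr₀, rfl⟩ := (hmem hRT y').1 hy'
      exact ⟨g r₀, (hgR _).2 ⟨r₀, hr₀, rfl⟩, (hkx r₀ (Subgroup.mem_sup_right hr₀)).symm⟩

end Cfsg.Agent.FusSys
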