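import Cfsg.Agent.FusSys.Factor
import Cfsg.Agent.FusSys.WeaklyNormalAux
import Mathlib.Tactic.Group

/-!
Transport of fusion systems and their subsystems along isomorphisms.
-/

set_option autoImplicit false
set_option linter.unusedSectionVars false

namespace Cfsg.Agent.FusSys

open Cfsg Cfsg.FusionSystem

variable {Ω : Type*} [Group Ω] {S : Subgroup Ω} {Ω' : Type*} [Group Ω'] {S' : Subgroup Ω'}
variable {F : FusionSystem S} {F' : FusionSystem S'} {e : Ω → Ω'} {d : Ω' → Ω}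
variable {P Q R T : Subgroup Ω} {P' : Subgroup Ω'} {f : Ω → Ω} {p : ℕ}

/-- The subgroup generated by the image of `P`. -/
def tImg (e : Ω → Ω') (P : Subgroup Ω) : Subgroup Ω' := Subgroup.closure (e '' (P : Set Ω))

theorem mem_tImg_of_mem {x : Ω} (hx : x ∈ P) : e x ∈ tImg e P := Subgroup.subset_closure ⟨x, hx, rfl⟩

theorem tImg_mono (h : P ≤ Q) : tImg e P ≤ tImg e Q := Subgroup.closure_mono (Set.image_mono h)

theorem tImg_congr {e' : Ω → Ω'} (h : ∀ x ∈ P, e x = e' x) : tImg e P = tImg e' P :=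
  congrArg Subgroup.closure (Set.image_congr h)

/-- `e` and `d` are inverse isomorphisms between the fusion systems `F` and `F'`. -/
structure Transp (F : FusionSystem S) (F' : FusionSystem S') (e : Ω → Ω') (d : Ω' → Ω) : Prop where
  map_mem : ∀ x ∈ S, e x ∈ S'
  inv_mem : ∀ y ∈ S', d y ∈ S
  left : ∀ x ∈ S, d (e x) = x
  right : ∀ y ∈ S', e (d y) = y
  map_mul : ∀ x ∈ S, ∀ y ∈ S, e (x * y) = e x * e y
  mor : ∀ P f, Mor F P f → Mor F' (tImg e P) (fun y => e (f (d y)))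
  mor' : ∀ P' f', Mor F' P' f' → Mor F (tImg d P') (fun x => d (f' (e x)))

namespace Transp

variable (h : Transp F F' e d)
include h

theorem injOn {x y : Ω} (hx : x ∈ S) (hy : y ∈ S) (he : e x = e y) : x = y := by
  rw [← h.left x hx, he, h.left y hy]

theorem inv_mul {x y : Ω'} (hx : x ∈ S') (hy : y ∈ S') : d (x * y) = d x * d y := by
  refine h.injOn (h.inv_mem _ (S'.mul_mem hx hy)) (S.mul_mem (h.inv_mem _ hx) (h.inv_mem _ hy)) ?_
  rw [h.right _ (S'.mul_mem hx hy), h.map_mul _ (h.inv_mem _ hx) _ (h.inv_mem _ hy), h.right x hx, h.right y hy]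

theorem symm : Transp F' F d e := ⟨h.inv_mem, h.map_mem, h.right, h.left, fun _ hx _ hy => h.inv_mul hx hy, h.mor', h.mor⟩

theorem map_one : e 1 = 1 := by
  have h1 := h.map_mul 1 S.one_mem 1 S.one_mem
  rwa [one_mul, left_eq_mul] at h1

theorem map_inv {x : Ω} (hx : x ∈ S) : e x⁻¹ = (e x)⁻¹ := by
  refine eq_inv_of_mul_eq_one_left ?_
  rw [← h.map_mul _ (S.inv_mem hx) _ hx, inv_mul_cancel, h.map_one]

theorem map_conj {x y : Ω} (hx : x ∈ S) (hy : y ∈ S) : e (x * y * x⁻¹) = e x * e y * (e x)⁻¹ := by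
  rw [h.map_mul _ (S.mul_mem hx hy) _ (S.inv_mem hx), h.map_mul _ hx _ hy, h.map_inv hx]

theorem mem_tImg (hP : P ≤ S) {y : Ω'} : y ∈ tImg e P ↔ ∃ x ∈ P, e x = y := by
  refine ⟨fun hy => ?_, fun ⟨x, hx, hxy⟩ => hxy ▸ mem_tImg_of_mem hx⟩
  induction hy using Subgroup.closure_induction with
  | mem y hy => exact hy
  | one => exact ⟨1, P.one_mem, h.map_one⟩
  | mul y z _ _ hy hz =>
    obtain ⟨a, ha, rfl⟩ := hy
    obtain ⟨b, hb, rfl⟩ := hz
    exact ⟨a * b, P.mul_mem ha hb, h.map_mul a (hP ha) b (hP hb)⟩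
  | inv y _ hy =>
    obtain ⟨a, ha, rfl⟩ := hy
    exact ⟨a⁻¹, P.inv_mem ha, h.map_inv (hP ha)⟩

theorem mem_tImg_iff (hP : P ≤ S) {x : Ω} (hx : x ∈ S) : e x ∈ tImg e P ↔ x ∈ P :=
  ⟨fun hy => by
    obtain ⟨a, ha, hae⟩ := (h.mem_tImg hP).1 hy
    exact h.injOn (hP ha) hx hae ▸ ha, mem_tImg_of_mem⟩

theorem tImg_le (hP : P ≤ S) : tImg e P ≤ S' := fun _ hy => by
  obtain ⟨x, hx, rfl⟩ := (h.mem_tImg hP).1 hy
  exact h.map_mem x (hP hx)

theorem tImg_tImg (hP : P ≤ S) : tImg d (tImg e P) = P := by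
  ext x
  rw [h.symm.mem_tImg (h.tImg_le hP)]
  refine ⟨fun ⟨y, hy, hyx⟩ => ?_, fun hx => ⟨e x, mem_tImg_of_mem hx, h.left x (hP hx)⟩⟩
  obtain ⟨a, ha, rfl⟩ := (h.mem_tImg hP).1 hy
  rw [h.left a (hP ha)] at hyx
  exact hyx ▸ ha

theorem tImg_inj (hP : P ≤ S) (hQ : Q ≤ S) (he : tImg e P = tImg e Q) : P = Q := by
  rw [← h.tImg_tImg hP, he, h.tImg_tImg hQ]

theorem tImg_top : tImg e S = S' :=
  le_antisymm (h.tImg_le le_rfl) fun y hy => h.right y hy ▸ mem_tImg_of_mem (h.inv_mem y hy)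

theorem tImg_bot : tImg e (⊥ : Subgroup Ω) = ⊥ := by
  refine (Subgroup.eq_bot_iff_forall _).2 fun y hy => ?_
  obtain ⟨x, hx, rfl⟩ := (h.mem_tImg bot_le).1 hy
  rw [Subgroup.mem_bot.1 hx, h.map_one]

theorem tImg_sup (hP : P ≤ S) (hQ : Q ≤ S) : tImg e (P ⊔ Q) = tImg e P ⊔ tImg e Q := by
  refine le_antisymm (fun y hy => ?_) (sup_le (tImg_mono le_sup_left) (tImg_mono le_sup_right))
  obtain ⟨x, hx, rfl⟩ := (h.mem_tImg (sup_le hP hQ)).1 hy
  have h1 : P ⊔ Q ≤ tImg d (tImg e P ⊔ tImg e Q) := sup_le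
    ((h.tImg_tImg hP).ge.trans (tImg_mono le_sup_left)) ((h.tImg_tImg hQ).ge.trans (tImg_mono le_sup_right))
  obtain ⟨z, hz, hzx⟩ := (h.symm.mem_tImg (sup_le (h.tImg_le hP) (h.tImg_le hQ))).1 (h1 hx)
  rw [← hzx, h.right z (sup_le (h.tImg_le hP) (h.tImg_le hQ) hz)]
  exact hz

theorem tImg_centralizerIn (hP : P ≤ S) : tImg e (centralizerIn S P) = centralizerIn S' (tImg e P) := by
  ext y
  rw [h.mem_tImg (centralizerIn_le S P)]
  constructor
  · rintro ⟨x, hx, rfl⟩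
    refine ⟨h.map_mem x hx.1, Subgroup.mem_centralizer_iff.2 fun z hz => ?_⟩
    obtain ⟨a, ha, rfl⟩ := (h.mem_tImg hP).1 hz
    rw [← h.map_mul a (hP ha) x hx.1, ← h.map_mul x hx.1 a (hP ha), Subgroup.mem_centralizer_iff.1 hx.2 a ha]
  · rintro ⟨hy, hc⟩
    refine ⟨d y, ⟨h.inv_mem y hy, Subgroup.mem_centralizer_iff.2 fun a ha => ?_⟩, h.right y hy⟩
    have hz := Subgroup.mem_centralizer_iff.1 hc _ (mem_tImg_of_mem (e := e) ha)
    rw [← h.left a (hP ha), ← h.inv_mul (h.map_mem a (hP ha)) hy, hz, h.inv_mul hy (h.map_mem a (hP ha))]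

theorem iso (hf : Iso F P Q f) : Iso F' (tImg e P) (tImg e Q) (fun y => e (f (d y))) := by
  refine ⟨h.mor P f hf.1, fun y => ?_⟩
  constructor
  · intro hy
    obtain ⟨q, hq, rfl⟩ := (h.mem_tImg hf.right_le).1 hy
    obtain ⟨x, hx, rfl⟩ := hf.exists_eq hq
    exact ⟨e x, mem_tImg_of_mem hx, congrArg (fun a => e (f a)) (h.left x (hf.left_le hx))⟩
  · rintro ⟨z, hz, rfl⟩
    obtain ⟨x, hx, rfl⟩ := (h.mem_tImg hf.left_le).1 hz
    show e (f (d (e x))) ∈ _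
    rw [h.left x (hf.left_le hx)]
    exact mem_tImg_of_mem (hf.mem hx)

theorem exists_aut (hP : P ≤ S) {α : MulAut P} (hα : α ∈ F.autGroup P) :
    ∃ β ∈ F'.autGroup (tImg e P), ∀ x ∈ P, apl β (e x) = e (apl α x) := by
  obtain ⟨β, hβ, hβx⟩ := (h.iso (iso_apl hP hα)).exists_mem_autGroup
  exact ⟨β, hβ, fun x hx => by rw [hβx _ (mem_tImg_of_mem hx), h.left x (hP hx)]⟩

theorem stronglyClosed (hT : F.StronglyClosed T) : F'.StronglyClosed (tImg e T) := by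
  refine stronglyClosed_iff.2 ⟨h.tImg_le hT.1, fun R' f' hR' hf' y hy => ?_⟩
  obtain ⟨x, hx, rfl⟩ := (h.mem_tImg hT.1).1 (hR' hy)
  have hf := h.mor' R' f' hf'
  have hm := StronglyClosed.mor_mem hT hf (h.left x (hT.1 hx) ▸ mem_tImg_of_mem (e := d) hy) hx
  rw [← h.right _ (hf'.mem_S hy)]
  exact mem_tImg_of_mem hm

theorem isCentral (hQ : F.IsCentral Q) : F'.IsCentral (tImg e Q) := by
  obtain ⟨hQS, hc⟩ := isCentral_iff.1 hQ
  refine isCentral_iff.2 ⟨h.tImg_le hQS, fun P' f' hf' => ?_⟩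
  obtain ⟨g, hg, hgf, hgQ⟩ := hc _ _ (h.mor' P' f' hf')
  have hPS := (h.mor' P' f' hf').le
  refine ⟨fun y => e (g (d y)), ?_, fun y hy => ?_, fun y hy => ?_⟩
  · have := h.mor _ g hg
    rwa [h.tImg_sup hPS hQS, h.symm.tImg_tImg hf'.le] at this
  · show e (g (d y)) = f' y
    rw [hgf _ (mem_tImg_of_mem hy), h.right y (hf'.le hy), h.right _ (hf'.mem_S hy)]
  · obtain ⟨x, hx, rfl⟩ := (h.mem_tImg hQS).1 hy
    show e (g (d (e x))) = e x
    rw [h.left x (hQS hx), hgQ x hx]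

theorem finite [Finite S] : Finite S' :=
  Finite.of_surjective (fun x : S => (⟨e x, h.map_mem x x.2⟩ : S'))
    fun y => ⟨⟨d y, h.inv_mem y y.2⟩, Subtype.ext (h.right y y.2)⟩

theorem center_eq [Finite S] : tImg e F.center = F'.center := by
  haveI := h.finite
  refine le_antisymm (le_center (h.isCentral isCentral_center)) fun y hy => ?_
  have hyS : y ∈ S' := (isCentral_center (F := F')).1 hy
  rw [← h.right y hyS]
  exact mem_tImg_of_mem (le_center (h.symm.isCentral (isCentral_center (F := F'))) (mem_tImg_of_mem hy))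

theorem isSubsystem {U : Subgroup Ω} {U' : Subgroup Ω'} {D : FusionSystem U} {D' : FusionSystem U'}
    (hD : Transp D D' e d) (hU : U ≤ S) (hDF : D.IsSubsystemOf F) : D'.IsSubsystemOf F' := by
  refine isSubsystemOf_iff_mor.2 fun P' f' hf' => ?_
  have h1 := h.mor _ _ (isSubsystemOf_iff_mor.1 hDF _ _ (hD.mor' P' f' hf'))
  rw [hD.symm.tImg_tImg hf'.le] at h1
  exact h1.congr fun y hy => by rw [hD.right y (hf'.le hy), hD.right _ (hf'.mem_S hy)]

omit h in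
theorem unique {U : Subgroup Ω} {U₁ U₂ : Subgroup Ω'} {D : FusionSystem U} {D₁ : FusionSystem U₁}
    {D₂ : FusionSystem U₂} {d' : Ω' → Ω} {e' : Ω → Ω'} (h₁ : Transp D D₁ e d) (h₂ : Transp D D₂ e' d')
    (he : ∀ x ∈ U, e' x = e x) : U₁ = U₂ ∧ D₁.IsSubsystemOf D₂ := by
  have hU : U₁ = U₂ := by rw [← h₁.tImg_top, ← h₂.tImg_top, tImg_congr he]
  subst hU
  refine ⟨rfl, isSubsystemOf_iff_mor.2 fun P' f' hf' => ?_⟩
  have hD := h₁.mor' P' f' hf'
  have h1 := h₂.mor _ _ hD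
  rw [tImg_congr fun x hx => he x (hD.le hx), h₁.symm.tImg_tImg hf'.le] at h1
  refine h1.congr fun y hy => ?_
  have hdy : d' y = d y := by
    refine h₂.injOn (h₂.inv_mem y (hf'.le hy)) (h₁.inv_mem y (hf'.le hy)) ?_
    rw [h₂.right y (hf'.le hy), he _ (h₁.inv_mem y (hf'.le hy)), h₁.right y (hf'.le hy)]
  rw [hdy, h₁.right y (hf'.le hy), he _ (h₁.inv_mem _ (hf'.mem_S hy)), h₁.right _ (hf'.mem_S hy)]

theorem isFactorSystem (θ : S →* Ω') (hθ : ∀ x : S, θ x = e x) : F.IsFactorSystem ⊥ θ F' := by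
  have hθ' : ∀ x ∈ S, thFn θ x = e x := fun x hx => by rw [thFn_apply hx, hθ]
  have hpre : ∀ P', P' ≤ S' → preimageAlong θ P' = tImg d P' := fun P' hP' => by
    ext x
    rw [mem_pre, h.symm.mem_tImg hP']
    refine ⟨fun ⟨hx, hxP⟩ => ⟨e x, hθ' x hx ▸ hxP, h.left x hx⟩, fun ⟨y, hy, hyx⟩ => ?_⟩
    subst hyx
    refine ⟨h.inv_mem y (hP' hy), ?_⟩
    rwa [hθ' _ (h.inv_mem y (hP' hy)), h.right y (hP' hy)]
  refine ⟨bot_le, fun s => ?_, ?_, fun P' φ' => ?_⟩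
  · rw [hθ, Subgroup.mem_bot]
    exact ⟨fun hs => h.injOn s.2 S.one_mem (hs.trans h.map_one.symm), fun hs => hs ▸ h.map_one⟩
  · ext y
    exact ⟨fun ⟨s, hs⟩ => hs ▸ hθ s ▸ h.map_mem s s.2, fun hy => ⟨⟨d y, h.inv_mem y hy⟩, (hθ _).trans (h.right y hy)⟩⟩
  constructor
  · intro hφ'
    have hm := mor_extendFn hφ'
    have hP' := hm.le
    obtain ⟨φ, hφ, hφf⟩ := h.mor' _ _ hm
    refine ⟨hP', ?_⟩
    rw [hpre P' hP']
    refine ⟨φ, hφ, ?_⟩
    revert φ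
    rw [← hpre P' hP']
    intro φ hφ hφf
    refine inducedAlong_iff.2 fun x => ⟨(F.le_of_mem hφ).2 x, fun hx => ?_⟩
    have hxS : (x : Ω) ∈ S := pre_le x.2
    rw [hθ' _ ((F.le_of_mem hφ).2 x), hφf]
    show φ' _ = e (d (extendFn φ' (e x)))
    rw [← hθ' _ hxS, extendFn_apply φ' hx, h.right]
    exact (F'.le_of_mem hφ').2 _
  · rintro ⟨hP', φ, hφ, hind⟩
    have hm := h.mor _ _ (mor_extendFn hφ)
    have himg : tImg e (preimageAlong θ P') = P' := by rw [hpre P' hP', h.symm.tImg_tImg hP']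
    rw [himg] at hm
    refine hm.hom_eq fun z => ?_
    have hz := hP' z.2
    have hx : d (z : Ω') ∈ preimageAlong θ P' := by rw [hpre P' hP']; exact mem_tImg_of_mem z.2
    have hzz : thFn θ (d z) = (z : Ω') := by rw [hθ' _ (h.inv_mem _ hz), h.right _ hz]
    obtain ⟨h1, h2⟩ := inducedAlong_iff.1 hind ⟨_, hx⟩
    have h3 := h2 (hzz.symm ▸ z.2)
    rw [extendFn_apply φ hx, ← hθ' _ h1, ← h3]
    exact congrArg φ' (Subtype.ext hzz.symm)

/-- The homomorphism underlying the isomorphism. -/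
def hom : S →* Ω' where
  toFun x := e x
  map_one' := h.map_one
  map_mul' x y := h.map_mul x x.2 y y.2

theorem isPGroup (hS : IsPGroup p S) : IsPGroup p S' := by
  intro y
  obtain ⟨k, hk⟩ := hS ⟨d y, h.inv_mem y y.2⟩
  refine ⟨k, Subtype.ext ?_⟩
  have h1 : h.hom (⟨d y, h.inv_mem y y.2⟩ ^ p ^ k) = (y : Ω') ^ p ^ k := by
    rw [_root_.map_pow]; exact congrArg (· ^ p ^ k) (h.right y y.2)
  rw [hk, _root_.map_one] at h1
  exact h1.symm

theorem saturated [Fact p.Prime] [Finite S] (hS : IsPGroup p S) (hF : F.IsSaturated p) : F'.IsSaturated p :=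
  factor_saturated hS hF (h.isFactorSystem h.hom fun _ => rfl) (stronglyClosed_of_isNormal isNormal_bot)

theorem hyperfocal [Fact p.Prime] [Finite S] (hS : IsPGroup p S) (hF : F.IsSaturated p) :
    F'.hyperfocalSubgroup p = tImg e (F.hyperfocalSubgroup p) := by
  rw [factor_hyperfocal hS hF (h.isFactorSystem h.hom fun _ => rfl) (stronglyClosed_of_isNormal isNormal_bot)]
  ext y
  rw [h.mem_tImg (hyperfocal_le F p)]
  exact ⟨fun ⟨s, hs, hsy⟩ => ⟨s, hs, hsy⟩, fun ⟨x, hx, hxy⟩ => ⟨⟨x, hyperfocal_le F p hx⟩, hx, hxy⟩⟩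

end Transp

end Cfsg.Agent.FusSys
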