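import Cfsg.Agent.FusSys.Realized
import Cfsg.Agent.FusSys.RealizedNormal
import Cfsg.Agent.FusSys.Criteria
import Cfsg.Agent.FusSys.Free
import Cfsg.Agent.FusSys.Sub
import Cfsg.Agent.FusSys.HyperfocalGroup
import Cfsg.Agent.FusSys.Transport
import Cfsg.Agent.Layer.PConstraint
import Cfsg.Agent.LocalStructure.CharP
import Cfsg.Agent.Fusion.Residual

/-!
Saturated subsystems of constrained systems on the same group, residual subsystems of models and
`p`-solvable models.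
-/

set_option autoImplicit false

namespace Cfsg.Agent.FusSys

open Cfsg Cfsg.FusionSystem

universe u v

section Group

variable {p : ℕ} [Fact p.Prime]

theorem exists_pow_one_mod {r s : ℕ} (h : r.Coprime s) : ∃ n, n ≡ 1 [MOD r] ∧ n ≡ 0 [MOD s] :=
  ⟨Nat.chineseRemainder h 1 0, (Nat.chineseRemainder h 1 0).2⟩

theorem isPSolvable_of_subsingleton (G : Type v) [Group G] [Subsingleton G] : Cfsg.IsPSolvable p G :=
  ⟨0, fun _ => ⊥, rfl, Subsingleton.elim _ _, monotone_const, fun _ => inferInstance, fun i => i.elim0⟩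

theorem isPSolvable_congr {G H : Type*} [Group G] [Finite G] [Group H] (e : G ≃* H)
    (h : Cfsg.IsPSolvable p G) : Cfsg.IsPSolvable p H :=
  Cfsg.Agent.Layer.isPSolvable_of_surjective h (f := e.toMonoidHom) e.surjective

/-- A nontrivial `p`-solvable group has a nontrivial `p`- or `p'`-core. -/
theorem core_ne_bot_of_pSolvable {G : Type v} [Group G] [Finite G] (h : Cfsg.IsPSolvable p G)
    [Nontrivial G] : pCore p G ≠ ⊥ ∨ pPrimeCore p G ≠ ⊥ := by
  classical
  obtain ⟨n, C, h0, hl, hm, hn, hi⟩ := h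
  by_contra! hb
  suffices hall : ∀ i, C i = ⊥ from bot_ne_top ((hall (Fin.last n)).symm.trans hl)
  intro i
  induction i using Fin.induction with
  | zero => exact h0
  | succ i ih =>
    haveI := hn i.succ
    rcases hi i with ⟨m, hm'⟩ | hc
    · rw [ih, Subgroup.relIndex_bot_left] at hm'
      exact le_bot_iff.1 (hb.1 ▸ Cfsg.Agent.Core.le_pCore (IsPGroup.of_card hm'))
    · rw [ih, Subgroup.relIndex_bot_left] at hc
      exact le_bot_iff.1 (hb.2 ▸ le_sSup (show C i.succ ∈ {N : Subgroup G | N.Normal ∧ (Nat.card N).Coprime p}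
        from ⟨hn i.succ, hc⟩))

/-- A `p`-solvable normal subgroup with `p`- or `p'`-quotient gives a `p`-solvable group. -/
theorem isPSolvable_of_normal (G : Type v) [Group G] [Finite G] (N : Subgroup G) [hNn : N.Normal]
    (hN : Cfsg.IsPSolvable p N) (hi : (∃ m, N.index = p ^ m) ∨ N.index.Coprime p) :
    Cfsg.IsPSolvable p G := by
  induction hc : Nat.card G using Nat.strong_induction_on generalizing G with
  | _ c IH =>
  subst hc
  rcases eq_or_ne N ⊥ with rfl | hne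
  · refine ⟨1, ![⊥, ⊤], rfl, rfl, Fin.monotone_iff_le_succ.2 fun i => ?_, fun i => ?_, fun i => ?_⟩
    · fin_cases i; exact bot_le
    · fin_cases i
      · exact (inferInstance : (⊥ : Subgroup G).Normal)
      · exact (inferInstance : (⊤ : Subgroup G).Normal)
    · fin_cases i
      show (∃ m, (⊥ : Subgroup G).relIndex ⊤ = p ^ m) ∨ ((⊥ : Subgroup G).relIndex ⊤).Coprime p
      rwa [Subgroup.relIndex_top_right]
  haveI := (Subgroup.nontrivial_iff_ne_bot N).2 hne
  obtain ⟨L, hLn, hLne, hLle, hLi⟩ : ∃ L : Subgroup G, L.Normal ∧ L ≠ ⊥ ∧ L ≤ N ∧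
      ((∃ m, Nat.card L = p ^ m) ∨ (Nat.card L).Coprime p) := by
    rcases core_ne_bot_of_pSolvable hN with h | h
    · refine ⟨(pCore p N).map N.subtype, inferInstance, ?_, Subgroup.map_subtype_le _, Or.inl ?_⟩
      · rwa [ne_eq, Subgroup.map_eq_bot_iff_of_injective _ N.subtype_injective]
      · rw [Subgroup.card_map_of_injective N.subtype_injective]
        exact IsPGroup.iff_card.1 Cfsg.Agent.Core.pCore_isPGroup
    · refine ⟨(pPrimeCore p N).map N.subtype, inferInstance, ?_, Subgroup.map_subtype_le _, Or.inr ?_⟩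
      · rwa [ne_eq, Subgroup.map_eq_bot_iff_of_injective _ N.subtype_injective]
      · rw [Subgroup.card_map_of_injective N.subtype_injective]
        exact Cfsg.Agent.Core.coprime_card_pPrimeCore
  haveI := hLn
  set f := QuotientGroup.mk' L
  have hfs : Function.Surjective f := QuotientGroup.mk'_surjective L
  haveI : (N.map f).Normal := hNn.map f hfs
  obtain ⟨n, C, h0, hl, hm, hn, hC⟩ := IH _ (Cfsg.Agent.Core.card_quotient_lt hLne) (G ⧸ L) (N.map f)
    (Cfsg.Agent.Layer.isPSolvable_of_surjective hN (f := f.subgroupMap N) (f.subgroupMap_surjective N))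
    (by rwa [Subgroup.index_map_eq N hfs (by rw [QuotientGroup.ker_mk']; exact hLle)]) rfl
  let T : Fin (n + 2) → Subgroup G := Fin.cons ⊥ fun i => (C i).comap f
  refine ⟨n + 1, T, rfl, ?_, Fin.monotone_iff_le_succ.2 fun i => ?_, fun i => ?_, fun i => ?_⟩
  · rw [show Fin.last (n + 1) = (Fin.last n).succ from rfl]
    simp only [T, Fin.cons_succ, hl, Subgroup.comap_top]
  · induction i using Fin.cases with
    | zero => exact bot_le
    | succ j =>
      rw [← Fin.succ_castSucc]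
      simp only [T, Fin.cons_succ]
      exact Subgroup.comap_mono (hm j.castSucc_le_succ)
  · induction i using Fin.cases with
    | zero => simp only [T, Fin.cons_zero]; infer_instance
    | succ j => simp only [T, Fin.cons_succ]; exact (hn j).comap f
  · induction i using Fin.cases with
    | zero =>
      simp only [T, Fin.castSucc_zero, Fin.cons_zero, Fin.cons_succ, h0, Subgroup.relIndex_bot_left,
        MonoidHom.comap_bot, f, QuotientGroup.ker_mk']
      exact hLi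
    | succ j =>
      rw [← Fin.succ_castSucc]
      simp only [T, Fin.cons_succ]
      rw [Subgroup.relIndex_comap, Subgroup.map_comap_eq_self_of_surjective hfs]
      exact hC j

/-- A nontrivial `p`-solvable group has a proper normal subgroup of `p`-power index, or of index
prime to `p`. -/
theorem exists_proper_normal {G : Type v} [Group G] [Finite G] (h : Cfsg.IsPSolvable p G)
    [Nontrivial G] :
    ∃ N : Subgroup G, N.Normal ∧ N ≠ ⊤ ∧ ((∃ m, N.index = p ^ m) ∨ N.index.Coprime p) := by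
  obtain ⟨n, C, h0, hl, hm, hn, hi⟩ := h
  by_contra! hb
  suffices hall : ∀ i, C i = ⊤ from bot_ne_top (h0.symm.trans (hall 0))
  intro i
  induction i using Fin.reverseInduction with
  | last => exact hl
  | cast i ih =>
    by_contra hne
    have h2 := hb _ (hn i.castSucc) hne
    have h3 := hi i
    rw [ih, Subgroup.relIndex_top_right] at h3
    rcases h3 with ⟨m, hm'⟩ | hc
    · exact h2.1 m hm'
    · exact h2.2 hc

end Group

variable {Ω : Type u} [Group Ω] {S : Subgroup Ω} {F : FusionSystem S} {G : Type v} [Group G]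
variable {ι : S →* G} {P Q R : Subgroup Ω} {f : Ω → Ω} {p : ℕ}

/-- An automorphism induced by an element is induced by any power congruent to `1`. -/
theorem rel_pow {g : G} {α : MulAut P} (hP : P ≤ S)
    (h : ∀ (x : S) (hx : (x : Ω) ∈ P), g * ι x * g⁻¹ = ι ⟨apl α x, hP (apl_mem α hx)⟩) (n : ℕ) :
    ∀ (x : S) (hx : (x : Ω) ∈ P), g ^ n * ι x * (g ^ n)⁻¹ = ι ⟨apl (α ^ n) x, hP (apl_mem _ hx)⟩ := by
  induction n with
  | zero =>
    intro x hx
    rw [pow_zero, one_mul, inv_one, mul_one]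
    congr 1
    exact Subtype.ext (by show (x : Ω) = apl (α ^ 0) (x : Ω); rw [pow_zero, apl_one hx])
  | succ n ih =>
    intro x hx
    rw [pow_succ', show g * g ^ n * ι x * (g * g ^ n)⁻¹ = g * (g ^ n * ι x * (g ^ n)⁻¹) * g⁻¹ by group,
      ih x hx, h ⟨_, hP (apl_mem _ hx)⟩ (apl_mem _ hx)]
    congr 1
    exact Subtype.ext (by show apl α (apl (α ^ n) x) = apl (α ^ (n + 1)) x; rw [pow_succ', apl_mul _ _ hx])

theorem exists_rel (hr : F.IsRealizedBy ι) (hP : P ≤ S) {α : MulAut P} (hα : α ∈ F.autGroup P) :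
    ∃ g : G, ∀ (x : S) (hx : (x : Ω) ∈ P), g * ι x * g⁻¹ = ι ⟨apl α x, hP (apl_mem α hx)⟩ := by
  obtain ⟨-, -, g, hg⟩ := (mor_realized hr).1 (iso_apl hP hα).1
  exact ⟨g, fun x hx => by rw [← hg x hx, thFn_apply (hP (apl_mem α hx))]⟩

theorem mor_of_rel (hr : F.IsRealizedBy ι) (hP : P ≤ S) {α : MulAut P} {g : G}
    (h : ∀ (x : S) (hx : (x : Ω) ∈ P), g * ι x * g⁻¹ = ι ⟨apl α x, hP (apl_mem α hx)⟩) :
    Mor F P (apl α) :=
  (mor_realized hr).2 ⟨hP, fun x hx => hP (apl_mem α hx), g,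
    fun x hx => by rw [h x hx, thFn_apply (hP (apl_mem α hx))]⟩

/-- The part of the element inducing an automorphism with order a power of the primes of the order
of the automorphism. -/
theorem exists_rel_part [Finite G] (hr : F.IsRealizedBy ι) (hP : P ≤ S) {α : MulAut P}
    (hα : α ∈ F.autGroup P) {r : ℕ} (hr' : α ^ r = 1) {K : Subgroup G}
    (hK : ∀ g : G, ∃ s, r.Coprime s ∧ ∀ n, n ≡ 0 [MOD s] → g ^ n ∈ K) :
    ∃ g ∈ K, ∀ (x : S) (hx : (x : Ω) ∈ P), g * ι x * g⁻¹ = ι ⟨apl α x, hP (apl_mem α hx)⟩ := by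
  obtain ⟨g, hg⟩ := exists_rel hr hP hα
  obtain ⟨s, hrs, hs⟩ := hK g
  obtain ⟨n, hn1, hn0⟩ := exists_pow_one_mod hrs
  refine ⟨g ^ n, hs n hn0, ?_⟩
  have e : α ^ n = α := by
    have h1 : n ≡ 1 [MOD orderOf α] := hn1.of_dvd (orderOf_dvd_of_pow_eq_one hr')
    rw [← pow_one α, ← pow_mul, one_mul]
    exact pow_eq_pow_iff_modEq.2 h1
  intro x hx
  have h1 := rel_pow hP hg n x hx
  simp only [e] at h1
  exact h1

theorem pGen_part [Finite G] [Fact p.Prime] {K : Subgroup G} {k : ℕ}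
    (hK : ∀ (g : G) (i : ℕ), orderOf g = p ^ i → g ∈ K) (g : G) :
    ∃ s, (p ^ k).Coprime s ∧ ∀ n, n ≡ 0 [MOD s] → g ^ n ∈ K := by
  obtain ⟨i, m, hm, ho⟩ := Nat.exists_eq_pow_mul_and_not_dvd (orderOf_pos g).ne' p
    (Fact.out : p.Prime).ne_one
  refine ⟨m, Nat.Coprime.pow_left k ((Fact.out : p.Prime).coprime_iff_not_dvd.2 hm), fun n hn => ?_⟩
  obtain ⟨c, rfl⟩ := Nat.modEq_zero_iff_dvd.1 hn
  obtain ⟨j, -, hj⟩ := (Nat.dvd_prime_pow (Fact.out : p.Prime)).1
    (orderOf_dvd_of_pow_eq_one (x := g ^ (m * c)) (n := p ^ i) (by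
      rw [← pow_mul, show m * c * p ^ i = p ^ i * m * c by ring, pow_mul, ← ho, pow_orderOf_eq_one,
        one_pow]))
  exact hK _ j hj

theorem coprime_part [Finite G] [Fact p.Prime] {r : ℕ} (hr : r.Coprime p) (g : G) :
    ∃ s, r.Coprime s ∧ ∀ n, n ≡ 0 [MOD s] → g ^ n ∈ pResidual p G := by
  obtain ⟨i, m, hm, ho⟩ := Nat.exists_eq_pow_mul_and_not_dvd (orderOf_pos g).ne' p
    (Fact.out : p.Prime).ne_one
  refine ⟨p ^ i, hr.pow_right i, fun n hn => ?_⟩
  obtain ⟨c, rfl⟩ := Nat.modEq_zero_iff_dvd.1 hn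
  refine Cfsg.Agent.Fusion.mem_pResidual_of_coprime (Nat.Coprime.coprime_dvd_left
    (orderOf_dvd_of_pow_eq_one (x := g ^ (p ^ i * c)) (n := m) (by
      rw [← pow_mul, show p ^ i * c * m = p ^ i * m * c by ring, pow_mul, ← ho, pow_orderOf_eq_one,
        one_pow]))
    ((Fact.out : p.Prime).coprime_iff_not_dvd.2 hm).symm)

/-- The preimage of `O_p(G)`. -/
def coreImg (ι : S →* G) (p : ℕ) : Subgroup Ω := ((pCore p G).comap ι).map S.subtype

theorem coreImg_le (ι : S →* G) (p : ℕ) : coreImg ι p ≤ S := Subgroup.map_subtype_le _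

theorem coreImg_conj [Fact p.Prime] (h : F.IsModel p G ι) (g : G) (x : S) (hx : (x : Ω) ∈ coreImg ι p) :
    ∃ y : S, (y : Ω) ∈ coreImg ι p ∧ g * ι x * g⁻¹ = ι y ∧ pullConj ι g x = y := by
  obtain ⟨z, hz, hzx⟩ := hx
  obtain rfl : z = x := Subtype.ext hzx
  haveI := h.1
  have hc := (inferInstance : (pCore p G).Normal).conj_mem _ hz g
  obtain ⟨y, hy⟩ := pCore_le_range h.2.2.1 hc
  exact ⟨y, ⟨y, (Subgroup.mem_comap).2 (hy ▸ hc), rfl⟩, hy.symm, pullConj_eq h.2.1.1 hy.symm⟩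

/-- A saturated subsystem on the same group of a system with a model has a model: a subgroup. -/
theorem exists_model_sub [Fact p.Prime] [Finite S] (hS : IsPGroup p S) (hM : F.IsModel p G ι)
    {E : FusionSystem S} (hE : E.IsSaturated p) (hsub : E.IsSubsystemOf F) :
    ∃ (H : Subgroup G) (hH : ∀ s, ι s ∈ H), E.IsModel p H (ι.codRestrict H hH) ∧
      pCore p G ≤ H ∧
      ∀ g, g ∈ H ↔ Mor E (coreImg ι p) (pullConj ι g) := by
  classical
  set Q := coreImg ι p
  obtain ⟨hn, hc⟩ := model_core_centric hM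
  obtain ⟨hfin, hr, ⟨T₀, hT₀⟩, hC⟩ := id hM
  haveI := hfin
  have hFs : F.IsSaturated p := realized_saturated hr ⟨T₀, hT₀⟩
  have hQS : Q ≤ S := coreImg_le ι p
  have hpc : ∀ (g : G) (x : Ω) (hx : x ∈ Q), ∃ y : S, (y : Ω) ∈ Q ∧
      g * ι ⟨x, hQS hx⟩ * g⁻¹ = ι y ∧ pullConj ι g x = y := fun g x hx =>
    coreImg_conj hM g ⟨x, hQS hx⟩ hx
  let Hs : Submonoid G :=
    { carrier := {g | Mor E Q (pullConj ι g)}
      one_mem' := by
        refine (mor_id (F := E) hQS).congr fun x hx => ?_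
        exact pullConj_eq hr.1 (g := 1) (x := ⟨x, hQS hx⟩) (y := ⟨x, hQS hx⟩) (by rw [one_mul, inv_one, mul_one])
      mul_mem' := fun {a b} ha hb => by
        refine (Mor.comp (f := pullConj ι b) (g := pullConj ι a) hb ha fun x hx => ?_).congr fun x hx => ?_
        · obtain ⟨y, hy, -, he⟩ := hpc b x hx
          exact he ▸ hy
        · obtain ⟨y, hy, hye, he⟩ := hpc b x hx
          obtain ⟨w, -, hwe, hw⟩ := hpc a y hy
          show pullConj ι (a * b) ((⟨x, hQS hx⟩ : S) : Ω) = pullConj ι a (pullConj ι b x)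
          rw [he, hw]
          refine pullConj_eq hr.1 ?_
          rw [← hwe, ← hye]
          group }
  let H : Subgroup G :=
    { Hs with
      inv_mem' := fun {g} hg => by
        have h1 : g⁻¹ = g ^ (orderOf g - 1) := by
          rw [inv_eq_iff_mul_eq_one, ← pow_succ', Nat.sub_add_cancel (orderOf_pos g), pow_orderOf_eq_one]
        rw [h1]
        exact Hs.pow_mem hg _ }
  have hmem : ∀ g, g ∈ H ↔ Mor E Q (pullConj ι g) := fun _ => Iff.rfl
  have hH : ∀ s, ι s ∈ H := fun s => (hmem _).2 ((mor_conj (F := E) hQS s.2).congr fun x hx =>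
    pullConj_eq hr.1 (x := ⟨x, hQS hx⟩) (y := s * ⟨x, hQS hx⟩ * s⁻¹)
      (by rw [map_mul, map_mul, map_inv]))
  have hNH : pCore p G ≤ H := fun g hg => by
    obtain ⟨s, rfl⟩ := pCore_le_range ⟨T₀, hT₀⟩ hg
    exact hH s
  have hEF := isSubsystemOf_iff_mor.1 hsub
  -- `Q` is normal in `E`
  have hEQ : E.IsNormal Q := by
    have hsc : E.StronglyClosed Q := stronglyClosed_iff.2 ⟨hQS, fun X k hX hk x hx =>
      (stronglyClosed_iff.1 (stronglyClosed_of_isNormal hn)).2 X k hX (hEF _ _ hk) x hx⟩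
    refine isNormal_of_stronglyClosed_le hS hE hsc fun X hXc hXr =>
      le_of_normalizer_le hS hE hsc hXc.1 fun a haQ han => ?_
    refine mem_of_normal_pGroup hXc hXr (hQS haQ) han (Γ := autInducedBy Q X)
      ((autInducedBy_mono hQS).trans (autInducedBy_le_autGroup hXc.1))
      (isPGroup_autInducedBy (hS.to_le hQS)) ?_ fun γ _ hγx =>
        mem_autInducedBy_iff.2 ⟨a, haQ, han, hγx⟩
    intro α hα γ hγ
    obtain ⟨b, hbQ, hbn, hbx⟩ := mem_autInducedBy_iff.1 hγ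
    obtain ⟨k, hk, hkα, hkQ⟩ := (isNormal_iff.1 hn).2 X (apl α) (hEF _ _ (iso_apl hXc.1 hα).1)
    have hkbQ : k b ∈ Q := (hkQ _).2 ⟨b, hbQ, rfl⟩
    have hx : ∀ y ∈ X, apl (α * γ * α⁻¹) y = k b * y * (k b)⁻¹ := fun y hy => by
      have hz : apl α⁻¹ y ∈ X := apl_mem _ hy
      have hbz : b * apl α⁻¹ y * b⁻¹ ∈ X := hbx _ hz ▸ apl_mem γ hz
      rw [apl_mul _ _ hy, apl_mul _ _ hz, hbx _ hz, ← hkα _ hbz,
        hk.map_conj (Subgroup.mem_sup_right hbQ) (Subgroup.mem_sup_left hz), hkα _ hz,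
        apl_apl_inv α hy]
    refine mem_autInducedBy_iff.2 ⟨k b, hkbQ, Subgroup.mem_normalizer_iff.2 fun y => ⟨fun hy => ?_, fun hy => ?_⟩, hx⟩
    · exact hx y hy ▸ apl_mem _ hy
    · have h1 := hx _ (apl_mem (α * γ * α⁻¹)⁻¹ hy)
      rw [apl_apl_inv _ hy] at h1
      rw [mul_left_cancel (mul_right_cancel h1)]
      exact apl_mem _ hy
  refine ⟨H, hH, ⟨inferInstance, ⟨fun a b hab => hr.1 (congrArg Subtype.val hab), fun X hX φ hφ => ?_⟩,
    ⟨T₀.subtype (fun g hg => ?_), ?_⟩, ?_⟩, hNH, hmem⟩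
  · constructor
    · intro h
      obtain ⟨k, hk, hkφ, hkQ⟩ := (isNormal_iff.1 hEQ).2 X _ (mor_extendFn h)
      obtain ⟨-, hkS, g, hg⟩ := (mor_realized hr).1 (hEF _ _ hk)
      have hgH : g ∈ H := (hmem g).2 ((hk.mono le_sup_right).congr fun x hx =>
        pullConj_eq hr.1 (x := ⟨x, hQS hx⟩) (y := ⟨k x, hkS x (Subgroup.mem_sup_right hx)⟩) (by
          rw [← hg ⟨x, hQS hx⟩ (Subgroup.mem_sup_right hx), thFn_apply]))
      refine ⟨⟨g, hgH⟩, fun x => Subtype.ext ?_⟩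
      show ι _ = g * ι _ * g⁻¹
      rw [← hg ⟨x, hX x.2⟩ (Subgroup.mem_sup_left x.2), thFn_apply (hkS _ (Subgroup.mem_sup_left x.2))]
      congr 1
      exact Subtype.ext ((hkφ x x.2).trans (extendFn_coe φ x)).symm
    · rintro ⟨⟨g, hgH⟩, hg⟩
      have hg' : ∀ x : X, g * ι ⟨x, hX x.2⟩ * g⁻¹ = ι ⟨φ x, hφ x⟩ := fun x =>
        (congrArg Subtype.val (hg x)).symm
      set Y := X ⊔ Q
      have hYS : Y ≤ S := sup_le hX hQS
      have hrange : ∀ x : S, (x : Ω) ∈ Y → g * ι x * g⁻¹ ∈ ι.range := by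
        have hle : Y ≤ ((ι.range.comap (MulAut.conj g).toMonoidHom).comap ι).map S.subtype := by
          refine sup_le (fun z hz => ⟨⟨z, hX hz⟩, ?_, rfl⟩) fun z hz => ⟨⟨z, hQS hz⟩, ?_, rfl⟩
          · exact ⟨_, (hg' ⟨z, hz⟩).symm⟩
          · obtain ⟨w, -, hw, -⟩ := hpc g z hz
            exact ⟨w, hw.symm⟩
        intro x hx
        obtain ⟨w, hw, hwx⟩ := hle hx
        exact (Subtype.ext hwx : w = x) ▸ hw
      set k := pullConj ι g
      have hkF : Mor F Y k := mor_pullConj hr hYS hrange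
      have hkQ : Iso E Q Q k := by
        refine ⟨(hmem g).1 hgH, fun y => ⟨fun hy => ?_, fun ⟨x, hx, hxy⟩ => ?_⟩⟩
        · exact ((hmem g).1 hgH).surj_of_card hQS (fun x hx => by
            obtain ⟨w, hw, -, he⟩ := hpc g x hx; exact he ▸ hw) le_rfl hy
        · obtain ⟨w, hw, -, he⟩ := hpc g x hx
          rw [← hxy]
          show pullConj ι g x ∈ Q
          rw [he]
          exact hw
      have hEQc : E.IsFullyCentralized Q := centric_fullyCentralized ⟨hQS, fun R hR => hc.2 R (isConj_of_sub hsub hR)⟩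
      obtain ⟨e, he, hek⟩ := (isReceptive_iff.1 (receptive_of_fullyCentralized hS hE hEQc)).2 Q k hkQ
      have hYN : Y ≤ nPhi S Q k := fun a ha => ⟨hYS ha,
        StronglyClosed.le_normalizer (stronglyClosed_of_isNormal hn) (hYS ha), k a, hkF.mem_S ha,
        fun x hx => hkF.map_conj ha (Subgroup.mem_sup_right hx)⟩
      have heY := he.mono hYN
      obtain ⟨z, hz, hzy⟩ := eq_on_centric hS hFs (P := Y) le_sup_right hc (hEF _ _ heY) hkF hek
      have hzY : z ∈ Y := Subgroup.mem_sup_right (centric_self hc hz)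
      have h1 := ((mor_conj (F := E) hYS (hYS hzY)).comp heY fun x hx =>
        Y.mul_mem (Y.mul_mem hzY hx) (Y.inv_mem hzY)).congr (g := k) fun x hx => hzy x hx
      exact (h1.mono le_sup_left).hom_eq fun x =>
        (pullConj_eq hr.1 (x := ⟨x, hX x.2⟩) (hg' x)).symm
  · obtain ⟨s, rfl⟩ := hT₀.le hg
    exact hH s
  · ext ⟨g, hg⟩
    rw [Sylow.coe_subtype, Subgroup.mem_subgroupOf, hT₀]
    exact ⟨fun ⟨s, hs⟩ => ⟨s, Subtype.ext hs⟩, fun ⟨s, hs⟩ => ⟨s, congrArg Subtype.val hs⟩⟩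
  · have hle : (pCore p G).subgroupOf H ≤ pCore p H :=
      Cfsg.Agent.Core.le_pCore (Cfsg.Agent.Core.pCore_isPGroup.comap_subtype)
    intro g hg
    refine hle (hC (Subgroup.mem_centralizer_iff.2 fun y hy => ?_))
    exact congrArg Subtype.val (Subgroup.mem_centralizer_iff.1 hg ⟨y, hNH hy⟩ (hle hy))

/-- Elements of `p`-power order lie in the subgroup of a subsystem of index prime to `p`. -/
theorem mem_of_pElement [Fact p.Prime] (hM : F.IsModel p G ι) {E : FusionSystem S}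
    (hi : E.HasPrimeToPIndexIn F p) {g : G} {i : ℕ} (hg : orderOf g = p ^ i) :
    Mor E (coreImg ι p) (pullConj ι g) := by
  classical
  haveI := hM.1
  haveI : Finite S := Finite.of_injective _ hM.2.1.1
  set Q := coreImg ι p
  have hQS : Q ≤ S := coreImg_le ι p
  have hiso : Iso F Q Q (pullConj ι g) := by
    have hm : Mor F Q (pullConj ι g) := mor_pullConj hM.2.1 hQS fun x hx => by
      obtain ⟨y, -, hy, -⟩ := coreImg_conj hM g x hx
      exact ⟨y, hy.symm⟩
    have hin : ∀ x ∈ Q, pullConj ι g x ∈ Q := fun x hx => by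
      obtain ⟨y, hy, -, he⟩ := coreImg_conj hM g ⟨x, hQS hx⟩ hx
      exact he ▸ hy
    exact ⟨hm, fun y => ⟨fun hy => hm.surj_of_card hQS hin le_rfl hy,
      fun ⟨x, hx, hxy⟩ => hxy ▸ hin x hx⟩⟩
  obtain ⟨α, hα, hαx⟩ := hiso.exists_mem_autGroup
  have hrel : ∀ (x : S) (hx : (x : Ω) ∈ Q), g * ι x * g⁻¹ = ι ⟨apl α x, hQS (apl_mem α hx)⟩ := by
    intro x hx
    obtain ⟨y, -, hy, he⟩ := coreImg_conj hM g x hx
    rw [hy]
    congr 1
    exact Subtype.ext ((hαx x hx).trans he).symm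
  have hord : α ^ p ^ i = 1 := apl_ext fun x hx => by
    have h1 := rel_pow hQS hrel (p ^ i) ⟨x, hQS hx⟩ hx
    rw [← hg, pow_orderOf_eq_one, one_mul, inv_one, mul_one, hg] at h1
    rw [apl_one hx]
    exact (congrArg Subtype.val (hM.2.1.1 h1)).symm
  obtain ⟨j, -, hj⟩ := (Nat.dvd_prime_pow (Fact.out : p.Prime)).1 (orderOf_dvd_of_pow_eq_one hord)
  have hαE : α ∈ E.autGroup Q := hi.2 Q hQS (Subgroup.mem_map.2 ⟨⟨α, hα⟩,
    Subgroup.subset_closure ⟨j, by rw [Subgroup.orderOf_mk]; exact hj⟩, rfl⟩)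
  exact (iso_apl hQS hαE).1.congr fun x hx => (hαx x hx).symm

/-- The fusion system of a model is that of the Sylow subgroup. -/
theorem transp_realized (hr : F.IsRealizedBy ι) :
    ∃ d : G → Ω, Transp F (groupFusionSystem ι.range) (thFn ι) d := by
  classical
  let d : G → Ω := fun y => if h : y ∈ ι.range then ((Classical.choose h : S) : Ω) else 1
  have hd : ∀ x : S, d (ι x) = x := fun x => by
    have h : ι x ∈ ι.range := ⟨x, rfl⟩
    simp only [d, dif_pos h]
    exact congrArg Subtype.val (hr.1 (Classical.choose_spec h))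
  refine ⟨d, fun x hx => thFn_mem_range _ hx, fun y hy => ?_, fun x hx => ?_, fun y hy => ?_,
    fun x hx y hy => thFn_mul hx hy, fun P f hf => ?_, fun P' f' hf' => ?_⟩
  · obtain ⟨x, rfl⟩ := hy
    exact hd x ▸ x.2
  · rw [thFn_apply hx, hd]
  · obtain ⟨x, rfl⟩ := hy
    rw [hd, thFn_coe]
  · obtain ⟨hP, hfS, g, hg⟩ := (mor_realized hr).1 hf
    have hmem : ∀ y ∈ tImg (thFn ι) P, ∃ x : S, (x : Ω) ∈ P ∧ ι x = y := by
      have hle : tImg (thFn ι) P ≤ (P.subgroupOf S).map ι := (Subgroup.closure_le _).2 (by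
        rintro _ ⟨x, hx, rfl⟩
        exact ⟨⟨x, hP hx⟩, hx, (thFn_apply (hP hx)).symm⟩)
      intro y hy
      obtain ⟨x, hx, hxy⟩ := hle hy
      exact ⟨x, hx, hxy⟩
    refine mor_gfs.2 ⟨fun y hy => ?_, fun y hy => thFn_mem_range _ (hfS _ ?_), g, fun y hy => ?_⟩
    · obtain ⟨x, -, rfl⟩ := hmem y hy
      exact ⟨x, rfl⟩
    · obtain ⟨x, hx, rfl⟩ := hmem y hy
      rw [hd]
      exact hx
    · obtain ⟨x, hx, rfl⟩ := hmem y hy
      show thFn ι (f (d (ι x))) = _
      rw [hd, hg x hx]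
  · obtain ⟨hP', hfS, g, hg⟩ := mor_gfs.1 hf'
    have hmem : ∀ x ∈ tImg d P', ∃ y : S, ι y ∈ P' ∧ (y : Ω) = x := by
      have hle : tImg d P' ≤ (P'.comap ι).map S.subtype := (Subgroup.closure_le _).2 (by
        rintro _ ⟨y, hy, rfl⟩
        obtain ⟨x, rfl⟩ := hP' hy
        exact ⟨x, hy, (hd x).symm⟩)
      intro x hx
      obtain ⟨y, hy, hyx⟩ := hle hx
      exact ⟨y, hy, hyx⟩
    refine (mor_realized hr).2 ⟨fun x hx => ?_, fun x hx => ?_, g, fun x hx => ?_⟩
    · obtain ⟨y, -, rfl⟩ := hmem x hx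
      exact y.2
    · obtain ⟨y, hy, rfl⟩ := hmem x hx
      show d (f' (thFn ι y)) ∈ S
      rw [thFn_coe]
      obtain ⟨w, hw⟩ := hfS _ hy
      rw [← hw, hd]
      exact w.2
    · obtain ⟨y, hy, hyx⟩ := hmem x hx
      obtain rfl : y = x := Subtype.ext hyx
      show thFn ι (d (f' (thFn ι y))) = _
      rw [thFn_coe]
      obtain ⟨w, hw⟩ := hfS _ hy
      rw [← hw, hd, thFn_coe, hw, hg _ hy]

theorem mem_hyperfocal_model [Fact p.Prime] [Finite S] [Finite G] (hS : IsPGroup p S)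
    (hr : F.IsRealizedBy ι) (T₀ : Sylow p G) (hT₀ : (T₀ : Subgroup G) = ι.range) (x : S) :
    (x : Ω) ∈ F.hyperfocalSubgroup p ↔ ι x ∈ pResidual p G := by
  obtain ⟨d, hd⟩ := transp_realized hr
  have h1 := hd.hyperfocal hS (realized_saturated hr ⟨T₀, hT₀⟩)
  rw [← hT₀, hyperfocal_gfs] at h1
  rw [← hd.mem_tImg_iff (hyperfocal_le F p) x.2, ← h1, thFn_coe]
  exact ⟨fun h => h.2, fun h => ⟨hT₀.ge ⟨x, rfl⟩, h⟩⟩

/-- The `p`-residual subgroup of a model gives a model of the `p`-residual subsystem. -/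
theorem exists_model_pResidual [Fact p.Prime] [Finite S] (hS : IsPGroup p S) (hM : F.IsModel p G ι) :
    ∃ D : FusionSystem (F.hyperfocalSubgroup p), F.IsPResidual p D ∧
      ∃ κ : F.hyperfocalSubgroup p →* pResidual p G, D.IsModel p (pResidual p G) κ := by
  classical
  obtain ⟨hfin, hr, ⟨T₀, hT₀⟩, hC⟩ := hM
  haveI := hfin
  haveI : (pResidual p G).Characteristic := Cfsg.Agent.Fusion.pResidual_characteristic
  set N := pResidual p G
  obtain ⟨E, hEn, hEm⟩ := exists_normal_of_normal hr T₀ hT₀ N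
  have hTeq : (N.comap ι).map S.subtype = F.hyperfocalSubgroup p := by
    ext x
    constructor
    · rintro ⟨y, hy, rfl⟩
      exact (mem_hyperfocal_model hS hr T₀ hT₀ y).2 hy
    · intro hx
      exact ⟨⟨x, hyperfocal_le F p hx⟩, (mem_hyperfocal_model hS hr T₀ hT₀ ⟨x, _⟩).1 hx, rfl⟩
  have hidx : ∀ P : Subgroup Ω, P ≤ (N.comap ι).map S.subtype →
      (pResidual p (F.autGroup P)).map (F.autGroup P).subtype ≤ E.autGroup P := by
    intro P hP
    have hPS : P ≤ S := hP.trans (Subgroup.map_subtype_le _)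
    rw [Subgroup.map_le_iff_le_comap]
    refine (Subgroup.closure_le _).2 fun α hα => Subgroup.mem_comap.2 ?_
    obtain ⟨g, hgN, hg⟩ := exists_rel_part hr hPS α.2 (pow_orderOf_eq_one (α : MulAut P))
      (coprime_part (p := p) (by rwa [Set.mem_setOf_eq, ← Subgroup.orderOf_coe] at hα))
    refine (mem_autGroup_iff hP).2 ⟨(hEm _ _).2 ⟨mor_of_rel hr hPS hg, hP, fun x hx => hP (apl_mem _ hx),
      g, hgN, fun x hx => by rw [thFn_apply (hPS (apl_mem _ hx))]; exact (hg x hx).symm⟩,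
      (iso_apl hPS α.2).2⟩
  obtain ⟨R, hR⟩ := (sylIn_iff (T₀.2.to_le inf_le_left) inf_le_right).1 (sylow_inter_normal T₀ N)
  have hmem : ∀ x : S, (x : Ω) ∈ F.hyperfocalSubgroup p ↔ ι x ∈ N := mem_hyperfocal_model hS hr T₀ hT₀
  have hsat := hEn.1.1
  revert E hidx hTeq
  generalize (N.comap ι).map S.subtype = T
  intro E hEn hEm hTeq hidx hsat
  subst hTeq
  refine ⟨E, ⟨hsat, hEn.1.2.2.1, le_rfl, hidx⟩,
    (ι.comp (Subgroup.inclusion (hyperfocal_le F p))).codRestrict N fun t => (hmem _).1 t.2, ?_⟩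
  set hTS := hyperfocal_le F p
  refine ⟨inferInstance, ⟨fun a b hab => ?_, fun P hP φ hφ => ?_⟩, ⟨R, ?_⟩, ?_⟩
  · exact Subtype.ext (congrArg (fun s : S => (s : Ω)) (hr.1 (congrArg Subtype.val hab)))
  · constructor
    · intro h
      obtain ⟨-, -, -, n, hn, hnx⟩ := (hEm _ _).1 (mor_extendFn h)
      refine ⟨⟨n, hn⟩, fun x => Subtype.ext ?_⟩
      have h1 := hnx ⟨x, hTS (hP x.2)⟩ x.2
      rw [extendFn_coe, thFn_apply (hTS (hφ x))] at h1
      exact h1
    · rintro ⟨n, hn⟩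
      have hv : ∀ x : S, (x : Ω) ∈ P → thFn ι (extendFn φ x) = (n : G) * ι x * (n : G)⁻¹ :=
        fun x hx => by
          rw [extendFn_apply φ hx, thFn_apply (hTS (hφ ⟨x, hx⟩))]
          exact congrArg Subtype.val (hn ⟨x, hx⟩)
      have hm : Mor F P (extendFn φ) := (mor_realized hr).2 ⟨hP.trans hTS,
        fun x hx => by rw [extendFn_apply φ hx]; exact hTS (hφ ⟨x, hx⟩), n, hv⟩
      exact ((hEm _ _).2 ⟨hm, hP, fun x hx => by rw [extendFn_apply φ hx]; exact hφ ⟨x, hx⟩,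
        n, n.2, hv⟩).hom_eq fun x => (extendFn_coe φ x).symm
  · rw [hR]
    ext ⟨y, hy⟩
    rw [Subgroup.mem_subgroupOf]
    constructor
    · rintro ⟨h1, -⟩
      obtain ⟨x, hx⟩ := hT₀.le h1
      exact ⟨⟨x, (hmem x).2 (hx ▸ hy)⟩, Subtype.ext hx⟩
    · rintro ⟨t, ht⟩
      exact ⟨hT₀.ge ⟨_, congrArg Subtype.val ht⟩, hy⟩
  · refine Cfsg.Agent.LocalStructure.charP_iff.1 (Cfsg.Agent.LocalStructure.charP_of_normal le_top ?_
      (Cfsg.Agent.LocalStructure.charP_top_iff.2 hC))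
    rw [Subgroup.normalizer_eq_top]

/-- A `p`-solvable model with no proper subsystem of index prime to `p` has proper hyperfocal subgroup. -/
theorem hyperfocal_lt_of_model [Fact p.Prime] [Finite S] (hS : IsPGroup p S) (hM : F.IsModel p G ι)
    (hsolv : Cfsg.IsPSolvable p G) (hne : S ≠ ⊥) {F₀ : FusionSystem S} (hF₀ : F₀.IsPPrimeResidual p F) :
    F.hyperfocalSubgroup p < S := by
  classical
  obtain ⟨hfin, hr, ⟨T₀, hT₀⟩, hC⟩ := hM
  haveI := hfin
  refine lt_of_le_of_ne (hyperfocal_le F p) fun he => ?_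
  haveI : Nontrivial G :=
    haveI := (Subgroup.nontrivial_iff_ne_bot S).2 hne
    hr.1.nontrivial
  obtain ⟨N, hNn, hNne, hi⟩ := exists_proper_normal hsolv
  haveI := hNn
  -- `G` is its own `p`-residual
  have htop : pResidual p G = ⊤ := by
    rw [← Cfsg.Agent.Fusion.sylow_sup_pResidual T₀]
    refine (sup_eq_right.2 fun y hy => ?_).symm
    obtain ⟨x, rfl⟩ := hT₀.le hy
    exact (mem_hyperfocal_model hS hr T₀ hT₀ x).1 (he.symm ▸ x.2)
  rcases hi with ⟨m, hm⟩ | hc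
  · refine hNne (top_le_iff.1 (htop ▸ Cfsg.Agent.Fusion.pResidual_le_of_isPGroup_quotient N ?_))
    exact IsPGroup.of_card (n := m) (by rw [← Subgroup.index_eq_card, hm])
  have hpmem : ∀ (g : G) (i : ℕ), orderOf g = p ^ i → g ∈ N := fun g i hg => by
    rw [← QuotientGroup.eq_one_iff (N := N) g, ← orderOf_eq_one_iff]
    refine Nat.eq_one_of_dvd_coprimes (hc.pow_right i) ?_ ?_
    · rw [Subgroup.index_eq_card]; exact orderOf_dvd_natCard _
    · rw [← hg]; exact orderOf_map_dvd (QuotientGroup.mk' N) g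
  obtain ⟨D, hDn, hDm⟩ := exists_normal_of_normal hr T₀ hT₀ N
  have hall : (N.comap ι).map S.subtype = S := by
    refine le_antisymm (Subgroup.map_subtype_le _) fun x hx => ⟨⟨x, hx⟩, ?_, rfl⟩
    obtain ⟨j, hj⟩ := (IsPGroup.iff_orderOf.1 hS) ⟨x, hx⟩
    exact hpmem _ j ((orderOf_injective ι hr.1 _).trans hj)
  have hFeq : ∀ P f, Mor F P f → PullRel ι N S P f := by
    revert D
    rw [hall]
    intro D hDn hDm P f hf
    have hle : F.IsSubsystemOf D := by
      refine hF₀.2.2 D hDn.1.1 ⟨fun P φ hφ => hF₀.2.1.1 P (hDn.1.2.2.1 P hφ), fun P hP => ?_⟩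
      rw [Subgroup.map_le_iff_le_comap]
      refine (Subgroup.closure_le _).2 fun α hα => Subgroup.mem_comap.2 ?_
      obtain ⟨k, hk⟩ := hα
      have hαF : (α : MulAut P) ∈ F.autGroup P :=
        hF₀.2.1.2 P hP (Subgroup.mem_map.2 ⟨α, Subgroup.subset_closure ⟨k, hk⟩, rfl⟩)
      obtain ⟨g, hgN, hg⟩ := exists_rel_part hr hP hαF (r := p ^ k)
        (by rw [← hk, ← Subgroup.orderOf_coe]; exact pow_orderOf_eq_one _) (pGen_part hpmem)
      exact (mem_autGroup_iff hP).2 ⟨(hDm _ _).2 ⟨mor_of_rel hr hP hg, hP, fun x hx => hP (apl_mem _ hx),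
        g, hgN, fun x hx => by rw [thFn_apply (hP (apl_mem _ hx))]; exact (hg x hx).symm⟩,
        (iso_apl hP hαF).2⟩
    exact ((hDm _ _).1 (mor_of_sub hle hf)).2
  refine hNne (top_le_iff.1 fun g _ => ?_)
  have hM' : F.IsModel p G ι := ⟨hfin, hr, ⟨T₀, hT₀⟩, hC⟩
  have hQS := coreImg_le ι p
  obtain ⟨-, -, n, hn, hnx⟩ := hFeq _ _ (mor_pullConj hr (g := g) hQS fun x hx => by
    obtain ⟨y, -, hy, -⟩ := coreImg_conj hM' g x hx
    exact ⟨y, hy.symm⟩)
  have hcen : n⁻¹ * g ∈ pCore p G := hC (Subgroup.mem_centralizer_iff.2 fun y hy => by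
    obtain ⟨x, rfl⟩ := pCore_le_range ⟨T₀, hT₀⟩ hy
    have hx : (x : Ω) ∈ coreImg ι p := ⟨x, hy, rfl⟩
    obtain ⟨w, -, hw, he'⟩ := coreImg_conj hM' g x hx
    have h1 := hnx x hx
    rw [he', thFn_coe, ← hw] at h1
    calc ι x * (n⁻¹ * g) = n⁻¹ * (n * ι x * n⁻¹) * g := by group
      _ = n⁻¹ * g * ι x := by rw [← h1]; group)
  obtain ⟨i, hi'⟩ := (IsPGroup.iff_orderOf.1 Cfsg.Agent.Core.pCore_isPGroup) ⟨_, hcen⟩
  have h2 := N.mul_mem hn (hpmem _ i (by rwa [← Subgroup.orderOf_coe] at hi'))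
  rwa [mul_inv_cancel_left] at h2

end Cfsg.Agent.FusSys
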