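import Cfsg.Agent.FusSys.Alperin

/-!
The inner fusion system and the criterion for a saturated system to be inner.
-/

set_option autoImplicit false

namespace Cfsg.Agent.FusSys

open Cfsg Cfsg.FusionSystem

variable {Ω : Type*} [Group Ω] {S : Subgroup Ω}
variable {F : FusionSystem S} {P : Subgroup Ω} {f : Ω → Ω} {p : ℕ}

theorem mor_inner : Mor (innerFusionSystem S) P f ↔
    P ≤ S ∧ ∃ g ∈ S, ∀ x ∈ P, f x = g * x * g⁻¹ := by
  constructor
  · rintro ⟨φ, ⟨hP, g, hg, hφ⟩, hφf⟩
    exact ⟨hP, g, hg, fun x hx => (hφf ⟨x, hx⟩).symm.trans (hφ ⟨x, hx⟩)⟩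
  · rintro ⟨hP, g, hg, hf⟩
    exact ⟨conjHom P g, ⟨hP, g, hg, fun _ => rfl⟩, fun x => (hf x x.2).symm⟩

theorem inner_le (F : FusionSystem S) : innerFusionSystem S ≤ F :=
  le_iff_mor.2 fun _ _ h => by
    obtain ⟨hP, g, hg, hf⟩ := mor_inner.1 h
    exact (mor_conj hP hg).congr hf

theorem autInducedBy_le_inner (hP : P ≤ S) :
    autInducedBy S P ≤ (innerFusionSystem S).autGroup P :=
  autInducedBy_le_autGroup hP

theorem autInducedBy_self_eq_inn : autInducedBy S S = Inn S := inn_eq_autInducedBy.symm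

section Saturated

variable [Fact p.Prime] [Finite S] (hS : IsPGroup p S) (hF : F.IsSaturated p)
include hS hF

theorem top_fullyAutomized : F.IsFullyAutomized p S := ((saturated_iff_top_receptive hS).1 hF).1

/-- If `Aut_F(S)` is a `p`-group it is `Inn S`. -/
theorem autGroup_top_eq_inn (h : IsPGroup p (F.autGroup S)) : F.autGroup S = Inn S := by
  refine le_antisymm ?_ (inn_le_autGroup le_rfl)
  obtain ⟨-, T, hT⟩ := top_fullyAutomized hS hF
  have htop : (⊤ : Subgroup (F.autGroup S)) ≤ T :=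
    (T.3 (h.of_equiv Subgroup.topEquiv.symm) le_top).le
  rw [← autInducedBy_self_eq_inn]
  intro α hα
  have := htop (Subgroup.mem_top ⟨α, hα⟩)
  rw [hT] at this
  exact this

theorem not_essential_of_isPGroup (h : IsPGroup p (F.autGroup P)) : ¬ F.IsEssential p P := by
  rintro ⟨hc, -, _, E, hE⟩
  haveI := finite_of_le hc.1
  haveI := innIn_normal F P
  have h1 := pCore_eq_bot_of_stronglyPEmbedded hE
  rw [Cfsg.Agent.Core.pCore_eq_top (h.to_quotient _)] at h1
  have h2 := hE.1
  rw [← Subgroup.card_top, h1, Subgroup.card_bot] at h2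
  exact (Fact.out : p.Prime).not_dvd_one h2

theorem eq_inner_of_no_essential (htop : IsPGroup p (F.autGroup S))
    (hess : ∀ P, ¬ F.IsEssential p P) : F = innerFusionSystem S := by
  refine eq_iff_mor.2 fun P f => ⟨le_iff_mor.1 ?_ P f, le_iff_mor.1 (inner_le F) P f⟩
  refine le_of_aut_le hS hF fun R hR => ?_
  rcases hR with rfl | hR
  · rw [autGroup_top_eq_inn hS hF htop]
    exact inn_le_autGroup le_rfl
  · exact absurd hR (hess R)

theorem eq_inner_of_pGroups (h : ∀ P : Subgroup Ω, P ≤ S → IsPGroup p (F.autGroup P)) :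
    F = innerFusionSystem S :=
  eq_inner_of_no_essential hS hF (h S le_rfl)
    fun P hP => not_essential_of_isPGroup hS hF (h P hP.1.1) hP

end Saturated

end Cfsg.Agent.FusSys
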