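import Cfsg.Agent.FusSys.StrongMeta
import Cfsg.Agent.Metacyclic.Coprime
import Cfsg.Agent.Core.Frattini
import Cfsg.Agent.Fusion.Critical
import Cfsg.Agent.Fusion.UniqueInvolution

/-!
Metacyclic 2-groups: the ones with an automorphism of odd order are homocyclic of rank two or quaternion of
order eight, and a homocyclic group of rank two and exponent at least four is not normalised, inside a metacyclic
group, by an element acting nontrivially modulo the Frattini subgroup.
-/

set_option autoImplicit false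

open Subgroup
open scoped commutatorElement

namespace Cfsg.Agent.FusSys.MetaTwo

universe u

/-- A quotient of a metacyclic group is metacyclic. -/
theorem isMetacyclic_of_surjective {G H : Type*} [Group G] [Group H] (h : Cfsg.IsMetacyclic G)
    {f : G →* H} (hf : Function.Surjective f) : Cfsg.IsMetacyclic H := by
  obtain ⟨N, hN, hNc, hQc⟩ := h
  haveI : (N.map f).Normal := Subgroup.Normal.map hN f hf
  refine ⟨N.map f, inferInstance, isCyclic_of_surjective (f.subgroupMap N) (f.subgroupMap_surjective N), ?_⟩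
  refine isCyclic_of_surjective (QuotientGroup.map N (N.map f) f (le_comap_map f N)) fun q => ?_
  obtain ⟨b, rfl⟩ := QuotientGroup.mk_surjective q
  obtain ⟨a, rfl⟩ := hf b
  exact ⟨(a : G ⧸ N), rfl⟩

/-- A cyclic group in which every square is trivial has at most two elements. -/
theorem cyclic_card_le_two {G : Type*} [Group G] [IsCyclic G] (h : ∀ g : G, g * g = 1) : Nat.card G ≤ 2 := by
  obtain ⟨g, hg⟩ := IsCyclic.exists_generator (α := G)
  rw [← card_top (G := G), ← (eq_top_iff' _).2 hg, Nat.card_zpowers]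
  exact Nat.le_of_dvd two_pos (orderOf_dvd_of_pow_eq_one (by rw [pow_two]; exact h g))

/-- A metacyclic group in which every square is trivial has at most four elements. -/
theorem card_le_four {G : Type*} [Group G] (hm : Cfsg.IsMetacyclic G) (h : ∀ g : G, g * g = 1) :
    Nat.card G ≤ 4 := by
  obtain ⟨N, hN, hNc, hQc⟩ := hm
  rw [Subgroup.card_eq_card_quotient_mul_card_subgroup N]
  refine (Nat.mul_le_mul (cyclic_card_le_two (G := G ⧸ N) fun q => ?_)
    (cyclic_card_le_two (G := N) fun x => Subtype.ext (h x))).trans (by norm_num)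
  obtain ⟨a, rfl⟩ := QuotientGroup.mk_surjective q
  rw [← QuotientGroup.mk_mul, h, QuotientGroup.mk_one]

/-- Five distinct elements do not fit into a group of order at most four. -/
theorem five_false {G : Type*} [Finite G] (h : Nat.card G ≤ 4) (a b c d e : G)
    (hn : [a, b, c, d, e].Nodup) : False := by
  classical
  haveI := Fintype.ofFinite G
  have h1 := hn.length_le_card
  rw [Nat.card_eq_fintype_card] at h
  simp at h1
  omega

/-- Four distinct elements exhaust a group of order at most four. -/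
theorem four_cover {G : Type*} [Finite G] (h : Nat.card G ≤ 4) (a b c d : G)
    (hn : [a, b, c, d].Nodup) (v : G) : v = a ∨ v = b ∨ v = c ∨ v = d := by
  by_contra hv
  push Not at hv
  obtain ⟨h1, h2, h3, h4⟩ := hv
  exact five_false h v a b c d (by simp_all)

/-- An automorphism of a group of order at most four squares to one or is a 3-cycle on nonidentity elements. -/
theorem aut_small {V : Type*} [Group V] [Finite V] (h4 : Nat.card V ≤ 4) {σ : MulAut V} (hσ : σ ^ 2 ≠ 1) :
    σ ^ 3 = 1 ∧ ∃ v : V, [1, v, σ v, σ (σ v)].Nodup ∧ ∀ u, u = 1 ∨ u = v ∨ u = σ v ∨ u = σ (σ v) := by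
  obtain ⟨v, hv⟩ : ∃ v, σ (σ v) ≠ v := by
    by_contra! h
    exact hσ (MulEquiv.ext fun v => by rw [pow_two]; exact h v)
  have h1 : v ≠ 1 := fun e => hv (by rw [e, map_one, map_one])
  have h2 : σ v ≠ v := fun e => hv (by rw [e, e])
  have h3 : σ v ≠ 1 := fun e => h1 ((map_eq_one_iff σ σ.injective).1 e)
  have h4' : σ (σ v) ≠ 1 := fun e => h3 ((map_eq_one_iff σ σ.injective).1 e)
  have h5 : σ (σ v) ≠ σ v := fun e => h2 (σ.injective e)
  have hn : [1, v, σ v, σ (σ v)].Nodup := by simp [Ne.symm h1, Ne.symm h2, Ne.symm h3, Ne.symm h4', Ne.symm h5, Ne.symm hv]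
  have hall := four_cover h4 _ _ _ _ hn
  refine ⟨?_, v, hn, hall⟩
  have h6 : σ (σ (σ v)) = v := by
    rcases hall (σ (σ (σ v))) with e | e | e | e
    · exact absurd ((map_eq_one_iff σ σ.injective).1 e) h4'
    · exact e
    · exact absurd (σ.injective e) hv
    · exact absurd (σ.injective (σ.injective e)) h2
  refine MulEquiv.ext fun u => ?_
  show σ (σ (σ u)) = u
  rcases hall u with rfl | rfl | rfl | rfl
  · simp
  · exact h6
  · rw [h6]
  · rw [h6]

/-- A homomorphism all of whose values square to one kills the Frattini subgroup. -/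
theorem hom_frattini {G : Type u} [Group G] [Finite G] {H : Type*} [Group H] (θ : G →* H)
    (h : ∀ a, θ a * θ a = 1) {w : G} (hw : w ∈ frattini G) : θ w = 1 := by
  have hc : ∀ a b, θ a * θ b = θ b * θ a := fun a b => by
    calc θ a * θ b = (θ b * θ b) * (θ a * θ b) * (θ a * θ a) := by rw [h, h]; group
      _ = θ b * ((θ (b * a)) * (θ (b * a))) * θ a := by rw [map_mul]; group
      _ = θ b * θ a := by rw [h]; group
  haveI : Fact (Nat.Prime 2) := ⟨Nat.prime_two⟩
  refine (Fusion.frattini_le_of_elementary (p := 2) θ.ker ?_ (fun a => ?_) hw :)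
  · rw [_root_.commutator_def, Subgroup.commutator_le]
    intro a _ b _
    rw [MonoidHom.mem_ker, map_commutatorElement, commutatorElement_eq_one_iff_mul_comm]
    exact hc a b
  · rw [MonoidHom.mem_ker, map_pow, pow_two]
    exact h a

section Frattini

variable {R : Type u} [Group R] [Finite R] (hR : IsPGroup 2 R)
include hR

theorem frattini_sq (v : R ⧸ frattini R) : v * v = 1 := by
  haveI : Fact (Nat.Prime 2) := ⟨Nat.prime_two⟩
  obtain ⟨a, rfl⟩ := QuotientGroup.mk_surjective v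
  rw [← QuotientGroup.mk_mul, QuotientGroup.eq_one_iff, ← pow_two]
  exact Core.pow_mem_frattini hR a

theorem frattini_card_le (hm : Cfsg.IsMetacyclic R) : Nat.card (R ⧸ frattini R) ≤ 4 :=
  card_le_four (isMetacyclic_of_surjective hm (QuotientGroup.mk'_surjective _)) (frattini_sq hR)

omit hR in
theorem mulAut_pow_quot {N : Subgroup R} [N.Normal] {f : MulAut R} {g : MulAut (R ⧸ N)}
    (h : ∀ a : R, g (a : R ⧸ N) = ((f a : R) : R ⧸ N)) (j : ℕ) (a : R) :
    (g ^ j) (a : R ⧸ N) = (((f ^ j) a : R) : R ⧸ N) := by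
  induction j generalizing a with
  | zero => rfl
  | succ j ih => rw [pow_succ, pow_succ, MulAut.mul_apply, MulAut.mul_apply, h, ih]

theorem toFrat_ne_one {f : MulAut R} (ho : Odd (orderOf f)) (hf : f ≠ 1) : StrongMeta.toFrat f ≠ 1 := by
  haveI : Fact (Nat.Prime 2) := ⟨Nat.prime_two⟩
  obtain ⟨n, hn⟩ := IsPGroup.iff_card.1 hR
  obtain ⟨e, -, he⟩ := (Nat.dvd_prime_pow Nat.prime_two).1 (hn ▸ Subgroup.index_dvd_card (frattini R))
  intro h1
  have hA : ∀ α ∈ Subgroup.zpowers f, ∀ x : R, α x * x⁻¹ ∈ frattini R := by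
    intro α hα x
    have h3 : StrongMeta.toFrat α = 1 := by
      obtain ⟨j, rfl⟩ := Subgroup.mem_zpowers_iff.1 hα
      rw [map_zpow, h1, one_zpow]
    have h4 := DFunLike.congr_fun h3 (x : R ⧸ frattini R)
    rw [StrongMeta.toFrat_mk, MulAut.one_apply] at h4
    rw [← QuotientGroup.eq_one_iff, QuotientGroup.mk_mul, QuotientGroup.mk_inv, h4, mul_inv_cancel]
  have hd := FGS.card_dvd_of_trivial_on_frattini_quotient hn he _ hA
  rw [Nat.card_zpowers] at hd
  exact hf (orderOf_eq_one_iff.1 (Nat.eq_one_of_dvd_coprimes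
    ((Nat.coprime_two_left.2 ho).pow_left _) hd dvd_rfl))

/-- The action of a nontrivial automorphism of odd order modulo the Frattini subgroup. -/
theorem frame (hm : Cfsg.IsMetacyclic R) {α : MulAut R} (ho : Odd (orderOf α)) (hα : α ≠ 1) :
    ∃ x : R, closure {x, α x} = ⊤ ∧ x * α x * α (α x) ∈ frattini R ∧ x⁻¹ * α x ∉ frattini R := by
  haveI : Finite (MulAut R) := Finite.of_injective _ MulEquiv.toEquiv_injective
  have h4 := frattini_card_le hR hm
  have hne := toFrat_ne_one hR ho hα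
  set σ : MulAut (R ⧸ frattini R) := StrongMeta.toFrat α with hσ
  have hσ2 : σ ^ 2 ≠ 1 := by
    intro h
    obtain ⟨j, hj⟩ := ho
    have h1 : σ ^ orderOf α = 1 := by rw [hσ, ← map_pow, pow_orderOf_eq_one, map_one]
    rw [hj, pow_succ, pow_mul, h, one_pow, one_mul] at h1
    exact hne h1
  obtain ⟨-, v, hn, hall⟩ := aut_small h4 hσ2
  obtain ⟨x, rfl⟩ := QuotientGroup.mk_surjective v
  have e1 : σ (x : R ⧸ frattini R) = ((α x : R) : R ⧸ frattini R) := rfl
  have e2 : σ (σ (x : R ⧸ frattini R)) = ((α (α x) : R) : R ⧸ frattini R) := rfl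
  rw [e2, e1] at hn
  simp only [e2] at hall
  simp only [e1] at hall
  simp only [List.nodup_cons, List.mem_cons, List.not_mem_nil, or_false, not_or, List.nodup_nil, and_true] at hn
  obtain ⟨⟨h1x, h1y, h1z⟩, ⟨hxy, hxz⟩, hyz, -⟩ := hn
  have hsq := frattini_sq hR
  have hprod : ((x : R ⧸ frattini R) * ((α x : R) : R ⧸ frattini R)) = ((α (α x) : R) : R ⧸ frattini R) := by
    rcases hall ((x : R ⧸ frattini R) * ((α x : R) : R ⧸ frattini R)) with e | e | e | e
    · exact absurd (mul_left_cancel (e.trans (hsq _).symm)).symm hxy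
    · exact absurd (mul_eq_left.1 e).symm h1y
    · exact absurd (mul_eq_right.1 e).symm h1x
    · exact e
  refine ⟨x, ?_, ?_, ?_⟩
  · refine Core.eq_top_of_sup_frattini (le_refl (frattini R)) (eq_top_iff.2 fun r _ => ?_)
    have hmem : ∀ a ∈ closure ({x, α x} : Set R), (r : R ⧸ frattini R) = (a : R ⧸ frattini R) →
        r ∈ closure ({x, α x} : Set R) ⊔ frattini R := fun a ha e => by
      rw [← mul_inv_cancel_left a r]
      exact mul_mem_sup ha (QuotientGroup.eq.1 e.symm)
    have hx : x ∈ closure ({x, α x} : Set R) := subset_closure (Or.inl rfl)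
    have hy : α x ∈ closure ({x, α x} : Set R) := subset_closure (Or.inr rfl)
    rcases hall r with e | e | e | e
    · exact hmem 1 (one_mem _) e
    · exact hmem x hx e
    · exact hmem _ hy e
    · exact hmem (x * α x) (mul_mem hx hy) (by rw [QuotientGroup.mk_mul, hprod]; exact e)
  · rw [← QuotientGroup.eq_one_iff, QuotientGroup.mk_mul, QuotientGroup.mk_mul, hprod]
    exact hsq _
  · intro h
    exact hxy (QuotientGroup.eq.2 h)

end Frattini

/-! ### Homocyclic groups of rank two -/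

/-- Homocyclic of rank two and exponent `2 ^ k`, given that it is generated by two elements. -/
def HC (R : Type*) [Group R] (k : ℕ) : Prop :=
  (∀ a b : R, a * b = b * a) ∧ (∀ a : R, a ^ 2 ^ k = 1) ∧ Nat.card R = 4 ^ k

/-- The homomorphism from `(ℤ/n)²` given by two commuting elements. -/
theorem exists_pairHom {R : Type*} [Group R] {x y : R} (hxy : Commute x y) (n : ℕ) [NeZero n]
    (hx : x ^ n = 1) (hy : y ^ n = 1) : ∃ f : Multiplicative (ZMod n × ZMod n) →* R,
      ∀ i j, f (Multiplicative.ofAdd (i, j)) = x ^ i.val * y ^ j.val := by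
  have key : ∀ u : R, u ^ n = 1 → ∀ i j : ZMod n, u ^ (i + j).val = u ^ i.val * u ^ j.val := by
    intro u hu i j
    rw [ZMod.val_add, ← pow_add, ← pow_mod_orderOf, ← pow_mod_orderOf u (i.val + j.val),
      Nat.mod_mod_of_dvd _ (orderOf_dvd_of_pow_eq_one hu)]
  refine ⟨{ toFun := fun p => x ^ (Multiplicative.toAdd p).1.val * y ^ (Multiplicative.toAdd p).2.val
            map_one' := by simp
            map_mul' := fun p q => ?_ }, fun i j => rfl⟩
  simp only [toAdd_mul, Prod.fst_add, Prod.snd_add]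
  rw [key x hx, key y hy]
  exact (hxy.pow_pow _ _).mul_mul_mul_comm _ _

theorem hc_iso {R : Type*} [Group R] [Finite R] {k : ℕ} (h : HC R k) {x y : R}
    (hgen : closure ({x, y} : Set R) = ⊤) :
    ∃ e : Multiplicative (ZMod (2 ^ k) × ZMod (2 ^ k)) ≃* R,
      ∀ i j, e (Multiplicative.ofAdd (i, j)) = x ^ i.val * y ^ j.val := by
  obtain ⟨f, hf⟩ := exists_pairHom (show Commute x y from h.1 x y) (2 ^ k) (h.2.1 x) (h.2.1 y)
  rcases Nat.eq_zero_or_pos k with rfl | hk
  · haveI : Subsingleton R := (Nat.card_eq_one_iff_unique.1 (by simpa using h.2.2)).1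
    haveI : Subsingleton (ZMod (2 ^ 0)) := (show Subsingleton (ZMod 1) from inferInstance)
    exact ⟨MulEquiv.ofBijective f ⟨fun a b _ => Subsingleton.elim _ _,
      fun r => ⟨1, Subsingleton.elim _ _⟩⟩, hf⟩
  have h2 : 2 ≤ 2 ^ k := le_trans (by norm_num) (Nat.pow_le_pow_right two_pos hk)
  haveI : Fact (1 < 2 ^ k) := ⟨by omega⟩
  have hsurj : Function.Surjective f := by
    rw [← MonoidHom.range_eq_top, eq_top_iff, ← hgen, closure_le]
    rintro v (h | h) <;> rw [h]
    · exact ⟨Multiplicative.ofAdd (1, 0), by rw [hf, ZMod.val_one, ZMod.val_zero, pow_one, pow_zero, mul_one]⟩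
    · exact ⟨Multiplicative.ofAdd (0, 1), by rw [hf, ZMod.val_one, ZMod.val_zero, pow_one, pow_zero, one_mul]⟩
  refine ⟨MulEquiv.ofBijective f ((Nat.bijective_iff_surjective_and_card f).2 ⟨hsurj, ?_⟩), hf⟩
  rw [h.2.2, Nat.card_congr Multiplicative.toAdd, Nat.card_prod, Nat.card_zmod, ← mul_pow]
  norm_num

/-- Homocyclic groups of rank two in the standard model. -/
theorem hc_model {R : Type*} [Group R] [Finite R] {k : ℕ} (h : HC R k) {x y : R}
    (hgen : closure ({x, y} : Set R) = ⊤) :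
    Nonempty (R ≃* Multiplicative (Fin 2 → ZMod (2 ^ k))) := by
  obtain ⟨e, -⟩ := hc_iso h hgen
  exact ⟨e.symm.trans (AddEquiv.toMultiplicative
    (LinearEquiv.finTwoArrow ℤ (ZMod (2 ^ k))).symm.toAddEquiv)⟩

/-- Two commuting generators exchanged cyclically by an automorphism. -/
theorem abelian_core {A : Type u} [Group A] [Finite A] (hA : IsPGroup 2 A)
    (hc : ∀ a b : A, a * b = b * a) (σ : A ≃* A) {x : A} (hgen : closure ({x, σ x} : Set A) = ⊤)
    (hw : x * σ x * σ (σ x) ∈ frattini A) {k : ℕ} (hk : orderOf x = 2 ^ k) :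
    HC A k ∧ ∀ i j : ℕ, x ^ i * σ x ^ j = 1 → 2 ^ k ∣ i ∧ 2 ^ k ∣ j := by
  letI : CommGroup A := { (inferInstance : Group A) with mul_comm := hc }
  have hσx : orderOf (σ x) = 2 ^ k := by rw [MulEquiv.orderOf_eq, hk]
  have hexp : ∀ a : A, a ^ 2 ^ k = 1 := by
    intro a
    have hle : closure ({x, σ x} : Set A) ≤ (powMonoidHom (2 ^ k) : A →* A).ker := by
      rw [closure_le]
      rintro v (h | h) <;> rw [h]
      · show x ^ 2 ^ k = 1
        rw [← hk, pow_orderOf_eq_one]
      · show σ x ^ 2 ^ k = 1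
        rw [← hσx, pow_orderOf_eq_one]
    exact hle (hgen ▸ mem_top a)
  have hcoord : ∀ i j : ℕ, x ^ i * σ x ^ j = 1 → 2 ^ k ∣ i ∧ 2 ^ k ∣ j := by
    intro i j hij
    suffices hi : 2 ^ k ∣ i by
      refine ⟨hi, ?_⟩
      rw [← hσx]
      refine orderOf_dvd_of_pow_eq_one ?_
      rwa [orderOf_dvd_iff_pow_eq_one.1 (hk ▸ hi), one_mul] at hij
    by_contra hi
    rcases Nat.eq_zero_or_pos k with rfl | hk0
    · exact hi (by simp)
    obtain ⟨d, rfl⟩ : ∃ d, k = d + 1 := ⟨k - 1, by omega⟩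
    -- a power of `x` in `zpowers (σ x)` gives equal involutions
    have hX1 : x ^ 2 ^ d ≠ 1 := fun h => by
      have := orderOf_dvd_of_pow_eq_one h
      rw [hk, Nat.pow_dvd_pow_iff_le_right one_lt_two] at this
      omega
    have hX2 : (x ^ 2 ^ d) * (x ^ 2 ^ d) = 1 := by rw [← pow_add, ← mul_two, ← pow_succ]; exact hexp x
    have hmem : x ^ 2 ^ d ∈ zpowers (σ x) := by
      obtain ⟨e, m, hm, him⟩ := Nat.exists_eq_pow_mul_and_not_dvd (n := i) (fun h0 => hi (h0 ▸ dvd_zero _)) 2 (by norm_num)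
      have hed : e ≤ d := by
        by_contra h
        exact hi (him ▸ (pow_dvd_pow 2 (show d + 1 ≤ e by omega)).mul_right m)
      obtain ⟨t, ht⟩ : Odd m := Nat.not_even_iff_odd.1 fun h => hm (even_iff_two_dvd.1 h)
      have h1 : x ^ i ∈ zpowers (σ x) := by
        rw [eq_inv_of_mul_eq_one_left hij]
        exact inv_mem (npow_mem_zpowers _ _)
      have h2 : x ^ 2 ^ d = (x ^ i) ^ 2 ^ (d - e) := by
        rw [← pow_mul, him, mul_right_comm, ← pow_add, Nat.add_sub_cancel' hed, pow_mul, ht, pow_succ, pow_mul,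
          pow_two, hX2, one_pow, one_mul]
      rw [h2]
      exact pow_mem h1 _
    have heq : x ^ 2 ^ d = σ x ^ 2 ^ d := by
      obtain ⟨m, hm⟩ : ∃ m : ℕ, σ x ^ m = x ^ 2 ^ d :=
        Submonoid.mem_powers_iff _ _ |>.1 (mem_powers_iff_mem_zpowers.2 hmem)
      have h1 : 2 ^ (d + 1) ∣ m * 2 := by
        rw [← hσx]
        refine orderOf_dvd_of_pow_eq_one ?_
        rw [pow_mul, hm, pow_two, hX2]
      rw [pow_succ, Nat.mul_dvd_mul_iff_right two_pos] at h1
      obtain ⟨t, rfl⟩ := h1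
      have hY2 : σ x ^ 2 ^ d * σ x ^ 2 ^ d = 1 := by rw [← pow_add, ← mul_two, ← pow_succ]; exact hexp _
      rw [← hm, pow_mul]
      rcases Nat.even_or_odd t with ⟨s, rfl⟩ | ⟨s, rfl⟩
      · exact absurd (by rw [← hm, pow_mul, ← two_mul, pow_mul, pow_two, hY2, one_pow]) hX1
      · rw [pow_succ, pow_mul, pow_two, hY2, one_pow, one_mul]
    let θ : A →* A := powMonoidHom (2 ^ d)
    have hθw : θ (x * σ x * σ (σ x)) = 1 := hom_frattini θ (fun a => by
      show a ^ 2 ^ d * a ^ 2 ^ d = 1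
      rw [← pow_add, ← mul_two, ← pow_succ]
      exact hexp a) hw
    have hσX : σ (σ x) ^ 2 ^ d = x ^ 2 ^ d := by
      rw [heq, ← map_pow, ← heq, map_pow, ← heq]
    rw [map_mul, map_mul] at hθw
    change x ^ 2 ^ d * σ x ^ 2 ^ d * σ (σ x) ^ 2 ^ d = 1 at hθw
    rw [hσX, ← heq, hX2, one_mul] at hθw
    exact hX1 hθw
  refine ⟨⟨hc, hexp, ?_⟩, hcoord⟩
  obtain ⟨f, hf⟩ := exists_pairHom (show Commute x (σ x) from hc _ _) (2 ^ k) (hexp x) (hexp _)
  have hinj : Function.Injective f := by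
    refine (injective_iff_map_eq_one f).2 fun p hp => ?_
    obtain ⟨⟨i, j⟩, rfl⟩ := Multiplicative.ofAdd.surjective p
    rw [hf] at hp
    obtain ⟨hi, hj⟩ := hcoord _ _ hp
    have e1 : i = 0 := (ZMod.val_eq_zero _).1 (Nat.eq_zero_of_dvd_of_lt hi (ZMod.val_lt i))
    have e2 : j = 0 := (ZMod.val_eq_zero _).1 (Nat.eq_zero_of_dvd_of_lt hj (ZMod.val_lt j))
    rw [e1, e2]
    rfl
  have hsurj : Function.Surjective f := by
    rw [← MonoidHom.range_eq_top, eq_top_iff, ← hgen, closure_le]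
    rcases Nat.eq_zero_or_pos k with rfl | hk0
    · rintro v (h | h) <;> rw [h]
      · exact ⟨1, by rw [map_one]; simpa using (hexp x).symm⟩
      · exact ⟨1, by rw [map_one]; simpa using (hexp (σ x)).symm⟩
    have h2 : 2 ≤ 2 ^ k := le_trans (by norm_num) (Nat.pow_le_pow_right two_pos hk0)
    haveI : Fact (1 < 2 ^ k) := ⟨by omega⟩
    rintro v (h | h) <;> rw [h]
    · exact ⟨Multiplicative.ofAdd (1, 0), by rw [hf, ZMod.val_one, ZMod.val_zero, pow_one, pow_zero, mul_one]⟩
    · exact ⟨Multiplicative.ofAdd (0, 1), by rw [hf, ZMod.val_one, ZMod.val_zero, pow_one, pow_zero, one_mul]⟩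
  rw [← Nat.card_congr (Equiv.ofBijective f ⟨hinj, hsurj⟩), Nat.card_congr Multiplicative.toAdd, Nat.card_prod,
    Nat.card_zmod, ← mul_pow]
  norm_num

/-! ### A central involution covering the commutators -/

theorem quotient_core {B : Type u} [Group B] [Finite B] (hB : IsPGroup 2 B) (hm : Cfsg.IsMetacyclic B)
    {c : B} (hc1 : c ≠ 1) (hc2 : c * c = 1) (hcc : ∀ v : B, v * c = c * v)
    (hcom : ∀ a b : B, ⁅a, b⁆ ∈ zpowers c) (σ : B ≃* B) (hσc : σ c = c) {x : B}
    (hgen : closure ({x, σ x} : Set B) = ⊤) (hw : x * σ x * σ (σ x) ∈ frattini B)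
    (hna : x * σ x ≠ σ x * x) : x * x = c := by
  have hcmem : ∀ d ∈ zpowers c, d = 1 ∨ d = c := by
    intro d hd
    obtain ⟨i, rfl⟩ := mem_zpowers_iff.1 hd
    rcases Int.even_or_odd i with ⟨j, rfl⟩ | ⟨j, rfl⟩
    · left; rw [← two_mul, zpow_mul, zpow_two, hc2, one_zpow]
    · right; rw [zpow_add, zpow_mul, zpow_two, hc2, one_zpow, one_mul, zpow_one]
  set N := zpowers c with hN
  have hNc : N ≤ center B := zpowers_le.2 (mem_center_iff.2 hcc)
  haveI : N.Normal := ⟨fun d hd v => by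
    rw [mem_center_iff.1 (hNc hd) v, mul_inv_cancel_right]; exact hd⟩
  have hcen : ∀ d ∈ N, ∀ v : B, v * d = d * v := fun d hd v => mem_center_iff.1 (hNc hd) v
  have hNσ : N.map (σ : B ≃* B).toMonoidHom = N := by
    rw [hN, MonoidHom.map_zpowers]; exact congrArg zpowers hσc
  let σA : (B ⧸ N) ≃* (B ⧸ N) := QuotientGroup.congr N N σ hNσ
  have hπ := QuotientGroup.mk'_surjective N
  have hgenA : closure ({(x : B ⧸ N), σA (x : B ⧸ N)} : Set (B ⧸ N)) = ⊤ := by
    have h1 := congrArg (Subgroup.map (QuotientGroup.mk' N)) hgen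
    rw [MonoidHom.map_closure, Set.image_pair, map_top_of_surjective _ hπ] at h1
    exact h1
  have hcA : ∀ a b : B ⧸ N, a * b = b * a := by
    intro a b
    obtain ⟨a, rfl⟩ := QuotientGroup.mk_surjective a
    obtain ⟨b, rfl⟩ := QuotientGroup.mk_surjective b
    rw [← commutatorElement_eq_one_iff_mul_comm, ← QuotientGroup.mk'_apply, ← QuotientGroup.mk'_apply,
      ← map_commutatorElement, QuotientGroup.mk'_apply, QuotientGroup.eq_one_iff]
    exact hcom a b
  obtain ⟨k, hk⟩ := IsPGroup.iff_orderOf.1 (hB.to_quotient N) (x : B ⧸ N)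
  obtain ⟨⟨-, hexpA, -⟩, hcoordA⟩ := abelian_core (hB.to_quotient N) hcA σA hgenA
    (Core.map_frattini_le_of_surjective hπ ⟨_, hw, rfl⟩) hk
  have hpowN : ∀ a : B, a ^ 2 ^ k ∈ N := fun a => by
    rw [← QuotientGroup.eq_one_iff, QuotientGroup.mk_pow]; exact hexpA _
  have hcoord : ∀ i j : ℕ, x ^ i * σ x ^ j ∈ N → 2 ^ k ∣ i ∧ 2 ^ k ∣ j := fun i j h => by
    refine hcoordA i j ?_
    show ((x : B) : B ⧸ N) ^ i * ((σ x : B) : B ⧸ N) ^ j = 1
    rw [← QuotientGroup.mk_pow, ← QuotientGroup.mk_pow, ← QuotientGroup.mk_mul, QuotientGroup.eq_one_iff]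
    exact h
  rcases Nat.lt_or_ge k 2 with hk2 | hk2
  · have hsq : ∀ a : B, a * a ∈ N := fun a => by
      rcases Nat.le_one_iff_eq_zero_or_eq_one.1 (by omega : k ≤ 1) with rfl | rfl
      · have := hpowN a
        rw [pow_zero, pow_one] at this
        exact mul_mem this this
      · rw [← pow_two]; exact hpowN a
    rcases hcmem _ (hsq x) with h1 | h1
    swap
    · exact h1
    exfalso
    have hwN : x * σ x * σ (σ x) ∈ N := by
      rw [← QuotientGroup.eq_one_iff]
      exact hom_frattini (QuotientGroup.mk' N) (fun a => by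
        rw [← map_mul, QuotientGroup.mk'_apply, QuotientGroup.eq_one_iff]; exact hsq a) hw
    have hy : σ x * σ x = 1 := by rw [← map_mul, h1, map_one]
    have hz : σ (σ x) * σ (σ x) = 1 := by rw [← map_mul, hy, map_one]
    set d := x * σ x * σ (σ x) with hd
    have hz' : σ (σ x) = (x * σ x)⁻¹ * d := by rw [hd]; group
    have hd2 : d * d = 1 := by
      rcases hcmem d hwN with e | e
      · rw [e, one_mul]
      · rw [e]; exact hc2
    have hxy2 : x * σ x * (x * σ x) = 1 := by
      rw [hz'] at hz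
      have h2 : (x * σ x)⁻¹ * d * ((x * σ x)⁻¹ * d) = (x * σ x * (x * σ x))⁻¹ * (d * d) := by
        rw [mul_assoc, ← mul_assoc d, ← hcen d hwN, mul_inv_rev (x * σ x) (x * σ x)]
        group
      rw [h2, hd2, mul_one, inv_eq_one] at hz
      exact hz
    refine hna ?_
    have e1 : x⁻¹ = x := inv_eq_of_mul_eq_one_right h1
    have e2 : (σ x)⁻¹ = σ x := inv_eq_of_mul_eq_one_right hy
    have e3 : (x * σ x)⁻¹ = x * σ x := inv_eq_of_mul_eq_one_right hxy2
    rw [mul_inv_rev, e1, e2] at e3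
    exact e3.symm
  -- exponent at least four modulo `c`: an elementary abelian subgroup of order eight
  exfalso
  have hn4 : ∃ m, 2 ^ k = 4 * m := ⟨2 ^ (k - 2), by rw [show (4 : ℕ) = 2 ^ 2 by rfl, ← pow_add]; congr 1; omega⟩
  have hsqc : ∀ a b : B, b * (a * a) = a * a * b := by
    intro a b
    have hd : b * a * b⁻¹ * a⁻¹ ∈ N := by
      have := hcom b a
      rwa [commutatorElement_def] at this
    set d := b * a * b⁻¹ * a⁻¹ with hdd
    have e : b * a = d * a * b := by rw [hdd]; group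
    have hd2 : d * d = 1 := by
      rcases hcmem d hd with e | e
      · rw [e, one_mul]
      · rw [e]; exact hc2
    calc b * (a * a) = d * a * b * a := by rw [← mul_assoc, e]
      _ = d * a * (d * a * b) := by rw [mul_assoc (d * a) b a, e]
      _ = d * (a * d) * a * b := by group
      _ = (d * d) * (a * a) * b := by rw [hcen d hd a]; group
      _ = a * a * b := by rw [hd2, one_mul]
  have hmul4 : ∀ (m : ℕ) (a b : B), (a * b) ^ (4 * m) = a ^ (4 * m) * b ^ (4 * m) := by
    intro m a b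
    have h4 : (a * b) ^ 4 = a ^ 4 * b ^ 4 := by
      set d := b * a * b⁻¹ * a⁻¹ with hdd
      have hd : d ∈ N := by
        have := hcom b a
        rwa [commutatorElement_def] at this
      have hd2 : d * d = 1 := by
        rcases hcmem d hd with e | e
        · rw [e, one_mul]
        · rw [e]; exact hc2
      have e : a * b * (a * b) = d * ((a * a) * (b * b)) := by
        calc a * b * (a * b) = a * (b * a) * b := by group
          _ = a * (d * a * b) * b := by rw [show b * a = d * a * b by rw [hdd]; group]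
          _ = (a * d) * a * b * b := by group
          _ = d * ((a * a) * (b * b)) := by rw [hcen d hd a]; group
      calc (a * b) ^ 4 = (a * b * (a * b)) * (a * b * (a * b)) := by
            simp only [pow_succ, pow_zero, one_mul, mul_assoc]
        _ = d * ((a * a * (b * b)) * d) * (a * a * (b * b)) := by rw [e]; group
        _ = (d * d) * (a * a) * ((b * b) * (a * a)) * (b * b) := by rw [hcen d hd]; group
        _ = a ^ 4 * b ^ 4 := by
            rw [hd2, one_mul, ← hsqc b (a * a)]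
            simp only [pow_succ, pow_zero, one_mul, mul_assoc]
    have hcomm4 : Commute (a ^ 4) (b ^ 4) := by
      have h2 : Commute (a * a) (b ^ 4) := (hsqc a (b ^ 4)).symm
      rw [show a ^ 4 = (a * a) ^ 2 by simp only [pow_succ, pow_zero, one_mul, mul_assoc]]
      exact h2.pow_left 2
    rw [pow_mul, h4, hcomm4.mul_pow, ← pow_mul, ← pow_mul]
  obtain ⟨m, hm4⟩ := hn4
  let θ : B →* B :=
    { toFun := fun a => a ^ 2 ^ k
      map_one' := one_pow _
      map_mul' := fun a b => by simp only [hm4]; exact hmul4 m a b }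
  have hθ2 : ∀ a, θ a * θ a = 1 := fun a => by
    rcases hcmem _ (hpowN a) with e | e
    · show a ^ 2 ^ k * a ^ 2 ^ k = 1
      rw [e, one_mul]
    · show a ^ 2 ^ k * a ^ 2 ^ k = 1
      rw [e]; exact hc2
  have hσθ : ∀ a, θ (σ a) = θ a := fun a => by
    show σ a ^ 2 ^ k = a ^ 2 ^ k
    rw [← map_pow]
    rcases hcmem _ (hpowN a) with e | e
    · rw [e, map_one]
    · rw [e, hσc]
  have he : x ^ 2 ^ k = 1 := by
    have h1 := hom_frattini θ hθ2 hw
    rw [map_mul, map_mul, hσθ (σ x), hσθ x, hθ2, one_mul] at h1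
    exact h1
  obtain ⟨d, rfl⟩ : ∃ d, k = d + 2 := ⟨k - 2, by omega⟩
  set q := 2 ^ (d + 1) with hq
  have hq2 : 2 ^ (d + 2) = q + q := by rw [hq, pow_succ 2 (d + 1)]; ring
  have hqpos : 0 < q := Nat.two_pow_pos _
  set X := x ^ q with hX
  set Y := σ x ^ q with hY
  have hX2 : X * X = 1 := by rw [hX, ← pow_add, ← hq2, he]
  have hY2 : Y * Y = 1 := by
    rw [hY, ← pow_add, ← hq2]
    exact (hσθ x).trans he
  have hXY : Commute X Y := by
    have h2 : Commute (x * x) Y := (hsqc x Y).symm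
    rw [hX, show q = 2 * 2 ^ d by rw [hq, pow_succ]; ring, pow_mul, pow_two]
    exact h2.pow_left _
  have hnmem : ∀ i j : ℕ, i < 2 ^ (d + 2) → j < 2 ^ (d + 2) → x ^ i * σ x ^ j ∈ N → i = 0 ∧ j = 0 :=
    fun i j hi hj h => ⟨Nat.eq_zero_of_dvd_of_lt (hcoord i j h).1 hi, Nat.eq_zero_of_dvd_of_lt (hcoord i j h).2 hj⟩
  have hXN : X ∉ N := fun h => by
    have := hnmem q 0 (by omega) (Nat.two_pow_pos _) (by rwa [pow_zero, mul_one]); omega
  have hYN : Y ∉ N := fun h => by
    have := hnmem 0 q (Nat.two_pow_pos _) (by omega) (by rwa [pow_zero, one_mul]); omega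
  have hXYN : X * Y ∉ N := fun h => by
    have := hnmem q q (by omega) (by omega) h; omega
  let E : Subgroup B := closure {c, X, Y}
  have hE2 : ∀ e ∈ E, (∀ f ∈ E, e * f = f * e) ∧ e * e = 1 := by
    have hpair : ∀ a ∈ ({c, X, Y} : Set B), ∀ b ∈ ({c, X, Y} : Set B), a * b = b * a := by
      rintro a (rfl | rfl | rfl) b (rfl | rfl | rfl)
      exacts [rfl, (hcc _).symm, (hcc _).symm, hcc _, rfl, hXY, hcc _, hXY.symm, rfl]
    letI := Subgroup.closureCommGroupOfComm hpair
    have hcomm : ∀ e ∈ E, ∀ f ∈ E, e * f = f * e := fun e he f hf =>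
      congrArg Subtype.val (mul_comm (⟨e, he⟩ : closure ({c, X, Y} : Set B)) ⟨f, hf⟩)
    intro e he
    refine ⟨hcomm e he, ?_⟩
    induction he using Subgroup.closure_induction with
    | mem z hz =>
      rcases hz with rfl | rfl | rfl
      exacts [hc2, hX2, hY2]
    | one => rw [one_mul]
    | mul a b ha hb iha ihb =>
      calc a * b * (a * b) = a * (b * a) * b := by group
        _ = (a * a) * (b * b) := by rw [← hcomm a ha b hb]; group
        _ = 1 := by rw [iha, ihb, one_mul]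
    | inv a ha iha => rw [← mul_inv_rev, iha, inv_one]
  have hE4 : Nat.card E ≤ 4 := card_le_four (Metacyclic.isMetacyclic_of_injective hm E.subtype E.subtype_injective)
    fun e => Subtype.ext (hE2 e e.2).2
  have hcE : c ∈ E := subset_closure (Or.inl rfl)
  have hXE : X ∈ E := subset_closure (Or.inr (Or.inl rfl))
  have hYE : Y ∈ E := subset_closure (Or.inr (Or.inr rfl))
  refine five_false hE4 1 ⟨c, hcE⟩ ⟨X, hXE⟩ ⟨Y, hYE⟩ ⟨X * Y, mul_mem hXE hYE⟩ ?_
  have hcN : c ∈ N := mem_zpowers c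
  have n1 : X ≠ 1 := fun e => hXN (e ▸ one_mem _)
  have n2 : Y ≠ 1 := fun e => hYN (e ▸ one_mem _)
  have n3 : X * Y ≠ 1 := fun e => hXYN (e ▸ one_mem _)
  have n4 : X ≠ c := fun e => hXN (e ▸ hcN)
  have n5 : Y ≠ c := fun e => hYN (e ▸ hcN)
  have n6 : X * Y ≠ c := fun e => hXYN (e ▸ hcN)
  have n7 : X ≠ Y := fun e => n3 (e ▸ hY2)
  have n8 : X ≠ X * Y := fun e => n2 (left_eq_mul.1 e)
  have n9 : Y ≠ X * Y := fun e => n1 (right_eq_mul.1 e)
  simp [Subtype.ext_iff, Ne.symm hc1, Ne.symm n1, Ne.symm n2, Ne.symm n3, Ne.symm n4, Ne.symm n5, Ne.symm n6, n7, n8, n9]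

/-! ### Classification -/

/-- An element of a cyclic 2-group outside the squares generates it. -/
theorem gen_of_not_mem {R : Type*} [Group R] {g u : R} {e : ℕ} (hg : orderOf g = 2 ^ e)
    (hu : u ∈ zpowers g) (h : u ∉ zpowers (g ^ 2)) : zpowers u = zpowers g := by
  refine le_antisymm (zpowers_le.2 hu) (zpowers_le.2 ?_)
  obtain ⟨i, rfl⟩ := mem_zpowers_iff.1 hu
  have hodd : ¬ (2 : ℤ) ∣ i := by
    rintro ⟨j, rfl⟩
    exact h (mem_zpowers_iff.2 ⟨j, by rw [zpow_mul]; norm_num [zpow_natCast]⟩)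
  obtain ⟨a, b, hab⟩ := ((Int.prime_two.coprime_iff_not_dvd).2 hodd).pow_left (m := e)
  refine mem_zpowers_iff.2 ⟨b, ?_⟩
  rw [← zpow_mul]
  conv_rhs => rw [← zpow_one g, ← hab, zpow_add, mul_comm a, zpow_mul,
    show ((2 : ℤ) ^ e) = ((2 ^ e : ℕ) : ℤ) by push_cast; rfl, zpow_natCast, ← hg, pow_orderOf_eq_one, one_zpow, one_mul]
  rw [mul_comm]

/-- A metacyclic 2-group with a nontrivial automorphism of odd order. -/
theorem classify {R : Type u} [Group R] [Finite R] (hR : IsPGroup 2 R) (hm : Cfsg.IsMetacyclic R)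
    {α : MulAut R} (ho : Odd (orderOf α)) (hα : α ≠ 1) :
    (∃ (k : ℕ) (x : R), 1 ≤ k ∧ HC R k ∧ closure ({x, α x} : Set R) = ⊤) ∨
      Nonempty (R ≃* QuaternionGroup 2) := by
  haveI : Fact (Nat.Prime 2) := ⟨Nat.prime_two⟩
  obtain ⟨x, hgen, hw, hne⟩ := frame hR hm ho hα
  obtain ⟨k, hk⟩ := IsPGroup.iff_orderOf.1 hR x
  by_cases hab : x * α x = α x * x
  · left
    have hcomm : ∀ a b : R, a * b = b * a := by
      have hpair : ∀ a ∈ ({x, α x} : Set R), ∀ b ∈ ({x, α x} : Set R), a * b = b * a := by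
        rintro a (rfl | rfl) b (rfl | rfl)
        exacts [rfl, hab, hab.symm, rfl]
      letI := Subgroup.closureCommGroupOfComm hpair
      intro a b
      exact congrArg Subtype.val (mul_comm (⟨a, hgen ▸ mem_top a⟩ : closure ({x, α x} : Set R)) ⟨b, hgen ▸ mem_top b⟩)
    refine ⟨k, x, ?_, (abelian_core hR hcomm α hgen hw hk).1, hgen⟩
    by_contra h0
    obtain rfl : k = 0 := by omega
    rw [pow_zero, orderOf_eq_one_iff] at hk
    exact hne (by rw [hk, map_one, inv_one, one_mul]; exact one_mem _)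
  right
  set y := α x with hy
  -- the derived subgroup is cyclic
  obtain ⟨g, hg⟩ : ∃ g, _root_.commutator R = zpowers g := by
    obtain ⟨N, hN, hNc, hQc⟩ := hm
    letI : CommGroup (R ⧸ N) := IsCyclic.commGroup
    have hle : _root_.commutator R ≤ N := by
      have h := Abelianization.commutator_subset_ker (QuotientGroup.mk' N)
      rwa [QuotientGroup.ker_mk'] at h
    haveI : IsCyclic (_root_.commutator R) :=
      isCyclic_of_injective (Subgroup.inclusion hle) (Subgroup.inclusion_injective _)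
    exact ((Subgroup.isCyclic_iff_exists_zpowers_eq_top _).1 ‹_›).imp fun g h => h.symm
  obtain ⟨e, he⟩ := IsPGroup.iff_orderOf.1 hR g
  have hg1 : g ≠ 1 := fun h => hab (commutatorElement_eq_one_iff_mul_comm.1 (by
    have := Subgroup.commutator_mem_commutator (mem_top x) (mem_top y)
    rw [← _root_.commutator_def, hg, h, zpowers_one_eq_bot, mem_bot] at this
    exact this))
  have hgC : g ∈ _root_.commutator R := hg ▸ mem_zpowers g
  have hconj : ∀ v : R, v * g * v⁻¹ ∈ zpowers g := fun v =>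
    hg ▸ (inferInstance : (_root_.commutator R).Normal).conj_mem _ hgC v
  set Z := zpowers (g ^ 2) with hZ
  haveI : Z.Normal := ⟨fun d hd v => by
    obtain ⟨i, rfl⟩ := mem_zpowers_iff.1 hd
    obtain ⟨j, hj⟩ := mem_zpowers_iff.1 (hconj v)
    rw [← conj_zpow, ← conj_pow, ← hj]
    exact mem_zpowers_iff.2 ⟨j * i, by simp only [← zpow_natCast, ← zpow_mul]; congr 1; ring⟩⟩
  have hgZ : g ∉ Z := fun h => hg1 (by
    obtain ⟨i, hi⟩ := mem_zpowers_iff.1 h
    rw [← zpow_natCast, ← zpow_mul, ← mul_inv_eq_one] at hi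
    rw [← zpow_sub_one, ← orderOf_dvd_iff_zpow_eq_one, he] at hi
    rcases Nat.eq_zero_or_pos e with rfl | hpos
    · exact orderOf_eq_one_iff.1 (by simpa using he)
    · have : (2 : ℤ) ∣ ((2 ^ e : ℕ) : ℤ) := by exact_mod_cast dvd_pow_self 2 hpos.ne'
      have := this.trans hi
      omega)
  set π := QuotientGroup.mk' Z
  have hπ : Function.Surjective π := QuotientGroup.mk'_surjective Z
  set c := π g with hc
  have hc1 : c ≠ 1 := fun h => hgZ ((QuotientGroup.eq_one_iff _).1 h)
  have hc2 : c * c = 1 := by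
    rw [hc, ← map_mul, ← pow_two]
    exact (QuotientGroup.eq_one_iff _).2 (mem_zpowers _)
  have hcyc : ∀ u ∈ zpowers g, π u ∈ zpowers c := fun u hu => by
    obtain ⟨i, rfl⟩ := mem_zpowers_iff.1 hu
    rw [map_zpow]
    exact zpow_mem_zpowers _ _
  have hcases : ∀ u ∈ zpowers g, π u = 1 ∨ π u = c := fun u hu => by
    obtain ⟨i, rfl⟩ := mem_zpowers_iff.1 hu
    rw [map_zpow, ← hc]
    rcases Int.even_or_odd i with ⟨j, rfl⟩ | ⟨j, rfl⟩
    · left; rw [← two_mul, zpow_mul, zpow_two, hc2, one_zpow]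
    · right; rw [zpow_add, zpow_mul, zpow_two, hc2, one_zpow, one_mul, zpow_one]
  have hαg : α g ∈ zpowers g := by
    rw [← hg]
    have h := Subgroup.mem_map_of_mem α.toMonoidHom hgC
    rwa [Subgroup.characteristic_iff_map_eq.1 inferInstance α] at h
  have hZα : Z.map (α : R ≃* R).toMonoidHom = Z := by
    refine Subgroup.eq_of_le_of_card_ge ?_ (Subgroup.card_map_of_injective α.injective).symm.le
    rw [hZ, MonoidHom.map_zpowers, zpowers_le]
    obtain ⟨j, hj⟩ := mem_zpowers_iff.1 hαg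
    show α (g ^ 2) ∈ _
    rw [map_pow, ← hj]
    exact mem_zpowers_iff.2 ⟨j, by rw [← zpow_natCast, ← zpow_natCast, ← zpow_mul, ← zpow_mul, mul_comm]⟩
  let σ : (R ⧸ Z) ≃* (R ⧸ Z) := QuotientGroup.congr Z Z α hZα
  have hcc : ∀ v : R ⧸ Z, v * c = c * v := by
    intro v
    obtain ⟨v, rfl⟩ := hπ v
    rcases hcases _ (hconj v) with h | h
    · exfalso
      rw [map_mul, map_mul, ← hc, map_inv, mul_inv_eq_one, mul_eq_left] at h
      exact hc1 h
    · rwa [map_mul, map_mul, ← hc, map_inv, mul_inv_eq_iff_eq_mul] at h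
  have hcom : ∀ a b : R ⧸ Z, ⁅a, b⁆ ∈ zpowers c := by
    intro a b
    obtain ⟨a, rfl⟩ := hπ a
    obtain ⟨b, rfl⟩ := hπ b
    rw [← map_commutatorElement]
    exact hcyc _ (hg ▸ Subgroup.commutator_mem_commutator (mem_top a) (mem_top b))
  have hσc : σ c = c := by
    rcases hcases _ hαg with h | h
    · exact absurd ((map_eq_one_iff σ σ.injective).1 h) hc1
    · exact h
  have hgenB : closure ({π x, σ (π x)} : Set (R ⧸ Z)) = ⊤ := by
    have h1 := congrArg (Subgroup.map π) hgen
    rw [MonoidHom.map_closure, Set.image_pair, map_top_of_surjective _ hπ] at h1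
    exact h1
  have hnab : π x * σ (π x) ≠ σ (π x) * π x := by
    intro h
    have hpair : ∀ a ∈ ({π x, σ (π x)} : Set (R ⧸ Z)), ∀ b ∈ ({π x, σ (π x)} : Set (R ⧸ Z)), a * b = b * a := by
      rintro a (rfl | rfl) b (rfl | rfl)
      exacts [rfl, h, h.symm, rfl]
    letI := Subgroup.closureCommGroupOfComm hpair
    have hcm : ∀ a b : R ⧸ Z, a * b = b * a := fun a b => congrArg Subtype.val
      (mul_comm (⟨a, hgenB ▸ mem_top a⟩ : closure ({π x, σ (π x)} : Set (R ⧸ Z))) ⟨b, hgenB ▸ mem_top b⟩)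
    refine hgZ ?_
    have hle : _root_.commutator R ≤ Z := by
      rw [_root_.commutator_def, Subgroup.commutator_le]
      intro a _ b _
      rw [← QuotientGroup.eq_one_iff, ← QuotientGroup.mk'_apply, map_commutatorElement,
        commutatorElement_eq_one_iff_mul_comm]
      exact hcm _ _
    exact hle hgC
  have hxx := quotient_core (hR.to_quotient Z) (isMetacyclic_of_surjective hm hπ) hc1 hc2 hcc hcom σ hσc hgenB
    (Core.map_frattini_le_of_surjective hπ ⟨_, hw, rfl⟩) hnab
  -- the squares of the generators generate the derived subgroup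
  have hgen' : ∀ u : R, π u = c → zpowers u = zpowers g := fun u hu => by
    have hcu : u⁻¹ * g ∈ Z := QuotientGroup.eq.1 hu
    have humem : u ∈ zpowers g := by
      have h1 : u⁻¹ * g ∈ zpowers g := (zpowers_le.2 (npow_mem_zpowers g 2)) hcu
      have := mul_mem (mem_zpowers g) (inv_mem h1)
      rwa [mul_inv_rev, inv_inv, ← mul_assoc, mul_inv_cancel, one_mul] at this
    refine gen_of_not_mem he humem fun h => hc1 ?_
    rw [← hu]
    exact (QuotientGroup.eq_one_iff _).2 h
  have hx2 : zpowers (x * x) = zpowers g := hgen' _ (by rw [map_mul]; exact hxx)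
  have hy2 : zpowers (y * y) = zpowers g := hgen' _ (by
    have := congrArg σ hxx
    rw [map_mul, hσc] at this
    rw [map_mul]
    exact this)
  have hgcen : ∀ u ∈ zpowers g, ∀ v : R, v * u = u * v := by
    intro u hu
    have hle : closure ({x, y} : Set R) ≤ centralizer ({u} : Set R) := by
      rw [closure_le]
      rintro v (h | h) <;> rw [h]
      · obtain ⟨i, rfl⟩ := mem_zpowers_iff.1 (hx2 ▸ hu)
        exact mem_centralizer_singleton_iff.2 (((Commute.refl x).mul_right (Commute.refl x)).zpow_right i).eq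
      · obtain ⟨i, rfl⟩ := mem_zpowers_iff.1 (hy2 ▸ hu)
        exact mem_centralizer_singleton_iff.2 (((Commute.refl y).mul_right (Commute.refl y)).zpow_right i).eq
    exact fun v => mem_centralizer_singleton_iff.1 (hle (hgen ▸ mem_top v))
  set d := ⁅y, x⁆ with hd
  have hdg : d ∈ zpowers g := hg ▸ Subgroup.commutator_mem_commutator (mem_top y) (mem_top x)
  have hdgen : zpowers d = zpowers g := hgen' _ (by
    rcases hcases _ hdg with h | h
    · exfalso
      rw [hd, map_commutatorElement, commutatorElement_eq_one_iff_mul_comm] at h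
      exact hnab h.symm
    · exact h)
  have hyx : y * x * y⁻¹ = d * x := by rw [hd, commutatorElement_def]; group
  have hd2 : d * d = 1 := by
    have hxg : x * x ∈ zpowers g := hx2 ▸ mem_zpowers _
    have h1 : y * (x * x) * y⁻¹ = x * x := by rw [hgcen _ hxg y, mul_inv_cancel_right]
    have h2 : y * (x * x) * y⁻¹ = d * d * (x * x) := by
      calc y * (x * x) * y⁻¹ = (y * x * y⁻¹) * (y * x * y⁻¹) := by group
        _ = d * (x * d) * x := by rw [hyx]; group
        _ = d * d * (x * x) := by rw [hgcen _ hdg x]; group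
    exact mul_eq_right.1 (h2.symm.trans h1)
  have hog : orderOf g = 2 := by
    rw [← Nat.card_zpowers, ← hdgen, Nat.card_zpowers]
    refine orderOf_eq_prime (by rw [pow_two]; exact hd2) fun h => hg1 ?_
    have := hdgen ▸ mem_zpowers g
    rwa [h, zpowers_one_eq_bot, mem_bot] at this
  have hgu : ∀ u, zpowers u = zpowers g → u = g := by
    intro u hu
    have hu1 : u ≠ 1 := fun h => hg1 (by
      have := hu.symm ▸ mem_zpowers g
      rwa [h, zpowers_one_eq_bot, mem_bot] at this)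
    obtain ⟨i, rfl⟩ := mem_zpowers_iff.1 (hu ▸ mem_zpowers u)
    have hg2 : g * g = 1 := by rw [← pow_two, ← hog, pow_orderOf_eq_one]
    rcases Int.even_or_odd i with ⟨j, rfl⟩ | ⟨j, rfl⟩
    · exact absurd (by rw [← two_mul, zpow_mul, zpow_two, hg2, one_zpow]) hu1
    · rw [zpow_add, zpow_mul, zpow_two, hg2, one_zpow, one_mul, zpow_one]
  have hxg : x * x = g := hgu _ hx2
  have hyg : y * y = g := hgu _ hy2
  have hdgg : d = g := hgu _ hdgen
  have hg2 : g * g = 1 := by rw [← pow_two, ← hog, pow_orderOf_eq_one]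
  have hox : orderOf x = 2 * 2 := by
    refine orderOf_eq_prime_pow (p := 2) (n := 1) ?_ ?_
    · rw [pow_one, pow_two, hxg]; exact hg1
    · rw [show (2 : ℕ) ^ (1 + 1) = 2 * 2 by rfl, pow_mul, pow_two x, hxg, pow_two, hg2]
  have hinv : y * x * y⁻¹ = x⁻¹ := by
    rw [hyx, hdgg]
    refine eq_inv_of_mul_eq_one_left ?_
    rw [mul_assoc, hxg, hg2]
  have hyx' : y ∉ zpowers x := by
    intro h
    obtain ⟨i, hi⟩ := mem_zpowers_iff.1 h
    exact hab (hi ▸ ((Commute.refl x).zpow_right i).eq)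
  have hnorm : closure ({x, y} : Set R) ≤ normalizer ((zpowers x : Subgroup R) : Set R) := by
    rw [closure_le]
    rintro v (h | h) <;> rw [h]
    · exact le_normalizer (mem_zpowers x)
    · refine mem_normalizer_fintype ?_
      rintro _ ⟨i, rfl⟩
      show y * x ^ i * y⁻¹ ∈ zpowers x
      rw [← conj_zpow, hinv]
      exact zpow_mem (inv_mem (mem_zpowers x)) _
  haveI : (zpowers x).Normal := normalizer_eq_top_iff.1 (eq_top_iff.2 (hgen ▸ hnorm))
  have hgx : g ∈ zpowers x := hxg ▸ mul_mem (mem_zpowers x) (mem_zpowers x)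
  refine Fusion.nonempty_mulEquiv_quaternion 2 hox (g := y) (by rw [hyg, pow_two, hxg]) ?_ hyx' fun v => ?_
  · have h1 : y⁻¹ = y * g := by
      refine inv_eq_of_mul_eq_one_left ?_
      rw [mul_assoc, ← hgcen g (mem_zpowers g) y, ← mul_assoc, hyg, hg2]
    calc y⁻¹ * x * y = y⁻¹ * x * (y⁻¹)⁻¹ := by rw [inv_inv]
      _ = (y * g) * x * (y * g)⁻¹ := by rw [← h1]
      _ = y * (g * x * g⁻¹) * y⁻¹ := by group
      _ = x⁻¹ := by rw [← hgcen g (mem_zpowers g) x, mul_inv_cancel_right, hinv]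
  · have hv : v ∈ zpowers x ⊔ zpowers y := by
      have hle : closure ({x, y} : Set R) ≤ zpowers x ⊔ zpowers y := by
        rw [closure_le]
        rintro v (h | h) <;> rw [h]
        · exact mem_sup_left (mem_zpowers _)
        · exact mem_sup_right (mem_zpowers _)
      exact hle (hgen ▸ mem_top v)
    obtain ⟨a, ha, b, hb, rfl⟩ := mem_sup_of_normal_left.1 hv
    obtain ⟨i, rfl⟩ := mem_zpowers_iff.1 hb
    rcases Int.even_or_odd i with ⟨j, rfl⟩ | ⟨j, rfl⟩
    · left
      rw [← two_mul, zpow_mul, zpow_two, hyg]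
      exact mul_mem ha (zpow_mem hgx _)
    · right
      rw [zpow_add, zpow_one, zpow_mul, zpow_two, hyg, ← mul_assoc, ← mul_assoc,
        show y⁻¹ * a * g ^ j * y = y⁻¹ * (a * g ^ j) * y⁻¹⁻¹ by group]
      exact (inferInstance : (zpowers x).Normal).conj_mem _ (mul_mem ha (zpow_mem hgx _)) _

/-! ### Homocyclic subgroups with a swapping normaliser -/

theorem no_swap {Ω : Type u} [Group Ω] {P X : Subgroup Ω} [Finite P] (hP : IsPGroup 2 P)
    (hm : Cfsg.IsMetacyclic P) (hXP : X ≤ P) {k : ℕ} (hk : 2 ≤ k) (hX : HC X k) {a : Ω} (haP : a ∈ P)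
    (haX : a ∉ X) (ha2 : a * a ∈ X) (han : ∀ v ∈ X, a * v * a⁻¹ ∈ X)
    {x : X} (hx : x⁻¹ * ⟨a * (x : Ω) * a⁻¹, han _ x.2⟩ ∉ frattini X) : False := by
  haveI : Fact (Nat.Prime 2) := ⟨Nat.prime_two⟩
  haveI : Finite X := Finite.of_injective _ (Subgroup.inclusion_injective hXP)
  have hXp : IsPGroup 2 X := hP.of_injective (Subgroup.inclusion hXP) (Subgroup.inclusion_injective _)
  let conjA : X →* X :=
    { toFun := fun v => ⟨a * v * a⁻¹, han _ v.2⟩
      map_one' := Subtype.ext (by simp)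
      map_mul' := fun u v => Subtype.ext (by simp) }
  have hbij : Function.Surjective conjA := (Finite.injective_iff_surjective (f := conjA)).1 fun u v h =>
    Subtype.ext (by simpa [conjA] using congrArg Subtype.val h)
  set y : X := conjA x with hy
  have hgen : closure ({x, y} : Set X) = ⊤ := by
    have h4 := frattini_card_le hXp (Metacyclic.isMetacyclic_of_injective hm _ (Subgroup.inclusion_injective hXP))
    have hsq := frattini_sq hXp
    have hxy : (x : X ⧸ frattini X) ≠ (y : X ⧸ frattini X) := fun e => hx (QuotientGroup.eq.1 e)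
    have hx1 : (x : X ⧸ frattini X) ≠ 1 := fun e => by
      refine hxy (e.trans (Eq.symm ?_))
      rw [QuotientGroup.eq_one_iff] at e ⊢
      exact Core.map_frattini_le_of_surjective hbij ⟨x, e, rfl⟩
    have hy1 : (y : X ⧸ frattini X) ≠ 1 := fun e => by
      refine hx1 ?_
      rw [QuotientGroup.eq_one_iff] at e ⊢
      have h2 := Core.map_frattini_le_of_surjective hbij ⟨y, e, rfl⟩
      have e2 : conjA y = x := Subtype.ext (by
        show a * (a * (x : Ω) * a⁻¹) * a⁻¹ = x
        have := congrArg Subtype.val (hX.1 ⟨a * a, ha2⟩ x)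
        simp only [Subgroup.coe_mul] at this
        calc a * (a * (x : Ω) * a⁻¹) * a⁻¹ = (a * a) * x * (a * a)⁻¹ := by group
          _ = x := by rw [this, mul_inv_cancel_right])
      rwa [e2] at h2
    have n1 : (x : X ⧸ frattini X) * y ≠ 1 := fun e => hxy (mul_left_cancel (e.trans (hsq _).symm)).symm
    have n2 : (x : X ⧸ frattini X) ≠ x * y := fun e => hy1 (left_eq_mul.1 e)
    have n3 : (y : X ⧸ frattini X) ≠ x * y := fun e => hx1 (right_eq_mul.1 e)
    refine Core.eq_top_of_sup_frattini (le_refl (frattini X)) (eq_top_iff.2 fun r _ => ?_)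
    have hmem : ∀ b ∈ closure ({x, y} : Set X), (r : X ⧸ frattini X) = (b : X ⧸ frattini X) →
        r ∈ closure ({x, y} : Set X) ⊔ frattini X := fun b hb e => by
      rw [← mul_inv_cancel_left b r]
      exact mul_mem_sup hb (QuotientGroup.eq.1 e.symm)
    have hxm : x ∈ closure ({x, y} : Set X) := subset_closure (Or.inl rfl)
    have hym : y ∈ closure ({x, y} : Set X) := subset_closure (Or.inr rfl)
    rcases four_cover h4 1 (x : X ⧸ frattini X) y (x * y)
      (by simp [Ne.symm hx1, Ne.symm hy1, Ne.symm n1, hxy, n2, n3]) r with e | e | e | e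
    · exact hmem 1 (one_mem _) e
    · exact hmem x hxm e
    · exact hmem y hym e
    · exact hmem _ (mul_mem hxm hym) e
  obtain ⟨e, he⟩ := hc_iso hX hgen
  haveI : Fact (1 < 2 ^ k) := ⟨Nat.one_lt_two_pow (by omega)⟩
  let f : ZMod (2 ^ k) → ZMod (2 ^ k) → Ω := fun i j => ((e (Multiplicative.ofAdd (i, j)) : X) : Ω)
  have fX : ∀ i j, f i j ∈ X := fun i j => (e _).2
  have fmul : ∀ i j i' j', f i j * f i' j' = f (i + i') (j + j') := fun i j i' j' => by
    show ((e _ * e _ : X) : Ω) = _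
    rw [← map_mul]; rfl
  have f0 : f 0 0 = 1 := by show ((e 1 : X) : Ω) = 1; rw [map_one]; rfl
  have finj : ∀ i j i' j', f i j = f i' j' → i = i' ∧ j = j' := fun i j i' j' h => by
    have := e.injective (Subtype.ext h)
    exact Prod.ext_iff.1 (Multiplicative.ofAdd.injective this)
  have fsurj : ∀ v ∈ X, ∃ i j, f i j = v := fun v hv => by
    obtain ⟨p, hp⟩ := e.surjective ⟨v, hv⟩
    obtain ⟨⟨i, j⟩, rfl⟩ := Multiplicative.ofAdd.surjective p
    exact ⟨i, j, congrArg Subtype.val hp⟩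
  have fconj : ∀ i j, a * f i j * a⁻¹ = f j i := by
    intro i j
    have hy2 : conjA y = x := Subtype.ext (by
      show a * (a * (x : Ω) * a⁻¹) * a⁻¹ = x
      have := congrArg Subtype.val (hX.1 ⟨a * a, ha2⟩ x)
      simp only [Subgroup.coe_mul] at this
      calc a * (a * (x : Ω) * a⁻¹) * a⁻¹ = (a * a) * x * (a * a)⁻¹ := by group
        _ = x := by rw [this, mul_inv_cancel_right])
    show ((conjA (e (Multiplicative.ofAdd (i, j))) : X) : Ω) = ((e (Multiplicative.ofAdd (j, i)) : X) : Ω)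
    rw [he, he, map_mul, map_pow, map_pow, ← hy, hy2, hX.1]
  obtain ⟨i, j, hij⟩ := fsurj _ ha2
  obtain rfl : i = j := by
    have h1 := fconj i j
    rw [hij, show a * (a * a) * a⁻¹ = a * a by group, ← hij] at h1
    exact (finj _ _ _ _ h1).1
  set b := a * f (-i) 0 with hb
  have hb2 : b * b = 1 := by
    calc b * b = (a * f (-i) 0 * a⁻¹) * (a * a) * f (-i) 0 := by rw [hb]; group
      _ = f 0 0 := by rw [fconj, ← hij, fmul, fmul]; simp
      _ = 1 := f0
  have hbP : b ∈ P := mul_mem haP (hXP (fX _ _))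
  have hbX : b ∉ X := fun h => haX ((X.mul_mem_cancel_right (fX _ _)).1 h)
  have bconj : ∀ u v, b * f u v * b⁻¹ = f v u := fun u v => by
    rw [← fconj u v, hb]
    calc a * f (-i) 0 * f u v * (a * f (-i) 0)⁻¹ = a * (f (-i) 0 * f u v * (f (-i) 0)⁻¹) * a⁻¹ := by group
      _ = a * f u v * a⁻¹ := by
          rw [fmul, add_comm (-i) u, add_comm (0 : ZMod (2 ^ k)) v, ← fmul, mul_inv_cancel_right]
  obtain ⟨d, rfl⟩ : ∃ d, k = d + 2 := ⟨k - 2, by omega⟩
  set q : ZMod (2 ^ (d + 2)) := ((2 ^ (d + 1) : ℕ) : ZMod (2 ^ (d + 2))) with hq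
  have hqq : q + q = 0 := by
    rw [hq, ← Nat.cast_add, ← two_mul, ← pow_succ', ZMod.natCast_self]
  have hqval : q.val = 2 ^ (d + 1) := by
    rw [hq, ZMod.val_natCast, Nat.mod_eq_of_lt (Nat.pow_lt_pow_right one_lt_two (by omega))]
  have hq0 : q ≠ 0 := fun h => by
    rw [h, ZMod.val_zero] at hqval
    exact absurd hqval.symm (Nat.two_pow_pos _).ne'
  have hodd : ∀ m : ZMod (2 ^ (d + 2)), m + m ≠ 1 := by
    intro m h
    have h2 := congrArg (ZMod.castHom (dvd_pow_self 2 (by omega : d + 2 ≠ 0)) (ZMod 2)) h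
    rw [map_add, map_one, CharTwo.add_self_eq_zero] at h2
    exact zero_ne_one h2
  -- the subgroup
  let s : Set Ω := {f 1 1, f q 0, b}
  set H := closure s with hH
  have hs1 : f 1 1 ∈ H := subset_closure (Or.inl rfl)
  have hs2 : f q 0 ∈ H := subset_closure (Or.inr (Or.inl rfl))
  have hs3 : b ∈ H := subset_closure (Or.inr (Or.inr rfl))
  have hHP : H ≤ P := by
    rw [hH, closure_le]
    rintro _ (rfl | rfl | rfl)
    exacts [hXP (fX _ _), hXP (fX _ _), hbP]
  set n : H := ⟨f 1 1 * f 1 1, mul_mem hs1 hs1⟩ with hn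
  have hnmem : ∀ z : H, z ∈ zpowers n → ∃ m, (z : Ω) = f (m + m) (m + m) := by
    intro z hz
    obtain ⟨l, rfl⟩ := mem_zpowers_iff.1 hz
    refine ⟨(l : ZMod (2 ^ (d + 2))), ?_⟩
    rw [Subgroup.coe_zpow]
    show (f 1 1 * f 1 1) ^ l = _
    clear hz
    induction l using Int.induction_on with
    | zero => simp [f0]
    | succ l ih => rw [zpow_add_one, ih, fmul, fmul]; push_cast; congr 1 <;> ring
    | pred l ih =>
      rw [zpow_sub_one, ih, mul_inv_eq_iff_eq_mul, fmul, fmul]
      push_cast; congr 1 <;> ring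
  have hcentral : n ∈ center H := by
    rw [mem_center_iff]
    intro z
    have hle : H ≤ centralizer ({(n : Ω)} : Set Ω) := by
      show closure s ≤ _
      rw [closure_le]
      rintro _ (rfl | rfl | rfl)
      · exact mem_centralizer_singleton_iff.2 (mul_assoc _ _ _).symm
      · exact mem_centralizer_singleton_iff.2 (by
          show _ * (f 1 1 * f 1 1) = (f 1 1 * f 1 1) * _
          rw [fmul, fmul, fmul, add_comm q, add_comm (0 : ZMod (2 ^ (d + 2)))])
      · refine mem_centralizer_singleton_iff.2 ?_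
        show b * (f 1 1 * f 1 1) = (f 1 1 * f 1 1) * b
        rw [fmul, ← mul_inv_eq_iff_eq_mul, bconj]
    exact Subtype.ext (mem_centralizer_singleton_iff.1 (hle z.2))
  haveI hN : (zpowers n).Normal := ⟨fun z hz v => by
    rw [mem_center_iff.1 (zpowers_le.2 hcentral hz) v, mul_inv_cancel_right]; exact hz⟩
  -- generators commute and square to one modulo `n`
  have hcomm : ∀ u v : H, u * v = v * u → (u : H ⧸ zpowers n) * v = (v : H ⧸ zpowers n) * u := fun u v h => by
    rw [← QuotientGroup.mk_mul, ← QuotientGroup.mk_mul, h]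
  have hqn : (⟨f q 0, hs2⟩ : H) * ⟨b, hs3⟩ * ((⟨b, hs3⟩ : H) * ⟨f q 0, hs2⟩)⁻¹ ∈ zpowers n := by
    refine mem_zpowers_iff.2 ⟨((2 ^ d : ℕ) : ℤ), Subtype.ext ?_⟩
    rw [zpow_natCast]
    show (f 1 1 * f 1 1) ^ 2 ^ d = f q 0 * b * (b * f q 0)⁻¹
    rw [show f q 0 * b * (b * f q 0)⁻¹ = f q 0 * (b * f q 0 * b⁻¹)⁻¹ by group, bconj]
    have hpow : ∀ l : ℕ, (f 1 1 * f 1 1) ^ l = f (l + l) (l + l) := by
      intro l
      induction l with
      | zero => simp [f0]
      | succ l ih => rw [pow_succ, ih, fmul, fmul]; push_cast; congr 1 <;> ring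
    rw [hpow, eq_mul_inv_iff_mul_eq, fmul, show ((2 ^ d : ℕ) : ZMod (2 ^ (d + 2))) + ((2 ^ d : ℕ) : ZMod (2 ^ (d + 2))) = q by
      rw [hq, ← Nat.cast_add, ← two_mul, ← pow_succ'], hqq, add_zero]
  have hsQ : ∀ u ∈ ((QuotientGroup.mk' (zpowers n)) '' (Subtype.val ⁻¹' s)), ∀ v ∈ ((QuotientGroup.mk' (zpowers n)) '' (Subtype.val ⁻¹' s)),
      u * v = v * u := by
    have h12 : (⟨f 1 1, hs1⟩ : H) * ⟨f q 0, hs2⟩ = ⟨f q 0, hs2⟩ * ⟨f 1 1, hs1⟩ := Subtype.ext (by
      show f 1 1 * f q 0 = f q 0 * f 1 1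
      rw [fmul, fmul, add_comm 1 q, add_comm 1 (0 : ZMod (2 ^ (d + 2)))])
    have h13 : (⟨f 1 1, hs1⟩ : H) * ⟨b, hs3⟩ = ⟨b, hs3⟩ * ⟨f 1 1, hs1⟩ := Subtype.ext (by
      show f 1 1 * b = b * f 1 1
      exact (mul_inv_eq_iff_eq_mul.1 (bconj 1 1)).symm)
    have h23 : ((⟨f q 0, hs2⟩ : H) : H ⧸ zpowers n) * ((⟨b, hs3⟩ : H) : H ⧸ zpowers n) =
        ((⟨b, hs3⟩ : H) : H ⧸ zpowers n) * ((⟨f q 0, hs2⟩ : H) : H ⧸ zpowers n) := by
      rw [← mul_inv_eq_one, ← QuotientGroup.mk_mul, ← QuotientGroup.mk_mul, ← QuotientGroup.mk_inv,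
        ← QuotientGroup.mk_mul, QuotientGroup.eq_one_iff]
      exact hqn
    rintro _ ⟨⟨u, hu⟩, hus, rfl⟩ _ ⟨⟨v, hv⟩, hvs, rfl⟩
    rcases hus with h | h | h <;> rcases hvs with h' | h' | h' <;> simp only at h h' <;> subst h <;> subst h'
    exacts [rfl, hcomm _ _ h12, hcomm _ _ h13, (hcomm _ _ h12).symm, rfl, h23, (hcomm _ _ h13).symm, h23.symm, rfl]
  have hgenQ : closure ((QuotientGroup.mk' (zpowers n)) '' (Subtype.val ⁻¹' s)) = ⊤ := by
    rw [← MonoidHom.map_closure, show closure (Subtype.val ⁻¹' s : Set H) = ⊤ from closure_closure_coe_preimage,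
      map_top_of_surjective _ (QuotientGroup.mk'_surjective _)]
  letI := Subgroup.closureCommGroupOfComm hsQ
  have hQc : ∀ u v : H ⧸ zpowers n, u * v = v * u := fun u v => congrArg Subtype.val
    (mul_comm (⟨u, hgenQ ▸ mem_top u⟩ : Subgroup.closure _) ⟨v, hgenQ ▸ mem_top v⟩)
  have hQ2 : ∀ u : H ⧸ zpowers n, u * u = 1 := by
    intro u
    have hu : u ∈ closure ((QuotientGroup.mk' (zpowers n)) '' (Subtype.val ⁻¹' s)) := hgenQ ▸ mem_top u
    induction hu using Subgroup.closure_induction with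
    | mem z hz =>
      obtain ⟨⟨w, hw⟩, hws, rfl⟩ := hz
      rw [← map_mul, QuotientGroup.mk'_apply, QuotientGroup.eq_one_iff]
      rcases hws with h | h | h <;> simp only at h <;> subst h
      · exact mem_zpowers n
      · rw [show (⟨f q 0, hw⟩ : H) * ⟨f q 0, hw⟩ = 1 from Subtype.ext (by
          show f q 0 * f q 0 = 1
          rw [fmul, hqq, add_zero, f0])]
        exact one_mem _
      · rw [show (⟨b, hw⟩ : H) * ⟨b, hw⟩ = 1 from Subtype.ext hb2]
        exact one_mem _
    | one => rw [one_mul]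
    | mul p r _ _ ihp ihr =>
      calc p * r * (p * r) = p * (r * p) * r := by group
        _ = (p * p) * (r * r) := by rw [hQc r p]; group
        _ = 1 := by rw [ihp, ihr, one_mul]
    | inv p _ ihp => rw [← mul_inv_rev, ihp, inv_one]
  haveI : Finite H := Finite.of_injective _ (Subgroup.inclusion_injective hHP)
  have h4 := card_le_four (isMetacyclic_of_surjective
    (Metacyclic.isMetacyclic_of_injective hm _ (Subgroup.inclusion_injective hHP))
    (QuotientGroup.mk'_surjective (zpowers n))) hQ2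
  let A : H ⧸ zpowers n := ((⟨f 1 1, hs1⟩ : H) : H ⧸ zpowers n)
  let B : H ⧸ zpowers n := ((⟨f q 0, hs2⟩ : H) : H ⧸ zpowers n)
  let C : H ⧸ zpowers n := ((⟨b, hs3⟩ : H) : H ⧸ zpowers n)
  have hnotX : ∀ z : H, (z : Ω) ∉ X → (z : H ⧸ zpowers n) ≠ 1 := fun z hz h => by
    obtain ⟨m, hm⟩ := hnmem z ((QuotientGroup.eq_one_iff z).1 h)
    exact hz (hm ▸ fX _ _)
  have hA : A ≠ 1 := fun h => by
    obtain ⟨m, hm⟩ := hnmem _ ((QuotientGroup.eq_one_iff _).1 h)
    exact hodd m (finj _ _ _ _ hm).1.symm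
  have hB : B ≠ 1 := fun h => by
    obtain ⟨m, hm⟩ := hnmem _ ((QuotientGroup.eq_one_iff _).1 h)
    obtain ⟨h1, h2⟩ := finj _ _ _ _ hm
    exact hq0 (h1.trans h2.symm)
  have hAB : A * B ≠ 1 := fun h => by
    obtain ⟨m, hm⟩ := hnmem _ ((QuotientGroup.eq_one_iff (_ * _)).1 h)
    change f 1 1 * f q 0 = _ at hm
    rw [fmul, add_zero] at hm
    exact hodd m (finj _ _ _ _ hm).2.symm
  have hC : C ≠ 1 := hnotX _ hbX
  have hCA : C * A ≠ 1 := hnotX (_ * _) fun h => hbX ((X.mul_mem_cancel_right (fX _ _)).1 h)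
  have hCB : C * B ≠ 1 := hnotX (_ * _) fun h => hbX ((X.mul_mem_cancel_right (fX _ _)).1 h)
  have hneq : ∀ U V : H ⧸ zpowers n, U * V ≠ 1 → U ≠ V := fun U V h e => h (by rw [e]; exact hQ2 V)
  refine five_false h4 1 A B C (C * B) ?_
  have n1 : A ≠ C * B := fun h => by
    have h2 : C = A * B := by rw [h, mul_assoc, hQ2, mul_one]
    have h3 : C * (A * B) = 1 := by rw [← h2]; exact hQ2 C
    exact hnotX (_ * (_ * _)) (fun h => hbX ((X.mul_mem_cancel_right (mul_mem (fX _ _) (fX _ _))).1 h)) h3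
  have n2 : B ≠ C * B := fun h => hC (right_eq_mul.1 h)
  have n3 : C ≠ C * B := fun h => hB (left_eq_mul.1 h)
  simp [Ne.symm hA, Ne.symm hB, Ne.symm hC, Ne.symm hCB, hneq _ _ hAB, (hneq _ _ hCA).symm, (hneq _ _ hCB).symm, n1, n2, n3]

end Cfsg.Agent.FusSys.MetaTwo
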