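import Cfsg.Agent.FusSys.TateCor
import Cfsg.Agent.Core.Frattini

/-!
Saturated systems over abelian groups; the criterion for the inner system with the Frattini
subgroup strongly closed.
-/

set_option autoImplicit false

namespace Cfsg.Agent.FusSys

open Cfsg Cfsg.FusionSystem

variable {Ω : Type*} [Group Ω] {S : Subgroup Ω} {F : FusionSystem S} {p : ℕ}

theorem nPhi_of_abelian (hab : ∀ x ∈ S, ∀ y ∈ S, x * y = y * x) {P : Subgroup Ω} {f : Ω → Ω}
    (hf : Mor F P f) : S ≤ nPhi S P f := by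
  intro g hg
  refine ⟨hg, Subgroup.mem_normalizer_iff.2 fun x => ⟨fun hx => ?_, fun hx => ?_⟩, 1, S.one_mem,
    fun x hx => ?_⟩
  · rw [hab g hg x (hf.le hx), mul_inv_cancel_right]; exact hx
  · have hxS := hf.le hx
    have h : x = g⁻¹ * (g * x * g⁻¹) * g := by group
    rw [hab g⁻¹ (S.inv_mem hg) _ hxS, inv_mul_cancel_right] at h
    exact h ▸ hx
  · rw [hab g hg x (hf.le hx), mul_inv_cancel_right, one_mul, inv_one, mul_one]

theorem exists_extend_abelian [Fact p.Prime] [Finite S] (hS : IsPGroup p S) (hF : F.IsSaturated p)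
    (hab : ∀ x ∈ S, ∀ y ∈ S, x * y = y * x) {P : Subgroup Ω} {f : Ω → Ω} (hf : Mor F P f) :
    ∃ α ∈ F.autGroup S, ∀ x ∈ P, apl α x = f x := by
  obtain ⟨Q, hQ⟩ := hf.exists_iso
  have hc : F.IsFullyCentralized Q := by
    refine ⟨hQ.right_le, fun R hR => ?_⟩
    have e : ∀ R ≤ S, centralizerIn S R = S := fun R hR =>
      inf_eq_left.2 fun s hs => Subgroup.mem_centralizer_iff.2 fun x hx => hab x (hR hx) s hs
    rw [e Q hQ.right_le, e R (isConj_le_right hR)]
  obtain ⟨g, hg, hgf⟩ := (isReceptive_iff.1 (receptive_of_fullyCentralized hS hF hc)).2 P f hQ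
  have hg' := hg.mono (nPhi_of_abelian hab hf)
  obtain ⟨I, hI⟩ := hg'.exists_iso
  have hIS : I = S := Subgroup.eq_of_le_of_card_ge hI.right_le hI.card_eq.le
  rw [hIS] at hI
  obtain ⟨α, hα, hαg⟩ := hI.exists_mem_autGroup
  exact ⟨α, hα, fun x hx => (hαg x (hQ.left_le hx)).trans (hgf x hx)⟩

theorem center_sup_focal_of_abelian [Fact p.Prime] [Finite S] (hS : IsPGroup p S)
    (hF : F.IsSaturated p) (hab : ∀ x ∈ S, ∀ y ∈ S, x * y = y * x) :
    F.center ⊔ F.focalSubgroup = S := by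
  classical
  refine le_antisymm (sup_le (isCentral_center (F := F)).1 (focal_le F)) fun x hx => ?_
  haveI : Finite (MulAut S) := Finite.of_injective _ MulEquiv.toEquiv_injective
  haveI := Fintype.ofFinite (F.autGroup S)
  letI : CommGroup S :=
    { (inferInstance : Group S) with mul_comm := fun a b => Subtype.ext (hab a a.2 b b.2) }
  let y : S := ∏ α : F.autGroup S, (α : MulAut S) ⟨x, hx⟩
  have hfix : ∀ β : F.autGroup S, (β : MulAut S) y = y := by
    intro β
    show (β : MulAut S) (∏ α : F.autGroup S, (α : MulAut S) ⟨x, hx⟩) = y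
    rw [map_prod]
    exact Equiv.prod_comp (Equiv.mulLeft β) fun α : F.autGroup S => (α : MulAut S) ⟨x, hx⟩
  have hyZ : (y : Ω) ∈ F.center := by
    have hc : F.IsCentral (Subgroup.zpowers (y : Ω)) := by
      rw [isCentral_iff_singleton hS hF]
      refine ⟨Subgroup.zpowers_le.2 y.2, fun a ha b hb => ?_⟩
      obtain ⟨φ, hφ, hφb⟩ := hb
      obtain ⟨α, hα, hαf⟩ := exists_extend_abelian hS hF hab (mor_extendFn hφ)
      have h1 := hαf a (Subgroup.mem_zpowers a)
      rw [extendFn_apply φ (Subgroup.mem_zpowers a), hφb] at h1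
      rw [← h1]
      obtain ⟨k, rfl⟩ := Subgroup.mem_zpowers_iff.1 ha
      have e : (y : Ω) ^ k = ((y ^ k : S) : Ω) := (SubgroupClass.coe_zpow y k).symm
      rw [e, apl_coe, map_zpow, hfix ⟨α, hα⟩]
    exact le_center hc (Subgroup.mem_zpowers _)
  have hdiv : x ^ Fintype.card (F.autGroup S) ∈ F.center ⊔ F.focalSubgroup := by
    have h1 : ((⟨x, hx⟩ : S)⁻¹ ^ Fintype.card (F.autGroup S) * y : S) ∈
        F.focalSubgroup.subgroupOf S := by
      show (⟨x, hx⟩ : S)⁻¹ ^ Fintype.card (F.autGroup S) *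
        ∏ α : F.autGroup S, (α : MulAut S) ⟨x, hx⟩ ∈ _
      rw [← Finset.card_univ, ← Finset.prod_const, ← Finset.prod_mul_distrib]
      refine Subgroup.prod_mem _ fun α _ => ?_
      rw [Subgroup.mem_subgroupOf, Subgroup.coe_mul, ← apl_coe]
      exact quot_mem_focal (iso_apl le_rfl α.2).1 hx
    have h2 := Subgroup.mul_mem (F.center ⊔ F.focalSubgroup) (Subgroup.mem_sup_left hyZ)
      (Subgroup.mem_sup_right (Subgroup.inv_mem _ (Subgroup.mem_subgroupOf.1 h1)))
    rw [← Subgroup.coe_inv, ← Subgroup.coe_mul, mul_inv, inv_pow, inv_inv, mul_left_comm,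
      mul_inv_cancel, mul_one, SubmonoidClass.coe_pow] at h2
    exact h2
  obtain ⟨-, T, hT⟩ := top_fullyAutomized hS hF
  have hSy : autInducedBy S S = ⊥ := by
    refine eq_bot_iff.2 fun α hα => ?_
    obtain ⟨g, hg, -, hgx⟩ := mem_autInducedBy_iff.1 hα
    rw [Subgroup.mem_bot]
    refine apl_ext fun z hz => ?_
    rw [hgx z hz, apl_one hz, hab g hg z hz, mul_inv_cancel_right]
  have hn : ¬ p ∣ Fintype.card (F.autGroup S) := by
    have h := T.not_dvd_index
    rwa [hT, hSy, Subgroup.bot_subgroupOf, Subgroup.index_bot, Nat.card_eq_fintype_card] at h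
  obtain ⟨a, ha⟩ := hS ⟨x, hx⟩
  have ha' : x ^ p ^ a = 1 := congrArg Subtype.val ha
  obtain ⟨k, hk⟩ := exists_mul_mod_eq_one_of_coprime' (n := Fintype.card (F.autGroup S))
    (p := p) (Fact.out) hn a
  have h3 := Subgroup.pow_mem _ hdiv k
  rwa [← pow_mul, pow_eq_self_of_mod ha' hk] at h3
where
  exists_mul_mod_eq_one_of_coprime' {n p : ℕ} (hp : p.Prime) (hn : ¬ p ∣ n) (a : ℕ) :
      ∃ k, n * k % p ^ a = 1 % p ^ a := by
    obtain ⟨j, hj1, hj0⟩ := Nat.chineseRemainder
      (Nat.Coprime.pow_left a (hp.coprime_iff_not_dvd.2 hn)) 1 0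
    obtain ⟨k, rfl⟩ := Nat.modEq_zero_iff_dvd.1 hj0
    exact ⟨k, hj1⟩

theorem eq_inner_iff_frattini [Fact p.Prime] [Finite S] (hS : IsPGroup p S) (hF : F.IsSaturated p)
    (htop : ∀ α ∈ F.autGroup S, α ∈ autInducedBy S S)
    (hΦ : F.StronglyClosed ((frattini S).map S.subtype)) : F = innerFusionSystem S := by
  classical
  refine eq_inner_of_hyperfocal_bot hS hF ?_
  have hfoc : F.focalSubgroup ≤ (frattini S).map S.subtype := by
    haveI : (((frattini S).map S.subtype).subgroupOf S).Normal := by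
      rw [subgroupOf_map_subtype_self']
      infer_instance
    have hker : ∀ s : S, QuotientGroup.mk' (((frattini S).map S.subtype).subgroupOf S) s = 1 ↔
        (s : Ω) ∈ (frattini S).map S.subtype := fun s => by
      rw [QuotientGroup.mk'_apply, QuotientGroup.eq_one_iff, Subgroup.mem_subgroupOf]
    obtain ⟨E, hE⟩ := exists_factorSystem hΦ hker (QuotientGroup.range_mk' _)
    have hEs := factor_saturated hS hF hE hΦ
    have hS' : IsPGroup p
        (⊤ : Subgroup (S ⧸ ((frattini S).map S.subtype).subgroupOf S)) :=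
      (hS.to_quotient _).to_subgroup ⊤
    have hab : ∀ x ∈ (⊤ : Subgroup (S ⧸ ((frattini S).map S.subtype).subgroupOf S)), ∀ y ∈
        (⊤ : Subgroup (S ⧸ ((frattini S).map S.subtype).subgroupOf S)), x * y = y * x := by
      intro a _ b _
      obtain ⟨x, rfl⟩ := QuotientGroup.mk'_surjective _ a
      obtain ⟨y, rfl⟩ := QuotientGroup.mk'_surjective _ b
      rw [← map_mul, ← map_mul]
      refine QuotientGroup.eq.2 ?_
      rw [subgroupOf_map_subtype_self']
      have e : (x * y)⁻¹ * (y * x) = y⁻¹ * x⁻¹ * y⁻¹⁻¹ * x⁻¹⁻¹ := by group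
      rw [e]
      haveI : Group.IsNilpotent S := hS.isNilpotent
      exact Cfsg.Agent.Core.commutator_le_frattini
        (Subgroup.commutator_mem_commutator (Subgroup.mem_top y⁻¹) (Subgroup.mem_top x⁻¹))
    have hmor := (isSurjectiveMorphism_of_factor hS hF hΦ hE).1
    refine (Subgroup.closure_le _).2 ?_
    rintro _ ⟨P, φ, x, hφ, rfl⟩
    have hP := (F.le_of_mem hφ).1
    have hv := (F.le_of_mem hφ).2 x
    obtain ⟨φ', hφ', hP1, hv', hm, heq⟩ := hmor.2 P φ hφ
    obtain ⟨β, hβ, hβf⟩ := exists_extend_abelian hS' hEs hab (mor_extendFn hφ')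
    obtain ⟨g, hg, hgβ⟩ := exists_iso_lift hE hΦ (iso_apl le_rfl hβ)
    have htoppre : preimageAlong (QuotientGroup.mk' (((frattini S).map S.subtype).subgroupOf S))
        (⊤ : Subgroup (S ⧸ ((frattini S).map S.subtype).subgroupOf S)) = S :=
      le_antisymm pre_le fun y hy => mem_pre.2 ⟨hy, Subgroup.mem_top _⟩
    rw [htoppre] at hg hgβ
    obtain ⟨α, hα, hαg⟩ := hg.exists_mem_autGroup
    obtain ⟨s, hs, -, hsx⟩ := mem_autInducedBy_iff.1 (htop α hα)
    have h1 := hgβ x (hP x.2)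
    rw [← hαg x (hP x.2), hsx x (hP x.2), thFn_conj hs (hP x.2), hab _ trivial _ trivial,
      inv_mul_cancel_left, thFn_apply (hP x.2)] at h1
    rw [hβf _ (hm x), extendFn_apply φ' (hm x), heq x] at h1
    have h2 := mem_of_theta_eq hker h1.symm
    exact h2
  have h1 : (frattini S).map S.subtype ⊔ F.focalSubgroup =
      (frattini S).map S.subtype ⊔ (innerFusionSystem S).focalSubgroup := by
    rw [sup_eq_left.2 hfoc, sup_eq_left.2 ((focal_mono (inner_le F)).trans hfoc)]
  rw [hyperfocal_eq_of_focal hS hF (inner_saturated hS hF) (inner_le F)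
    (focal_eq_of_elementary hS hF (inner_le F) h1)]
  refine (Subgroup.closure_eq_bot_iff).2 ?_
  rintro _ ⟨P, α, x, hP, hα, rfl⟩
  haveI := finite_of_le hP
  have hle : (innerFusionSystem S).autGroup P ≤ autInducedBy S P := fun β hβ => by
    have hi := iso_apl hP hβ
    obtain ⟨-, g, hg, hgx⟩ := mor_inner.1 hi.1
    refine mem_autInducedBy_iff.2 ⟨g, hg, ?_, hgx⟩
    refine Subgroup.mem_normalizer_iff.2 fun y => ⟨fun hy => hgx y hy ▸ apl_mem β hy, fun hy => ?_⟩
    obtain ⟨z, hz, hzy⟩ := hi.exists_eq hy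
    rw [hgx z hz] at hzy
    have : z = y := mul_left_cancel (mul_right_cancel hzy)
    exact this ▸ hz
  have hα1 : α = 1 := by
    have hbot : pResidual p ((innerFusionSystem S).autGroup P) ≤ ⊥ := by
      refine (Subgroup.closure_le _).2 fun γ hγ => ?_
      rw [SetLike.mem_coe, Subgroup.mem_bot]
      obtain ⟨e, he⟩ := ((isPGroup_autInducedBy hS).to_le hle) γ
      exact orderOf_eq_one_iff.1 (Nat.eq_one_of_dvd_coprimes (Nat.Coprime.pow_right e hγ)
        dvd_rfl (orderOf_dvd_of_pow_eq_one he))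
    exact Subgroup.mem_bot.1 (hbot hα)
  rw [Set.mem_singleton_iff, hα1, OneMemClass.coe_one, MulAut.one_apply, inv_mul_cancel]

end Cfsg.Agent.FusSys
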