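import Mathlib.GroupTheory.GroupAction.Quotient
import Mathlib.GroupTheory.QuotientGroup.Basic
import Mathlib.Algebra.Group.End
import Mathlib.GroupTheory.Index
import Mathlib.GroupTheory.OrderOfElement
import Mathlib.Algebra.Group.MinimalAxioms
import Mathlib.Algebra.BigOperators.Group.Finset.Basic
import Mathlib.Tactic.Group

/-!
The monomial group attached to a homomorphism `π : S →* A` with abelian kernel and a section of
`A ⧸ π.range`: it yields an extension of `A` by the kernel containing a copy of `S`, as soon as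
`S` lifts to the monomial group and the index of the range is invertible on the kernel.
-/

set_option autoImplicit false

namespace Cfsg.Agent.FusSys

universe u v

variable {S : Type u} [Group S] {A : Type v} [Group A] {π : S →* A} {t : A ⧸ π.range → A}

/-- The elements of the monomial group: `g` in `A` with a lift to `S` of each of its cocycle
values. -/
@[ext] structure Mono (π : S →* A) (t : A ⧸ π.range → A) where
  g : A
  s : A ⧸ π.range → S
  hs : ∀ q, π (s q) = (t (g • q))⁻¹ * g * t q

namespace Mono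

instance : Mul (Mono π t) where
  mul m n := ⟨m.g * n.g, fun q => m.s (n.g • q) * n.s q, fun q => by
    rw [map_mul, m.hs, n.hs, mul_smul]
    group⟩

instance : One (Mono π t) where
  one := ⟨1, fun _ => 1, fun q => by rw [map_one, one_smul]; group⟩

instance : Inv (Mono π t) where
  inv m := ⟨m.g⁻¹, fun q => (m.s (m.g⁻¹ • q))⁻¹, fun q => by
    rw [map_inv, m.hs, smul_inv_smul]
    group⟩

@[simp] theorem mul_g (m n : Mono π t) : (m * n).g = m.g * n.g := rfl
@[simp] theorem mul_s (m n : Mono π t) (q : A ⧸ π.range) :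
    (m * n).s q = m.s (n.g • q) * n.s q := rfl
@[simp] theorem one_g : (1 : Mono π t).g = 1 := rfl
@[simp] theorem one_s (q : A ⧸ π.range) : (1 : Mono π t).s q = 1 := rfl
@[simp] theorem inv_g (m : Mono π t) : m⁻¹.g = m.g⁻¹ := rfl
@[simp] theorem inv_s (m : Mono π t) (q : A ⧸ π.range) :
    m⁻¹.s q = (m.s (m.g⁻¹ • q))⁻¹ := rfl

instance : Group (Mono π t) :=
  Group.ofLeftAxioms
    (fun a b c => Mono.ext (mul_assoc a.g b.g c.g) (funext fun q => by
      simp [mul_assoc, mul_smul]))
    (fun a => Mono.ext (one_mul a.g) (funext fun q => by simp))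
    (fun a => Mono.ext (inv_mul_cancel a.g) (funext fun q => by simp))

/-- The projection to `A`. -/
def proj : Mono π t →* A where
  toFun := g
  map_one' := rfl
  map_mul' _ _ := rfl

@[simp] theorem proj_apply (m : Mono π t) : proj m = m.g := rfl

theorem proj_surjective (ht : ∀ q, (t q : A ⧸ π.range) = q) :
    Function.Surjective (proj : Mono π t → A) := fun g => by
  have h : ∀ q, (t (g • q))⁻¹ * g * t q ∈ π.range := fun q => by
    rw [mul_assoc, ← QuotientGroup.eq, ht]
    conv_lhs => rw [← ht q]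
    rfl
  choose s hs using h
  exact ⟨⟨g, s, hs⟩, rfl⟩

theorem s_mem_ker {m : Mono π t} (h : m ∈ (proj : Mono π t →* A).ker) (q : A ⧸ π.range) :
    m.s q ∈ π.ker := by
  rw [MonoidHom.mem_ker, m.hs, show m.g = 1 from h, one_smul]
  group

end Mono

open Mono in
/-- The extension of `A` by `π.ker` cut out of the monomial group. -/
theorem exists_monomial [Finite A] (ρ : A →* MulAut π.ker)
    (hρ : ∀ (x : S) (z : π.ker), ((ρ (π x) z : π.ker) : S) = x * z * x⁻¹)
    (ht : ∀ q, (t q : A ⧸ π.range) = q) (j : S →* Mono π t) (hj : ∀ x, (j x).g = π x)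
    (hjz : ∀ (z : π.ker) (q : A ⧸ π.range), (j z).s q = ((ρ (t q))⁻¹ z : π.ker))
    (hn : (Nat.card π.ker).Coprime π.range.index) :
    ∃ (G : Type max u v) (_ : Group G) (ν : Mono π t →* G) (pr : G →* A),
      Function.Surjective ν ∧ (∀ m, pr (ν m) = m.g) ∧ Function.Surjective pr ∧
      Function.Injective (ν.comp j) ∧ pr.ker = π.ker.map (ν.comp j) := by
  classical
  haveI : Fintype (A ⧸ π.range) := Fintype.ofFinite _
  have hcomm : ∀ z w : π.ker, z * w = w * z := fun z w => by
    have h := hρ (z : S) w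
    rw [MonoidHom.mem_ker.1 z.2, map_one, MulAut.one_apply] at h
    refine Subtype.ext ?_
    show (z : S) * w = w * z
    nth_rewrite 2 [h]
    rw [inv_mul_cancel_right]
  letI : CommGroup π.ker := { (inferInstance : Group π.ker) with mul_comm := hcomm }
  let μ : (proj : Mono π t →* A).ker →* π.ker :=
    { toFun := fun m => ∏ q, ρ (t q) ⟨(m : Mono π t).s q, s_mem_ker m.2 q⟩
      map_one' := Finset.prod_eq_one fun q _ => map_one _
      map_mul' := fun m n => by
        rw [← Finset.prod_mul_distrib]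
        refine Finset.prod_congr rfl fun q _ => ?_
        rw [← map_mul]
        congr 1
        refine Subtype.ext ?_
        show (m : Mono π t).s ((n : Mono π t).g • q) * (n : Mono π t).s q = _
        rw [show (n : Mono π t).g = 1 from n.2, one_smul]
        rfl }
  have hμ : ∀ (m : Mono π t) (n : (proj : Mono π t →* A).ker),
      μ ⟨m * n * m⁻¹, (inferInstance : (proj : Mono π t →* A).ker.Normal).conj_mem _ n.2 m⟩ =
        ρ m.g (μ n) := fun m n => by
    show ∏ q, _ = ρ m.g (∏ q, _)
    rw [map_prod]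
    refine (Fintype.prod_equiv (MulAction.toPerm m.g) _ _ fun q => ?_).symm
    show _ = ρ (t (m.g • q)) _
    have hn1 : (n : Mono π t).g = 1 := n.2
    have e : (⟨((m * n * m⁻¹ : Mono π t)).s (m.g • q), s_mem_ker
        ((inferInstance : (proj : Mono π t →* A).ker.Normal).conj_mem _ n.2 m) _⟩ : π.ker) =
        ρ (π (m.s q)) ⟨(n : Mono π t).s q, s_mem_ker n.2 q⟩ := by
      refine Subtype.ext ?_
      rw [hρ]
      simp [hn1]
    refine Eq.trans ?_ (congrArg (ρ (t (m.g • q))) e).symm
    rw [← MulAut.mul_apply, ← MulAut.mul_apply, ← map_mul, ← map_mul, m.hs]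
    congr 2
    group
  let N : Subgroup (Mono π t) := μ.ker.map (proj : Mono π t →* A).ker.subtype
  have hNmem : ∀ (m : Mono π t) (h : proj m = 1), μ ⟨m, h⟩ = 1 → m ∈ N := fun m h h1 =>
    ⟨⟨m, h⟩, h1, rfl⟩
  haveI hN : N.Normal := ⟨by
    rintro _ ⟨n, hn1, rfl⟩ m
    refine hNmem _ ((inferInstance : (proj : Mono π t →* A).ker.Normal).conj_mem _ n.2 m) ?_
    exact (hμ m n).trans (by rw [show μ n = 1 from hn1, map_one])⟩
  have hNle : N ≤ (proj : Mono π t →* A).ker := Subgroup.map_subtype_le _
  have hjμ : ∀ (z : π.ker) (h : proj (j z) = 1), μ ⟨j z, h⟩ = z ^ π.range.index := fun z h => by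
    show ∏ q, ρ (t q) _ = _
    rw [Subgroup.index, Nat.card_eq_fintype_card, ← Finset.card_univ, ← Finset.prod_const]
    refine Finset.prod_congr rfl fun q _ => ?_
    refine Eq.trans (congrArg (ρ (t q)) ?_) ((ρ (t q)).apply_symm_apply z)
    exact Subtype.ext (hjz z q)
  have hjker : ∀ z : π.ker, proj (j z) = 1 := fun z => (hj z).trans z.2
  refine ⟨Mono π t ⧸ N, inferInstance, QuotientGroup.mk' N,
    QuotientGroup.lift N proj hNle, QuotientGroup.mk'_surjective N,
    fun m => rfl, fun a => ?_, ?_, ?_⟩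
  · obtain ⟨m, hm⟩ := proj_surjective ht a
    exact ⟨QuotientGroup.mk' N m, hm⟩
  · rw [injective_iff_map_eq_one]
    intro x hx
    obtain ⟨n, hn1, hn2⟩ := (QuotientGroup.eq_one_iff _).1 hx
    have hxk : x ∈ π.ker := by
      rw [MonoidHom.mem_ker, ← hj x, ← hn2]
      exact n.2
    have e := hjμ ⟨x, hxk⟩ (hjker ⟨x, hxk⟩)
    have e2 : n = ⟨j x, hjker ⟨x, hxk⟩⟩ := Subtype.ext hn2
    rw [← e2, show μ n = 1 from hn1] at e
    have h3 := (powCoprime hn).injective (a₁ := ⟨x, hxk⟩) (a₂ := 1)
      (show (⟨x, hxk⟩ : π.ker) ^ π.range.index = 1 ^ π.range.index by rw [← e, one_pow])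
    exact congrArg Subtype.val h3
  · refine le_antisymm (fun x hx => ?_) ?_
    · obtain ⟨m, rfl⟩ := QuotientGroup.mk'_surjective N x
      have hm : proj m = 1 := hx
      obtain ⟨z, hz⟩ := (powCoprime hn).surjective (μ ⟨m, hm⟩)
      refine ⟨z, z.2, ?_⟩
      show ((j z : Mono π t) : Mono π t ⧸ N) = (m : Mono π t ⧸ N)
      rw [QuotientGroup.eq]
      refine hNmem _ (show proj ((j z)⁻¹ * m) = 1 by rw [map_mul, map_inv, hjker z, hm]; simp) ?_
      have h5 := map_mul μ (⟨j z, hjker z⟩ : (proj : Mono π t →* A).ker)⁻¹ ⟨m, hm⟩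
      refine h5.trans ?_
      rw [map_inv, hjμ, ← hz]
      exact inv_mul_cancel (z ^ π.range.index)
    · rintro _ ⟨z, hz, rfl⟩
      exact (hj z).trans hz

end Cfsg.Agent.FusSys
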