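import Cfsg.Agent.FusSys.KNorm
import Cfsg.Agent.FusSys.Monomial
import Cfsg.Agent.Core.PCore

/-!
Existence of models of constrained fusion systems.
-/

set_option autoImplicit false

namespace Cfsg.Agent.FusSys

open Cfsg Cfsg.FusionSystem

universe u

/-- Orbit representatives for a subgroup acting through a homomorphism. -/
theorem exists_orbit_base {S A X : Type*} [Group S] [Group A] [MulAction A X] (π : S →* A)
    (R : Subgroup S) :
    ∃ (c : X → X) (τ : X → S), (∀ x, τ x ∈ R) ∧ (∀ x, π (τ x) • c x = x) ∧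
      ∀ u ∈ R, ∀ x, c (π u • x) = c x := by
  let c : X → X := fun x =>
    (Quotient.mk (MulAction.orbitRel (R.map π) X) x).out
  have h : ∀ x, ∃ τ ∈ R, π τ • c x = x := fun x => by
    have h1 : (MulAction.orbitRel (R.map π) X).r (c x) x :=
      Quotient.exact (Quotient.out_eq _)
    obtain ⟨⟨_, w, hw, rfl⟩, hwx⟩ := MulAction.orbitRel_apply.1 h1
    refine ⟨w⁻¹, R.inv_mem hw, ?_⟩
    rw [← hwx, map_inv]
    exact inv_smul_smul (π w) x
  choose τ hτR hτ using h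
  refine ⟨c, τ, hτR, hτ, fun w hw x => ?_⟩
  show Quotient.out _ = Quotient.out _
  congr 1
  exact Quotient.sound (MulAction.orbitRel_apply.2 ⟨⟨π w, w, hw, rfl⟩, rfl⟩)

variable {Ω : Type u} [Group Ω] {S : Subgroup Ω} {F : FusionSystem S} {p : ℕ} {Q : Subgroup Ω}

/-- The conjugation action of `S` on a normal subgroup, as a homomorphism into `Aut_F(Q)`. -/
noncomputable def toAut (F : FusionSystem S) (hQS : Q ≤ S)
    (hSN : S ≤ Subgroup.normalizer (Q : Set Ω)) : S →* F.autGroup Q :=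
  (Q.normalizerMonoidHom.comp (Subgroup.inclusion hSN)).codRestrict (F.autGroup Q) fun s => by
    refine autInducedBy_le_autGroup hQS ?_
    rw [autInducedBy_eq_map]
    exact ⟨Subgroup.inclusion hSN s, s.2, rfl⟩

variable {hQS : Q ≤ S} {hSN : S ≤ Subgroup.normalizer (Q : Set Ω)}

theorem apl_toAut (s : S) {x : Ω} (hx : x ∈ Q) :
    apl (toAut F hQS hSN s : MulAut Q) x = s * x * (s : Ω)⁻¹ :=
  apl_normalizerMonoidHom (Subgroup.inclusion hSN s) hx

theorem toAut_range :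
    (toAut F hQS hSN).range = (autInducedBy S Q).subgroupOf (F.autGroup Q) := by
  ext α
  rw [Subgroup.mem_subgroupOf, mem_autInducedBy_iff]
  constructor
  · rintro ⟨s, rfl⟩
    exact ⟨s, s.2, hSN s.2, fun x hx => apl_toAut s hx⟩
  · rintro ⟨g, hg, -, hgx⟩
    exact ⟨⟨g, hg⟩, Subtype.ext (apl_ext fun x hx =>
      (apl_toAut (F := F) (hQS := hQS) (hSN := hSN) ⟨g, hg⟩ hx).trans (hgx x hx).symm)⟩

theorem toAut_ker_le (hQc : F.IsCentric Q) {z : S} (hz : z ∈ (toAut F hQS hSN).ker) :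
    (z : Ω) ∈ Q := by
  refine centric_self hQc ⟨z.2, Subgroup.mem_centralizer_iff.2 fun x hx => ?_⟩
  have h := apl_toAut (F := F) (hQS := hQS) (hSN := hSN) z hx
  rw [show toAut F hQS hSN z = 1 from hz, Subgroup.coe_one, apl_one hx] at h
  nth_rewrite 1 [h]
  rw [inv_mul_cancel_right]

theorem mul_toAut (g : F.autGroup Q) {u : S} (hu : (u : Ω) ∈ Q) :
    g * toAut F hQS hSN u =
      toAut F hQS hSN ⟨apl (g : MulAut Q) u, hQS (apl_mem _ hu)⟩ * g := by
  refine Subtype.ext (apl_ext fun x hx => ?_)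
  have hm := (iso_apl (F := F) hQS g.2).1
  rw [Subgroup.coe_mul, Subgroup.coe_mul, apl_mul _ _ hx, apl_mul _ _ hx, apl_toAut _ hx,
    apl_toAut _ (apl_mem _ hx), hm.map_conj hu hx]

theorem toAut_ker_apl (hQc : F.IsCentric Q) (a : F.autGroup Q) {z : S}
    (hz : z ∈ (toAut F hQS hSN).ker) :
    (⟨apl (a : MulAut Q) z, hQS (apl_mem _ (toAut_ker_le hQc hz))⟩ : S) ∈
      (toAut F hQS hSN).ker := by
  have h := mul_toAut (hQS := hQS) (hSN := hSN) a (toAut_ker_le hQc hz)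
  rw [show toAut F hQS hSN z = 1 from hz, mul_one] at h
  exact mul_eq_right.1 h.symm

/-- The action of `Aut_F(Q)` on the kernel `C_S(Q) = Z(Q)`. -/
noncomputable def kerAct (F : FusionSystem S) (hQS : Q ≤ S)
    (hSN : S ≤ Subgroup.normalizer (Q : Set Ω)) (hQc : F.IsCentric Q) :
    F.autGroup Q →* MulAut (toAut F hQS hSN).ker where
  toFun a :=
    { toFun := fun z => ⟨_, toAut_ker_apl hQc a z.2⟩
      invFun := fun z => ⟨_, toAut_ker_apl hQc a⁻¹ z.2⟩
      left_inv := fun z => Subtype.ext (Subtype.ext (apl_inv_apl _ (toAut_ker_le hQc z.2)))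
      right_inv := fun z => Subtype.ext (Subtype.ext (apl_apl_inv _ (toAut_ker_le hQc z.2)))
      map_mul' := fun z w => Subtype.ext (Subtype.ext
        ((iso_apl (F := F) hQS a.2).1.map_mul (toAut_ker_le hQc z.2) (toAut_ker_le hQc w.2))) }
  map_one' := MulEquiv.ext fun z => Subtype.ext (Subtype.ext (apl_one (toAut_ker_le hQc z.2)))
  map_mul' a b := MulEquiv.ext fun z =>
    Subtype.ext (Subtype.ext (apl_mul (a : MulAut Q) b (toAut_ker_le hQc z.2)))

theorem kerAct_coe (hQc : F.IsCentric Q) (a : F.autGroup Q) (z : (toAut F hQS hSN).ker) :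
    (((kerAct F hQS hSN hQc a z : (toAut F hQS hSN).ker) : S) : Ω) = apl (a : MulAut Q) z := rfl

/-- The choices from which the monomial group of a constrained system is built: orbit
representatives of `S` on `Aut_F(Q) ⧸ Aut_S(Q)` and extensions of automorphisms of `Q`. -/
structure GlueData (F : FusionSystem S) (hQS : Q ≤ S)
    (hSN : S ≤ Subgroup.normalizer (Q : Set Ω)) where
  /-- The representative of an orbit. -/
  b : F.autGroup Q ⧸ (toAut F hQS hSN).range → F.autGroup Q ⧸ (toAut F hQS hSN).range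
  /-- An element moving the representative to a point. -/
  σ : F.autGroup Q ⧸ (toAut F hQS hSN).range → S
  /-- The extension of the inverse of an automorphism. -/
  k : F.autGroup Q → Ω → Ω
  hσ : ∀ q, toAut F hQS hSN (σ q) • b q = q
  hb : ∀ (u : S) q, b (toAut F hQS hSN u • q) = b q
  hk : ∀ a, Mor F (nPhi S Q (apl ((a⁻¹ : F.autGroup Q) : MulAut Q))) (k a)
  hkQ : ∀ a, ∀ x ∈ Q, k a x = apl ((a⁻¹ : F.autGroup Q) : MulAut Q) x

theorem exists_glueData [Fact p.Prime] [Finite S] (hS : IsPGroup p S) (hF : F.IsSaturated p)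
    (hQc : F.IsCentric Q) (hQS : Q ≤ S) (hSN : S ≤ Subgroup.normalizer (Q : Set Ω)) :
    Nonempty (GlueData F hQS hSN) := by
  have hrec := isReceptive_iff.1 (centric_receptive hS hF hQc)
  have hext : ∀ a : F.autGroup Q, ∃ k, Mor F (nPhi S Q (apl ((a⁻¹ : F.autGroup Q) : MulAut Q))) k ∧
      ∀ x ∈ Q, k x = apl ((a⁻¹ : F.autGroup Q) : MulAut Q) x := fun a =>
    hrec.2 Q _ (iso_apl hQS (a⁻¹).2)
  choose k hk hkQ using hext
  obtain ⟨b, σ, -, hσ, hb⟩ :=
    exists_orbit_base (X := F.autGroup Q ⧸ (toAut F hQS hSN).range) (toAut F hQS hSN) ⊤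
  exact ⟨⟨b, σ, k, hσ, fun u => hb u (Subgroup.mem_top u), hk, hkQ⟩⟩

namespace GlueData

variable (D : GlueData F hQS hSN)

local notation "π" => toAut F hQS hSN

/-- The representative in `Aut_F(Q)`. -/
noncomputable def a (q : F.autGroup Q ⧸ (toAut F hQS hSN).range) : F.autGroup Q := (D.b q).out

theorem haq (q) : (D.a q : F.autGroup Q ⧸ (toAut F hQS hSN).range) = D.b q :=
  QuotientGroup.out_eq' _

/-- The section. -/
noncomputable def t (q : F.autGroup Q ⧸ (toAut F hQS hSN).range) : F.autGroup Q :=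
  toAut F hQS hSN (D.σ q) * D.a q

theorem ht (q) : (D.t q : F.autGroup Q ⧸ (toAut F hQS hSN).range) = q := by
  show toAut F hQS hSN (D.σ q) • (D.a q : F.autGroup Q ⧸ (toAut F hQS hSN).range) = q
  rw [haq, D.hσ]

theorem hD (q : F.autGroup Q ⧸ (toAut F hQS hSN).range) (w : S) (hw : π w • D.b q = D.b q) :
    ∃ hm : (w : Ω) ∈ nPhi S Q (apl ((D.a q)⁻¹ : F.autGroup Q).1),
      π ⟨D.k (D.a q) w, (D.hk (D.a q)).mem_S hm⟩ = (D.a q)⁻¹ * π w * D.a q := by
  rw [← D.haq, MulAction.Quotient.smul_coe, QuotientGroup.eq] at hw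
  have h1 := Subgroup.inv_mem _ hw
  obtain ⟨h, hh⟩ := h1
  have hh' : π h = (D.a q)⁻¹ * π w * D.a q := by
    rw [hh, smul_eq_mul]
    group
  have hm : (w : Ω) ∈ nPhi S Q (apl ((D.a q)⁻¹ : F.autGroup Q).1) := by
    refine mem_nPhi.2 ⟨w.2, hSN w.2, h, h.2, fun x hx => ?_⟩
    have e : ((D.a q)⁻¹ : F.autGroup Q) * π w = π h * (D.a q)⁻¹ := by rw [hh']; group
    have e' := congrArg (fun α : F.autGroup Q => apl (α : MulAut Q) x) e
    simp only [Subgroup.coe_mul, apl_mul _ _ hx] at e'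
    rw [apl_toAut _ hx, apl_toAut _ (apl_mem _ hx)] at e'
    exact e'
  refine ⟨hm, ?_⟩
  have hmor := D.hk (D.a q)
  suffices π ⟨D.k (D.a q) w, hmor.mem_S hm⟩ * (D.a q)⁻¹ = (D.a q)⁻¹ * π w by
    rw [← this]; group
  refine Subtype.ext (apl_ext fun x hx => ?_)
  have hxm : x ∈ nPhi S Q (apl ((D.a q)⁻¹ : F.autGroup Q).1) :=
    (iso_apl (F := F) hQS ((D.a q)⁻¹ : F.autGroup Q).2).1.le_nPhi hx
  rw [Subgroup.coe_mul, Subgroup.coe_mul, apl_mul _ _ hx, apl_mul _ _ hx, apl_toAut _ hx,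
    apl_toAut _ (apl_mem _ hx), ← D.hkQ (D.a q) x hx, ← hmor.map_conj hm hxm,
    D.hkQ (D.a q) _ ((Subgroup.mem_normalizer_iff.1 (hSN w.2) x).1 hx)]

theorem hw (u : S) (q) : π ((D.σ (π u • q))⁻¹ * u * D.σ q) • D.b q = D.b q := by
  rw [map_mul, map_mul, map_inv, mul_smul, mul_smul, D.hσ, inv_smul_eq_iff]
  conv_rhs => rw [← D.hb u q]
  rw [D.hσ]

/-- The cocycle. -/
noncomputable def s (u : S) (q : F.autGroup Q ⧸ (toAut F hQS hSN).range) : S :=
  ⟨D.k (D.a q) (((D.σ (toAut F hQS hSN u • q))⁻¹ * u * D.σ q : S) : Ω),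
    (D.hk (D.a q)).mem_S (D.hD q _ (D.hw u q)).choose⟩

theorem hsπ (u : S) (q) : π (D.s u q) = (D.t (π u • q))⁻¹ * π u * D.t q := by
  refine (D.hD q _ (D.hw u q)).choose_spec.trans ?_
  show _ = (π (D.σ (π u • q)) * (D.b (π u • q)).out)⁻¹ * π u * (π (D.σ q) * (D.b q).out)
  rw [D.hb u q, map_mul, map_mul, map_inv]
  show ((D.b q).out)⁻¹ * _ * (D.b q).out = _
  group

theorem hsmul (u v : S) (q) : D.s (u * v) q = D.s u (π v • q) * D.s v q := by
  refine Subtype.ext ?_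
  show D.k (D.a q) _ = D.k (D.b (π v • q)).out _ * D.k (D.a q) _
  have h1 := (D.hD (π v • q) _ (D.hw u (π v • q))).choose
  simp only [GlueData.a] at h1 ⊢
  rw [D.hb] at h1 ⊢
  rw [← (D.hk _).map_mul h1 (D.hD q _ (D.hw v q)).choose, ← Subgroup.coe_mul]
  congr 2
  rw [map_mul, mul_smul]
  group

/-- The lift of `S` to the monomial group. -/
noncomputable def j : S →* Mono (toAut F hQS hSN) D.t :=
  MonoidHom.mk' (fun u => ⟨toAut F hQS hSN u, D.s u, D.hsπ u⟩) fun u v =>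
    Mono.ext (map_mul _ u v) (funext fun q => D.hsmul u v q)

omit D in
theorem hQfix (u : S) (hu : (u : Ω) ∈ Q) (q : F.autGroup Q ⧸ (toAut F hQS hSN).range) :
    π u • q = q := by
  obtain ⟨g, rfl⟩ := QuotientGroup.mk_surjective q
  rw [MulAction.Quotient.smul_coe, QuotientGroup.eq]
  refine ⟨⟨apl ((g⁻¹ : F.autGroup Q) : MulAut Q) ((u⁻¹ : S) : Ω),
    hQS (apl_mem _ (Q.inv_mem hu))⟩, ?_⟩
  have h := mul_toAut (hQS := hQS) (hSN := hSN) (g⁻¹) (u := u⁻¹) (Q.inv_mem hu)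
  rw [map_inv] at h
  rw [← mul_inv_cancel_right (π ⟨_, _⟩) g⁻¹, ← h, smul_eq_mul]
  group

theorem hsQ (u : S) (hu : (u : Ω) ∈ Q) (q) :
    (D.s u q : Ω) = apl (((D.t q)⁻¹ : F.autGroup Q) : MulAut Q) u := by
  show D.k (D.a q) _ = _
  rw [GlueData.hQfix u hu q]
  have e : (((D.σ q)⁻¹ * u * D.σ q : S) : Ω) = apl ((π (D.σ q)⁻¹ : F.autGroup Q) : MulAut Q) u := by
    rw [apl_toAut _ hu]
    simp
  rw [e, D.hkQ _ _ (apl_mem _ hu), ← apl_mul _ _ hu, ← Subgroup.coe_mul, map_inv]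
  show _ = apl (((π (D.σ q) * D.a q)⁻¹ : F.autGroup Q) : MulAut Q) u
  rw [mul_inv_rev]

end GlueData

/-- The model built from glueing data: the quotient of the monomial group. -/
theorem exists_model_of_glueData [Fact p.Prime] [Finite S] (hS : IsPGroup p S)
    (hF : F.IsSaturated p) (hQn : F.IsNormal Q) (hQc : F.IsCentric Q)
    (D : GlueData F hQS hSN) :
    ∃ (G : Type u) (_ : Group G) (ν : Mono (toAut F hQS hSN) D.t →* G) (pr : G →* F.autGroup Q),
      F.IsModel p G (ν.comp D.j) ∧ (((Q.subgroupOf S).map (ν.comp D.j))).Normal ∧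
      (∀ m, pr (ν m) = m.g) ∧ Function.Surjective pr ∧
      pr.ker = (toAut F hQS hSN).ker.map (ν.comp D.j) := by
  classical
  haveI : Finite (normalizerIn S Q) := finite_of_le inf_le_left
  have hQfn : F.IsFullyNormalized Q := ⟨hQS, fun R _ =>
    Nat.card_le_card_of_injective _ (Subgroup.inclusion_injective
      (le_inf inf_le_left (inf_le_left.trans hSN) :
        normalizerIn S R ≤ normalizerIn S Q))⟩
  haveI := finite_of_le hQS
  haveI : Finite (MulAut Q) := Finite.of_injective _ MulEquiv.toEquiv_injective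
  set π := toAut F hQS hSN with hπdef
  have hrec := isReceptive_iff.1 (centric_receptive hS hF hQc)
  have hQfix : ∀ (u : S), (u : Ω) ∈ Q → ∀ q : F.autGroup Q ⧸ π.range, π u • q = q :=
    GlueData.hQfix (F := F) (hQS := hQS) (hSN := hSN)
  have hsQ := D.hsQ
  have hsπ : ∀ u q, π (D.s u q) = (D.t (π u • q))⁻¹ * π u * D.t q := D.hsπ
  have hsmul : ∀ (u v : S) q, D.s (u * v) q = D.s u (π v • q) * D.s v q := D.hsmul
  have hjz : ∀ (z : π.ker) q, (D.j z).s q = ((kerAct F hQS hSN hQc (D.t q))⁻¹ z : π.ker) :=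
    fun z q => by
      refine Subtype.ext ?_
      rw [← map_inv, kerAct_coe]
      exact hsQ z (toAut_ker_le hQc z.2) q
  have hρ : ∀ (x : S) (z : π.ker),
      ((kerAct F hQS hSN hQc (π x) z : π.ker) : S) = x * z * x⁻¹ := fun x z => by
    refine Subtype.ext ?_
    rw [kerAct_coe, apl_toAut _ (toAut_ker_le hQc z.2)]
    simp
  have hn : (Nat.card π.ker).Coprime π.range.index := by
    obtain ⟨-, T, hT⟩ := fullyAutomized_of_fullyNormalized hS hF hQfn
    obtain ⟨e, he⟩ := IsPGroup.iff_card.1 (hS.to_subgroup π.ker)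
    rw [he, toAut_range, ← hT]
    exact Nat.Coprime.pow_left _ ((Fact.out : p.Prime).coprime_iff_not_dvd.2 T.not_dvd_index)
  obtain ⟨G, hGgrp, ν, pr, hν, hpr, hprsurj, hinj, hker⟩ :=
    exists_monomial (kerAct F hQS hSN hQc) hρ D.ht D.j (fun _ => rfl) hjz hn
  set ι := ν.comp D.j with hι
  have hprι : ∀ x, pr (ι x) = π x := fun x => hpr (D.j x)
  -- conjugation on the image of `Q`
  have hconj : ∀ (g : G) (u : S) (hu : (u : Ω) ∈ Q),
      g * ι u * g⁻¹ = ι ⟨apl (pr g : MulAut Q) u, hQS (apl_mem _ hu)⟩ := by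
    intro g u hu
    obtain ⟨m, rfl⟩ := hν g
    rw [mul_inv_eq_iff_eq_mul, hpr]
    show ν m * ν (D.j u) = ν (D.j _) * ν m
    rw [← map_mul, ← map_mul]
    congr 1
    refine Mono.ext (mul_toAut m.g hu) (funext fun q => Subtype.ext ?_)
    show ((m.s (π u • q) * D.s u q : S) : Ω) = ((D.s _ (m.g • q) * m.s q : S) : Ω)
    rw [hQfix u hu, Subgroup.coe_mul, Subgroup.coe_mul, hsQ u hu,
      hsQ _ (apl_mem _ hu), ← mul_inv_eq_iff_eq_mul]
    have h1 := apl_toAut (F := F) (hQS := hQS) (hSN := hSN) (m.s q)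
      (apl_mem (((D.t q)⁻¹ : F.autGroup Q) : MulAut Q) hu)
    rw [show toAut F hQS hSN (m.s q) = _ from m.hs q] at h1
    rw [← h1, ← apl_mul _ _ hu, ← Subgroup.coe_mul, mul_inv_cancel_right, Subgroup.coe_mul,
      apl_mul _ _ hu]
  -- lifting maps of the system
  have hlift : ∀ (R : Subgroup Ω) (f : Ω → Ω) (β : F.autGroup Q) (hf : Mor F R f), Q ≤ R →
      (∀ x ∈ Q, f x = apl (β : MulAut Q) x) →
      ∃ g : G, pr g = β ∧ ∀ (u : S) (hu : (u : Ω) ∈ R),
        g * ι u * g⁻¹ = ι ⟨f u, hf.mem_S hu⟩ := by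
    intro R f β hf hQR hfQ
    have hfπ : ∀ (u : S) (hu : (u : Ω) ∈ R), π ⟨f u, hf.mem_S hu⟩ * β = β * π u := by
      intro u hu
      refine Subtype.ext (apl_ext fun x hx => ?_)
      rw [Subgroup.coe_mul, Subgroup.coe_mul, apl_mul _ _ hx, apl_mul _ _ hx, apl_toAut _ hx,
        apl_toAut _ (apl_mem _ hx), ← hfQ x hx, ← hf.map_conj hu (hQR hx),
        hfQ _ ((Subgroup.mem_normalizer_iff.1 (hSN u.2) x).1 hx)]
    have hfq : ∀ (u : S) (hu : (u : Ω) ∈ R) (q : F.autGroup Q ⧸ π.range),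
        π ⟨f u, hf.mem_S hu⟩ • β • q = β • π u • q := fun u hu q => by
      rw [← mul_smul, hfπ u hu, mul_smul]
    have hfmul : ∀ (u v : S) (hu : (u : Ω) ∈ R) (hv : (v : Ω) ∈ R),
        (⟨f ((u * v : S) : Ω), hf.mem_S (R.mul_mem hu hv)⟩ : S) =
          ⟨f u, hf.mem_S hu⟩ * ⟨f v, hf.mem_S hv⟩ := fun u v hu hv =>
      Subtype.ext (hf.map_mul hu hv)
    have hfix : ∀ q : F.autGroup Q ⧸ π.range, ∃ r : S, π r = (D.t (β • q))⁻¹ * β * D.t q ∧
        ∀ (u : S) (hu : (u : Ω) ∈ R), π u • q = q →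
          D.s ⟨f u, hf.mem_S hu⟩ (β • q) * r = r * D.s u q := by
      intro q
      obtain ⟨r₀, hr₀⟩ : (D.t (β • q))⁻¹ * β * D.t q ∈ π.range := by
        rw [mul_assoc, ← QuotientGroup.eq, D.ht]
        conv_lhs => rw [← D.ht q]
        rfl
      let K : Subgroup Ω :=
        ((MulAction.stabilizer (F.autGroup Q) q).comap π).map S.subtype ⊓ R
      have hK : ∀ x ∈ K, ∃ h : x ∈ S, π ⟨x, h⟩ • q = q ∧ x ∈ R := by
        rintro x ⟨⟨u, hu, rfl⟩, hxR⟩
        exact ⟨u.2, hu, hxR⟩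
      have hKS : K ≤ S := fun x hx => (hK x hx).1
      have hQK : Q ≤ K := fun x hx =>
        ⟨⟨⟨x, hQS hx⟩, hQfix ⟨x, hQS hx⟩ hx q, rfl⟩, hQR hx⟩
      let f1 : Ω → Ω := fun x => D.k (D.a q) ((D.σ q : Ω)⁻¹ * x * D.σ q)
      let f2 : Ω → Ω := fun x => D.k (D.a (β • q)) ((D.σ (β • q) : Ω)⁻¹ * f x * D.σ (β • q))
      have hf1 : ∀ (x : S), (x : Ω) ∈ K → f1 x = (D.s x q : Ω) := fun x hx => by
        obtain ⟨_, h2, -⟩ := hK x hx
        show _ = D.k (D.a q) _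
        rw [show π x • q = q from h2]
        rfl
      have hf2 : ∀ (x : S) (hx : (x : Ω) ∈ K),
          f2 x = (D.s ⟨f x, hf.mem_S hx.2⟩ (β • q) : Ω) := fun x hx => by
        obtain ⟨_, h2, -⟩ := hK x hx
        show _ = D.k (D.a (β • q)) _
        rw [hfq x hx.2, show π x • q = q from h2]
        rfl
      have hm1 : Mor F K f1 := by
        refine ((mor_conj hKS (S.inv_mem (D.σ q).2)).comp (D.hk (D.a q)) fun x hx => ?_).congr
          fun x _ => by simp [f1]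
        obtain ⟨hxS, h2, -⟩ := hK x hx
        have := (D.hD q _ (D.hw ⟨x, hxS⟩ q)).choose
        rw [h2] at this
        simpa using this
      have hm2 : Mor F K f2 := by
        refine ((((hf.mono inf_le_right).comp (mor_conj le_rfl (S.inv_mem (D.σ (β • q)).2))
          fun x hx => hf.mem_S hx.2).comp (D.hk (D.a (β • q)))) fun x hx => ?_).congr
          fun x _ => by simp [f2]
        obtain ⟨hxS, h2, hxR⟩ := hK x hx
        have := (D.hD (β • q) _ (D.hw ⟨f x, hf.mem_S hxR⟩ (β • q))).choose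
        rw [hfq ⟨x, hxS⟩ hxR, h2] at this
        simpa using this
      obtain ⟨z, hz, hzy⟩ := eq_on_centric hS hF hQK hQc (hm1.conjComp r₀.2) hm2 fun x hx => by
        have hxS := hQS hx
        rw [hf1 ⟨x, hxS⟩ (hQK hx), hf2 ⟨x, hxS⟩ (hQK hx), hsQ ⟨x, hxS⟩ hx,
          hsQ _ (show f x ∈ Q by rw [hfQ x hx]; exact apl_mem _ hx)]
        have h1 := apl_toAut (F := F) (hQS := hQS) (hSN := hSN) r₀
          (apl_mem (((D.t q)⁻¹ : F.autGroup Q) : MulAut Q) hx)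
        rw [show toAut F hQS hSN r₀ = _ from hr₀, ← apl_mul _ _ hx, ← Subgroup.coe_mul, mul_inv_cancel_right,
          Subgroup.coe_mul, apl_mul _ _ hx] at h1
        show _ = apl (((D.t (β • q))⁻¹ : F.autGroup Q) : MulAut Q) (f x)
        rw [hfQ x hx, h1]
      have hzQ : z ∈ Q := centric_self hQc hz
      have hzker : π ⟨z, hz.1⟩ = 1 := Subtype.ext (apl_ext fun x hx => by
        rw [apl_toAut _ hx, Subgroup.coe_one, apl_one hx,
          ← Subgroup.mem_centralizer_iff.1 hz.2 x hx, mul_inv_cancel_right])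
      refine ⟨r₀ * D.s ⟨z, hz.1⟩ q, ?_, fun v hv hvq => ?_⟩
      · rw [map_mul, hr₀, hsπ, hzker, one_smul]
        group
      · have hvK : (v : Ω) ∈ K := ⟨⟨v, hvq, rfl⟩, hv⟩
        have h1 := hzy v hvK
        rw [hf2 v hvK] at h1
        rw [hm1.map_conj (hQK hzQ) hvK, hf1 v hvK,
          show f1 z = _ from hf1 ⟨z, hz.1⟩ (hQK hzQ)] at h1
        refine Subtype.ext ?_
        simp only [Subgroup.coe_mul]
        rw [h1]
        group
    choose rb hrbπ hrb using hfix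
    obtain ⟨c, τ, hτR, hτ, hc⟩ :=
      exists_orbit_base (X := F.autGroup Q ⧸ π.range) π (R.subgroupOf S)
    let r : F.autGroup Q ⧸ π.range → S := fun q =>
      D.s ⟨f (τ q), hf.mem_S (hτR q)⟩ (β • c q) * rb (c q) * (D.s (τ q) (c q))⁻¹
    have hr : ∀ q, π (r q) = (D.t (β • q))⁻¹ * β * D.t q := fun q => by
      simp only [r, map_mul, map_inv, hsπ, hrbπ]
      rw [hfq _ (hτR q), hτ, show π ⟨f (τ q), hf.mem_S (hτR q)⟩ = β * π (τ q) * β⁻¹ by
        rw [← hfπ _ (hτR q)]; group]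
      group
    let m : Mono π D.t := ⟨β, r, hr⟩
    refine ⟨ν m, hpr m, fun v hv => ?_⟩
    rw [mul_inv_eq_iff_eq_mul]
    show ν m * ν (D.j v) = ν (D.j _) * ν m
    rw [← map_mul, ← map_mul]
    congr 1
    refine Mono.ext (hfπ v hv).symm (funext fun q => ?_)
    show r (π v • q) * D.s v q = D.s ⟨f v, hf.mem_S hv⟩ (β • q) * r q
    have hcv : c (π v • q) = c q := hc v hv q
    simp only [r, hcv]
    set τ' := τ (π v • q) with hτ'def
    have hτ'R : (τ' : Ω) ∈ R := hτR _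
    have hwR : ((τ'⁻¹ * v * τ q : S) : Ω) ∈ R :=
      R.mul_mem (R.mul_mem (R.inv_mem hτ'R) hv) (hτR q)
    have hwfix : π (τ'⁻¹ * v * τ q) • c q = c q := by
      rw [map_mul, map_mul, map_inv, mul_smul, mul_smul, hτ, inv_smul_eq_iff]
      conv_rhs => rw [← hcv]
      rw [hτ'def, hτ]
    have e1 : τ' * (τ'⁻¹ * v * τ q) = v * τ q := by group
    have h1 : D.s τ' (c q) * D.s (τ'⁻¹ * v * τ q) (c q) = D.s v q * D.s (τ q) (c q) := by
      have h0 := hsmul τ' (τ'⁻¹ * v * τ q) (c q)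
      rw [hwfix] at h0
      rw [← h0, e1, hsmul, hτ]
    have h2 : D.s ⟨f τ', hf.mem_S hτ'R⟩ (β • c q) *
        D.s ⟨f ((τ'⁻¹ * v * τ q : S) : Ω), hf.mem_S hwR⟩ (β • c q) =
        D.s ⟨f v, hf.mem_S hv⟩ (β • q) * D.s ⟨f (τ q), hf.mem_S (hτR q)⟩ (β • c q) := by
      have h3 := hsmul ⟨f τ', hf.mem_S hτ'R⟩
        ⟨f ((τ'⁻¹ * v * τ q : S) : Ω), hf.mem_S hwR⟩ (β • c q)
      rw [hfq _ hwR, hwfix] at h3
      have h4 := hsmul ⟨f v, hf.mem_S hv⟩ ⟨f (τ q), hf.mem_S (hτR q)⟩ (β • c q)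
      rw [hfq _ (hτR q), hτ] at h4
      rw [← h3, ← h4, ← hfmul _ _ hτ'R hwR, ← hfmul _ _ hv (hτR q)]
      congr 3
      exact congrArg Subtype.val e1
    have h5 := hrb (c q) (τ'⁻¹ * v * τ q) hwR hwfix
    calc D.s ⟨f τ', _⟩ (β • c q) * rb (c q) * (D.s τ' (c q))⁻¹ * D.s v q
        = D.s ⟨f τ', hf.mem_S hτ'R⟩ (β • c q) * (rb (c q) * D.s (τ'⁻¹ * v * τ q) (c q)) *
            (D.s τ' (c q) * D.s (τ'⁻¹ * v * τ q) (c q))⁻¹ * D.s v q := by group
      _ = D.s ⟨f τ', hf.mem_S hτ'R⟩ (β • c q) *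
            (D.s ⟨f ((τ'⁻¹ * v * τ q : S) : Ω), hf.mem_S hwR⟩ (β • c q) * rb (c q)) *
            (D.s v q * D.s (τ q) (c q))⁻¹ * D.s v q := by rw [h1, h5]
      _ = (D.s ⟨f τ', hf.mem_S hτ'R⟩ (β • c q) *
            D.s ⟨f ((τ'⁻¹ * v * τ q : S) : Ω), hf.mem_S hwR⟩ (β • c q)) * rb (c q) *
            (D.s (τ q) (c q))⁻¹ := by group
      _ = _ := by rw [h2]; group
  -- the model
  have hιker : ∀ x : G, pr x = 1 → ∃ z : S, π z = 1 ∧ ι z = x := fun x hx => by
    have : x ∈ pr.ker := hx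
    rw [hker] at this
    exact this
  haveI : Finite π.ker := inferInstance
  haveI : Finite pr.ker := by
    rw [hker]
    exact Finite.of_surjective (fun z : π.ker => (⟨ι z, _, z.2, rfl⟩ : π.ker.map ι))
      fun ⟨_, z, hz, e⟩ => ⟨⟨z, hz⟩, Subtype.ext e⟩
  haveI : Finite (G ⧸ pr.ker) :=
    Finite.of_equiv _ (QuotientGroup.quotientKerEquivOfSurjective pr hprsurj).toEquiv.symm
  haveI : Finite G := Finite.of_equiv _ (Subgroup.groupEquivQuotientProdSubgroup (s := pr.ker)).symm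
  have hrange : ι.range = π.range.comap pr := by
    refine le_antisymm ?_ ?_
    · rintro _ ⟨x, rfl⟩
      exact ⟨x, (hprι x).symm⟩
    · rintro g ⟨x, hx⟩
      obtain ⟨z, -, hz⟩ := hιker ((ι x)⁻¹ * g) (by rw [map_mul, map_inv, hprι, hx]; group)
      exact ⟨x * z, by rw [map_mul, hz, mul_inv_cancel_left]⟩
  have hpS : IsPGroup p ι.range := hS.of_surjective ι.rangeRestrict ι.rangeRestrict_surjective
  have hndvd : ¬ p ∣ ι.range.index := by
    rw [hrange, Subgroup.index_comap_of_surjective _ hprsurj, toAut_range]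
    obtain ⟨-, T, hT⟩ := fullyAutomized_of_fullyNormalized hS hF hQfn
    rw [← hT]
    exact T.not_dvd_index
  set N := (Q.subgroupOf S).map ι with hN
  have hNn : N.Normal := ⟨by
    rintro _ ⟨x, hx, rfl⟩ g
    exact ⟨_, apl_mem (pr g : MulAut Q) hx, (hconj g x hx).symm⟩⟩
  have hCN : Subgroup.centralizer (N : Set G) ≤ N := by
    intro g hg
    have hg1 : pr g = 1 := Subtype.ext (apl_ext fun x hx => by
      have h1 := hconj g ⟨x, hQS hx⟩ hx
      have h2 := Subgroup.mem_centralizer_iff.1 hg _ ⟨⟨x, hQS hx⟩, hx, rfl⟩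
      rw [← h2, mul_inv_cancel_right] at h1
      rw [Subgroup.coe_one, apl_one hx]
      exact (congrArg Subtype.val (hinj h1)).symm)
    obtain ⟨z, hz, rfl⟩ := hιker g hg1
    exact ⟨z, toAut_ker_le hQc hz, rfl⟩
  have hNp : N ≤ pCore p G :=
    Cfsg.Agent.Core.le_pCore (((hS.to_subgroup _)).map ι)
  refine ⟨G, hGgrp, ν, pr, ⟨inferInstance, ⟨hinj, fun P hP φ hφ => ⟨fun h => ?_, ?_⟩⟩,
    ⟨hpS.toSylow hndvd, rfl⟩, (Subgroup.centralizer_le hNp).trans (hCN.trans hNp)⟩, hNn, hpr, hprsurj, hker⟩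
  · obtain ⟨e, he, hef, heQ⟩ := (isNormal_iff.1 hQn).2 P _ (mor_extendFn h)
    have heI : Iso F Q Q e := ⟨he.mono le_sup_right, heQ⟩
    obtain ⟨β, hβ, hβe⟩ := heI.exists_mem_autGroup
    obtain ⟨g, -, hg⟩ := hlift _ e ⟨β, hβ⟩ he le_sup_right fun x hx => (hβe x hx).symm
    refine ⟨g, fun x => (Eq.trans (hg ⟨x, hP x.2⟩ (Subgroup.mem_sup_left x.2)) ?_).symm⟩
    congr 1
    exact Subtype.ext ((hef x x.2).trans (extendFn_coe φ x))
  · rintro ⟨g, hg⟩
    change ∀ x : P, ι ⟨φ x, hφ x⟩ = g * ι ⟨x, hP x.2⟩ * g⁻¹ at hg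
    have hgp : ∀ (x : P), π ⟨φ x, hφ x⟩ * pr g = pr g * π ⟨x, hP x.2⟩ := fun x => by
      have h1 := congrArg pr (hg x)
      rw [map_mul, map_mul, map_inv, hprι, hprι] at h1
      rw [h1, inv_mul_cancel_right]
    have hiso := iso_apl (F := F) hQS (pr g).2
    have hle : P ⊔ Q ≤ nPhi S Q (apl (pr g : MulAut Q)) := by
      refine sup_le (fun x hx => mem_nPhi.2 ⟨hP hx, hSN (hP hx), _, hφ ⟨x, hx⟩, fun y hy => ?_⟩)
        hiso.1.le_nPhi
      have e' := congrArg (fun α : F.autGroup Q => apl (α : MulAut Q) y) (hgp ⟨x, hx⟩)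
      simp only [Subgroup.coe_mul, apl_mul _ _ hy] at e'
      rw [apl_toAut _ hy, apl_toAut _ (apl_mem _ hy)] at e'
      exact e'.symm
    obtain ⟨e, he, heQ⟩ := hrec.2 Q _ hiso
    obtain ⟨g', hg', hg''⟩ := hlift _ e (pr g) (he.mono hle) le_sup_right heQ
    obtain ⟨z, -, hz⟩ := hιker (g * g'⁻¹) (by rw [map_mul, map_inv, hg', mul_inv_cancel])
    have hm : Mor F P (fun x => z * e x * (z : Ω)⁻¹) :=
      ((he.mono hle).mono le_sup_left).conjComp z.2
    refine hm.hom_eq fun x => ?_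
    have h1 := hg x
    rw [show g = ι z * g' by rw [hz, inv_mul_cancel_right]] at h1
    have h2 := hg'' ⟨x, hP x.2⟩ (Subgroup.mem_sup_left x.2)
    have h3 : ι ⟨φ x, hφ x⟩ = ι (z * ⟨e x, (he.mono hle).mem_S (Subgroup.mem_sup_left x.2)⟩ * z⁻¹) := by
      rw [h1, map_mul, map_mul, map_inv, ← h2]
      group
    exact congrArg Subtype.val (hinj h3)

/-- A constrained system has a model. -/
theorem exists_model [Fact p.Prime] [Finite S] (hS : IsPGroup p S) (hF : F.IsSaturated p)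
    (hQn : F.IsNormal Q) (hQc : F.IsCentric Q) :
    ∃ (G : Type u) (_ : Group G) (ι : S →* G), F.IsModel p G ι ∧
      ((Q.subgroupOf S).map ι).Normal := by
  obtain ⟨D⟩ := exists_glueData hS hF hQc hQn.1
    (StronglyClosed.le_normalizer (stronglyClosed_of_isNormal hQn))
  obtain ⟨G, hG, ν, pr, h1, h2, -⟩ := exists_model_of_glueData hS hF hQn hQc D
  exact ⟨G, hG, _, h1, h2⟩

end Cfsg.Agent.FusSys
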