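import Cfsg.Agent.FusSys.FocalCtl
import Cfsg.Agent.FusSys.Model
import Cfsg.Agent.S1991

/-!
Glauberman's theorem on focal subgroups of systems with trivial `p'`-automorphisms of `S`, `p ≥ 5`.
-/

set_option autoImplicit false

namespace Cfsg.Agent.FusSys

open Cfsg Cfsg.FusionSystem

universe u

variable {Ω : Type u} [Group Ω] {S : Subgroup Ω} {F : FusionSystem S} {p : ℕ}

theorem posFunctor_kInfLower [Fact p.Prime] : PosFunctor.{u} p Cfsg.kInfLower :=
  ⟨(KInf.isCharPFunctor_kInfLower p).1, (KInf.isCharPFunctor_kInfLower p).2⟩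

/-- A normal `p`-subgroup lies in every Sylow subgroup. -/
theorem le_sylow_of_normal {G : Type u} [Group G] [Finite G] {N : Subgroup G} [Fact p.Prime]
    (hN : IsPGroup p N) (hn : N.Normal) (P : Sylow p G) : N ≤ (P : Subgroup G) := by
  obtain ⟨Q, hQ⟩ := hN.exists_le_sylow
  obtain ⟨g, rfl⟩ := MulAction.exists_smul_eq G P Q
  intro x hx
  have h := hQ (hn.conj_mem x hx g)
  rw [Sylow.coe_subgroup_smul, Subgroup.mem_smul_pointwise_iff_exists] at h
  obtain ⟨y, hy, hyx⟩ := h
  have : g * y * g⁻¹ = g * x * g⁻¹ := hyx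
  exact mul_left_cancel (mul_right_cancel this) ▸ hy

/-- The local condition for the lower K-infinity subgroup. -/
theorem focalCond_kInfLower [Fact p.Prime] (h5 : 5 ≤ p) (G : Type u) [Group G] [Finite G]
    (P : Sylow p G) :
    Subgroup.centralizer ((pCore p G : Subgroup G) : Set G) ≤ pCore p G →
      pCore p G ⊓ commutator G ≤ (commutator
        ↥(Subgroup.normalizer (wsub Cfsg.kInfLower (P : Subgroup G) : Set G))).map
        (Subgroup.normalizer (wsub Cfsg.kInfLower (P : Subgroup G) : Set G)).subtype := by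
  intro _
  refine le_trans (le_inf (inf_le_left.trans ?_) inf_le_right)
    ((KInf.inf_commutator_kInf KInf.IsKFunctor.lower h5 P).le.trans (inf_le_right.trans ?_))
  · exact sSup_le fun N hN => le_sylow_of_normal hN.2 hN.1 P
  · rw [commutator_def, Subgroup.map_commutator, ← MonoidHom.range_eq_map, Subgroup.range_subtype]
    rfl

/-- In a system with a normal centric subgroup, trivial `p'`-automorphisms of `S` make the focal
subgroup proper. -/
theorem focal_lt_of_model [Fact p.Prime] [Finite S] (h5 : 5 ≤ p) (hS : IsPGroup p S)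
    (hF : F.IsSaturated p) {Q : Subgroup Ω} (hQn : F.IsNormal Q) (hQc : F.IsCentric Q)
    (hS1 : S ≠ ⊥) (haut : IsPGroup p ↥(F.autGroup S)) : F.focalSubgroup < S := by
  obtain ⟨L, _, ι, hι, -⟩ := exists_model hS hF hQn hQc
  have : Finite L := hι.1
  obtain ⟨P, hP⟩ := hι.2.2.1
  have hr := hι.2.1
  have hne : (P : Subgroup L) ≠ ⊥ := by
    rw [hP]
    intro h
    refine hS1 (eq_bot_iff.2 fun x hx => ?_)
    have h1 : ι ⟨x, hx⟩ = ι 1 := by
      rw [map_one]
      exact Subgroup.mem_bot.1 (h ▸ ⟨_, rfl⟩)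
    exact congrArg Subtype.val (hr.1 h1)
  obtain ⟨M, hMn, hMi⟩ := S1991.result h5 P hne fun g hg hgo => by
    -- the map induced by `g`
    have himg : ∀ x : S, g * ι x * g⁻¹ ∈ ι.range := fun x =>
      hP ▸ (Subgroup.mem_normalizer_iff.1 hg _).1 (hP.ge ⟨x, rfl⟩)
    have hpull : ∀ x : S, ∃ v : S, g * ι x * g⁻¹ = ι v := fun x => by
      obtain ⟨v, hv⟩ := himg x
      exact ⟨v, hv.symm⟩
    choose v hv using hpull
    have hv' : ∀ x, ∃ y, v y = x := fun x => by
      obtain ⟨y, hy⟩ : g⁻¹ * ι x * g⁻¹⁻¹ ∈ ι.range :=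
        hP ▸ (Subgroup.mem_normalizer_iff.1 (inv_mem hg) _).1 (hP.ge ⟨x, rfl⟩)
      exact ⟨y, hr.1 ((hv y).symm.trans (by rw [hy]; group))⟩
    let vh : S →* S :=
      { toFun := v
        map_one' := hr.1 (by rw [← hv, map_one]; group)
        map_mul' := fun a b => hr.1 (by rw [← hv, map_mul, map_mul, ← hv, ← hv]; group) }
    let σ : MulAut S := MulEquiv.ofBijective vh
      ⟨fun a b h => hr.1 (mul_left_cancel (mul_right_cancel
        (a := g * ι a) (b := g⁻¹) (c := g * ι b)
        ((hv a).trans ((congrArg ι h).trans (hv b).symm)))), hv'⟩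
    have hσ : σ ∈ F.autGroup S := Subgroup.subset_closure
      ((hr.2 S le_rfl _ fun x => (σ x).2).2 ⟨g, fun x => (hv x).symm⟩)
    have hσpow : ∀ (n : ℕ) (x : S), ι ((σ ^ n) x) = g ^ n * ι x * (g ^ n)⁻¹ := by
      intro n
      induction n with
      | zero => simp
      | succ n ih =>
        intro x
        rw [pow_succ', MulAut.mul_apply, show σ ((σ ^ n) x) = v ((σ ^ n) x) from rfl, ← hv, ih,
          pow_succ']
        group
    obtain ⟨k, hk⟩ := haut ⟨σ, hσ⟩
    have hk' : σ ^ p ^ k = 1 := congrArg Subtype.val hk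
    have hgc : g ^ p ^ k ∈ Subgroup.centralizer ((P : Subgroup L) : Set L) := by
      rw [Subgroup.mem_centralizer_iff]
      intro y hy
      obtain ⟨x, rfl⟩ := hP.le hy
      have h := hσpow (p ^ k) x
      rw [hk', MulAut.one_apply] at h
      conv_lhs => rw [h]
      group
    have hmem : g ^ p ^ k ∈ Subgroup.centralizer ((P : Subgroup L) : Set L) →
        g ∈ Subgroup.centralizer ((P : Subgroup L) : Set L) := fun h => by
      obtain ⟨m, hm⟩ := exists_pow_eq_self_of_coprime
        (Nat.Coprime.pow_left k hgo.symm : (p ^ k).Coprime (orderOf g))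
      exact hm ▸ pow_mem h m
    exact hmem hgc
  have hc : commutator L ≤ M := by
    refine (QuotientGroup.ker_mk' M).le.trans' ?_
    have : IsCyclic (L ⧸ M) := isCyclic_of_prime_card (p := p) hMi
    have : Std.Commutative (α := L ⧸ M) (· * ·) := ⟨fun a b =>
      (IsCyclic.commGroup (α := L ⧸ M)).mul_comm a b⟩
    rw [commutator_def, Subgroup.commutator_le]
    intro a _ b _
    rw [MonoidHom.mem_ker, map_commutatorElement, commutatorElement_eq_one_iff_commute]
    exact Std.Commutative.comm (op := (· * ·)) _ _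
  refine lt_of_le_of_ne (focal_le F) fun hfS => ?_
  have hle : F.focalSubgroup ≤ (M.comap ι).map S.subtype := by
    refine (Subgroup.closure_le _).2 ?_
    rintro _ ⟨Y, φ, z, hφ, rfl⟩
    have hY := (F.le_of_mem hφ).1
    have hYS := (F.le_of_mem hφ).2
    obtain ⟨l, hl⟩ := (hr.2 Y hY φ hYS).1 hφ
    refine ⟨⟨z, hY z.2⟩⁻¹ * ⟨φ z, hYS z⟩, ?_, rfl⟩
    rw [SetLike.mem_coe, Subgroup.mem_comap, map_mul, map_inv]
    have h := Subgroup.commutator_mem_commutator (Subgroup.mem_top (ι ⟨z, hY z.2⟩)⁻¹)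
      (Subgroup.mem_top l)
    rw [commutatorElement_def, inv_inv, ← commutator_def] at h
    rw [hl z, ← mul_assoc, ← mul_assoc]
    exact hc h
  have hPM : (P : Subgroup L) ≤ M := by
    rw [hP]
    rintro _ ⟨x, rfl⟩
    obtain ⟨y, hy, hyx⟩ := hle (hfS.ge x.2)
    rw [← Subtype.ext (hyx : (y : Ω) = x)]
    exact hy
  have h := Subgroup.index_dvd_of_le hPM
  rw [hMi] at h
  exact P.not_dvd_index h

/-- Normal subsystems over an equal subgroup. -/
theorem focal_lt_of_isNormal [Fact p.Prime] [Finite S] (h5 : 5 ≤ p) (hS : IsPGroup p S)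
    (hF : F.IsSaturated p) {T : Subgroup Ω} (hT : T = S) (N : FusionSystem T)
    (hN : N.IsSaturated p) (hNF : N.IsSubsystemOf F) {Q : Subgroup Ω} (hQn : N.IsNormal Q)
    (hQc : centralizerIn S Q ≤ Q) (hS1 : S ≠ ⊥) (haut : IsPGroup p ↥(F.autGroup S)) :
    N.focalSubgroup < S := by
  subst hT
  refine focal_lt_of_model h5 hS hN hQn ⟨hQn.1, fun Q' hQ' => ?_⟩ hS1 (haut.to_le ?_)
  · obtain ⟨φ, hφ, rfl⟩ := hQ'
    have hsc := stronglyClosed_of_isNormal hQn
    have he : φ.range = Q := by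
      have hi : Iso N Q φ.range (extendFn φ) := ⟨mor_extendFn hφ, fun y => ⟨fun ⟨x, hx⟩ =>
        ⟨x, x.2, (extendFn_coe φ x).trans hx⟩, fun ⟨x, hx, hxy⟩ =>
        ⟨⟨x, hx⟩, ((extendFn_coe φ ⟨x, hx⟩).symm.trans hxy)⟩⟩⟩
      ext y
      rw [hi.2 y, (StronglyClosed.iso_self hsc hi.1 le_rfl).2 y]
    rw [he]
    exact hQc
  · exact Subgroup.closure_mono fun α hα => hNF _ hα

/-- The lower K-infinity subgroup contains its centralizer. -/
theorem centralizerIn_wsub_kInfLower [Fact p.Prime] [Finite S] (hS : IsPGroup p S) :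
    centralizerIn S (wsub Cfsg.kInfLower S) ≤ wsub Cfsg.kInfLower S := fun x hx =>
  ⟨⟨x, hx.1⟩, (KInf.centralizer_kInf_le hS).1 (Subgroup.mem_centralizer_iff.2 fun y hy =>
    Subtype.ext (hx.2 y ⟨y, hy, rfl⟩)), rfl⟩

/-- For `p ≥ 5`, trivial `p'`-automorphisms of `S` make the focal subgroup proper. -/
theorem focal_lt_of_aut [Fact p.Prime] [Finite S] (h5 : 5 ≤ p) (hS : IsPGroup p S)
    (hF : F.IsSaturated p) (hS1 : S ≠ ⊥) (haut : IsPGroup p ↥(F.autGroup S)) :
    F.focalSubgroup < S := by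
  set W := wsub Cfsg.kInfLower S
  have hWS : W ≤ S := wsub_le _ _
  have hSW : S ≤ Subgroup.normalizer (W : Set Ω) := fun s hs =>
    (normalizerIn_le_normalizerIn_wsub posFunctor_kInfLower le_rfl hS (le_normalizerIn le_rfl hs)).2
  have hT := normalizerIn_eq_of_le hSW
  have hN := isNormalizerSystem_normalizerSys (F := F) hWS
  have hfn : F.IsFullyNormalized W := ⟨hWS, fun Q _ => by
    rw [hT]
    exact Subgroup.card_le_of_le inf_le_left⟩
  have hNF := normalizerSystem_subsystem hS hF hN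
  have hlt := focal_lt_of_isNormal h5 hS hF hT _ (normalizerSystem_saturated hS hF hfn hN) hNF
    (normalizerSystem_isNormal hN hWS) (centralizerIn_wsub_kInfLower hS) hS1 haut
  set N := normalizerSys F hWS
  refine lt_of_le_of_lt (focal_le_of_goodAt posFunctor_kInfLower
    (fun G _ _ P hc => focalCond_kInfLower h5 G P hc) hS hF ?_ fun X f hf hfW => ?_) hlt
  · refine (focal_le_iff (F := N)).2 fun X f hf x hx => quot_mem_focal (mor_of_sub hNF hf) hx
  · exact ⟨hf.le, fun x hx => hf.mem_S hx, fun x hx =>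
      quot_mem_focal ((mor_normalizerSystem hN).2 ⟨hf, hfW⟩) hx⟩

end Cfsg.Agent.FusSys
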