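import Cfsg.Agent.FusSys.CaminaHerzog
import Cfsg.Agent.FusSys.GroupSys

/-!
The Camina–Herzog criterion for finite groups.
-/

set_option autoImplicit false

namespace Cfsg.Agent.FusSys.CamHerz

open Cfsg Cfsg.FusionSystem

variable {G : Type*} [Group G] [Finite G]

/-- If the centralizer of every 2-element contains a Sylow 2-subgroup, the Sylow 2-subgroups are
abelian. -/
theorem sylow_two_abelian
    (h : ∀ x : G, (∃ k : ℕ, orderOf x = 2 ^ k) →
      ∃ Q : Sylow 2 G, (Q : Subgroup G) ≤ Subgroup.centralizer ({x} : Set G))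
    (P : Sylow 2 G) : ∀ a ∈ (P : Subgroup G), ∀ b ∈ (P : Subgroup G), a * b = b * a := by
  haveI : Fact (Nat.Prime 2) := ⟨Nat.prime_two⟩
  have key := all_central (F := groupFusionSystem (P : Subgroup G)) P.2 (gfs_saturated P)
    (fun x hx => ?_)
  · exact fun a ha b hb => (key b hb).2 a ha
  · obtain ⟨k, hk⟩ := P.2 ⟨x, hx⟩
    obtain ⟨m, -, hm⟩ := (Nat.dvd_prime_pow Nat.prime_two).1
      (orderOf_dvd_of_pow_eq_one (x := x) (congrArg Subtype.val hk))
    obtain ⟨Q, hQ⟩ := h x ⟨m, hm⟩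
    have hQx : ∀ q ∈ (Q : Subgroup G), q * x = x * q := fun q hq =>
      Subgroup.mem_centralizer_singleton_iff.1 (hQ hq)
    have hxn : Subgroup.zpowers x ≤ Subgroup.normalizer ((Q : Subgroup G) : Set G) := by
      rw [Subgroup.zpowers_le, Subgroup.mem_normalizer_iff]
      intro q
      constructor
      · intro hq
        rwa [← hQx q hq, mul_inv_cancel_right]
      · intro hq
        have h2 := hQx _ hq
        rw [inv_mul_cancel_right, mul_assoc] at h2
        have h3 := mul_left_cancel h2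
        have h4 : x * q * x⁻¹ = q := by rw [mul_assoc]; exact h3.symm
        rwa [h4] at hq
    have hxpg : IsPGroup 2 (Subgroup.zpowers x) :=
      isPGroup_zpowers_of_pow_eq_one (congrArg Subtype.val hk)
    have hxQ : x ∈ (Q : Subgroup G) :=
      Q.3 (hxpg.to_sup_of_normal_right' Q.2 hxn) le_sup_right ▸
        Subgroup.mem_sup_left (Subgroup.mem_zpowers x)
    obtain ⟨g, hg⟩ := MulAction.exists_smul_eq G Q P
    have hconj : ∀ q ∈ (Q : Subgroup G), g * q * g⁻¹ ∈ (P : Subgroup G) := fun q hq => by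
      rw [← hg, Sylow.coe_subgroup_smul]
      exact Subgroup.smul_mem_pointwise_smul q (MulAut.conj g) _ hq
    refine ⟨fun y => g * y * g⁻¹, mor_gfs.2 ⟨Subgroup.zpowers_le.2 hx, ?_, g, fun y _ => rfl⟩,
      hconj x hxQ, fun s hs => ?_⟩
    · intro y hy
      exact hconj y (Subgroup.zpowers_le.2 hxQ hy)
    · rw [← hg, Sylow.coe_subgroup_smul] at hs
      obtain ⟨q, hq, rfl⟩ := hs
      show g * q * g⁻¹ * (g * x * g⁻¹) = g * x * g⁻¹ * (g * q * g⁻¹)
      rw [show g * q * g⁻¹ * (g * x * g⁻¹) = g * (q * x) * g⁻¹ by group, hQx q hq]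
      group

end Cfsg.Agent.FusSys.CamHerz
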