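import Cfsg.Prelude.Def_EvenType
import Cfsg.Agent.Core.PCore
import Cfsg.Agent.FusSys.SylowAux

/-!
Strongly `p`-embedded subgroups: the subgroup generated by normalizers, and the form
"`x T x⁻¹` meets `T` nontrivially implies `x ∈ Y`".
-/

set_option autoImplicit false

namespace Cfsg.Agent.FusSys

open Cfsg

variable {X : Type*} [Group X] [Finite X] {p : ℕ} [Fact p.Prime]

theorem not_pRankLE_zero_iff {Q : Subgroup X} (hQ : IsPGroup p Q) :
    ¬ PRankLE p 0 ↥Q ↔ Q ≠ ⊥ := by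
  constructor
  · rintro h rfl
    refine h fun A _ _ => ?_
    have : Subsingleton (⊥ : Subgroup X) := inferInstance
    rw [pow_zero]
    exact le_of_eq (Nat.card_unique)
  · intro h hR
    haveI : Nontrivial Q := (Subgroup.nontrivial_iff_ne_bot Q).2 h
    obtain ⟨n, hn, hcard⟩ := hQ.nontrivial_iff_card.1 inferInstance
    obtain ⟨x, hx⟩ := exists_prime_orderOf_dvd_card' (G := Q) p (hcard ▸ dvd_pow_self p hn.ne')
    have h1 := hR (Subgroup.zpowers x) inferInstance (by
      rintro _ ⟨k, rfl⟩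
      show (x ^ k) ^ p = 1
      rw [← zpow_natCast (x ^ k), ← zpow_mul, mul_comm, zpow_mul, zpow_natCast, ← hx,
        pow_orderOf_eq_one, one_zpow])
    rw [Nat.card_zpowers, hx, pow_zero] at h1
    exact absurd h1 (Nat.not_le.2 (Fact.out : p.Prime).one_lt)

theorem normalizer_le_kGen (T : Sylow p X) {Q : Subgroup X} (hQT : Q ≤ T) (hQ : Q ≠ ⊥) :
    Subgroup.normalizer (Q : Set X) ≤ kGeneratedCore p 1 (T : Subgroup X) :=
  le_iSup (fun Q : {Q : Subgroup X // Q ≤ (T : Subgroup X) ∧ ¬ PRankLE p (1 - 1) ↥Q} =>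
    Subgroup.normalizer ((Q : Subgroup X) : Set X))
    ⟨Q, hQT, by simpa using (not_pRankLE_zero_iff (T.2.to_le hQT)).2 hQ⟩

theorem kGen_le (T : Sylow p X) {Y : Subgroup X}
    (h : ∀ Q : Subgroup X, Q ≤ T → Q ≠ ⊥ → Subgroup.normalizer (Q : Set X) ≤ Y) :
    kGeneratedCore p 1 (T : Subgroup X) ≤ Y :=
  iSup_le fun ⟨Q, hQT, hQ⟩ => h Q hQT ((not_pRankLE_zero_iff (T.2.to_le hQT)).1 (by simpa using hQ))

/-- Alperin's observation: anything carrying a nontrivial subgroup of `T` into `T` lies in the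
subgroup generated by the normalizers of the nontrivial subgroups of `T`. -/
theorem mem_of_normalizers_le (T : Sylow p X) {Y : Subgroup X}
    (hY : ∀ Q : Subgroup X, Q ≤ T → Q ≠ ⊥ → Subgroup.normalizer (Q : Set X) ≤ Y) :
    ∀ (D : Subgroup X) (x : X), D ≤ T → D ≠ ⊥ → (∀ d ∈ D, x * d * x⁻¹ ∈ (T : Subgroup X)) →
      x ∈ Y := by
  suffices H : ∀ n : ℕ, ∀ (D : Subgroup X) (x : X),
      Nat.card (T : Subgroup X) - Nat.card D ≤ n → D ≤ T → D ≠ ⊥ →
      (∀ d ∈ D, x * d * x⁻¹ ∈ (T : Subgroup X)) → x ∈ Y from fun D x => H _ D x le_rfl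
  intro n
  induction n using Nat.strong_induction_on with
  | h n ih =>
    intro D x hn hDT hD hx
    have hbig : ∀ (D' : Subgroup X) (z : X), D' ≤ T → Nat.card D < Nat.card D' →
        (∀ d ∈ D', z * d * z⁻¹ ∈ (T : Subgroup X)) → z ∈ Y := by
      intro D' z hD'T hlt hz
      have h2 := Subgroup.card_le_of_le hD'T
      refine ih (Nat.card (T : Subgroup X) - Nat.card D') (by omega) D' z le_rfl hD'T ?_ hz
      rintro rfl
      rw [Subgroup.card_bot] at hlt
      exact absurd Nat.card_pos (Nat.not_lt.2 (Nat.lt_one_iff.1 hlt).le)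
    rcases eq_or_ne D (T : Subgroup X) with rfl | hne
    · refine hY _ le_rfl hD (Subgroup.mem_normalizer_fintype (S := ((T : Subgroup X) : Set X)) hx)
    -- the normalizer of a proper subgroup of a `p`-group grows
    have grow : ∀ E : Subgroup X, E ≤ T → E ≠ (T : Subgroup X) →
        Nat.card E < Nat.card ↥((T : Subgroup X) ⊓ Subgroup.normalizer (E : Set X)) := by
      intro E hET hE
      refine lt_of_le_of_ne (Subgroup.card_le_of_le (le_inf hET Subgroup.le_normalizer)) fun he => ?_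
      have e1 := Subgroup.eq_of_le_of_card_ge (le_inf hET Subgroup.le_normalizer) he.ge
      haveI := T.2.isNilpotent
      have hlt : E.subgroupOf (T : Subgroup X) < ⊤ := lt_of_le_of_ne le_top fun h =>
        hE (le_antisymm hET (Subgroup.subgroupOf_eq_top.1 h))
      obtain ⟨⟨g, hgT⟩, hg, hgE⟩ := SetLike.exists_of_lt
        (Group.normalizerCondition_of_isNilpotent _ hlt)
      refine hgE (e1.ge ⟨hgT, Subgroup.mem_normalizer_fintype (S := (E : Set X)) fun y hy => ?_⟩)
      exact (Subgroup.mem_normalizer_iff.1 hg ⟨y, hET hy⟩).1 hy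
    let D' : Subgroup X := D.map (MulAut.conj x).toMonoidHom
    have hD'T : D' ≤ T := by rintro _ ⟨d, hd, rfl⟩; exact hx d hd
    have hcD' : Nat.card D' = Nat.card D :=
      Subgroup.card_map_of_injective (f := (MulAut.conj x).toMonoidHom) (MulAut.conj x).injective
    have hD'ne : D' ≠ (T : Subgroup X) := fun h =>
      hne (Subgroup.eq_of_le_of_card_ge hDT (by rw [← hcD', h]))
    let D1 : Subgroup X := (T : Subgroup X) ⊓ Subgroup.normalizer (D : Set X)
    let E1 : Subgroup X := (T : Subgroup X) ⊓ Subgroup.normalizer (D' : Set X)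
    let D2 : Subgroup X := E1.map (MulAut.conj x⁻¹).toMonoidHom
    have hD2N : D2 ≤ Subgroup.normalizer (D : Set X) := by
      rintro _ ⟨e, he, rfl⟩
      refine Subgroup.mem_normalizer_fintype (S := (D : Set X)) fun y hy => ?_
      have h1 := (Subgroup.mem_normalizer_iff.1 he.2 (x * y * x⁻¹)).1
        (Subgroup.mem_map.2 ⟨y, hy, rfl⟩)
      obtain ⟨z, hz, hzy⟩ := Subgroup.mem_map.1 h1
      show (MulAut.conj x⁻¹) e * y * ((MulAut.conj x⁻¹) e)⁻¹ ∈ D
      have e2 : (MulAut.conj x⁻¹) e * y * ((MulAut.conj x⁻¹) e)⁻¹ = z := by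
        simp only [MulEquiv.coe_toMonoidHom, MulAut.conj_apply] at hzy ⊢
        calc x⁻¹ * e * x⁻¹⁻¹ * y * (x⁻¹ * e * x⁻¹⁻¹)⁻¹
            = x⁻¹ * (e * (x * y * x⁻¹) * e⁻¹) * x := by group
          _ = x⁻¹ * (x * z * x⁻¹) * x := by rw [hzy]
          _ = z := by group
      rw [e2]; exact hz
    -- a Sylow subgroup of `N(D)` above `D1`, moved into `T`
    obtain ⟨U, hU⟩ := ((T.2.to_le inf_le_left : IsPGroup p D1).comap_subtype :
      IsPGroup p (D1.subgroupOf (Subgroup.normalizer (D : Set X)))).exists_le_sylow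
    obtain ⟨y, hy⟩ := exists_conj_mem_sylow (U.2.map (Subgroup.normalizer (D : Set X)).subtype) T
    have hyY : y ∈ Y := hbig D1 y inf_le_left (grow D hDT hne) fun d hd =>
      hy d (Subgroup.mem_map.2 ⟨⟨d, hd.2⟩, hU (show (⟨d, hd.2⟩ :
        Subgroup.normalizer (D : Set X)) ∈ D1.subgroupOf _ from hd), rfl⟩)
    obtain ⟨m, hm⟩ := exists_conj_mem_sylow
      (((T.2.to_le inf_le_left : IsPGroup p E1).map _).comap_subtype :
        IsPGroup p (D2.subgroupOf (Subgroup.normalizer (D : Set X)))) U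
    have hmY : (m : X) ∈ Y := hY D hDT hD m.2
    have hzY : y * m * x⁻¹ ∈ Y := by
      refine hbig E1 _ inf_le_left (hcD' ▸ grow D' hD'T hD'ne) fun d hd => ?_
      have hd2 : x⁻¹ * d * x ∈ D2 := Subgroup.mem_map.2 ⟨d, hd, by simp⟩
      have h1 := hy _ (Subgroup.mem_map.2 ⟨_, hm ⟨_, hD2N hd2⟩ hd2, rfl⟩)
      have e : y * m * x⁻¹ * d * (y * m * x⁻¹)⁻¹ =
          y * ((m : X) * (x⁻¹ * d * x) * (m : X)⁻¹) * y⁻¹ := by group
      rw [e]
      exact h1
    have : x = (y * m * x⁻¹)⁻¹ * (y * m) := by group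
    rw [this]
    exact Y.mul_mem (Y.inv_mem hzY) (Y.mul_mem hyY hmY)

/-- If some strongly `p`-embedded subgroup exists, then for any Sylow subgroup `T` there is a proper
subgroup containing every `x` with `x T x⁻¹ ∩ T ≠ 1`. -/
theorem exists_proper_of_stronglyPEmbedded {E : Subgroup X} (h : IsStronglyPEmbedded p E)
    (T : Sylow p X) :
    ∃ Y : Subgroup X, Y ≠ ⊤ ∧
      (∀ Q : Subgroup X, Q ≤ T → Q ≠ ⊥ → Subgroup.normalizer (Q : Set X) ≤ Y) := by
  obtain ⟨-, hE, P, hP⟩ := h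
  obtain ⟨g, hg⟩ := exists_conj_mem_sylow T.2 P
  refine ⟨E.comap (MulAut.conj g).toMonoidHom, fun h => hE ?_, fun Q hQT hQ n hn => ?_⟩
  · refine (Subgroup.eq_top_iff' E).2 fun x => ?_
    have h1 : g⁻¹ * x * g ∈ E.comap (MulAut.conj g).toMonoidHom := h.symm ▸ Subgroup.mem_top _
    simpa [mul_assoc] using h1
  · refine hP (normalizer_le_kGen P (Q := Q.map (MulAut.conj g).toMonoidHom) ?_ ?_ ?_)
    · rintro _ ⟨q, hq, rfl⟩
      exact hg q (hQT hq)
    · exact fun h => hQ ((Subgroup.map_eq_bot_iff_of_injective Q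
        (f := (MulAut.conj g).toMonoidHom) (MulAut.conj g).injective).1 h)
    · rw [← Subgroup.map_equiv_normalizer_eq]
      exact Subgroup.mem_map.2 ⟨n, hn, rfl⟩

theorem pCore_eq_bot_of_stronglyPEmbedded {E : Subgroup X} (h : IsStronglyPEmbedded p E) :
    pCore p X = ⊥ := by
  let T : Sylow p X := default
  obtain ⟨Y, hY, hN⟩ := exists_proper_of_stronglyPEmbedded h T
  by_contra hne
  refine hY (eq_top_iff.2 ?_)
  rw [← Subgroup.normalizer_eq_top (pCore p X)]
  exact hN _ (Cfsg.Agent.Core.pCore_le_sylow T) hne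

end Cfsg.Agent.FusSys
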