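import Cfsg.Agent.FusSys.Realized
import Cfsg.Agent.Layer.PConstraint

/-!
Realizing a system in the quotient by a normal subgroup of order prime to `p`.
-/

set_option autoImplicit false

namespace Cfsg.Agent.FusSys

open Cfsg Cfsg.FusionSystem

variable {Ω : Type*} [Group Ω] {S : Subgroup Ω} {F : FusionSystem S} {G : Type*} [Group G]
variable [Finite G] {ι : S →* G} {p : ℕ}

/-- A quotient by a normal `p'`-subgroup realizes the same system. -/
theorem realized_quotient [Fact p.Prime] (hS : IsPGroup p S) (hr : F.IsRealizedBy ι)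
    (hT : ∃ T : Sylow p G, (T : Subgroup G) = ι.range) (N : Subgroup G) [N.Normal]
    (hN : (Nat.card N).Coprime p) :
    F.IsRealizedBy ((QuotientGroup.mk' N).comp ι) ∧
      ∃ T : Sylow p (G ⧸ N), (T : Subgroup (G ⧸ N)) = ((QuotientGroup.mk' N).comp ι).range := by
  haveI : Finite S := Finite.of_injective _ hr.1
  have hcop : ∀ P : Subgroup G, IsPGroup p P → (Nat.card P).Coprime (Nat.card N) :=
    fun P hP => Cfsg.Agent.Layer.coprime_card_of_isPGroup hP hN
  have hSp : IsPGroup p ι.range := hS.of_surjective ι.rangeRestrict ι.rangeRestrict_surjective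
  have hbot : ∀ a b : S, (ι a)⁻¹ * ι b ∈ N → a = b := by
    intro a b h
    refine hr.1 (inv_mul_eq_one.1 ?_)
    have : (ι a)⁻¹ * ι b ∈ ι.range ⊓ N := ⟨⟨a⁻¹ * b, by rw [map_mul, map_inv]⟩, h⟩
    rwa [Cfsg.Agent.Layer.inf_eq_bot_of_isPGroup hSp hN, Subgroup.mem_bot] at this
  refine ⟨⟨fun a b h => hbot a b (QuotientGroup.eq.1 h), fun P hP φ hφ => ⟨fun h => ?_, ?_⟩⟩, ?_⟩
  · obtain ⟨g, hg⟩ := (hr.2 P hP φ hφ).1 h
    exact ⟨QuotientGroup.mk' N g, fun x => by
      show QuotientGroup.mk' N (ι _) = _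
      rw [hg x, map_mul, map_mul, map_inv]
      rfl⟩
  · rintro ⟨gbar, hg⟩
    obtain ⟨g, rfl⟩ := QuotientGroup.mk'_surjective N gbar
    refine (hr.2 P hP φ hφ).2 ?_
    let φS : P →* S := φ.codRestrict S hφ
    let inc : P →* S := Subgroup.inclusion hP
    set A := (ι.comp φS).range with hAdef
    set B := ((MulAut.conj g).toMonoidHom.comp (ι.comp inc)).range with hBdef
    have hPp : IsPGroup p P := hS.to_le hP
    have hA : IsPGroup p A := hPp.of_surjective _ (ι.comp φS).rangeRestrict_surjective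
    have hφi : Function.Injective φ := fun x y h => by
      have h1 := hg x
      have h2 := hg y
      rw [show (⟨φ x, hφ x⟩ : S) = ⟨φ y, hφ y⟩ from Subtype.ext h, h2] at h1
      have h3 : ((QuotientGroup.mk' N).comp ι) ⟨x, hP x.2⟩ =
          ((QuotientGroup.mk' N).comp ι) ⟨y, hP y.2⟩ :=
        (mul_left_cancel (mul_right_cancel h1)).symm
      exact Subgroup.inclusion_injective hP (hbot _ _ (QuotientGroup.eq.1 h3))
    have hle : B ≤ N ⊔ A := by
      rintro _ ⟨x, rfl⟩
      show g * ι ⟨x, hP x.2⟩ * g⁻¹ ∈ N ⊔ A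
      have h1 : (ι ⟨φ x, hφ x⟩)⁻¹ * (g * ι ⟨x, hP x.2⟩ * g⁻¹) ∈ N := QuotientGroup.eq.1 (by
        show QuotientGroup.mk' N _ = QuotientGroup.mk' N _
        rw [map_mul, map_mul, map_inv]
        exact hg x)
      rw [← mul_inv_cancel_left (ι ⟨φ x, hφ x⟩) (g * ι ⟨x, hP x.2⟩ * g⁻¹)]
      exact Subgroup.mul_mem _ (Subgroup.mem_sup_right ⟨x, rfl⟩) (Subgroup.mem_sup_left h1)
    have hcardA : Nat.card A = Nat.card P := (Nat.card_congr (MonoidHom.ofInjective
      (f := ι.comp φS) (hr.1.comp fun x y h => hφi (congrArg Subtype.val h))).toEquiv).symm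
    have hcardB : Nat.card B = Nat.card P := (Nat.card_congr (MonoidHom.ofInjective
      (f := (MulAut.conj g).toMonoidHom.comp (ι.comp inc))
      ((MulAut.conj g).injective.comp (hr.1.comp (Subgroup.inclusion_injective hP)))).toEquiv).symm
    obtain ⟨k, hk, hkA⟩ := Cfsg.Agent.Coprime.exists_conj_eq (A := A) (B := B) (K := N)
      Subgroup.le_normalizer_of_normal (hcop A hA)
      (Or.inl (Cfsg.Agent.Layer.isSolvable_of_isPGroup hA)) hle (hcardB.trans hcardA.symm)
    refine ⟨k * g, fun x => ?_⟩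
    have h1 : k * (g * ι ⟨x, hP x.2⟩ * g⁻¹) * k⁻¹ ∈ A := by
      rw [← hkA, Cfsg.Agent.Coprime.conj_smul_eq_map]
      exact ⟨_, ⟨x, rfl⟩, rfl⟩
    obtain ⟨y, hy⟩ := h1
    have h2 : y = x := by
      refine hφi ?_
      refine congrArg Subtype.val (hbot (φS y) (φS x) (QuotientGroup.eq.1 ?_))
      show QuotientGroup.mk' N (ι (φS y)) = QuotientGroup.mk' N (ι (φS x))
      rw [show ι (φS y) = _ from hy, map_mul, map_mul, map_mul, map_mul,
        show QuotientGroup.mk' N k = 1 from (QuotientGroup.eq_one_iff k).2 hk, map_inv, map_inv,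
        show QuotientGroup.mk' N k = 1 from (QuotientGroup.eq_one_iff k).2 hk, one_mul, inv_one,
        mul_one]
      exact (hg x).symm
    rw [show ι ⟨φ x, hφ x⟩ = ι (φS y) by rw [h2]; rfl, show ι (φS y) = _ from hy]
    group
  · obtain ⟨T, hT⟩ := hT
    have hrange : ((QuotientGroup.mk' N).comp ι).range = (T : Subgroup G).map (QuotientGroup.mk' N) := by
      rw [hT, MonoidHom.range_comp]
    rw [hrange]
    exact ⟨T.mapSurjective (QuotientGroup.mk'_surjective N), rfl⟩

end Cfsg.Agent.FusSys
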