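import Cfsg.Agent.FusSys.FreeBase
import Cfsg.Agent.FusSys.RealizedQuot

/-!
Factor systems inherit freeness.
-/

set_option autoImplicit false

namespace Cfsg.Agent.FusSys

open Cfsg Cfsg.FusionSystem

universe u v

theorem involves_of_surjective {H L L' : Type*} [Group H] [Group L] [Group L'] {f : L →* L'}
    (hf : Function.Surjective f) (h : Involves H L') : Involves H L := by
  obtain ⟨K, R, hR, ⟨e⟩⟩ := h
  haveI := hR
  let q : K.comap f →* H :=
    e.toMonoidHom.comp ((QuotientGroup.mk' (R.subgroupOf K)).comp (f.subgroupComap K))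
  have hq : Function.Surjective q :=
    e.surjective.comp ((QuotientGroup.mk'_surjective _).comp fun ⟨y, hy⟩ => by
      obtain ⟨x, rfl⟩ := hf y
      exact ⟨⟨x, hy⟩, rfl⟩)
  have hk : q.ker = (R.comap f).subgroupOf (K.comap f) := by
    ext x
    rw [MonoidHom.mem_ker, Subgroup.mem_subgroupOf]
    show e (QuotientGroup.mk' _ (f.subgroupComap K x)) = 1 ↔ _
    rw [MulEquiv.map_eq_one_iff, QuotientGroup.mk'_apply, QuotientGroup.eq_one_iff]
    rfl
  haveI : ((R.comap f).subgroupOf (K.comap f)).Normal := hk ▸ q.normal_ker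
  exact ⟨K.comap f, R.comap f, inferInstance,
    ⟨(QuotientGroup.quotientMulEquivOfEq hk.symm).trans
      (QuotientGroup.quotientKerEquivOfSurjective q hq)⟩⟩

variable {Ω : Type u} [Group Ω] {S : Subgroup Ω} {F : FusionSystem S} {p : ℕ}
variable {Ω' : Type v} [Group Ω'] {S' : Subgroup Ω'} {E : FusionSystem S'} {θ : S →* Ω'}
variable {Q : Subgroup Ω}

theorem imageAlong_preimageAlong {P' : Subgroup Ω'} (h : P' ≤ θ.range) :
    imageAlong θ (preimageAlong θ P') = P' := by
  ext z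
  rw [mem_imageAlong pre_le]
  constructor
  · rintro ⟨x, hx, rfl⟩
    exact (mem_pre.1 hx).2
  · intro hz
    obtain ⟨x, hx, hxz⟩ := exists_pre h hz
    exact ⟨x, hx, hxz⟩

theorem card_preimageAlong [Finite S] (hQS : Q ≤ S) (hker : ∀ s : S, θ s = 1 ↔ (s : Ω) ∈ Q)
    {X : Subgroup Ω'} (hX : X ≤ θ.range) :
    Nat.card (preimageAlong θ X) = Nat.card Q * Nat.card X := by
  haveI := finite_of_le (pre_le (θ := θ) (P' := X))
  let r : preimageAlong θ X →* X :=
    MonoidHom.mk' (fun x => ⟨thFn θ x, (mem_pre.1 x.2).2⟩)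
      fun x y => Subtype.ext (thFn_mul (pre_le x.2) (pre_le y.2))
  have hr : Function.Surjective r := fun ⟨z, hz⟩ => by
    obtain ⟨x, hx, hxz⟩ := exists_pre hX hz
    exact ⟨⟨x, hx⟩, Subtype.ext hxz⟩
  have hle : Q ≤ preimageAlong θ X := le_preimageAlong hker hQS X
  have hk : r.ker = Q.subgroupOf (preimageAlong θ X) := by
    ext x
    rw [MonoidHom.mem_ker, Subgroup.mem_subgroupOf, Subtype.ext_iff]
    exact thFn_eq_one_iff hker (pre_le x.2)
  have e := Subgroup.card_eq_card_quotient_mul_card_subgroup r.ker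
  rw [Nat.card_congr (QuotientGroup.quotientKerEquivOfSurjective r hr).toEquiv, hk,
    Nat.card_congr (Subgroup.subgroupOfEquivOfLe hle).toEquiv, mul_comm] at e
  exact e

variable [Fact p.Prime] [Finite S] (hS : IsPGroup p S) (hF : F.IsSaturated p)
include hS hF

/-- Factor systems modulo a normal subgroup inherit freeness. -/
theorem free_factor {H : Type*} [Group H] (hQn : F.IsNormal Q)
    (hE : F.IsFactorSystem Q θ E) (hfree : F.IsSectionFree p H) : E.IsSectionFree p H := by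
  classical
  have hsc := stronglyClosed_of_isNormal hQn
  have hker := hE.2.1
  have hrange := hE.2.2.1
  have hQS : Q ≤ S := hQn.1
  intro P' hP'n hP'c N' hN' L' _ ι' hM' hinv
  have hP'r : P' ≤ θ.range := hrange.symm ▸ hP'c.1
  set P := preimageAlong θ P' with hPdef
  have hPS : P ≤ S := pre_le
  have hQP : Q ≤ P := le_preimageAlong hker hQS P'
  have himP : imageAlong θ P = P' := imageAlong_preimageAlong hP'r
  have hT'r : normalizerIn S' P' ≤ θ.range := hrange.symm ▸ inf_le_left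
  have hTeq : normalizerIn S P = preimageAlong θ (normalizerIn S' P') := by
    ext x
    constructor
    · rintro ⟨hxS, hxn⟩
      refine mem_pre.2 ⟨hxS, ⟨hrange ▸ thFn_mem_range _ hxS, Subgroup.mem_normalizer_iff.2 fun z =>
        ⟨fun hz => ?_, fun hz => ?_⟩⟩⟩
      · obtain ⟨y, hy, rfl⟩ := exists_pre hP'r hz
        rw [← thFn_conj hxS (hPS hy)]
        exact (mem_pre.1 ((Subgroup.mem_normalizer_iff.1 hxn y).1 hy)).2
      · obtain ⟨y, hy, hyz⟩ := exists_pre hP'r hz
        have h1 := (mem_pre.1 ((Subgroup.mem_normalizer_iff''.1 hxn y).1 hy)).2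
        rw [thFn_mul (S.mul_mem (S.inv_mem hxS) (hPS hy)) hxS,
          thFn_mul (S.inv_mem hxS) (hPS hy), thFn_inv hxS, hyz] at h1
        simpa [mul_assoc] using h1
    · intro hx
      obtain ⟨hxS, hx', hxn⟩ := mem_pre.1 hx
      refine ⟨hxS, Subgroup.mem_normalizer_iff.2 fun y => ⟨fun hy => ?_, fun hy => ?_⟩⟩
      · refine mem_pre.2 ⟨S.mul_mem (S.mul_mem hxS (hPS hy)) (S.inv_mem hxS), ?_⟩
        rw [thFn_conj hxS (hPS hy)]
        exact (Subgroup.mem_normalizer_iff.1 hxn _).1 (mem_pre.1 hy).2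
      · have hyS : y ∈ S := by
          have := S.mul_mem (S.mul_mem (S.inv_mem hxS) (hPS hy)) hxS
          simpa [mul_assoc] using this
        refine mem_pre.2 ⟨hyS, (Subgroup.mem_normalizer_iff.1 hxn _).2 ?_⟩
        rw [← thFn_conj hxS hyS]
        exact (mem_pre.1 hy).2
  have hPc : F.IsCentric P := by
    refine ⟨hPS, fun R hR => ?_⟩
    obtain ⟨f, hf⟩ := isConj_iff.1 hR
    obtain ⟨f', hf', hf'f⟩ := exists_iso_image hE hsc hf hQP
    rw [himP] at hf'
    have hQR : Q ≤ R := fun y hy => by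
      obtain ⟨x, hx, rfl⟩ := (StronglyClosed.iso_self hsc hf.1 hQP).exists_eq hy
      exact hf.mem (hQP hx)
    rintro z ⟨hzS, hzc⟩
    have h1 : thFn θ z ∈ imageAlong θ R := hP'c.2 _ hf'.isConj
      ⟨hrange ▸ thFn_mem_range _ hzS, Subgroup.mem_centralizer_iff.2 fun w hw => by
        obtain ⟨r, hr, rfl⟩ := (mem_imageAlong hf.right_le).1 hw
        rw [← thFn_mul (hf.right_le hr) hzS, ← thFn_mul hzS (hf.right_le hr),
          Subgroup.mem_centralizer_iff.1 hzc r hr]⟩
    obtain ⟨r, hr, hrz⟩ := (mem_imageAlong hf.right_le).1 h1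
    have h2 := R.mul_mem hr (hQR ((thFn_eq_iff hker (hf.right_le hr) hzS).1 hrz))
    rwa [mul_inv_cancel_left] at h2
  haveI : Finite θ.range := Finite.of_surjective _ θ.rangeRestrict_surjective
  haveI : Finite S' := hrange ▸ (inferInstance : Finite θ.range)
  have hS'p : IsPGroup p S' := hrange ▸ hS.of_surjective _ θ.rangeRestrict_surjective
  have hPn : F.IsFullyNormalized P := by
    refine ⟨hPS, fun R hR => ?_⟩
    obtain ⟨f, hf⟩ := isConj_iff.1 hR
    obtain ⟨f', hf', hf'f⟩ := exists_iso_image hE hsc hf hQP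
    rw [himP] at hf'
    have hQR : Q ≤ R := fun y hy => by
      obtain ⟨x, hx, rfl⟩ := (StronglyClosed.iso_self hsc hf.1 hQP).exists_eq hy
      exact hf.mem (hQP hx)
    have hle : normalizerIn S R ≤ preimageAlong θ (normalizerIn S' (imageAlong θ R)) := by
      rintro x ⟨hxS, hxn⟩
      refine mem_pre.2 ⟨hxS, hrange ▸ thFn_mem_range _ hxS,
        Subgroup.mem_normalizer_iff.2 fun z => ⟨fun hz => ?_, fun hz => ?_⟩⟩
      · obtain ⟨r, hr, rfl⟩ := (mem_imageAlong hf.right_le).1 hz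
        exact (mem_imageAlong hf.right_le).2
          ⟨_, (Subgroup.mem_normalizer_iff.1 hxn r).1 hr, thFn_conj hxS (hf.right_le hr)⟩
      · obtain ⟨r, hr, hrz⟩ := (mem_imageAlong hf.right_le).1 hz
        refine (mem_imageAlong hf.right_le).2
          ⟨_, (Subgroup.mem_normalizer_iff''.1 hxn r).1 hr, ?_⟩
        rw [thFn_mul (S.mul_mem (S.inv_mem hxS) (hf.right_le hr)) hxS,
          thFn_mul (S.inv_mem hxS) (hf.right_le hr), thFn_inv hxS, hrz]
        group
    haveI := finite_of_le (pre_le (θ := θ) (P' := normalizerIn S' (imageAlong θ R)))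
    refine (Subgroup.card_le_of_le hle).trans ?_
    rw [hTeq, card_preimageAlong hQS hker (hrange.symm ▸ inf_le_left),
      card_preimageAlong hQS hker hT'r]
    exact Nat.mul_le_mul_left _ (hP'n.2 _ hf'.isConj)
  obtain ⟨D, L, _, ι, hD, hM⟩ := exists_normalizer_model hS hF hPn hPc
  haveI : Finite L := hM.1
  have hmemT : ∀ x ∈ normalizerIn S P, thFn θ x ∈ normalizerIn S' P' := fun x hx =>
    (mem_pre.1 (hTeq.le hx)).2
  haveI : Finite (normalizerIn S P) := finite_of_le inf_le_left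
  haveI : Finite (normalizerIn S' P') := finite_of_le inf_le_left
  have hTp : IsPGroup p (normalizerIn S P) := hS.to_le inf_le_left
  have hT'p : IsPGroup p (normalizerIn S' P') := hS'p.to_le inf_le_left
  have hPT : P ≤ normalizerIn S P := le_inf hPS Subgroup.le_normalizer
  have hP'T : P' ≤ normalizerIn S' P' := le_inf hP'c.1 Subgroup.le_normalizer
  have hQT : Q ≤ normalizerIn S P := hQP.trans hPT
  have hDP := normalizerSystem_isNormal hD hPS
  have hDQ : D.IsNormal Q := by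
    refine isNormal_iff.2 ⟨hQT, fun X f hf => ?_⟩
    obtain ⟨k, hk, hkf, -⟩ := (isNormal_iff.1 hDP).2 X f hf
    exact ⟨k, hk.mono (sup_le_sup_left hQP X), hkf, (StronglyClosed.iso_self hsc
      ((mor_normalizerSystem hD).1 hk).1 (hQP.trans le_sup_right)).2⟩
  haveI := model_normal_image hM hDQ
  haveI := model_normal_image hM hDP
  set QL := (Q.subgroupOf (normalizerIn S P)).map ι with hQL
  set mk := QuotientGroup.mk' QL with hmk
  have hQL' : ∀ x : normalizerIn S P, ι x ∈ QL ↔ (x : Ω) ∈ Q := fun x =>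
    ⟨fun ⟨y, hy, hyx⟩ => hM.2.1.1 hyx ▸ hy, fun hx => ⟨x, hx, rfl⟩⟩
  have hsurjT : ∀ y : normalizerIn S' P', ∃ x : normalizerIn S P, thFn θ x = y := fun y => by
    obtain ⟨x, hx, hxy⟩ := exists_pre hT'r y.2
    exact ⟨⟨x, hTeq.ge hx⟩, hxy⟩
  choose lift hlift using hsurjT
  have hwd : ∀ x y : normalizerIn S P, thFn θ x = thFn θ y → mk (ι x) = mk (ι y) := by
    intro x y h
    refine QuotientGroup.eq.2 ?_
    rw [← map_inv, ← map_mul]
    exact (hQL' _).2 ((thFn_eq_iff hker x.2.1 y.2.1).1 h)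
  let ιY : normalizerIn S' P' →* L ⧸ QL :=
    MonoidHom.mk' (fun y => mk (ι (lift y))) fun y z => by
      rw [← map_mul, ← map_mul]
      refine hwd _ _ ?_
      rw [hlift, Subgroup.coe_mul, Subgroup.coe_mul, thFn_mul (lift y).2.1 (lift z).2.1, hlift,
        hlift]
  have hιY : ∀ (x : normalizerIn S P) (y : normalizerIn S' P'), thFn θ x = y →
      ιY y = mk (ι x) := fun x y h => hwd _ _ ((hlift y).trans h.symm)
  have hinjY : Function.Injective ιY := fun y z h => by
    have h1 := QuotientGroup.eq.1 h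
    rw [← map_inv, ← map_mul, hQL'] at h1
    refine Subtype.ext ?_
    rw [← hlift y, ← hlift z]
    exact (thFn_eq_iff hker (lift y).2.1 (lift z).2.1).2 h1
  have hTY : ∃ T : Sylow p (L ⧸ QL), (T : Subgroup (L ⧸ QL)) = ιY.range := by
    obtain ⟨T, hT⟩ := hM.2.2.1
    refine ⟨T.mapSurjective (QuotientGroup.mk'_surjective QL), ?_⟩
    rw [Sylow.coe_mapSurjective, hT]
    ext w
    constructor
    · rintro ⟨_, ⟨x, rfl⟩, rfl⟩
      exact ⟨⟨_, hmemT x x.2⟩, hιY x _ rfl⟩
    · rintro ⟨y, rfl⟩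
      exact ⟨_, ⟨lift y, rfl⟩, rfl⟩
  have hrealY : N'.IsRealizedBy ιY := by
    refine ⟨hinjY, fun X hX χ hχ => ⟨fun h => ?_, ?_⟩⟩
    · obtain ⟨-, -, -, k', hk', hk'f, hk'P⟩ := (mor_normalizerSystem hN').1 (mor_extendFn h)
      obtain ⟨-, k, hk, hkk⟩ := (mor_factor hE hsc).1 hk'
      set W := preimageAlong θ (X ⊔ P')
      have hWT : W ≤ normalizerIn S P := fun x hx => hTeq.ge
        (mem_pre.2 ⟨(mem_pre.1 hx).1, sup_le hX hP'T (mem_pre.1 hx).2⟩)
      have hPW : P ≤ W := fun x hx =>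
        mem_pre.2 ⟨hPS hx, Subgroup.mem_sup_right (mem_pre.1 hx).2⟩
      have hkP : ∀ x ∈ P, k x ∈ P := fun x hx => mem_pre.2 ⟨hk.mem_S (hPW hx), by
        rw [← hkk x (hPW hx)]
        exact (hk'P _).2 ⟨_, (mem_pre.1 hx).2, rfl⟩⟩
      have hkI : Iso F P P k := ⟨hk.mono hPW, fun y =>
        ⟨fun hy => (hk.mono hPW).surj_of_card hPS hkP le_rfl hy,
          fun ⟨x, hx, hxy⟩ => hxy ▸ hkP x hx⟩⟩
      have hkD : Mor D W k := (mor_normalizerSystem hD).2 ⟨hk, hWT,
        fun x hx => hk.mem_normalizerIn hPW hkI hx (hWT hx).2, k, hk.mono (sup_le le_rfl hPW),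
        fun _ _ => rfl, hkI.2⟩
      obtain ⟨-, hkT, l, hl⟩ := (mor_realized hM.2.1).1 hkD
      refine ⟨mk l, fun x => ?_⟩
      obtain ⟨y, hy, hyx⟩ := exists_pre (θ := θ) (hrange.symm ▸ (sup_le hX hP'T).trans inf_le_left)
        (Subgroup.mem_sup_left (T := P') x.2)
      have h1 : thFn θ (k y) = χ x := by
        rw [← hkk y hy, hyx, hk'f x x.2, extendFn_coe]
      rw [hιY ⟨y, hWT hy⟩ ⟨x, hX x.2⟩ hyx, hιY ⟨k y, hkT y hy⟩ ⟨χ x, hχ x⟩ h1, ← map_inv,
        ← map_mul, ← map_mul, ← hl ⟨y, hWT hy⟩ hy, thFn_apply (hkT y hy)]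
    · rintro ⟨lbar, hl⟩
      obtain ⟨l, rfl⟩ := QuotientGroup.mk'_surjective QL lbar
      set W := preimageAlong θ X
      have hWT : W ≤ normalizerIn S P := fun x hx => hTeq.ge
        (mem_pre.2 ⟨(mem_pre.1 hx).1, hX (mem_pre.1 hx).2⟩)
      have hex : ∀ x : normalizerIn S P, (x : Ω) ∈ W → ∃ w : normalizerIn S P,
          l * ι x * l⁻¹ = ι w ∧ thFn θ w = extendFn χ (thFn θ x) := by
        intro x hx
        have hxX := (mem_pre.1 hx).2
        have h1 := hl ⟨_, hxX⟩
        rw [hιY x ⟨_, hX hxX⟩ rfl, ← map_inv, ← map_mul, ← map_mul,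
          show ιY _ = mk _ from hιY (lift ⟨χ ⟨_, hxX⟩, hχ _⟩) _ (hlift _)] at h1
        obtain ⟨q, hq, hq'⟩ := QuotientGroup.eq.1 h1
        refine ⟨lift ⟨χ ⟨_, hxX⟩, hχ _⟩ * q, ?_, ?_⟩
        · rw [map_mul, hq']
          group
        · rw [Subgroup.coe_mul, thFn_mul (lift _).2.1 q.2.1, (thFn_eq_one_iff hker q.2.1).2 hq,
            mul_one, hlift, extendFn_apply χ hxX]
      have hkD : Mor D W (pullConj ι l) := by
        refine (mor_realized hM.2.1).2 ⟨hWT, fun z hz => ?_, l, fun z hz => ?_⟩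
        · obtain ⟨w, hw, -⟩ := hex ⟨z, hWT hz⟩ hz
          exact pullConj_eq hM.2.1.1 hw ▸ w.2
        · obtain ⟨w, hw, -⟩ := hex z hz
          rw [pullConj_eq hM.2.1.1 hw, thFn_coe, hw]
      obtain ⟨k, hk, hkf, hkP⟩ := (isNormal_iff.1 hDP).2 W _ hkD
      obtain ⟨hkF, -⟩ := (mor_normalizerSystem hD).1 hk
      obtain ⟨I, hI⟩ := hkF.exists_iso
      obtain ⟨k', hk', hk'k⟩ := exists_iso_image hE hsc hI (hQP.trans le_sup_right)
      have hWPS : W ⊔ P ≤ S := hkF.le
      have hsup : X ⊔ P' ≤ imageAlong θ (W ⊔ P) := by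
        refine sup_le (fun z hz => ?_) fun z hz => ?_
        · obtain ⟨x, hx, rfl⟩ := exists_pre (θ := θ)
            (hrange.symm ▸ hX.trans inf_le_left) hz
          exact (mem_imageAlong hWPS).2 ⟨x, Subgroup.mem_sup_left hx, rfl⟩
        · obtain ⟨x, hx, rfl⟩ := exists_pre (θ := θ) hP'r hz
          exact (mem_imageAlong hWPS).2 ⟨x, Subgroup.mem_sup_right hx, rfl⟩
      have hval : ∀ z ∈ X, k' z = extendFn χ z := fun z hz => by
        obtain ⟨x, hx, rfl⟩ := exists_pre (θ := θ) (hrange.symm ▸ hX.trans inf_le_left) hz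
        obtain ⟨w, hw, hwx⟩ := hex ⟨x, hWT hx⟩ hx
        rw [hk'k x (Subgroup.mem_sup_left hx), hkf x hx,
          pullConj_eq hM.2.1.1 (x := ⟨x, hWT hx⟩) hw, hwx]
      have hE1 : Mor E (X ⊔ P') k' := hk'.1.mono hsup
      have hkP' : ∀ y, y ∈ P' ↔ ∃ x ∈ P', k' x = y := by
        intro y
        constructor
        · intro hy
          obtain ⟨x, hx, rfl⟩ := exists_pre (θ := θ) hP'r hy
          obtain ⟨x₀, hx₀, rfl⟩ := (hkP x).1 hx
          exact ⟨thFn θ x₀, (mem_pre.1 hx₀).2, hk'k x₀ (Subgroup.mem_sup_right hx₀)⟩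
        · rintro ⟨z, hz, rfl⟩
          obtain ⟨x, hx, rfl⟩ := exists_pre (θ := θ) hP'r hz
          rw [hk'k x (Subgroup.mem_sup_right hx)]
          exact (mem_pre.1 ((hkP _).2 ⟨x, hx, rfl⟩)).2
      have hmor : Mor N' X (extendFn χ) := (mor_normalizerSystem hN').2
        ⟨(hE1.mono le_sup_left).congr fun z hz => (hval z hz).symm, hX,
          fun z hz => extendFn_apply χ hz ▸ hχ ⟨z, hz⟩, k', hE1, hval, hkP'⟩
      exact hmor.hom_eq fun x => (extendFn_coe χ x).symm
  set O := pPrimeCore p (L ⧸ QL) with hO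
  obtain ⟨hrX, hTX⟩ := realized_quotient hT'p hrealY hTY O
    Cfsg.Agent.Core.coprime_card_pPrimeCore
  set NP := ((P.subgroupOf (normalizerIn S P)).map ι).map mk with hNP
  haveI hNPn : NP.Normal := Subgroup.Normal.map inferInstance _ (QuotientGroup.mk'_surjective QL)
  have hNPp : IsPGroup p NP := ((hTp.to_subgroup _).map ι).map mk
  have hNP' : ∀ y : normalizerIn S' P', (y : Ω') ∈ P' → ιY y ∈ NP := fun y hy =>
    ⟨_, ⟨lift y, mem_pre.2 ⟨(lift y).2.1, (hlift y).symm ▸ hy⟩, rfl⟩, rfl⟩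
  set C := Subgroup.centralizer (NP : Set (L ⧸ QL)) with hC
  have hCT : ∀ y : normalizerIn S' P', ιY y ∈ C → (y : Ω') ∈ P' := by
    intro y hy
    refine centric_self hP'c ⟨y.2.1, Subgroup.mem_centralizer_iff.2 fun z hz => ?_⟩
    have h1 := Subgroup.mem_centralizer_iff.1 hy _ (hNP' ⟨z, hP'T hz⟩ hz)
    rw [← map_mul, ← map_mul] at h1
    exact congrArg Subtype.val (hinjY h1)
  set Z := NP ⊓ C with hZ
  have hCle : C ≤ NP ⊔ O := by
    obtain ⟨T, hT⟩ := hTY
    have hTC : (T : Subgroup (L ⧸ QL)) ⊓ C ≤ Z := by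
      rintro w ⟨hw, hwC⟩
      rw [hT] at hw
      obtain ⟨y, rfl⟩ := hw
      exact ⟨hNP' y (hCT y hwC), hwC⟩
    have hidx : ¬ p ∣ Z.relIndex C := by
      intro hd
      refine T.not_dvd_index (hd.trans (dvd_trans ?_
        (relIndex_normal_dvd (T : Subgroup (L ⧸ QL)) C)))
      have h1 := Subgroup.relIndex_dvd_of_le_left C hTC
      rwa [Subgroup.inf_relIndex_right (T : Subgroup (L ⧸ QL)) C] at h1
    have hcop : (Nat.card (Z.subgroupOf C)).Coprime (Z.subgroupOf C).index := by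
      obtain ⟨e, he⟩ := IsPGroup.iff_card.1 (hNPp.to_le (inf_le_left : Z ≤ NP))
      rw [Nat.card_congr (Subgroup.subgroupOfEquivOfLe (inf_le_right : Z ≤ C)).toEquiv, he]
      exact Nat.Coprime.pow_left _ ((Fact.out : p.Prime).coprime_iff_not_dvd.2 hidx)
    obtain ⟨K, hK⟩ := Subgroup.exists_right_complement'_of_coprime hcop
    have hcen : Z.subgroupOf C ≤ Subgroup.centralizer (K : Set C) := fun a ha =>
      Subgroup.mem_centralizer_iff.2 fun k _ =>
        Subtype.ext (Subgroup.mem_centralizer_iff.1 k.2 _ ha.1).symm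
    have hKn : K.Normal := by
      rw [← Subgroup.normalizer_eq_top_iff, eq_top_iff, ← hK.sup_eq_top]
      exact sup_le (hcen.trans (Subgroup.centralizer_le_normalizer _)) Subgroup.le_normalizer
    have hKO : K.map C.subtype ≤ O := by
      refine Cfsg.Agent.Layer.subnormal_le_pPrimeCore (hKn.isSubnormal.trans'
        (Subgroup.Normal.isSubnormal inferInstance)) ?_
      rw [Subgroup.card_map_of_injective C.subtype_injective,
        show Nat.card K = (Z.subgroupOf C).index from hK.symm.index_eq_card.symm]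
      exact ((Fact.out : p.Prime).coprime_iff_not_dvd.2 hidx).symm
    have h2 := Subgroup.map_mono (f := C.subtype) hK.sup_eq_top.ge
    rw [← MonoidHom.range_eq_map, Subgroup.range_subtype, Subgroup.map_sup] at h2
    exact h2.trans (sup_le (((Subgroup.map_subgroupOf_eq_of_le inf_le_right).le.trans
      inf_le_left).trans le_sup_left) (hKO.trans le_sup_right))
  set mkO := QuotientGroup.mk' O with hmkO
  haveI : (NP.map mkO).Normal := hNPn.map _ (QuotientGroup.mk'_surjective O)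
  have hNXle : Subgroup.centralizer ((NP.map mkO : Subgroup _) : Set ((L ⧸ QL) ⧸ O)) ≤
      NP.map mkO := by
    intro g hg
    obtain ⟨g, rfl⟩ := QuotientGroup.mk'_surjective O g
    have hgC : g ∈ C := Subgroup.mem_centralizer_iff.2 fun a ha => by
      have h1 := Subgroup.mem_centralizer_iff.1 hg _ ⟨a, ha, rfl⟩
      rw [← map_mul, ← map_mul] at h1
      have h2 : (a * g)⁻¹ * (g * a) ∈ NP ⊓ O := by
        refine ⟨?_, QuotientGroup.eq.1 h1⟩
        have e : (a * g)⁻¹ * (g * a) = (g⁻¹ * a⁻¹ * g) * a := by group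
        rw [e]
        exact NP.mul_mem (by simpa using hNPn.conj_mem _ (NP.inv_mem ha) g⁻¹) ha
      rw [Cfsg.Agent.Layer.inf_eq_bot_of_isPGroup hNPp
        Cfsg.Agent.Core.coprime_card_pPrimeCore, Subgroup.mem_bot, inv_mul_eq_one] at h2
      exact h2
    have h3 := Subgroup.mem_map_of_mem mkO (hCle hgC)
    rwa [Subgroup.map_sup, show O.map mkO = ⊥ from QuotientGroup.map_mk'_self O,
      sup_bot_eq] at h3
  have hX : N'.IsModel p ((L ⧸ QL) ⧸ O) (mkO.comp ιY) := by
    refine ⟨inferInstance, hrX, hTX, ?_⟩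
    have hle : NP.map mkO ≤ pCore p ((L ⧸ QL) ⧸ O) := Cfsg.Agent.Core.le_pCore (hNPp.map _)
    exact (Subgroup.centralizer_le hle).trans (hNXle.trans hle)
  obtain ⟨φ, -⟩ := model_unique hT'p (model_constrained hM') hX hM'
  have hs : Function.Surjective (φ.toMonoidHom.comp (mkO.comp mk)) :=
    φ.surjective.comp ((QuotientGroup.mk'_surjective O).comp (QuotientGroup.mk'_surjective QL))
  exact hfree P hPn hPc D hD L ι hM (involves_of_surjective hs hinv)

end Cfsg.Agent.FusSys
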