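import Cfsg.Agent.FusSys.Transvection
import Cfsg.Agent.FusSys.FactorFree
import Cfsg.Agent.FusSys.GroupSys
import Cfsg.Agent.Invol.BaerSuzuki

/-!
An element inducing a transvection outside the largest normal `2`-subgroup modulo the centralizer
of an abelian normal `2`-subgroup yields a section isomorphic to the symmetric group of degree 4.
-/

set_option autoImplicit false

namespace Cfsg.Agent.FusSys

open Subgroup
open scoped commutatorElement

universe u

/-- An element of odd order modulo the centralizer of an abelian `2`-group fixing all its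
involutions centralizes it. -/
theorem mem_centralizer_of_fix_involutions {G : Type*} [Group G] (V : Subgroup G) [V.Normal]
    (hVc : IsMulCommutative V) (hV2 : IsPGroup 2 V) {s : G} {m : ℕ} (hm : Odd m)
    (hsm : s ^ m ∈ centralizer (V : Set G))
    (hfix : ∀ v ∈ V, v ^ 2 = 1 → s * v * s⁻¹ = v) : s ∈ centralizer (V : Set G) := by
  have hcomm : ∀ {x y : G}, x ∈ V → y ∈ V → Commute x y := fun hx hy =>
    congrArg (fun z : V => (z : G)) (hVc.is_comm.comm ⟨_, hx⟩ ⟨_, hy⟩)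
  suffices h : ∀ k, ∀ v ∈ V, v ^ 2 ^ k = 1 → s * v * s⁻¹ = v by
    refine mem_centralizer_iff.2 fun v hv => ?_
    obtain ⟨k, hk⟩ := hV2 ⟨v, hv⟩
    exact (mul_inv_eq_iff_eq_mul.1 (h k v hv (congrArg Subtype.val hk))).symm
  intro k
  induction k with
  | zero =>
    intro v hv h1
    rw [pow_zero, pow_one] at h1
    rw [h1]; group
  | succ k ih =>
    intro v hv h1
    rw [pow_succ', pow_mul] at h1
    have hsq := ih (v ^ 2) (pow_mem hv 2) h1
    set d := s * v * s⁻¹ * v⁻¹ with hd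
    have hdV : d ∈ V := mul_mem ((inferInstance : V.Normal).conj_mem v hv s) (inv_mem hv)
    have hsv : s * v * s⁻¹ = d * v := by rw [hd]; group
    have hd2 : d ^ 2 = 1 := by
      rw [← conj_pow, hsv, (hcomm hdV hv).mul_pow] at hsq
      exact mul_eq_right.1 hsq
    have hsd := hfix d hdV hd2
    have hiter : ∀ i : ℕ, s ^ i * v * (s ^ i)⁻¹ = d ^ i * v := by
      intro i
      induction i with
      | zero => simp
      | succ i ihi =>
        calc s ^ (i + 1) * v * (s ^ (i + 1))⁻¹ = s * (s ^ i * v * (s ^ i)⁻¹) * s⁻¹ := by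
              rw [pow_succ' s i]; group
          _ = (s * d ^ i * s⁻¹) * (s * v * s⁻¹) := by rw [ihi]; group
          _ = d ^ (i + 1) * v := by rw [← conj_pow, hsd, hsv, ← mul_assoc, ← pow_succ]
    have hdm : d ^ m = 1 := by
      have h2 := hiter m
      rw [← mem_centralizer_iff.1 hsm v hv, mul_inv_cancel_right, eq_comm, mul_eq_right] at h2
      exact h2
    obtain ⟨l, rfl⟩ := hm
    rw [pow_succ, pow_mul, hd2, one_pow, one_mul] at hdm
    rw [hsv, hdm, one_mul]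

variable {G : Type u} [Group G] [Finite G]

/-- An element inducing a transvection on a normal abelian `2`-group, outside every normal
`2`-subgroup modulo its centralizer, yields a section isomorphic to the symmetric group of
degree 4. -/
theorem involves_s4_of_transvection_mod (V : Subgroup G) [V.Normal] (hVc : IsMulCommutative V)
    (hV2 : IsPGroup 2 V) {x : G} (hxV : x ∉ centralizer (V : Set G))
    (hx2 : x * x ∈ centralizer (V : Set G)) (hi : (centralizer ({x} : Set G)).relIndex V ≤ 2)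
    (hO : ∀ T : Subgroup G, T.Normal → centralizer (V : Set G) ≤ T →
      (∀ t ∈ T, ∃ k, t ^ 2 ^ k ∈ centralizer (V : Set G)) → x ∉ T) :
    Cfsg.Involves (Equiv.Perm (Fin 4)) G := by
  classical
  haveI : Fact (Nat.Prime 2) := ⟨Nat.prime_two⟩
  set C := centralizer (V : Set G) with hC
  let q := QuotientGroup.mk' C
  have hq1 : ∀ {y : G}, q y = 1 ↔ y ∈ C := fun {y} => QuotientGroup.eq_one_iff y
  -- an inverted element of odd order
  have hqx : orderOf (q x) = 2 := orderOf_eq_prime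
    (by rw [pow_two, ← map_mul]; exact hq1.2 hx2) fun h => hxV (hq1.1 h)
  obtain ⟨-, hh, hh1, hhodd, hhinv, -⟩ := Invol.exists_inverted_odd hqx (fun N hN hNp hxN =>
    hO (N.comap q) (hN.comap q) (fun y hy => by rw [mem_comap, hq1.2 hy]; exact one_mem N)
      (fun t ht => by
        obtain ⟨k, hk⟩ := hNp ⟨q t, ht⟩
        exact ⟨k, hq1.1 (by rw [map_pow]; exact congrArg Subtype.val hk)⟩) hxN)
  obtain ⟨s, rfl⟩ := QuotientGroup.mk'_surjective C hh
  have hsinv : x * s * x⁻¹ * s ∈ C := by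
    refine hq1.1 ?_
    rw [map_mul, map_mul, map_mul, map_inv]
    exact hhinv ▸ inv_mul_cancel _
  -- the involutions of `V`
  have hcomm : ∀ {a b : G}, a ∈ V → b ∈ V → Commute a b := fun ha hb =>
    congrArg (fun z : V => (z : G)) (hVc.is_comm.comm ⟨_, ha⟩ ⟨_, hb⟩)
  let E : Subgroup G :=
    { carrier := {v | v ∈ V ∧ v ^ 2 = 1}
      mul_mem' := fun {a b} ha hb => ⟨mul_mem ha.1 hb.1, by
        rw [(hcomm ha.1 hb.1).mul_pow, ha.2, hb.2, one_mul]⟩
      one_mem' := ⟨one_mem V, one_pow 2⟩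
      inv_mem' := fun {a} ha => ⟨inv_mem ha.1, by rw [inv_pow, ha.2, inv_one]⟩ }
  have hEV : E ≤ V := fun v hv => hv.1
  haveI hEn : E.Normal := ⟨fun v hv g => ⟨(inferInstance : V.Normal).conj_mem v hv.1 g, by
    rw [conj_pow, hv.2]; group⟩⟩
  set CE := centralizer (E : Set G) with hCE
  have hCCE : C ≤ CE := centralizer_le hEV
  let qE := QuotientGroup.mk' CE
  have hqE1 : ∀ {y : G}, qE y = 1 ↔ y ∈ CE := fun {y} => QuotientGroup.eq_one_iff y
  have hsm : s ^ orderOf (q s) ∈ C := hq1.1 (by rw [map_pow, pow_orderOf_eq_one])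
  have hsE : s ∉ CE := fun h => hh1 (hq1.2 (mem_centralizer_of_fix_involutions V hVc hV2 hhodd hsm
    fun v hv hv2 => by
      rw [← mem_centralizer_iff.1 h v ⟨hv, hv2⟩, mul_inv_cancel_right]))
  -- an element of prime power order with the same properties
  have hn : orderOf (qE s) ∣ orderOf (q s) := orderOf_dvd_of_pow_eq_one (by
    rw [← map_pow]; exact hqE1.2 (hCCE hsm))
  have hn1 : orderOf (qE s) ≠ 1 := fun h => hsE (hqE1.1 (orderOf_eq_one_iff.1 h))
  set r := (orderOf (qE s)).minFac with hr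
  haveI hrp : Fact r.Prime := ⟨Nat.minFac_prime hn1⟩
  have hrn : r ∣ orderOf (qE s) := Nat.minFac_dvd _
  have hrodd : Odd r := hhodd.of_dvd_nat (hrn.trans hn)
  set s₁ := s ^ (orderOf (qE s) / r) with hs₁
  have ho₁ : orderOf (qE s₁) = r := by
    rw [hs₁, map_pow, orderOf_pow_of_dvd (Nat.div_pos (Nat.le_of_dvd (orderOf_pos _) hrn)
      hrp.1.pos).ne' (Nat.div_dvd_of_dvd hrn), Nat.div_div_self hrn (orderOf_pos _).ne']
  obtain ⟨a, b, hrb, hab⟩ := Nat.exists_eq_pow_mul_and_not_dvd (orderOf_pos s₁).ne' r hrp.1.ne_one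
  set s₂ := s₁ ^ b with hs₂
  have hs₂r : s₂ ^ r ^ a = 1 := by
    rw [hs₂, ← pow_mul, mul_comm b, ← hab, pow_orderOf_eq_one]
  have hs₂1 : qE s₂ ≠ 1 := by
    rw [hs₂, map_pow, Ne, ← orderOf_dvd_iff_pow_eq_one, ho₁]
    exact hrb
  have hs₂o : qE s₂ ^ r = 1 := by
    rw [hs₂, map_pow, ← pow_mul, mul_comm, pow_mul, ← ho₁, pow_orderOf_eq_one, one_pow]
  have hinvE : qE x * qE s₂ * (qE x)⁻¹ = (qE s₂)⁻¹ := by
    have h : qE x * qE s * (qE x)⁻¹ = (qE s)⁻¹ := eq_inv_of_mul_eq_one_left (by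
      rw [← map_inv, ← map_mul, ← map_mul, ← map_mul]
      exact hqE1.2 (hCCE hsinv))
    rw [hs₂, hs₁, map_pow, map_pow, ← pow_mul, ← conj_pow, h, inv_pow]
  have hxx : qE x * qE x = 1 := by rw [← map_mul]; exact hqE1.2 (hCCE hx2)
  -- a conjugate of `x` normalizing a Sylow subgroup
  set M := (zpowers (qE s₂)).comap qE with hM
  have hMc : ∀ y ∈ M, x * y * x⁻¹ ∈ M := fun y hy => by
    obtain ⟨i, hi⟩ := mem_comap.1 hy
    refine mem_comap.2 ⟨-i, ?_⟩
    show qE s₂ ^ (-i) = qE (x * y * x⁻¹)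
    rw [map_mul, map_mul, map_inv, ← hi, ← conj_zpow, hinvE, inv_zpow, zpow_neg]
  have hsM : s₂ ∈ M := mem_comap.2 (mem_zpowers _)
  have hs₂p : IsPGroup r (zpowers s₂) := by
    obtain ⟨c, -, hc⟩ := (Nat.dvd_prime_pow hrp.1).1 (orderOf_dvd_of_pow_eq_one hs₂r)
    exact IsPGroup.of_card (n := c) (by rw [Nat.card_zpowers, hc])
  obtain ⟨Rs, hRs⟩ := IsPGroup.exists_le_sylow
    (hs₂p.comap_subtype (K := M) : IsPGroup r ((zpowers s₂).subgroupOf M))
  set R := (Rs : Subgroup M).map M.subtype with hR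
  have hRp : IsPGroup r R := Rs.2.map _
  have hRM : R ≤ M := map_subtype_le _
  have hRS : SylIn r R M := (sylIn_iff hRp hRM).2
    ⟨Rs, (comap_map_eq_self_of_injective M.subtype_injective _).symm⟩
  have hsR : s₂ ∈ R := ⟨⟨s₂, hsM⟩, hRs (mem_subgroupOf.2 (mem_zpowers _)), rfl⟩
  obtain ⟨m, hmM, hmR⟩ := exists_conj_mem_of_sylIn hRp hRS (hRp.map (MulAut.conj x).toMonoidHom) (by
    rintro _ ⟨y, hy, rfl⟩
    exact hMc y (hRM hy))
  set t := m * x with ht
  have htR : t ∈ normalizer (R : Set G) := mem_normalizer_of_maps fun y hy => by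
    have h := hmR _ (mem_map_of_mem _ hy)
    rw [MulEquiv.coe_toMonoidHom, MulAut.conj_apply] at h
    rw [show t * y * t⁻¹ = m * (x * y * x⁻¹) * m⁻¹ by rw [ht]; group]
    exact h
  obtain ⟨i, hi'⟩ := mem_comap.1 hmM
  have hqt : qE t = qE s₂ ^ i * qE x := by rw [ht, map_mul, ← hi']
  have hxz : ∀ j : ℤ, qE x * qE s₂ ^ j = qE s₂ ^ (-j) * qE x := fun j => by
    rw [← mul_inv_eq_iff_eq_mul, ← conj_zpow, hinvE, inv_zpow, zpow_neg]
  have ht2 : t * t ∈ CE := hqE1.1 (by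
    rw [map_mul, hqt, show qE s₂ ^ i * qE x * (qE s₂ ^ i * qE x) =
      qE s₂ ^ i * (qE x * qE s₂ ^ i) * qE x by group, hxz, mul_assoc, mul_assoc, hxx, mul_one,
      zpow_neg, mul_inv_cancel])
  have hts : qE t * qE s₂ * (qE t)⁻¹ = (qE s₂)⁻¹ := by
    rw [hqt, show qE s₂ ^ i * qE x * qE s₂ * (qE s₂ ^ i * qE x)⁻¹ =
      qE s₂ ^ i * (qE x * qE s₂ * (qE x)⁻¹) * (qE s₂ ^ i)⁻¹ by group, hinvE]
    group
  -- `t` is a transvection on the involutions of `V`
  obtain ⟨l, hl⟩ := hrodd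
  set u := s₂ ^ (i * (l + 1)) with hu
  have hqu : qE t = qE (u * x * u⁻¹) := by
    rw [hqt, map_mul, map_mul, map_inv, hu, map_zpow, ← zpow_neg, mul_assoc, hxz, neg_neg,
      ← mul_assoc, ← zpow_add]
    congr 1
    have e : i * (l + 1) + i * (l + 1) = i + (r : ℤ) * i := by rw [hl]; push_cast; ring
    rw [e, zpow_add, zpow_mul, zpow_natCast, hs₂o, one_zpow, mul_one]
  have hti : (centralizer ({t} : Set G)).relIndex E ≤ 2 := by
    have hc : u * x * u⁻¹ * t⁻¹ ∈ CE :=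
      hqE1.1 (by rw [map_mul, map_inv, ← hqu, mul_inv_cancel])
    have h1 : centralizer ({u * x * u⁻¹} : Set G) ⊓ E ≤ centralizer ({t} : Set G) := by
      rintro e ⟨he, heE⟩
      rw [mem_centralizer_singleton_iff]
      have c1 : Commute e (u * x * u⁻¹) := mem_centralizer_singleton_iff.1 he
      have c2 : Commute e (u * x * u⁻¹ * t⁻¹) := mem_centralizer_iff.1 hc e heE
      have e2 : t = (u * x * u⁻¹ * t⁻¹)⁻¹ * (u * x * u⁻¹) := by group
      rw [e2]
      exact (c2.inv_right.mul_right c1).eq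
    have hCmap : (centralizer ({x} : Set G)).map (MulAut.conj u).toMonoidHom ≤
        centralizer ({u * x * u⁻¹} : Set G) := by
      rintro _ ⟨c, hc, rfl⟩
      rw [mem_centralizer_singleton_iff, MulEquiv.coe_toMonoidHom, MulAut.conj_apply]
      calc u * c * u⁻¹ * (u * x * u⁻¹) = u * (c * x) * u⁻¹ := by group
        _ = u * (x * c) * u⁻¹ := by rw [mem_centralizer_singleton_iff.1 hc]
        _ = u * x * u⁻¹ * (u * c * u⁻¹) := by group
    refine le_trans (Nat.le_of_dvd (Nat.pos_of_ne_zero index_ne_zero_of_finite)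
      (relIndex_dvd_of_le_left E h1)) ?_
    show (centralizer ({u * x * u⁻¹} : Set G) ⊓ E).relIndex E ≤ 2
    rw [inf_relIndex_right]
    refine le_trans (Nat.le_of_dvd (Nat.pos_of_ne_zero index_ne_zero_of_finite)
      (relIndex_dvd_of_le_left E hCmap)) ?_
    have hEu : E.map (MulAut.conj u).toMonoidHom = E := mem_normalizer_iff_map_conj_eq.1
      (show u ∈ normalizer (E : Set G) by rw [normalizer_eq_top]; exact mem_top u)
    show ((centralizer ({x} : Set G)).map (MulAut.conj u).toMonoidHom).relIndex E ≤ 2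
    conv_lhs => rw [← hEu]
    rw [relIndex_map_map_of_injective _ _ (f := (MulAut.conj u).toMonoidHom)
      (MulAut.conj u).injective]
    exact le_trans (relIndex_le_of_le_right hEV index_ne_zero_of_finite) hi
  -- the section
  set R₀ := R ⊓ CE with hR₀
  set H := normalizer (R₀ : Set G) with hH
  have hRH : R ≤ H := fun y hy => mem_normalizer_of_maps fun z hz =>
    ⟨R.mul_mem (R.mul_mem hy hz.1) (R.inv_mem hy), (inferInstance : CE.Normal).conj_mem z hz.2 y⟩
  have htH : t ∈ H := mem_normalizer_of_maps fun z hz =>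
    ⟨(mem_normalizer_iff.1 htR z).1 hz.1, (inferInstance : CE.Normal).conj_mem z hz.2 t⟩
  have hEH : E ≤ H := fun e he => mem_normalizer_of_maps fun z hz => by
    rw [mem_centralizer_iff.1 hz.2 e he, mul_inv_cancel_right]
    exact hz
  haveI : (R₀.subgroupOf H).Normal := normal_in_normalizer
  let f := QuotientGroup.mk' (R₀.subgroupOf H)
  have hf1 : ∀ {y : H}, f y = 1 ↔ (y : G) ∈ R₀ := fun {y} =>
    (QuotientGroup.eq_one_iff y).trans mem_subgroupOf
  refine involves_of_injective (θ := H.subtype) H.subtype_injective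
    (involves_of_surjective (f := f) (QuotientGroup.mk'_surjective _) ?_)
  set E' := (E.subgroupOf H).map f
  set K' := (R.subgroupOf H).map f
  refine involves_s4_of_transvection (V := E') (K := K') (t := f ⟨t, htH⟩) ⟨?_, ?_⟩ ?_ ?_ ?_ ?_ ?_
    ?_ ?_ ?_ ?_
  · refine ⟨⟨?_⟩⟩
    rintro ⟨_, e₁, h1, rfl⟩ ⟨_, e₂, h2, rfl⟩
    refine Subtype.ext ?_
    show f e₁ * f e₂ = f e₂ * f e₁
    rw [← map_mul, ← map_mul]
    exact congrArg f (Subtype.ext (hcomm h1.1 h2.1).eq)
  · rintro _ ⟨e, he, rfl⟩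
    rw [← map_pow, hf1, SubgroupClass.coe_pow, (mem_subgroupOf.1 he).2]
    exact one_mem _
  · refine ⟨⟨?_⟩⟩
    rintro ⟨_, a₁, h1, rfl⟩ ⟨_, a₂, h2, rfl⟩
    refine Subtype.ext ?_
    show f a₁ * f a₂ = f a₂ * f a₁
    rw [← map_mul, ← map_mul, eq_comm, ← inv_mul_eq_one, ← map_inv, ← map_mul, hf1]
    have hab : qE a₁ * qE a₂ = qE a₂ * qE a₁ := by
      obtain ⟨j, hj⟩ := mem_comap.1 (hRM h1)
      obtain ⟨k, hk⟩ := mem_comap.1 (hRM h2)
      have hj' : qE s₂ ^ j = qE (a₁ : G) := hj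
      have hk' : qE s₂ ^ k = qE (a₂ : G) := hk
      rw [← hj', ← hk']
      exact (Commute.zpow_zpow_self _ _ _).eq
    refine ⟨?_, hqE1.1 ?_⟩
    · exact R.mul_mem (R.inv_mem (R.mul_mem h2 h1)) (R.mul_mem h1 h2)
    · simp only [Subgroup.coe_mul, Subgroup.coe_inv, map_mul, map_inv]
      rw [hab, inv_mul_cancel]
  · have hK'p : IsPGroup r K' := (hRp.comap_subtype : IsPGroup r (R.subgroupOf H)).map f
    obtain ⟨c, hc⟩ := IsPGroup.iff_card.1 hK'p
    rw [hc]
    exact Nat.Coprime.pow_left _ ((Nat.coprime_primes hrp.1 Nat.prime_two).2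
      (fun e => by rw [e] at hl; omega))
  · rintro _ ⟨y, -, rfl⟩
    refine mem_normalizer_of_maps ?_
    rintro _ ⟨e, he, rfl⟩
    exact ⟨y * e * y⁻¹, mem_subgroupOf.2 (hEn.conj_mem _ he _), by simp⟩
  · rw [eq_bot_iff]
    rintro _ ⟨⟨y, hy, rfl⟩, hyc⟩
    refine mem_bot.2 (hf1.2 ⟨hy, mem_centralizer_iff.2 fun e he => ?_⟩)
    have h1 := mem_centralizer_iff.1 hyc (f ⟨e, hEH he⟩) ⟨_, mem_subgroupOf.2 he, rfl⟩
    rw [← map_mul, ← map_mul, ← mul_inv_eq_one, ← map_inv, ← map_mul, hf1] at h1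
    set c := (e * (y : G)) * ((y : G) * e)⁻¹ with hcdef
    have hcR : c ∈ R₀ := h1
    have hcE : c ∈ E := by
      rw [hcdef, mul_inv_rev, ← mul_assoc, mul_assoc e, mul_assoc e]
      exact mul_mem he (hEn.conj_mem _ (inv_mem he) _)
    obtain ⟨k, hk⟩ := hRp ⟨c, hcR.1⟩
    have h3 := (pow_gcd_eq_one (a := c) (m := r ^ k) (n := 2)).2 ⟨congrArg Subtype.val hk, hcE.2⟩
    rw [Nat.Coprime.gcd_eq_one (Nat.Coprime.pow_left _ ((Nat.coprime_primes hrp.1 Nat.prime_two).2
      (fun e => by rw [e] at hl; omega))), pow_one] at h3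
    exact mul_inv_eq_one.1 h3
  · refine mem_normalizer_of_maps ?_
    rintro _ ⟨e, he, rfl⟩
    exact ⟨⟨t, htH⟩ * e * ⟨t, htH⟩⁻¹, mem_subgroupOf.2 (hEn.conj_mem _ he _), by simp⟩
  · refine mem_normalizer_of_maps ?_
    rintro _ ⟨y, hy, rfl⟩
    exact ⟨⟨t, htH⟩ * y * ⟨t, htH⟩⁻¹, mem_subgroupOf.2 ((mem_normalizer_iff.1 htR _).1 hy), by simp⟩
  · refine mem_centralizer_iff.2 ?_
    rintro _ ⟨e, he, rfl⟩
    rw [← map_mul, ← map_mul, ← map_mul]
    exact congrArg f (Subtype.ext (mem_centralizer_iff.1 ht2 _ he))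
  · let φ : E.subgroupOf H →* E' := MonoidHom.mk' (fun e => ⟨f e, ⟨e, e.2, rfl⟩⟩)
      fun a b => Subtype.ext (map_mul f _ _)
    have hφ : Function.Surjective φ := fun ⟨_, e, he, rfl⟩ => ⟨⟨e, he⟩, rfl⟩
    set Kc := ((centralizer ({t} : Set G)).subgroupOf H).subgroupOf (E.subgroupOf H)
    have hle : Kc.map φ ≤ (centralizer ({f ⟨t, htH⟩} : Set (H ⧸ R₀.subgroupOf H))).subgroupOf E' := by
      rintro _ ⟨e, he, rfl⟩
      refine mem_subgroupOf.2 (mem_centralizer_singleton_iff.2 ?_)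
      show f e * f ⟨t, htH⟩ = f ⟨t, htH⟩ * f e
      rw [← map_mul, ← map_mul]
      exact congrArg f (Subtype.ext (mem_centralizer_singleton_iff.1 he))
    have h1 : (centralizer ({f ⟨t, htH⟩} : Set (H ⧸ R₀.subgroupOf H))).relIndex E' ≤ Kc.index :=
      Nat.le_of_dvd (Nat.pos_of_ne_zero index_ne_zero_of_finite)
        ((index_dvd_of_le hle).trans (Subgroup.index_map_dvd _ hφ))
    refine h1.trans (le_of_eq_of_le ?_ hti)
    exact relIndex_subgroupOf hEH
  · intro hc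
    have h1 := mem_centralizer_iff.1 hc (f ⟨s₂, hRH hsR⟩) ⟨_, mem_subgroupOf.2 hsR, rfl⟩
    rw [← map_mul, ← map_mul, ← mul_inv_eq_one, ← map_inv, ← map_mul, hf1] at h1
    have h2 : qE (s₂ * t * (t * s₂)⁻¹) = 1 := hqE1.2 h1.2
    rw [map_mul, map_inv, map_mul, map_mul, mul_inv_eq_one] at h2
    have h3 : qE t * qE s₂ * (qE t)⁻¹ = qE s₂ := mul_inv_eq_iff_eq_mul.2 h2.symm
    rw [hts] at h3
    refine hs₂1 ?_
    have hsq : qE s₂ ^ 2 = 1 := by
      rw [pow_two]
      nth_rewrite 1 [← h3]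
      exact inv_mul_cancel _
    have h4 := (pow_gcd_eq_one (a := qE s₂) (m := r) (n := 2)).2 ⟨hs₂o, hsq⟩
    rwa [Nat.Coprime.gcd_eq_one ((Nat.coprime_primes hrp.1 Nat.prime_two).2
      (fun e => by rw [e] at hl; omega)), pow_one] at h4

end Cfsg.Agent.FusSys
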