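import Cfsg.Agent.FusSys.Centric
import Cfsg.Agent.FusSys.Embedded

/-!
Extendable automorphisms, essential subgroups and Alperin's fusion theorem for saturated systems.
-/

set_option autoImplicit false

namespace Cfsg.Agent.FusSys

open Cfsg Cfsg.FusionSystem

variable {Ω : Type*} [Group Ω] {S : Subgroup Ω}
variable {F : FusionSystem S} {P Q R : Subgroup Ω} {f g : Ω → Ω} {p : ℕ}

/-- The automorphisms of `P` that extend to a map of `F` on a larger subgroup. -/
def extGen (F : FusionSystem S) (P : Subgroup Ω) : Set (MulAut P) :=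
  {α | ∃ Q g, P < Q ∧ Mor F Q g ∧ ∀ x ∈ P, g x = apl α x}

theorem extGen_subset : extGen F P ⊆ F.autGroup P := by
  rintro α ⟨Q, g, hPQ, hg, hgα⟩
  refine Subgroup.subset_closure ?_
  exact ((hg.mono hPQ.le).congr fun x hx => (hgα x hx).symm).hom_eq fun x => (apl_coe α x).symm

theorem extGen_closure_le : Subgroup.closure (extGen F P) ≤ F.autGroup P :=
  (Subgroup.closure_le _).2 extGen_subset

theorem conj_mem_extGen (hP : P < S) {α : MulAut P} (hα : α ∈ autInducedBy S P) :
    α ∈ extGen F P := by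
  obtain ⟨g, hg, -, hgx⟩ := mem_autInducedBy_iff.1 hα
  exact ⟨S, _, hP, mor_conj le_rfl hg, fun x hx => (hgx x hx).symm⟩

theorem inn_le_extClosure (hP : P < S) : Inn P ≤ Subgroup.closure (extGen F P) := fun _ hα =>
  Subgroup.subset_closure (conj_mem_extGen hP (inn_le_autInducedBy hP.le hα))

/-- `Inn(P)` inside `Aut_F(P)`. -/
abbrev innIn (F : FusionSystem S) (P : Subgroup Ω) : Subgroup (F.autGroup P) :=
  (Inn P).subgroupOf (F.autGroup P)

theorem innIn_normal (F : FusionSystem S) (P : Subgroup Ω) : (innIn F P).Normal :=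
  Subgroup.normal_subgroupOf

/-- Conjugation by `g` lies in `Inn P` only for `g ∈ P C(P)`. -/
theorem mem_of_conj_mem_inn (hC : centralizerIn S P ≤ P) (hP : P ≤ S) {a : Ω} (ha : a ∈ S)
    {α : MulAut P} (hα : ∀ x ∈ P, apl α x = a * x * a⁻¹) (h : α ∈ Inn P) : a ∈ P := by
  obtain ⟨b, rfl⟩ := h
  have hc : (b : Ω)⁻¹ * a ∈ centralizerIn S P := by
    refine ⟨S.mul_mem (S.inv_mem (hP b.2)) ha, Subgroup.mem_centralizer_iff.2 fun x hx => ?_⟩
    have h1 := hα x hx
    rw [apl_conj b hx] at h1
    calc x * ((b : Ω)⁻¹ * a) = (b : Ω)⁻¹ * ((b : Ω) * x * (b : Ω)⁻¹) * a := by group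
      _ = (b : Ω)⁻¹ * (a * x * a⁻¹) * a := by rw [h1]
      _ = (b : Ω)⁻¹ * a * x := by group
  have := P.mul_mem b.2 (hC hc)
  rwa [mul_inv_cancel_left] at this

section Saturated

variable [Fact p.Prime] [Finite S] (hS : IsPGroup p S) (hF : F.IsSaturated p)
include hS hF

theorem mem_extGen_of_conj (hC : centralizerIn S P ≤ P) (hPn : F.IsFullyCentralized P)
    {α β : MulAut P} (hα : α ∈ F.autGroup P) (hβ : β ∈ autInducedBy S P) (hβI : β ∉ Inn P)
    (h : α * β * α⁻¹ ∈ autInducedBy S P) : α ∈ extGen F P := by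
  obtain ⟨a, ha, han, hax⟩ := mem_autInducedBy_iff.1 hβ
  obtain ⟨b, hb, -, hbx⟩ := mem_autInducedBy_iff.1 h
  have haN : a ∈ nPhi S P (apl α) := ⟨ha, han, b, hb, fun x hx => by
    rw [← hbx _ (apl_mem α hx), apl_mul _ _ (apl_mem α hx), apl_inv_apl _ hx, apl_mul _ _ hx,
      hax x hx]⟩
  have hi := iso_apl hPn.1 hα
  obtain ⟨g, hg, hgα⟩ :=
    (isReceptive_iff.1 (receptive_of_fullyCentralized hS hF hPn)).2 P _ hi
  refine ⟨_, g, lt_of_le_of_ne hi.1.le_nPhi fun he => ?_, hg, hgα⟩
  have haP : a ∈ P := by rw [he]; exact haN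
  exact hβI ⟨⟨a, haP⟩, apl_ext fun x hx => (apl_conj ⟨a, haP⟩ hx).trans (hax x hx).symm⟩

theorem extGen_eq_of_not_centric (hPn : F.IsFullyNormalized P) (hc : ¬ F.IsCentric P) :
    ∀ α ∈ F.autGroup P, α ∈ extGen F P := by
  intro α hα
  have hPc := fullyCentralized_of_fullyNormalized hS hF hPn
  have hC : ¬ centralizerIn S P ≤ P := fun h => hc (centric_of_fullyCentralized hPc h)
  have hi := iso_apl hPn.1 hα
  obtain ⟨g, hg, hgα⟩ :=
    (isReceptive_iff.1 (receptive_of_fullyCentralized hS hF hPc)).2 P _ hi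
  exact ⟨_, g, lt_of_le_of_ne hi.1.le_nPhi fun he => hC (by
    conv_rhs => rw [he]
    exact centralizerIn_le_nPhi), hg, hgα⟩

/-- The image of `Aut_S(P)` in `Out_F(P)`, as a Sylow subgroup. -/
theorem exists_sylow_out (hPn : F.IsFullyNormalized P) :
    haveI := innIn_normal F P
    ∃ T : Sylow p (F.autGroup P ⧸ innIn F P),
      (T : Subgroup (F.autGroup P ⧸ innIn F P)) =
        ((autInducedBy S P).subgroupOf (F.autGroup P)).map (QuotientGroup.mk' (innIn F P)) := by
  haveI := finite_of_le hPn.1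
  haveI := innIn_normal F P
  obtain ⟨-, T, hT⟩ := fullyAutomized_of_fullyNormalized hS hF hPn
  refine ⟨IsPGroup.toSylow (P := ((autInducedBy S P).subgroupOf (F.autGroup P)).map
    (QuotientGroup.mk' (innIn F P))) ((hT ▸ T.2).map _) fun hd => ?_, rfl⟩
  refine T.not_dvd_index (hT.symm ▸ hd.trans (Subgroup.index_map_dvd _ ?_))
  exact QuotientGroup.mk'_surjective _

/-- The two alternatives for a fully normalized proper subgroup. -/
theorem essential_or_extGen (hPS : P < S) (hPn : F.IsFullyNormalized P) :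
    haveI := innIn_normal F P
    (¬ F.IsEssential p P ∧ Subgroup.closure (extGen F P) = F.autGroup P) ∨
      (F.IsEssential p P ∧ IsStronglyPEmbedded p
        (((Subgroup.closure (extGen F P)).subgroupOf (F.autGroup P)).map
          (QuotientGroup.mk' (innIn F P)))) := by
  haveI := finite_of_le hPn.1
  haveI := innIn_normal F P
  by_cases hcen : F.IsCentric P
  swap
  · exact Or.inl ⟨fun h => hcen h.1, le_antisymm extGen_closure_le fun α hα =>
      Subgroup.subset_closure (extGen_eq_of_not_centric hS hF hPn hcen α hα)⟩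
  have hC : centralizerIn S P ≤ P := centric_self hcen
  obtain ⟨T, hT⟩ := exists_sylow_out hS hF hPn
  set H := (Subgroup.closure (extGen F P)).subgroupOf (F.autGroup P) with hH
  have hIH : innIn F P ≤ H := fun α hα => inn_le_extClosure hPS hα
  have hIT : innIn F P ≤ (autInducedBy S P).subgroupOf (F.autGroup P) := fun α hα =>
    inn_le_autInducedBy hPn.1 hα
  have hmemT : ∀ a : F.autGroup P, (QuotientGroup.mk' (innIn F P)) a ∈
      (T : Subgroup (F.autGroup P ⧸ innIn F P)) → (a : MulAut P) ∈ autInducedBy S P := by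
    intro a ha
    rw [hT, ← Subgroup.mem_comap, Subgroup.comap_map_eq, QuotientGroup.ker_mk',
      sup_of_le_left hIT] at ha
    exact ha
  have hmapne : ∀ K : Subgroup (F.autGroup P), innIn F P ≤ K →
      K.map (QuotientGroup.mk' (innIn F P)) = ⊤ → K = ⊤ := by
    intro K hK h
    have := Subgroup.comap_map_eq (QuotientGroup.mk' (innIn F P)) K
    rw [h, Subgroup.comap_top, QuotientGroup.ker_mk', sup_of_le_left hK] at this
    exact this.symm
  by_cases htop : Subgroup.closure (extGen F P) = F.autGroup P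
  · refine Or.inl ⟨fun hess => ?_, htop⟩
    obtain ⟨-, -, _, E, hE⟩ := hess
    obtain ⟨Y, hY, hN⟩ := exists_proper_of_stronglyPEmbedded hE T
    have hle : H.map (QuotientGroup.mk' (innIn F P)) ≤ Y := by
      rw [Subgroup.map_le_iff_le_comap]
      intro a ha
      have ha' : (a : MulAut P) ∈ Subgroup.closure (extGen F P) := ha
      suffices h : ∀ b ∈ Subgroup.closure (extGen F P), ∀ hb : b ∈ F.autGroup P,
          QuotientGroup.mk' (innIn F P) ⟨b, hb⟩ ∈ Y from h _ ha' a.2
      intro b hb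
      induction hb using Subgroup.closure_induction with
      | one =>
        intro hb
        have : (⟨1, hb⟩ : F.autGroup P) = 1 := rfl
        rw [this, map_one]
        exact Y.one_mem
      | mul u v hu hv ihu ihv =>
        intro huv
        have e : (⟨u * v, huv⟩ : F.autGroup P) =
            ⟨u, extGen_closure_le hu⟩ * ⟨v, extGen_closure_le hv⟩ := rfl
        rw [e, map_mul]
        exact Y.mul_mem (ihu _) (ihv _)
      | inv u hu ihu =>
        intro huv
        have e : (⟨u⁻¹, huv⟩ : F.autGroup P) = ⟨u, extGen_closure_le hu⟩⁻¹ := rfl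
        rw [e, map_inv]
        exact Y.inv_mem (ihu _)
      | mem u hu =>
        intro hu'
        obtain ⟨Q, g, hPQ, hg, hgu⟩ := hu
        obtain ⟨c, ⟨hcQ, hcn⟩, hcP⟩ :=
          SetLike.exists_of_lt (lt_inf_normalizer hS hg.le hPQ)
        obtain ⟨β, hβ, hβx⟩ := exists_mem_autInducedBy (P := P) (hg.le hcQ) hcn
        have hβA : β ∈ F.autGroup P := autInducedBy_le_autGroup hPn.1 hβ
        have hconj : u * β * u⁻¹ ∈ autInducedBy S P := by
          refine mem_autInducedBy_iff.2 ⟨g c, hg.mem_S hcQ, ?_, fun x hx => ?_⟩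
          · have hi : Iso F P P g := (iso_apl hPn.1 hu').congr hgu
            exact (hg.mem_normalizerIn hPQ.le hi hcQ hcn).2
          · have hy : apl u⁻¹ x ∈ P := apl_mem _ hx
            have hcy := (Subgroup.mem_normalizer_iff.1 hcn _).1 hy
            rw [apl_mul _ _ hx, apl_mul _ _ hy, hβx _ hy, ← hgu _ hcy,
              hg.map_conj hcQ (hPQ.le hy), hgu _ hy, apl_apl_inv _ hx]
        refine mem_of_normalizers_le T hN
          (Subgroup.zpowers (QuotientGroup.mk' (innIn F P) ⟨β, hβA⟩)) _ ?_ ?_ ?_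
        · rw [Subgroup.zpowers_le, hT]
          exact Subgroup.mem_map_of_mem _ hβ
        · rw [Ne, Subgroup.zpowers_eq_bot, QuotientGroup.mk'_apply, QuotientGroup.eq_one_iff]
          exact fun h => hcP (mem_of_conj_mem_inn hC hPn.1 (hg.le hcQ) hβx h)
        · rintro _ ⟨k, rfl⟩
          simp only
          rw [← conj_zpow]
          refine Subgroup.zpow_mem _ ?_ k
          rw [← map_inv, ← map_mul, ← map_mul, hT]
          exact Subgroup.mem_map_of_mem _ hconj
    refine hY (top_le_iff.1 (le_trans ?_ hle))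
    rw [hH, htop, Subgroup.subgroupOf_self,
      Subgroup.map_top_of_surjective _ (QuotientGroup.mk'_surjective _)]
  · have hne : H.map (QuotientGroup.mk' (innIn F P)) ≠ ⊤ := fun h => htop
      (le_antisymm extGen_closure_le
        (Subgroup.subgroupOf_eq_top.1 (hmapne H hIH h)))
    have hspe : IsStronglyPEmbedded p (H.map (QuotientGroup.mk' (innIn F P))) := by
      refine ⟨?_, hne, T, kGen_le T fun Q hQT hQ n hn => ?_⟩
      · obtain ⟨c, hcN, hcP⟩ := SetLike.exists_of_lt (lt_normalizerIn hS hPS)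
        obtain ⟨β, hβ, hβx⟩ := exists_mem_autInducedBy (P := P) hcN.1 hcN.2
        have hne1 : (T : Subgroup (F.autGroup P ⧸ innIn F P)) ≠ ⊥ := fun hb => by
          have h1 : QuotientGroup.mk' (innIn F P) ⟨β, autInducedBy_le_autGroup hPn.1 hβ⟩ ∈
              (T : Subgroup (F.autGroup P ⧸ innIn F P)) := by
            rw [hT]; exact Subgroup.mem_map_of_mem _ hβ
          rw [hb, Subgroup.mem_bot, QuotientGroup.mk'_apply, QuotientGroup.eq_one_iff] at h1
          exact hcP (mem_of_conj_mem_inn hC hPn.1 hcN.1 hβx h1)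
        haveI := (Subgroup.nontrivial_iff_ne_bot _).2 hne1
        obtain ⟨n, hn, hcard⟩ := T.2.nontrivial_iff_card.1 inferInstance
        exact ((dvd_pow_self p hn.ne').trans hcard.symm.dvd).trans (Subgroup.card_subgroup_dvd_card _)
      · obtain ⟨a, rfl⟩ := QuotientGroup.mk'_surjective _ n
        obtain ⟨q, hq, hq1⟩ := (Subgroup.ne_bot_iff_exists_ne_one.1 hQ) |>
          fun ⟨⟨q, hq⟩, h⟩ => (⟨q, hq, fun e => h (Subtype.ext e)⟩ : ∃ q ∈ Q, q ≠ 1)
        obtain ⟨t, rfl⟩ := QuotientGroup.mk'_surjective _ q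
        have htI : (t : MulAut P) ∉ Inn P := fun h => hq1 (by
          rw [QuotientGroup.mk'_apply, QuotientGroup.eq_one_iff]; exact h)
        have h2 := hQT ((Subgroup.mem_normalizer_iff.1 hn _).1 hq)
        rw [← map_inv, ← map_mul, ← map_mul] at h2
        refine Subgroup.mem_map_of_mem _ (Subgroup.subset_closure ?_)
        exact mem_extGen_of_conj hS hF hC (fullyCentralized_of_fullyNormalized hS hF hPn) a.2
          (hmemT t (hQT hq)) htI (hmemT _ h2)
    exact Or.inr ⟨⟨hcen, hPn, innIn_normal F P, _, hspe⟩, hspe⟩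

/-- Alperin's fusion theorem; while an essential subgroup is treated, all maps on larger
subgroups may be assumed to lie in `E` already. -/
theorem le_of_aut_le' {E : FusionSystem S}
    (hE : ∀ R, (R = S ∨ F.IsEssential p R) →
      (∀ (M : Subgroup Ω) (g : Ω → Ω), Nat.card R < Nat.card M → Mor F M g → Mor E M g) →
      F.autGroup R ≤ E.autGroup R) : F ≤ E := by
  rw [le_iff_mor]
  suffices H : ∀ n : ℕ, ∀ (P : Subgroup Ω) (f : Ω → Ω), Nat.card S - Nat.card P ≤ n → Mor F P f → Mor E P f from
    fun P f => H _ P f le_rfl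
  intro n
  induction n using Nat.strong_induction_on with
  | h n ih =>
    intro P f hn hf
    obtain ⟨Q, hQ⟩ := hf.exists_iso
    have hP := hf.le
    have hbig : ∀ (M : Subgroup Ω) (g : Ω → Ω), Nat.card P < Nat.card M → Mor F M g → Mor E M g := by
      intro M g hlt hg
      have h2 := Subgroup.card_le_of_le hg.le
      exact ih (Nat.card S - Nat.card M) (by omega) M g le_rfl hg
    rcases eq_or_ne P S with he | hne
    · have hQS : Q = P := eq_of_le_of_card hP (he.symm ▸ hQ.right_le) hQ.card_eq.le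
      rw [hQS] at hQ
      obtain ⟨α, hα, hαf⟩ := hQ.exists_mem_autGroup
      exact (iso_apl hP (hE P (Or.inl he) hbig hα)).1.congr fun x hx => (hαf x hx).symm
    have hPS : P < S := lt_of_le_of_ne hP hne
    have hQS : Q < S := lt_of_le_of_ne hQ.right_le fun h => hne
      (eq_of_le_of_card le_rfl hP (by rw [hQ.card_eq, h]))
    obtain ⟨R, hR, hRn⟩ := exists_fullyNormalized_conj (F := F) hP
    have hup : ∀ A : Subgroup Ω, A < S → Nat.card A = Nat.card P → F.IsConj A R →
        ∃ g, Iso F A R g ∧ Iso E A R g := by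
      intro A hA hcA hAR
      obtain ⟨g, hg, hgi, -⟩ := exists_mor_to_fullyNormalized hS hF hRn hAR
      have hEg := hbig _ g (hcA ▸ card_lt_of_lt' (normalizerIn_le S A) (lt_normalizerIn hS hA)) hg
      exact ⟨g, hgi, ⟨hEg.mono (le_normalizerIn hA.le), hgi.2⟩⟩
    obtain ⟨g1, hg1, hE1⟩ := hup P hPS rfl hR
    obtain ⟨g2, hg2, hE2⟩ := hup Q hQS hQ.card_eq.symm (isConj_trans (isConj_symm hQ.isConj) hR)
    obtain ⟨g1', hg1', hg1'g, hgg1'⟩ := hg1.symm
    obtain ⟨α, hα, hαx⟩ := ((hg1'.comp hQ).comp hg2).exists_mem_autGroup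
    have hRS : R < S := lt_of_le_of_ne hRn.1 fun h => hne
      (eq_of_le_of_card le_rfl hP (by rw [isConj_card_eq hR, h]))
    have hαE : α ∈ E.autGroup R := by
      by_cases hess : F.IsEssential p R
      · exact hE R (Or.inr hess) (fun M g hlt hg => hbig M g (isConj_card_eq hR ▸ hlt) hg) hα
      · rcases essential_or_extGen hS hF hRS hRn with ⟨-, h⟩ | ⟨h, -⟩
        swap
        · exact absurd h hess
        rw [← h] at hα
        refine (Subgroup.closure_le _).2 ?_ hα
        rintro β ⟨M, g, hRM, hg, hgβ⟩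
        refine Subgroup.subset_closure ?_
        exact (((hbig M g (isConj_card_eq hR ▸ card_lt_of_lt' hg.le hRM) hg).mono hRM.le).congr
          fun x hx => (hgβ x hx).symm).hom_eq fun x => (apl_coe β x).symm
    obtain ⟨g2', hg2', hg2'g, -⟩ := hE2.symm
    have hcomp := (hE1.comp (iso_apl hRn.1 hαE)).comp hg2'
    refine hcomp.1.congr fun x hx => ?_
    show f x = g2' (apl α (g1 x))
    rw [hαx _ (hg1.mem hx)]
    show f x = g2' (g2 (f (g1' (g1 x))))
    rw [hg1'g x hx, hg2'g _ (hQ.mem hx)]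

/-- Alperin's fusion theorem. -/
theorem le_of_aut_le {E : FusionSystem S}
    (hE : ∀ R, (R = S ∨ F.IsEssential p R) → F.autGroup R ≤ E.autGroup R) : F ≤ E :=
  le_of_aut_le' hS hF fun R hR _ => hE R hR

/-- Alperin's fusion theorem as an induction principle: a class of maps closed under composition
and inverse that contains the automorphisms of `S` and of the essential subgroups contains all maps. -/
theorem alperin_induction {M : Subgroup Ω → (Ω → Ω) → Prop} (hM : SubRel F S M)
    (h : ∀ R, (R = S ∨ F.IsEssential p R) → ∀ α ∈ F.autGroup R, M R (apl α)) :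
    ∀ P f, Mor F P f → M P f := by
  have hle : F ≤ subSys hM := le_of_aut_le hS hF fun R hR α hα => by
    have hRS : R ≤ S := hR.elim (fun e => e.le) fun e => e.1.1
    exact Subgroup.subset_closure
      (((mor_subSys hM).2 ⟨(iso_apl hRS hα).1, h R hR α hα⟩).hom_eq fun x => (apl_coe α x).symm)
  exact fun P f hf => ((mor_subSys hM).1 (le_iff_mor.1 hle P f hf)).2

theorem essential_radical (hP : F.IsEssential p P) : F.IsRadical p P := by
  obtain ⟨hc, hn, _, E, hE⟩ := hP
  haveI := finite_of_le hn.1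
  haveI := innIn_normal F P
  refine ⟨hn.1, ?_⟩
  have h1 := pCore_eq_bot_of_stronglyPEmbedded hE
  have hI : innIn F P = pCore p (F.autGroup P) := by
    refine le_antisymm (Cfsg.Agent.Core.le_pCore ?_) ?_
    · exact ((inn_eq_autInducedBy (P := P)) ▸ isPGroup_autInducedBy (hS.to_le hn.1) :
        IsPGroup p (Inn P)).comap_subtype
    · intro a ha
      have h2 := Cfsg.Agent.Core.map_pCore_le_of_surjective (p := p)
        (QuotientGroup.mk'_surjective (innIn F P)) (Subgroup.mem_map_of_mem _ ha)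
      rwa [h1, Subgroup.mem_bot, QuotientGroup.mk'_apply, QuotientGroup.eq_one_iff] at h2
  rw [← hI, Subgroup.map_subgroupOf_eq_of_le (inn_le_autGroup hn.1)]

end Saturated

end Cfsg.Agent.FusSys
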