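import Cfsg.Agent.FusSys.Criteria

/-!
The hyperfocal and focal subgroups of a saturated system.
-/

set_option autoImplicit false

namespace Cfsg.Agent.FusSys

open Cfsg Cfsg.FusionSystem

universe u

variable {Ω : Type u} [Group Ω] {S : Subgroup Ω}
variable {F : FusionSystem S} {P Q R : Subgroup Ω} {f g : Ω → Ω} {p : ℕ}

theorem residual_mem_autGroup {α : MulAut P}
    (hα : α ∈ (pResidual p (F.autGroup P)).map (F.autGroup P).subtype) : α ∈ F.autGroup P :=
  Subgroup.map_subtype_le _ hα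

theorem residual_quot_mem_hyperfocal (hP : P ≤ S) {α : MulAut P}
    (hα : α ∈ (pResidual p (F.autGroup P)).map (F.autGroup P).subtype) {x : Ω} (hx : x ∈ P) :
    x⁻¹ * apl α x ∈ F.hyperfocalSubgroup p := by
  obtain ⟨a, ha, rfl⟩ := Subgroup.mem_map.1 hα
  exact Subgroup.subset_closure ⟨P, a, ⟨x, hx⟩, hP, ha, congrArg (x⁻¹ * ·) (apl_apply _ hx)⟩

theorem hyperfocal_le (F : FusionSystem S) (p : ℕ) : F.hyperfocalSubgroup p ≤ S := by
  refine (Subgroup.closure_le _).2 ?_
  rintro _ ⟨P, α, x, hP, -, rfl⟩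
  exact S.mul_mem (S.inv_mem (hP x.2)) (hP ((α : MulAut P) x).2)

theorem focal_le (F : FusionSystem S) : F.focalSubgroup ≤ S := by
  refine (Subgroup.closure_le _).2 ?_
  rintro _ ⟨P, φ, x, hφ, rfl⟩
  exact S.mul_mem (S.inv_mem ((F.le_of_mem hφ).1 x.2)) ((F.le_of_mem hφ).2 x)

theorem quot_mem_focal (hf : Mor F P f) {x : Ω} (hx : x ∈ P) :
    x⁻¹ * f x ∈ F.focalSubgroup := by
  obtain ⟨φ, hφ, hφf⟩ := hf
  exact Subgroup.subset_closure ⟨P, φ, ⟨x, hx⟩, hφ, congrArg (x⁻¹ * ·) (hφf ⟨x, hx⟩).symm⟩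

theorem commutator_le_focal : ⁅S, S⁆ ≤ F.focalSubgroup := by
  rw [Subgroup.commutator_le]
  intro a ha b hb
  have := quot_mem_focal (mor_conj (F := F) (P := S) le_rfl hb) (S.inv_mem ha)
  rwa [inv_inv, ← mul_assoc, ← mul_assoc] at this

theorem hyperfocal_le_focal : F.hyperfocalSubgroup p ≤ F.focalSubgroup := by
  refine (Subgroup.closure_le _).2 ?_
  rintro _ ⟨P, α, x, hP, -, rfl⟩
  rw [← apl_coe]
  exact quot_mem_focal (iso_apl hP α.2).1 x.2

theorem hyperfocal_iso_image [Finite S] (hf : Mor F S f) {y : Ω}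
    (hy : y ∈ F.hyperfocalSubgroup p) : f y ∈ F.hyperfocalSubgroup p := by
  obtain ⟨φ, hφ, hφf⟩ := hf
  suffices h : (F.hyperfocalSubgroup p) ≤ ((F.hyperfocalSubgroup p).comap φ).map S.subtype by
    obtain ⟨z, hz, rfl⟩ := h hy
    have h2 : φ z ∈ F.hyperfocalSubgroup p := hz
    rwa [hφf] at h2
  refine (Subgroup.closure_le _).2 ?_
  rintro _ ⟨P, α, x, hP, hα, rfl⟩
  haveI := finite_of_le hP
  refine ⟨⟨_, S.mul_mem (S.inv_mem (hP x.2)) (hP ((α : MulAut P) x).2)⟩, ?_, rfl⟩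
  show φ _ ∈ F.hyperfocalSubgroup p
  have hm : Mor F S f := ⟨φ, hφ, hφf⟩
  rw [hφf, hm.inv_apply (hP x.2) (hP ((α : MulAut P) x).2)]
  obtain ⟨P', hP'⟩ := (hm.mono hP).exists_iso
  have h1 := residual_quot_mem_hyperfocal hP'.right_le
    (hP'.map_pResidual hP (α := (α : MulAut P)) (Subgroup.mem_map.2 ⟨α, hα, rfl⟩)) (hP'.mem x.2)
  rwa [hP'.conjAut_apl _ x.2, apl_coe] at h1

theorem hyperfocal_aut_iff [Finite S] {α : MulAut S} (hα : α ∈ F.autGroup S) {y : Ω} (hy : y ∈ S) :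
    apl α y ∈ F.hyperfocalSubgroup p ↔ y ∈ F.hyperfocalSubgroup p := by
  refine ⟨fun h => ?_, hyperfocal_iso_image (iso_apl le_rfl hα).1⟩
  have := hyperfocal_iso_image (iso_apl le_rfl (Subgroup.inv_mem _ hα)).1 h
  rwa [apl_inv_apl α hy] at this

theorem hyperfocal_conj_iff [Finite S] {s : Ω} (hs : s ∈ S) {y : Ω} (hy : y ∈ S) :
    s * y * s⁻¹ ∈ F.hyperfocalSubgroup p ↔ y ∈ F.hyperfocalSubgroup p := by
  obtain ⟨α, hα, hαx⟩ := exists_mem_autInducedBy (P := S) hs (Subgroup.le_normalizer hs)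
  rw [← hαx y hy]
  exact hyperfocal_aut_iff (autInducedBy_le_autGroup le_rfl hα) hy

section Saturated

variable [Fact p.Prime] [Finite S] (hS : IsPGroup p S) (hF : F.IsSaturated p)
include hS hF

/-- A property of maps closed under composition and inverse holds for all maps as soon as it holds
for the residual automorphisms, for the conjugations, and for the automorphisms of `S`. -/
theorem residual_induction {M : Subgroup Ω → (Ω → Ω) → Prop} (hM : SubRel F S M)
    (htop : ∀ α ∈ F.autGroup S, M S (apl α))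
    (hres : ∀ R ≤ S, ∀ α ∈ (pResidual p (F.autGroup R)).map (F.autGroup R).subtype, M R (apl α)) :
    ∀ P f, Mor F P f → M P f := by
  refine alperin_induction hS hF hM ?_
  rintro R (rfl | hR) α hα
  · exact htop α hα
  have hRS := hR.1.1
  rw [autGroup_eq_residual_sup hS hF hR.2.1] at hα
  have key : ∀ β : MulAut R, β ∈ (subSys hM).autGroup R → M R (apl β) := fun β hβ =>
    ((mor_subSys hM).1 (iso_apl hRS hβ).1).2
  have hle : (pResidual p (F.autGroup R)).map (F.autGroup R).subtype ⊔ autInducedBy S R ≤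
      (subSys hM).autGroup R := by
    refine sup_le (fun β hβ => ?_) ?_
    · exact Subgroup.subset_closure (((mor_subSys hM).2
      ⟨(iso_apl hRS (residual_mem_autGroup hβ)).1, hres R hRS β hβ⟩).hom_eq
        fun x => (apl_coe β x).symm)
    · exact autInducedBy_le_autGroup hRS
  exact key α (hle hα)

theorem stronglyClosed_hyperfocal : F.StronglyClosed (F.hyperfocalSubgroup p) := by
  refine stronglyClosed_iff.2 ⟨hyperfocal_le F p, fun R f hR hf x hx => ?_⟩
  suffices h : ∀ P f, Mor F P f → P ≤ S ∧ (∀ x ∈ P, f x ∈ S) ∧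
      ∀ x ∈ P, (f x ∈ F.hyperfocalSubgroup p ↔ x ∈ F.hyperfocalSubgroup p) from
    ((h R f hf).2.2 x hx).2 (hR hx)
  refine residual_induction hS hF (M := fun P f => P ≤ S ∧ (∀ x ∈ P, f x ∈ S) ∧
    ∀ x ∈ P, (f x ∈ F.hyperfocalSubgroup p ↔ x ∈ F.hyperfocalSubgroup p)) ?_ ?_ ?_
  · refine ⟨fun {P f g} ⟨h1, h2, h3⟩ he => ⟨h1, fun x hx => he x hx ▸ h2 x hx,
      fun x hx => by rw [he x hx]; exact h3 x hx⟩, fun h => ⟨h.1, h.2.1⟩, ?_, ?_, ?_⟩
    · intro P s hP hs
      exact ⟨mor_conj hP hs, hP, fun x hx => S.mul_mem (S.mul_mem hs (hP hx)) (S.inv_mem hs),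
        fun x hx => hyperfocal_conj_iff hs (hP hx)⟩
    · rintro P Q f g - ⟨h1, -, h3⟩ - ⟨-, h2', h3'⟩ hfQ
      exact ⟨h1, fun x hx => h2' _ (hfQ x hx), fun x hx => (h3' _ (hfQ x hx)).trans (h3 x hx)⟩
    · rintro P Q f g hf' ⟨-, -, h3⟩ hg hgf
      refine ⟨hg.left_le, fun y hy => hg.right_le (hg.mem hy), fun y hy => ?_⟩
      obtain ⟨z, hz, rfl⟩ := hf'.exists_eq hy
      rw [hgf z hz]
      exact (h3 z hz).symm
  · intro α hα
    exact ⟨le_rfl, fun x hx => apl_mem α hx, fun x hx => hyperfocal_aut_iff hα hx⟩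
  · intro R hRS α hα
    refine ⟨hRS, fun x hx => hRS (apl_mem α hx), fun x hx => ?_⟩
    have h := residual_quot_mem_hyperfocal hRS hα hx
    exact ⟨fun h' => by
      have := Subgroup.mul_mem _ h' (Subgroup.inv_mem _ h)
      rwa [mul_inv_rev, inv_inv, mul_inv_cancel_left] at this,
      fun h' => by
      have := Subgroup.mul_mem _ h' h
      rwa [mul_inv_cancel_left] at this⟩

theorem focal_eq : F.focalSubgroup = F.hyperfocalSubgroup p ⊔ ⁅S, S⁆ := by
  refine le_antisymm ?_ (sup_le hyperfocal_le_focal commutator_le_focal)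
  refine (Subgroup.closure_le _).2 ?_
  rintro _ ⟨P, φ, x, hφ, rfl⟩
  suffices h : ∀ P f, Mor F P f → P ≤ S ∧ (∀ x ∈ P, f x ∈ S) ∧
      ∀ x ∈ P, x⁻¹ * f x ∈ F.hyperfocalSubgroup p ⊔ ⁅S, S⁆ by
    have h1 := (h P _ (mor_extendFn hφ)).2.2 x x.2
    rwa [extendFn_coe] at h1
  refine residual_induction hS hF (M := fun P f => P ≤ S ∧ (∀ x ∈ P, f x ∈ S) ∧
    ∀ x ∈ P, x⁻¹ * f x ∈ F.hyperfocalSubgroup p ⊔ ⁅S, S⁆) ?_ ?_ ?_
  · refine ⟨fun {P f g} ⟨h1, h2, h3⟩ he => ⟨h1, fun x hx => he x hx ▸ h2 x hx,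
      fun x hx => by rw [he x hx]; exact h3 x hx⟩, fun h => ⟨h.1, h.2.1⟩, ?_, ?_, ?_⟩
    · intro P s hP hs
      refine ⟨mor_conj hP hs, hP, fun x hx => S.mul_mem (S.mul_mem hs (hP hx)) (S.inv_mem hs),
        fun x hx => Subgroup.mem_sup_right ?_⟩
      have := Subgroup.commutator_mem_commutator (S.inv_mem (hP hx)) hs
      rw [commutatorElement_def, inv_inv] at this
      have e : x⁻¹ * (s * x * s⁻¹) = x⁻¹ * s * x * s⁻¹ := by group
      rw [e]; exact this
    · rintro P Q f g - ⟨h1, -, h3⟩ - ⟨-, h2', h3'⟩ hfQ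
      refine ⟨h1, fun x hx => h2' _ (hfQ x hx), fun x hx => ?_⟩
      have := Subgroup.mul_mem _ (h3 x hx) (h3' _ (hfQ x hx))
      rw [mul_assoc, mul_inv_cancel_left] at this
      exact this
    · rintro P Q f g hf' ⟨-, -, h3⟩ hg hgf
      refine ⟨hg.left_le, fun y hy => hg.right_le (hg.mem hy), fun y hy => ?_⟩
      obtain ⟨z, hz, rfl⟩ := hf'.exists_eq hy
      rw [hgf z hz]
      have := Subgroup.inv_mem _ (h3 z hz)
      rwa [mul_inv_rev, inv_inv] at this
  · intro α hα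
    refine ⟨le_rfl, fun x hx => apl_mem α hx, fun x hx => ?_⟩
    have hn : F.IsFullyNormalized S := ⟨le_rfl, fun Q _ => by
      haveI := finite_of_le (normalizerIn_le S S)
      exact Subgroup.card_le_of_le (le_inf (normalizerIn_le S Q)
        ((normalizerIn_le S Q).trans Subgroup.le_normalizer))⟩
    rw [autGroup_eq_residual_sup hS hF hn] at hα
    revert x
    rw [Subgroup.sup_eq_closure] at hα
    induction hα using Subgroup.closure_induction with
    | mem β hβ =>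
      rcases hβ with hβ | hβ
      ·
        intro x hx
        exact Subgroup.mem_sup_left (residual_quot_mem_hyperfocal le_rfl hβ hx)
      · intro x hx
        obtain ⟨s, hs, -, hsx⟩ := mem_autInducedBy_iff.1 hβ
        rw [hsx x hx]
        refine Subgroup.mem_sup_right ?_
        have := Subgroup.commutator_mem_commutator (S.inv_mem hx) hs
        rw [commutatorElement_def, inv_inv] at this
        have e : x⁻¹ * (s * x * s⁻¹) = x⁻¹ * s * x * s⁻¹ := by group
        rw [e]; exact this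
    | one => intro x hx; rw [apl_one hx, inv_mul_cancel]; exact Subgroup.one_mem _
    | mul a b _ _ ha hb =>
      intro x hx
      rw [apl_mul _ _ hx]
      have := Subgroup.mul_mem _ (hb x hx) (ha _ (apl_mem b hx))
      rw [mul_assoc, mul_inv_cancel_left] at this
      exact this
    | inv a _ ha =>
      intro x hx
      have := Subgroup.inv_mem _ (ha _ (apl_mem a⁻¹ hx))
      rwa [mul_inv_rev, inv_inv, apl_apl_inv a hx] at this
  · intro R hRS α hα
    exact ⟨hRS, fun x hx => hRS (apl_mem α hx),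
      fun x hx => Subgroup.mem_sup_left (residual_quot_mem_hyperfocal hRS hα hx)⟩

end Saturated

end Cfsg.Agent.FusSys
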