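import Cfsg.Agent.FusSys.Criteria
import Cfsg.Agent.FusSys.Hyperfocal
import Cfsg.Agent.FusSys.Inner
import Cfsg.Agent.Fusion.OmegaFixed
import Cfsg.Agent.Fusion.Residual
import Cfsg.Agent.Core.Frattini
import Mathlib.GroupTheory.Nilpotent

/-!
Criteria for normality of `S` and for inner systems in terms of elements of order `p` (and `4`).
-/

set_option autoImplicit false

namespace Cfsg.Agent.FusSys

open Cfsg Cfsg.FusionSystem
open scoped commutatorElement

universe u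

variable {Ω : Type u} [Group Ω] {S P : Subgroup Ω} {F : FusionSystem S} {p : ℕ}

/-- An element of order dividing `p`, or dividing `4` when `p = 2`. -/
def Small {G : Type*} [Monoid G] (p : ℕ) (x : G) : Prop := x ^ p = 1 ∨ (p = 2 ∧ x ^ 4 = 1)

theorem small_coe {x : P} : Small p (x : Ω) ↔ Small p x := by
  simp only [Small, ← SubmonoidClass.coe_pow, OneMemClass.coe_eq_one]

theorem Small.apl {x : Ω} (h : Small p x) (α : MulAut P) (hx : x ∈ P) :
    Small p (apl α x) := by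
  rw [apl_apply α hx, small_coe]
  have h' : Small p (⟨x, hx⟩ : P) := small_coe.1 h
  unfold Small at h' ⊢
  rw [← map_pow, ← map_pow]
  exact h'.imp (fun e => by rw [e, map_one]) fun e => ⟨e.1, by rw [e.2, map_one]⟩

theorem exists_restrict [Finite P] (α : MulAut P) {U : Subgroup Ω} (hUP : U ≤ P)
    (h : ∀ x ∈ U, apl α x ∈ U) :
    ∃ β : MulAut U, (∀ x ∈ U, apl β x = apl α x) ∧ orderOf β ∣ orderOf α := by
  haveI : Finite U := finite_of_le hUP
  let f : U →* U :=
    { toFun := fun x => ⟨apl α x, h x x.2⟩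
      map_one' := Subtype.ext (by
        show apl α (1 : Ω) = 1
        rw [apl_apply α P.one_mem]
        exact congrArg Subtype.val (map_one α))
      map_mul' := fun x y => Subtype.ext (by
        show apl α ((x : Ω) * y) = apl α x * apl α y
        rw [apl_apply α (P.mul_mem (hUP x.2) (hUP y.2)), apl_apply α (hUP x.2),
          apl_apply α (hUP y.2)]
        exact congrArg Subtype.val (map_mul α ⟨x, hUP x.2⟩ ⟨y, hUP y.2⟩)) }
  have hinj : Function.Injective f := fun x y hxy => Subtype.ext (by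
    have := congrArg (fun z : U => apl α⁻¹ (z : Ω)) hxy
    simpa [f, apl_inv_apl α (hUP x.2), apl_inv_apl α (hUP y.2)] using this)
  let β : MulAut U := MulEquiv.ofBijective f (Finite.injective_iff_bijective.1 hinj)
  have hb : ∀ x ∈ U, apl β x = apl α x := fun x hx => apl_apply β hx
  refine ⟨β, hb, orderOf_dvd_of_pow_eq_one (apl_ext fun x hx => ?_)⟩
  have hn : ∀ n : ℕ, ∀ y ∈ U, apl (β ^ n) y = apl (α ^ n) y := by
    intro n
    induction n with
    | zero => intro y hy; rw [pow_zero, pow_zero, apl_one hy, apl_one (hUP hy)]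
    | succ n ih =>
      intro y hy
      rw [pow_succ, pow_succ, apl_mul _ _ hy, apl_mul _ _ (hUP hy), hb y hy]
      exact ih _ (h y hy)
  rw [hn _ x hx, pow_orderOf_eq_one, apl_one (hUP hx), apl_one hx]

variable [Fact p.Prime]

/-- A `p'`-automorphism fixing the small elements of an invariant subgroup fixes that subgroup. -/
theorem fix_of_small [Finite P] (hP : IsPGroup p P) {α : MulAut P} (hα : (orderOf α).Coprime p)
    {U : Subgroup Ω} (hUP : U ≤ P) (h : ∀ x ∈ U, apl α x ∈ U)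
    (hfix : ∀ x ∈ U, Small p x → apl α x = x) : ∀ x ∈ U, apl α x = x := by
  obtain ⟨β, hb, hd⟩ := exists_restrict α hUP h
  haveI : Finite U := finite_of_le hUP
  have h1 : β = 1 := Cfsg.Agent.Fusion.eq_one_of_fixes_omega (hP.to_le hUP) β
    (Nat.Coprime.coprime_dvd_left hd hα) fun x hx => Subtype.ext (by
      rw [← apl_coe, hb x x.2]
      exact hfix x x.2 (small_coe.2 hx))
  intro x hx
  rw [← hb x hx, h1, apl_one hx]

theorem eq_of_fixed_quot [Finite P] (hP : IsPGroup p P) {α : MulAut P}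
    (hα : (orderOf α).Coprime p) {x : Ω} (hx : x ∈ P)
    (hz : apl α (x⁻¹ * apl α x) = x⁻¹ * apl α x) : apl α x = x := by
  set z := x⁻¹ * apl α x with hzdef
  have hzP : z ∈ P := P.mul_mem (P.inv_mem hx) (apl_mem α hx)
  have hax : apl α x = x * z := by rw [hzdef, mul_inv_cancel_left]
  have hit : ∀ n : ℕ, apl (α ^ n) x = x * z ^ n := by
    intro n
    induction n with
    | zero => rw [pow_zero, apl_one hx, pow_zero, mul_one]
    | succ n ih =>
      rw [pow_succ', apl_mul _ _ hx, ih, apl_apply α (P.mul_mem hx (P.pow_mem hzP n)),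
        show (⟨x * z ^ n, P.mul_mem hx (P.pow_mem hzP n)⟩ : P) = ⟨x, hx⟩ * ⟨z, hzP⟩ ^ n from
          Subtype.ext (by simp), map_mul, map_pow, Subgroup.coe_mul, SubmonoidClass.coe_pow,
        ← apl_apply α hx, ← apl_apply α hzP, hz, hax, mul_assoc, ← pow_succ']
  obtain ⟨m, hm⟩ := hP ⟨z, hzP⟩
  have h5 := hit (orderOf α)
  rw [pow_orderOf_eq_one, apl_one hx, left_eq_mul] at h5
  have h6 : orderOf z ∣ Nat.gcd (p ^ m) (orderOf α) :=
    Nat.dvd_gcd (orderOf_dvd_of_pow_eq_one (congrArg Subtype.val hm)) (orderOf_dvd_of_pow_eq_one h5)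
  rw [Nat.Coprime.gcd_eq_one (hα.symm.pow_left m), Nat.dvd_one, orderOf_eq_one_iff] at h6
  rw [hax, h6, mul_one]

/-- A `p'`-automorphism fixing the small elements of a set containing all `x⁻¹ α x` is trivial. -/
theorem eq_one_of_fixes_diff [Finite P] (hP : IsPGroup p P) {α : MulAut P}
    (hα : (orderOf α).Coprime p) {D : Subgroup Ω} (hD : ∀ x ∈ P, x⁻¹ * apl α x ∈ D)
    (h : ∀ x ∈ P, x ∈ D → Small p x → apl α x = x) : α = 1 := by
  have hinv : ∀ x ∈ P ⊓ D, apl α x ∈ P ⊓ D := fun x hx => ⟨apl_mem α hx.1, by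
    have := D.mul_mem hx.2 (hD x hx.1)
    rwa [mul_inv_cancel_left] at this⟩
  have hfix := fix_of_small hP hα inf_le_left hinv fun x hx => h x hx.1 hx.2
  refine apl_ext fun x hx => ?_
  rw [apl_one hx]
  exact eq_of_fixed_quot hP hα hx
    (hfix _ ⟨P.mul_mem (P.inv_mem hx) (apl_mem α hx), hD x hx⟩)

/-- An element whose conjugates under `S` stay in its cyclic group of order `p` is central. -/
theorem commute_of_conj_mem_zpowers [Finite S] (hS : IsPGroup p S) {s x : Ω} (hs : s ∈ S)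
    (hx : x ^ p = 1) (h : s * x * s⁻¹ ∈ Subgroup.zpowers x) : s * x * s⁻¹ = x := by
  obtain ⟨k, hk⟩ := Subgroup.mem_zpowers_iff.1 h
  have hit : ∀ n : ℕ, s ^ n * x * (s ^ n)⁻¹ = x ^ (k ^ n) := by
    intro n
    induction n with
    | zero => simp
    | succ n ih =>
      rw [pow_succ' s, show s * s ^ n * x * (s * s ^ n)⁻¹ = MulAut.conj s (s ^ n * x * (s ^ n)⁻¹) by
        simp [mul_assoc], ih, map_zpow, MulAut.conj_apply, ← hk, ← zpow_mul, ← pow_succ']
  obtain ⟨m, hm⟩ := hS ⟨s, hs⟩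
  have h1 := hit (p ^ m)
  rw [show s ^ p ^ m = 1 from congrArg Subtype.val hm, inv_one, mul_one, one_mul] at h1
  have hk1 : (p : ℤ) ∣ k ^ p ^ m - k := by
    rw [← ZMod.intCast_zmod_eq_zero_iff_dvd, Int.cast_sub, Int.cast_pow, ZMod.pow_card_pow, sub_self]
  obtain ⟨c, hc⟩ := hk1
  rw [show k = k ^ p ^ m + (p : ℤ) * (-c) by linarith, zpow_add, ← h1, zpow_mul, zpow_natCast, hx,
    one_zpow, mul_one] at hk
  exact hk.symm

/-- A series stable up to `S`-conjugation on small elements, forcing `p'`-automorphisms to be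
trivial. -/
theorem eq_one_of_small_conj [Finite S] (hS : IsPGroup p S) (hPS : P ≤ S) {α : MulAut P}
    (hα : (orderOf α).Coprime p) {D : Subgroup Ω} (hD : ∀ x ∈ P, x⁻¹ * apl α x ∈ D)
    (h : ∀ x ∈ P, x ∈ D → Small p x → ∃ s ∈ S, apl α x = s * x * s⁻¹) : α = 1 := by
  haveI := finite_of_le hPS
  haveI := hS.isNilpotent
  have hP : IsPGroup p P := hS.to_le hPS
  obtain ⟨N, hN⟩ := Group.IsNilpotent.nilpotent' (G := S)
  let C : ℕ → Subgroup Ω := fun i => (Subgroup.upperCentralSeries S i).map S.subtype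
  have hC : ∀ i, ∀ x ∈ C (i + 1), ∀ s ∈ S, x⁻¹ * (s * x * s⁻¹) ∈ C i := by
    rintro i _ ⟨x, hx, rfl⟩ s hs
    refine ⟨x⁻¹ * ⟨s, hs⟩ * x * ⟨s, hs⟩⁻¹, ?_, by simp [mul_assoc]⟩
    have := (Subgroup.mem_upperCentralSeries_succ_iff.1
      ((Subgroup.upperCentralSeries S (i + 1)).inv_mem hx)) ⟨s, hs⟩
    simpa [commutatorElement_def, mul_assoc] using this
  suffices key : ∀ i, ∀ x ∈ P, x ∈ D → Small p x → x ∈ C i → apl α x = x by
    refine eq_one_of_fixes_diff hP hα hD fun x hx hxD hsm => key N x hx hxD hsm ?_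
    exact ⟨⟨x, hPS hx⟩, hN ▸ Subgroup.mem_top _, rfl⟩
  intro i
  induction i with
  | zero =>
    intro x hx _ _ hxC
    obtain ⟨y, hy, rfl⟩ := hxC
    rw [SetLike.mem_coe, Subgroup.upperCentralSeries_zero, Subgroup.mem_bot] at hy
    subst hy
    rw [apl_apply α hx]
    exact congrArg Subtype.val (map_one α)
  | succ i ih =>
    intro x hx hxD hsm hxC
    let U : Subgroup Ω := ⨅ n : ℕ, ((C i ⊓ D).comap (P.subtype.comp (α ^ n).toMonoidHom)).map P.subtype
    have hU : ∀ {y}, y ∈ U ↔ y ∈ P ∧ ∀ n : ℕ, apl (α ^ n) y ∈ C i ⊓ D := fun {y} => by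
      rw [Subgroup.mem_iInf]
      refine ⟨fun h => ?_, fun h n => ⟨⟨y, h.1⟩, ?_, rfl⟩⟩
      · obtain ⟨z, -, rfl⟩ := h 0
        refine ⟨z.2, fun n => ?_⟩
        obtain ⟨w, hw, hwz⟩ := h n
        rw [← hwz]
        exact (apl_coe (α ^ n) w).symm ▸ hw
      · exact (apl_apply (α ^ n) h.1 ▸ h.2 n : ((α ^ n) ⟨y, h.1⟩ : Ω) ∈ C i ⊓ D)
    have hUP : U ≤ P := fun y hy => (hU.1 hy).1
    have hinv : ∀ y ∈ U, apl α y ∈ U := fun y hy => hU.2 ⟨apl_mem α (hUP hy), fun n => by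
      rw [← apl_mul _ _ (hUP hy), ← pow_succ]
      exact (hU.1 hy).2 (n + 1)⟩
    have hfix := fix_of_small hP hα hUP hinv fun y hy hys => by
      have h0 := (hU.1 hy).2 0
      rw [pow_zero, apl_one (hUP hy)] at h0
      exact ih y (hUP hy) h0.2 hys h0.1
    have horb : ∀ n : ℕ, apl (α ^ n) x ∈ P ∧ apl (α ^ n) x ∈ D ∧ Small p (apl (α ^ n) x) ∧
        apl (α ^ n) x ∈ C (i + 1) ∧
        (apl (α ^ n) x)⁻¹ * apl (α ^ (n + 1)) x ∈ C i ⊓ D := by
      intro n
      have hn : apl (α ^ n) x ∈ P ∧ apl (α ^ n) x ∈ D ∧ Small p (apl (α ^ n) x) ∧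
          apl (α ^ n) x ∈ C (i + 1) := by
        induction n with
        | zero => rw [pow_zero, apl_one hx]; exact ⟨hx, hxD, hsm, hxC⟩
        | succ n ihn =>
          rw [pow_succ', apl_mul _ _ hx]
          obtain ⟨h1, h2, h3, h4⟩ := ihn
          refine ⟨apl_mem α h1, ?_, h3.apl α h1, ?_⟩
          · have := D.mul_mem h2 (hD _ h1)
            rwa [mul_inv_cancel_left] at this
          · obtain ⟨s, hs, hsx⟩ := h _ h1 h2 h3
            rw [hsx]
            have := (C (i + 1)).mul_mem h4 (Subgroup.map_mono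
              (Subgroup.upperCentralSeries_mono S (Nat.le_succ i)) (hC i _ h4 s hs))
            rwa [mul_inv_cancel_left] at this
      obtain ⟨h1, h2, h3, h4⟩ := hn
      refine ⟨h1, h2, h3, h4, ?_⟩
      rw [pow_succ', apl_mul _ _ hx]
      refine ⟨?_, hD _ h1⟩
      obtain ⟨s, hs, hsx⟩ := h _ h1 h2 h3
      rw [hsx]
      exact hC i _ h4 s hs
    refine eq_of_fixed_quot hP hα hx (hfix _ (hU.2 ⟨P.mul_mem (P.inv_mem hx) (apl_mem α hx),
      fun n => ?_⟩))
    have e : apl (α ^ n) (x⁻¹ * apl α x) = (apl (α ^ n) x)⁻¹ * apl (α ^ (n + 1)) x := by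
      rw [pow_succ, apl_mul _ _ hx, apl_apply _ (P.mul_mem (P.inv_mem hx) (apl_mem α hx)),
        apl_apply (α ^ n) hx, apl_apply (α ^ n) (apl_mem α hx), ← Subgroup.coe_inv, ← map_inv,
        ← Subgroup.coe_mul, ← map_mul]
      rfl
    rw [e]
    exact (horb n).2.2.2.2

theorem isPGroup_of_coprime_eq_one {G : Type*} [Group G] [Finite G]
    (h : ∀ g : G, (orderOf g).Coprime p → g = 1) : IsPGroup p G := by
  rw [IsPGroup.iff_orderOf]
  intro g
  obtain ⟨a, b, hab, -, -, -, ⟨k, hk⟩, hb⟩ :=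
    Cfsg.Agent.Fusion.exists_pPart_mul (p := p) g (isOfFinOrder_of_finite g)
  rw [h b hb, mul_one] at hab
  obtain ⟨j, -, hj⟩ := (Nat.dvd_prime_pow Fact.out).1 hk
  exact ⟨j, hab ▸ hj⟩

theorem quot_mem_hyperfocal_of_coprime (hP : P ≤ S) {α : MulAut P} (hα : α ∈ F.autGroup P)
    (hc : (orderOf α).Coprime p) {x : Ω} (hx : x ∈ P) :
    x⁻¹ * apl α x ∈ F.hyperfocalSubgroup p :=
  residual_quot_mem_hyperfocal hP (Cfsg.Agent.Fusion.mem_pResidual_subgroup hα hc |> fun h => by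
    exact h) hx

/-- `F` is inner if small elements of the hyperfocal subgroup are only moved by conjugation in
`S`. -/
theorem eq_inner_of_small [Finite S] (hS : IsPGroup p S) (hF : F.IsSaturated p)
    (h : ∀ P ≤ S, ∀ α ∈ F.autGroup P, ∀ x ∈ P, x ∈ F.hyperfocalSubgroup p → Small p x →
      ∃ s ∈ S, apl α x = s * x * s⁻¹) : F = innerFusionSystem S := by
  refine eq_inner_of_pGroups hS hF fun P hP => ?_
  haveI := finite_of_le hP
  refine isPGroup_of_coprime_eq_one fun a ha => Subtype.ext ?_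
  rw [← Subgroup.orderOf_coe] at ha
  exact eq_one_of_small_conj hS hP ha
    (fun x hx => quot_mem_hyperfocal_of_coprime hP a.2 ha hx) (h P hP a a.2)

/-- `S` is normal if some series is centralized by `S` and kept by the maps of the system, on
small elements of the hyperfocal subgroup. -/
theorem isNormal_top_of_small [Finite S] (hS : IsPGroup p S) (hF : F.IsSaturated p)
    {C : ℕ → Subgroup Ω} {n : ℕ} (hbot : ∀ x ∈ C 0, x = 1)
    (htop : ∀ x ∈ F.hyperfocalSubgroup p, Small p x → x ∈ C n)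
    (hcomm : ∀ i < n, ∀ x ∈ F.hyperfocalSubgroup p, Small p x → x ∈ C (i + 1) →
      ∀ s ∈ S, x⁻¹ * (s * x * s⁻¹) ∈ C i)
    (hinv : ∀ P ≤ S, ∀ α ∈ F.autGroup P, ∀ x ∈ P, x ∈ F.hyperfocalSubgroup p → Small p x →
      ∀ i ≤ n, x ∈ C i → apl α x ∈ C i) : F.IsNormal S := by
  have hhyp := stronglyClosed_hyperfocal hS hF
  have hsc : F.StronglyClosed S :=
    stronglyClosed_iff.2 ⟨le_rfl, fun R f _ hf x hx => hf.mem_S hx⟩
  refine isNormal_of_stronglyClosed_le hS hF hsc fun P hc hr => ?_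
  refine le_of_normalizer_le hS hF hsc hc.1 fun a ha han => ?_
  haveI := finite_of_le hc.1
  have hP : IsPGroup p P := hS.to_le hc.1
  set D := P ⊓ F.hyperfocalSubgroup p with hDdef
  haveI : Finite D := finite_of_le (inf_le_left : D ≤ P)
  have hDp : IsPGroup p D := hP.to_le inf_le_left
  obtain ⟨H, hH, hHle, h1, h2, h3⟩ := Cfsg.Agent.Fusion.exists_critical hDp
  have hHp : IsPGroup p H := hDp.to_subgroup H
  have hc2 : ∀ x y : H, ⁅x, y⁆ ^ p = 1 := fun x y => by
    rw [← Cfsg.Agent.Fusion.commutatorElement_pow_left_of_le_center hHle]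
    refine commutatorElement_eq_one_iff_commute.2 (Subtype.ext ?_)
    exact ((Subgroup.mem_centralizer_iff.1
      (h1 ⟨_, Cfsg.Agent.Core.pow_mem_frattini hHp x, rfl⟩)) _ y.2).symm
  have hmul : ∀ x y : H, Small p x → Small p y → Small p (x * y) := fun x y hx hy => by
    have hcc : ∀ u v : H, ⁅u, v⁆ ∈ Subgroup.center H := fun u v =>
      hHle (Subgroup.commutator_mem_commutator (Subgroup.mem_top u) (Subgroup.mem_top v))
    have hm : ∀ m : ℕ, (x * y) ^ m = x ^ m * y ^ m * ⁅y, x⁆ ^ m.choose 2 := fun m =>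
      Cfsg.Agent.Fusion.mul_pow_of_commute_commutator
        (Subgroup.mem_center_iff.mp (hcc y x) x).symm
        (Subgroup.mem_center_iff.mp (hcc y x) y).symm m
    rcases eq_or_ne p 2 with rfl | hp
    · refine Or.inr ⟨rfl, ?_⟩
      have hx4 : x ^ 4 = 1 := hx.elim (fun e => by rw [show (4 : ℕ) = 2 * 2 from rfl, pow_mul, e,
        one_pow]) And.right
      have hy4 : y ^ 4 = 1 := hy.elim (fun e => by rw [show (4 : ℕ) = 2 * 2 from rfl, pow_mul, e,
        one_pow]) And.right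
      rw [hm, hx4, hy4, show Nat.choose 4 2 = 2 * 3 from rfl, pow_mul, hc2, one_pow, one_mul,
        one_mul]
    · obtain ⟨t, ht⟩ := Nat.Prime.dvd_choose_self (Fact.out : p.Prime) two_ne_zero
        (lt_of_le_of_ne (Fact.out : p.Prime).two_le (Ne.symm hp))
      refine Or.inl ?_
      rw [hm, hx.resolve_right (fun e => hp e.1), hy.resolve_right (fun e => hp e.1), ht, pow_mul,
        hc2, one_pow, one_mul, one_mul]
  have hone : Small p (1 : H) := Or.inl (one_pow p)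
  have hsinv : ∀ x : H, Small p x → Small p x⁻¹ := fun x hx => by
    unfold Small at hx ⊢
    simpa [inv_pow] using hx
  let W : Subgroup H :=
    { carrier := {x | Small p x}
      mul_mem' := fun {x y} => hmul x y
      one_mem' := hone
      inv_mem' := fun {x} => hsinv x }
  let V : Subgroup Ω := (W.map H.subtype).map D.subtype
  have hV : ∀ {x}, x ∈ V ↔ ∃ hx : x ∈ D, (⟨x, hx⟩ : D) ∈ H ∧ Small p x := fun {x} => by
    constructor
    · rintro ⟨_, ⟨w, hw, rfl⟩, rfl⟩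
      exact ⟨(w : D).2, w.2, small_coe.2 (small_coe.2 (show Small p w from hw))⟩
    · rintro ⟨hx, hxH, hs⟩
      exact ⟨_, ⟨⟨⟨x, hx⟩, hxH⟩, show Small p _ from small_coe.1 (small_coe.1 hs), rfl⟩, rfl⟩
  have hVinv : ∀ α ∈ F.autGroup P, ∀ x ∈ V, apl α x ∈ V := fun α hα x hx => by
    obtain ⟨hxD, hxH, hs⟩ := hV.1 hx
    have hDinv : ∀ y ∈ D, apl α y ∈ D := fun y hy =>
      ⟨apl_mem α hy.1, StronglyClosed.mor_mem hhyp (iso_apl hc.1 hα).1 hy.1 hy.2⟩
    obtain ⟨β, hβ, -⟩ := exists_restrict α (inf_le_left : D ≤ P) hDinv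
    refine hV.2 ⟨hDinv x hxD, ?_, hs.apl α hxD.1⟩
    have h := (Subgroup.characteristic_iff_le_comap.1 hH β) hxH
    have e : (⟨apl α x, hDinv x hxD⟩ : D) = β ⟨x, hxD⟩ :=
      Subtype.ext ((hβ x hxD).symm.trans (apl_apply β hxD))
    rw [e]
    exact h
  have hVP : V ≤ P := fun x hx => (hV.1 hx).fst.1
  have hVh : ∀ x ∈ V, x ∈ F.hyperfocalSubgroup p ∧ Small p x := fun x hx => by
    obtain ⟨hxD, -, hs⟩ := hV.1 hx
    exact ⟨hxD.2, hs⟩
  let Γ : Subgroup (MulAut P) := F.autGroup P ⊓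
    (chainStab.subgroupOfFiniteSubmonoid
      { carrier := {α | (∀ x ∈ V, apl α x ∈ V) ∧
          ∀ i < n, ∀ x ∈ V, x ∈ C (i + 1) → apl α x ∈ C (i + 1) ∧ x⁻¹ * apl α x ∈ C i}
        one_mem' := ⟨fun x hx => by rwa [apl_one (hVP hx)], fun i _ x hx hxC => by
          rw [apl_one (hVP hx), inv_mul_cancel]; exact ⟨hxC, one_mem _⟩⟩
        mul_mem' := by
          rintro α β ⟨hα, hα'⟩ ⟨hβ, hβ'⟩
          refine ⟨fun x hx => ?_, fun i hi x hx hxC => ?_⟩
          · rw [apl_mul _ _ (hVP hx)]; exact hα _ (hβ x hx)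
          rw [apl_mul _ _ (hVP hx)]
          obtain ⟨h1, h2⟩ := hβ' i hi x hx hxC
          obtain ⟨h3, h4⟩ := hα' i hi _ (hβ x hx) h1
          refine ⟨h3, ?_⟩
          have := mul_mem h2 h4
          rwa [mul_assoc, mul_inv_cancel_left] at this })
  have hΓmem : ∀ α, α ∈ F.autGroup P →
      (∀ i < n, ∀ x ∈ V, x ∈ C (i + 1) → x⁻¹ * apl α x ∈ C i) → α ∈ Γ := fun α hα h =>
    ⟨hα, hVinv α hα, fun i hi x hx hxC =>
      ⟨hinv P hc.1 α hα x (hVP hx) (hVh x hx).1 (hVh x hx).2 (i + 1) hi hxC, h i hi x hx hxC⟩⟩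
  refine mem_of_normal_pGroup hc hr ha han (Γ := Γ) inf_le_left ?_ ?_ ?_
  · haveI : Finite Γ := inferInstance
    refine isPGroup_of_coprime_eq_one fun g hg => ?_
    obtain ⟨δ, hδF, hδV, hδ⟩ := g
    refine Subtype.ext ?_
    rw [← Subgroup.orderOf_coe] at hg
    have key : ∀ i ≤ n, ∀ x ∈ V, x ∈ C i → apl δ x = x := by
      intro i
      induction i with
      | zero =>
        intro _ x hx hxC
        rw [hbot x hxC, apl_apply δ P.one_mem]
        exact congrArg Subtype.val (map_one δ)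
      | succ i ih =>
        intro hi x hx hxC
        exact eq_of_fixed_quot hP hg (hVP hx) (ih (Nat.le_of_lt hi) _
          (V.mul_mem (V.inv_mem hx) (hVinv δ hδF x hx)) (hδ i hi x hx hxC).2)
    have hDinv : ∀ y ∈ D, apl δ y ∈ D := fun y hy =>
      ⟨apl_mem δ hy.1, StronglyClosed.mor_mem hhyp (iso_apl hc.1 hδF).1 hy.1 hy.2⟩
    obtain ⟨β, hβ, hd⟩ := exists_restrict δ (inf_le_left : D ≤ P) hDinv
    have hβc := Nat.Coprime.coprime_dvd_left hd hg
    have hHfix : ∀ x ∈ H.map D.subtype, apl δ x = x := by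
      refine fix_of_small hP hg ((Subgroup.map_subtype_le H).trans inf_le_left) ?_ ?_
      · rintro _ ⟨z, hz, rfl⟩
        exact ⟨β z, (Subgroup.characteristic_iff_le_comap.1 hH β) hz,
          (apl_coe β z).symm.trans (hβ _ z.2)⟩
      · rintro _ ⟨z, hz, rfl⟩ hs
        have hzV : (z : Ω) ∈ V := hV.2 ⟨z.2, hz, hs⟩
        exact key n le_rfl _ hzV (htop _ (hVh _ hzV).1 hs)
    have hβ1 : β = 1 := Cfsg.Agent.S0121.result hDp H hH h1 h2 h3 β hβc fun z hz =>
      Subtype.ext (by rw [← apl_coe, hβ _ z.2]; exact hHfix _ ⟨z, hz, rfl⟩)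
    refine eq_one_of_fixes_diff hP hg
      (fun x hx => quot_mem_hyperfocal_of_coprime hc.1 hδF hg hx) fun x hx hxh _ => ?_
    rw [← hβ x ⟨hx, hxh⟩, hβ1, apl_one (show x ∈ D from ⟨hx, hxh⟩)]
  · intro α hα γ hγ
    obtain ⟨hγF, -, hγ'⟩ := hγ
    refine hΓmem _ (mul_mem (mul_mem hα hγF) (inv_mem hα)) fun i hi x hx hxC => ?_
    have hy := hVinv α⁻¹ (inv_mem hα) x hx
    have hyC := hinv P hc.1 α⁻¹ (inv_mem hα) x (hVP hx) (hVh x hx).1 (hVh x hx).2 (i + 1) hi hxC
    have hz := (hγ' i hi _ hy hyC).2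
    have hzV : (apl α⁻¹ x)⁻¹ * apl γ (apl α⁻¹ x) ∈ V :=
      V.mul_mem (V.inv_mem hy) (hVinv γ hγF _ hy)
    have h := hinv P hc.1 α hα _ (hVP hzV) (hVh _ hzV).1 (hVh _ hzV).2 i (Nat.le_of_lt hi) hz
    have hαm := (iso_apl hc.1 hα).1
    rw [hαm.map_mul (P.inv_mem (hVP hy)) (apl_mem γ (hVP hy)), hαm.map_inv (hVP hy),
      apl_apl_inv α (hVP hx)] at h
    rwa [mul_assoc, apl_mul α _ (hVP hx), apl_mul γ _ (hVP hx)]
  · intro γ hγ hγx
    refine hΓmem γ hγ fun i hi x hx hxC => ?_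
    rw [hγx x (hVP hx)]
    exact hcomm i hi x (hVh x hx).1 (hVh x hx).2 hxC a ha

end Cfsg.Agent.FusSys
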