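import Cfsg.Agent.FusSys.MetaAux
import Cfsg.Agent.FusSys.Criteria
import Cfsg.Agent.Coprime.Basic
import Cfsg.Agent.LocalStructure.Series

/-!
A strongly closed metacyclic subgroup, `p` odd, is normal in a saturated fusion system.
-/

set_option autoImplicit false

namespace Cfsg.Agent.FusSys.StrongMeta

open Cfsg Cfsg.FusionSystem Cfsg.Agent.FusSys

universe u

variable {Ω : Type u} [Group Ω] {S : Subgroup Ω}

/-- The action on the Frattini quotient. -/
def toFrat {X : Type u} [Group X] : MulAut X →* MulAut (X ⧸ frattini X) where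
  toFun f := QuotientGroup.congr (frattini X) (frattini X) f
    (Subgroup.characteristic_iff_map_eq.1 frattini_characteristic f)
  map_one' := MulEquiv.ext fun q => by
    obtain ⟨a, rfl⟩ := QuotientGroup.mk_surjective q
    rfl
  map_mul' f g := MulEquiv.ext fun q => by
    obtain ⟨a, rfl⟩ := QuotientGroup.mk_surjective q
    rfl

theorem toFrat_mk {X : Type u} [Group X] (f : MulAut X) (a : X) :
    toFrat f (a : X ⧸ frattini X) = ((f a : X) : X ⧸ frattini X) := rfl

/-- Restriction of `Aut_F(E)` to an invariant subgroup. -/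
noncomputable def restrictAut (F : FusionSystem S) {E X : Subgroup Ω} (hX : X ≤ E)
    (h : ∀ α ∈ F.autGroup E, ∀ x ∈ E, apl α x ∈ X ↔ x ∈ X) : F.autGroup E →* MulAut X where
  toFun α :=
    { toFun := fun x => ⟨apl (α : MulAut E) x, (h _ α.2 x (hX x.2)).2 x.2⟩
      invFun := fun x => ⟨apl (α : MulAut E)⁻¹ x,
        (h _ (Subgroup.inv_mem _ α.2) x (hX x.2)).2 x.2⟩
      left_inv := fun x => Subtype.ext (apl_inv_apl _ (hX x.2))
      right_inv := fun x => Subtype.ext (apl_apl_inv _ (hX x.2))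
      map_mul' := fun x y => Subtype.ext (by
        show apl (α : MulAut E) ((x : Ω) * y) = apl (α : MulAut E) x * apl (α : MulAut E) y
        rw [apl_apply _ (hX x.2), apl_apply _ (hX y.2)]
        refine Eq.trans ?_ (congrArg Subtype.val
          (map_mul (α : MulAut E) ⟨x, hX x.2⟩ ⟨y, hX y.2⟩))
        exact apl_apply _ (E.mul_mem (hX x.2) (hX y.2))) }
  map_one' := MulEquiv.ext fun x => Subtype.ext (apl_one (hX x.2))
  map_mul' α β := MulEquiv.ext fun x => Subtype.ext (apl_mul _ _ (hX x.2))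

theorem restrictAut_coe (F : FusionSystem S) {E X : Subgroup Ω} (hX : X ≤ E)
    (h : ∀ α ∈ F.autGroup E, ∀ x ∈ E, apl α x ∈ X ↔ x ∈ X) (α : F.autGroup E) (x : X) :
    ((restrictAut F hX h α x : X) : Ω) = apl (α : MulAut E) x := rfl

variable [Finite S] {p : ℕ} [Fact p.Prime] {F : FusionSystem S}

set_option maxHeartbeats 1000000 in
/-- If the image of `a` lies in an invariant group of exponent `p` on `X ⧸ Φ(X)`, then `a ∈ E`. -/
theorem mem_of_invariant_flag [Fact p.Prime] (hS : IsPGroup p S) {P E X : Subgroup Ω}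
    (hP : F.StronglyClosed P) (hc : F.IsCentric E) (hrad : F.IsRadical p E) (hXeq : X = P ⊓ E)
    (hXE : X ≤ E) (hinv : ∀ α ∈ F.autGroup E, ∀ x ∈ E, apl α x ∈ X ↔ x ∈ X) {a : Ω} (haP : a ∈ P)
    (haS : a ∈ S) (han : a ∈ Subgroup.normalizer (E : Set Ω)) {α₀ : MulAut E}
    (hα₀F : α₀ ∈ F.autGroup E) (hα₀x : ∀ x ∈ E, apl α₀ x = a * x * a⁻¹)
    (U : Subgroup (MulAut (X ⧸ frattini X))) (hU : ∀ u ∈ U, u ^ p = 1)
    (hUn : ∀ β : F.autGroup E, ∀ u ∈ U, toFrat (restrictAut F hXE hinv β) * u *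
      (toFrat (restrictAut F hXE hinv β))⁻¹ ∈ U)
    (hτU : toFrat (restrictAut F hXE hinv ⟨α₀, hα₀F⟩) ∈ U) : a ∈ E := by
  classical
  have hES : E ≤ S := hc.1
  haveI : Finite E := finite_of_le hES
  haveI : Finite (MulAut E) := Finite.of_injective _ MulEquiv.toEquiv_injective
  haveI : Finite X := finite_of_le (hXE.trans hES)
  haveI : Finite (MulAut X) := Finite.of_injective _ MulEquiv.toEquiv_injective
  have hXp : IsPGroup p X := hS.to_le (hXE.trans hES)
  obtain ⟨n, hn⟩ := IsPGroup.iff_card.1 hXp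
  set r := restrictAut F hXE hinv with hr
  set rq : F.autGroup E →* MulAut (X ⧸ frattini X) := toFrat.comp r with hrq
  obtain ⟨N₁, hN₁mem⟩ : ∃ N₁ : Subgroup (F.autGroup E),
      ∀ γ, γ ∈ N₁ ↔ ∀ x ∈ E, x⁻¹ * apl (γ : MulAut E) x ∈ X := ⟨
    { carrier := {γ | ∀ x ∈ E, x⁻¹ * apl (γ : MulAut E) x ∈ X}
      one_mem' := fun x hx => by
        rw [Subgroup.coe_one, apl_one hx, inv_mul_cancel]; exact X.one_mem
      mul_mem' := fun {γ δ} hγ hδ x hx => by
        rw [Subgroup.coe_mul, apl_mul _ _ hx]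
        have h1 := X.mul_mem (hδ x hx) (hγ _ (apl_mem (δ : MulAut E) hx))
        rwa [mul_assoc, mul_inv_cancel_left] at h1
      inv_mem' := fun {γ} hγ x hx => by
        have h1 := X.inv_mem (hγ _ (apl_mem (γ : MulAut E)⁻¹ hx))
        rwa [apl_apl_inv _ hx, mul_inv_rev, inv_inv] at h1 }, fun _ => Iff.rfl⟩
  have hN₁conj : ∀ β γ : F.autGroup E, γ ∈ N₁ → β * γ * β⁻¹ ∈ N₁ := by
    intro β γ hγ
    rw [hN₁mem] at hγ ⊢
    intro x hx
    rw [Subgroup.coe_mul, Subgroup.coe_mul, Subgroup.coe_inv, apl_mul _ _ hx,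
      apl_mul _ _ (apl_mem _ hx)]
    have hy : apl (β : MulAut E)⁻¹ x ∈ E := apl_mem _ hx
    have h1 := (hinv _ β.2 _ (E.mul_mem (E.inv_mem hy) (apl_mem _ hy))).2 (hγ _ hy)
    rw [(iso_apl hES β.2).1.map_mul (E.inv_mem hy) (apl_mem _ hy), (iso_apl hES β.2).1.map_inv hy,
      apl_apl_inv _ hx] at h1
    exact h1
  have ha₁ : (⟨α₀, hα₀F⟩ : F.autGroup E) ∈ N₁ := (hN₁mem _).2 fun x hx => by
    rw [show apl α₀ x = a * x * a⁻¹ from hα₀x x hx]
    suffices h : x⁻¹ * (a * x * a⁻¹) ∈ P ⊓ E by rwa [hXeq]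
    refine ⟨?_, E.mul_mem (E.inv_mem hx) ((Subgroup.mem_normalizer_iff.1 han x).1 hx)⟩
    have h1 := (Subgroup.mem_normalizer_iff''.1
      (StronglyClosed.le_normalizer hP (hES hx)) a).1 haP
    rw [← mul_assoc, ← mul_assoc]
    exact P.mul_mem h1 (P.inv_mem haP)
  set Γ₀ : Subgroup (F.autGroup E) := N₁ ⊓ U.comap rq with hΓ₀
  refine mem_of_normal_pGroup hc hrad haS han
    (Γ := Γ₀.map (F.autGroup E).subtype) (Subgroup.map_subtype_le _) ?_ ?_ ?_
  · refine LocalStructure.isPGroup_of_forall_coprime ?_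
    rintro _ ⟨γ, ⟨hγ₁, hγU⟩, rfl⟩ hcop
    have hcop' : (orderOf γ).Coprime p := by rwa [← Subgroup.orderOf_coe]
    have h1 : rq γ = 1 := by
      rw [← orderOf_eq_one_iff]
      exact Nat.eq_one_of_dvd_coprimes hcop' (orderOf_map_dvd rq γ)
        (orderOf_dvd_of_pow_eq_one (hU _ hγU))
    have h2 : r γ = 1 := by
      obtain ⟨e, -, he⟩ := (Nat.dvd_prime_pow (Fact.out : p.Prime)).1
        (hn ▸ Subgroup.index_dvd_card (frattini X))
      have hA : ∀ α ∈ Subgroup.zpowers (r γ), ∀ x : X, α x * x⁻¹ ∈ frattini X := by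
        intro α hα x
        have h3 : toFrat α = 1 := by
          obtain ⟨j, rfl⟩ := Subgroup.mem_zpowers_iff.1 hα
          rw [map_zpow, show toFrat (r γ) = 1 from h1, one_zpow]
        have h4 := DFunLike.congr_fun h3 (x : X ⧸ frattini X)
        rw [toFrat_mk, MulAut.one_apply] at h4
        rw [← QuotientGroup.eq_one_iff, QuotientGroup.mk_mul, QuotientGroup.mk_inv, h4, mul_inv_cancel]
      have hdvd := FGS.card_dvd_of_trivial_on_frattini_quotient hn he _ hA
      rw [Nat.card_zpowers] at hdvd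
      rw [← orderOf_eq_one_iff]
      exact Nat.eq_one_of_dvd_coprimes (hcop'.pow_right _) (orderOf_map_dvd r γ) hdvd
    refine apl_ext fun x hx => ?_
    rw [apl_one hx]
    set f := x⁻¹ * apl (γ : MulAut E) x with hf
    have hfX : f ∈ X := (hN₁mem γ).1 hγ₁ x hx
    have hfix : apl (γ : MulAut E) f = f := by
      have h3 := DFunLike.congr_fun h2 (⟨f, hfX⟩ : X)
      exact congrArg Subtype.val h3
    have hiter : ∀ j : ℕ, apl ((γ : MulAut E) ^ j) x = x * f ^ j := by
      intro j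
      induction j with
      | zero => simp [apl_one hx]
      | succ j ih =>
        have hfj : apl (γ : MulAut E) (f ^ j) = f ^ j := by
          rw [(iso_apl hES γ.2).1.map_pow (hXE hfX), hfix]
        rw [pow_succ' _ j, apl_mul _ _ hx, ih,
          (iso_apl hES γ.2).1.map_mul hx (E.pow_mem (hXE hfX) j), hfj,
          show apl (γ : MulAut E) x = x * f by rw [hf, mul_inv_cancel_left], mul_assoc, ← pow_succ']
    have h5 := hiter (orderOf (γ : MulAut E))
    rw [pow_orderOf_eq_one, apl_one hx, left_eq_mul] at h5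
    obtain ⟨i, hi⟩ := IsPGroup.iff_orderOf.1 hXp ⟨f, hfX⟩
    have h6 : (⟨f, hfX⟩ : X) = 1 := orderOf_eq_one_iff.1
      (Nat.eq_one_of_dvd_coprimes (hcop.pow_right i)
        (orderOf_dvd_of_pow_eq_one (Subtype.ext (by simpa using h5))) (hi ▸ dvd_rfl))
    show apl (γ : MulAut E) x = x
    have h7 : f = 1 := congrArg Subtype.val h6
    rw [← mul_inv_cancel_left x (apl (γ : MulAut E) x), ← hf, h7, mul_one]
  · intro β hβ g hg
    obtain ⟨γ, hγ, rfl⟩ := Subgroup.mem_map.1 hg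
    obtain ⟨hγ₁, hγU⟩ := Subgroup.mem_inf.1 hγ
    refine Subgroup.mem_map.2 ⟨⟨β, hβ⟩ * γ * ⟨β, hβ⟩⁻¹,
      Subgroup.mem_inf.2 ⟨hN₁conj (⟨β, hβ⟩ : F.autGroup E) γ hγ₁, Subgroup.mem_comap.2 ?_⟩, ?_⟩
    · rw [map_mul, map_mul, map_inv]
      exact hUn _ _ (Subgroup.mem_comap.1 hγU)
    · rw [map_mul, map_mul, map_inv]
      rfl
  · intro γ hγF hγx
    have e : γ = α₀ := apl_ext fun x hx => (hγx x hx).trans (hα₀x x hx).symm
    exact Subgroup.mem_map.2 ⟨⟨α₀, hα₀F⟩, Subgroup.mem_inf.2 ⟨ha₁, hτU⟩, e.symm⟩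

set_option maxHeartbeats 4000000 in
theorem isNormal_of_metacyclic (hp : p ≠ 2) (hS : IsPGroup p S) (hF : F.IsSaturated p)
    {P : Subgroup Ω} (hP : F.StronglyClosed P) (hm : Cfsg.IsMetacyclic P) : F.IsNormal P := by
  classical
  refine (isNormal_iff_essential hS hF).2 fun E hE => ?_
  have hES : E ≤ S := hE.elim (fun e => e.le) fun e => e.1.1
  have hinvP : ∀ α ∈ F.autGroup E, ∀ x ∈ E, apl α x ∈ P ↔ x ∈ P := fun α hα x hx =>
    apl_invariant_of_stronglyClosed hP hES hα hx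
  refine ⟨?_, fun α hα => invariant_of_apl fun x hx => hinvP α hα x hx⟩
  rcases hE with rfl | hess
  · exact hP.1
  refine le_of_normalizer_le hS hF hP hES fun a haP han => ?_
  have hc := hess.1
  have hfn := hess.2.1
  have hrad := essential_radical hS hF hess
  haveI : Finite E := finite_of_le hES
  haveI : Finite P := finite_of_le hP.1
  haveI : Finite (MulAut E) := Finite.of_injective _ MulEquiv.toEquiv_injective
  set X := P ⊓ E with hXdef
  have hXE : X ≤ E := inf_le_right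
  haveI : Finite X := finite_of_le (hXE.trans hES)
  haveI : Finite (MulAut X) := Finite.of_injective _ MulEquiv.toEquiv_injective
  have hXp : IsPGroup p X := hS.to_le (hXE.trans hES)
  have hXm : Cfsg.IsMetacyclic X := Metacyclic.isMetacyclic_of_injective hm
    (Subgroup.inclusion inf_le_left) (Subgroup.inclusion_injective _)
  have hinv : ∀ α ∈ F.autGroup E, ∀ x ∈ E, apl α x ∈ X ↔ x ∈ X := fun α hα x hx =>
    ⟨fun h => ⟨(hinvP α hα x hx).1 h.1, hx⟩, fun h => ⟨(hinvP α hα x hx).2 h.1, apl_mem α hx⟩⟩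
  -- the Frattini quotient of `X`
  obtain ⟨n, hn⟩ := IsPGroup.iff_card.1 hXp
  obtain ⟨hWcomm, hWexp⟩ := FGS.frattini_quotient_props (p := p) hn
  letI : CommGroup (X ⧸ frattini X) :=
    { (inferInstance : Group (X ⧸ frattini X)) with mul_comm := hWcomm }
  have hWcard : Nat.card (X ⧸ frattini X) ∣ p ^ 2 := by
    rw [← Subgroup.index_eq_card]
    exact MetaAux.index_frattini_dvd hp hXp hXm
  haveI : Finite (MulAut (X ⧸ frattini X)) := Finite.of_injective _ MulEquiv.toEquiv_injective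
  set r := restrictAut F hXE hinv with hr
  set rq : F.autGroup E →* MulAut (X ⧸ frattini X) := toFrat.comp r with hrq
  have hrq_mk : ∀ (α : F.autGroup E) (x : X),
      rq α (x : X ⧸ frattini X) = ((r α x : X) : X ⧸ frattini X) := fun α x => rfl
  -- conjugation by `a`
  have haS : a ∈ S := hP.1 haP
  obtain ⟨α₀, hα₀, hα₀x⟩ := exists_mem_autInducedBy (P := E) haS han
  have hα₀F : α₀ ∈ F.autGroup E := autInducedBy_le_autGroup hES hα₀
  set τ := rq ⟨α₀, hα₀F⟩ with hτdef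
  obtain ⟨kτ, hτ⟩ : ∃ k, τ ^ p ^ k = 1 := by
    obtain ⟨k, hk⟩ := isPGroup_autInducedBy (P := E) hS ⟨α₀, hα₀⟩
    refine ⟨k, ?_⟩
    rw [hτdef, ← map_pow,
      show (⟨α₀, hα₀F⟩ : F.autGroup E) ^ p ^ k = 1 from Subtype.ext (by simpa using congrArg Subtype.val hk),
      map_one]
  by_cases hcase : ∃ L : Subgroup (X ⧸ frattini X), τ ∈ MetaAux.flagStab L ∧
      ∀ β : F.autGroup E, ∀ w, rq β w ∈ L ↔ w ∈ L
  · obtain ⟨L, hτL, hLinv⟩ := hcase
    exact mem_of_invariant_flag hS hP hc hrad rfl hXE hinv haP haS han hα₀F hα₀x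
      (MetaAux.flagStab L) (fun u hu => MetaAux.flagStab_pow hWexp hu)
      (fun β u hu => MetaAux.flagStab_conj (hLinv β) hu) hτL
  -- the plane case
  exfalso
  push Not at hcase
  have hne : τ ≠ 1 := fun h => by
    obtain ⟨β, w, hw⟩ := hcase ⊥ (h ▸ one_mem _)
    exact hw.elim (fun h1 => h1.2 (by rw [Subgroup.mem_bot] at *; exact (map_eq_one_iff _ (rq β).injective).1 h1.1))
      (fun h1 => h1.1 (by rw [Subgroup.mem_bot] at *; rw [h1.2, map_one]))
  obtain ⟨hW2, -, -⟩ := MetaAux.delta_facts hWcard hτ hne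
  set L := (MetaAux.delta τ).range with hLdef
  have hτL : τ ∈ MetaAux.flagStab L := MetaAux.mem_flagStab_range hWcard hτ hne
  obtain ⟨νq, ⟨ν, rfl⟩, hν⟩ : ∃ ν ∈ rq.range, ∀ w, ν w = w⁻¹ := by
    rcases MetaAux.invariant_or_neg hWexp hWcard (Γ := rq.range) (τ := τ) ⟨_, rfl⟩ hτ hne with h | h
    · obtain ⟨β, w, hw⟩ := hcase L hτL
      have := h (rq β) ⟨β, rfl⟩ w
      tauto
    · exact h
  have hνcomm : ∀ g : MulAut (X ⧸ frattini X), rq ν * g = g * rq ν := fun g =>
    MulEquiv.ext fun w => by rw [MulAut.mul_apply, MulAut.mul_apply, hν, hν, map_inv]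
  -- the Sylow subgroup inside the flag stabilizer
  set NU : Subgroup (F.autGroup E) := (MetaAux.flagStab L).comap rq with hNU
  obtain ⟨-, P₀, hP₀⟩ := fullyAutomized_of_fullyNormalized hS hF hfn
  have hP₀U : (P₀ : Subgroup (F.autGroup E)) ≤ NU := by
    have hle := MetaAux.le_flagStab hWcard hτ hne (P := (P₀ : Subgroup (F.autGroup E)).map rq)
      (P₀.2.map rq) ⟨⟨α₀, hα₀F⟩, (autInducedBy_subgroupOf_eq P₀ hP₀).2 hα₀, rfl⟩
    exact fun γ hγ => hle ⟨γ, hγ, rfl⟩
  set P₁ : Sylow p (F.autGroup E) := ν • P₀ with hP₁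
  have hP₁U : (P₁ : Subgroup (F.autGroup E)) ≤ NU := by
    rw [hP₁, Sylow.coe_subgroup_smul]
    rintro _ ⟨γ, hγ, rfl⟩
    show rq (ν * γ * ν⁻¹) ∈ MetaAux.flagStab L
    rw [map_mul, map_mul, hνcomm, map_inv, mul_inv_cancel_right]
    exact hP₀U hγ
  obtain ⟨u, hu⟩ := MulAction.exists_smul_eq NU (P₁.subtype hP₁U) (P₀.subtype hP₀U)
  set δ₀ : F.autGroup E := (u : F.autGroup E) * ν with hδ₀
  have hδ₀P : δ₀ • P₀ = P₀ := by
    rw [hδ₀, mul_smul, ← hP₁]
    refine Sylow.ext ?_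
    have h1 := congrArg (fun Q : Sylow p NU => (Q : Subgroup NU).map NU.subtype) hu
    simp only [Sylow.coe_subtype, Subgroup.subgroupOf_map_subtype, inf_eq_left.2 hP₀U] at h1
    rw [Sylow.coe_subgroup_smul]
    refine Eq.trans ?_ h1
    ext y
    constructor
    · rintro ⟨z, hz, rfl⟩
      refine ⟨u * ⟨z, hP₁U hz⟩ * u⁻¹, ?_, rfl⟩
      exact ⟨⟨z, hP₁U hz⟩, hz, rfl⟩
    · rintro ⟨_, ⟨z, hz, rfl⟩, rfl⟩
      exact ⟨(z : F.autGroup E), hz, rfl⟩
  -- the `p'`-part
  obtain ⟨e, m, hm', hem⟩ := Nat.exists_eq_pow_mul_and_not_dvd (orderOf_pos δ₀).ne' p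
    (Fact.out : p.Prime).ne_one
  set δ := δ₀ ^ p ^ (e + 1) with hδ
  have hδcop : (orderOf δ).Coprime p := by
    have hd : orderOf δ ∣ m := by
      rw [orderOf_dvd_iff_pow_eq_one, hδ, ← pow_mul, pow_succ, mul_right_comm, pow_mul, ← hem,
        pow_orderOf_eq_one, one_pow]
    exact ((Fact.out : p.Prime).coprime_iff_not_dvd.2 hm').symm.coprime_dvd_left hd
  have hδν : rq δ = rq ν := by
    have hodd : Odd (p ^ (e + 1)) := ((Fact.out : p.Prime).odd_of_ne_two hp).pow
    have h1 : (rq ν) ^ 2 = 1 := MulEquiv.ext fun w => by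
      rw [pow_two, MulAut.mul_apply, hν, hν, inv_inv]; rfl
    rw [hδ, map_pow, hδ₀, map_mul, (show Commute (rq (u : F.autGroup E)) (rq ν) from
      (hνcomm _).symm).mul_pow]
    obtain ⟨j, hj⟩ := hodd
    rw [show (rq (u : F.autGroup E)) ^ p ^ (e + 1) = 1 by
      rw [pow_succ', pow_mul, MetaAux.flagStab_pow hWexp u.2, one_pow]]
    rw [one_mul, hj, pow_succ, pow_mul, h1, one_pow, one_mul]
  have hδX : ∀ x : X, r δ x = x⁻¹ := by
    refine MetaAux.eq_inv_of_frattini hp hXp hXm (r δ) (hδcop.coprime_dvd_left (orderOf_map_dvd r δ))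
      fun x => ?_
    have h1 := hrq_mk δ x
    rw [hδν, hν] at h1
    rw [← QuotientGroup.eq_one_iff, QuotientGroup.mk_mul, ← h1, inv_mul_cancel]
  have hδP : δ • P₀ = P₀ := by
    rw [hδ]
    exact MulAction.mem_stabilizer_iff.1 (Subgroup.pow_mem _ (MulAction.mem_stabilizer_iff.2 hδ₀P) _)
  -- extension to `T = N_S(E)`
  set T := normalizerIn S E with hT
  haveI : Finite T := finite_of_le inf_le_left
  have hET : E ≤ T := le_normalizerIn hES
  have hiso : Iso F E E (apl (δ : MulAut E)) := iso_apl hES δ.2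
  obtain ⟨g, hg, hgx⟩ := (isReceptive_iff.1 (receptive_of_fullyNormalized hS hF hfn)).2 E _ hiso
  have hTn : T ≤ nPhi S E (apl (δ : MulAut E)) := by
    intro t ht
    obtain ⟨ct, hct, hctx⟩ := exists_mem_autInducedBy (P := E) ht.1 ht.2
    have hct' : δ * ⟨ct, autInducedBy_le_autGroup hES hct⟩ * δ⁻¹ ∈ (P₀ : Subgroup (F.autGroup E)) := by
      have h1 : (δ • P₀ : Sylow p (F.autGroup E)) = P₀ := hδP
      rw [← h1, Sylow.coe_subgroup_smul]
      exact ⟨⟨ct, autInducedBy_le_autGroup hES hct⟩, (autInducedBy_subgroupOf_eq P₀ hP₀).2 hct, rfl⟩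
    obtain ⟨h, hh, -, hhx⟩ := mem_autInducedBy_iff.1 ((autInducedBy_subgroupOf_eq P₀ hP₀).1 hct')
    refine ⟨ht.1, ht.2, h, hh, fun x hx => ?_⟩
    have h2 := hhx _ (apl_mem (δ : MulAut E) hx)
    rw [Subgroup.coe_mul, Subgroup.coe_mul, Subgroup.coe_inv, apl_mul _ _ (apl_mem _ hx),
      apl_mul _ _ (apl_mem _ (apl_mem _ hx)), apl_inv_apl _ hx, hctx x hx] at h2
    exact h2
  have hgT : Mor F T g := hg.mono hTn
  have hgiso : Iso F E E g := hiso.congr hgx
  obtain ⟨T', hT'⟩ := hgT.exists_iso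
  have hT'T : T' = T := by
    refine eq_of_le_of_card inf_le_left (fun y hy => ?_) (le_of_eq hT'.card_eq)
    obtain ⟨x, hx, rfl⟩ := hT'.exists_eq hy
    exact hgT.mem_normalizerIn hET hgiso hx hx.2
  rw [hT'T] at hT'
  obtain ⟨α, hα, hαg⟩ := hT'.exists_mem_autGroup
  haveI : Finite (MulAut T) := Finite.of_injective _ MulEquiv.toEquiv_injective
  have hαE : ∀ x ∈ E, apl α x = apl (δ : MulAut E) x := fun x hx =>
    (hαg x (hET hx)).trans (hgx x hx)
  have hαEpow : ∀ (j : ℕ), ∀ x ∈ E, apl (α ^ j) x = apl ((δ : MulAut E) ^ j) x := by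
    intro j
    induction j with
    | zero => intro x hx; rw [pow_zero, pow_zero, apl_one (hET hx), apl_one hx]
    | succ j ih =>
      intro x hx
      rw [pow_succ', pow_succ', apl_mul _ _ (hET hx), apl_mul _ _ hx, ih x hx, hαE _ (apl_mem _ hx)]
  obtain ⟨e', m', hm'', hem'⟩ := Nat.exists_eq_pow_mul_and_not_dvd (orderOf_pos α).ne' p
    (Fact.out : p.Prime).ne_one
  obtain ⟨k, hk1, hk2⟩ := Nat.chineseRemainder (n := p ^ e') (m := orderOf δ)
    ((hδcop.pow_right e').symm) 0 1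
  set δT := α ^ k with hδT
  have hδTcop : (orderOf δT).Coprime p := by
    obtain ⟨c, hc'⟩ := (Nat.modEq_zero_iff_dvd).1 hk1
    have hd : orderOf δT ∣ m' := by
      rw [orderOf_dvd_iff_pow_eq_one, hδT, ← pow_mul, hc', mul_right_comm, pow_mul, ← hem',
        pow_orderOf_eq_one, one_pow]
    exact ((Fact.out : p.Prime).coprime_iff_not_dvd.2 hm'').symm.coprime_dvd_left hd
  have hδTE : ∀ x ∈ E, apl δT x = apl (δ : MulAut E) x := fun x hx => by
    rw [hδT, hαEpow k x hx]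
    congr 1
    rw [← Subgroup.coe_pow, (pow_eq_pow_iff_modEq (x := δ)).2 hk2, pow_one]
  have hδTF : δT ∈ F.autGroup T := Subgroup.pow_mem _ hα k
  -- the subgroups of `T`
  set Y : Subgroup Ω := P ⊓ T with hY
  have hYinv : ∀ γ ∈ F.autGroup T, ∀ y ∈ T, apl γ y ∈ Y ↔ y ∈ Y := fun γ hγ y hy =>
    ⟨fun h => ⟨(apl_invariant_of_stronglyClosed hP inf_le_left hγ hy).1 h.1, hy⟩,
      fun h => ⟨(apl_invariant_of_stronglyClosed hP inf_le_left hγ hy).2 h.1, apl_mem γ hy⟩⟩
  have hXY : X ≤ Y := inf_le_inf_left P hET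
  haveI : Finite Y := finite_of_le (inf_le_right.trans inf_le_left)
  haveI : Finite (MulAut Y) := Finite.of_injective _ MulEquiv.toEquiv_injective
  set rY := restrictAut F (inf_le_right : Y ≤ T) hYinv with hrY
  set d := rY ⟨δT, hδTF⟩ with hd
  have hdcop : (orderOf d).Coprime p := by
    refine Nat.Coprime.coprime_dvd_left (orderOf_map_dvd rY _) ?_
    rwa [← Subgroup.orderOf_coe]
  -- the action of `Y` on the plane
  let cY : Y → F.autGroup E := fun y => ⟨(E.normalizerMonoidHom ⟨y, y.2.2.2⟩ : MulAut E),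
    autInducedBy_le_autGroup hES (mem_autInducedBy_iff.2
      ⟨y, y.2.2.1, y.2.2.2, fun z hz => apl_normalizerMonoidHom ⟨(y : Ω), y.2.2.2⟩ hz⟩)⟩
  have hcYapl : ∀ (y : Y) (x : Ω), x ∈ E → apl (cY y : MulAut E) x = y * x * (y : Ω)⁻¹ :=
    fun y x hx => apl_normalizerMonoidHom ⟨(y : Ω), y.2.2.2⟩ hx
  let φ : Y →* MulAut (X ⧸ frattini X) :=
    { toFun := fun y => rq (cY y)
      map_one' := by
        rw [show cY 1 = 1 from Subtype.ext (apl_ext fun x hx => by rw [hcYapl 1 x hx]; simp [apl_one hx]),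
          map_one]
      map_mul' := fun y z => by
        rw [← map_mul]
        congr 1
        refine Subtype.ext (apl_ext fun x hx => ?_)
        rw [hcYapl _ x hx, Subgroup.coe_mul, Subgroup.coe_mul, apl_mul _ _ hx, hcYapl _ _ (apl_mem _ hx),
          hcYapl _ x hx]
        group }
  have hδx : ∀ x ∈ X, apl δT x = x⁻¹ := fun x hx => by
    rw [hδTE x (hXE hx)]
    exact congrArg Subtype.val (hδX ⟨x, hx⟩)
  have hφd : ∀ y : Y, φ (d y) = φ y := by
    intro y
    refine MulEquiv.ext fun w => ?_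
    obtain ⟨x, rfl⟩ := QuotientGroup.mk_surjective w
    show ((r (cY (d y)) x : X) : X ⧸ frattini X) = ((r (cY y) x : X) : X ⧸ frattini X)
    congr 1
    refine Subtype.ext ?_
    rw [restrictAut_coe, restrictAut_coe, hcYapl _ _ (hXE x.2), hcYapl _ _ (hXE x.2)]
    show apl δT y * (x : Ω) * (apl δT y)⁻¹ = y * x * (y : Ω)⁻¹
    have hyT : (y : Ω) ∈ T := y.2.2
    have hxT : (x : Ω) ∈ T := hET (hXE x.2)
    have hconj : (y : Ω) * x * (y : Ω)⁻¹ ∈ X := by
      have h1 := (restrictAut F hXE hinv (cY y) x).2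
      rwa [restrictAut_coe, hcYapl _ _ (hXE x.2)] at h1
    have h2 : (y : Ω) * (x : Ω)⁻¹ * (y : Ω)⁻¹ ∈ X := by
      have := X.inv_mem hconj
      simpa [mul_assoc] using this
    have e1 : (x : Ω) = apl δT (x : Ω)⁻¹ := by rw [hδx _ (X.inv_mem x.2), inv_inv]
    conv_lhs => arg 1; arg 2; rw [e1]
    rw [← (iso_apl (P := T) inf_le_left hδTF).1.map_inv hyT,
      ← (iso_apl (P := T) inf_le_left hδTF).1.map_mul hyT (T.inv_mem hxT),
      ← (iso_apl (P := T) inf_le_left hδTF).1.map_mul (T.mul_mem hyT (T.inv_mem hxT)) (T.inv_mem hyT),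
      hδx _ h2]
    group
  -- a coprime fixed point in the coset of `a`
  have haY : a ∈ Y := ⟨haP, haS, han⟩
  let ι : Y →* Y ⋊[(Subgroup.zpowers d).subtype] (Subgroup.zpowers d) := SemidirectProduct.inl
  let η : Subgroup.zpowers d →* Y ⋊[(Subgroup.zpowers d).subtype] (Subgroup.zpowers d) :=
    SemidirectProduct.inr
  have hconjd : ∀ (g : Subgroup.zpowers d) (y : Y), η g * ι y * (η g)⁻¹ = ι ((g : MulAut Y) y) :=
    fun g y => by
      show _ = SemidirectProduct.inl ((g : MulAut Y) y)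
      rw [show (g : MulAut Y) y = (Subgroup.zpowers d).subtype g y from rfl, SemidirectProduct.inl_aut,
        map_inv]
  have hφg : ∀ (g : Subgroup.zpowers d) (y : Y), φ ((g : MulAut Y) y) = φ y := by
    rintro ⟨g, hg'⟩ y
    rw [Subgroup.zpowers_eq_closure] at hg'
    induction hg' using Subgroup.closure_induction generalizing y with
    | mem z hz => rw [Set.mem_singleton_iff] at hz; subst hz; exact hφd y
    | one => rfl
    | mul a b ma mb ha hb => rw [show (a * b) y = a (b y) from rfl, ha (by rw [Subgroup.zpowers_eq_closure]; exact ma) (b y), hb (by rw [Subgroup.zpowers_eq_closure]; exact mb) y]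
    | inv a ma ha =>
      have := ha (by rw [Subgroup.zpowers_eq_closure]; exact ma) (a⁻¹ y)
      rw [MulAut.apply_inv_self] at this
      exact this.symm
  haveI : Finite (Y ⋊[(Subgroup.zpowers d).subtype] (Subgroup.zpowers d)) :=
    Finite.of_equiv _ SemidirectProduct.equivProd.symm
  have hAN : η.range ≤ Subgroup.normalizer ((φ.ker.map ι : Subgroup _) : Set _) := by
    rintro _ ⟨g, rfl⟩
    refine Subgroup.mem_normalizer_fintype ?_
    rintro _ ⟨y, hy, rfl⟩
    refine ⟨(g : MulAut Y) y, ?_, (hconjd g y).symm⟩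
    rw [SetLike.mem_coe, MonoidHom.mem_ker, hφg]
    exact hy
  have hcop : (Nat.card η.range).Coprime (Nat.card (φ.ker.map ι)) := by
    obtain ⟨j, hj⟩ := IsPGroup.iff_card.1 ((hS.to_le (inf_le_right.trans inf_le_left : Y ≤ S)).to_subgroup
      φ.ker)
    rw [Subgroup.card_map_of_injective SemidirectProduct.inl_injective, hj,
      Nat.card_congr (MonoidHom.ofInjective SemidirectProduct.inr_injective).toEquiv.symm,
      Nat.card_zpowers]
    exact hdcop.pow_right j
  obtain ⟨_, ⟨k₁, hk₁, rfl⟩, hk₁c⟩ := Coprime.exists_fixed_mem_leftCoset hAN hcop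
    (Or.inr (by
      haveI := (((hS.to_le (inf_le_right.trans inf_le_left : Y ≤ S)).to_subgroup φ.ker).map ι).isNilpotent
      infer_instance)) (k := ι ⟨a, haY⟩) (by
      rintro _ ⟨g, rfl⟩
      refine ⟨(⟨a, haY⟩ : Y)⁻¹ * (g : MulAut Y) ⟨a, haY⟩, ?_, ?_⟩
      · rw [SetLike.mem_coe, MonoidHom.mem_ker, map_mul, map_inv, hφg, inv_mul_cancel]
      · rw [map_mul, map_inv, hconjd])
  set y₀ : Y := ⟨a, haY⟩ * k₁ with hy₀
  have hy₀d : d y₀ = y₀ := by
    have h1 := Subgroup.mem_centralizer_iff.1 hk₁c _ ⟨⟨d, Subgroup.mem_zpowers d⟩, rfl⟩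
    rw [← map_mul] at h1
    have h2 := hconjd ⟨d, Subgroup.mem_zpowers d⟩ y₀
    rw [h1, mul_inv_cancel_right] at h2
    exact (SemidirectProduct.inl_injective h2).symm
  have hy₀1 : y₀ ≠ 1 := by
    intro h
    have h1 : φ y₀ = 1 := by rw [h, map_one]
    rw [hy₀, map_mul, (MonoidHom.mem_ker.1 hk₁), mul_one] at h1
    apply hne
    rw [hτdef, ← h1]
    show rq _ = rq _
    congr 1
    refine Subtype.ext (apl_ext fun x hx => ?_)
    rw [hcYapl _ x hx]
    exact hα₀x x hx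
  -- a fixed element of order `p`
  have hYp : IsPGroup p Y := hS.to_le (inf_le_right.trans inf_le_left)
  obtain ⟨i, hi⟩ := IsPGroup.iff_orderOf.1 hYp y₀
  have hi0 : i ≠ 0 := by
    rintro rfl
    rw [pow_zero, orderOf_eq_one_iff] at hi
    exact hy₀1 hi
  set y₁ := y₀ ^ p ^ (i - 1) with hy₁
  have hy₁o : orderOf y₁ = p := by
    rw [hy₁, orderOf_pow_of_dvd (pow_ne_zero _ (Fact.out : p.Prime).ne_zero)
      (hi ▸ pow_dvd_pow p (Nat.sub_le i 1)), hi,
      Nat.pow_div (Nat.sub_le i 1) (Fact.out : p.Prime).pos, Nat.sub_sub_self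
        (Nat.one_le_iff_ne_zero.2 hi0), pow_one]
  -- all elements of order `p` lie in `X`
  haveI : Fintype X := Fintype.ofFinite X
  have hXab : ∀ x z : X, x * z = z * x := fun x z => by
    have h1 := map_mul (r δ) x z
    rw [hδX, hδX, hδX, mul_inv_rev] at h1
    have h2 := congrArg (·⁻¹) h1
    simpa using h2
  letI : CommGroup X := { (inferInstance : Group X) with mul_comm := hXab }
  have hker : p ^ 2 ≤ Nat.card {x : X // x ^ p = 1} := by
    have h1 := (powMonoidHom p : X →* X).ker.card_mul_index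
    rw [Subgroup.index_ker] at h1
    have hle : Nat.card (powMonoidHom p : X →* X).range ≤ Nat.card (frattini X) :=
      Subgroup.card_le_of_le (by rintro _ ⟨x, rfl⟩; exact Core.pow_mem_frattini hXp x)
    have h2 := (frattini X).card_mul_index
    rw [Subgroup.index_eq_card, hW2] at h2
    have hpos : 0 < Nat.card (powMonoidHom p : X →* X).range := Nat.card_pos
    have h3 : p ^ 2 * Nat.card (powMonoidHom p : X →* X).range ≤
        Nat.card (powMonoidHom p : X →* X).ker * Nat.card (powMonoidHom p : X →* X).range := by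
      rw [h1, ← h2, mul_comm]
      exact Nat.mul_le_mul_right _ hle
    exact le_of_le_of_eq (Nat.le_of_mul_le_mul_right h3 hpos) rfl
  have hYm : Cfsg.IsMetacyclic Y := Metacyclic.isMetacyclic_of_injective hm
    (Subgroup.inclusion inf_le_left) (Subgroup.inclusion_injective _)
  have hle2 := MetaAux.card_le_sq hp hYp hYm
  let incl : {x : X // x ^ p = 1} → {y : Y // y ^ p = 1} := fun x =>
    ⟨Subgroup.inclusion hXY x.1, by rw [← map_pow, x.2, map_one]⟩
  have hbij := (Nat.bijective_iff_injective_and_card incl).2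
    ⟨fun x x' h => Subtype.ext (Subgroup.inclusion_injective hXY (congrArg Subtype.val h)),
      le_antisymm (Nat.card_le_card_of_injective incl fun x x' h =>
        Subtype.ext (Subgroup.inclusion_injective hXY (congrArg Subtype.val h))) (hle2.trans hker)⟩
  obtain ⟨⟨x₁, hx₁p⟩, hx₁⟩ := hbij.2 ⟨y₁, by rw [← hy₁o, pow_orderOf_eq_one]⟩
  have hx₁' : (x₁ : Ω) = y₁ := congrArg (fun z : {y : Y // y ^ p = 1} => ((z.1 : Y) : Ω)) hx₁
  have hfix : d y₁ = y₁ := by rw [hy₁, map_pow, hy₀d]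
  have h1 : apl δT (y₁ : Ω) = y₁ := congrArg Subtype.val hfix
  rw [← hx₁', hδx _ x₁.2] at h1
  have h2 : (y₁ : Y) ^ 2 = 1 := Subtype.ext (by
    rw [Subgroup.coe_pow, Subgroup.coe_one, ← hx₁', pow_two]
    conv_lhs => arg 1; rw [← h1]
    exact inv_mul_cancel _)
  have h3 := orderOf_dvd_of_pow_eq_one h2
  rw [hy₁o] at h3
  exact hp ((Nat.prime_dvd_prime_iff_eq (Fact.out : p.Prime) Nat.prime_two).1 h3)

end Cfsg.Agent.FusSys.StrongMeta
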