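import Cfsg.Agent.FusSys.EssentialChain

/-!
Automorphism groups with a strongly `p`-embedded subgroup of an elementary abelian group of order
`p ^ 3`, one of whose Sylow subgroups has a transvection in its centre: that Sylow subgroup has
order `p`, and some conjugate transvection is opposite to the given one.
-/

set_option autoImplicit false

namespace Cfsg.Agent.FusSys.ThreeDim

open Cfsg Cfsg.FusionSystem Subgroup

universe u

variable {Ω : Type u} [Group Ω] {A : Subgroup Ω} {p : ℕ}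

/-- A transvection with centre `⟨w⟩` and axis `D`. -/
structure Tv (p : ℕ) (t : MulAut A) (w : A) (D : Subgroup A) : Prop where
  ne : w ≠ 1
  mem : w ∈ D
  index : D.index = p
  fix : ∀ v, v ∈ D ↔ t v = v
  move : ∀ v, ∃ k : ℤ, t v = v * w ^ k

variable [hp : Fact p.Prime] {t s : MulAut A} {w v : A} {D E : Subgroup A}

theorem orderOf_eq (hexp : ∀ a : A, a ^ p = 1) (hw : w ≠ 1) : orderOf w = p :=
  orderOf_eq_prime (hexp w) hw

theorem zexp (hexp : ∀ a : A, a ^ p = 1) (hw : w ≠ 1) {a b : ℤ} (h : w ^ a = w ^ b) :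
    (p : ℤ) ∣ a - b := by
  rw [← orderOf_eq hexp hw, orderOf_dvd_iff_zpow_eq_one, zpow_sub, h, mul_inv_cancel]

theorem zpow_of_dvd (hexp : ∀ a : A, a ^ p = 1) {a b : ℤ} (h : (p : ℤ) ∣ a - b) (x : A) :
    x ^ a = x ^ b := by
  obtain ⟨c, hc⟩ := h
  rw [show a = p * c + b by omega, zpow_add, zpow_mul, zpow_natCast, hexp, one_zpow, one_mul]

theorem exists_inv (k : ℤ) (hk : ¬ (p : ℤ) ∣ k) : ∃ m : ℤ, (p : ℤ) ∣ k * m - 1 := by
  obtain ⟨a, b, hab⟩ := ((Nat.prime_iff_prime_int.1 hp.out).coprime_iff_not_dvd.2 hk)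
  exact ⟨b, -a, by linear_combination hab⟩

omit hp in
theorem Tv.zpow_apply (h : Tv p t w D) {x : A} {k : ℤ} (hx : t x = x * w ^ k) (m : ℤ) :
    (t ^ m) x = x * w ^ (k * m) := by
  have hw : t w = w := (h.fix w).1 h.mem
  induction m using Int.induction_on with
  | zero => simp
  | succ m ih =>
    rw [add_comm, zpow_add, zpow_one, MulAut.mul_apply, ih, map_mul, map_zpow, hx, hw, mul_assoc,
      ← zpow_add]
    congr 2
    ring
  | pred m ih =>
    have h1 : t ((t ^ (-(m : ℤ) - 1)) x) = x * w ^ (k * -(m : ℤ)) := by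
      rw [← ih, ← MulAut.mul_apply, ← zpow_one_add]
      congr 2
      ring
    apply t.injective
    rw [h1, map_mul, map_zpow, hx, hw, mul_assoc, ← zpow_add]
    congr 2
    ring

theorem Tv.pow_prime (h : Tv p t w D) (hexp : ∀ a : A, a ^ p = 1) : t ^ p = 1 := by
  refine MulEquiv.ext fun x => ?_
  obtain ⟨k, hk⟩ := h.move x
  rw [← zpow_natCast, h.zpow_apply hk, zpow_mul, zpow_natCast, hexp, mul_one, MulAut.one_apply]

theorem Tv.ne_one (h : Tv p t w D) : t ≠ 1 := fun e => by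
  have h1 : D = ⊤ := eq_top_iff.2 fun x _ => (h.fix x).2 (by rw [e, MulAut.one_apply])
  have := h.index
  rw [h1, index_top] at this
  exact hp.out.one_lt.ne this

theorem Tv.move_ne (h : Tv p t w D) (hexp : ∀ a : A, a ^ p = 1) {x : A} (hx : x ∉ D) {k : ℤ}
    (hk : t x = x * w ^ k) : ¬ (p : ℤ) ∣ k := fun hd => by
  refine hx ((h.fix x).2 ?_)
  rw [hk, zpow_of_dvd hexp (b := 0) (by simpa using hd), zpow_zero, mul_one]

/-- A nontrivial power keeps centre and axis; a power of the centre is as good as the centre. -/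
theorem Tv.zpow (h : Tv p t w D) (hexp : ∀ a : A, a ^ p = 1) {m : ℤ} (hm : ¬ (p : ℤ) ∣ m) :
    Tv p (t ^ m) w D := by
  refine ⟨h.ne, h.mem, h.index, fun x => ?_, fun x => ?_⟩
  · obtain ⟨k, hk⟩ := h.move x
    rw [h.zpow_apply hk, mul_eq_left]
    refine ⟨fun hx => ?_, fun hx => ?_⟩
    · have h1 := (h.fix x).1 hx
      rw [hk, mul_eq_left] at h1
      rw [zpow_mul, h1, one_zpow]
    · by_contra hxD
      have h1 := zexp hexp h.ne (hx.trans (zpow_zero w).symm)
      rw [sub_zero] at h1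
      rcases (Nat.prime_iff_prime_int.1 hp.out).dvd_or_dvd h1 with h2 | h2
      exacts [h.move_ne hexp hxD hk h2, hm h2]
  · obtain ⟨k, hk⟩ := h.move x
    exact ⟨_, h.zpow_apply hk m⟩

omit hp in
theorem Tv.conj (h : Tv p t w D) (g : MulAut A) : Tv p (g * t * g⁻¹) (g w) (D.map g.toMonoidHom) := by
  have hmem : ∀ x, x ∈ D.map g.toMonoidHom ↔ g⁻¹ x ∈ D := fun x => by
    constructor
    · rintro ⟨y, hy, rfl⟩
      simpa [MulAut.inv_apply] using hy
    · exact fun hx => ⟨_, hx, g.apply_symm_apply x⟩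
  refine ⟨fun e => h.ne (g.injective (e.trans (map_one g).symm)), mem_map_of_mem _ h.mem, ?_,
    fun x => ?_, fun x => ?_⟩
  · rw [← h.index]
    exact index_map_equiv D g
  · rw [hmem, h.fix, MulAut.mul_apply, MulAut.mul_apply]
    constructor
    · intro hx
      rw [hx, MulAut.inv_apply, MulEquiv.apply_symm_apply]
    · intro hx
      apply g.injective
      rw [hx, MulAut.inv_apply, MulEquiv.apply_symm_apply]
  · obtain ⟨k, hk⟩ := h.move (g⁻¹ x)
    refine ⟨k, ?_⟩
    rw [MulAut.mul_apply, MulAut.mul_apply, hk, map_mul, map_zpow, MulAut.inv_apply,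
      MulEquiv.apply_symm_apply]

/-- Two transvections, the centre of the second in the axis of the first: they commute, or their
commutator is a transvection commuting with both. -/
theorem Tv.pair (h : Tv p t w D) (h' : Tv p s v E) (hexp : ∀ a : A, a ^ p = 1)
    (hab : ∀ a b : A, a * b = b * a) (hv : v ∈ D) :
    Commute t s ∨ (Commute (s * t * s⁻¹ * t⁻¹) t ∧ Commute (s * t * s⁻¹ * t⁻¹) s ∧
      Tv p (s * t * s⁻¹ * t⁻¹) v D) := by
  obtain ⟨l, hl⟩ := h'.move w
  have htv : t v = v := (h.fix v).1 hv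
  have htw : t w = w := (h.fix w).1 h.mem
  have hsv : s v = v := (h'.fix v).1 h'.mem
  have key : ∀ x k, t x = x * w ^ k → s (t x) = t (s x) * v ^ (l * k) := fun x k hk => by
    obtain ⟨j, hj⟩ := h'.move x
    rw [hk, map_mul, map_zpow, hj, hl, map_mul, map_zpow, hk, htv, (show Commute w (v ^ l) from
      hab _ _).mul_zpow, ← zpow_mul, mul_assoc, mul_assoc x, ← mul_assoc (v ^ j),
      hab (v ^ j) (w ^ k), mul_assoc, mul_assoc]
    simp only [mul_assoc]
  by_cases hw : w ∈ E
  · left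
    have hl0 : v ^ l = 1 := by
      have h1 := (h'.fix w).1 hw
      rwa [hl, mul_eq_left] at h1
    refine MulEquiv.ext fun x => ?_
    obtain ⟨k, hk⟩ := h.move x
    rw [MulAut.mul_apply, MulAut.mul_apply, key x k hk, zpow_mul, hl0, one_zpow, mul_one]
  · right
    set e := s * t * s⁻¹ * t⁻¹ with he
    have hform : ∀ y k, t y = y * w ^ k → e y = y * v ^ (l * k) := by
      intro y k hk
      set x := s⁻¹ (t⁻¹ y) with hx
      have hy : t (s x) = y := by simp [hx, MulAut.inv_apply]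
      obtain ⟨k', hk'⟩ := h.move x
      have hyk : t y = y * w ^ k' := by
        obtain ⟨j, hj⟩ := h'.move x
        rw [← hy, hj, map_mul, map_zpow, htv, hk', map_mul, map_mul, map_zpow, map_zpow, htv, hk',
          htw, mul_assoc, mul_assoc (x * w ^ k'), hab (v ^ j)]
      have hkk : w ^ k' = w ^ k := mul_left_cancel (hyk.symm.trans hk)
      calc e y = s (t x) := by simp [he, hx, MulAut.inv_apply]
        _ = y * v ^ (l * k') := by rw [key x k' hk', hy]
        _ = _ := by
          rw [zpow_of_dvd hexp (show (p : ℤ) ∣ l * k' - l * k by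
            rw [← mul_sub]; exact (zexp hexp h.ne hkk).mul_left l) v]
    have hev : e v = v := by
      rw [hform v 0 (by rw [htv, zpow_zero, mul_one]), mul_zero, zpow_zero, mul_one]
    refine ⟨MulEquiv.ext fun y => ?_, MulEquiv.ext fun y => ?_, h'.ne, hv, h.index, fun y => ?_,
      fun y => ?_⟩
    · obtain ⟨k, hk⟩ := h.move y
      show e (t y) = t (e y)
      rw [hform y k hk,
        hform (t y) k (by rw [hk, map_mul, map_zpow, htw, hk]), map_mul, map_zpow, htv]
    · obtain ⟨k, hk⟩ := h.move y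
      obtain ⟨j, hj⟩ := h'.move y
      show e (s y) = s (e y)
      rw [hform y k hk,
        hform (s y) k (by rw [hj, map_mul, map_zpow, htv, hk, mul_assoc, hab (w ^ k), ← mul_assoc]),
        map_mul, map_zpow, hsv]
    · obtain ⟨k, hk⟩ := h.move y
      rw [hform y k hk, mul_eq_left]
      constructor
      · intro hy
        have h1 := (h.fix y).1 hy
        rw [hk, mul_eq_left] at h1
        have h2 := zexp hexp h.ne (h1.trans (zpow_zero w).symm)
        rw [sub_zero] at h2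
        rw [zpow_of_dvd hexp (b := 0) (by rw [sub_zero]; exact h2.mul_left l), zpow_zero]
      · intro hy
        by_contra hyD
        have h2 := zexp hexp h'.ne (hy.trans (zpow_zero v).symm)
        rw [sub_zero] at h2
        rcases (Nat.prime_iff_prime_int.1 hp.out).dvd_or_dvd h2 with h3 | h3
        exacts [h'.move_ne hexp hw hl h3, h.move_ne hexp hyD hk h3]
    · obtain ⟨k, hk⟩ := h.move y
      exact ⟨_, hform y k hk⟩

/-- The centres of commuting transvections lie in each other's axes. -/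
theorem Tv.centre_mem (h : Tv p t w D) (h' : Tv p s v E) (hexp : ∀ a : A, a ^ p = 1)
    (hab : ∀ a b : A, a * b = b * a) (hc : Commute t s) : v ∈ D := by
  have hc' : ∀ x, t (s x) = s (t x) := fun x => congrArg (fun f : MulAut A => f x) hc.eq
  have hsv : s v = v := (h'.fix v).1 h'.mem
  by_contra hvD
  obtain ⟨i, hi⟩ := h.move v
  have hi0 := h.move_ne hexp hvD hi
  obtain ⟨m, hm⟩ := exists_inv i hi0
  have hsw : s w = w := by
    have h1 := hc' v
    rw [hsv, hi, map_mul, map_zpow, hsv, mul_right_inj] at h1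
    have h2 := congrArg (· ^ m) h1
    simp only [← zpow_mul] at h2
    rw [zpow_of_dvd hexp hm, zpow_of_dvd hexp hm, zpow_one, zpow_one] at h2
    exact h2.symm
  obtain ⟨x, hx⟩ : ∃ x, x ∉ E := by
    by_contra! hall
    have h1 := h'.index
    rw [(eq_top_iff.2 (fun x _ => hall x) : E = ⊤), index_top] at h1
    exact hp.out.one_lt.ne h1
  obtain ⟨k, hk⟩ := h.move x
  obtain ⟨j, hj⟩ := h'.move x
  have h3 := hc' x
  rw [hj, hk, map_mul, map_zpow, map_mul, map_zpow, hj, hk, hi, hsw,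
    (show Commute v (w ^ i) from hab _ _).mul_zpow, ← zpow_mul, mul_assoc, mul_assoc x,
    mul_right_inj, ← mul_assoc, hab (w ^ k) (v ^ j), mul_eq_left] at h3
  have h4 := zexp hexp h.ne (h3.trans (zpow_zero w).symm)
  rw [sub_zero] at h4
  rcases (Nat.prime_iff_prime_int.1 hp.out).dvd_or_dvd h4 with h5 | h5
  exacts [hi0 h5, h'.move_ne hexp hx hj h5]

omit hp in
theorem exists_decomp [Finite A] [Fact p.Prime] (hA : Nat.card A = p ^ 3) (hD : D.index = p)
    (hab : ∀ a b : A, a * b = b * a) {x0 : A} (hx0 : x0 ∉ D) (x : A) :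
    ∃ d ∈ D, ∃ m : ℤ, x = d * x0 ^ m := by
  haveI : D.Normal := ⟨fun y hy z => by rwa [hab z y, mul_inv_cancel_right]⟩
  have hpp := (Fact.out : p.Prime)
  have hP : IsPGroup p A := IsPGroup.of_card hA
  have hle : D ⊔ zpowers x0 = ⊤ := by
    obtain ⟨j, hj⟩ := IsPGroup.iff_card.1 (hP.to_subgroup (D ⊔ zpowers x0))
    refine eq_top_of_card_eq _ (le_antisymm (card_le_card_group _) ?_)
    have hlt : p ^ 2 < p ^ j := by
      have h1 := D.card_mul_index
      rw [hD, hA, pow_succ] at h1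
      rw [← Nat.eq_of_mul_eq_mul_right hpp.pos h1, ← hj]
      by_contra hge
      exact hx0 ((eq_of_le_of_card_ge (le_sup_left : D ≤ D ⊔ zpowers x0) (not_lt.1 hge)).symm ▸
        mem_sup_right (mem_zpowers x0) : x0 ∈ D)
    rw [hA, hj]
    exact Nat.pow_le_pow_right hpp.pos ((Nat.pow_lt_pow_iff_right hpp.one_lt).1 hlt)
  obtain ⟨y, hy, z, hz, rfl⟩ := mem_sup_of_normal_left.1 (hle.symm ▸ Subgroup.mem_top x : x ∈ _)
  obtain ⟨m, rfl⟩ := mem_zpowers_iff.1 hz
  exact ⟨y, hy, m, rfl⟩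

/-- Fixing a maximal subgroup pointwise and moving one element inside it gives a transvection. -/
theorem tv_of_fix [Finite A] (hA : Nat.card A = p ^ 3) (hexp : ∀ a : A, a ^ p = 1)
    (hab : ∀ a b : A, a * b = b * a) (hD : D.index = p) (hfix : ∀ x ∈ D, t x = x) {x0 : A}
    (hx0 : x0 ∉ D) (hv : v ≠ 1) (hvD : v ∈ D) (hval : t x0 = x0 * v) : Tv p t v D := by
  have hgen : ∀ x, ∃ d ∈ D, ∃ m : ℤ, x = d * x0 ^ m ∧ t x = x * v ^ m := fun x => by
    obtain ⟨d, hd, m, rfl⟩ := exists_decomp hA hD hab hx0 x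
    refine ⟨d, hd, m, rfl, ?_⟩
    rw [map_mul, map_zpow, hfix d hd, hval, (show Commute x0 v from hab _ _).mul_zpow, mul_assoc]
  refine ⟨hv, hvD, hD, fun x => ⟨hfix x, fun hx => ?_⟩, fun x => ?_⟩
  · obtain ⟨d, hd, m, rfl, hm⟩ := hgen x
    rw [hx, left_eq_mul] at hm
    have h1 := zexp hexp hv (hm.trans (zpow_zero v).symm)
    rw [sub_zero] at h1
    rw [zpow_of_dvd hexp (b := 0) (by rwa [sub_zero]), zpow_zero, mul_one]
    exact hd
  · obtain ⟨-, -, m, -, hm⟩ := hgen x
    exact ⟨m, hm⟩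

/-- Two independent elements of the axis generate it. -/
theorem exists_coord [Finite A] (hA : Nat.card A = p ^ 3) (hexp : ∀ a : A, a ^ p = 1) (hD : D.index = p)
    {a b x : A} (ha : a ∈ D) (hb : b ∈ D) (ha1 : a ≠ 1) (hab' : b ∉ zpowers a)
    (hab : ∀ a b : A, a * b = b * a) (hx : x ∈ D) : ∃ i j : ℤ, x = a ^ i * b ^ j := by
  haveI : (zpowers a).Normal := ⟨fun y hy g => by rwa [hab g y, mul_inv_cancel_right]⟩
  set U := zpowers b ⊔ zpowers a
  have hU : U ≤ D := sup_le (zpowers_le.2 hb) (zpowers_le.2 ha)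
  have hP : IsPGroup p A := IsPGroup.of_card hA
  obtain ⟨j, hj⟩ := IsPGroup.iff_card.1 (hP.to_subgroup U)
  have hDcard : Nat.card D = p ^ 2 := by
    have h1 := D.card_mul_index
    rw [hD, hA, pow_succ] at h1
    exact Nat.eq_of_mul_eq_mul_right hp.out.pos h1
  have hlt : p ^ 1 < p ^ j := by
    rw [show p ^ 1 = Nat.card (zpowers a) by rw [pow_one, Nat.card_zpowers, orderOf_eq hexp ha1], ← hj]
    by_contra hge
    exact hab' ((eq_of_le_of_card_ge (le_sup_right : _ ≤ U) (not_lt.1 hge)).symm ▸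
      mem_sup_left (mem_zpowers b) : b ∈ _)
  have hUD : U = D := eq_of_le_of_card_ge hU (by
    rw [hDcard, hj]
    exact Nat.pow_le_pow_right hp.out.pos ((Nat.pow_lt_pow_iff_right hp.out.one_lt).1 hlt))
  rw [← hUD] at hx
  obtain ⟨y, hy, z, hz, rfl⟩ := mem_sup_of_normal_right.1 hx
  obtain ⟨m, rfl⟩ := mem_zpowers_iff.1 hy
  obtain ⟨k, rfl⟩ := mem_zpowers_iff.1 hz
  exact ⟨k, m, hab _ _⟩

/-- The main lemma. -/
theorem three_dim [Finite A] (hA : Nat.card A = p ^ 3) (hexp : ∀ a : A, a ^ p = 1)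
    (hab : ∀ a b : A, a * b = b * a) {G : Subgroup (MulAut A)} (T : Sylow p G) {Y : Subgroup G}
    (hY : Y ≠ ⊤) (hN : ∀ Q : Subgroup G, Q ≤ T → Q ≠ ⊥ → Subgroup.normalizer (Q : Set G) ≤ Y) {t : G} (htT : t ∈ (T : Subgroup G))
    (hcen : ∀ γ ∈ (T : Subgroup G), Commute γ t) (ht : Tv p (t : MulAut A) w D) :
    (∀ γ ∈ (T : Subgroup G), ∃ k : ℤ, γ = t ^ k) ∧
      ∃ g : G, (g : MulAut A) w ∉ D ∧ w ∉ D.map (g : MulAut A).toMonoidHom := by
  classical
  have hpp := hp.out
  have hpi := Nat.prime_iff_prime_int.1 hpp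
  haveI : Finite (MulAut A) := Finite.of_injective _ MulEquiv.toEquiv_injective
  have hP : IsPGroup p A := IsPGroup.of_card hA
  have hmemY := mem_of_normalizers_le T hN
  have ht1 : t ≠ 1 := fun e => ht.ne_one (by rw [e, OneMemClass.coe_one])
  have hTY : (T : Subgroup G) ≤ Y := fun x hx => by
    refine hN T le_rfl ?_ (Subgroup.le_normalizer hx)
    exact (nontrivial_iff_ne_bot _).1 ⟨⟨⟨t, htT⟩, 1, fun e => ht1 (congrArg Subtype.val e)⟩⟩
  -- a `p`-element of `Y` carried into `Y`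
  have hpair : ∀ (c g : G) (k : ℕ), c ≠ 1 → c ^ p ^ k = 1 → c ∈ Y → g⁻¹ * c * g ∈ Y → g ∈ Y := by
    intro c g k hc1 hck hcY hcgY
    let TY : Sylow p Y := T.subtype hTY
    have hpg : ∀ z : Y, z ^ p ^ k = 1 → IsPGroup p (zpowers z) := fun z hz => by
      obtain ⟨i, -, hi⟩ := (Nat.dvd_prime_pow hpp).1 (orderOf_dvd_of_pow_eq_one hz)
      exact IsPGroup.of_card (n := i) (by rw [Nat.card_zpowers, hi])
    obtain ⟨y, hy⟩ := exists_conj_mem_sylow (hpg ⟨c, hcY⟩ (Subtype.ext hck)) TY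
    obtain ⟨y', hy'⟩ := exists_conj_mem_sylow (hpg ⟨g⁻¹ * c * g, hcgY⟩ (Subtype.ext (by
      show (g⁻¹ * c * g) ^ p ^ k = 1
      have h1 := conj_pow (a := g⁻¹) (b := c) (i := p ^ k)
      rw [inv_inv] at h1
      rw [h1, hck, mul_one, inv_mul_cancel]))) TY
    have h1 : (y : G) * c * (y : G)⁻¹ ∈ (T : Subgroup G) := hy _ (mem_zpowers _)
    have h2 : (y' : G) * (g⁻¹ * c * g) * (y' : G)⁻¹ ∈ (T : Subgroup G) := hy' _ (mem_zpowers _)
    have hz : (y' : G) * g⁻¹ * (y : G)⁻¹ ∈ Y := by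
      refine hmemY (zpowers ((y : G) * c * (y : G)⁻¹)) _ (zpowers_le.2 h1) (fun e => hc1 ?_) ?_
      · rw [zpowers_eq_bot, conj_eq_one_iff] at e
        exact e
      · intro d hd
        obtain ⟨i, rfl⟩ := mem_zpowers_iff.1 hd
        rw [← conj_zpow]
        refine zpow_mem ?_ i
        convert h2 using 1
        group
    have : g⁻¹ = (y' : G)⁻¹ * ((y' : G) * g⁻¹ * (y : G)⁻¹) * y := by group
    rw [← inv_mem_iff, this]
    exact mul_mem (mul_mem (inv_mem y'.2) hz) y.2
  have hcenY : ∀ x g : G, x ∈ (T : Subgroup G) → x ≠ 1 → Commute g x → g ∈ Y := by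
    intro x g hx hx1 hc
    refine hmemY (zpowers x) g (zpowers_le.2 hx) (fun e => hx1 (zpowers_eq_bot.1 e)) fun d hd => ?_
    obtain ⟨i, rfl⟩ := mem_zpowers_iff.1 hd
    rw [(hc.zpow_right i).eq, mul_inv_cancel_right]
    exact zpow_mem hx i
  have hpowG : ∀ (c : G) (x : A) (E : Subgroup A), Tv p (c : MulAut A) x E → c ^ p ^ 1 = 1 :=
    fun c x E hc => Subtype.ext (by
      rw [pow_one, SubmonoidClass.coe_pow, hc.pow_prime hexp, OneMemClass.coe_one])
  have hne1 : ∀ (c : G) (x : A) (E : Subgroup A), Tv p (c : MulAut A) x E → c ≠ 1 :=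
    fun c x E hc e => hc.ne_one (by rw [e, OneMemClass.coe_one])
  -- centres and axes of transvections from different conjugates are opposite
  have opp : ∀ (a b : G) (x y : A) (Ea Eb : Subgroup A), a ∈ (T : Subgroup G) → b ∈ (T : Subgroup G) →
      Tv p (a : MulAut A) x Ea → Tv p (b : MulAut A) y Eb → ∀ g : G, g ∉ Y →
      (g : MulAut A) y ∉ Ea := by
    intro a b x y Ea Eb haT hbT ha hb g hg hmem
    rcases ha.pair (hb.conj (g : MulAut A)) hexp hab hmem with hc | ⟨hc1, hc2, hc3⟩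
    · refine hg (hpair (g * b * g⁻¹) g 1 (fun e => hne1 b y Eb hb (conj_eq_one_iff.1 e)) ?_
        (hcenY a _ haT (hne1 a x Ea ha) (Subtype.ext hc.symm.eq))
        (by rw [show g⁻¹ * (g * b * g⁻¹) * g = b by group]; exact hTY hbT))
      rw [conj_pow, hpowG b y Eb hb, mul_one, mul_inv_cancel]
    · set c : G := g * b * g⁻¹ * a * (g * b * g⁻¹)⁻¹ * a⁻¹ with hc
      have hcoe : (c : MulAut A) = (g : MulAut A) * b * (g : MulAut A)⁻¹ * a *
          ((g : MulAut A) * b * (g : MulAut A)⁻¹)⁻¹ * (a : MulAut A)⁻¹ := rfl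
      refine hg (hpair c g 1 (hne1 c _ Ea (hcoe.symm ▸ hc3)) (hpowG c _ Ea (hcoe.symm ▸ hc3))
        (hcenY a c haT (hne1 a x Ea ha) (Subtype.ext (hcoe.symm ▸ hc1).eq)) ?_)
      refine hcenY b _ hbT (hne1 b y Eb hb) ?_
      have h3 : Commute c (g * b * g⁻¹) := Subtype.ext (hcoe.symm ▸ hc2).eq
      show g⁻¹ * c * g * b = b * (g⁻¹ * c * g)
      calc g⁻¹ * c * g * b = g⁻¹ * (c * (g * b * g⁻¹)) * g := by group
        _ = g⁻¹ * (g * b * g⁻¹ * c) * g := by rw [h3.eq]
        _ = _ := by group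
  obtain ⟨g, hg⟩ : ∃ g : G, g ∉ Y := by
    by_contra! h
    exact hY (eq_top_iff.2 fun x _ => h x)
  -- `p`-elements commuting with `t` lie in `T`
  set C : ℕ → Subgroup Ω := fun i =>
    (if i = 0 then (⊥ : Subgroup A) else if i = 1 then zpowers w else if i = 2 then D else ⊤).map A.subtype
  have hmono : Monotone C := monotone_nat_of_le_succ fun i => map_mono (by
    match i with
    | 0 => exact bot_le
    | 1 => exact zpowers_le.2 ht.mem
    | 2 => exact le_top
    | i + 3 => exact le_top)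
  have hCmem : ∀ i (x : A), (x : Ω) ∈ C i ↔
      x ∈ (if i = 0 then (⊥ : Subgroup A) else if i = 1 then zpowers w else if i = 2 then D else ⊤) :=
    fun i x => mem_map_iff_mem A.subtype_injective
  have hrel : ∀ {U V : Subgroup A}, U ≤ V → Nat.card V ≤ Nat.card U * p → U.relIndex V ≤ p := by
    intro U V hle hc
    have h1 := (U.subgroupOf V).card_mul_index
    rw [Nat.card_congr (subgroupOfEquivOfLe hle).toEquiv] at h1
    exact Nat.le_of_mul_le_mul_left (h1.trans_le hc) Nat.card_pos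
  have hcardD : Nat.card D = p ^ 2 := by
    have h1 := D.card_mul_index
    rw [ht.index, hA, pow_succ] at h1
    exact Nat.eq_of_mul_eq_mul_right hpp.pos h1
  have hcardw : Nat.card (zpowers w) = p := by rw [Nat.card_zpowers, orderOf_eq hexp ht.ne]
  have hΓ : IsPGroup p ↥(G ⊓ chainStab (P := A) C hmono 3) := by
    refine isPGroup_chainStab hP hmono (fun x hx => (hCmem 3 ⟨x, hx⟩).2 trivial) fun δ _ _ x hx hxC => ?_
    have h1 : (⟨x, hx⟩ : A) = 1 := mem_bot.1 ((hCmem 0 ⟨x, hx⟩).1 hxC)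
    have h2 : x = 1 := congrArg Subtype.val h1
    subst h2
    rw [apl_apply δ hx, show (⟨1, hx⟩ : A) = 1 from rfl, map_one, coe_one]
  have hstab : ∀ γ : G, Commute γ t → ∀ k : ℕ, γ ^ p ^ k = 1 →
      (γ : MulAut A) ∈ chainStab (P := A) C hmono 3 := by
    intro γ hc k hk
    have hc' : ∀ x, (γ : MulAut A) ((t : MulAut A) x) = (t : MulAut A) ((γ : MulAut A) x) := fun x =>
      congrArg (fun f : G => (f : MulAut A) x) hc.eq
    have hk' : (γ : MulAut A) ^ p ^ k = 1 := by
      rw [← SubmonoidClass.coe_pow, hk, OneMemClass.coe_one]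
    have hinvD : ∀ x, (γ : MulAut A) x ∈ D ↔ x ∈ D := fun x => by
      rw [ht.fix, ht.fix, ← hc', EmbeddingLike.apply_eq_iff_eq]
    have hinvw : ∀ x, (γ : MulAut A) x ∈ zpowers w ↔ x ∈ zpowers w := by
      have key : (zpowers w).map (γ : MulAut A).toMonoidHom = zpowers w := by
        refine eq_of_le_of_card_ge ?_ ?_
        · rw [MonoidHom.map_zpowers, zpowers_le]
          obtain ⟨x, hx⟩ : ∃ x, x ∉ D := by
            by_contra! h
            have := ht.index
            rw [(eq_top_iff.2 (fun x _ => h x) : D = ⊤), index_top] at this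
            exact hpp.one_lt.ne this
          obtain ⟨k', hk2⟩ := ht.move x
          obtain ⟨k2, hk3⟩ := ht.move ((γ : MulAut A) x)
          obtain ⟨m, hm⟩ := exists_inv k' (ht.move_ne hexp hx hk2)
          have h1 := hc' x
          rw [hk2, map_mul, map_zpow, hk3, mul_right_inj] at h1
          have h2 := congrArg (· ^ m) h1
          simp only [← zpow_mul] at h2
          rw [zpow_of_dvd hexp hm, zpow_one] at h2
          exact mem_zpowers_iff.2 ⟨_, h2.symm⟩
        · rw [card_map_of_injective (f := (γ : MulAut A).toMonoidHom) (γ : MulAut A).injective]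
      intro x
      constructor
      · intro hx
        rw [← key] at hx
        obtain ⟨y, hy, hyx⟩ := hx
        rwa [← (γ : MulAut A).injective hyx]
      · exact fun hx => key ▸ mem_map_of_mem _ hx
    refine mem_chainStab.2 fun i hi x hxA hxC => ?_
    rw [apl_apply _ hxA]
    have hx' := (hCmem (i + 1) ⟨x, hxA⟩).1 hxC
    refine (hCmem i ((⟨x, hxA⟩ : A)⁻¹ * (γ : MulAut A) ⟨x, hxA⟩)).2 ?_
    rcases (by omega : i = 0 ∨ i = 1 ∨ i = 2) with rfl | rfl | rfl
    · exact step_trivial (A := (⊥ : Subgroup A)) (B := zpowers w)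
        ((relIndex_bot_left _).trans hcardw).le
        (fun y => by simp) hinvw hk' hx'
    · exact step_trivial (A := zpowers w) (B := D)
        (hrel (zpowers_le.2 ht.mem) (by rw [hcardD, hcardw, pow_two]))
        hinvw hinvD hk' hx'
    · exact step_trivial (A := D) (B := ⊤) (hrel le_top (by rw [card_top, hA, hcardD, pow_succ]))
        hinvD (fun y => iff_of_true trivial trivial) hk' hx'
  have hTpow : ∀ γ ∈ (T : Subgroup G), ∃ k : ℕ, γ ^ p ^ k = 1 := fun γ hγ => by
    obtain ⟨k, hk⟩ := T.2 ⟨γ, hγ⟩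
    exact ⟨k, congrArg Subtype.val hk⟩
  have hmemT : ∀ γ : G, Commute γ t → ∀ k : ℕ, γ ^ p ^ k = 1 → γ ∈ (T : Subgroup G) := by
    intro γ hc k hk
    have hle : (T : Subgroup G) ≤ (G ⊓ chainStab (P := A) C hmono 3).subgroupOf G := fun x hx => by
      obtain ⟨j, hj⟩ := hTpow x hx
      exact mem_subgroupOf.2 ⟨x.2, hstab x (hcen x hx) j hj⟩
    rw [← T.3 hΓ.comap_subtype hle]
    exact mem_subgroupOf.2 ⟨γ.2, hstab γ hc k hk⟩
  have hout : ∀ {U : Subgroup A}, U.index = p → ∃ x, x ∉ U := fun {U} hU => by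
    by_contra! h
    rw [(eq_top_iff.2 (fun x _ => h x) : U = ⊤), index_top] at hU
    exact hpp.one_lt.ne hU
  have hcomm : ∀ γ ∈ (T : Subgroup G), Commute (t : MulAut A) γ := fun γ hγ =>
    congrArg Subtype.val (hcen γ hγ).symm.eq
  have hv0 : ∀ (U : Subgroup A) (f : MulAut A), U.index = p → ∃ a, a ≠ 1 ∧ a ∈ U ∧ f a ∈ U := by
    intro U f hU
    by_contra! h
    have h1 := Subgroup.index_inf_le (H := U) (K := U.comap f.toMonoidHom)
    have hbot : U ⊓ U.comap f.toMonoidHom = ⊥ := (eq_bot_iff_forall _).2 fun a ha =>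
      by_contra fun hne => h a hne ha.1 ha.2
    rw [hbot, index_bot, hA, hU, index_comap_of_surjective _ f.surjective, hU, ← pow_two,
      Nat.pow_le_pow_iff_right hpp.one_lt] at h1
    omega
  -- no transvection of `T` has another centre
  have hcentre : ∀ (τ : G) (r : A) (E : Subgroup A), τ ∈ (T : Subgroup G) →
      Tv p (τ : MulAut A) r E → r ∈ zpowers w := by
    intro τ r E hτT hτ
    by_contra hr
    have hrD : r ∈ D := ht.centre_mem hτ hexp hab (hcomm τ hτT)
    have hwE : w ∈ E := hτ.centre_mem ht hexp hab (hcomm τ hτT).symm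
    have hED : D = E := by
      refine eq_of_le_of_card_ge (fun x hx => ?_) ?_
      · obtain ⟨i, j, rfl⟩ := exists_coord hA hexp ht.index ht.mem hrD ht.ne hr hab hx
        exact mul_mem (zpow_mem hwE i) (zpow_mem hτ.mem j)
      · have h1 := E.card_mul_index
        rw [hτ.index, hA, pow_succ] at h1
        rw [Nat.eq_of_mul_eq_mul_right hpp.pos h1, hcardD]
    subst hED
    -- every element of the axis is a centre
    obtain ⟨v, hv1, hvD, hgv⟩ := hv0 D (g : MulAut A) ht.index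
    obtain ⟨a, b, hvab⟩ := exists_coord hA hexp ht.index ht.mem hrD ht.ne hr hab hvD
    obtain ⟨x0, hx0⟩ := hout ht.index
    obtain ⟨i0, hi0⟩ := ht.move x0
    obtain ⟨j0, hj0⟩ := hτ.move x0
    obtain ⟨i', hi'⟩ := exists_inv i0 (ht.move_ne hexp hx0 hi0)
    obtain ⟨j', hj'⟩ := exists_inv j0 (hτ.move_ne hexp hx0 hj0)
    have hfix : ∀ x ∈ D, ∀ m m' : ℤ, ((t ^ m * τ ^ m' : G) : MulAut A) x = x := fun x hx m m' => by
      rw [Subgroup.coe_mul, SubgroupClass.coe_zpow, SubgroupClass.coe_zpow, MulAut.mul_apply,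
        hτ.zpow_apply (k := 0) (by rw [(hτ.fix x).1 hx, zpow_zero, mul_one]), zero_mul, zpow_zero,
        mul_one, ht.zpow_apply (k := 0) (by rw [(ht.fix x).1 hx, zpow_zero, mul_one]), zero_mul,
        zpow_zero, mul_one]
    have hval : ((t ^ (a * i') * τ ^ (b * j') : G) : MulAut A) x0 = x0 * v := by
      rw [Subgroup.coe_mul, SubgroupClass.coe_zpow, SubgroupClass.coe_zpow, MulAut.mul_apply,
        hτ.zpow_apply hj0, map_mul, map_zpow, ht.zpow_apply hi0,
        ht.zpow_apply (x := r) (k := 0) (by rw [(ht.fix r).1 hrD, zpow_zero, mul_one]), zero_mul,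
        zpow_zero, mul_one, mul_assoc, hvab]
      congr 2
      · exact zpow_of_dvd hexp (by
          rw [show i0 * (a * i') - a = a * (i0 * i' - 1) by ring]; exact hi'.mul_left a) w
      · exact zpow_of_dvd hexp (by
          rw [show j0 * (b * j') - b = b * (j0 * j' - 1) by ring]; exact hj'.mul_left b) r
    exact opp t _ w v D D htT (mul_mem (zpow_mem htT _) (zpow_mem hτT _)) ht
      (tv_of_fix hA hexp hab ht.index (fun x hx => hfix x hx _ _) hx0 hv1 hvD hval) g hg hgv
  set u := (g : MulAut A) w with hu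
  have huD : u ∉ D := opp t t w w D D htT htT ht ht g hg
  have hunit : ∀ {k : ℤ}, ¬ (p : ℤ) ∣ k → ∀ a : ℤ, ∃ m : ℤ, (p : ℤ) ∣ k * m - a := fun {k} hk a => by
    obtain ⟨m, hm⟩ := exists_inv k hk
    exact ⟨m * a, by rw [show k * (m * a) - a = a * (k * m - 1) by ring]; exact hm.mul_left a⟩
  have hγw : ∀ γ ∈ (T : Subgroup G), ∀ x, x ∈ D → x⁻¹ * (γ : MulAut A) x ∈ zpowers w := by
    intro γ hγ x hx
    obtain ⟨k, hk⟩ := hTpow γ hγ
    have h1 := mem_chainStab.1 (hstab γ (hcen γ hγ) k hk) 1 (by norm_num) x x.2 ((hCmem 2 x).2 hx)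
    rw [apl_apply _ x.2] at h1
    exact (hCmem 1 (x⁻¹ * (γ : MulAut A) x)).1 h1
  have hγD : ∀ γ ∈ (T : Subgroup G), ∀ x, x⁻¹ * (γ : MulAut A) x ∈ D := by
    intro γ hγ x
    obtain ⟨k, hk⟩ := hTpow γ hγ
    have h1 := mem_chainStab.1 (hstab γ (hcen γ hγ) k hk) 2 (by norm_num) x x.2
      ((hCmem 3 x).2 trivial)
    rw [apl_apply _ x.2] at h1
    exact (hCmem 2 (x⁻¹ * (γ : MulAut A) x)).1 h1
  -- every element of `T` is trivial modulo the centre
  have htriv : ∀ X ∈ (T : Subgroup G), ∀ x, x⁻¹ * (X : MulAut A) x ∈ zpowers w := by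
    intro X hXT
    by_contra! hne
    obtain ⟨x, hx⟩ := hne
    set d := u⁻¹ * (X : MulAut A) u with hd
    have hdD : d ∈ D := hγD X hXT u
    have hdw : d ∉ zpowers w := by
      intro hdw
      obtain ⟨e, he, m, rfl⟩ := exists_decomp hA ht.index hab huD x
      refine hx ?_
      rw [map_mul, map_zpow, show (e * u ^ m)⁻¹ * ((X : MulAut A) e * (X : MulAut A) u ^ m) =
        e⁻¹ * (X : MulAut A) e * ((u ^ m)⁻¹ * (X : MulAut A) u ^ m) by
          letI : CommGroup A := { (inferInstance : Group A) with mul_comm := hab }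
          rw [mul_inv_rev, hab ((u ^ m)⁻¹) e⁻¹]
          exact mul_mul_mul_comm _ _ _ _]
      refine mul_mem (hγw X hXT e he) ?_
      rw [show (X : MulAut A) u = u * d by rw [hd, mul_inv_cancel_left],
        (show Commute u d from hab _ _).mul_zpow, inv_mul_cancel_left]
      exact zpow_mem hdw m
    have hXu : (X : MulAut A) u = u * d := by rw [hd, mul_inv_cancel_left]
    obtain ⟨kX, hkX⟩ := hTpow X hXT
    have hX1 : X ≠ 1 := fun e => hx (by
      rw [e, OneMemClass.coe_one, MulAut.one_apply, inv_mul_cancel]; exact one_mem _)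
    set h : G := g⁻¹ * X⁻¹ * g with hh
    have hhY : h ∉ Y := fun hY' => hg (hpair X⁻¹ g kX (inv_ne_one.2 hX1)
      (by rw [inv_pow, hkX, inv_one]) (hTY (inv_mem hXT)) hY')
    have ht2 := (ht.conj (g : MulAut A)).conj (X : MulAut A)
    rw [← hu, hXu] at ht2
    -- the point `u` is moved by the second transvection
    have humove : u ∉ (D.map (g : MulAut A).toMonoidHom).map (X : MulAut A).toMonoidHom := by
      rintro ⟨y, ⟨z, hz, rfl⟩, hy⟩
      refine opp t t w w D D htT htT ht ht h hhY ?_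
      have e : (h : MulAut A) w = z := by
        rw [hh, Subgroup.coe_mul, Subgroup.coe_mul, Subgroup.coe_inv, Subgroup.coe_inv,
          MulAut.mul_apply, MulAut.mul_apply, ← hu, ← hy]
        simp [MulAut.inv_apply]
      rwa [e]
    obtain ⟨k, hk⟩ := ht2.move u
    obtain ⟨m, hm⟩ := hunit (ht2.move_ne hexp humove hk) (-1)
    set t2 : G := X * (g * t * g⁻¹) * X⁻¹ with ht2d
    set f : G := t2 ^ m * g with hf
    have hfw : (f : MulAut A) w = d⁻¹ := by
      rw [hf, ht2d, Subgroup.coe_mul, SubgroupClass.coe_zpow, MulAut.mul_apply, ← hu]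
      show (((X : MulAut A) * ((g : MulAut A) * t * (g : MulAut A)⁻¹) * (X : MulAut A)⁻¹) ^ m) u = _
      rw [ht2.zpow_apply hk, zpow_of_dvd hexp hm, zpow_neg_one, mul_inv_rev, hab d⁻¹, mul_inv_cancel_left]
    -- the conjugate transvection with that centre
    have hτ := ht.conj (f : MulAut A)
    rw [hfw] at hτ
    set τ : G := f * t * f⁻¹ with hτd
    have hτp : τ ^ p ^ 1 = 1 := by
      rw [hτd, conj_pow, hpowG t w D ht, mul_one, mul_inv_cancel]
    rcases ht.pair hτ hexp hab (inv_mem hdD) with hc | ⟨hc1, -, hc3⟩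
    · exact hdw (inv_mem_iff.1 (hcentre τ d⁻¹ _ (hmemT τ (Subtype.ext hc.symm.eq) 1 hτp) hτ))
    · set c : G := τ * t * τ⁻¹ * t⁻¹ with hc
      exact hdw (inv_mem_iff.1 (hcentre c d⁻¹ D
        (hmemT c (Subtype.ext hc1.eq) 1 (hpowG c _ D hc3)) hc3))
  refine ⟨fun γ hγ => ?_, g, huD, fun hmem => ?_⟩
  · -- otherwise every maximal subgroup over the centre is an axis
    obtain ⟨x0, hx0⟩ := hout ht.index
    by_contra! hne
    obtain ⟨k, hk⟩ := ht.move u
    obtain ⟨j, hj⟩ := mem_zpowers_iff.1 (htriv γ hγ u)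
    obtain ⟨k', hk'⟩ := exists_inv k (ht.move_ne hexp huD hk)
    set σ : G := t ^ (-(k' * j)) * γ with hσ
    have hσT : σ ∈ (T : Subgroup G) := mul_mem (zpow_mem htT _) hγ
    have hσ1 : σ ≠ 1 := fun e => hne (k' * j) (by
      rw [hσ, zpow_neg, inv_mul_eq_one] at e
      exact e.symm)
    have hσw : (σ : MulAut A) w = w := by
      obtain ⟨n, hn⟩ := hTpow σ hσT
      have h1 := mem_chainStab.1 (hstab σ (hcen σ hσT) n hn) 0 (by norm_num) w w.2
        ((hCmem 1 w).2 (mem_zpowers w))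
      rw [apl_apply _ w.2] at h1
      exact (inv_mul_eq_one.1 (mem_bot.1 ((hCmem 0 (w⁻¹ * (σ : MulAut A) w)).1 h1))).symm
    have hσu : (σ : MulAut A) u = u := by
      rw [hσ, Subgroup.coe_mul, SubgroupClass.coe_zpow, MulAut.mul_apply,
        show (γ : MulAut A) u = u * w ^ j by rw [hj, mul_inv_cancel_left], map_mul, map_zpow,
        ht.zpow_apply hk, ht.zpow_apply (x := w) (k := 0)
          (by rw [(ht.fix w).1 ht.mem, zpow_zero, mul_one]), zero_mul, zpow_zero, mul_one, mul_assoc,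
        ← zpow_add, zpow_of_dvd hexp (b := 0) (by
          rw [show k * -(k' * j) + j - 0 = -(j * (k * k' - 1)) by ring]
          exact (hk'.mul_left j).neg_right), zpow_zero, mul_one]
    haveI : (zpowers w).Normal := ⟨fun y hy z => by rwa [hab z y, mul_inv_cancel_right]⟩
    set U := zpowers u ⊔ zpowers w
    have hUfix : ∀ x ∈ U, (σ : MulAut A) x = x := fun x hx => by
      have hle : U ≤ MonoidHom.eqLocus (σ : MulAut A).toMonoidHom (MonoidHom.id A) :=
        sup_le (zpowers_le.2 hσu) (zpowers_le.2 hσw)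
      exact hle hx
    obtain ⟨x, hxU⟩ : ∃ x, (σ : MulAut A) x ≠ x := by
      by_contra! hall
      exact hσ1 (Subtype.ext (MulEquiv.ext hall))
    have hUidx : U.index = p := by
      obtain ⟨i, hi⟩ := IsPGroup.iff_card.1 (hP.to_subgroup U)
      have h1 : p ^ 1 < p ^ i := by
        rw [show p ^ 1 = Nat.card (zpowers w) by rw [pow_one, hcardw], ← hi]
        by_contra hge
        exact huD (zpowers_le.2 ht.mem ((eq_of_le_of_card_ge (le_sup_right : zpowers w ≤ U)
          (not_lt.1 hge)).symm ▸ mem_sup_left (mem_zpowers u) : u ∈ _))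
      have h2 : p ^ i < p ^ 3 := by
        rw [← hi, ← hA]
        by_contra hge
        exact hxU (hUfix x ((eq_top_of_card_eq U (le_antisymm (card_le_card_group _)
          (not_lt.1 hge))).symm ▸ mem_top x))
      have := (Nat.pow_lt_pow_iff_right hpp.one_lt).1 h1
      have := (Nat.pow_lt_pow_iff_right hpp.one_lt).1 h2
      have h3 := U.card_mul_index
      rw [hi, hA, show i = 2 by omega, pow_succ p 2] at h3
      exact Nat.eq_of_mul_eq_mul_left (pow_pos hpp.pos 2) h3
    have hval : (σ : MulAut A) x = x * (x⁻¹ * (σ : MulAut A) x) := (mul_inv_cancel_left _ _).symm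
    have hσtv := tv_of_fix hA hexp hab hUidx hUfix (fun hx' => hxU (hUfix x hx'))
      (fun e => hxU (inv_mul_eq_one.1 e).symm)
      (mem_sup_right (htriv σ hσT x) : x⁻¹ * (σ : MulAut A) x ∈ U) hval
    exact opp σ t _ w U D hσT htT hσtv ht g hg (mem_sup_left (mem_zpowers u))
  · obtain ⟨z, hz, hzw⟩ := hmem
    refine opp t t w w D D htT htT ht ht g⁻¹ (fun h => hg (inv_mem_iff.1 h)) ?_
    rw [Subgroup.coe_inv, ← hzw]
    simpa [MulAut.inv_apply] using hz

end Cfsg.Agent.FusSys.ThreeDim
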