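import Cfsg.Agent.FusSys.Aut
import Mathlib.SetTheory.Cardinal.NatCard

/-!
The extender `N_φ` in total-function form, receptivity, centralizers and normalizers inside `S`.
-/

set_option autoImplicit false

namespace Cfsg.Agent.FusSys

open Cfsg Cfsg.FusionSystem

variable {Ω : Type*} [Group Ω] {S : Subgroup Ω}
variable {F : FusionSystem S} {P Q R : Subgroup Ω} {f g : Ω → Ω}

/-- `N_f`: the elements of `N_S(P)` whose action on `P`, transported by `f`, is induced from `S`. -/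
def nPhi (S P : Subgroup Ω) (f : Ω → Ω) : Subgroup Ω where
  carrier := {g | g ∈ S ∧ g ∈ Subgroup.normalizer (P : Set Ω) ∧
    ∃ h ∈ S, ∀ x ∈ P, f (g * x * g⁻¹) = h * f x * h⁻¹}
  one_mem' := ⟨S.one_mem, Subgroup.one_mem _, 1, S.one_mem, fun x _ => by simp⟩
  mul_mem' := by
    rintro a b ⟨haS, han, h, hh, hax⟩ ⟨hbS, hbn, k, hk, hbx⟩
    refine ⟨S.mul_mem haS hbS, Subgroup.mul_mem _ han hbn, h * k, S.mul_mem hh hk, fun x hx => ?_⟩
    have e : a * b * x * (a * b)⁻¹ = a * (b * x * b⁻¹) * a⁻¹ := by group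
    rw [e, hax _ ((Subgroup.mem_normalizer_iff.1 hbn x).1 hx), hbx x hx]
    group
  inv_mem' := by
    rintro a ⟨haS, han, h, hh, hax⟩
    refine ⟨S.inv_mem haS, Subgroup.inv_mem _ han, h⁻¹, S.inv_mem hh, fun x hx => ?_⟩
    have h1 := hax _ ((Subgroup.mem_normalizer_iff.1 (Subgroup.inv_mem _ han) x).1 hx)
    have e : a * (a⁻¹ * x * a⁻¹⁻¹) * a⁻¹ = x := by group
    rw [e] at h1
    rw [h1]
    group

theorem mem_nPhi {a : Ω} :
    a ∈ nPhi S P f ↔ a ∈ S ∧ a ∈ Subgroup.normalizer (P : Set Ω) ∧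
      ∃ h ∈ S, ∀ x ∈ P, f (a * x * a⁻¹) = h * f x * h⁻¹ := Iff.rfl

theorem nPhi_le : nPhi S P f ≤ normalizerIn S P := fun _ h => ⟨h.1, h.2.1⟩

theorem extender_eq_nPhi {φ : P →* Ω} (h : ∀ x : P, φ x = f x) : extender S P φ = nPhi S P f := by
  refine le_antisymm ((Subgroup.closure_le _).2 ?_) fun a ha => Subgroup.subset_closure ?_
  · rintro a ⟨haS, han, k, hk, hx⟩
    refine ⟨haS, han, k, hk, fun x hxP => ?_⟩
    have h1 := hx ⟨x, hxP⟩ ((Subgroup.mem_normalizer_iff.1 han x).1 hxP)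
    rwa [h, h] at h1
  · obtain ⟨haS, han, k, hk, hx⟩ := ha
    refine ⟨haS, han, k, hk, fun x hxP => ?_⟩
    rw [h, h]
    exact hx x x.2

theorem Mor.le_nPhi (hf : Mor F P f) : P ≤ nPhi S P f := fun _ ha =>
  ⟨hf.le ha, Subgroup.le_normalizer ha, _, hf.mem_S ha, fun _ hx => hf.map_conj ha hx⟩

theorem centralizerIn_le_nPhi : centralizerIn S P ≤ nPhi S P f := fun a ha => by
  refine ⟨ha.1, Subgroup.centralizer_le_normalizer (P : Set Ω) ha.2, 1, S.one_mem, fun x hx => ?_⟩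
  have : a * x * a⁻¹ = x := by
    rw [← Subgroup.mem_centralizer_iff.1 ha.2 x hx]
    group
  rw [this]
  group

theorem isReceptive_iff :
    F.IsReceptive Q ↔ Q ≤ S ∧ ∀ P f, Iso F P Q f →
      ∃ g, Mor F (nPhi S P f) g ∧ ∀ x ∈ P, g x = f x := by
  constructor
  · rintro ⟨hQ, h⟩
    refine ⟨hQ, fun P f hf => ?_⟩
    obtain ⟨φ, hφ, hφf⟩ := hf.1
    have hr : φ.range = Q := Subgroup.ext fun y => by
      rw [hf.2 y]
      exact ⟨fun ⟨x, hx⟩ => ⟨x, x.2, (hφf x).symm.trans hx⟩,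
        fun ⟨x, hx, hxy⟩ => ⟨⟨x, hx⟩, (hφf ⟨x, hx⟩).trans hxy⟩⟩
    obtain ⟨ψ, hψ, hψφ⟩ := h P φ hφ hr
    refine ⟨extendFn ψ, extender_eq_nPhi hφf ▸ mor_extendFn hψ, fun x hx => ?_⟩
    have hx' : x ∈ extender S P φ := (extender_eq_nPhi (S := S) hφf).symm ▸ hf.1.le_nPhi hx
    rw [extendFn_apply ψ hx', hψφ x hx hx']
    exact hφf ⟨x, hx⟩
  · rintro ⟨hQ, h⟩
    refine ⟨hQ, fun P φ hφ hr => ?_⟩
    subst hr
    obtain ⟨g, hg, hgφ⟩ := h P _ (iso_extendFn hφ)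
    rw [← extender_eq_nPhi (S := S) (φ := φ) fun x => (extendFn_coe φ x).symm] at hg
    obtain ⟨ψ, hψ, hψg⟩ := hg
    exact ⟨ψ, hψ, fun x hP hN => ((hψg ⟨x, hN⟩).trans (hgφ x hP)).trans (extendFn_apply φ hP)⟩

/-- A map with source `N_S(P)` or smaller extending an isomorphism `P → Q` takes values in `N_S(Q)`. -/
theorem Mor.mem_normalizerIn {N : Subgroup Ω} (hg : Mor F N g) (hPN : P ≤ N)
    (hf : Iso F P Q g) {a : Ω} (ha : a ∈ N) (han : a ∈ Subgroup.normalizer (P : Set Ω)) :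
    g a ∈ normalizerIn S Q := by
  refine ⟨hg.mem_S ha, Subgroup.mem_normalizer_iff.2 fun y => ⟨fun hy => ?_, fun hy => ?_⟩⟩
  · obtain ⟨x, hx, rfl⟩ := hf.exists_eq hy
    rw [← hg.map_conj ha (hPN hx)]
    exact hf.mem ((Subgroup.mem_normalizer_iff.1 han x).1 hx)
  · obtain ⟨x, hx, hxy⟩ := hf.exists_eq hy
    have h1 : g (a⁻¹ * x * a⁻¹⁻¹) = (g a)⁻¹ * g x * ((g a)⁻¹)⁻¹ := by
      rw [hg.map_conj (N.inv_mem ha) (hPN hx), hg.map_inv ha]
    have h2 := hf.mem ((Subgroup.mem_normalizer_iff.1 (Subgroup.inv_mem _ han) x).1 hx)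
    rw [h1, hxy] at h2
    have e : (g a)⁻¹ * (g a * y * (g a)⁻¹) * ((g a)⁻¹)⁻¹ = y := by group
    rwa [e] at h2

theorem Mor.mem_centralizerIn {N : Subgroup Ω} (hg : Mor F N g) (hPN : P ≤ N)
    (hf : Iso F P Q g) {a : Ω} (ha : a ∈ N) (hac : a ∈ Subgroup.centralizer (P : Set Ω)) :
    g a ∈ centralizerIn S Q := by
  refine ⟨hg.mem_S ha, Subgroup.mem_centralizer_iff.2 fun y hy => ?_⟩
  obtain ⟨x, hx, rfl⟩ := hf.exists_eq hy
  rw [← hg.map_mul (hPN hx) ha, ← hg.map_mul ha (hPN hx),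
    Subgroup.mem_centralizer_iff.1 hac x hx]

theorem Mor.centralizes_of_image {N : Subgroup Ω} (hg : Mor F N g) (hPN : P ≤ N)
    (hf : Iso F P Q g) {a : Ω} (ha : a ∈ N) (hac : g a ∈ Subgroup.centralizer (Q : Set Ω)) :
    a ∈ Subgroup.centralizer (P : Set Ω) := by
  refine Subgroup.mem_centralizer_iff.2 fun x hx => hg.injOn (N.mul_mem (hPN hx) ha) (N.mul_mem ha (hPN hx)) ?_
  rw [hg.map_mul (hPN hx) ha, hg.map_mul ha (hPN hx)]
  exact Subgroup.mem_centralizer_iff.1 hac _ (hf.mem hx)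

theorem Mor.card_image_le [Finite S] {N M : Subgroup Ω} (hg : Mor F N g) (hM : M ≤ S)
    (h : ∀ x ∈ N, g x ∈ M) : Nat.card N ≤ Nat.card M := by
  haveI := finite_of_le hM
  exact Nat.card_le_card_of_injective (fun x : N => (⟨g x, h x x.2⟩ : M))
    fun a b hab => Subtype.ext (hg.injOn a.2 b.2 (congrArg Subtype.val hab))

theorem Mor.surj_of_card [Finite S] {N M : Subgroup Ω} (hg : Mor F N g) (hM : M ≤ S)
    (h : ∀ x ∈ N, g x ∈ M) (hc : Nat.card M ≤ Nat.card N) {y : Ω} (hy : y ∈ M) :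
    ∃ x ∈ N, g x = y := by
  obtain ⟨N', hN'⟩ := hg.exists_iso
  have hle : N' ≤ M := fun z hz => by
    obtain ⟨x, hx, rfl⟩ := hN'.exists_eq hz
    exact h x hx
  rw [← eq_of_le_of_card hM hle (hc.trans hN'.card_eq.le)] at hy
  exact hN'.exists_eq hy

theorem normalizerIn_le (S P : Subgroup Ω) : normalizerIn S P ≤ S := inf_le_left

theorem centralizerIn_le (S P : Subgroup Ω) : centralizerIn S P ≤ S := inf_le_left

theorem centralizerIn_le_normalizerIn (S P : Subgroup Ω) :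
    centralizerIn S P ≤ normalizerIn S P :=
  inf_le_inf_left S (Subgroup.centralizer_le_normalizer (P : Set Ω))

theorem le_normalizerIn (hP : P ≤ S) : P ≤ normalizerIn S P := le_inf hP Subgroup.le_normalizer

end Cfsg.Agent.FusSys
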