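import Cfsg.Agent.FusSys.EssentialChain
import Cfsg.Agent.FusSys.Extender
import Cfsg.Agent.FusSys.Saturation

/-!
Climbing a tower of normalizers: the normalizer of a fully normalized subgroup of index `p` in its
normalizer is fully normalized, a maximal subgroup normal one step higher is invariant under all
automorphisms of the system, and automorphisms stabilising a suitable chain extend.
-/

set_option autoImplicit false

namespace Cfsg.Agent.FusSys

open Cfsg Cfsg.FusionSystem Subgroup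

universe u

variable {Ω : Type u} [Group Ω] {S : Subgroup Ω} {F : FusionSystem S} {p : ℕ} [hp : Fact p.Prime]
variable [Finite S] {B K Q : Subgroup Ω}

omit hp [Finite S] in
/-- Conjugation of a subgroup, as a membership statement. -/
theorem mem_conj_map {g y : Ω} {R : Subgroup Ω} :
    y ∈ R.map (MulAut.conj g).toMonoidHom ↔ g⁻¹ * y * g ∈ R := by
  constructor
  · rintro ⟨z, hz, rfl⟩
    simpa [MulAut.conj_apply, mul_assoc] using hz
  · exact fun h => ⟨_, h, by simp [MulAut.conj_apply, mul_assoc]⟩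

/-- There are at most `p + 1` subgroups of index `p` between `K` and `Q`, `K` of index `p ^ 2`. -/
theorem card_between_le (hS : IsPGroup p S) (hQS : Q ≤ S) (hKB : K ≤ B) (hBQ : B ≤ Q)
    (hcB : Nat.card B = p * Nat.card K) (hcQ : Nat.card Q = p * Nat.card B)
    {T : Type*} (R : T → Subgroup Ω) (hR : Function.Injective R)
    (hK : ∀ i, K ≤ R i) (hQ : ∀ i, R i ≤ Q) (hc : ∀ i, Nat.card (R i) = Nat.card B) :
    Nat.card T ≤ p + 1 := by
  classical
  haveI := finite_of_le hQS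
  haveI : Finite B := finite_of_le (hBQ.trans hQS)
  haveI : Finite K := finite_of_le ((hKB.trans hBQ).trans hQS)
  haveI hRf : ∀ i, Finite (R i) := fun i => finite_of_le ((hQ i).trans hQS)
  have hpp := hp.out
  obtain ⟨z, hzQ, hzB⟩ : ∃ z ∈ Q, z ∉ B := by
    by_contra! h
    have h1 := card_le_of_le (show Q ≤ B from h)
    rw [hcQ] at h1
    have := hpp.two_le
    have : 0 < Nat.card B := Nat.card_pos
    nlinarith
  have hBn : (B.subgroupOf Q).Normal := by
    haveI := (hS.to_le hQS).isNilpotent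
    refine Subgroup.normal_of_index_eq_minFac_card ?_
    have h2 := (B.subgroupOf Q).card_mul_index
    rw [Nat.card_congr (subgroupOfEquivOfLe hBQ).toEquiv, hcQ, mul_comm p] at h2
    have hidx : (B.subgroupOf Q).index = p := Nat.eq_of_mul_eq_mul_left Nat.card_pos h2
    obtain ⟨e, he⟩ := IsPGroup.iff_card.1 (hS.to_le hQS)
    have he0 : e ≠ 0 := by
      rintro rfl
      rw [pow_zero] at he
      have h3 : B.subgroupOf Q = ⊤ := by
        haveI : Subsingleton Q := (Nat.card_eq_one_iff_unique.1 he).1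
        exact eq_top_iff.2 fun x _ => by rw [Subsingleton.elim x 1]; exact one_mem _
      rw [h3, index_top] at hidx
      exact hpp.one_lt.ne hidx
    rw [hidx, he, Nat.pow_minFac he0, hpp.minFac_eq]
  have hex : ∀ i, R i ≠ B → ∃ b : B, z * (b : Ω) ∈ R i := by
    intro i hne
    have hnle : ¬ R i ≤ B := fun h => hne (eq_of_le_of_card_ge h (hc i).ge)
    set U := (R i).subgroupOf Q ⊔ B.subgroupOf Q
    have hU : U = ⊤ := by
      obtain ⟨r, hr, hrB⟩ := SetLike.not_le_iff_exists.1 hnle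
      obtain ⟨a, ha⟩ := IsPGroup.iff_card.1 ((hS.to_le hQS).to_subgroup U)
      obtain ⟨e, he⟩ := IsPGroup.iff_card.1 (hS.to_le hQS)
      obtain ⟨f, hf⟩ := IsPGroup.iff_card.1 (hS.to_le (hBQ.trans hQS))
      refine eq_top_of_card_eq U ?_
      have hlt : p ^ f < p ^ a := by
        rw [← hf, ← Nat.card_congr (subgroupOfEquivOfLe hBQ).toEquiv, ← ha]
        by_contra hge
        exact hrB ((eq_of_le_of_card_ge (le_sup_right : B.subgroupOf Q ≤ U) (not_lt.1 hge)).symm ▸
          mem_sup_left (show (⟨r, hQ i hr⟩ : Q) ∈ (R i).subgroupOf Q from hr) :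
            (⟨r, hQ i hr⟩ : Q) ∈ B.subgroupOf Q)
      have h1 := card_le_card_group U
      rw [ha, he, Nat.pow_le_pow_iff_right hpp.one_lt] at h1
      rw [hf, he, ← pow_succ'] at hcQ
      have := Nat.pow_right_injective hpp.two_le hcQ
      have := (Nat.pow_lt_pow_iff_right hpp.one_lt).1 hlt
      rw [ha, he, show a = e by omega]
    obtain ⟨r, hr, b, hb, hrb⟩ := mem_sup_of_normal_right.1 (hU ▸ Subgroup.mem_top (⟨z, hzQ⟩ : Q) :
      (⟨z, hzQ⟩ : Q) ∈ U)
    refine ⟨⟨(b : Ω)⁻¹, B.inv_mem hb⟩, ?_⟩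
    rw [show z = (r : Ω) * b from congrArg Subtype.val hrb.symm, mul_inv_cancel_right]
    exact hr
  let f : T → Option (B ⧸ K.subgroupOf B) := fun i =>
    if h : R i = B then none else some ((hex i h).choose : B ⧸ K.subgroupOf B)
  have hf : Function.Injective f := by
    intro i j hij
    refine hR ?_
    by_cases hi : R i = B <;> by_cases hj : R j = B
    · rw [hi, hj]
    · simp [f, hi, hj] at hij
    · simp [f, hi, hj] at hij
    · simp only [f, dif_neg hi, dif_neg hj, Option.some.injEq] at hij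
      obtain ⟨bi, hbi⟩ : ∃ b, b = (hex i hi).choose := ⟨_, rfl⟩
      obtain ⟨bj, hbj⟩ : ∃ b, b = (hex j hj).choose := ⟨_, rfl⟩
      have h1 : z * (bi : Ω) ∈ R i := hbi ▸ (hex i hi).choose_spec
      have h2 : z * (bj : Ω) ∈ R j := hbj ▸ (hex j hj).choose_spec
      rw [← hbi, ← hbj] at hij
      have hk : (bi : Ω)⁻¹ * bj ∈ K := mem_subgroupOf.1 (QuotientGroup.eq.1 hij)
      have h3 : z * (bj : Ω) ∈ R i := by
        have h := mul_mem h1 (hK i hk)
        rwa [← mul_assoc, mul_inv_cancel_right] at h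
      -- both equal the meet
      haveI := finite_of_le ((inf_le_left : R i ⊓ R j ≤ R i).trans ((hQ i).trans hQS))
      obtain ⟨a, ha⟩ := IsPGroup.iff_card.1 (hS.to_le ((inf_le_left : R i ⊓ R j ≤ R i).trans ((hQ i).trans hQS)))
      obtain ⟨k, hk'⟩ := IsPGroup.iff_card.1 (hS.to_le ((hKB.trans hBQ).trans hQS))
      have hlt : p ^ k < p ^ a := by
        rw [← hk', ← ha]
        by_contra hge
        have e := eq_of_le_of_card_ge (le_inf (hK i) (hK j)) (not_lt.1 hge)
        have h4 : z * (bj : Ω) ∈ B := hKB (e.symm ▸ ⟨h3, h2⟩)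
        have h5 := mul_mem h4 (B.inv_mem bj.2)
        rw [mul_inv_cancel_right] at h5
        exact hzB h5
      have hle : Nat.card B ≤ Nat.card ↥(R i ⊓ R j) := by
        rw [hcB, hk', ha, ← pow_succ']
        exact Nat.pow_le_pow_right hpp.pos ((Nat.pow_lt_pow_iff_right hpp.one_lt).1 hlt)
      exact (eq_of_le_of_card_ge inf_le_left ((hc i).trans_le hle)).symm.trans
        (eq_of_le_of_card_ge inf_le_right ((hc j).trans_le hle))
  have h1 := Nat.card_le_card_of_injective f hf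
  have h2 := (K.subgroupOf B).card_mul_index
  rw [Nat.card_congr (subgroupOfEquivOfLe hKB).toEquiv, hcB, mul_comm p, index_eq_card] at h2
  haveI := Fintype.ofFinite (B ⧸ K.subgroupOf B)
  rw [Nat.card_eq_fintype_card (α := Option _), Fintype.card_option, ← Nat.card_eq_fintype_card,
    Nat.eq_of_mul_eq_mul_left Nat.card_pos h2] at h1
  exact h1

/-- The conjugates of `B` under the normalizer of its normalizer, indexed by cosets. -/
theorem orbit_data (hQ : normalizerIn S B = Q) (hBQ : B ≤ Q)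
    (hK : ∀ g ∈ normalizerIn S Q, ∀ y ∈ K, g * y * g⁻¹ ∈ K) (hKB : K ≤ B) :
    ∃ R : (normalizerIn S Q ⧸ Q.subgroupOf (normalizerIn S Q)) → Subgroup Ω,
      Function.Injective R ∧ (∀ i, K ≤ R i) ∧ (∀ i, R i ≤ Q) ∧ (∀ i, Nat.card (R i) = Nat.card B) ∧
      ∀ i, ∃ g ∈ normalizerIn S Q, R i = B.map (MulAut.conj g).toMonoidHom := by
  classical
  refine ⟨fun i => B.map (MulAut.conj ((i.out : normalizerIn S Q) : Ω)).toMonoidHom,
    fun i j hij => ?_, fun i y hy => ?_, fun i y hy => ?_,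
    fun i => card_map_of_injective (MulAut.conj _).injective, fun i => ⟨_, i.out.2, rfl⟩⟩
  · rw [← Quotient.out_eq i, ← Quotient.out_eq j]
    refine QuotientGroup.eq.2 (mem_subgroupOf.2 ?_)
    have hkey : ∀ y, (i.out : Ω)⁻¹ * y * i.out ∈ B ↔ (j.out : Ω)⁻¹ * y * j.out ∈ B := fun y => by
      rw [← mem_conj_map, ← mem_conj_map]
      exact SetLike.ext_iff.1 hij y
    refine hQ.le ⟨S.mul_mem (S.inv_mem i.out.2.1) j.out.2.1, Subgroup.mem_normalizer_iff.2 fun y => ?_⟩
    constructor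
    · intro hy
      have h1 := (hkey ((j.out : Ω) * y * (j.out : Ω)⁻¹)).2 (by simpa [mul_assoc] using hy)
      simpa [mul_assoc] using h1
    · intro hy
      have h1 := (hkey ((j.out : Ω) * y * (j.out : Ω)⁻¹)).1 (by simpa [mul_assoc] using hy)
      simpa [mul_assoc] using h1
  · refine mem_conj_map.2 (hKB ?_)
    have h1 := hK _ (inv_mem i.out.2) y hy
    rwa [inv_inv] at h1
  · obtain ⟨z, hz, rfl⟩ := hy
    exact (Subgroup.mem_normalizer_iff.1 i.out.2.2 z).1 (hBQ hz)

/-- The normalizer of the normalizer is at most `p` times as large. -/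
theorem card_normalizer_le (hS : IsPGroup p S) (hQ : normalizerIn S B = Q) (hKB : K ≤ B) (hBQ : B ≤ Q)
    (hcB : Nat.card B = p * Nat.card K) (hcQ : Nat.card Q = p * Nat.card B)
    (hK : ∀ g ∈ normalizerIn S Q, ∀ y ∈ K, g * y * g⁻¹ ∈ K) :
    Nat.card (normalizerIn S Q) ≤ p * Nat.card Q := by
  have hQS : Q ≤ S := hQ ▸ normalizerIn_le S B
  haveI := finite_of_le hQS
  haveI := finite_of_le (normalizerIn_le S Q)
  obtain ⟨R, hR, h1, h2, h3, -⟩ := orbit_data hQ hBQ hK hKB
  have h := card_between_le hS hQS hKB hBQ hcB hcQ R hR h1 h2 h3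
  set M := normalizerIn S Q
  have hM := (Q.subgroupOf M).card_mul_index
  rw [Nat.card_congr (subgroupOfEquivOfLe (le_normalizerIn hQS : Q ≤ M)).toEquiv, index_eq_card] at hM
  obtain ⟨e, he⟩ := IsPGroup.iff_card.1 (hS.to_le (normalizerIn_le S Q : M ≤ S))
  obtain ⟨k, -, hk⟩ := (Nat.dvd_prime_pow hp.out).1 (he ▸ Dvd.intro_left _ hM :
    Nat.card (M ⧸ Q.subgroupOf M) ∣ p ^ e)
  rw [hk] at h hM
  rw [← hM, mul_comm p]
  refine Nat.mul_le_mul_left _ ((Nat.pow_le_pow_right hp.out.pos (?_ : k ≤ 1)).trans (pow_one p).le)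
  by_contra hk2
  have := (Nat.pow_le_pow_right hp.out.pos (show 2 ≤ k by omega)).trans h
  have := hp.out.two_le
  nlinarith

/-- The image of a fully normalized subgroup under an automorphism of its normalizer. -/
theorem fullyNormalized_step (hS : IsPGroup p S) (hB : F.IsFullyNormalized B)
    (hQ : normalizerIn S B = Q) (hKB : K ≤ B) (hcB : Nat.card B = p * Nat.card K)
    (hcQ : Nat.card Q = p * Nat.card B) (hK : ∀ f, Iso F Q Q f → ∀ y ∈ K, f y ∈ K)
    (hbig : p * Nat.card Q ≤ Nat.card (normalizerIn S Q)) : F.IsFullyNormalized Q := by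
  have hQS : Q ≤ S := hQ ▸ normalizerIn_le S B
  have hBQ : B ≤ Q := hQ ▸ le_normalizerIn hB.1
  refine ⟨hQS, fun Q' hQ' => ?_⟩
  obtain ⟨f, hf⟩ := isConj_iff.1 hQ'
  have hQ'S := hf.right_le
  haveI := finite_of_le hQ'S
  haveI := finite_of_le hQS
  obtain ⟨B', hB'⟩ := (hf.1.mono hBQ).exists_iso
  obtain ⟨K', hK'⟩ := (hf.1.mono (hKB.trans hBQ)).exists_iso
  have hB'Q' : B' ≤ Q' := fun y hy => by
    obtain ⟨x, hx, rfl⟩ := hB'.exists_eq hy
    exact hf.mem (hBQ hx)
  have hK'B' : K' ≤ B' := fun y hy => by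
    obtain ⟨x, hx, rfl⟩ := hK'.exists_eq hy
    exact hB'.mem (hKB hx)
  have hN : normalizerIn S B' = Q' := by
    refine (eq_of_le_of_card (normalizerIn_le S B') (fun y hy => ?_) ?_).symm
    · obtain ⟨x, hx, rfl⟩ := hf.exists_eq hy
      exact hf.1.mem_normalizerIn hBQ hB' hx (hQ.ge hx).2
    · rw [← hf.card_eq, ← hQ]
      exact hB.2 B' hB'.isConj
  refine (card_normalizer_le hS hN hK'B' hB'Q' (by rw [← hB'.card_eq, ← hK'.card_eq, hcB])
    (by rw [← hB'.card_eq, ← hf.card_eq, hcQ]) fun g hg y hy => ?_).trans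
    (by rw [← hf.card_eq]; exact hbig)
  obtain ⟨x, hx, rfl⟩ := hK'.exists_eq hy
  obtain ⟨f', hf', hf'f, hff'⟩ := hf.symm
  have hconj := (hf.comp (iso_conj_self hQ'S hg.1 hg.2)).comp hf'
  have h1 := hK _ hconj x hx
  have h2 : g * f x * g⁻¹ ∈ Q' :=
    (Subgroup.mem_normalizer_iff.1 hg.2 _).1 (hf.mem (hBQ (hKB hx)))
  have h3 := hK'.mem h1
  simp only [Function.comp_apply] at h3
  rwa [hff' _ h2] at h3

/-- The maximal subgroup normal one step higher is invariant. -/
theorem fixed_invariant (hS : IsPGroup p S) (hB : F.IsFullyNormalized B)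
    (hQ : normalizerIn S B = Q) (hKB : K ≤ B) (hcB : Nat.card B = p * Nat.card K)
    (hcQ : Nat.card Q = p * Nat.card B) (hK : ∀ f, Iso F Q Q f → ∀ y ∈ K, f y ∈ K)
    (hbig : p * Nat.card Q ≤ Nat.card (normalizerIn S Q)) {J : Subgroup Ω} (hKJ : K ≤ J) (hJQ : J ≤ Q)
    (hcJ : Nat.card J = Nat.card B) (hJn : ∀ g ∈ normalizerIn S Q, g ∈ Subgroup.normalizer (J : Set Ω))
    {f : Ω → Ω} (hf : Iso F Q Q f) : ∀ y ∈ J, f y ∈ J := by
  classical
  have hQS : Q ≤ S := hQ ▸ normalizerIn_le S B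
  have hBQ : B ≤ Q := hQ ▸ le_normalizerIn hB.1
  haveI := finite_of_le hQS
  set M := normalizerIn S Q
  haveI : Finite M := finite_of_le (normalizerIn_le S Q)
  obtain ⟨J', hJ'⟩ := (hf.1.mono hJQ).exists_iso
  suffices hJJ : J' = J from fun y hy => hJJ ▸ hJ'.mem hy
  by_contra hne
  have hK' : ∀ y ∈ K, ∃ x ∈ K, f x = y := by
    intro y hy
    haveI : Finite K := finite_of_le ((hKB.trans hBQ).trans hQS)
    exact (hf.1.mono (hKB.trans hBQ)).surj_of_card ((hKB.trans hBQ).trans hQS) (hK f hf) le_rfl hy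
  have hKg : ∀ g ∈ M, ∀ y ∈ K, g * y * g⁻¹ ∈ K := fun g hg y hy =>
    hK _ (iso_conj_self hQS hg.1 hg.2) y hy
  obtain ⟨R, hR, h1, h2, h3, hRg⟩ := orbit_data hQ hBQ hKg hKB
  have hJi : ∀ i, R i ≠ J := fun i e => by
    obtain ⟨g, hg, hRi⟩ := hRg i
    have hBJ : F.IsConj B J := by
      have h := isConj_conj hB.1 hg.1 (F := F)
      rwa [← hRi, e] at h
    have hMJ : M ≤ normalizerIn S J := fun m hm => ⟨hm.1, hJn m hm⟩
    haveI := finite_of_le (normalizerIn_le S J)
    have h4 := (card_le_of_le hMJ).trans (hB.2 J hBJ)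
    rw [hQ] at h4
    have := hp.out.two_le
    have : 0 < Nat.card Q := Nat.card_pos
    nlinarith
  have hJ'i : ∀ i, R i ≠ J' := fun i e => by
    obtain ⟨g, hg, hRi⟩ := hRg i
    have hBJ : F.IsConj B J := by
      have h := isConj_conj hB.1 hg.1 (F := F)
      rw [← hRi, e] at h
      exact isConj_trans h (isConj_symm hJ'.isConj)
    have hMJ : M ≤ normalizerIn S J := fun m hm => ⟨hm.1, hJn m hm⟩
    haveI := finite_of_le (normalizerIn_le S J)
    have h4 := (card_le_of_le hMJ).trans (hB.2 J hBJ)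
    rw [hQ] at h4
    have := hp.out.two_le
    have : 0 < Nat.card Q := Nat.card_pos
    nlinarith
  let R' : Option (Option (M ⧸ Q.subgroupOf M)) → Subgroup Ω := fun o =>
    o.elim J fun o => o.elim J' R
  have hR' : Function.Injective R' := by
    rintro (_ | _ | i) (_ | _ | j) h
    · rfl
    · exact absurd h.symm hne
    · exact absurd h.symm (hJi j)
    · exact absurd h hne
    · rfl
    · exact absurd h.symm (hJ'i j)
    · exact absurd h (hJi i)
    · exact absurd h (hJ'i i)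
    · rw [hR h]
  have h4 := card_between_le hS hQS hKB hBQ hcB hcQ R' hR'
    (fun o => match o with
      | none => hKJ
      | some none => fun y hy => by
          obtain ⟨x, hx, rfl⟩ := hK' y hy
          exact hJ'.mem (hKJ hx)
      | some (some i) => h1 i)
    (fun o => match o with
      | none => hJQ
      | some none => fun y hy => by
          obtain ⟨x, hx, rfl⟩ := hJ'.exists_eq hy
          exact hf.mem (hJQ hx)
      | some (some i) => h2 i)
    (fun o => match o with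
      | none => hcJ
      | some none => hJ'.card_eq.symm.trans hcJ
      | some (some i) => h3 i)
  have h5 := (Q.subgroupOf M).card_mul_index
  rw [Nat.card_congr (subgroupOfEquivOfLe (le_normalizerIn hQS : Q ≤ M)).toEquiv, index_eq_card] at h5
  haveI := Fintype.ofFinite (M ⧸ Q.subgroupOf M)
  rw [Nat.card_eq_fintype_card, Fintype.card_option, Fintype.card_option, ← Nat.card_eq_fintype_card] at h4
  rw [← h5, mul_comm p] at hbig
  have := Nat.le_of_mul_le_mul_left hbig Nat.card_pos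
  omega

/-- An automorphism stabilising a chain with steps of order at most `p`, which the normalizer stabilises
too, extends to the normalizer. -/
theorem exists_extension (hS : IsPGroup p S) (hF : F.IsSaturated p) (hQ : F.IsFullyNormalized Q)
    {f : Ω → Ω} (hf : Iso F Q Q f) {C : ℕ → Subgroup Ω} (hmono : Monotone C) {n : ℕ} (htop : Q ≤ C n)
    (hbot : C 0 = ⊥) (hinvf : ∀ i ≤ n, ∀ x ∈ Q, x ∈ C i → f x ∈ C i)
    (hinvm : ∀ i ≤ n, ∀ m ∈ normalizerIn S Q, ∀ x ∈ Q, x ∈ C i → m * x * m⁻¹ ∈ C i)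
    (hstep : ∀ i < n, ((C i).subgroupOf Q).relIndex ((C (i + 1)).subgroupOf Q) ≤ p) :
    ∃ f', Iso F (normalizerIn S Q) (normalizerIn S Q) f' ∧ ∀ x ∈ Q, f' x = f x := by
  classical
  have hQS := hQ.1
  haveI := finite_of_le hQS
  haveI : Finite (MulAut Q) := Finite.of_injective _ MulEquiv.toEquiv_injective
  obtain ⟨α, hα, hαx⟩ := hf.exists_mem_autGroup
  have hiff : ∀ (γ : MulAut Q) (i : ℕ), (∀ x ∈ Q, x ∈ C i → apl γ x ∈ C i) →
      ∀ x ∈ Q, apl γ x ∈ C i ↔ x ∈ C i := by
    intro γ i h x hx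
    refine ⟨fun hc => ?_, h x hx⟩
    have hit : ∀ k : ℕ, ∀ y ∈ Q, y ∈ C i → apl (γ ^ k) y ∈ C i := by
      intro k
      induction k with
      | zero => intro y hy hyC; rwa [pow_zero, apl_one hy]
      | succ k ih =>
        intro y hy hyC
        rw [pow_succ, apl_mul _ _ hy]
        exact ih _ (apl_mem γ hy) (h y hy hyC)
    have h1 := hit (orderOf γ - 1) _ (apl_mem γ hx) hc
    rwa [← apl_mul _ _ hx, ← pow_succ, Nat.sub_add_cancel (orderOf_pos γ), pow_orderOf_eq_one,
      apl_one hx] at h1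
  have hαiff : ∀ i ≤ n, ∀ x ∈ Q, apl α x ∈ C i ↔ x ∈ C i := fun i hi =>
    hiff α i fun x hx hxC => by rw [hαx x hx]; exact hinvf i hi x hx hxC
  set Γ := F.autGroup Q ⊓ chainStab (P := Q) C hmono n
  have hΓ : IsPGroup p Γ := isPGroup_chainStab (hS.to_le hQS) hmono htop fun δ _ _ x hx hxC => by
    rw [hbot, mem_bot] at hxC
    subst hxC
    rw [apl_apply δ hx, show (⟨1, hx⟩ : Q) = 1 from rfl, map_one, coe_one]
  obtain ⟨-, R, hR⟩ := fullyAutomized_of_fullyNormalized hS hF hQ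
  have hRΓ : (R : Subgroup (F.autGroup Q)) ≤ Γ.subgroupOf (F.autGroup Q) := by
    intro γ hγ
    obtain ⟨k, hk⟩ := R.2 ⟨γ, hγ⟩
    rw [hR, mem_subgroupOf, mem_autInducedBy_iff] at hγ
    obtain ⟨g, hg, hgn, hgx⟩ := hγ
    have hγiff : ∀ i ≤ n, ∀ x ∈ Q, apl (γ : MulAut Q) x ∈ C i ↔ x ∈ C i := fun i hi =>
      hiff _ i fun x hx hxC => by rw [hgx x hx]; exact hinvm i hi g ⟨hg, hgn⟩ x hx hxC
    refine mem_subgroupOf.2 ⟨γ.2, mem_chainStab.2 fun i hi x hx hxC => ?_⟩
    have h1 := step_trivial (A := (C i).subgroupOf Q) (B := (C (i + 1)).subgroupOf Q) (hstep i hi)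
      (γ := (γ : MulAut Q)) (fun y => by
        rw [mem_subgroupOf, mem_subgroupOf, ← apl_coe]; exact hγiff i hi.le y y.2)
      (fun y => by rw [mem_subgroupOf, mem_subgroupOf, ← apl_coe]; exact hγiff (i + 1) hi y y.2)
      (k := k) (by rw [← SubmonoidClass.coe_pow, show γ ^ p ^ k = 1 from congrArg Subtype.val hk,
        OneMemClass.coe_one]) (x := ⟨x, hx⟩) hxC
    rw [apl_apply _ hx]
    exact h1
  have hΓR := R.3 hΓ.comap_subtype hRΓ
  obtain ⟨g, hg, hgx⟩ := (isReceptive_iff.1 (receptive_of_fullyNormalized hS hF hQ)).2 Q _ hf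
  have hle : normalizerIn S Q ≤ nPhi S Q f := fun a ha => by
    obtain ⟨γ, hγ, hγx⟩ := exists_mem_autInducedBy (P := Q) (K := S) ha.1 ha.2
    have hγF : γ ∈ F.autGroup Q := autInducedBy_le_autGroup hQS hγ
    have hγΓ : γ ∈ Γ := mem_subgroupOf.1 (hRΓ (show (⟨γ, hγF⟩ : F.autGroup Q) ∈ (R : Subgroup _) by
      rw [hR]; exact mem_subgroupOf.2 hγ))
    have h1 : (⟨α * γ * α⁻¹, mul_mem (mul_mem hα hγF) (Subgroup.inv_mem _ hα)⟩ : F.autGroup Q) ∈
        (R : Subgroup (F.autGroup Q)) := by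
      rw [← hΓR]
      exact mem_subgroupOf.2 ⟨mul_mem (mul_mem hα hγF) (Subgroup.inv_mem _ hα), chainStab_conj hαiff hγΓ.2⟩
    rw [hR, mem_subgroupOf, mem_autInducedBy_iff] at h1
    obtain ⟨a', ha', -, ha'x⟩ := h1
    refine ⟨ha.1, ha.2, a', ha', fun x hx => ?_⟩
    rw [← hαx _ ((Subgroup.mem_normalizer_iff.1 ha.2 x).1 hx), ← hαx x hx, ← ha'x _ (apl_mem α hx),
      apl_mul _ _ (apl_mem α hx), apl_inv_apl α hx, apl_mul _ _ hx, hγx x hx]
  have hgM := hg.mono hle
  have hgi : Iso F Q Q g := hf.congr hgx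
  have hgm : ∀ z ∈ normalizerIn S Q, g z ∈ normalizerIn S Q := fun z hz =>
    hgM.mem_normalizerIn (le_normalizerIn hQS) hgi hz hz.2
  haveI := finite_of_le (normalizerIn_le S Q)
  exact ⟨g, ⟨hgM, fun y => ⟨fun hy => hgM.surj_of_card (normalizerIn_le S Q) hgm le_rfl hy,
    fun ⟨z, hz, hzy⟩ => hzy ▸ hgm z hz⟩⟩, hgx⟩

end Cfsg.Agent.FusSys
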