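import Cfsg.Agent.FusSys.EssentialElemCube
import Cfsg.Agent.FusSys.NormTower
import Cfsg.Agent.Core.Hall

/-!
The second normalizer of an elementary abelian essential subgroup of order `p ^ 3`, `p ≥ 5`: it has
order `p ^ 5` and centralises the centre of the first one.
-/

set_option autoImplicit false

namespace Cfsg.Agent.FusSys

open Cfsg Cfsg.FusionSystem Subgroup
open scoped commutatorElement

universe u

variable {Ω : Type u} [Group Ω] {S : Subgroup Ω} {F : FusionSystem S} {p : ℕ} [hp : Fact p.Prime]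
variable [Finite S]

/-- A `p`-group centralises each invariant step of order `p`. -/
theorem comm_step (hS : IsPGroup p S) {M A B : Subgroup Ω} (hMS : M ≤ S) (hAB : A ≤ B) (hBM : B ≤ M)
    (hA : ∀ m ∈ M, ∀ y ∈ A, m * y * m⁻¹ ∈ A) (hB : ∀ m ∈ M, ∀ y ∈ B, m * y * m⁻¹ ∈ B)
    (hc : Nat.card B = p * Nat.card A) : ∀ m ∈ M, ∀ y ∈ B, ⁅m, y⁆ ∈ A := by
  haveI := finite_of_le hMS
  have hpp := hp.out
  intro m hm y hy
  haveI hAn : (A.subgroupOf M).Normal := ⟨fun z hz g => hA g g.2 z hz⟩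
  haveI hBn : (B.subgroupOf M).Normal := ⟨fun z hz g => hB g g.2 z hz⟩
  set π := QuotientGroup.mk' (A.subgroupOf M)
  haveI := ((hS.to_le hMS).to_quotient (A.subgroupOf M)).isNilpotent
  haveI := hBn.map π (QuotientGroup.mk'_surjective _)
  set Bq := (B.subgroupOf M).map π
  have hcard : Nat.card Bq = p := by
    have h1 := Cfsg.Agent.Core.card_map_mk_mul (A.subgroupOf M) (B.subgroupOf M)
    rw [inf_eq_right.2 (fun z (hz : z ∈ A.subgroupOf M) => hAB hz),
      Nat.card_congr (subgroupOfEquivOfLe (hAB.trans hBM)).toEquiv,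
      Nat.card_congr (subgroupOfEquivOfLe hBM).toEquiv, hc] at h1
    haveI := finite_of_le ((hAB.trans hBM).trans hMS)
    exact Nat.eq_of_mul_eq_mul_right Nat.card_pos h1
  have hne : Bq ≠ ⊥ := fun h => by
    rw [h, card_bot] at hcard
    exact hpp.one_lt.ne hcard
  have hle : Bq ≤ Subgroup.center _ := by
    obtain ⟨i, hi, hci⟩ := (Nat.dvd_prime_pow hpp).1
      (show Nat.card ↥(Bq ⊓ Subgroup.center _) ∣ p ^ 1 by rw [pow_one]; exact hcard ▸ card_dvd_of_le inf_le_left)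
    rcases (by omega : i = 0 ∨ i = 1) with rfl | rfl
    · exact absurd (card_eq_one.1 (hci.trans (pow_zero p))) (Cfsg.Agent.Core.inf_center_ne_bot hne)
    · exact inf_eq_left.1 (eq_of_le_of_card_ge inf_le_left (by rw [hci, hcard, pow_one]))
  have h1 : π ⁅(⟨m, hm⟩ : M), ⟨y, hBM hy⟩⁆ = 1 := by
    rw [map_commutatorElement, commutatorElement_eq_one_iff_mul_comm]
    exact mem_center_iff.1 (hle (mem_map_of_mem π (show (⟨y, hBM hy⟩ : M) ∈ B.subgroupOf M from hy))) _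
  exact mem_subgroupOf.1 ((QuotientGroup.eq_one_iff _).1 h1)

omit hp in
/-- Iterated conjugation. -/
theorem conj_iter {G : Type*} [Group G] {m y z : G} (h : m * y * m⁻¹ = y * z) (hz : Commute m z) :
    ∀ i : ℤ, m ^ i * y * (m ^ i)⁻¹ = y * z ^ i := by
  intro i
  induction i using Int.induction_on with
  | zero => simp
  | succ i ih =>
    calc m ^ ((i : ℤ) + 1) * y * (m ^ ((i : ℤ) + 1))⁻¹
        = m ^ (i : ℤ) * (m * y * m⁻¹) * (m ^ (i : ℤ))⁻¹ := by rw [zpow_add_one]; group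
      _ = (m ^ (i : ℤ) * y * (m ^ (i : ℤ))⁻¹) * (m ^ (i : ℤ) * z * (m ^ (i : ℤ))⁻¹) := by rw [h]; group
      _ = _ := by
        rw [ih, (hz.zpow_left _).eq, mul_inv_cancel_right, mul_assoc, ← zpow_add_one]
  | pred i ih =>
    have h2 : m⁻¹ * y * m = y * z⁻¹ := by
      rw [eq_mul_inv_iff_mul_eq]
      calc m⁻¹ * y * m * z = m⁻¹ * y * (z * m) := by rw [mul_assoc, hz.eq]
        _ = m⁻¹ * (y * z) * m := by group
        _ = y := by rw [← h]; group
    calc m ^ (-(i : ℤ) - 1) * y * (m ^ (-(i : ℤ) - 1))⁻¹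
        = m ^ (-(i : ℤ)) * (m⁻¹ * y * m) * (m ^ (-(i : ℤ)))⁻¹ := by rw [zpow_sub_one]; group
      _ = (m ^ (-(i : ℤ)) * y * (m ^ (-(i : ℤ)))⁻¹) *
          (m ^ (-(i : ℤ)) * z⁻¹ * (m ^ (-(i : ℤ)))⁻¹) := by rw [h2]; group
      _ = _ := by
        rw [ih, (hz.inv_right.zpow_left _).eq, mul_inv_cancel_right, mul_assoc, ← zpow_sub_one]

variable {E : Subgroup Ω}

/-- The data around `E`. -/
theorem elem_cube_top (hS : IsPGroup p S) (hF : F.IsSaturated p) (hp5 : 5 ≤ p) (hE : F.IsEssential p E)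
    (hab : ∀ a ∈ E, ∀ b ∈ E, a * b = b * a) (hexp : ∀ a ∈ E, a ^ p = 1) (hcard : Nat.card E = p ^ 3)
    (hbig : p ^ 5 ≤ Nat.card S) :
    Nat.card (normalizerIn S E) = p ^ 4 ∧
    Nat.card (normalizerIn S (normalizerIn S E)) = p ^ 5 ∧
    F.IsFullyNormalized (normalizerIn S E) ∧
    ∃ (b x w c : Ω) (D : Subgroup Ω),
      b ∈ normalizerIn S E ∧ b ∉ E ∧ D ≤ E ∧ Nat.card D = p ^ 2 ∧ w ∈ D ∧ w ≠ 1 ∧ c ∈ D ∧
      c ∉ zpowers w ∧ x ∈ E ∧ x ∉ D ∧ b * x * b⁻¹ = x * w ∧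
      (∀ g ∈ normalizerIn S E, ∀ d ∈ D, g * d = d * g) ∧
      (∀ g ∈ normalizerIn S (normalizerIn S E), ∀ d ∈ D, g * d = d * g) ∧
      (∀ g ∈ normalizerIn S E, (∀ h ∈ normalizerIn S E, g * h = h * g) → g ∈ D) ∧
      ∀ k k' : ℤ, (p : ℤ) ∣ k * k' - 1 → ∃ f, Iso F (normalizerIn S E) (normalizerIn S E) f ∧
        (∀ e ∈ E, f e ∈ E) ∧ f x = x ^ k' ∧ f w = w ^ k ∧ f c = c ∧ (b ^ (k * k))⁻¹ * f b ∈ E := by
  classical
  have hpp := hp.out
  obtain ⟨hN4, b, x, w, c, D, hbN, hbE, hDE, hDc, hwD, hw1, hcD, hcw, hxE, hxD, hbx, hcenN, htorus⟩ :=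
    elem_cube hS hF hE hab hexp hcard hbig
  have hES := hE.1.1
  set N := normalizerIn S E with hN
  have hNS : N ≤ S := inf_le_left
  set M := normalizerIn S N with hM
  have hMS : M ≤ S := inf_le_left
  haveI := finite_of_le hNS
  haveI := finite_of_le hMS
  haveI := finite_of_le hES
  haveI := finite_of_le (hDE.trans hES)
  have hEN : E ≤ N := le_normalizerIn hES
  have hNM : N ≤ M := le_normalizerIn hNS
  have hDN : D ≤ N := hDE.trans hEN
  have hexp' : ∀ a : E, a ^ p = 1 := fun a => Subtype.ext (by simpa using hexp a a.2)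
  have hab' : ∀ a b : E, a * b = b * a := fun a b => Subtype.ext (hab a a.2 b b.2)
  have hDi : (D.subgroupOf E).index = p := by
    have h1 := (D.subgroupOf E).card_mul_index
    rw [Nat.card_congr (subgroupOfEquivOfLe hDE).toEquiv, hDc, hcard, pow_succ p 2] at h1
    exact Nat.eq_of_mul_eq_mul_left (pow_pos hpp.pos 2) h1
  have hdec : ∀ e ∈ E, ∃ d ∈ D, ∃ i : ℤ, e = d * x ^ i := fun e he => by
    obtain ⟨d, hd, i, hi⟩ := ThreeDim.exists_decomp hcard hDi hab' (x0 := ⟨x, hxE⟩) hxD ⟨e, he⟩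
    exact ⟨d, hd, i, by simpa using congrArg Subtype.val hi⟩
  -- the quotient `N / E`
  set E' := E.subgroupOf N with hE'
  haveI hE'n : E'.Normal := ⟨fun y hy g => (Subgroup.mem_normalizer_iff.1 g.2.2 y).1 hy⟩
  have hE'i : E'.index = p := by
    have h1 := E'.card_mul_index
    rw [Nat.card_congr (subgroupOfEquivOfLe hEN).toEquiv, hcard, hN4, pow_succ p 3] at h1
    exact Nat.eq_of_mul_eq_mul_left (pow_pos hpp.pos 3) h1
  have hcq : Nat.card (N ⧸ E') = p := by rw [← index_eq_card, hE'i]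
  have hbq : ((⟨b, hbN⟩ : N) : N ⧸ E') ≠ 1 := fun h => hbE ((QuotientGroup.eq_one_iff (⟨b, hbN⟩ : N)).1 h)
  have hgenN : ∀ g ∈ N, ∃ e ∈ E, ∃ i : ℤ, g = b ^ i * e := fun g hg => by
    obtain ⟨i, hi⟩ := mem_zpowers_iff.1 (mem_zpowers_of_prime_card hcq
      (g := ((⟨b, hbN⟩ : N) : N ⧸ E')) (g' := ((⟨g, hg⟩ : N) : N ⧸ E')) hbq)
    rw [← QuotientGroup.mk_zpow] at hi
    exact ⟨(b ^ i)⁻¹ * g, by simpa using mem_subgroupOf.1 (QuotientGroup.eq.1 hi), i,
      (mul_inv_cancel_left _ _).symm⟩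
  have hbpow : ∀ i : ℤ, b ^ i ∈ E → (p : ℤ) ∣ i := fun i hi => by
    have h1 : ((⟨b, hbN⟩ : N) : N ⧸ E') ^ i = 1 := by
      rw [← QuotientGroup.mk_zpow]
      exact (QuotientGroup.eq_one_iff _).2 (mem_subgroupOf.2 (by simpa using hi))
    rwa [← orderOf_dvd_iff_zpow_eq_one,
      orderOf_eq_prime (hcq ▸ pow_card_eq_one') hbq] at h1
  -- commutators of `N` lie in `⟨w⟩`
  have hw_le : zpowers w ≤ D := zpowers_le.2 hwD
  have hwcard : Nat.card (zpowers w) = p := by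
    rw [Nat.card_zpowers, orderOf_eq_prime (hexp w (hDE hwD)) hw1]
  haveI hWn : ((zpowers w).subgroupOf N).Normal := ⟨fun y hy g => by
    have h1 := hcenN g g.2 (y : Ω) (hw_le hy)
    show (g : Ω) * (y : Ω) * (g : Ω)⁻¹ ∈ zpowers w
    rw [h1, mul_inv_cancel_right]
    exact hy⟩
  have hcommN : ∀ g ∈ N, ∀ h ∈ N, ⁅g, h⁆ ∈ zpowers w := by
    set π := QuotientGroup.mk' ((zpowers w).subgroupOf N)
    have hD0 : ∀ (g : N) (d : Ω) (hd : d ∈ D), Commute (π g) (π ⟨d, hDN hd⟩) := fun g d hd =>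
      Commute.map (show Commute g (⟨d, hDN hd⟩ : N) from Subtype.ext (hcenN g g.2 d hd)) π
    have hbx' : Commute (π ⟨b, hbN⟩) (π ⟨x, hEN hxE⟩) := by
      rw [← commutatorElement_eq_one_iff_commute, ← map_commutatorElement]
      refine (QuotientGroup.eq_one_iff _).2 (mem_subgroupOf.2 ?_)
      show ⁅b, x⁆ ∈ zpowers w
      rw [commutatorElement_def, hbx, hab x hxE w (hDE hwD), mul_inv_cancel_right]
      exact mem_zpowers w
    have hbe : ∀ e (he : e ∈ E), Commute (π ⟨b, hbN⟩) (π ⟨e, hEN he⟩) := fun e he => by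
      obtain ⟨d, hd, i, hi⟩ := hdec e he
      have e1 : (⟨e, hEN he⟩ : N) = ⟨d, hDN hd⟩ * ⟨x, hEN hxE⟩ ^ i := Subtype.ext (by simpa using hi)
      rw [e1, map_mul, map_zpow]
      exact (hD0 _ d hd).mul_right (hbx'.zpow_right i)
    intro g hg h hh
    obtain ⟨e, he, i, rfl⟩ := hgenN g hg
    obtain ⟨e', he', i', rfl⟩ := hgenN h hh
    have h1 : Commute (π (⟨b, hbN⟩ ^ i * ⟨e, hEN he⟩)) (π (⟨b, hbN⟩ ^ i' * ⟨e', hEN he'⟩)) := by
      rw [map_mul, map_mul, map_zpow, map_zpow]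
      refine Commute.mul_left (Commute.mul_right ((Commute.refl _).zpow_zpow _ _)
        ((hbe e' he').zpow_left _)) (Commute.mul_right ((hbe e he).symm.zpow_right _) ?_)
      exact Commute.map (show Commute (⟨e, hEN he⟩ : N) ⟨e', hEN he'⟩ from
        Subtype.ext (hab e he e' he')) π
    rw [← commutatorElement_eq_one_iff_commute, ← map_commutatorElement] at h1
    have h2 := mem_subgroupOf.1 ((QuotientGroup.eq_one_iff _).1 h1)
    rw [commutatorElement_def] at h2 ⊢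
    push_cast at h2
    exact h2
  -- the centre of `N`
  have hZ : ∀ g ∈ N, (∀ h ∈ N, g * h = h * g) → g ∈ D := fun g hg hcomm => by
    have hgE : g ∈ E := centric_self hE.1 ⟨hg.1, mem_centralizer_iff.2 fun e he =>
      (hcomm e (hEN he)).symm⟩
    obtain ⟨d, hd, i, rfl⟩ := hdec g hgE
    have hfix : b * x ^ i * b⁻¹ = x ^ i := by
      have h1 : d * (b * x ^ i) = d * (x ^ i * b) := by
        rw [← mul_assoc, ← hcenN b hbN d hd, mul_assoc, ← hcomm b hbN, mul_assoc]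
      rw [mul_left_cancel h1, mul_inv_cancel_right]
    rw [← conj_zpow, hbx, (show Commute x w from hab x hxE w (hDE hwD)).mul_zpow, mul_eq_left] at hfix
    have h2 : (p : ℤ) ∣ i := by
      rw [← orderOf_eq_prime (hexp w (hDE hwD)) hw1]
      exact orderOf_dvd_iff_zpow_eq_one.2 hfix
    obtain ⟨i', rfl⟩ := h2
    rw [zpow_mul, zpow_natCast, hexp x hxE, one_zpow, mul_one]
    exact hd
  have hDinv : ∀ f, Iso F N N f → ∀ d ∈ D, f d ∈ D := fun f hf d hd => by
    refine hZ _ (hf.mem (hDN hd)) fun h hh => ?_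
    obtain ⟨h', hh', rfl⟩ := hf.exists_eq hh
    rw [← hf.1.map_mul (hDN hd) hh', ← hf.1.map_mul hh' (hDN hd), hcenN h' hh' d hd]
  have hconjN : ∀ m ∈ M, Iso F N N (fun z => m * z * m⁻¹) := fun m hm => iso_conj_self hNS hm.1 hm.2
  have hDM : ∀ m ∈ M, ∀ d ∈ D, m * d * m⁻¹ ∈ D := fun m hm => hDinv _ (hconjN m hm)
  have hWM : ∀ m ∈ M, ∀ y ∈ zpowers w, m * y * m⁻¹ ∈ zpowers w := by
    intro m hm y hy
    obtain ⟨i, rfl⟩ := mem_zpowers_iff.1 hy
    rw [← conj_zpow]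
    refine zpow_mem ?_ i
    have e : m * w * m⁻¹ = ⁅m * b * m⁻¹, m * x * m⁻¹⁆ := by
      rw [show w = ⁅b, x⁆ by
        rw [commutatorElement_def, hbx, hab x hxE w (hDE hwD), mul_inv_cancel_right]]
      simp only [commutatorElement_def]; group
    rw [e]
    exact hcommN _ ((hconjN m hm).mem hbN) _ ((hconjN m hm).mem (hEN hxE))
  have hNne : N.subgroupOf S ≠ ⊤ := fun h => by
    have h1 := card_le_of_le (subgroupOf_eq_top.1 h)
    rw [hN4] at h1
    have := (Nat.pow_le_pow_iff_right hpp.one_lt).1 (hbig.trans h1)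
    omega
  haveI := hS.isNilpotent
  obtain ⟨⟨m0, hm0S⟩, hm0n, hm0N⟩ := SetLike.exists_of_lt
    (Group.normalizerCondition_of_isNilpotent (N.subgroupOf S) (lt_top_iff_ne_top.2 hNne))
  have hm0N' : m0 ∉ N := hm0N
  have hm0 : m0 ∈ M := ⟨hm0S, Subgroup.mem_normalizer_iff.2 fun z => ⟨fun hz =>
    (Subgroup.mem_normalizer_iff.1 hm0n ⟨z, hNS hz⟩).1 hz, fun hz => by
      have hzS : z ∈ S := by
        have := S.mul_mem (S.mul_mem (S.inv_mem hm0S) (hNS hz)) hm0S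
        rwa [show m0⁻¹ * (m0 * z * m0⁻¹) * m0 = z by group] at this
      exact (Subgroup.mem_normalizer_iff.1 hm0n ⟨z, hzS⟩).2 hz⟩⟩
  have hMbig : p * Nat.card N ≤ Nat.card M := by
    obtain ⟨e, he⟩ := IsPGroup.iff_card.1 (hS.to_le hMS)
    have hlt : p ^ 4 < p ^ e := by
      rw [← hN4, ← he]
      by_contra hge
      exact hm0N' ((eq_of_le_of_card_ge hNM (not_lt.1 hge)).symm ▸ hm0)
    rw [hN4, he, ← pow_succ']
    exact Nat.pow_le_pow_right hpp.pos ((Nat.pow_lt_pow_iff_right hpp.one_lt).1 hlt)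
  have hcE : Nat.card E = p * Nat.card D := by rw [hcard, hDc, ← pow_succ']
  have hcN : Nat.card N = p * Nat.card E := by rw [hN4, hcard, ← pow_succ']
  have hfnN : F.IsFullyNormalized N := fullyNormalized_step hS hE.2.1 hN.symm hDE hcE hcN hDinv hMbig
  have hM5 : Nat.card M = p ^ 5 := le_antisymm
    ((card_normalizer_le hS hN.symm hDE hEN hcE hcN hDM).trans (by rw [hN4, ← pow_succ']))
    (le_trans (by rw [hN4, ← pow_succ']) hMbig)
  refine ⟨hN4, hM5, hfnN, b, x, w, c, D, hbN, hbE, hDE, hDc, hwD, hw1, hcD, hcw, hxE, hxD, hbx, hcenN,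
    ?_, hZ, htorus⟩
  -- the maximal subgroup of `N` over `D` that is normal in `M`
  have hDsM : ∀ m ∈ M, ∀ d ∈ D, ⁅m, d⁆ ∈ zpowers w := comm_step hS hMS hw_le (hDN.trans hNM) hWM hDM
    (by rw [hwcard, hDc, pow_two])
  have hwM : ∀ m ∈ M, m * w = w * m := fun m hm => by
    have h1 := comm_step hS hMS bot_le (hw_le.trans (hDN.trans hNM))
      (fun g _ y hy => by rw [mem_bot] at hy; subst hy; simp) hWM (by rw [hwcard, card_bot, mul_one])
      m hm w (mem_zpowers w)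
    exact commutatorElement_eq_one_iff_mul_comm.1 (mem_bot.1 h1)
  set D' := D.subgroupOf M
  haveI hD'n : D'.Normal := ⟨fun y hy g => hDM g g.2 y hy⟩
  haveI hN'n : (N.subgroupOf M).Normal := ⟨fun y hy g => (Subgroup.mem_normalizer_iff.1 g.2.2 y).1 hy⟩
  set π := QuotientGroup.mk' D'
  haveI := ((hS.to_le hMS).to_quotient D').isNilpotent
  haveI := hN'n.map π (QuotientGroup.mk'_surjective _)
  have hNqne : (N.subgroupOf M).map π ≠ ⊥ := fun h => by
    rw [Subgroup.map_eq_bot_iff, QuotientGroup.ker_mk'] at h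
    exact hxD (mem_subgroupOf.1 (h (show (⟨x, hNM (hEN hxE)⟩ : M) ∈ N.subgroupOf M from hEN hxE)))
  obtain ⟨q, hq, hq1⟩ := (bot_or_exists_ne_one _).resolve_left (Cfsg.Agent.Core.inf_center_ne_bot hNqne)
  obtain ⟨⟨z, hzM⟩, hzN, hzq⟩ := hq.1
  subst hzq
  have hzN' : z ∈ N := hzN
  have hzc : ∀ m ∈ M, ⁅m, z⁆ ∈ D := fun m hm => by
    have h1 : π ⁅(⟨m, hm⟩ : M), ⟨z, hzM⟩⁆ = 1 := by
      rw [map_commutatorElement, commutatorElement_eq_one_iff_mul_comm]
      exact mem_center_iff.1 hq.2 _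
    exact mem_subgroupOf.1 ((QuotientGroup.eq_one_iff _).1 h1)
  have hzD : z ∉ D := fun h => hq1 ((QuotientGroup.eq_one_iff _).2 h)
  have hzE : z ∉ E := fun hz => by
    -- otherwise `M` would normalise `E`
    obtain ⟨d, hd, i, hzi⟩ := hdec z hz
    have hi : ¬ (p : ℤ) ∣ i := fun ⟨i', hi'⟩ => hzD (by
      rw [hzi, hi', zpow_mul, zpow_natCast, hexp x hxE, one_zpow, mul_one]; exact hd)
    obtain ⟨i', hi'⟩ := ThreeDim.exists_inv i hi
    have hm0x : m0 * x * m0⁻¹ ∈ E := by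
      have h1 : m0 * z * m0⁻¹ ∈ E := by
        have h2 := E.mul_mem (hDE (hzc m0 hm0)) hz
        rwa [commutatorElement_def, inv_mul_cancel_right] at h2
      have h3 : m0 * x ^ i * m0⁻¹ ∈ E := by
        have h4 := E.mul_mem (E.inv_mem (hDE (hDM m0 hm0 d hd))) h1
        rwa [hzi, show (m0 * d * m0⁻¹)⁻¹ * (m0 * (d * x ^ i) * m0⁻¹) = m0 * x ^ i * m0⁻¹ by group] at h4
      have h5 := E.zpow_mem h3 i'
      rwa [conj_zpow, ← zpow_mul, show x ^ (i * i') = x from by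
        have := congrArg Subtype.val (ThreeDim.zpow_of_dvd hexp' (a := i * i') (b := 1) hi' ⟨x, hxE⟩)
        simpa using this] at h5
    refine hm0N' ⟨hm0S, ?_⟩
    have hmap : E.map (MulAut.conj m0).toMonoidHom = E := by
      refine eq_of_le_of_card_ge ?_ (card_map_of_injective (MulAut.conj m0).injective).ge
      rintro _ ⟨e, he, rfl⟩
      obtain ⟨d', hd', j, rfl⟩ := hdec e he
      show MulAut.conj m0 (d' * x ^ j) ∈ E
      rw [map_mul, map_zpow, MulAut.conj_apply, MulAut.conj_apply]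
      exact E.mul_mem (hDE (hDM m0 hm0 d' hd')) (E.zpow_mem hm0x j)
    refine Subgroup.mem_normalizer_iff.2 fun y => ⟨fun hy => ?_, fun hy => ?_⟩
    · rw [← hmap]; exact mem_map_of_mem _ hy
    · rw [← hmap, mem_conj_map] at hy
      rwa [show m0⁻¹ * (m0 * y * m0⁻¹) * m0 = y by group] at hy
  obtain ⟨ez, hez, iz, hziz⟩ := hgenN z hzN'
  have hiz : ¬ (p : ℤ) ∣ iz := fun ⟨i', hi'⟩ => hzE (by
    have hbp : b ^ (p : ℤ) ∈ E := by
      have h1 : ((⟨b, hbN⟩ : N) : N ⧸ E') ^ p = 1 := hcq ▸ pow_card_eq_one'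
      rw [← QuotientGroup.mk_pow] at h1
      simpa using mem_subgroupOf.1 ((QuotientGroup.eq_one_iff _).1 h1)
    rw [hziz, hi', zpow_mul]
    exact E.mul_mem (E.zpow_mem hbp _) hez)
  obtain ⟨iz', hiz'⟩ := ThreeDim.exists_inv iz hiz
  -- `j` generates that subgroup and lies in the coset of `b`
  set j := z ^ iz' with hj
  have hjN : j ∈ N := N.zpow_mem hzN' _
  have hjE : b⁻¹ * j ∈ E := by
    have h1 : ((⟨j, hjN⟩ : N) : N ⧸ E') = ((⟨b, hbN⟩ : N) : N ⧸ E') := by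
      have e1 : ((⟨z, hzN'⟩ : N) : N ⧸ E') = ((⟨b, hbN⟩ : N) : N ⧸ E') ^ iz := by
        rw [← QuotientGroup.mk_zpow]
        refine (QuotientGroup.eq.2 (mem_subgroupOf.2 ?_)).symm
        simpa [hziz] using hez
      rw [show (⟨j, hjN⟩ : N) = (⟨z, hzN'⟩ : N) ^ iz' from Subtype.ext (by simp [hj]),
        QuotientGroup.mk_zpow, e1, ← zpow_mul]
      conv_rhs => rw [← zpow_one ((⟨b, hbN⟩ : N) : N ⧸ E')]
      refine orderOf_dvd_sub_iff_zpow_eq_zpow.1 ?_
      rw [orderOf_eq_prime (hcq ▸ pow_card_eq_one') hbq]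
      exact hiz'
    simpa using mem_subgroupOf.1 (QuotientGroup.eq.1 h1.symm)
  have hjc : ∀ m : M, Commute (π ⟨j, hNM hjN⟩) (π m) := fun m => by
    rw [show (⟨j, hNM hjN⟩ : M) = (⟨z, hzM⟩ : M) ^ iz' from Subtype.ext (by simp [hj]), map_zpow]
    exact (show Commute (π ⟨z, hzM⟩) (π m) from (mem_center_iff.1 hq.2 _).symm).zpow_left _
  set J := zpowers j ⊔ D with hJ
  have hJN : J ≤ N := sup_le (zpowers_le.2 hjN) hDN
  haveI := finite_of_le (hJN.trans hNS)
  have hjpow : ∀ i : ℤ, j ^ i ∈ E → (p : ℤ) ∣ i := fun i hi => hbpow i (by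
    have h1 : ((⟨j, hjN⟩ : N) : N ⧸ E') = ((⟨b, hbN⟩ : N) : N ⧸ E') :=
      (QuotientGroup.eq.2 (mem_subgroupOf.2 (by simpa using hjE))).symm
    have h2 : ((⟨b, hbN⟩ : N) : N ⧸ E') ^ i = 1 := by
      rw [← h1, ← QuotientGroup.mk_zpow]
      exact (QuotientGroup.eq_one_iff _).2 (mem_subgroupOf.2 (by simpa using hi))
    rw [← QuotientGroup.mk_zpow] at h2
    simpa using mem_subgroupOf.1 ((QuotientGroup.eq_one_iff _).1 h2))
  have hjD : j ∉ E := fun h => by
    have h1 := hjpow 1 (by rwa [zpow_one])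
    have := Int.le_of_dvd one_pos h1
    have := hpp.two_le
    omega
  have hJdec : ∀ y ∈ J, ∃ d ∈ D, ∃ i : ℤ, y = j ^ i * d := by
    let K : Subgroup Ω :=
      { carrier := {y | ∃ d ∈ D, ∃ i : ℤ, y = j ^ i * d}
        one_mem' := ⟨1, D.one_mem, 0, by simp⟩
        mul_mem' := by
          rintro _ _ ⟨d, hd, i, rfl⟩ ⟨d', hd', i', rfl⟩
          refine ⟨d * d', D.mul_mem hd hd', i + i', ?_⟩
          have hc' : Commute d (j ^ i') := (hcenN _ (N.zpow_mem hjN i') d hd).symm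
          rw [zpow_add, mul_assoc, ← mul_assoc d, hc'.eq]
          group
        inv_mem' := by
          rintro _ ⟨d, hd, i, rfl⟩
          refine ⟨d⁻¹, D.inv_mem hd, -i, ?_⟩
          rw [mul_inv_rev, zpow_neg]
          exact (hcenN _ (N.inv_mem (N.zpow_mem hjN i)) _ (D.inv_mem hd)).symm }
    intro y hy
    exact (sup_le (zpowers_le.2 ⟨1, D.one_mem, 1, by simp⟩) (fun d hd => ⟨d, hd, 0, by simp⟩) : J ≤ K) hy
  have hJE : ∀ y ∈ J, y ∈ E → y ∈ D := fun y hy hyE => by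
    obtain ⟨d, hd, i, rfl⟩ := hJdec y hy
    obtain ⟨i', rfl⟩ := hjpow i (by
      have h2 := E.mul_mem hyE (E.inv_mem (hDE hd))
      rwa [mul_inv_cancel_right] at h2)
    refine D.mul_mem ?_ hd
    rw [zpow_mul, zpow_natCast]
    refine D.zpow_mem (hZ _ (N.pow_mem hjN _) fun h hh => ?_) _
    -- `p`-th powers are central, commutators having order `p`
    have hc : ⁅h, j⁆ ∈ zpowers w := hcommN h hh j hjN
    have hcj : Commute j ⁅h, j⁆ := (hcenN j hjN _ (hw_le hc))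
    have h1 := conj_iter (m := h) (y := j) (z := ⁅h, j⁆) (by
      rw [hcj.eq, commutatorElement_def]; group) (hcenN h hh _ (hw_le hc)) 1
    rw [zpow_one, zpow_one] at h1
    have h2 : h * j ^ p * h⁻¹ = j ^ p := by
      rw [← conj_pow, h1, hcj.mul_pow, hexp _ (hDE (hw_le hc)), mul_one]
    exact (mul_inv_eq_iff_eq_mul.1 h2).symm
  have hJc : Nat.card J = Nat.card E := by
    obtain ⟨e, he⟩ := IsPGroup.iff_card.1 (hS.to_le (hJN.trans hNS))
    have h1 : p ^ 2 < p ^ e := by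
      rw [← hDc, ← he]
      by_contra hge
      exact hjD (hDE ((eq_of_le_of_card_ge (le_sup_right : D ≤ J) (not_lt.1 hge)).symm ▸
        mem_sup_left (mem_zpowers j) : j ∈ D))
    have h2 : p ^ e < p ^ 4 := by
      rw [← he, ← hN4]
      by_contra hge
      have hx : x ∈ J := (eq_of_le_of_card_ge hJN (not_lt.1 hge)).symm ▸ hEN hxE
      exact hxD (hJE x hx hxE)
    have := (Nat.pow_lt_pow_iff_right hpp.one_lt).1 h1
    have := (Nat.pow_lt_pow_iff_right hpp.one_lt).1 h2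
    rw [hcard, he, show e = 3 by omega]
  have hcD' : ∀ m ∈ M, ∀ y ∈ J, m * y * m⁻¹ ∈ J := fun m hm y hy => by
    obtain ⟨d, hd, i, rfl⟩ := hJdec y hy
    have h1 : ⁅m, j⁆ ∈ D := mem_subgroupOf.1 ((QuotientGroup.eq_one_iff _).1
      ((map_commutatorElement π (⟨m, hm⟩ : M) ⟨j, hNM hjN⟩).trans
        (commutatorElement_eq_one_iff_mul_comm.2 (hjc ⟨m, hm⟩).symm.eq)))
    rw [show m * (j ^ i * d) * m⁻¹ = (⁅m, j⁆ * j) ^ i * (m * d * m⁻¹) by
      rw [show ⁅m, j⁆ * j = m * j * m⁻¹ by rw [commutatorElement_def]; group, conj_zpow]; group]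
    exact J.mul_mem (J.zpow_mem (J.mul_mem (mem_sup_right h1) (mem_sup_left (mem_zpowers j))) i)
      (mem_sup_right (hDM m hm d hd))
  have hJn : ∀ m ∈ M, m ∈ Subgroup.normalizer (J : Set Ω) := fun m hm =>
    Subgroup.mem_normalizer_iff.2 fun y => ⟨hcD' m hm y, fun hy => by
      have h1 := hcD' _ (M.inv_mem hm) _ hy
      rwa [show m⁻¹ * (m * y * m⁻¹) * m⁻¹⁻¹ = y by group] at h1⟩
  -- the torus element with `k = 2`
  obtain ⟨half, hhalf⟩ : ∃ k' : ℤ, (p : ℤ) ∣ 2 * k' - 1 := ThreeDim.exists_inv 2 (fun h => by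
    have := Int.le_of_dvd two_pos h
    omega)
  obtain ⟨f, hf, hfE, hfx, hfw, hfc, hfb⟩ := htorus 2 half hhalf
  have hfJ : ∀ y ∈ J, f y ∈ J := fixed_invariant hS hE.2.1 hN.symm hDE hcE hcN hDinv hMbig le_sup_right
    hJN hJc hJn hf
  set C : ℕ → Subgroup Ω := fun i =>
    if i = 0 then ⊥ else if i = 1 then zpowers w else if i = 2 then D else if i = 3 then J else N
  have hmono : Monotone C := monotone_nat_of_le_succ fun i => by
    match i with
    | 0 => exact bot_le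
    | 1 => exact hw_le
    | 2 => exact le_sup_right
    | 3 => exact hJN
    | i + 4 => exact le_rfl
  have hstep : ∀ i < 4, ((C i).subgroupOf N).relIndex ((C (i + 1)).subgroupOf N) ≤ p := by
    intro i hi
    have hCN : ∀ i, C i ≤ N := fun i => by
      match i with
      | 0 => exact bot_le
      | 1 => exact hw_le.trans hDN
      | 2 => exact hDN
      | 3 => exact hJN
      | i + 4 => exact le_rfl
    have hcC : Nat.card (C (i + 1)) = Nat.card (C i) * p := by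
      match i with
      | 0 => exact hwcard.trans (by simp [C])
      | 1 => exact hDc.trans ((pow_two p).trans (by rw [← hwcard]; rfl))
      | 2 => exact hJc.trans (hcE.trans (mul_comm _ _))
      | 3 => exact hcN.trans ((mul_comm _ _).trans (by rw [← hJc]; rfl))
      | i + 4 => omega
    have h1 := (((C i).subgroupOf N).subgroupOf ((C (i + 1)).subgroupOf N)).card_mul_index
    rw [Nat.card_congr (subgroupOfEquivOfLe
        (show (C i).subgroupOf N ≤ (C (i + 1)).subgroupOf N from fun y hy => hmono (Nat.le_succ i) hy)).toEquiv,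
      Nat.card_congr (subgroupOfEquivOfLe (hCN i)).toEquiv,
      Nat.card_congr (subgroupOfEquivOfLe (hCN (i + 1))).toEquiv, hcC] at h1
    haveI := finite_of_le ((hCN i).trans hNS)
    exact (Nat.eq_of_mul_eq_mul_left Nat.card_pos h1).le
  have hfC : ∀ i, i ≤ 4 → ∀ y ∈ N, y ∈ C i → f y ∈ C i := fun i _ y _ hy => by
    rcases i with _ | _ | _ | _ | i
    · have h0 : y = 1 := mem_bot.1 hy
      rw [h0, hf.1.map_one]
      exact (C 0).one_mem
    ·
      obtain ⟨k, rfl⟩ := mem_zpowers_iff.1 hy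
      obtain ⟨φ, -, hφ⟩ := hf.1
      have e := map_zpow φ (⟨w, hDN hwD⟩ : N) k
      rw [hφ, hφ] at e
      show f (w ^ k) ∈ zpowers w
      have e' : f (w ^ k) = (f w) ^ k := by simpa using e
      rw [e', hfw]
      exact zpow_mem (zpow_mem (mem_zpowers w) _) _
    · exact hDinv f hf y hy
    · exact hfJ y hy
    · exact hf.mem hy
  have hMC : ∀ i, i ≤ 4 → ∀ m ∈ M, ∀ y ∈ N, y ∈ C i → m * y * m⁻¹ ∈ C i :=
      fun i _ m hm y hy hyC => by
    rcases i with _ | _ | _ | _ | i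
    ·
      have h0 : y = 1 := mem_bot.1 hyC
      rw [h0, mul_one, mul_inv_cancel]
      exact (C 0).one_mem
    · exact hWM m hm y hyC
    · exact hDM m hm y hyC
    · exact hcD' m hm y hyC
    · exact (Subgroup.mem_normalizer_iff.1 hm.2 y).1 hyC
  obtain ⟨f', hf', hff'⟩ := exists_extension hS hF hfnN hf hmono (n := 4) le_rfl rfl hfC hMC hstep
  -- `M = ⟨m0⟩ N`
  have hNMi : (N.subgroupOf M).index = p := by
    have h1 := (N.subgroupOf M).card_mul_index
    rw [Nat.card_congr (subgroupOfEquivOfLe hNM).toEquiv, hN4, hM5, pow_succ p 4] at h1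
    exact Nat.eq_of_mul_eq_mul_left (pow_pos hpp.pos 4) h1
  have hcqM : Nat.card (M ⧸ N.subgroupOf M) = p := by rw [← index_eq_card, hNMi]
  have hgenM : ∀ g ∈ M, ∃ n ∈ N, ∃ i : ℤ, g = m0 ^ i * n := fun g hg => by
    obtain ⟨i, hi⟩ := mem_zpowers_iff.1 (mem_zpowers_of_prime_card hcqM
      (g := ((⟨m0, hm0⟩ : M) : M ⧸ N.subgroupOf M)) (g' := ((⟨g, hg⟩ : M) : M ⧸ N.subgroupOf M))
      (fun h => hm0N' ((QuotientGroup.eq_one_iff (⟨m0, hm0⟩ : M)).1 h)))
    rw [← QuotientGroup.mk_zpow] at hi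
    exact ⟨(m0 ^ i)⁻¹ * g, by simpa using mem_subgroupOf.1 (QuotientGroup.eq.1 hi), i,
      (mul_inv_cancel_left _ _).symm⟩
  -- the action of `m0` on `c` and on `x` modulo `D`
  obtain ⟨e, he⟩ := mem_zpowers_iff.1 (hDsM m0 hm0 c hcD)
  have hm0c : m0 * c * m0⁻¹ = c * w ^ e := by
    rw [he, hab c (hDE hcD) _ (hDE (hw_le (hDsM m0 hm0 c hcD))), commutatorElement_def]; group
  have hxJ : ⁅m0, x⁆ ∈ J := comm_step hS hMS hJN hNM hcD'
    (fun m hm y hy => (Subgroup.mem_normalizer_iff.1 hm.2 y).1 hy) (by rw [hJc, hcN]) m0 hm0 x (hEN hxE)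
  obtain ⟨d0, hd0, a, ha⟩ := hJdec _ hxJ
  have hna : ¬ (p : ℤ) ∣ a := fun ⟨a', ha'⟩ => by
    -- otherwise `m0` would normalise `E`
    have hj2 : j ^ a ∈ D := by
      refine hJE _ (J.zpow_mem (mem_sup_left (mem_zpowers j)) _) ?_
      have hjp : j ^ (p : ℤ) ∈ E := by
        have h1 : ((⟨j, hjN⟩ : N) : N ⧸ E') ^ p = 1 := hcq ▸ pow_card_eq_one'
        rw [← QuotientGroup.mk_pow] at h1
        simpa using mem_subgroupOf.1 ((QuotientGroup.eq_one_iff _).1 h1)
      rw [ha', zpow_mul]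
      exact E.zpow_mem hjp _
    have hm0x : m0 * x * m0⁻¹ ∈ E := by
      rw [show m0 * x * m0⁻¹ = ⁅m0, x⁆ * x by rw [commutatorElement_def]; group, ha]
      exact E.mul_mem (hDE (D.mul_mem hj2 hd0)) hxE
    refine hm0N' ⟨hm0S, ?_⟩
    have hmap : E.map (MulAut.conj m0).toMonoidHom = E := by
      refine eq_of_le_of_card_ge ?_ (card_map_of_injective (MulAut.conj m0).injective).ge
      rintro _ ⟨e', he', rfl⟩
      obtain ⟨d', hd', i, rfl⟩ := hdec e' he'
      show MulAut.conj m0 (d' * x ^ i) ∈ E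
      rw [map_mul, map_zpow, MulAut.conj_apply, MulAut.conj_apply]
      exact E.mul_mem (hDE (hDM m0 hm0 d' hd')) (E.zpow_mem hm0x i)
    refine Subgroup.mem_normalizer_iff.2 fun y => ⟨fun hy => ?_, fun hy => ?_⟩
    · rw [← hmap]; exact mem_map_of_mem _ hy
    · rw [← hmap, mem_conj_map] at hy
      rwa [show m0⁻¹ * (m0 * y * m0⁻¹) * m0 = y by group] at hy
  obtain ⟨n, hn, i, hfm⟩ := hgenM _ (hf'.mem hm0)
  set xM : M := ⟨x, hNM (hEN hxE)⟩
  set jM : M := ⟨j, hNM hjN⟩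
  set mM : M := ⟨m0, hm0⟩
  have hπd : ∀ (d : Ω) (hd : d ∈ D), π ⟨d, hNM (hDN hd)⟩ = 1 := fun d hd =>
    (QuotientGroup.eq_one_iff _).2 hd
  have hconjx : π mM * π xM * (π mM)⁻¹ = π xM * π jM ^ a := by
    have e1 : mM * xM * mM⁻¹ = jM ^ a * ⟨d0, hNM (hDN hd0)⟩ * xM := by
      refine Subtype.ext ?_
      show m0 * x * m0⁻¹ = _
      rw [show m0 * x * m0⁻¹ = ⁅m0, x⁆ * x by rw [commutatorElement_def]; group, ha]
      rfl
    rw [← map_mul, ← map_inv, ← map_mul, e1, map_mul, map_mul, hπd d0 hd0, mul_one, map_zpow]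
    exact ((hjc xM).zpow_left a).eq
  have hxpow : ∀ l r : ℤ, (π mM) ^ l * (π xM) ^ r * ((π mM) ^ l)⁻¹ = π xM ^ r * π jM ^ (a * l * r) :=
    fun l r => by
    rw [← conj_zpow, conj_iter hconjx ((hjc mM).symm.zpow_right a) l,
      (((hjc xM).symm.zpow_right a).zpow_right l).mul_zpow, ← zpow_mul, ← zpow_mul, mul_assoc]
  -- compare the images under `f'`
  have hfd : ∀ d ∈ D, f' d ∈ D := fun d hd => by rw [hff' d (hDN hd)]; exact hDinv f hf d hd
  have hfzp : ∀ (y : Ω), y ∈ N → ∀ k : ℤ, f (y ^ k) = f y ^ k := fun y hy k => by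
    obtain ⟨φ, -, hφ⟩ := hf.1
    have e := map_zpow φ (⟨y, hy⟩ : N) k
    rw [hφ, hφ] at e
    simpa using e
  -- on `c`
  have hce : c * (w ^ (2 : ℤ)) ^ e = c * (w ^ e) ^ i := by
    have hL : f' (m0 * c * m0⁻¹) = c * (w ^ (2 : ℤ)) ^ e := by
      rw [hff' _ ((Subgroup.mem_normalizer_iff.1 hm0.2 c).1 (hDN hcD)), hm0c,
        hf.1.map_mul (hDN hcD) (N.zpow_mem (hDN hwD) e), hfc, hfzp w (hDN hwD), hfw]
    rw [← hL, hf'.1.map_conj hm0 (hNM (hDN hcD)), hff' c (hDN hcD), hfc, hfm]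
    calc m0 ^ i * n * c * (m0 ^ i * n)⁻¹ = m0 ^ i * (n * c * n⁻¹) * (m0 ^ i)⁻¹ := by group
      _ = m0 ^ i * c * (m0 ^ i)⁻¹ := by rw [hcenN n hn c hcD, mul_inv_cancel_right]
      _ = _ := conj_iter hm0c ((show Commute m0 w from hwM m0 hm0).zpow_right e) i
  -- on `x` modulo `D`
  have hjx : (π jM) ^ (a * i * half) = (π jM) ^ (4 * a) := by
    set fM : M → M := fun y => ⟨f' y, hf'.mem y.2⟩
    have hfMmul : ∀ y z : M, fM (y * z) = fM y * fM z := fun y z => Subtype.ext (hf'.1.map_mul y.2 z.2)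
    let φ : M →* M := MonoidHom.mk' fM hfMmul
    have hφD : D' ≤ D'.comap φ := fun y hy => hfd y hy
    set ψ : M ⧸ D' →* M ⧸ D' := QuotientGroup.map D' D' φ hφD
    have hψ : ∀ y : M, ψ (π y) = π (fM y) := fun y => rfl
    have hψx : ψ (π xM) = π xM ^ half := by
      rw [hψ, ← map_zpow]
      congr 1
      exact Subtype.ext (by show f' x = _; rw [hff' x (hEN hxE), hfx]; simp [xM])
    have hψj : ψ (π jM) = π jM ^ (4 : ℤ) := by
      rw [hψ, ← map_zpow]
      refine QuotientGroup.eq.2 (mem_subgroupOf.2 ?_)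
      show (f' j)⁻¹ * ((jM ^ (4 : ℤ) : M) : Ω) ∈ D
      rw [SubgroupClass.coe_zpow, hff' j hjN]
      refine hJE _ (J.mul_mem (J.inv_mem (hfJ j (mem_sup_left (mem_zpowers j))))
        (J.zpow_mem (mem_sup_left (mem_zpowers j)) _)) ?_
      set e0 := b⁻¹ * j with he0
      have hje : j = b * e0 := (mul_inv_cancel_left b j).symm
      have hfj : f j = f b * f e0 := by rw [hje, hf.1.map_mul hbN (hEN hjE)]
      have h1 : ((⟨f j, hf.mem hjN⟩ : N) : N ⧸ E') = ((⟨j, hjN⟩ : N) : N ⧸ E') ^ (4 : ℤ) := by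
        have e3 : ((⟨j, hjN⟩ : N) : N ⧸ E') = ((⟨b, hbN⟩ : N) : N ⧸ E') :=
          (QuotientGroup.eq.2 (mem_subgroupOf.2 (by simpa using hjE))).symm
        rw [e3, ← QuotientGroup.mk_zpow]
        refine (QuotientGroup.eq.2 (mem_subgroupOf.2 ?_)).symm
        show ((((⟨b, hbN⟩ : N) ^ (4 : ℤ) : N) : Ω))⁻¹ * f j ∈ E
        rw [SubgroupClass.coe_zpow, hfj, ← mul_assoc]
        exact E.mul_mem (by simpa using hfb) (hfE e0 hjE)
      rw [← QuotientGroup.mk_zpow] at h1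
      simpa using mem_subgroupOf.1 (QuotientGroup.eq.1 h1)
    have hψm : ψ (π mM) = π mM ^ i * π ⟨n, hNM hn⟩ := by
      rw [hψ, ← map_zpow, ← map_mul]
      congr 1
      exact Subtype.ext (by show f' m0 = _; rw [hfm]; simp [mM])
    have hnx : Commute (π ⟨n, hNM hn⟩) (π xM) := by
      rw [← commutatorElement_eq_one_iff_commute, ← map_commutatorElement]
      exact (QuotientGroup.eq_one_iff _).2 (hw_le (hcommN n hn x (hEN hxE)))
    have h1 := congrArg ψ hconjx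
    rw [map_mul, map_mul, map_inv, map_mul, map_zpow, hψx, hψj, hψm, ← zpow_mul] at h1
    rw [show π mM ^ i * π ⟨n, hNM hn⟩ * π xM ^ half * (π mM ^ i * π ⟨n, hNM hn⟩)⁻¹ =
      π mM ^ i * (π ⟨n, hNM hn⟩ * π xM ^ half * (π ⟨n, hNM hn⟩)⁻¹) * (π mM ^ i)⁻¹ by group,
      (hnx.zpow_right half).eq, mul_inv_cancel_right, hxpow] at h1
    exact mul_left_cancel h1
  have he0 : (p : ℤ) ∣ e := by
    have hjo : ∀ r : ℤ, (π jM) ^ r = 1 → (p : ℤ) ∣ r := fun r hr => by
      rw [← map_zpow] at hr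
      have h1 := mem_subgroupOf.1 ((QuotientGroup.eq_one_iff _).1 hr)
      exact hjpow r (hDE (by simpa [jM] using h1))
    have h1 := hjo _ (show (π jM) ^ (a * i * half - 4 * a) = 1 by rw [zpow_sub, hjx, mul_inv_cancel])
    rw [show a * i * half - 4 * a = a * (i * half - 4) by ring] at h1
    have h2 := ((Nat.prime_iff_prime_int.1 hpp).dvd_or_dvd h1).resolve_left hna
    have h3 := ThreeDim.zexp hexp' (w := ⟨w, hDE hwD⟩) (fun h => hw1 (congrArg Subtype.val h))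
      (a := 2 * e) (b := e * i) (Subtype.ext (by
        rw [SubgroupClass.coe_zpow, SubgroupClass.coe_zpow, zpow_mul, zpow_mul]
        exact mul_left_cancel hce))
    have h4 : (p : ℤ) ∣ 6 * e := by
      have h5 := dvd_add ((h2.mul_left (2 * e)).add (h3)) (hhalf.mul_left (-(i * e)))
      rw [show 2 * e * (i * half - 4) + (2 * e - e * i) + -(i * e) * (2 * half - 1) = -(6 * e) by ring,
        dvd_neg] at h5
      exact h5
    rcases (Nat.prime_iff_prime_int.1 hpp).dvd_or_dvd h4 with h6 | h6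
    · exfalso
      have h7 : p ∣ 6 := by exact_mod_cast h6
      have := Nat.le_of_dvd (by norm_num) h7
      interval_cases p <;> norm_num at *
    · exact h6
  have hm0cc : m0 * c = c * m0 := by
    have hwe : w ^ e = 1 := by
      obtain ⟨e', rfl⟩ := he0
      rw [zpow_mul, zpow_natCast, hexp w (hDE hwD), one_zpow]
    rw [hwe, mul_one] at hm0c
    exact mul_inv_eq_iff_eq_mul.1 hm0c
  intro g hg d hd
  obtain ⟨n', hn', i', rfl⟩ := hgenM g hg
  obtain ⟨u, v, hd'⟩ := ThreeDim.exists_coord hcard hexp' hDi (a := ⟨w, hDE hwD⟩) (b := ⟨c, hDE hcD⟩)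
    (x := ⟨d, hDE hd⟩) hwD hcD (fun h => hw1 (congrArg Subtype.val h))
    (fun h => by
      obtain ⟨k, hk⟩ := mem_zpowers_iff.1 h
      exact hcw (mem_zpowers_iff.2 ⟨k, by simpa using congrArg Subtype.val hk⟩)) hab' hd
  have hd'' : d = w ^ u * c ^ v := by simpa using congrArg Subtype.val hd'
  have hm0d : Commute m0 d := hd'' ▸
    ((show Commute m0 w from hwM m0 hm0).zpow_right u).mul_right
      ((show Commute m0 c from hm0cc).zpow_right v)
  exact ((hm0d.zpow_left i').mul_left (show Commute n' d from hcenN n' hn' d hd)).eq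

end Cfsg.Agent.FusSys
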