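import Cfsg.Agent.FusSys.EssentialElemCubeTop
import Cfsg.Agent.MaxClass.TwoStepNormal

/-!
In a `p`-group of maximal class of order at least `p ^ 5`, `p ≥ 5`, no essential subgroup is elementary
abelian of order `p ^ 3`.
-/

set_option autoImplicit false

namespace Cfsg.Agent.FusSys

open Cfsg Cfsg.FusionSystem Subgroup
open Cfsg.Agent.MaxClass.TwoStep
open Cfsg.Agent.MaxClass.Graded (L_anti L_comm L_comm_x MX)
open scoped commutatorElement

universe u

variable {Ω : Type u} [Group Ω] {S : Subgroup Ω} {F : FusionSystem S} {p : ℕ} [hp : Fact p.Prime]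
variable [Finite S]

omit hp in
/-- Membership of the normalizer is tested one way. -/
theorem mem_normalizerIn_of_conj {A : Subgroup Ω} (hA : A ≤ S) {m : Ω} (hm : m ∈ S)
    (h : ∀ a ∈ A, m * a * m⁻¹ ∈ A) : m ∈ normalizerIn S A := by
  haveI := finite_of_le hA
  have hmap : A.map (MulAut.conj m).toMonoidHom = A := by
    refine eq_of_le_of_card_ge ?_ (card_map_of_injective (MulAut.conj m).injective).ge
    rintro _ ⟨a, ha, rfl⟩
    exact h a ha
  refine ⟨hm, Subgroup.mem_normalizer_iff.2 fun y => ⟨h y, fun hy => ?_⟩⟩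
  rw [← hmap, mem_conj_map] at hy
  rwa [show m⁻¹ * (m * y * m⁻¹) * m = y by group] at hy

omit hp [Finite S] in
theorem mem_map_iff {A : Subgroup S} {a : S} : (a : Ω) ∈ A.map S.subtype ↔ a ∈ A :=
  mem_map_iff_mem S.subtype_injective

omit hp in
/-- A fusion automorphism as a map of `S`. -/
theorem exists_restrict {A : Subgroup S} {f : Ω → Ω} (hf : Iso F (A.map S.subtype) (A.map S.subtype) f) :
    ∃ g : S → S, (∀ a ∈ A, (g a : Ω) = f a) ∧ (∀ a ∈ A, g a ∈ A) ∧
      (∀ a ∈ A, ∀ b ∈ A, g (a * b) = g a * g b) ∧ (∀ b ∈ A, ∃ a ∈ A, g a = b) := by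
  classical
  let g : S → S := fun a => if h : f a ∈ S then ⟨f a, h⟩ else 1
  have hg : ∀ a ∈ A, (g a : Ω) = f a := fun a ha => by
    have h1 : f a ∈ S := map_subtype_le A (hf.mem (mem_map_iff.2 ha))
    simp [g, h1]
  refine ⟨g, hg, fun a ha => mem_map_iff.1 (by rw [hg a ha]; exact hf.mem (mem_map_iff.2 ha)),
    fun a ha b hb => Subtype.ext ?_, fun b hb => ?_⟩
  · rw [Subgroup.coe_mul, hg a ha, hg b hb, hg _ (A.mul_mem ha hb), Subgroup.coe_mul,
      hf.1.map_mul (mem_map_iff.2 ha) (mem_map_iff.2 hb)]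
  · obtain ⟨y, hy, hyb⟩ := hf.exists_eq (mem_map_iff.2 hb)
    rcases hy with ⟨a, ha, rfl⟩
    exact ⟨a, ha, Subtype.ext ((hg a ha).trans hyb)⟩

omit hp [Finite S] in
theorem restrict_facts {A : Subgroup S} {g : S → S}
    (hmul : ∀ a ∈ A, ∀ b ∈ A, g (a * b) = g a * g b) :
    g 1 = 1 ∧ (∀ a ∈ A, g a⁻¹ = (g a)⁻¹) ∧ (∀ a ∈ A, ∀ b ∈ A, g ⁅a, b⁆ = ⁅g a, g b⁆) ∧
      ∀ a ∈ A, ∀ k : ℤ, g (a ^ k) = g a ^ k := by
  let φ : A →* S := MonoidHom.mk' (fun a => g a) fun a b => hmul a a.2 b b.2
  refine ⟨map_one φ, fun a ha => map_inv φ ⟨a, ha⟩, fun a ha b hb => ?_, fun a ha k => ?_⟩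
  · exact map_commutatorElement φ ⟨a, ha⟩ ⟨b, hb⟩
  · simpa [φ] using map_zpow φ ⟨a, ha⟩ k

omit hp in
/-- The image in `Ω` has the same order. -/
theorem card_map_subtype (A : Subgroup S) : Nat.card (A.map S.subtype) = Nat.card A :=
  card_map_of_injective S.subtype_injective

variable {n : ℕ}

/-- The terms deeper than `r` are invariant under automorphisms of `⟨x⟩ L r`. -/
theorem lcs_invariant (h : MCl p n S) (hp3 : 3 ≤ p) {x : S} (hxp : x ^ p = 1) (hx1 : x ∉ K (S : Type u) 1)
    (hxn : x ∈ K (S : Type u) (n - 3)) {r j : ℕ} (hr : 1 ≤ r) (hrj : r + 1 ≤ j) (hj : j ≤ n - 3)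
    {f : Ω → Ω} (hf : Iso F ((stepSub x r).map S.subtype) ((stepSub x r).map S.subtype) f) :
    ∀ a ∈ (⊤ : Subgroup S).lowerCentralSeries j, f a ∈ ((⊤ : Subgroup S).lowerCentralSeries j).map S.subtype := by
  obtain ⟨g, hg, hgA, hmul, hsurj⟩ := exists_restrict hf
  obtain ⟨-, -, hgc, -⟩ := restrict_facts hmul
  suffices hall : ∀ k i, r + 1 ≤ i → i + k = n - 3 → ∀ a ∈ (⊤ : Subgroup S).lowerCentralSeries i,
      g a ∈ (⊤ : Subgroup S).lowerCentralSeries i by
    intro a ha
    have hA := (L_anti (by omega)).trans (lcs_le_stepSub x r) ha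
    rw [← hg a hA]
    exact mem_map_iff.2 (hall (n - 3 - j) j hrj (by omega) a ha)
  intro k
  induction k with
  | zero =>
    intro i hri hik a ha
    have hiA : a ∈ stepSub x r := (L_anti (by omega)).trans (lcs_le_stepSub x r) ha
    have h1 := (h.mem_lcs_iff hp3 hxp hx1 hxn hr hri (by omega) hiA).1 ha
    rw [if_pos (by omega)] at h1
    refine (h.mem_lcs_iff hp3 hxp hx1 hxn hr hri (by omega) (hgA a hiA)).2 ?_
    rw [if_pos (by omega)]
    intro b hb
    obtain ⟨b', hb', rfl⟩ := hsurj b hb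
    show g b' * g a = g a * g b'
    rw [← hmul b' hb' a hiA, ← hmul a hiA b' hb', (h1 b' hb').eq]
  | succ k ih =>
    intro i hri hik a ha
    have hiA : a ∈ stepSub x r := (L_anti (by omega)).trans (lcs_le_stepSub x r) ha
    have h1 := (h.mem_lcs_iff hp3 hxp hx1 hxn hr hri (by omega) hiA).1 ha
    rw [if_neg (by omega)] at h1
    refine (h.mem_lcs_iff hp3 hxp hx1 hxn hr hri (by omega) (hgA a hiA)).2 ?_
    rw [if_neg (by omega)]
    intro b hb
    obtain ⟨b', hb', rfl⟩ := hsurj b hb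
    rw [← hgc b' hb' a hiA]
    exact ih (i + 1) (by omega) (by omega) _ (h1 b' hb')

omit hp [Finite S] in
/-- Conjugation inside `⟨x⟩ L (r - 1)`. -/
theorem conj_stepSub {x g a : S} {r : ℕ} (hg : g ∈ stepSub x r) (ha : a ∈ stepSub x (r + 1)) :
    g * a * g⁻¹ ∈ stepSub x (r + 1) := by
  obtain ⟨i, l, hl, rfl⟩ := mem_stepSub.1 hg
  obtain ⟨k, m, hm, rfl⟩ := mem_stepSub.1 ha
  have e : x ^ i * l * (x ^ k * m) * (x ^ i * l)⁻¹ =
      x ^ i * (⁅x ^ k, l⁆⁻¹ * x ^ k * (l * m * l⁻¹)) * (x ^ i)⁻¹ := by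
    rw [commutatorElement_def]; group
  rw [e]
  refine mul_mem (mul_mem (zpow_mem (x_mem_stepSub x _) i) (mul_mem (mul_mem (inv_mem
    (lcs_le_stepSub x _ (L_comm_x hl _))) (zpow_mem (x_mem_stepSub x _) k)) (lcs_le_stepSub x _
      (Subgroup.Normal.conj_mem inferInstance m hm l)))) (inv_mem (zpow_mem (x_mem_stepSub x _) i))

/-- The tower of normalizers above an exceptional configuration. -/
theorem tower_false (hS : IsPGroup p S) (hF : F.IsSaturated p) (hp3 : 3 ≤ p) (h : MCl p n S)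
    (h6 : 6 ≤ n) (heven : Even n) {x w : S} (hxp : x ^ p = 1) (hwp : w ^ p = 1)
    (hx1 : x ∉ K (S : Type u) 1) (hxn : x ∈ K (S : Type u) (n - 3))
    (hfn : F.IsFullyNormalized ((stepSub x (n - 3)).map S.subtype))
    (hN : normalizerIn S ((stepSub x (n - 3)).map S.subtype) = (stepSub x (n - 4)).map S.subtype)
    (hw : w ∈ (⊤ : Subgroup S).lowerCentralSeries (n - 3)) (hw1 : w ≠ 1) {y : S}
    (hy : y ∈ (⊤ : Subgroup S).lowerCentralSeries (n - 4))
    (hy' : y ∉ (⊤ : Subgroup S).lowerCentralSeries (n - 3)) (hwy : w = ⁅y, x⁆)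
    {f : Ω → Ω} (hf : Iso F ((stepSub x (n - 4)).map S.subtype) ((stepSub x (n - 4)).map S.subtype) f)
    (hfx : f x = (x⁻¹ : S)) (hfw : f w = (w⁻¹ : S))
    (hline : ∀ z ∈ (⊤ : Subgroup S).lowerCentralSeries (n - 3), f z = (z⁻¹ : S) → z ∈ zpowers w) : False := by
  classical
  have hpp := hp.out
  have hcard : ∀ r, 1 ≤ r → r ≤ n - 1 → Nat.card ↥((stepSub x r).map S.subtype) = p ^ (n - r) := fun r hr hrn => by
    rw [card_map_subtype, h.card_stepSub hxp hx1 hr hrn]
  have hLc : ∀ r, 1 ≤ r → Nat.card ↥(((⊤ : Subgroup S).lowerCentralSeries r).map S.subtype) = p ^ (n - 1 - r) :=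
    fun r hr => by rw [card_map_subtype, h.cardL hr]
  have hsub : ∀ r, 1 ≤ r →
      (stepSub x r).map S.subtype ≤ normalizerIn S ((stepSub x (r + 1)).map S.subtype) := by
    intro r _ _ hg
    rcases hg with ⟨g, hg, rfl⟩
    refine mem_normalizerIn_of_conj (map_subtype_le _) g.2 ?_
    intro a ha
    rcases ha with ⟨a, ha, rfl⟩
    exact (mem_map_iff (a := g * a * g⁻¹)).2 (conj_stepSub hg ha)
  have hfn' : ∀ d r, r + d = n - 3 → 2 ≤ r →
      F.IsFullyNormalized ((stepSub x r).map S.subtype) ∧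
      normalizerIn S ((stepSub x r).map S.subtype) = (stepSub x (r - 1)).map S.subtype := by
    intro d
    induction d with
    | zero =>
      intro r hr _
      rw [show r = n - 3 by omega, show n - 3 - 1 = n - 4 by omega]
      exact ⟨hfn, hN⟩
    | succ d ih =>
      intro r hr h2
      obtain ⟨hB, hQ⟩ := ih (r + 1) (by omega) (by omega)
      rw [Nat.add_sub_cancel] at hQ
      have hKB : ((⊤ : Subgroup S).lowerCentralSeries (r + 1)).map S.subtype ≤ (stepSub x (r + 1)).map S.subtype :=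
        map_mono (lcs_le_stepSub x _)
      have hcB : Nat.card ↥((stepSub x (r + 1)).map S.subtype) =
          p * Nat.card ↥(((⊤ : Subgroup S).lowerCentralSeries (r + 1)).map S.subtype) := by
        rw [hcard _ (by omega) (by omega), hLc _ (by omega), ← pow_succ']
        congr 1; omega
      have hcQ : Nat.card ↥((stepSub x r).map S.subtype) =
          p * Nat.card ↥((stepSub x (r + 1)).map S.subtype) := by
        rw [hcard _ (by omega) (by omega), hcard _ (by omega) (by omega), ← pow_succ']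
        congr 1; omega
      have hK : ∀ f, Iso F ((stepSub x r).map S.subtype) ((stepSub x r).map S.subtype) f →
          ∀ z ∈ ((⊤ : Subgroup S).lowerCentralSeries (r + 1)).map S.subtype,
            f z ∈ ((⊤ : Subgroup S).lowerCentralSeries (r + 1)).map S.subtype := by
        intro f hf z hz
        rcases hz with ⟨z, hz, rfl⟩
        exact lcs_invariant h hp3 hxp hx1 hxn (by omega) le_rfl (by omega) hf z hz
      have hle : (stepSub x (r - 1)).map S.subtype ≤ normalizerIn S ((stepSub x r).map S.subtype) := by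
        have := hsub (r - 1) (by omega)
        rwa [show r - 1 + 1 = r by omega] at this
      haveI := finite_of_le (normalizerIn_le S ((stepSub x r).map S.subtype))
      have hbig : p * Nat.card ↥((stepSub x r).map S.subtype) ≤
          Nat.card ↥(normalizerIn S ((stepSub x r).map S.subtype)) := by
        refine le_trans ?_ (card_le_of_le hle)
        rw [hcard _ (by omega) (by omega), hcard _ (by omega) (by omega), ← pow_succ']
        exact Nat.pow_le_pow_right hpp.pos (by omega)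
      refine ⟨fullyNormalized_step hS hB hQ hKB hcB hcQ hK hbig, (eq_of_le_of_card_ge hle ?_).symm⟩
      refine (card_normalizer_le hS hQ hKB (map_mono (stepSub_mono x (Nat.le_succ r))) hcB hcQ
        fun g hg z hz => ?_).trans ?_
      · rcases hz with ⟨z, hz, rfl⟩
        exact (mem_map_iff (a := ⟨g, hg.1⟩ * z * ⟨g, hg.1⟩⁻¹)).2 (Subgroup.Normal.conj_mem inferInstance z hz _)
      · rw [hcard _ (by omega) (by omega), hcard _ (by omega) (by omega), ← pow_succ']
        exact Nat.pow_le_pow_right hpp.pos (by omega)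
  -- extend the involution to `⟨x⟩ L 1`
  have hext : ∀ d r, r + d = n - 4 → 1 ≤ r →
      ∃ f', Iso F ((stepSub x r).map S.subtype) ((stepSub x r).map S.subtype) f' ∧
        ∀ z ∈ (stepSub x (n - 4)).map S.subtype, f' z = f z := by
    intro d
    induction d with
    | zero =>
      intro r hr _
      rw [show r = n - 4 by omega]
      exact ⟨f, hf, fun z _ => rfl⟩
    | succ d ih =>
      intro r hr h1
      obtain ⟨f0, hf0, hf0f⟩ := ih (r + 1) (by omega) (by omega)
      obtain ⟨hQn, hQN⟩ := hfn' (n - 3 - (r + 1)) (r + 1) (by omega) (by omega)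
      obtain ⟨hBn, hBQ⟩ := hfn' (n - 3 - (r + 2)) (r + 2) (by omega) (by omega)
      rw [Nat.add_sub_cancel] at hQN
      rw [show r + 2 - 1 = r + 1 by omega] at hBQ
      have hnN : ∀ g ∈ normalizerIn S ((stepSub x (r + 1)).map S.subtype), ∀ j : ℕ,
          ∀ z ∈ ((⊤ : Subgroup S).lowerCentralSeries j).map S.subtype,
            g * z * g⁻¹ ∈ ((⊤ : Subgroup S).lowerCentralSeries j).map S.subtype := fun g hg j z hz => by
        rcases hz with ⟨z, hz, rfl⟩
        exact (mem_map_iff (a := ⟨g, hg.1⟩ * z * ⟨g, hg.1⟩⁻¹)).2 (Subgroup.Normal.conj_mem inferInstance z hz _)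
      have hL : ∀ j, r + 1 ≤ j → j ≤ n - 3 →
          ∀ z ∈ ((⊤ : Subgroup S).lowerCentralSeries j).map S.subtype,
            f0 z ∈ ((⊤ : Subgroup S).lowerCentralSeries j).map S.subtype := by
        intro j hj hjn z hz
        rcases eq_or_lt_of_le hj with rfl | hlt
        · refine fixed_invariant hS hBn hBQ
            (map_mono (lcs_le_stepSub x (r + 2)) :
              ((⊤ : Subgroup S).lowerCentralSeries (r + 2)).map S.subtype ≤ _)
            ?_ ?_ (fun f1 hf1 z1 hz1 => ?_) ?_ (map_mono (L_anti (Nat.le_succ _)))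
            (map_mono (lcs_le_stepSub x (r + 1))) ?_
            (fun g hg => Subgroup.mem_normalizer_iff.2 fun z => ⟨hnN g hg _ z, fun hz => ?_⟩) hf0 z hz
          · rw [hcard _ (by omega) (by omega), hLc _ (by omega), ← pow_succ']; congr 1; omega
          · rw [hcard _ (by omega) (by omega), hcard _ (by omega) (by omega), ← pow_succ']; congr 1; omega
          · rcases hz1 with ⟨z1, hz1, rfl⟩
            exact lcs_invariant h hp3 hxp hx1 hxn (by omega) le_rfl (by omega) hf1 z1 hz1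
          · rw [hQN, hcard _ (by omega) (by omega), hcard _ (by omega) (by omega), ← pow_succ']
            exact Nat.pow_le_pow_right hpp.pos (by omega)
          · rw [hLc _ (by omega), hcard _ (by omega) (by omega)]; congr 1; omega
          · have h3 := hnN g⁻¹ (inv_mem hg) _ _ hz
            rwa [show g⁻¹ * (g * z * g⁻¹) * g⁻¹⁻¹ = z by group] at h3
        · rcases hz with ⟨z, hz, rfl⟩
          exact lcs_invariant h hp3 hxp hx1 hxn (by omega) hlt hjn hf0 z hz
      obtain ⟨g0, hg0, -, hmul0, -⟩ := exists_restrict hf0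
      have hwQ : ∀ k : ℤ, w ^ k ∈ stepSub x (r + 1) := fun k =>
        (L_anti (by omega)).trans (lcs_le_stepSub x _) (zpow_mem hw k)
      let C : ℕ → Subgroup Ω := fun i =>
        if i = 0 then ⊥ else if i = 1 then (zpowers w).map S.subtype
        else if i ≤ n - 2 - r then ((⊤ : Subgroup S).lowerCentralSeries (n - 1 - i)).map S.subtype
        else (stepSub x (r + 1)).map S.subtype
      have hcC : ∀ i, i ≤ n - 1 - r → Nat.card ↥(C i) = p ^ i := by
        intro i hi
        simp only [C]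
        split_ifs with h0 h1' h2'
        · subst h0; simp
        · subst h1'; rw [card_map_subtype, Nat.card_zpowers, orderOf_eq_prime hwp hw1, pow_one]
        · rw [hLc _ (by omega)]; congr 1; omega
        · rw [hcard _ (by omega) (by omega)]; congr 1; omega
      have hmono : Monotone C := monotone_nat_of_le_succ fun i => by
        rcases i with _ | _ | i
        · exact bot_le
        · simp only [C, Nat.reduceAdd, one_ne_zero, OfNat.ofNat_ne_zero, OfNat.ofNat_ne_one, if_true,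
            if_false]
          split_ifs
          · exact map_mono (zpowers_le.2 (L_anti (by omega) hw))
          · exact map_mono (zpowers_le.2 (lcs_le_stepSub x _ (L_anti (by omega) hw)))
        · simp only [C]
          rw [if_neg (show ¬ i + 1 + 1 = 0 by omega), if_neg (show ¬ i + 1 + 1 = 1 by omega),
            if_neg (show ¬ i + 1 + 1 + 1 = 0 by omega), if_neg (show ¬ i + 1 + 1 + 1 = 1 by omega)]
          split_ifs
          · exact map_mono (L_anti (by omega))
          · exact map_mono ((L_anti (by omega)).trans (lcs_le_stepSub x _))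
          · omega
          · exact le_rfl
      have hinvf : ∀ i ≤ n - 1 - r, ∀ z ∈ (stepSub x (r + 1)).map S.subtype, z ∈ C i → f0 z ∈ C i := by
        intro i hi z hz hzC
        simp only [C] at hzC ⊢
        split_ifs at hzC ⊢ with h0 h1' h2'
        · rw [mem_bot] at hzC ⊢; rw [hzC, hf0.1.map_one]
        · rcases hzC with ⟨z, hzw, rfl⟩
          obtain ⟨k, rfl⟩ := mem_zpowers_iff.1 hzw
          show f0 ((w ^ k : S) : Ω) ∈ _
          rw [← hg0 _ (hwQ k), (restrict_facts hmul0).2.2.2 w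
            (by simpa using hwQ 1) k, mem_map_iff]
          have e : g0 w = w⁻¹ := Subtype.ext (by
            rw [hg0 w (by simpa using hwQ 1), hf0f _ (mem_map_iff.2 (L_anti (by omega) |>.trans
              (lcs_le_stepSub x _) hw)), hfw])
          rw [e]
          exact zpow_mem (inv_mem (mem_zpowers w)) k
        · exact hL _ (by omega) (by omega) z hzC
        · exact hf0.mem hz
      have hinvm : ∀ i ≤ n - 1 - r, ∀ m ∈ normalizerIn S ((stepSub x (r + 1)).map S.subtype),
          ∀ z ∈ (stepSub x (r + 1)).map S.subtype, z ∈ C i → m * z * m⁻¹ ∈ C i := by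
        intro i hi m hm z hz hzC
        simp only [C] at hzC ⊢
        split_ifs at hzC ⊢ with h0 h1' h2'
        · rw [mem_bot] at hzC ⊢; rw [hzC, mul_one, mul_inv_cancel]
        · rcases hzC with ⟨z, hzw, rfl⟩
          obtain ⟨m, hm', rfl⟩ := mem_map.1 (hQN.le hm)
          have hc : Commute m z := by
            obtain ⟨k, rfl⟩ := mem_zpowers_iff.1 hzw
            refine Commute.zpow_right ?_ k
            obtain ⟨a, l, hl, rfl⟩ := mem_stepSub.1 hm'
            exact (Commute.zpow_left (commutatorElement_eq_one_iff_mul_comm.1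
              (h.eq_one (by omega) (mem_K.1 hxn w hw))) a).mul_left (h.commute_of_mem hl hw (by omega))
          exact (mem_map_iff (a := m * z * m⁻¹)).2 (by rw [hc.eq, mul_inv_cancel_right]; exact hzw)
        · exact hnN m hm _ z hzC
        · exact (Subgroup.mem_normalizer_iff.1 hm.2 z).1 hz
      have hstep : ∀ i < n - 1 - r, ((C i).subgroupOf ((stepSub x (r + 1)).map S.subtype)).relIndex
          ((C (i + 1)).subgroupOf ((stepSub x (r + 1)).map S.subtype)) ≤ p := by
        intro i hi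
        have hCQ : ∀ k, C k ≤ (stepSub x (r + 1)).map S.subtype := fun k => by
          simp only [C]
          split_ifs
          · exact bot_le
          · exact map_mono (zpowers_le.2 (by simpa using hwQ 1))
          · exact map_mono ((L_anti (by omega)).trans (lcs_le_stepSub x _))
          · exact le_rfl
        have h2 := (((C i).subgroupOf ((stepSub x (r + 1)).map S.subtype)).subgroupOf
          ((C (i + 1)).subgroupOf ((stepSub x (r + 1)).map S.subtype))).card_mul_index
        rw [Nat.card_congr (subgroupOfEquivOfLe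
            (show (C i).subgroupOf _ ≤ (C (i + 1)).subgroupOf _ from fun z hz => hmono (Nat.le_succ i) hz)).toEquiv,
          Nat.card_congr (subgroupOfEquivOfLe (hCQ i)).toEquiv,
          Nat.card_congr (subgroupOfEquivOfLe (hCQ (i + 1))).toEquiv, hcC i (by omega), hcC (i + 1) (by omega),
          pow_succ] at h2
        exact (Nat.eq_of_mul_eq_mul_left (pow_pos hpp.pos i) h2).le
      obtain ⟨f', hf', hf'0⟩ := exists_extension hS hF hQn hf0 hmono (n := n - 1 - r)
        (by simp only [C]; rw [if_neg (by omega), if_neg (by omega), if_neg (by omega)]) rfl hinvf hinvm hstep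
      rw [hQN] at hf'
      exact ⟨f', hf', fun z hz => by
        rw [hf'0 z (map_mono (stepSub_mono x (by omega)) hz), hf0f z hz]⟩
  obtain ⟨f1, hf1, hf1f⟩ := hext (n - 5) 1 (by omega) le_rfl
  obtain ⟨g, hg, hgA, hmul, -⟩ := exists_restrict hf1
  obtain ⟨hg1, -, hgc, hgz⟩ := restrict_facts hmul
  have hLQ : ∀ j, 1 ≤ j → (⊤ : Subgroup S).lowerCentralSeries j ≤ stepSub x 1 := fun j hj =>
    (L_anti hj).trans (lcs_le_stepSub x 1)
  have hgL : ∀ j, 1 ≤ j → j ≤ n - 3 → ∀ a ∈ (⊤ : Subgroup S).lowerCentralSeries j,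
      g a ∈ (⊤ : Subgroup S).lowerCentralSeries j := by
    intro j hj hjn a ha
    rcases eq_or_lt_of_le hj with rfl | hlt
    · obtain ⟨hBn, hBQ⟩ := hfn' (n - 5) 2 (by omega) le_rfl
      rw [show 2 - 1 = 1 from rfl] at hBQ
      rw [← mem_map_iff (A := (⊤ : Subgroup S).lowerCentralSeries 1), hg a (hLQ 1 le_rfl ha)]
      refine fixed_invariant hS hBn hBQ
        (map_mono (lcs_le_stepSub x 2) : ((⊤ : Subgroup S).lowerCentralSeries 2).map S.subtype ≤ _)
        ?_ ?_ (fun f2 hf2 z1 hz1 => ?_) ?_ (map_mono (L_anti one_le_two))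
        (map_mono (lcs_le_stepSub x 1)) ?_
        (fun m hm => Subgroup.mem_normalizer_iff.2 fun z => ?_) hf1 _ (mem_map_iff.2 ha)
      · rw [hcard _ (by omega) (by omega), hLc _ (by omega), ← pow_succ']; congr 1; omega
      · rw [hcard _ (by omega) (by omega), hcard _ (by omega) (by omega), ← pow_succ']; congr 1; omega
      · rcases hz1 with ⟨z1, hz1, rfl⟩
        exact lcs_invariant h hp3 hxp hx1 hxn le_rfl le_rfl (by omega) hf2 z1 hz1
      · have htop : normalizerIn S ((stepSub x 1).map S.subtype) = S := by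
          refine le_antisymm (normalizerIn_le S _) fun m hm => mem_normalizerIn_of_conj (map_subtype_le _) hm ?_
          intro a ha
          rcases ha with ⟨a, ha, rfl⟩
          refine (mem_map_iff (a := ⟨m, hm⟩ * a * ⟨m, hm⟩⁻¹)).2 ?_
          rw [show (⟨m, hm⟩ : S) * a * ⟨m, hm⟩⁻¹ = ⁅(⟨m, hm⟩ : S), a⁆ * a by rw [commutatorElement_def]; group]
          exact mul_mem (lcs_le_stepSub x 1 (L_comm_x (i := 0) (Subgroup.mem_top a) _)) ha
        rw [htop, h.cardX, hcard _ (by omega) (by omega), ← pow_succ']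
        exact Nat.pow_le_pow_right hpp.pos (by omega)
      · rw [hLc _ (by omega), hcard _ (by omega) (by omega)]; congr 1
      · exact ⟨fun hz => by
          rcases hz with ⟨z, hz, rfl⟩
          exact (mem_map_iff (a := ⟨m, hm.1⟩ * z * ⟨m, hm.1⟩⁻¹)).2 (Subgroup.Normal.conj_mem inferInstance z hz _),
        fun hz => by
          obtain ⟨z', hz', e⟩ := mem_map.1 hz
          have : z = ((⟨m, hm.1⟩⁻¹ * z' * ⟨m, hm.1⟩⁻¹⁻¹ : S) : Ω) := by
            change (z' : Ω) = m * z * m⁻¹ at e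
            push_cast
            rw [e]; group
          rw [this]
          exact mem_map_iff.2 (Subgroup.Normal.conj_mem inferInstance z' hz' _)⟩
    · rw [← mem_map_iff (A := (⊤ : Subgroup S).lowerCentralSeries j), hg a (hLQ j hj ha)]
      exact lcs_invariant h hp3 hxp hx1 hxn le_rfl hlt hjn hf1 a ha
  have hgx : g x = x⁻¹ := Subtype.ext (by
    rw [hg x (x_mem_stepSub x 1), hf1f _ (mem_map_iff.2 (x_mem_stepSub x _)), hfx])
  have hgw : g w = w⁻¹ := Subtype.ext (by
    rw [hg w (hLQ _ (by omega) hw), hf1f _ (mem_map_iff.2 (L_anti (by omega) |>.trans (lcs_le_stepSub x _) hw)),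
      hfw])
  obtain ⟨u, huK, hu⟩ := h.exists_mem_K (i := 1) le_rfl (by omega)
  set e := eSeq x u with he
  have hex : ∀ i, 1 ≤ i → i ≤ n - 3 → e i ∉ (⊤ : Subgroup S).lowerCentralSeries (i + 1) :=
    h.eSeq_exact_le (by omega) hu (fun hxW => hx1 (sup_le (zpowers_le.2 huK) (h.L1_le_K 1) hxW))
      fun i hi1 hi => by rw [middle hp3 n S h i hi1 (by omega)]; exact hx1
  have hem : ∀ i, e i ∈ (⊤ : Subgroup S).lowerCentralSeries i := eSeq_mem x u
  -- the eigenvalues on the layers
  have hpowL : ∀ i, 1 ≤ i → ∀ v ∈ (⊤ : Subgroup S).lowerCentralSeries i,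
      v ^ (p : ℤ) ∈ (⊤ : Subgroup S).lowerCentralSeries (i + 1) := by
    intro i hi1 v hv
    rw [zpow_natCast]
    rcases le_or_gt (n - 1) i with hbig | hsm
    · rw [h.eq_one hbig hv, one_pow]; exact one_mem _
    have h1 := ((⊤ : Subgroup S).lowerCentralSeries (i + 1)).subgroupOf
      ((⊤ : Subgroup S).lowerCentralSeries i) |>.card_mul_index
    rw [Nat.card_congr (subgroupOfEquivOfLe (L_anti (Nat.le_succ i))).toEquiv, h.cardL (by omega),
      h.cardL hi1, show n - 1 - i = n - 1 - (i + 1) + 1 by omega, pow_succ] at h1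
    have h2 := Nat.eq_of_mul_eq_mul_left (pow_pos hpp.pos _) h1
    rw [index_eq_card] at h2
    haveI : (((⊤ : Subgroup S).lowerCentralSeries (i + 1)).subgroupOf
      ((⊤ : Subgroup S).lowerCentralSeries i)).Normal := Subgroup.Normal.subgroupOf inferInstance _
    have h3 := (QuotientGroup.eq_one_iff (N := ((⊤ : Subgroup S).lowerCentralSeries (i + 1)).subgroupOf
      ((⊤ : Subgroup S).lowerCentralSeries i)) ((⟨v, hv⟩ : (⊤ : Subgroup S).lowerCentralSeries i) ^ p)).1
      (by rw [QuotientGroup.mk_pow]; exact h2 ▸ pow_card_eq_one')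
    simpa using mem_subgroupOf.1 h3
  have hord : ∀ i, 1 ≤ i → i ≤ n - 3 → ∀ m : ℤ, e i ^ m ∈ (⊤ : Subgroup S).lowerCentralSeries (i + 1) →
      (p : ℤ) ∣ m := by
    intro i hi1 hi m hm
    by_contra hmp
    refine hex i hi1 hi ?_
    obtain ⟨a, b, hab⟩ := (Nat.prime_iff_prime_int.1 hpp).coprime_iff_not_dvd.2 hmp
    rw [← zpow_one (e i), ← hab, zpow_add, mul_comm a, zpow_mul, mul_comm b, zpow_mul]
    exact mul_mem (zpow_mem (hpowL i hi1 _ (hem i)) _) (zpow_mem hm _)
  have hlam : ∀ i, 1 ≤ i → i ≤ n - 3 → ∃ a : ℤ, ∃ l ∈ (⊤ : Subgroup S).lowerCentralSeries (i + 1),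
      g (e i) = e i ^ a * l := fun i hi1 hi =>
    h.decomp hi1 (hem i) (hex i hi1 hi) (hgL i hi1 hi _ (hem i))
  -- the top layer
  set c := e (n - 3) with hc
  have hcx : Commute x c :=
    commutatorElement_eq_one_iff_mul_comm.1 (h.eq_one (by omega) (mem_K.1 hxn c (hem _)))
  have hce : Commute (e (n - 4)) c := h.commute_of_mem (hem _) (hem _) (by omega)
  have hc4 : c = ⁅x, e (n - 4)⁆ := by
    rw [hc, show n - 3 = n - 4 + 1 by omega]; rfl
  have hconj : x * e (n - 4) * x⁻¹ = e (n - 4) * c := by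
    rw [hce.eq, hc4, commutatorElement_def]; group
  have hconjk : ∀ k m : ℤ, ∀ l : S, Commute x l →
      ⁅x ^ k, e (n - 4) ^ m * l⁆ = c ^ (k * m) := by
    intro k m l hxl
    have h1 : x ^ k * e (n - 4) ^ m * (x ^ k)⁻¹ = c ^ (k * m) * e (n - 4) ^ m := by
      rw [← conj_zpow, conj_iter hconj hcx k, (hce.zpow_right k).mul_zpow, ← zpow_mul,
        (hce.zpow_zpow m (k * m)).eq]
    rw [commutatorElement_def]
    calc x ^ k * (e (n - 4) ^ m * l) * (x ^ k)⁻¹ * (e (n - 4) ^ m * l)⁻¹
        = (x ^ k * e (n - 4) ^ m * (x ^ k)⁻¹) * (x ^ k * l * (x ^ k)⁻¹) * l⁻¹ * (e (n - 4) ^ m)⁻¹ := by group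
      _ = _ := by rw [(hxl.zpow_left k).eq, h1]; group
  have hxD : ∀ d ∈ (⊤ : Subgroup S).lowerCentralSeries (n - 3), Commute x d := fun d hd =>
    commutatorElement_eq_one_iff_mul_comm.1 (h.eq_one (by omega) (mem_K.1 hxn d hd))
  obtain ⟨t, d, hd, hyt⟩ := h.decomp (by omega) (hem (n - 4)) (hex (n - 4) (by omega) (by omega)) hy
  rw [show n - 4 + 1 = n - 3 by omega] at hd
  have hwc : w = c ^ (-t) := by
    rw [hwy, hyt, ← commutatorElement_inv]
    conv_lhs => rw [← zpow_one x]
    rw [hconjk 1 t d (hxD d hd), one_mul, zpow_neg]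
  have ht : ¬ (p : ℤ) ∣ t := fun ⟨k, hk⟩ => hy' (by
    rw [hyt, hk, zpow_mul]
    have h1 := hpowL (n - 4) (by omega) _ (hem (n - 4))
    rw [show n - 4 + 1 = n - 3 by omega] at h1
    exact mul_mem (zpow_mem h1 _) hd)
  have htop : ∀ a : ℤ, ∀ l ∈ (⊤ : Subgroup S).lowerCentralSeries (n - 3),
      g (e (n - 4)) = e (n - 4) ^ a * l → (p : ℤ) ∣ a - 1 := by
    intro a l hl hga
    have he4 : e (n - 4) ∈ stepSub x 1 := hLQ _ (by omega) (hem _)
    have hel : Commute (e (n - 4) ^ a) l := (h.commute_of_mem (hem _) hl (by omega)).zpow_left a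
    have hgy : g y = e (n - 4) ^ (a * t) * (l ^ t * g d) := by
      rw [hyt, hmul _ (zpow_mem he4 t) d (hLQ _ (by omega) hd), hgz _ he4, hga, hel.mul_zpow,
        ← zpow_mul, mul_assoc]
    have h1 : g w = c ^ (a * t) := by
      rw [hwy, hgc y (hLQ _ (by omega) hy) x (x_mem_stepSub x 1), hgx, hgy, ← commutatorElement_inv,
        ← zpow_neg_one x, hconjk (-1) (a * t) _ (((hxD l hl).zpow_right t).mul_right
          (hxD _ (hgL _ (by omega) (by omega) d hd))), ← zpow_neg]
      congr 1; ring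
    have h2 : c ^ (a * t - t) = 1 := by
      rw [zpow_sub, ← h1, hgw, hwc, zpow_neg, inv_inv, mul_inv_cancel]
    have h3 := hord (n - 3) (by omega) le_rfl (a * t - t) (by rw [← hc, h2]; exact one_mem _)
    rw [show a * t - t = (a - 1) * t by ring] at h3
    exact ((Nat.prime_iff_prime_int.1 hpp).dvd_or_dvd h3).resolve_right ht
  -- the eigenvalues alternate
  have hrec : ∀ i, 1 ≤ i → i + 1 ≤ n - 4 → ∀ a b : ℤ,
      ∀ l ∈ (⊤ : Subgroup S).lowerCentralSeries (i + 1),
      ∀ l' ∈ (⊤ : Subgroup S).lowerCentralSeries (i + 2),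
      g (e i) = e i ^ a * l → g (e (i + 1)) = e (i + 1) ^ b * l' → (p : ℤ) ∣ a + b := by
    intro i hi1 hi a b l hl l' hl' hga hgb
    set π := QuotientGroup.mk' ((⊤ : Subgroup S).lowerCentralSeries (i + 2)) with hπ
    have hcen : ∀ (v z : S), z ∈ (⊤ : Subgroup S).lowerCentralSeries (i + 1) → Commute (π v) (π z) :=
      fun v z hz => Cfsg.Agent.MaxClass.PowMax.commute_mk (L_comm_x hz v)
    have hc' : π x * π (e i) * (π x)⁻¹ = π (e i) * π (e (i + 1)) := by
      rw [(hcen (e i) _ (hem (i + 1))).eq, show e (i + 1) = ⁅x, e i⁆ from rfl, map_commutatorElement,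
        commutatorElement_def]
      group
    have h1 : π (g (e (i + 1))) = π (e (i + 1)) ^ (-a) := by
      show π (g ⁅x, e i⁆) = _
      rw [hgc x (x_mem_stepSub x 1) _ (hLQ i hi1 (hem i)), hgx, hga, map_commutatorElement, map_inv,
        map_mul, map_zpow, commutatorElement_def]
      have h2 : (π x)⁻¹ * π (e i) ^ a * π x = π (e (i + 1)) ^ (-a) * π (e i) ^ a := by
        have h3 := conj_iter hc' (hcen x _ (hem (i + 1))) (-1)
        rw [zpow_neg_one, inv_inv] at h3
        rw [← inv_inv (π x), inv_inv (π x)⁻¹, ← conj_zpow, inv_inv, h3,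
          ((hcen (e i) _ (hem (i + 1))).zpow_right (-1)).mul_zpow, ← zpow_mul, neg_one_mul,
          ((hcen (e i) _ (hem (i + 1))).zpow_zpow a (-a)).eq]
      calc (π x)⁻¹ * (π (e i) ^ a * π l) * (π x)⁻¹⁻¹ * (π (e i) ^ a * π l)⁻¹
          = ((π x)⁻¹ * π (e i) ^ a * π x) * ((π x)⁻¹ * π l * π x) * (π l)⁻¹ * (π (e i) ^ a)⁻¹ := by group
        _ = _ := by
          rw [h2, mul_assoc (π x)⁻¹, ← (hcen x l hl).eq, inv_mul_cancel_left]
          group
    rw [hgb, map_mul, map_zpow, (show π l' = 1 from (QuotientGroup.eq_one_iff l').2 hl'), mul_one] at h1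
    refine hord (i + 1) (by omega) (by omega) (a + b) ?_
    refine (QuotientGroup.eq_one_iff _).1 ?_
    show π (e (i + 1) ^ (a + b)) = 1
    rw [map_zpow, zpow_add, h1, zpow_neg, mul_inv_cancel]
  have hsign : ∀ d, d ≤ n - 5 → ∀ a : ℤ, ∀ l ∈ (⊤ : Subgroup S).lowerCentralSeries (n - 4 - d + 1),
      g (e (n - 4 - d)) = e (n - 4 - d) ^ a * l → (p : ℤ) ∣ a - (-1) ^ d := by
    intro d
    induction d with
    | zero =>
      intro _ a l hl hga
      rw [show n - 4 - 0 + 1 = n - 3 by omega] at hl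
      simpa using htop a l hl hga
    | succ d ih =>
      intro hd a l hl hga
      obtain ⟨b, l', hl', hgb⟩ := hlam (n - 4 - d) (by omega) (by omega)
      have h1 := ih (by omega) b l' hl' hgb
      rw [show n - 4 - d = n - 4 - (d + 1) + 1 by omega] at hgb hl'
      have h2 := hrec _ (by omega) (by omega) a b l hl l' hl' hga hgb
      have h3 := dvd_sub h2 h1
      rwa [show a + b - (b - (-1) ^ d) = a - (-1) ^ (d + 1) by ring] at h3
  obtain ⟨a, l, hl, hga⟩ := hlam 1 le_rfl (by omega)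
  obtain ⟨b, l', hl', hgb⟩ := hlam (n - 4) (by omega) (by omega)
  rw [show n - 4 + 1 = n - 3 by omega] at hl'
  have hb := htop b l' hl' hgb
  have ha : (p : ℤ) ∣ a + 1 := by
    have h1 := hsign (n - 5) le_rfl a l (by rwa [show n - 4 - (n - 5) + 1 = 1 + 1 by omega])
      (by rwa [show n - 4 - (n - 5) = 1 by omega])
    have hodd : Odd (n - 5) := by
      obtain ⟨m, hm⟩ := heven
      exact ⟨m - 3, by omega⟩
    rwa [hodd.neg_one_pow, sub_neg_eq_add] at h1
  set z := ⁅e 1, e (n - 4)⁆ with hz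
  have hzL : z ∈ (⊤ : Subgroup S).lowerCentralSeries (n - 2) :=
    comm_of_mem (hem 1) (hem (n - 4)) (by omega)
  -- `z` is nontrivial
  have hz1 : z ≠ 1 := by
    have huc : ⁅u, e (n - 4)⁆ ∈ (⊤ : Subgroup S).lowerCentralSeries (n - 2) := by
      rw [← middle hp3 n S h (n - 4) (by omega) le_rfl] at huK
      exact L_anti (by omega) (mem_K.1 huK _ (hem _))
    have h1 := h.last_step (s := x) (u := u) (i := 0) (k := n - 4) (by omega) (by omega)
      (L_anti (by omega) huc)
    rw [show n - 4 + 1 = n - 3 by omega] at h1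
    change ⁅x, ⁅u, e (n - 4)⁆⁆ = ⁅u, c⁆ * z at h1
    rw [h.eq_one (by omega) (L_comm_x huc x)] at h1
    intro hz1
    rw [hz1, mul_one] at h1
    refine hx1 ?_
    have huKn : u ∈ K (S : Type u) (n - 3) :=
      h.mem_K_of_one (by omega) (hem _) (hex (n - 3) (by omega) le_rfl) (by rw [← hc, ← h1]; exact one_mem _)
    rwa [h.K_eq le_rfl (by omega) (by omega) le_rfl hu huK huKn]
  -- the involution inverts `z`
  have hzp : z ^ (p : ℤ) = 1 := h.eq_one (i := n - 2 + 1) (by omega) (hpowL (n - 2) (by omega) z hzL)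
  have hgzz : g z = z⁻¹ := by
    have h5 : ∀ {v : S} {j : ℕ}, v ∈ (⊤ : Subgroup S).lowerCentralSeries j → 1 ≤ j → Commute v z :=
      fun hv hj => h.commute_of_mem hv hzL (by omega)
    have hll : Commute l (e (n - 4)) := h.commute_of_mem hl (hem _) (by omega)
    have hl1 : Commute (e 1) l' := h.commute_of_mem (hem 1) hl' (by omega)
    have hlll : Commute l l' := h.commute_of_mem hl hl' (by omega)
    rw [hz, hgc _ (hLQ 1 le_rfl (hem 1)) _ (hLQ _ (by omega) (hem _)), hga, hgb]
    have hconj4 : e 1 * e (n - 4) * (e 1)⁻¹ = e (n - 4) * z := by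
      rw [(h5 (hem (n - 4)) (by omega)).eq, hz, commutatorElement_def]; group
    have h6 : e 1 ^ a * e (n - 4) ^ b * (e 1 ^ a)⁻¹ = z ^ (a * b) * e (n - 4) ^ b := by
      rw [← conj_zpow, conj_iter hconj4 (h5 (hem 1) le_rfl) a,
        ((h5 (hem (n - 4)) (by omega)).zpow_right a).mul_zpow, ← zpow_mul,
        ((h5 (hem (n - 4)) (by omega)).zpow_zpow b (a * b)).eq]
    have h7 : ⁅e 1 ^ a * l, e (n - 4) ^ b * l'⁆ = z ^ (a * b) := by
      rw [commutatorElement_def]
      calc e 1 ^ a * l * (e (n - 4) ^ b * l') * (e 1 ^ a * l)⁻¹ * (e (n - 4) ^ b * l')⁻¹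
          = e 1 ^ a * (l * (e (n - 4) ^ b * l') * l⁻¹) * (e 1 ^ a)⁻¹ * (e (n - 4) ^ b * l')⁻¹ := by group
        _ = (e 1 ^ a * e (n - 4) ^ b * (e 1 ^ a)⁻¹) * (e 1 ^ a * l' * (e 1 ^ a)⁻¹) * l'⁻¹ *
            (e (n - 4) ^ b)⁻¹ := by
          rw [((hll.zpow_right b).mul_right hlll).eq, mul_inv_cancel_right]; group
        _ = _ := by rw [h6, (hl1.zpow_left a).eq, mul_inv_cancel_right]; group
    rw [h7, ← zpow_neg_one, ← hz]
    obtain ⟨k, hk⟩ : (p : ℤ) ∣ a * b + 1 := by
      have h8 := dvd_sub ha (hb.mul_left (-a))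
      rwa [show a + 1 - -a * (b - 1) = a * b + 1 by ring] at h8
    rw [show a * b = (p : ℤ) * k + -1 by linarith, zpow_add, zpow_mul, hzp, one_zpow, one_mul]
  have hz3 : z ∈ (⊤ : Subgroup S).lowerCentralSeries (n - 3) := L_anti (by omega) hzL
  have hzw := hline z hz3 (by
    rw [← hf1f _ (mem_map_iff.2 (L_anti (by omega) |>.trans (lcs_le_stepSub x _) hz3)),
      ← hg z (hLQ _ (by omega) hz3), hgzz])
  obtain ⟨k, hk⟩ := mem_zpowers_iff.1 hzw
  have h9 : c ^ (-t * k) ∈ (⊤ : Subgroup S).lowerCentralSeries (n - 3 + 1) := by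
    rw [zpow_mul, ← hwc, hk, show n - 3 + 1 = n - 2 by omega]
    exact hzL
  obtain ⟨k', rfl⟩ := ((Nat.prime_iff_prime_int.1 hpp).dvd_or_dvd (hord (n - 3) (by omega) le_rfl _ h9)).resolve_left
    (fun h => ht (dvd_neg.1 h))
  exact hz1 (by rw [← hk, zpow_mul, zpow_natCast, hwp, one_zpow])

omit hp [Finite S] in
/-- A subgroup containing the derived subgroup is normal. -/
theorem normal_of_L1_le {A : Subgroup S} (hA : (⊤ : Subgroup S).lowerCentralSeries 1 ≤ A) : A.Normal :=
  ⟨fun a ha g => by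
    rw [show g * a * g⁻¹ = ⁅g, a⁆ * a by rw [commutatorElement_def]; group]
    exact A.mul_mem (hA (L_comm_x (i := 0) (Subgroup.mem_top a) g)) ha⟩

/-- Elementary abelian subgroups of order `p ^ 3` are not essential. -/
theorem no_elementary_cube (hS : IsPGroup p S) (hF : F.IsSaturated p) (hp5 : 5 ≤ p) (h : MCl p n S)
    (h5 : 5 ≤ n) {E : Subgroup Ω} (hE : F.IsEssential p E) (hab : ∀ a ∈ E, ∀ b ∈ E, a * b = b * a)
    (hexp : ∀ a ∈ E, a ^ p = 1) (hcard : Nat.card E = p ^ 3) : False := by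
  classical
  have hpp := hp.out
  have hp3 : 3 ≤ p := by omega
  have hbig : p ^ 5 ≤ Nat.card S := by rw [h.cardX]; exact Nat.pow_le_pow_right hpp.pos h5
  obtain ⟨hN4, hM5, hfnN, b, x, w, c, D, hbN, hbE, hDE, hDc, hwD, hw1, hcD, hcw, hxE, hxD, hbx, hcenN,
    hcenM, hZ, htorus⟩ := elem_cube_top hS hF hp5 hE hab hexp hcard hbig
  have hES := hE.1.1
  have hDS := hDE.trans hES
  haveI := finite_of_le hES
  haveI := finite_of_le hDS
  set N := normalizerIn S E with hN
  have hNS : N ≤ S := inf_le_left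
  haveI := finite_of_le hNS
  set M := normalizerIn S N with hM
  have hMS : M ≤ S := inf_le_left
  haveI := finite_of_le hMS
  have hEN : E ≤ N := le_normalizerIn hES
  have hNM : N ≤ M := le_normalizerIn hNS
  set En := E.subgroupOf S
  set Nn := N.subgroupOf S
  set Mn := M.subgroupOf S
  set Dn := D.subgroupOf S
  have hEnc : Nat.card En = p ^ 3 := (Nat.card_congr (subgroupOfEquivOfLe hES).toEquiv).trans hcard
  have hNnc : Nat.card Nn = p ^ 4 := (Nat.card_congr (subgroupOfEquivOfLe hNS).toEquiv).trans hN4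
  have hMnc : Nat.card Mn = p ^ 5 := (Nat.card_congr (subgroupOfEquivOfLe hMS).toEquiv).trans hM5
  have hDnc : Nat.card Dn = p ^ 2 := (Nat.card_congr (subgroupOfEquivOfLe hDS).toEquiv).trans hDc
  have hEnN : En ≤ Nn := fun a ha => hEN ha
  have hDnE : Dn ≤ En := fun a ha => hDE ha
  have memN : ∀ m : S, (∀ a ∈ En, m * a * m⁻¹ ∈ En) → m ∈ Nn := fun m hm =>
    mem_normalizerIn_of_conj hES m.2 fun a ha => hm ⟨a, hES ha⟩ ha
  have memM : ∀ m : S, (∀ a ∈ Nn, m * a * m⁻¹ ∈ Nn) → m ∈ Mn := fun m hm =>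
    mem_normalizerIn_of_conj hNS m.2 fun a ha => hm ⟨a, hNS ha⟩ ha
  have habn : ∀ a ∈ En, ∀ a' ∈ En, Commute a a' := fun a ha a' ha' => Subtype.ext (hab a ha a' ha')
  have hDN : ∀ m ∈ Nn, ∀ d ∈ Dn, Commute m d := fun m hm d hd => Subtype.ext (hcenN m hm d hd)
  have hcen : ∀ m ∈ Nn, (∀ a ∈ Nn, Commute m a) → m ∈ Dn := fun m hm hc =>
    hZ m hm fun a ha => congrArg Subtype.val (hc ⟨a, hNS ha⟩ ha).eq
  have hcentric : ∀ m : S, (∀ a ∈ En, Commute m a) → m ∈ En := fun m hm =>
    centric_self hE.1 ⟨m.2, mem_centralizer_iff.2 fun a ha =>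
      congrArg Subtype.val (hm ⟨a, hES ha⟩ ha).symm.eq⟩
  have h6 : 6 ≤ n := by
    by_contra hlt
    have htop : Mn = ⊤ := eq_top_of_card_eq _ (by rw [hMnc, h.cardX, show n = 5 by omega])
    obtain ⟨g, a, ha, hga⟩ := h.not_central hp3 (by omega) (A := Dn) hDnc.ge
    exact hga (Subtype.ext (hcenM g (htop.ge (Subgroup.mem_top g) : g ∈ Mn) a ha))
  have hNnn : ¬ Nn.Normal := fun hn => by
    have htop : Mn = ⊤ := eq_top_iff.2 fun g _ => memM g fun a ha => hn.conj_mem a ha g
    have h1 := hMnc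
    rw [htop, card_top, h.cardX] at h1
    have := Nat.pow_right_injective hpp.two_le h1
    omega
  have hMnn : Mn.Normal → Dn = (⊤ : Subgroup S).lowerCentralSeries (n - 3) := fun hn => by
    haveI : Dn.Normal := ⟨fun d hd g => by
      have hzM : g * d * g⁻¹ ∈ Mn := hn.conj_mem d (hNM (hEN (hDE hd))) g
      have hz : ∀ m ∈ Mn, Commute (g * d * g⁻¹) m := fun m hm => by
        have hc' : Commute d (g⁻¹ * m * g) := Subtype.ext
          (hcenM _ (show g⁻¹ * m * g ∈ Mn by simpa using hn.conj_mem m hm g⁻¹) d hd).symm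
        have := (SemiconjBy.conj_mk g (g⁻¹ * m * g))
        calc g * d * g⁻¹ * m = g * (d * (g⁻¹ * m * g)) * g⁻¹ := by group
          _ = g * ((g⁻¹ * m * g) * d) * g⁻¹ := by rw [hc'.eq]
          _ = m * (g * d * g⁻¹) := by group
      exact hcen _ (hEnN (hcentric _ fun a ha => hz a (hNM (hEN ha))))
        fun a ha => hz a (hNM ha)⟩
    exact h.normal_sq hp3 h6 hDnc
  set Z2 := (⊤ : Subgroup S).lowerCentralSeries (n - 3) with hZ2
  set Z3 := (⊤ : Subgroup S).lowerCentralSeries (n - 4) with hZ3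
  have hZ2c : Nat.card Z2 = p ^ 2 := by rw [hZ2, h.cardL (by omega)]; congr 1; omega
  have hZ3c : Nat.card Z3 = p ^ 3 := by rw [hZ3, h.cardL (by omega)]; congr 1; omega
  have hZ23 : Z2 ≤ Z3 := L_anti (by omega)
  have hNeq : ∀ A : Subgroup S, A ≤ Nn → ¬ A ≤ En → En ⊔ A = Nn := fun A hA hAE => by
    obtain ⟨j, hj⟩ := IsPGroup.iff_card.1 (h.pgrp.to_subgroup (En ⊔ A))
    have hlt : p ^ 3 < p ^ j := by
      rw [← hEnc, ← hj]
      by_contra hge
      exact hAE ((le_sup_right : A ≤ En ⊔ A).trans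
        (eq_of_le_of_card_ge (le_sup_left : En ≤ En ⊔ A) (not_lt.1 hge)).ge)
    exact eq_of_le_of_card_ge (sup_le hEnN hA) (by
      rw [hNnc, hj]
      exact Nat.pow_le_pow_right hpp.pos ((Nat.pow_lt_pow_iff_right hpp.one_lt).1 hlt))
  have hEgen : ∀ e ∈ En, e ∉ Dn → ∀ C : Subgroup S, Dn ≤ C → e ∈ C → En ≤ C := fun e he heD C hDC heC => by
    obtain ⟨j, hj⟩ := IsPGroup.iff_card.1 (h.pgrp.to_subgroup (Dn ⊔ zpowers e))
    have hlt : p ^ 2 < p ^ j := by
      rw [← hDnc, ← hj]
      by_contra hge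
      exact heD ((eq_of_le_of_card_ge (le_sup_left : Dn ≤ Dn ⊔ zpowers e) (not_lt.1 hge)).ge
        (mem_sup_right (mem_zpowers e)))
    refine le_trans (eq_of_le_of_card_ge (sup_le hDnE (zpowers_le.2 he)) ?_).ge
      (sup_le hDC (zpowers_le.2 heC))
    rw [hEnc, hj]
    exact Nat.pow_le_pow_right hpp.pos ((Nat.pow_lt_pow_iff_right hpp.one_lt).1 hlt)
  have hconjE : ∀ (m : S) {A : Subgroup S}, (∀ a ∈ A, ⁅m, a⁆ ∈ A) → ∀ a ∈ A, m * a * m⁻¹ ∈ A :=
    fun m A hA a ha => by
      rw [show m * a * m⁻¹ = ⁅m, a⁆ * a by rw [commutatorElement_def]; group]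
      exact A.mul_mem (hA a ha) ha
  have hinv : ∀ {a b : S} {i : ℕ}, ⁅a, b⁆ ∈ (⊤ : Subgroup S).lowerCentralSeries i →
      ⁅b, a⁆ ∈ (⊤ : Subgroup S).lowerCentralSeries i := fun hab' => by
    rw [← commutatorElement_inv]; exact inv_mem hab'
  set xn : S := ⟨x, hES hxE⟩
  by_cases hcase : Z2 ≤ En
  · -- the centre of `N` is `L (n - 3)`
    have hZ3N : Z3 ≤ Nn := fun y hy => memN y (hconjE y fun a _ => hcase (by
      have := hinv (L_comm_x hy a)
      rwa [show n - 4 + 1 = n - 3 by omega] at this))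
    have hZ3E : ¬ Z3 ≤ En := fun hle => by
      have hEn : En.Normal := (eq_of_le_of_card_ge hle (by rw [hEnc, hZ3c])) ▸ inferInstance
      have htop : Nn = ⊤ := eq_top_iff.2 fun g _ => memN g fun a ha => hEn.conj_mem a ha g
      exact hNnn (htop ▸ inferInstance)
    have hNsup := hNeq Z3 hZ3N hZ3E
    have hZ2c' : ∀ z ∈ Z2, Nn ≤ centralizer ({z} : Set S) := fun z hz => by
      rw [← hNsup]
      exact sup_le (fun a ha => mem_centralizer_singleton_iff.2 (habn a ha z (hcase hz)).eq)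
        fun y hy => mem_centralizer_singleton_iff.2 (h.commute_of_mem hy hz (by omega)).eq
    have hD : Dn = Z2 := (eq_of_le_of_card_ge (fun z hz => hcen z (hEnN (hcase hz)) fun a ha =>
      (mem_centralizer_singleton_iff.1 (hZ2c' z hz ha)).symm) (by rw [hDnc, hZ2c])).symm
    have hEKn : En ≤ K (S : Type u) (n - 3) := fun e he => mem_K.2 fun z hz => by
      rw [commutatorElement_eq_one_iff_mul_comm.2 (habn e he z (hcase hz)).eq]
      exact one_mem _
    have hxn : xn ∈ K (S : Type u) (n - 3) := hEKn hxE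
    have hx1 : xn ∉ K (S : Type u) 1 := fun hx1 => by
      have hEK : En ≤ K (S : Type u) 1 := hEgen xn hxE hxD _
        (hD.le.trans ((L_anti (by omega)).trans (h.L1_le_K 1))) hx1
      have hle : (⊤ : Subgroup S).lowerCentralSeries (n - 5) ≤ Nn := fun y hy =>
        memN y (hconjE y fun a ha => hcase (by
          have hK := hEK ha
          rw [← middle hp3 n S h (n - 5) (by omega) (by omega)] at hK
          have := hinv (mem_K.1 hK y hy)
          rwa [show n - 5 + 2 = n - 3 by omega] at this))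
      have he : (⊤ : Subgroup S).lowerCentralSeries (n - 5) = Nn := eq_of_le_of_card_ge hle (by
        rw [hNnc, h.cardL (by omega), show n - 1 - (n - 5) = 4 by omega])
      exact hNnn (he ▸ inferInstance)
    have heven : Even n := by
      rw [← Nat.not_odd_iff_even]
      exact fun hodd => hx1 (h.last_eq hp3 h5 hodd ▸ hxn)
    have hxp : xn ^ p = 1 := Subtype.ext (by simpa [xn] using hexp x hxE)
    set wn : S := ⟨w, hDS hwD⟩
    have hwp : wn ^ p = 1 := Subtype.ext (by simpa [wn] using hexp w (hDE hwD))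
    have hEstep : En = stepSub xn (n - 3) := (eq_of_le_of_card_ge (sup_le (zpowers_le.2 (show xn ∈ En from hxE)) hcase) (by
      rw [show zpowers xn ⊔ (⊤ : Subgroup S).lowerCentralSeries (n - 3) = stepSub xn (n - 3) from rfl,
        h.card_stepSub hxp hx1 (by omega) (by omega), hEnc, show n - (n - 3) = 3 by omega])).symm
    have hNstep : Nn = stepSub xn (n - 4) := (eq_of_le_of_card_ge
      (sup_le (zpowers_le.2 (show xn ∈ Nn from hEN hxE)) hZ3N) (by
      rw [show zpowers xn ⊔ (⊤ : Subgroup S).lowerCentralSeries (n - 4) = stepSub xn (n - 4) from rfl,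
        h.card_stepSub hxp hx1 (by omega) (by omega), hNnc, show n - (n - 4) = 4 by omega])).symm
    have hEmap : (stepSub xn (n - 3)).map S.subtype = E := by
      rw [← hEstep, subgroupOf_map_subtype, inf_eq_left.2 hES]
    have hNmap : (stepSub xn (n - 4)).map S.subtype = N := by
      rw [← hNstep, subgroupOf_map_subtype, inf_eq_left.2 hNS]
    obtain ⟨i, y, hy, hby⟩ := mem_stepSub.1 (hNstep.le (show (⟨b, hNS hbN⟩ : S) ∈ Nn from hbN))
    have hwD' : wn ∈ Z2 := hD.le hwD
    have hy' : y ∉ Z2 := fun hyD => hbE (by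
      have h1 : (⟨b, hNS hbN⟩ : S) ∈ En := by
        rw [hby]; exact En.mul_mem (En.zpow_mem hxE i) (hcase hyD)
      exact h1)
    have hwy : wn = ⁅y, xn⁆ := by
      have hc1 : ⁅(⟨b, hNS hbN⟩ : S), xn⁆ = wn := Subtype.ext (by
        show b * x * b⁻¹ * x⁻¹ = w
        rw [hbx, hab x hxE w (hDE hwD), mul_inv_cancel_right])
      rw [← hc1, hby]
      have hyx : Commute xn ⁅y, xn⁆ := by
        have h1 := hinv (L_comm_x hy xn)
        rw [show n - 4 + 1 = n - 3 by omega] at h1
        exact habn xn hxE _ (hcase h1)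
      calc ⁅xn ^ i * y, xn⁆ = xn ^ i * ⁅y, xn⁆ * (xn ^ i)⁻¹ := by rw [commutatorElement_def, commutatorElement_def]; group
        _ = ⁅y, xn⁆ := by rw [(hyx.zpow_left i).eq, mul_inv_cancel_right]
    obtain ⟨f, hf, -, hfx, hfw, hfc, -⟩ := htorus (-1) (-1) ⟨0, by ring⟩
    refine tower_false hS hF hp3 h h6 heven hxp hwp hx1 hxn (by rw [hEmap]; exact hE.2.1)
      (by rw [hEmap, hNmap]) hwD' (fun e => hw1 (congrArg Subtype.val e)) hy hy' hwy
      (f := f) (by rwa [hNmap]) (by simpa [xn] using hfx) (by simpa [wn] using hfw) ?_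
    intro z hz hfz
    -- the only inverted line of `D`
    have hzD : (z : Ω) ∈ D := hD.ge hz
    have hexp' : ∀ a : E, a ^ p = 1 := fun a => Subtype.ext (by simpa using hexp a a.2)
    have hab' : ∀ a a' : E, a * a' = a' * a := fun a a' => Subtype.ext (hab a a.2 a' a'.2)
    have hDi : (D.subgroupOf E).index = p := by
      have h1 := (D.subgroupOf E).card_mul_index
      rw [Nat.card_congr (subgroupOfEquivOfLe hDE).toEquiv, hDc, hcard, pow_succ p 2] at h1
      exact Nat.eq_of_mul_eq_mul_left (pow_pos hpp.pos 2) h1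
    obtain ⟨u, v, hzuv⟩ := ThreeDim.exists_coord hcard hexp' hDi (a := ⟨w, hDE hwD⟩) (b := ⟨c, hDE hcD⟩)
      (x := ⟨z, hDE hzD⟩) hwD hcD (fun e => hw1 (congrArg Subtype.val e))
      (fun e => by
        obtain ⟨k, hk⟩ := mem_zpowers_iff.1 e
        exact hcw (mem_zpowers_iff.2 ⟨k, by simpa using congrArg Subtype.val hk⟩)) hab' hzD
    have hz' : (z : Ω) = w ^ u * c ^ v := by simpa using congrArg Subtype.val hzuv
    obtain ⟨φ, -, hφ⟩ := hf.1
    have hfzp : ∀ d, d ∈ N → ∀ k : ℤ, f (d ^ k) = f d ^ k := fun d hd k => by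
      have e := map_zpow φ (⟨d, hd⟩ : N) k
      rw [hφ, hφ] at e
      simpa using e
    have hwc : Commute w c := hab w (hDE hwD) c (hDE hcD)
    have hfz' : (w ^ u)⁻¹ * c ^ v = (c ^ v)⁻¹ * (w ^ u)⁻¹ := by
      have e1 : f z = ((z⁻¹ : S) : Ω) := hfz
      rw [Subgroup.coe_inv, hz', hf.1.map_mul (N.zpow_mem (hEN (hDE hwD)) u) (N.zpow_mem (hEN (hDE hcD)) v),
        hfzp w (hEN (hDE hwD)), hfzp c (hEN (hDE hcD)), hfw, hfc, zpow_neg_one, inv_zpow, mul_inv_rev] at e1
      exact e1
    rw [((hwc.zpow_zpow u v).inv_left).eq] at hfz'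
    have hv : c ^ (2 * v) = 1 := by
      have h2 := mul_right_cancel hfz'
      rw [two_mul, zpow_add]
      calc c ^ v * c ^ v = c ^ v * (c ^ v)⁻¹ := congrArg (c ^ v * ·) h2
        _ = 1 := mul_inv_cancel _
    have hc1 : c ≠ 1 := fun e => hcw (e ▸ one_mem _)
    have hpv : (p : ℤ) ∣ v := by
      have h3 := orderOf_dvd_iff_zpow_eq_one.2 hv
      rw [orderOf_eq_prime (hexp c (hDE hcD)) hc1] at h3
      refine ((Nat.prime_iff_prime_int.1 hpp).dvd_or_dvd h3).resolve_left fun h4 => ?_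
      have := Int.le_of_dvd two_pos h4
      omega
    obtain ⟨v', rfl⟩ := hpv
    refine mem_zpowers_iff.2 ⟨u, Subtype.ext ?_⟩
    rw [hz', zpow_mul, zpow_natCast, hexp c (hDE hcD), one_zpow, mul_one]
    simp [wn]
  · -- otherwise a normal subgroup of order `p ^ 5` appears
    set Z := (⊤ : Subgroup S).lowerCentralSeries (n - 2) with hZdef
    have hZc : ∀ z ∈ Z, ∀ g : S, Commute z g := fun z hz g =>
      h.commute_of_mem hz (j := 0) (Subgroup.mem_top g) (by omega)
    have hZE : Z ≤ En := fun z hz => hcentric z fun a _ => hZc z hz a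
    have hZD : Z ≤ Dn := fun z hz => hcen z (hEnN (hZE hz)) fun a _ => hZc z hz a
    have hZ2N : Z2 ≤ Nn := fun y hy => memN y (hconjE y fun a _ => hZE (by
      have := hinv (L_comm_x hy a)
      rwa [show n - 3 + 1 = n - 2 by omega] at this))
    obtain ⟨y, hy, hyE⟩ := SetLike.not_le_iff_exists.1 hcase
    have hkey : ∀ e ∈ En, e ∉ Dn → e ∉ K (S : Type u) (n - 3) := fun e he heD heK => hyE (hcentric y
      fun a ha => by
        have hey : Commute e y :=
          commutatorElement_eq_one_iff_mul_comm.1 (h.eq_one (by omega) (mem_K.1 heK y hy))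
        exact (mem_centralizer_singleton_iff.1 (hEgen e he heD (centralizer ({y} : Set S))
          (fun d hd => mem_centralizer_singleton_iff.2 (hDN y (hZ2N hy) d hd).symm.eq)
          (mem_centralizer_singleton_iff.2 hey.eq) ha)).symm)
    have hin : ∀ e ∈ En, e ∉ Dn → e ∈ K (S : Type u) 1 := fun e he heD => by
      by_contra heK
      have hmx := h.mx (s := e) (by omega) (fun h1 => heK (h.L1_le_K 1 h1)) fun i hi1 hi => by
        rcases (by omega : i ≤ n - 4 ∨ i = n - 3) with h2 | rfl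
        · rw [middle hp3 n S h i hi1 h2]; exact heK
        · exact hkey e he heD
      have hle : En ≤ centralizer ({e} : Set S) := fun a ha =>
        mem_centralizer_singleton_iff.2 (habn a ha e he).eq
      have h1 := card_le_of_le hle
      rw [hEnc, hmx.cent] at h1
      have := (Nat.pow_le_pow_iff_right hpp.one_lt).1 h1
      omega
    have hEK : En ≤ K (S : Type u) 1 := fun d hd => by
      by_cases hdD : d ∈ Dn
      · have h2 : d * xn ∉ Dn := fun h2 => hxD (show xn ∈ Dn from (mul_mem_cancel_left hdD).1 h2)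
        exact (Subgroup.mul_mem_cancel_right _ (hin xn hxE hxD)).1
          (hin _ (En.mul_mem hd hxE) h2)
      · exact hin d hd hdD
    have hEKi : ∀ i, 1 ≤ i → i ≤ n - 4 → ∀ a ∈ En, ∀ l ∈ (⊤ : Subgroup S).lowerCentralSeries i,
        ⁅l, a⁆ ∈ (⊤ : Subgroup S).lowerCentralSeries (i + 2) := fun i hi1 hi a ha l hl => by
      have hK := hEK ha
      rw [← middle hp3 n S h i hi1 hi] at hK
      exact hinv (mem_K.1 hK l hl)
    have hZ3N : Z3 ≤ Nn := fun l hl => memN l (hconjE l fun a ha => hZE (by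
      have := hEKi (n - 4) (by omega) le_rfl a ha l hl
      rwa [show n - 4 + 2 = n - 2 by omega] at this))
    have hNsup := hNeq Z3 hZ3N (fun hle => hcase (hZ23.trans hle))
    -- a normal subgroup of order `p ^ 5` normalising `N`
    have hT : ∀ i, 1 ≤ i → n - 6 ≤ i → i ≤ n - 4 →
        (⊤ : Subgroup S).lowerCentralSeries i ≤ Mn := fun i hi1 hi6 hi l hl => memM l fun a ha => by
      rw [← hNsup] at ha ⊢
      rw [mem_sup_of_normal_right] at ha
      obtain ⟨e, he, z, hz, rfl⟩ := ha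
      have h1 : ⁅l, e⁆ ∈ Z3 := L_anti (by omega) (hEKi i hi1 hi e he l hl)
      rw [show l * (e * z) * l⁻¹ = ⁅l, e⁆ * e * (l * z * l⁻¹) by rw [commutatorElement_def]; group]
      exact mul_mem (mul_mem (mem_sup_right h1) (mem_sup_left he))
        (mem_sup_right (Subgroup.Normal.conj_mem inferInstance z hz l))
    have hMn : Mn.Normal := by
      rcases Nat.lt_or_ge n 7 with h7 | h7
      · exact normal_of_L1_le (hT 1 le_rfl (by omega) (by omega))
      · have e : (⊤ : Subgroup S).lowerCentralSeries (n - 6) = Mn :=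
          eq_of_le_of_card_ge (hT (n - 6) (by omega) le_rfl (by omega))
            (by rw [hMnc, h.cardL (by omega), show n - 1 - (n - 6) = 5 by omega])
        exact e ▸ inferInstance
    exact hcase ((hMnn hMn).ge.trans hDnE)

end Cfsg.Agent.FusSys
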