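import Mathlib.GroupTheory.FiniteAbelian.Basic
import Mathlib.GroupTheory.Sylow
import Mathlib.GroupTheory.SpecificGroups.Cyclic
import Mathlib.Algebra.Group.Prod
import Mathlib.Algebra.Ring.Equiv
import Mathlib.Data.Nat.Choose.Sum
import Mathlib.Data.Nat.Choose.Dvd
import Mathlib.FieldTheory.Finite.Basic
import Cfsg.Agent.Core.Fitting

/-!
Groups of automorphisms without normal `p`-subgroup of an abelian `p`-group of rank at most two.
-/

set_option autoImplicit false

namespace Cfsg.Agent.FusSys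

open Cfsg

variable {p : ℕ} [hp : Fact p.Prime] {G : Type*} [CommGroup G] [Finite G]

/-- A `p`-element acts trivially on an invariant section of order dividing `p`. -/
theorem sec_trivial {L : Subgroup G} {w : G} (hwp : w ^ p ∈ L) {α : MulAut G} {j : ℕ}
    (hα : α ^ p ^ j = 1) (hL : ∀ x ∈ L, α x ∈ L) (hw : α w ∈ L ⊔ Subgroup.zpowers w) :
    ∀ x ∈ L ⊔ Subgroup.zpowers w, α x * x⁻¹ ∈ L := by
  let π := QuotientGroup.mk' L
  have hz : ∀ x ∈ L ⊔ Subgroup.zpowers w, ∃ c : ℤ, π x = π w ^ c := by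
    intro x hx
    obtain ⟨a, ha, _, ⟨c, rfl⟩, rfl⟩ := Subgroup.mem_sup.1 hx
    exact ⟨c, by rw [map_mul, map_zpow, show π a = 1 from (QuotientGroup.eq_one_iff a).2 ha, one_mul]⟩
  have hαz : ∀ (x : G) (c : ℤ), π x = π w ^ c → π (α x) = π (α w) ^ c := by
    intro x c hx
    rw [← map_zpow, ← map_zpow] at *
    have h1 : x⁻¹ * w ^ c ∈ L := QuotientGroup.eq.1 hx
    refine QuotientGroup.eq.2 ?_
    simpa using hL _ h1
  obtain ⟨t, ht⟩ := hz _ hw
  have hit : ∀ n : ℕ, π ((α ^ n) w) = π w ^ (t ^ n) := by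
    intro n
    induction n with
    | zero => simp
    | succ n ih =>
      rw [pow_succ' α, MulAut.mul_apply, hαz _ _ ih, ht, ← zpow_mul, ← pow_succ']
  have h1 : π w = π w ^ (t ^ p ^ j) := by
    have := hit (p ^ j)
    rwa [hα, MulAut.one_apply] at this
  have hwp' : π w ^ (p : ℤ) = 1 := by
    rw [zpow_natCast, ← map_pow]; exact (QuotientGroup.eq_one_iff _).2 hwp
  intro x hx
  obtain ⟨c, hc⟩ := hz x hx
  refine (QuotientGroup.eq_one_iff _).1 (?_ : π (α x * x⁻¹) = 1)
  rw [map_mul, map_inv, mul_inv_eq_one, hαz _ _ hc, hc]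
  congr 1
  rw [ht]
  by_cases hw1 : π w = 1
  · rw [hw1, one_zpow]
  have hord : orderOf (π w) = p := orderOf_eq_prime (by rwa [zpow_natCast] at hwp') hw1
  have h2 : ((t ^ p ^ j : ℤ) : ZMod p) = 1 := by
    have h3 : π w ^ (t ^ p ^ j) = π w ^ (1 : ℤ) := by rw [zpow_one]; exact h1.symm
    rw [zpow_eq_zpow_iff_modEq, hord, ← ZMod.intCast_eq_intCast_iff, Int.cast_one] at h3
    exact h3
  rw [Int.cast_pow, ZMod.pow_card_pow] at h2
  conv_rhs => rw [← zpow_one (π w)]
  rw [zpow_eq_zpow_iff_modEq, hord, ← ZMod.intCast_eq_intCast_iff, h2, Int.cast_one]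

theorem fixed_of_sec {δ : MulAut G} (hδ : (orderOf δ).Coprime p) {x d : G} (hd : δ d = d)
    (hdp : d ^ p = 1) (hx : δ x = x * d) : δ x = x := by
  have hit : ∀ n : ℕ, (δ ^ n) x = x * d ^ n := by
    intro n
    induction n with
    | zero => simp
    | succ n ih => rw [pow_succ', MulAut.mul_apply, ih, map_mul, map_pow, hd, hx, mul_assoc, ← pow_succ']
  have h1 := hit (orderOf δ)
  rw [pow_orderOf_eq_one, MulAut.one_apply, left_eq_mul] at h1
  have h2 : d = 1 := orderOf_eq_one_iff.1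
    (Nat.eq_one_of_dvd_coprimes hδ (orderOf_dvd_of_pow_eq_one h1) (orderOf_dvd_of_pow_eq_one hdp))
  rw [hx, h2, mul_one]

/-- A prime-to-`p` automorphism fixing the elements of order `p` is trivial. -/
theorem eq_one_of_fix_omega (hG : IsPGroup p G) {δ : MulAut G} (hδ : (orderOf δ).Coprime p)
    (h : ∀ x : G, x ^ p = 1 → δ x = x) : δ = 1 := by
  have hall : ∀ n, ∀ x : G, x ^ p ^ n = 1 → δ x = x := by
    intro n
    induction n with
    | zero => intro x hx; rw [pow_zero, pow_one] at hx; rw [hx, map_one]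
    | succ n ih =>
      intro x hx
      have h1 : δ (x ^ p) = x ^ p := ih _ (by rw [← pow_mul, ← pow_succ', hx])
      have hdp : (δ x * x⁻¹) ^ p = 1 := by rw [mul_pow, ← map_pow, h1, inv_pow, mul_inv_cancel]
      exact fixed_of_sec hδ (h _ hdp) hdp (by rw [mul_comm x, inv_mul_cancel_right])
  refine MulEquiv.ext fun x => ?_
  obtain ⟨n, hn⟩ := hG x
  exact hall n x hn

variable (A : Subgroup (MulAut G)) (hA : pCore p A = ⊥) (hdiv : p ∣ Nat.card A)

/-- The elements of order dividing `p`. -/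
def omegaOne (p : ℕ) (G : Type*) [CommGroup G] : Subgroup G := (powMonoidHom p : G →* G).ker

theorem mem_omegaOne {x : G} : x ∈ omegaOne p G ↔ x ^ p = 1 := MonoidHom.mem_ker

theorem omegaOne_invariant (α : MulAut G) {x : G} (hx : x ∈ omegaOne p G) : α x ∈ omegaOne p G := by
  rw [mem_omegaOne] at hx ⊢
  rw [← map_pow, hx, map_one]

/-- The automorphisms trivial on a two-step series of the elements of order `p`. -/
def stabTwo (p : ℕ) (L : Subgroup G) : Subgroup (MulAut G) where
  carrier := {α | (∀ x ∈ L, α x = x) ∧ ∀ x, x ^ p = 1 → α x * x⁻¹ ∈ L}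
  one_mem' := ⟨fun _ _ => rfl, fun x _ => by rw [MulAut.one_apply, mul_inv_cancel]; exact L.one_mem⟩
  mul_mem' := fun {a b} ha hb => ⟨fun x hx => by rw [MulAut.mul_apply, hb.1 x hx, ha.1 x hx],
    fun x hx => by
      have h1 := ha.2 (b x) (by rw [← map_pow, hx, map_one])
      have := L.mul_mem h1 (hb.2 x hx)
      rwa [mul_assoc, inv_mul_cancel_left] at this⟩
  inv_mem' := fun {a} ha => ⟨fun x hx => by
      conv_lhs => rw [← ha.1 x hx]
      rw [MulAut.inv_apply_self],
    fun x hx => by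
      have h1 := L.inv_mem (ha.2 (a⁻¹ x) (by rw [← map_pow, hx, map_one]))
      rwa [MulAut.apply_inv_self, mul_inv_rev, inv_inv] at h1⟩

theorem isPGroup_stabTwo (hG : IsPGroup p G) {L : Subgroup G} (hL : ∀ x ∈ L, x ^ p = 1) :
    IsPGroup p (stabTwo p L) := by
  haveI : Finite (MulAut G) := Finite.of_injective _ MulEquiv.toEquiv_injective
  rintro ⟨α, hα⟩
  have hfix : ∀ x, x ^ p = 1 → (α ^ p) x = x := by
    intro x hx
    have hd := hα.2 x hx
    obtain ⟨d, hde⟩ : ∃ d, d = α x * x⁻¹ := ⟨_, rfl⟩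
    rw [← hde] at hd
    have hit : ∀ n : ℕ, (α ^ n) x = x * d ^ n := by
      intro n
      induction n with
      | zero => simp
      | succ n ih =>
        rw [pow_succ' α, MulAut.mul_apply, ih, map_mul, map_pow, hα.1 d hd, pow_succ' d,
          ← mul_assoc x]
        congr 1
        rw [hde, mul_comm x, inv_mul_cancel_right]
    rw [hit, hL d hd, mul_one]
  obtain ⟨k, m, hm, hn⟩ := Nat.exists_eq_pow_mul_and_not_dvd (orderOf_pos (α ^ p)).ne' p hp.out.ne_one
  refine ⟨k + 1, Subtype.ext ?_⟩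
  show α ^ p ^ (k + 1) = 1
  rw [pow_succ', pow_mul]
  refine eq_one_of_fix_omega hG ?_ fun x hx => ?_
  · refine Nat.Coprime.coprime_dvd_left (orderOf_dvd_of_pow_eq_one (x := (α ^ p) ^ p ^ k) ?_)
      ((Nat.Prime.coprime_iff_not_dvd hp.out).2 hm).symm
    rw [← pow_mul, ← hn, pow_orderOf_eq_one]
  · generalize p ^ k = n
    induction n with
    | zero => rw [pow_zero, MulAut.one_apply]
    | succ n ih => rw [pow_succ, MulAut.mul_apply, hfix x hx, ih]

include hdiv hA in
/-- No invariant line: every invariant subgroup of `Ω₁` of order `p` with cyclic cofactor fails. -/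
theorem no_stab {L : Subgroup G} (hG : IsPGroup p G) (hL : ∀ x ∈ L, x ^ p = 1)
    (hall : ∀ α ∈ A, (∃ j : ℕ, α ^ p ^ j = 1) → α ∈ stabTwo p L) : False := by
  haveI : Finite (MulAut G) := Finite.of_injective _ MulEquiv.toEquiv_injective
  let T : Sylow p A := default
  let Γ : Subgroup A := (stabTwo p L).subgroupOf A
  have hΓ : IsPGroup p Γ := (isPGroup_stabTwo hG hL).comap_subtype
  have hTΓ : ∀ T' : Sylow p A, (T' : Subgroup A) = Γ := by
    intro T'
    refine (T'.3 hΓ fun x hx => ?_).symm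
    obtain ⟨j, hj⟩ := T'.2 ⟨x, hx⟩
    refine hall _ x.2 ⟨j, ?_⟩
    exact congrArg (fun z : T' => ((z : A) : MulAut G)) hj
  haveI : Subsingleton (Sylow p A) := ⟨fun a b => Sylow.ext ((hTΓ a).trans (hTΓ b).symm)⟩
  haveI : (T : Subgroup A).Normal := Sylow.normal_of_subsingleton T
  have h1 : (T : Subgroup A) ≤ pCore p A := Cfsg.Agent.Core.le_pCore T.2
  rw [hA, le_bot_iff] at h1
  exact T.ne_bot_of_dvd_card hdiv h1

/-- Write `G` as a product and read off the homocyclic shape. -/
theorem homocyclic_of_omega (hG : IsPGroup p G) {e : ℕ} (he : Monoid.exponent G = p ^ e)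
    (hΩ : Nat.card (omegaOne p G) = p ^ 2)
    (hpow : ∀ x : G, x ^ p = 1 → ∃ y : G, y ^ p ^ (e - 1) = x) :
    Nonempty (G ≃* Multiplicative (ZMod (p ^ e) × ZMod (p ^ e))) := by
  classical
  obtain ⟨ι, hι, n, hn1, ⟨f⟩⟩ := CommGroup.equiv_prod_multiplicative_zmod_of_finite G
  have hdvd : ∀ i, ∃ a, n i = p ^ a ∧ 0 < a ∧ a ≤ e := by
    intro i
    haveI : NeZero (n i) := ⟨by have := hn1 i; omega⟩
    obtain ⟨y, hy⟩ : ∃ y, y = Pi.mulSingle (M := fun i => Multiplicative (ZMod (n i))) i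
      (Multiplicative.ofAdd 1) := ⟨_, rfl⟩
    have h1 : (f.symm y) ^ p ^ e = 1 := by rw [← he]; exact Monoid.pow_exponent_eq_one _
    have h2 : y ^ p ^ e = 1 := by simpa using congrArg f h1
    have h3 := congrArg Multiplicative.toAdd (congrFun h2 i)
    rw [Pi.pow_apply, hy, Pi.mulSingle_eq_same, toAdd_pow, toAdd_ofAdd, nsmul_one,
      Pi.one_apply, toAdd_one, ZMod.natCast_eq_zero_iff] at h3
    obtain ⟨a, ha, hna⟩ := (Nat.dvd_prime_pow hp.out).1 h3
    refine ⟨a, hna, Nat.pos_of_ne_zero fun h => ?_, ha⟩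
    have := hn1 i
    rw [hna, h, pow_zero] at this
    exact absurd this (lt_irrefl 1)
  have heq : ∀ i, n i = p ^ e := by
    intro i
    obtain ⟨a, hna, ha0, hae⟩ := hdvd i
    rw [hna]
    by_contra hne
    have hlt : a ≤ e - 1 := by
      rcases hae.lt_or_eq with h | h
      · omega
      · exact absurd (by rw [h]) hne
    haveI : NeZero (n i) := ⟨by have := hn1 i; omega⟩
    obtain ⟨b, hb⟩ : ∃ b : ℕ, a = b + 1 := ⟨a - 1, by omega⟩
    obtain ⟨x, hx⟩ : ∃ x, x = Pi.mulSingle (M := fun i => Multiplicative (ZMod (n i))) i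
      (Multiplicative.ofAdd ((p ^ b : ℕ) : ZMod (n i))) := ⟨_, rfl⟩
    have hxp : x ^ p = 1 := by
      rw [hx, ← Pi.mulSingle_pow, ← ofAdd_nsmul, nsmul_eq_mul, ← Nat.cast_mul,
        (ZMod.natCast_eq_zero_iff _ _).2 (by rw [hna, hb, pow_succ']), ofAdd_zero, Pi.mulSingle_one]
    obtain ⟨y, hy⟩ := hpow (f.symm x) (by rw [← map_pow, hxp, map_one])
    have h1 := congrArg (fun z => (f z i).toAdd) hy
    simp only [MulEquiv.apply_symm_apply, map_pow, Pi.pow_apply, toAdd_pow, nsmul_eq_mul] at h1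
    rw [(ZMod.natCast_eq_zero_iff _ _).2 (hna ▸ pow_dvd_pow p hlt), zero_mul, hx, Pi.mulSingle_eq_same,
      toAdd_ofAdd, eq_comm, ZMod.natCast_eq_zero_iff, hna, hb] at h1
    exact absurd (Nat.le_of_dvd (pow_pos hp.out.pos b) h1)
      (not_le.2 (Nat.pow_lt_pow_right hp.out.one_lt (Nat.lt_succ_self b)))
  obtain rfl : n = fun _ => p ^ e := funext heq
  haveI : NeZero (p ^ e) := ⟨pow_ne_zero _ hp.out.ne_zero⟩
  have hcomp : Nat.card (powMonoidHom p : Multiplicative (ZMod (p ^ e)) →* _).ker = p ∨ IsEmpty ι := by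
    rcases isEmpty_or_nonempty ι with h | ⟨⟨i⟩⟩
    · exact Or.inr h
    · left
      rw [IsCyclic.card_powMonoidHom_ker, Nat.card_congr Multiplicative.toAdd, Nat.card_zmod]
      obtain ⟨a, hna, ha0, -⟩ := hdvd i
      exact Nat.gcd_eq_right ((dvd_pow_self p ha0.ne').trans hna.symm.dvd)
  have hcard : Fintype.card ι = 2 := by
    have h1 : Nat.card (omegaOne p G) =
        Nat.card ((i : ι) → (powMonoidHom p : Multiplicative (ZMod (p ^ e)) →* _).ker) := by
      refine Nat.card_congr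
        { toFun := fun x i => ⟨f x.1 i, MonoidHom.mem_ker.2 ?_⟩
          invFun := fun w => ⟨f.symm fun i => (w i).1, mem_omegaOne.2 ?_⟩
          left_inv := fun x => Subtype.ext (f.symm_apply_apply x.1)
          right_inv := fun w => funext fun i => Subtype.ext (by simp) }
      · show f x.1 i ^ p = 1
        rw [← Pi.pow_apply, ← map_pow, mem_omegaOne.1 x.2, map_one]
        rfl
      · rw [← map_pow, show (fun i => (w i).1) ^ p = (1 : (i : ι) → Multiplicative (ZMod (p ^ e))) from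
          funext fun i => MonoidHom.mem_ker.1 (w i).2, map_one]
    rw [hΩ, Nat.card_pi, Finset.prod_const, Finset.card_univ] at h1
    rcases hcomp with h | h
    · rw [h] at h1
      exact (Nat.pow_right_injective hp.out.two_le h1).symm
    · exfalso
      rw [Fintype.card_eq_zero, pow_zero] at h1
      exact absurd h1 (Nat.one_lt_pow two_ne_zero hp.out.one_lt).ne'
  let ei : ι ≃ Fin 2 := Fintype.equivFinOfCardEq hcard
  exact ⟨f.trans
    { toFun := fun v => Multiplicative.ofAdd ((v (ei.symm 0)).toAdd, (v (ei.symm 1)).toAdd)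
      invFun := fun v i => Multiplicative.ofAdd (if ei i = 0 then v.toAdd.1 else v.toAdd.2)
      left_inv := fun v => funext fun i => by
        by_cases h : ei i = 0
        · dsimp only
          rw [if_pos h, ← h, Equiv.symm_apply_apply]
          rfl
        · have h' : ei i = 1 := by omega
          dsimp only
          rw [if_neg h, ← h', Equiv.symm_apply_apply]
          rfl
      right_inv := fun v => by simp
      map_mul' := fun v w => rfl }⟩

theorem pow_mem_range_pow {e : ℕ} (hpow : ∀ x : G, x ^ p = 1 → ∃ y : G, y ^ p ^ (e - 1) = x)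
    (he : ∀ x : G, x ^ p ^ e = 1) (he2 : 2 ≤ e) {x : G} (hx : x ^ p = 1) : ∃ y : G, y ^ p = x := by
  obtain ⟨y, rfl⟩ := hpow x hx
  exact ⟨y ^ p ^ (e - 2), by rw [← pow_mul, ← pow_succ, show e - 2 + 1 = e - 1 by omega]⟩

include hA hdiv in
/-- The shape of `G`. -/
theorem shape_of_pCore_bot (hG : IsPGroup p G) (hrk : Nat.card (omegaOne p G) ≤ p ^ 2) :
    ∃ e : ℕ, 0 < e ∧ Nonempty (G ≃* Multiplicative (ZMod (p ^ e) × ZMod (p ^ e))) ∧
      (e = 1 ∨ p ≤ 3) := by
  classical
  haveI : Finite (MulAut G) := Finite.of_injective _ MulEquiv.toEquiv_injective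
  haveI : Fact p.Prime := hp
  obtain ⟨N, hN⟩ := IsPGroup.iff_card.1 hG
  obtain ⟨e, -, he⟩ := (Nat.dvd_prime_pow hp.out).1
    ((Group.exponent_dvd_nat_card (G := G)).trans hN.dvd)
  have hex : ∀ x : G, x ^ p ^ e = 1 := fun x => he ▸ Monoid.pow_exponent_eq_one x
  have hΩp : IsPGroup p (omegaOne p G) := hG.to_subgroup _
  -- a nontrivial element
  obtain ⟨a, ha⟩ := exists_prime_orderOf_dvd_card' p hdiv
  have hG1 : Nontrivial G := by
    by_contra h
    rw [not_nontrivial_iff_subsingleton] at h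
    have h1 : (a : MulAut G) = 1 := MulEquiv.ext fun x => Subsingleton.elim _ _
    rw [← Subgroup.orderOf_coe, h1, orderOf_one] at ha
    exact hp.out.one_lt.ne ha
  have he0 : 0 < e := Nat.pos_of_ne_zero fun h => by
    obtain ⟨x, hx⟩ := exists_ne (1 : G)
    exact hx (by have := hex x; rwa [h, pow_zero, pow_one] at this)
  -- the top powers in `Ω₁`
  let L : Subgroup G := (powMonoidHom (p ^ (e - 1)) : G →* G).range
  have hLΩ : ∀ x ∈ L, x ^ p = 1 := by
    rintro _ ⟨y, rfl⟩
    rw [powMonoidHom_apply, ← pow_mul, ← pow_succ, Nat.sub_add_cancel he0, hex]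
  have hLinv : ∀ (α : MulAut G), ∀ x ∈ L, α x ∈ L := by
    rintro α _ ⟨y, rfl⟩
    exact ⟨α y, by simp⟩
  have hLne : L ≠ ⊥ := by
    intro h
    have h1 : Monoid.exponent G ∣ p ^ (e - 1) := Monoid.exponent_dvd_of_forall_pow_eq_one fun x => by
      have : x ^ p ^ (e - 1) ∈ L := ⟨x, rfl⟩
      rwa [h, Subgroup.mem_bot] at this
    rw [he, Nat.pow_dvd_pow_iff_le_right hp.out.one_lt] at h1
    omega
  have hLleΩ : L ≤ omegaOne p G := fun x hx => mem_omegaOne.2 (hLΩ x hx)
  have hline : ∀ M : Subgroup G, Nat.card M = p → ∀ α : MulAut G, (∀ x ∈ M, α x ∈ M) →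
      (∃ j : ℕ, α ^ p ^ j = 1) → ∀ x ∈ M, α x = x := by
    intro M hM α hinv ⟨j, hj⟩ x hx
    obtain ⟨w, hw⟩ := (isCyclic_iff_exists_zpowers_eq_top (α := M)).1 (isCyclic_of_prime_card hM)
    have hwp : (w : G) ^ p = 1 := by
      rw [← hM, ← SubmonoidClass.coe_pow, pow_card_eq_one', OneMemClass.coe_one]
    have hMe : M = ⊥ ⊔ Subgroup.zpowers (w : G) := by
      rw [bot_sup_eq]
      refine le_antisymm (fun y hy => ?_) (Subgroup.zpowers_le.2 w.2)
      obtain ⟨k, hk⟩ := Subgroup.mem_zpowers_iff.1 (hw ▸ Subgroup.mem_top (⟨y, hy⟩ : M))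
      exact ⟨k, congrArg Subtype.val hk⟩
    have h := sec_trivial (L := (⊥ : Subgroup G)) (by rw [hwp]; exact one_mem _) hj
      (fun y hy => by rw [Subgroup.mem_bot] at hy ⊢; rw [hy, map_one])
      (hMe ▸ hinv w w.2) x (hMe ▸ hx)
    rwa [Subgroup.mem_bot, mul_inv_eq_one] at h
  have hLcard : Nat.card L ∣ Nat.card (omegaOne p G) := Subgroup.card_dvd_of_le hLleΩ
  obtain ⟨a1, ha1⟩ := IsPGroup.iff_card.1 (hG.to_subgroup L)
  have ha10 : a1 ≠ 0 := fun h => hLne (Subgroup.card_eq_one.1 (by rw [ha1, h, pow_zero]))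
  obtain ⟨a2, ha2⟩ := IsPGroup.iff_card.1 hΩp
  have ha22 : a2 ≤ 2 := by
    rw [ha2] at hrk; exact (Nat.pow_le_pow_iff_right hp.out.one_lt).1 hrk
  have ha12 : a1 ≤ a2 := by
    rw [ha1, ha2] at hLcard; exact (Nat.pow_dvd_pow_iff_le_right hp.out.one_lt).1 hLcard
  -- the only possibility
  have hboth : a1 = 2 ∧ a2 = 2 := by
    by_contra hne
    obtain rfl : a1 = 1 := by omega
    rw [pow_one] at ha1
    refine no_stab A hA hdiv hG hLΩ fun α hα hj => ⟨hline L ha1 α (hLinv α) hj, ?_⟩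
    intro x hx
    by_cases hxL : x ∈ L
    · rw [hline L ha1 α (hLinv α) hj x hxL, mul_inv_cancel]; exact L.one_mem
    have hle : L ⊔ Subgroup.zpowers x ≤ omegaOne p G :=
      sup_le hLleΩ (Subgroup.zpowers_le.2 (mem_omegaOne.2 hx))
    have heq : L ⊔ Subgroup.zpowers x = omegaOne p G := by
      refine Subgroup.eq_of_le_of_card_ge hle ?_
      have hlt : L < L ⊔ Subgroup.zpowers x := lt_of_le_of_ne le_sup_left fun h =>
        hxL (h ▸ Subgroup.mem_sup_right (Subgroup.mem_zpowers x))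
      have h1 := Cfsg.Agent.Core.card_lt_of_lt hlt
      obtain ⟨a3, ha3⟩ := IsPGroup.iff_card.1 (hG.to_subgroup (L ⊔ Subgroup.zpowers x))
      rw [ha3, ha1] at h1
      rw [ha3, ha2]
      have h2 : 1 < a3 := by
        by_contra h3
        have := Nat.pow_le_pow_right hp.out.pos (show a3 ≤ 1 by omega)
        rw [pow_one] at this
        omega
      exact Nat.pow_le_pow_right hp.out.pos (by omega)
    obtain ⟨j, hj⟩ := hj
    exact sec_trivial (by rw [hx]; exact L.one_mem) hj (hLinv α)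
      (heq ▸ omegaOne_invariant α (mem_omegaOne.2 hx)) x
      (Subgroup.mem_sup_right (Subgroup.mem_zpowers x))
  have hpow : ∀ x : G, x ^ p = 1 → ∃ y : G, y ^ p ^ (e - 1) = x := by
    intro x hx
    have hLe : L = omegaOne p G :=
      Subgroup.eq_of_le_of_card_ge hLleΩ (by rw [ha1, ha2, hboth.1, hboth.2])
    have : x ∈ L := hLe ▸ mem_omegaOne.2 hx
    exact this
  refine ⟨e, he0, homocyclic_of_omega hG he (by rw [ha2, hboth.2]) hpow, ?_⟩
  -- large primes
  by_contra hne
  push Not at hne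
  obtain ⟨he1, hp4⟩ := hne
  have hp5 : 4 ≤ p := hp4
  have he2 : 2 ≤ e := by omega
  have hα : (a : MulAut G) ^ p = 1 := by
    rw [← SubmonoidClass.coe_pow, ← ha, pow_orderOf_eq_one, OneMemClass.coe_one]
  obtain ⟨α, hαdef⟩ : ∃ α : MulAut G, α = (a : MulAut G) := ⟨_, rfl⟩
  rw [← hαdef] at hα
  -- `α` moves some element of order `p`
  have hmove : ∃ x, x ^ p = 1 ∧ α x ≠ x := by
    by_contra h
    push Not at h
    let K : Subgroup A :=
      { carrier := {g | ∀ x : G, x ^ p = 1 → (g : MulAut G) x = x}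
        one_mem' := fun x _ => rfl
        mul_mem' := fun {g g'} hg hg' x hx => by
          rw [Subgroup.coe_mul, MulAut.mul_apply, hg' x hx, hg x hx]
        inv_mem' := fun {g} hg x hx => by
          conv_lhs => rw [← hg x hx]
          rw [Subgroup.coe_inv, MulAut.inv_apply_self] }
    haveI : K.Normal := ⟨fun n hn g x hx => by
      rw [Subgroup.coe_mul, Subgroup.coe_mul, Subgroup.coe_inv, MulAut.mul_apply, MulAut.mul_apply,
        hn _ (by rw [← map_pow, hx, map_one]), MulAut.apply_inv_self]⟩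
    have hKp : IsPGroup p K := by
      have h0 : IsPGroup p ((stabTwo p (omegaOne p G)).subgroupOf A) :=
        (isPGroup_stabTwo hG fun x => mem_omegaOne.1).comap_subtype
      refine h0.to_le fun g hg => ?_
      exact ⟨fun x hx => hg x (mem_omegaOne.1 hx), fun x hx => by
        show (g : MulAut G) x * x⁻¹ ∈ _
        rw [hg x hx, mul_inv_cancel]; exact Subgroup.one_mem _⟩
    have h1 : a ∈ K := fun x hx => by rw [← hαdef]; exact h x hx
    have h2 := Cfsg.Agent.Core.le_pCore hKp h1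
    rw [hA, Subgroup.mem_bot] at h2
    rw [h2, orderOf_one] at ha
    exact hp.out.one_lt.ne ha
  obtain ⟨x₀, hx₀, hx₀m⟩ := hmove
  -- a fixed element of order `p`
  obtain ⟨z, hz, hz1, hzp⟩ : ∃ z : G, α z = z ∧ z ≠ 1 ∧ z ^ p = 1 := by
    have hP : IsPGroup p (Subgroup.zpowers α) :=
      IsPGroup.of_card (n := 1) (by
        rw [Nat.card_zpowers, pow_one]
        exact orderOf_eq_prime hα fun h => hx₀m (by rw [h, MulAut.one_apply]))
    have hdvd : p ∣ Nat.card G := by
      obtain ⟨N', hN'⟩ := IsPGroup.iff_card.1 hG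
      rcases N' with _ | N'
      · exact absurd hN' (by rw [pow_zero]; exact Finite.one_lt_card.ne')
      · exact hN' ▸ dvd_pow_self p N'.succ_ne_zero
    obtain ⟨z, hz, hz1⟩ := hP.exists_fixed_point_of_prime_dvd_card_of_fixed_point G hdvd
      (a := (1 : G)) (fun g => map_one (g : MulAut G))
    obtain ⟨m, hm⟩ := hG z
    have hfix : α z = z := hz ⟨α, Subgroup.mem_zpowers α⟩
    obtain ⟨k, hk⟩ : ∃ k, z ^ p ^ k ≠ 1 ∧ z ^ p ^ (k + 1) = 1 := by
      induction m generalizing z with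
      | zero => rw [pow_zero, pow_one] at hm; exact absurd hm.symm hz1
      | succ m ih =>
        by_cases h1 : z ^ p ^ m = 1
        · exact ih z hz hz1 h1 hfix
        · exact ⟨m, h1, hm⟩
    exact ⟨z ^ p ^ k, by rw [map_pow, hfix], hk.1, by rw [← pow_mul, ← pow_succ]; exact hk.2⟩
  -- `(α - 1) ^ 2` vanishes on the elements of order `p`
  have hsq : ∀ x : G, x ^ p = 1 → α (α x * x⁻¹) = α x * x⁻¹ := by
    intro x hx
    have hcz : Nat.card (Subgroup.zpowers z) = p := by
      rw [Nat.card_zpowers]; exact orderOf_eq_prime hzp hz1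
    have hfz : ∀ y ∈ Subgroup.zpowers z, α y = y := by
      rintro _ ⟨k, rfl⟩
      show α (z ^ k) = z ^ k
      rw [map_zpow, hz]
    suffices h : α x * x⁻¹ ∈ Subgroup.zpowers z from hfz _ h
    by_cases hxz : x ∈ Subgroup.zpowers z
    · rw [hfz x hxz, mul_inv_cancel]; exact one_mem _
    have hle : Subgroup.zpowers z ⊔ Subgroup.zpowers x ≤ omegaOne p G :=
      sup_le (Subgroup.zpowers_le.2 (mem_omegaOne.2 hzp)) (Subgroup.zpowers_le.2 (mem_omegaOne.2 hx))
    have heq : Subgroup.zpowers z ⊔ Subgroup.zpowers x = omegaOne p G := by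
      refine Subgroup.eq_of_le_of_card_ge hle ?_
      have hlt : Subgroup.zpowers z < Subgroup.zpowers z ⊔ Subgroup.zpowers x :=
        lt_of_le_of_ne le_sup_left fun h => hxz (h ▸ Subgroup.mem_sup_right (Subgroup.mem_zpowers x))
      have h1 := Cfsg.Agent.Core.card_lt_of_lt hlt
      obtain ⟨a3, ha3⟩ := IsPGroup.iff_card.1
        (hG.to_subgroup (Subgroup.zpowers z ⊔ Subgroup.zpowers x))
      rw [ha3, hcz] at h1
      rw [ha3, ha2]
      refine Nat.pow_le_pow_right hp.out.pos ?_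
      by_contra h3
      have := Nat.pow_le_pow_right hp.out.pos (show a3 ≤ 1 by omega)
      rw [pow_one] at this
      omega
    exact sec_trivial (j := 1) (by rw [hx]; exact one_mem _) (by rwa [pow_one])
      (fun y hy => by rw [hfz y hy]; exact hy) (heq ▸ omegaOne_invariant α (mem_omegaOne.2 hx)) x
      (Subgroup.mem_sup_right (Subgroup.mem_zpowers x))
  -- the binomial expansion
  let u : AddMonoid.End (Additive G) := MonoidHom.toAdditive α.toMonoidHom
  let v : AddMonoid.End (Additive G) := u - 1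
  have hu : ∀ x : Additive G, u x = Additive.ofMul (α x.toMul) := fun _ => rfl
  have hv : ∀ x : Additive G, (v x).toMul = α x.toMul * x.toMul⁻¹ := by
    intro x
    show (u x - x).toMul = _
    rw [toMul_sub, hu, toMul_ofMul, div_eq_mul_inv]
  have hupow : ∀ (n : ℕ) (x : Additive G), (u ^ n) x = Additive.ofMul ((α ^ n) x.toMul) := by
    intro n
    induction n with
    | zero => intro x; rfl
    | succ n ih =>
      intro x
      rw [pow_succ', pow_succ', MulAut.mul_apply]
      show u ((u ^ n) x) = _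
      rw [ih, hu]
      rfl
  -- divisibility: `y ∈ p ^ i G`
  let Div : ℕ → Additive G → Prop := fun i y => ∃ z : Additive G, (p ^ i) • z = y
  have hDv : ∀ i y, Div i y → Div i (v y) := by
    rintro i _ ⟨w, rfl⟩
    exact ⟨v w, (map_nsmul v _ w).symm⟩
  have hDn : ∀ i y (c : ℕ), Div i y → Div i (c • y) := by
    rintro i _ c ⟨w, rfl⟩
    exact ⟨c • w, nsmul_left_comm _ _ _⟩
  have hsq' : ∀ y, Div 1 (v (v y)) := by
    intro y
    have h1 : ((y.toMul ^ p ^ (e - 1)) : G) ^ p = 1 := by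
      rw [← pow_mul, ← pow_succ, Nat.sub_add_cancel he0, hex]
    have h2 := hsq _ h1
    have h3 : (v (v y)).toMul ^ p ^ (e - 1) = 1 := by
      rw [hv, hv, mul_pow, inv_pow, ← map_pow α, mul_pow, inv_pow, ← map_pow α, h2, mul_inv_cancel]
    obtain ⟨q, hq⟩ : ∃ q : G, q ^ p = (v (v y)).toMul := by
      -- elements killed by `p ^ j`, `j < e`, are `p`-th powers
      have key : ∀ j, j < e → ∀ g : G, g ^ p ^ j = 1 → ∃ q : G, q ^ p = g := by
        intro j
        induction j with
        | zero =>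
          intro _ g hg
          rw [pow_zero, pow_one] at hg
          exact ⟨1, by rw [one_pow, hg]⟩
        | succ j ih =>
          intro hj g hg
          obtain ⟨w, hw⟩ := hpow (g ^ p ^ j) (by rw [← pow_mul, ← pow_succ, hg])
          obtain ⟨q, hq⟩ := ih (by omega) (g * (w ^ p ^ (e - 1 - j))⁻¹) (by
            rw [mul_pow, inv_pow, ← pow_mul w, ← pow_add, show e - 1 - j + j = e - 1 by omega, hw,
              mul_inv_cancel])
          obtain ⟨d, hd⟩ : ∃ d, e - 1 - j = d + 1 := ⟨e - 1 - j - 1, by omega⟩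
          refine ⟨q * w ^ p ^ d, ?_⟩
          rw [mul_pow, hq, ← pow_mul w, ← pow_succ, ← hd, inv_mul_cancel_right]
      exact key (e - 1) (by omega) _ h3
    exact ⟨Additive.ofMul q, by
      rw [pow_one]
      exact Additive.toMul.injective (by rw [toMul_nsmul, toMul_ofMul, hq])⟩
  have hterm : ∀ (i : ℕ), 2 ≤ i → ∀ y, Div 1 ((v ^ i) y) := by
    intro i hi y
    obtain ⟨k, rfl⟩ : ∃ k, i = k + 2 := ⟨i - 2, by omega⟩
    induction k with
    | zero =>
      rw [show (v ^ (0 + 2)) y = v (v y) by rw [pow_two]; rfl]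
      exact hsq' y
    | succ k ih =>
      rw [show k + 1 + 2 = (k + 2) + 1 by omega, pow_succ']
      exact hDv 1 _ (ih (by omega))
  have hvp : ∀ y, Div 2 ((v ^ p) y) := by
    intro y
    rw [show p = 2 + (p - 2) by omega, pow_add]
    obtain ⟨w, hw⟩ := hterm (p - 2) (by omega) y
    obtain ⟨w', hw'⟩ := hterm 2 le_rfl w
    refine ⟨w', ?_⟩
    show _ = (v ^ 2) ((v ^ (p - 2)) y)
    rw [← hw, map_nsmul, ← hw', ← mul_nsmul']
    congr 1
    ring
  have hmain : ∀ y, Div 2 (p • v y) := by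
    intro y
    have hzero : ((v + 1) ^ p) y = y := by
      rw [show v + 1 = u from sub_add_cancel u 1, hupow, hα]
      rfl
    have hcast : ∀ m, (v ^ m * 1 ^ (p - m) * (p.choose m : AddMonoid.End (Additive G))) y =
        (p.choose m) • (v ^ m) y := by
      intro m
      rw [one_pow, mul_one, ← nsmul_eq_mul']
      rfl
    have happ : ∀ (s : Finset ℕ) (f : ℕ → AddMonoid.End (Additive G)),
        (∑ i ∈ s, f i) y = ∑ i ∈ s, f i y := by
      intro s f
      induction s using Finset.induction with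
      | empty => rfl
      | insert a s ha ih =>
        rw [Finset.sum_insert ha, Finset.sum_insert ha, ← ih]
        rfl
    rw [(Commute.one_right v).add_pow, happ] at hzero
    rw [Finset.sum_congr rfl fun m _ => hcast m] at hzero
    obtain ⟨q, hq⟩ : ∃ q, q + 2 = p := ⟨p - 2, by omega⟩
    have hsum : Div 2 (∑ k ∈ Finset.range q, (p.choose (k + 2)) • (v ^ (k + 2)) y) := by
      refine Finset.sum_induction _ (fun z => Div 2 z) ?_ ⟨0, smul_zero _⟩ fun k hk => ?_
      · rintro _ _ ⟨c, rfl⟩ ⟨d, rfl⟩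
        exact ⟨c + d, smul_add _ _ _⟩
      · rw [Finset.mem_range] at hk
        obtain ⟨c, hc⟩ := hp.out.dvd_choose_self (k := k + 2) (by omega) (by omega)
        obtain ⟨w, hw⟩ := hterm (k + 2) (by omega) y
        refine ⟨c • w, ?_⟩
        rw [hc, ← hw, ← mul_nsmul', ← mul_nsmul']
        congr 1
        ring
    have he' : p • v y + ((∑ k ∈ Finset.range q, (p.choose (k + 2)) • (v ^ (k + 2)) y) + (v ^ p) y) = 0 := by
      rw [Finset.sum_range_succ, Nat.choose_self, one_smul] at hzero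
      nth_rw 1 [← hq] at hzero
      rw [Finset.sum_range_succ', Finset.sum_range_succ', Nat.choose_zero_right, one_smul, pow_zero,
        zero_add, Nat.choose_one_right, pow_one, AddMonoid.End.coe_one, id] at hzero
      have h9 : ∀ A B C : Additive G, A + B + y + C = y → B + (A + C) = 0 := by
        intro A B C h
        have h2 : A + B + C + y = y := (by abel : A + B + C + y = A + B + y + C).trans h
        rw [← add_eq_right.1 h2]
        abel
      exact h9 _ _ _ hzero
    obtain ⟨c, hc⟩ := hsum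
    obtain ⟨d, hd⟩ := hvp y
    exact ⟨-(c + d), by rw [smul_neg, smul_add, hc, hd, eq_neg_of_add_eq_zero_left he']⟩
  apply hx₀m
  obtain ⟨y, hy⟩ := hpow x₀ hx₀
  obtain ⟨w, hw⟩ := hmain (Additive.ofMul y)
  have h1 := congrArg Additive.toMul hw
  rw [toMul_nsmul, toMul_nsmul, hv, toMul_ofMul] at h1
  have h2 := congrArg (· ^ p ^ (e - 2)) h1
  simp only [← pow_mul, ← pow_add, ← pow_succ'] at h2
  rw [show 2 + (e - 2) = e by omega, hex, show e - 2 + 1 = e - 1 by omega, mul_pow, inv_pow,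
    ← map_pow, hy, eq_comm, mul_inv_eq_one] at h2
  exact h2

end Cfsg.Agent.FusSys
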