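import Cfsg.Agent.FusSys.EssentialSmall
import Cfsg.Agent.FusSys.RankTwoCore
import Cfsg.Agent.Fusion.Critical

/-!
Abelian essential subgroups of rank two.
-/

set_option autoImplicit false

namespace Cfsg.Agent.FusSys

open Cfsg Cfsg.FusionSystem

universe u

variable {Ω : Type u} [Group Ω] {S : Subgroup Ω} {F : FusionSystem S} {H : Subgroup Ω} {p : ℕ}

variable [Fact p.Prime] [Finite S]

theorem pCore_autGroup_eq_bot (hab : IsMulCommutative H) (hH : F.IsEssential p H) :
    pCore p (F.autGroup H) = ⊥ := by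
  obtain ⟨hc, -, hn, E, hE⟩ := hH
  haveI := finite_of_le hc.1
  haveI : Finite (MulAut H) := Finite.of_injective _ MulEquiv.toEquiv_injective
  haveI : (innIn F H).Normal := hn
  have hbot := pCore_eq_bot_of_stronglyPEmbedded hE
  have hn2 := (inferInstance : (pCore p (F.autGroup H)).Normal).map (QuotientGroup.mk' (innIn F H))
    (QuotientGroup.mk'_surjective _)
  have h1 : (pCore p (F.autGroup H)).map (QuotientGroup.mk' (innIn F H)) ≤ ⊥ :=
    hbot ▸ Cfsg.Agent.Core.le_pCore (hN := hn2) ((Cfsg.Agent.Core.pCore_isPGroup).map _)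
  rw [le_bot_iff, Subgroup.map_eq_bot_iff, QuotientGroup.ker_mk'] at h1
  refine le_bot_iff.1 fun α hα => ?_
  obtain ⟨g, hg⟩ := Subgroup.mem_subgroupOf.1 (h1 hα)
  refine Subgroup.mem_bot.2 (Subtype.ext ?_)
  rw [← hg, OneMemClass.coe_one]
  refine MulEquiv.ext fun x => ?_
  rw [MulAut.conj_apply, hab.is_comm.comm g x, mul_inv_cancel_right, MulAut.one_apply]

theorem abelian_essential_shape (hS : IsPGroup p S) (hH : F.IsEssential p H)
    (hab : IsMulCommutative H) (hrk : (frattini ↥H).index ≤ p ^ 2) :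
    (Cfsg.IsElementaryAbelian p H ∧ Nat.card H = p ^ 2) ∨
      (p ≤ 3 ∧ ∃ k : ℕ, Nonempty (↥H ≃* Multiplicative (ZMod (p ^ k) × ZMod (p ^ k)))) := by
  haveI := finite_of_le hH.1.1
  letI : CommGroup H := { (inferInstance : Group H) with mul_comm := hab.is_comm.comm }
  have hHp : IsPGroup p H := hS.to_le hH.1.1
  have hrk' : Nat.card (omegaOne p H) ≤ p ^ 2 := by
    obtain ⟨R, hR⟩ : ∃ R, R = (powMonoidHom p : H →* H).range := ⟨_, rfl⟩
    have hle : frattini H ≤ R := Cfsg.Agent.Fusion.frattini_le_of_elementary (p := p) R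
      (by
        rw [commutator_def, Subgroup.commutator_le]
        intro a _ b _
        rw [commutatorElement_eq_one_iff_mul_comm.2 (mul_comm a b)]
        exact R.one_mem)
      (fun x => hR ▸ ⟨x, rfl⟩)
    have h1 : R.index ≤ p ^ 2 :=
      (Nat.le_of_dvd (Nat.pos_of_ne_zero (Subgroup.index_ne_zero_of_finite))
        (Subgroup.index_dvd_of_le hle)).trans hrk
    have h2 := R.card_mul_index
    have h3 := (omegaOne p H).card_mul_index
    rw [omegaOne, Subgroup.index_ker, ← hR] at h3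
    rw [← h3, mul_comm (Nat.card R)] at h2
    exact (Nat.eq_of_mul_eq_mul_right Nat.card_pos h2).symm.le.trans h1
  obtain ⟨e, he0, ⟨f⟩, he⟩ := shape_of_pCore_bot (F.autGroup H) (pCore_autGroup_eq_bot hab hH)
    (exists_two_sylow_of_essential hab hH).1 hHp hrk'
  by_cases he1 : e = 1
  · left
    subst he1
    haveI : NeZero (p ^ 1) := ⟨pow_ne_zero _ (Fact.out : p.Prime).ne_zero⟩
    refine ⟨⟨hab, fun a ha => ?_⟩, ?_⟩
    · refine congrArg Subtype.val (f.injective (?_ : f (⟨a, ha⟩ ^ p) = f 1))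
      apply Multiplicative.toAdd.injective
      rw [map_pow, map_one, toAdd_pow, toAdd_one]
      have h0 : ((p : ℕ) : ZMod (p ^ 1)) = 0 := by
        rw [ZMod.natCast_eq_zero_iff, pow_one]
      refine Prod.ext ?_ ?_ <;> simp [nsmul_eq_mul, h0]
    · rw [Nat.card_congr f.toEquiv, Nat.card_congr Multiplicative.toAdd, Nat.card_prod, Nat.card_zmod,
        pow_one, pow_two]
  · exact Or.inr ⟨he.resolve_left he1, e, ⟨f⟩⟩

end Cfsg.Agent.FusSys
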