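import Cfsg.Agent.FusSys.EssentialChain
import Cfsg.Agent.FusSys.EssentialAbelian
import Cfsg.Agent.FusSys.MetaTwo
import Cfsg.Agent.S3053

/-!
Groups of order `p ^ 3` and essential subgroups of that order.
-/

set_option autoImplicit false

open scoped commutatorElement

namespace Cfsg.Agent.FusSys

open Cfsg Cfsg.FusionSystem Subgroup

universe u

section Cube

variable {R : Type u} [Group R] [Finite R] {p : ℕ} [Fact p.Prime]

/-- A nonabelian group of order `p ^ 3` is extraspecial. -/
theorem extraspecial_of_cube (hcard : Nat.card R = p ^ 3) (hab : ¬ IsMulCommutative R) :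
    IsExtraspecial p R := by
  have hp : p.Prime := Fact.out
  have hR : IsPGroup p R := IsPGroup.of_card hcard
  haveI : Nontrivial R := Finite.one_lt_card_iff_nontrivial.1
    (hcard ▸ one_lt_pow₀ hp.one_lt (by norm_num))
  haveI := hR.center_nontrivial
  obtain ⟨j, hj, hcZ⟩ := (Nat.dvd_prime_pow hp).1 (hcard ▸ card_subgroup_dvd_card (center R))
  have hidx : (center R).index = p ^ (3 - j) := by
    have h := (center R).card_mul_index
    rw [hcZ, hcard, ← Nat.add_sub_cancel' hj, pow_add] at h
    exact Nat.eq_of_mul_eq_mul_left (pow_pos hp.pos _) h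
  have hncyc : ¬ IsCyclic (R ⧸ center R) := fun h =>
    hab ⟨⟨fun a b => commutative_of_cyclic_center_quotient (QuotientGroup.mk' (center R))
      (by rw [QuotientGroup.ker_mk']) a b⟩⟩
  have hj0 : j ≠ 0 := by
    rintro rfl
    rw [pow_zero] at hcZ
    exact absurd hcZ (Finite.one_lt_card.ne')
  have hj1 : j = 1 := by
    by_contra h
    refine hncyc ?_
    rcases (by omega : j = 2 ∨ j = 3) with rfl | rfl
    · exact isCyclic_of_prime_card (p := p) (by rw [← index_eq_card, hidx, pow_one])
    · haveI : Subsingleton (R ⧸ center R) := (Nat.card_eq_one_iff_unique.1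
        (by rw [← index_eq_card, hidx, pow_zero])).1
      exact isCyclic_of_subsingleton
  subst hj1
  rw [pow_one] at hcZ
  have hq : Nat.card (R ⧸ center R) = p ^ 2 := by rw [← index_eq_card, hidx]
  have hle : _root_.commutator R ≤ center R := by
    haveI := IsPGroup.isMulCommutative_of_card_eq_prime_sq hq
    rw [_root_.commutator_def, Subgroup.commutator_le]
    intro a _ b _
    rw [← QuotientGroup.eq_one_iff, ← QuotientGroup.mk'_apply, map_commutatorElement,
      commutatorElement_eq_one_iff_mul_comm]
    exact IsMulCommutative.is_comm.comm _ _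
  have hcomm : _root_.commutator R = center R := by
    refine eq_of_le_of_card_ge hle ?_
    have hne : _root_.commutator R ≠ ⊥ := fun h => hab ⟨⟨fun a b =>
      commutatorElement_eq_one_iff_mul_comm.1 (by
        rw [← mem_bot, ← h]; exact commutator_mem_commutator (mem_top a) (mem_top b))⟩⟩
    haveI := (nontrivial_iff_ne_bot _).2 hne
    obtain ⟨i, -, hi⟩ := (Nat.dvd_prime_pow hp).1 (hcard ▸ card_subgroup_dvd_card (_root_.commutator R))
    have h1 : 1 < Nat.card (_root_.commutator R) := Finite.one_lt_card
    rw [hi] at h1 ⊢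
    rw [hcZ]
    exact Nat.le_self_pow (fun h => by simp [h] at h1) p
  have hfrat : frattini R = center R := by
    refine le_antisymm (Fusion.frattini_le_of_elementary (p := p) _ hle fun a => ?_) ?_
    · rw [← QuotientGroup.eq_one_iff, QuotientGroup.mk_pow]
      by_contra hne
      obtain ⟨i, hi2, hi⟩ := (Nat.dvd_prime_pow hp).1 (hq ▸ orderOf_dvd_natCard (a : R ⧸ center R))
      rcases (by omega : i ≤ 1 ∨ i = 2) with h1 | rfl
      · exact hne (orderOf_dvd_iff_pow_eq_one.1 (hi.dvd.trans ((pow_dvd_pow p h1).trans (pow_one p).dvd)))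
      · exact hncyc (isCyclic_of_orderOf_eq_card _ (hi.trans hq.symm))
    · haveI := hR.isNilpotent
      exact hcomm ▸ Core.commutator_le_frattini
  exact ⟨⟨hR, hfrat, hcomm⟩, hcZ⟩

/-- In an extraspecial group of odd exponent-`p ^ 2` type the elements with trivial `p`-th power form a
subgroup of index `p`. -/
theorem exists_omega_index (h : IsExtraspecial p R) (hp2 : p ≠ 2) (hexp : ∃ a : R, a ^ p ≠ 1) :
    ∃ K : Subgroup R, center R ≤ K ∧ K.index = p ∧ ∀ x, x ∈ K ↔ x ^ p = 1 := by
  have hp : p.Prime := Fact.out
  let θ : R →* R :=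
    { toFun := fun x => x ^ p
      map_one' := one_pow _
      map_mul' := fun a b => by
        obtain ⟨c, hc⟩ := hp.dvd_choose_self two_ne_zero (lt_of_le_of_ne hp.two_le (Ne.symm hp2))
        rw [S3053.mul_pow_class_two
          (fun g => mem_center_iff.1 (Fusion.es_commutator_mem h b a) g) p, hc, pow_mul,
          Fusion.es_center_pow h (Fusion.es_commutator_mem h b a), one_pow, mul_one] }
  refine ⟨θ.ker, fun z hz => Fusion.es_center_pow h hz, ?_, fun x => Iff.rfl⟩
  have hle : θ.range ≤ center R := by
    rintro - ⟨x, rfl⟩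
    exact Fusion.es_pow_mem_center h x
  rw [index_ker]
  obtain ⟨a, ha⟩ := hexp
  rcases hp.eq_one_or_self_of_dvd _ (h.2 ▸ card_dvd_of_le hle) with h1 | h1
  · refine absurd ?_ ha
    have h2 : a ^ p ∈ θ.range := ⟨a, rfl⟩
    rw [eq_bot_of_card_eq _ h1, mem_bot] at h2
    exact h2
  · exact h1

/-- A nonabelian group of order eight is metacyclic. -/
theorem metacyclic_of_eight (hcard : Nat.card R = 2 ^ 3) (hab : ¬ IsMulCommutative R) :
    Cfsg.IsMetacyclic R := by
  haveI : Fact (Nat.Prime 2) := ⟨Nat.prime_two⟩
  have h : ∃ a : R, a ^ 2 ≠ 1 := by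
    by_contra! h
    refine hab ⟨⟨fun a b => ?_⟩⟩
    have e : ∀ x : R, x⁻¹ = x := fun x => inv_eq_of_mul_eq_one_right (by rw [← pow_two]; exact h x)
    have := e (a * b)
    rw [mul_inv_rev, e, e] at this
    exact this.symm
  obtain ⟨a, ha⟩ := h
  obtain ⟨i, hi3, hi⟩ := (Nat.dvd_prime_pow Nat.prime_two).1 (hcard ▸ orderOf_dvd_natCard a)
  have hi2 : i = 2 := by
    by_contra h
    rcases (by omega : i ≤ 1 ∨ i = 3) with h1 | rfl
    · exact ha (orderOf_dvd_iff_pow_eq_one.1 (hi.dvd.trans ((pow_dvd_pow 2 h1).trans (pow_one 2).dvd)))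
    · haveI := isCyclic_of_orderOf_eq_card a (hi.trans hcard.symm)
      letI : CommGroup R := IsCyclic.commGroup
      exact hab ⟨⟨mul_comm⟩⟩
  subst hi2
  have hidx : (zpowers a).index = 2 := by
    have h := (zpowers a).card_mul_index
    rw [Nat.card_zpowers, hi, hcard] at h
    omega
  haveI := normal_of_index_eq_two hidx
  exact ⟨zpowers a, inferInstance, inferInstance,
    isCyclic_of_prime_card (p := 2) (by rw [← index_eq_card, hidx])⟩

end Cube

variable {Ω : Type u} [Group Ω] {S : Subgroup Ω} {F : FusionSystem S} {H : Subgroup Ω} {p : ℕ}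
variable [Fact p.Prime] [Finite S]

theorem essential_cube (hS : IsPGroup p S) (hF : F.IsSaturated p) (hH : F.IsEssential p H)
    (hcard : Nat.card H = p ^ 3) :
    Cfsg.IsElementaryAbelian p H ∨ (Odd p ∧ Cfsg.IsExtraspecial p ↥H ∧ ∀ x ∈ H, x ^ p = 1) ∨
      (p = 2 ∧ Nonempty (↥H ≃* QuaternionGroup 2)) := by
  have hp : p.Prime := Fact.out
  haveI := finite_of_le hH.1.1
  by_cases hab : IsMulCommutative H
  · refine Or.inl ⟨hab, ?_⟩
    by_contra! hne
    obtain ⟨a, ha, hap⟩ := hne
    have hrk : (frattini H).index ≤ p ^ 2 := by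
      have hR : IsPGroup p H := hS.to_le hH.1.1
      have hmem := Core.pow_mem_frattini hR (⟨a, ha⟩ : H)
      have h1 : 1 < Nat.card (frattini H) := by
        haveI : Nontrivial (frattini H) := (nontrivial_iff_ne_bot _).2 fun h => by
          rw [h, mem_bot] at hmem
          exact hap (congrArg Subtype.val hmem)
        exact Finite.one_lt_card
      obtain ⟨i, hi3, hi⟩ := (Nat.dvd_prime_pow hp).1 (hcard ▸ card_subgroup_dvd_card (frattini H))
      have h2 := (frattini H).card_mul_index
      rw [hi, hcard] at h2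
      have hi1 : 1 ≤ i := Nat.one_le_iff_ne_zero.2 fun h => by simp [hi, h] at h1
      have h3 : (frattini H).index = p ^ (3 - i) := by
        refine Nat.eq_of_mul_eq_mul_left (pow_pos hp.pos i) ?_
        rw [h2, ← pow_add, Nat.add_sub_cancel' hi3]
      rw [h3]
      exact Nat.pow_le_pow_right hp.pos (by omega)
    rcases abelian_essential_shape hS hH hab hrk with ⟨-, h⟩ | ⟨-, k, ⟨e⟩⟩
    · rw [hcard] at h
      exact absurd (Nat.pow_right_injective hp.two_le h) (by norm_num)
    · have h := Nat.card_congr e.toEquiv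
      rw [hcard, Nat.card_congr Multiplicative.toAdd, Nat.card_prod, Nat.card_zmod, ← pow_add] at h
      have := Nat.pow_right_injective hp.two_le h
      omega
  · have hES := extraspecial_of_cube hcard hab
    rcases eq_or_ne p 2 with rfl | hp2
    · refine Or.inr (Or.inr ⟨rfl, ?_⟩)
      haveI : Finite (MulAut H) := Finite.of_injective _ MulEquiv.toEquiv_injective
      obtain ⟨α, hodd, hne⟩ : ∃ α : MulAut H, Odd (orderOf α) ∧ α ≠ 1 := by
        by_contra! hall
        refine not_essential_of_isPGroup hS hF (fun α => ?_) hH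
        obtain ⟨k, m, hm, hkm⟩ := Nat.exists_eq_pow_mul_and_not_dvd (orderOf_pos (α : MulAut H)).ne'
          2 (by norm_num)
        refine ⟨k, Subtype.ext ?_⟩
        rw [SubmonoidClass.coe_pow, OneMemClass.coe_one]
        refine hall _ ?_
        rw [orderOf_pow_of_dvd (by positivity) (hkm ▸ Dvd.intro m rfl), hkm,
          Nat.mul_div_cancel_left _ (by positivity)]
        exact Nat.not_even_iff_odd.1 fun h => hm (even_iff_two_dvd.1 h)
      rcases MetaTwo.classify (hS.to_le hH.1.1) (metacyclic_of_eight hcard hab) hodd hne with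
        ⟨k, x, -, hHC, -⟩ | h
      · exact absurd ⟨⟨hHC.1⟩⟩ hab
      · exact h
    · refine Or.inr (Or.inl ⟨hp.odd_of_ne_two hp2, hES, ?_⟩)
      by_contra! hne
      obtain ⟨a, ha, hap⟩ := hne
      obtain ⟨K, hZK, hK, hmemK⟩ := exists_omega_index hES hp2
        ⟨(⟨a, ha⟩ : H), fun h => hap (congrArg Subtype.val h)⟩
      set D : ℕ → Subgroup H := fun i => if i = 0 then ⊥ else if i = 1 then center H
        else if i = 2 then K else ⊤ with hD
      have hmono : Monotone D := monotone_nat_of_le_succ fun i => by
        match i with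
        | 0 => exact bot_le
        | 1 => exact hZK
        | 2 => exact le_top
        | i + 3 => exact le_top
      refine not_essential_of_chain hS hmono (n := 3) rfl rfl (fun α _ i hi x => ?_) (fun i hi => ?_) hH
      · match i with
        | 0 => exact by simp [hD]
        | 1 =>
          have h1 := Subgroup.characteristic_iff_comap_eq.1 (inferInstance : (center H).Characteristic) α
          show α x ∈ center H ↔ x ∈ center H
          conv_rhs => rw [← h1]
          rfl
        | 2 =>
          show α x ∈ K ↔ x ∈ K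
          rw [hmemK, hmemK, ← map_pow, map_eq_one_iff _ α.injective]
        | i + 3 => exact by simp [hD]
      · match i with
        | 0 => exact (relIndex_bot_left (center H)).trans_le hES.2.le
        | 1 =>
          show (center H).relIndex K ≤ p
          refine le_of_eq (Nat.eq_of_mul_eq_mul_right hp.pos ?_)
          have h1 := relIndex_mul_index hZK
          have h2 := (center H).card_mul_index
          rw [hK] at h1
          rw [← h1, hES.2, hcard] at h2
          exact Nat.eq_of_mul_eq_mul_left hp.pos (h2.trans (by ring))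
        | 2 => exact ((relIndex_top_right K).trans hK).le
        | i + 3 => omega

end Cfsg.Agent.FusSys
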