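import Cfsg.Agent.FusSys.EssentialFourAux

/-!
Essential subgroups of order `p ^ 4`.
-/

set_option autoImplicit false

open scoped commutatorElement

namespace Cfsg.Agent.FusSys.Four

open Cfsg Cfsg.FusionSystem Subgroup

universe u

section Groups

variable {p : ℕ} [Fact p.Prime]

theorem apply_mem_iff {G : Type*} [Group G] {A : Subgroup G} [hA : A.Characteristic] (α : MulAut G)
    (x : G) : α x ∈ A ↔ x ∈ A := by
  conv_rhs => rw [← characteristic_iff_comap_eq.1 hA α]
  rfl

theorem exists_zmodHom {G : Type*} [CommGroup G] (n : ℕ) {g : G} (hg : g ^ n = 1) :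
    ∃ f : Multiplicative (ZMod n) →* G, f (Multiplicative.ofAdd 1) = g := by
  have h0 : zmultiplesHom (Additive G) (Additive.ofMul g) (n : ℤ) = 0 := by
    simp only [zmultiplesHom_apply, natCast_zsmul]
    exact congrArg Additive.ofMul hg
  refine ⟨AddMonoidHom.toMultiplicativeLeft (ZMod.lift n ⟨_, h0⟩), ?_⟩
  show Additive.toMul (ZMod.lift n ⟨_, h0⟩ 1) = g
  rw [show (1 : ZMod n) = ((1 : ℤ) : ZMod n) by norm_num, ZMod.lift_coe]
  simp

theorem abelian_211 {G : Type*} [CommGroup G] [Finite G] (hcard : Nat.card G = p ^ 4)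
    (hf : Nat.card (frattini G) = p) (hexp : ∃ a : G, a ^ p ≠ 1) :
    Nonempty (G ≃* Multiplicative (ZMod (p ^ 2) × ZMod p × ZMod p)) := by
  have hp : p.Prime := Fact.out
  have hG : IsPGroup p G := IsPGroup.of_card hcard
  obtain ⟨a, ha⟩ := hexp
  have hmem : ∀ x : G, x ^ p ∈ frattini G := fun x => Core.pow_mem_frattini hG x
  have hpp : ∀ x : G, (x ^ p) ^ p = 1 := fun x => by
    have h := congrArg Subtype.val (pow_card_eq_one' (x := (⟨_, hmem x⟩ : frattini G)))
    rw [hf] at h
    exact h
  set Ω := (powMonoidHom p : G →* G).ker with hΩ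
  have hΩc : Nat.card Ω = p ^ 3 := by
    have h1 : Ω.index = p := by
      rw [hΩ, index_ker]
      have hle : (powMonoidHom p : G →* G).range ≤ frattini G := by rintro - ⟨x, rfl⟩; exact hmem x
      rcases hp.eq_one_or_self_of_dvd _ (hf ▸ card_dvd_of_le hle) with h | h
      · refine absurd ?_ ha
        have h2 : a ^ p ∈ (powMonoidHom p : G →* G).range := ⟨a, rfl⟩
        rw [eq_bot_of_card_eq _ h, mem_bot] at h2
        exact h2
      · exact h
    have h2 := Ω.card_mul_index
    rw [h1, hcard] at h2
    exact Nat.eq_of_mul_eq_mul_right hp.pos (h2.trans (by ring))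
  have hapo : Nat.card (zpowers (a ^ p)) = p := by rw [Nat.card_zpowers]; exact orderOf_eq_prime (hpp a) ha
  have hA : zpowers (a ^ p) ≤ Ω := zpowers_le.2 (hpp a)
  obtain ⟨b, hbΩ, hb⟩ : ∃ b ∈ Ω, b ∉ zpowers (a ^ p) := by
    by_contra! h
    have := card_le_of_le (show Ω ≤ zpowers (a ^ p) from h)
    rw [hapo, hΩc] at this
    have := Nat.pow_lt_pow_right hp.one_lt (show 1 < 3 by norm_num)
    rw [pow_one] at this
    omega
  set B := zpowers (a ^ p) ⊔ zpowers b with hB
  have hBle : Nat.card B ≤ p * p := by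
    refine (Nat.card_le_card_of_surjective
      (fun q : zpowers (a ^ p) × zpowers b => (⟨q.1 * q.2, mul_mem_sup q.1.2 q.2.2⟩ : B)) ?_).trans ?_
    · rintro ⟨x, hx⟩
      obtain ⟨y, hy, z, hz, rfl⟩ := mem_sup.1 hx
      exact ⟨(⟨y, hy⟩, ⟨z, hz⟩), rfl⟩
    · rw [Nat.card_prod, hapo, Nat.card_zpowers]
      exact Nat.mul_le_mul_left p (Nat.le_of_dvd hp.pos (orderOf_dvd_of_pow_eq_one hbΩ))
  obtain ⟨c, hcΩ, hc⟩ : ∃ c ∈ Ω, c ∉ B := by
    by_contra! h
    have := (card_le_of_le (show Ω ≤ B from h)).trans hBle
    rw [hΩc, ← pow_two] at this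
    have := Nat.pow_lt_pow_right hp.one_lt (show 2 < 3 by norm_num)
    omega
  obtain ⟨fa, hfa⟩ := exists_zmodHom (p ^ 2) (g := a) (by rw [pow_two, pow_mul]; exact hpp a)
  obtain ⟨fb, hfb⟩ := exists_zmodHom p (g := b) hbΩ
  obtain ⟨fc, hfc⟩ := exists_zmodHom p (g := c) hcΩ
  let f : Multiplicative (ZMod (p ^ 2) × ZMod p × ZMod p) →* G :=
    (fa.coprod (fb.coprod fc)).comp
      (((MonoidHom.id _).prodMap (MulEquiv.prodMultiplicative (ZMod p) (ZMod p)).toMonoidHom).comp
        (MulEquiv.prodMultiplicative (ZMod (p ^ 2)) (ZMod p × ZMod p)).toMonoidHom)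
  have e : ∀ i j k, f (Multiplicative.ofAdd (i, j, k)) =
      fa (Multiplicative.ofAdd i) * (fb (Multiplicative.ofAdd j) * fc (Multiplicative.ofAdd k)) :=
    fun i j k => rfl
  have hL : f.range = ⊤ := by
    have haL : a ∈ f.range := ⟨Multiplicative.ofAdd (1, 0, 0), by rw [e, hfa]; simp⟩
    have hbL : b ∈ f.range := ⟨Multiplicative.ofAdd (0, 1, 0), by rw [e, hfb]; simp⟩
    have hcL : c ∈ f.range := ⟨Multiplicative.ofAdd (0, 0, 1), by rw [e, hfc]; simp⟩
    have h1 : zpowers (a ^ p) < B := lt_of_le_of_ne le_sup_left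
      fun he => hb (he.symm ▸ (le_sup_right : zpowers b ≤ B) (mem_zpowers b))
    have h2 : B < B ⊔ zpowers c := lt_of_le_of_ne le_sup_left
      fun he => hc (he.symm ▸ (le_sup_right : zpowers c ≤ _) (mem_zpowers c))
    have hle : B ⊔ zpowers c ≤ Ω := sup_le (sup_le hA (zpowers_le.2 hbΩ)) (zpowers_le.2 hcΩ)
    have hle' : B ⊔ zpowers c ≤ f.range :=
      sup_le (sup_le (zpowers_le.2 (pow_mem haL p)) (zpowers_le.2 hbL)) (zpowers_le.2 hcL)
    have h3 : B ⊔ zpowers c < f.range := lt_of_le_of_ne hle' fun he => ha (hle (he.symm ▸ haL))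
    refine eq_top_of_le_card _ ?_
    have := card_step hG h1
    rw [hapo] at this
    calc Nat.card G = p * p * p * p := by rw [hcard]; ring
      _ ≤ _ := (Nat.mul_le_mul_right p ((Nat.mul_le_mul_right p this).trans (card_step hG h2))).trans
        (card_step hG h3)
  refine ⟨(MulEquiv.ofBijective f ((Nat.bijective_iff_surjective_and_card f).2
    ⟨MonoidHom.range_eq_top.1 hL, ?_⟩)).symm⟩
  rw [Nat.card_congr Multiplicative.toAdd, Nat.card_prod, Nat.card_prod, Nat.card_zmod, Nat.card_zmod, hcard]
  ring

/-- A group of exponent `p`, or quaternion, times a group of order `p`. -/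
theorem exists_complement {R : Type*} [Group R] [Finite R] (hcard : Nat.card R = p ^ 4)
    (hab : ¬ IsMulCommutative R) {u : R} (hu : u ∈ center R) (hu1 : u ^ p = 1) (huf : u ∉ frattini R) :
    ∃ M : Subgroup R, u ∉ M ∧ Nat.card M = p ^ 3 ∧ ¬ IsMulCommutative M ∧
      Nonempty (R ≃* M × Multiplicative (ZMod p)) := by
  have hp : p.Prime := Fact.out
  have hR : IsPGroup p R := IsPGroup.of_card hcard
  obtain ⟨M, hM, huM⟩ : ∃ M : Subgroup R, IsCoatom M ∧ u ∉ M := by
    by_contra! h
    refine huf ?_
    rw [frattini, Order.radical]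
    simp only [mem_iInf]
    exact fun M hM => h M hM
  have huo : orderOf u = p := orderOf_eq_prime hu1 fun h => huM (h ▸ one_mem _)
  have hdisj : M ⊓ zpowers u = ⊥ := by
    have hdvd := card_dvd_of_le (inf_le_right : M ⊓ zpowers u ≤ zpowers u)
    rw [Nat.card_zpowers, huo] at hdvd
    rcases hp.eq_one_or_self_of_dvd _ hdvd with h | h
    · exact eq_bot_of_card_eq _ h
    · exact absurd (inf_le_left (a := M) ((eq_of_le_of_card_ge (inf_le_right : M ⊓ zpowers u ≤ zpowers u)
        (by rw [h, Nat.card_zpowers, huo])).symm ▸ mem_zpowers u)) huM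
  let f : M × zpowers u →* R :=
    { toFun := fun q => q.1 * q.2
      map_one' := by simp
      map_mul' := fun q r => by
        have h := mem_center_iff.1 (zpowers_le.2 hu q.2.2)
        show ((q.1 : R) * r.1) * ((q.2 : R) * r.2) = ((q.1 : R) * q.2) * ((r.1 : R) * r.2)
        rw [mul_assoc, ← mul_assoc (r.1 : R), h (r.1 : R), mul_assoc, mul_assoc] }
  have hinj : Function.Injective f := by
    refine (injective_iff_map_eq_one f).2 fun q hq => ?_
    change (q.1 : R) * q.2 = 1 at hq
    have h1 : (q.1 : R) ∈ M ⊓ zpowers u :=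
      ⟨q.1.2, (eq_inv_of_mul_eq_one_left hq).symm ▸ Subgroup.inv_mem _ q.2.2⟩
    rw [hdisj, mem_bot] at h1
    rw [h1, one_mul] at hq
    exact Prod.ext (Subtype.ext h1) (Subtype.ext hq)
  have hrange : f.range = ⊤ := by
    refine hM.2 _ (lt_of_le_of_ne (fun m hm => ⟨(⟨m, hm⟩, 1), by simp [f]⟩) fun he => huM ?_)
    rw [he]
    exact ⟨(1, ⟨u, mem_zpowers u⟩), by simp [f]⟩
  let e : M × zpowers u ≃* R := MulEquiv.ofBijective f ⟨hinj, MonoidHom.range_eq_top.1 hrange⟩
  have hcz : Nat.card (zpowers u) = p := by rw [Nat.card_zpowers, huo]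
  have hMc : Nat.card M = p ^ 3 := by
    have h := Nat.card_congr e.toEquiv
    rw [Nat.card_prod, hcz, hcard] at h
    exact Nat.eq_of_mul_eq_mul_right hp.pos (h.trans (by ring))
  refine ⟨M, huM, hMc, fun hMab => hab ⟨⟨fun x y => ?_⟩⟩, ⟨e.symm.trans (MulEquiv.prodCongr (MulEquiv.refl M)
    (mulEquivOfPrimeCardEq hcz (by rw [Nat.card_congr Multiplicative.toAdd, Nat.card_zmod])))⟩⟩
  obtain ⟨q, rfl⟩ := e.surjective x
  obtain ⟨r, rfl⟩ := e.surjective y
  rw [← map_mul, ← map_mul]
  congr 1
  exact Prod.ext (hMab.is_comm.comm _ _)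
    (Subtype.ext (mem_center_iff.1 (zpowers_le.2 hu r.2.2) _))

/-- A finite group has a copy on a small type. -/
theorem exists_small {M : Type u} [Group M] [Finite M] :
    ∃ (E : Type) (_ : Group E) (_ : Finite E), Nonempty (M ≃* E) := by
  exact ⟨Shrink.{0} M, inferInstance, inferInstance, ⟨(Shrink.mulEquiv).symm⟩⟩

end Groups

variable {Ω : Type u} [Group Ω] {S : Subgroup Ω} {F : FusionSystem S} {H : Subgroup Ω} {p : ℕ}
variable [Fact p.Prime] [Finite S]

theorem abelian_case (hS : IsPGroup p S) (hH : F.IsEssential p H) (hcard : Nat.card H = p ^ 4)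
    (hab : IsMulCommutative H) :
    Cfsg.IsElementaryAbelian p H ∨
      Nonempty (↥H ≃* Multiplicative (ZMod (p ^ 2) × ZMod p × ZMod p)) ∨
      ((p = 2 ∨ p = 3) ∧ Nonempty (↥H ≃* Multiplicative (ZMod (p ^ 2) × ZMod (p ^ 2)))) := by
  have hp : p.Prime := Fact.out
  haveI := finite_of_le hH.1.1
  by_cases hexp : ∀ a ∈ H, a ^ p = 1
  · exact Or.inl ⟨hab, hexp⟩
  push Not at hexp
  obtain ⟨a, ha, hap⟩ := hexp
  have hR : IsPGroup p H := hS.to_le hH.1.1
  obtain ⟨i, hi4, hi⟩ := (Nat.dvd_prime_pow hp).1 (hcard ▸ card_subgroup_dvd_card (frattini H))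
  have hi0 : i ≠ 0 := by
    rintro rfl
    have hmem := Core.pow_mem_frattini hR (⟨a, ha⟩ : H)
    rw [eq_bot_of_card_eq _ (hi.trans (pow_zero p)), mem_bot] at hmem
    exact hap (congrArg Subtype.val hmem)
  by_cases hi1 : i = 1
  · subst hi1
    rw [pow_one] at hi
    letI : CommGroup H := { (inferInstance : Group H) with mul_comm := hab.is_comm.comm }
    exact Or.inr (Or.inl (abelian_211 hcard hi ⟨⟨a, ha⟩, fun h => hap (congrArg Subtype.val h)⟩))
  have hrk : (frattini H).index ≤ p ^ 2 := by
    have h2 := (frattini H).card_mul_index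
    rw [hi, hcard] at h2
    have h3 : (frattini H).index = p ^ (4 - i) := by
      refine Nat.eq_of_mul_eq_mul_left (pow_pos hp.pos i) ?_
      rw [h2, ← pow_add, Nat.add_sub_cancel' hi4]
    rw [h3]
    exact Nat.pow_le_pow_right hp.pos (by omega)
  rcases abelian_essential_shape hS hH hab hrk with ⟨-, h⟩ | ⟨hp3, k, ⟨e⟩⟩
  · rw [hcard] at h
    exact absurd (Nat.pow_right_injective hp.two_le h) (by norm_num)
  · have h := Nat.card_congr e.toEquiv
    rw [hcard, Nat.card_congr Multiplicative.toAdd, Nat.card_prod, Nat.card_zmod, ← pow_add] at h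
    have h' := Nat.pow_right_injective hp.two_le h
    obtain rfl : k = 2 := by omega
    refine Or.inr (Or.inr ⟨?_, ⟨e⟩⟩)
    have := hp.two_le
    omega

theorem center_card (hS : IsPGroup p S) (hH : F.IsEssential p H) (hcard : Nat.card H = p ^ 4)
    (hab : ¬ IsMulCommutative H) : Nat.card (center H) = p ^ 2 := by
  have hp : p.Prime := Fact.out
  haveI := finite_of_le hH.1.1
  have hR : IsPGroup p H := hS.to_le hH.1.1
  haveI : Nontrivial H := Finite.one_lt_card_iff_nontrivial.1
    (hcard ▸ one_lt_pow₀ hp.one_lt (by norm_num))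
  haveI := hR.center_nontrivial
  obtain ⟨j, hj, hcZ⟩ := (Nat.dvd_prime_pow hp).1 (hcard ▸ card_subgroup_dvd_card (center H))
  have hidx : (center H).index = p ^ (4 - j) := by
    have h := (center H).card_mul_index
    rw [hcZ, hcard, ← Nat.add_sub_cancel' hj, pow_add] at h
    exact Nat.eq_of_mul_eq_mul_left (pow_pos hp.pos _) h
  have hj0 : j ≠ 0 := by
    rintro rfl
    rw [pow_zero] at hcZ
    exact absurd hcZ (Finite.one_lt_card.ne')
  have hncyc : ¬ IsCyclic (H ⧸ center H) := fun h =>
    hab ⟨⟨fun a b => commutative_of_cyclic_center_quotient (QuotientGroup.mk' (center H))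
      (by rw [QuotientGroup.ker_mk']) a b⟩⟩
  by_contra hne
  rcases (by omega : j = 1 ∨ j = 2 ∨ 3 ≤ j) with rfl | rfl | h3
  rotate_left
  · exact hne hcZ
  · refine hncyc ?_
    rcases (by omega : j = 3 ∨ j = 4) with rfl | rfl
    · exact isCyclic_of_prime_card (p := p) (by rw [← index_eq_card, hidx, pow_one])
    · haveI : Subsingleton (H ⧸ center H) := (Nat.card_eq_one_iff_unique.1
        (by rw [← index_eq_card, hidx, pow_zero])).1
      exact isCyclic_of_subsingleton
  rw [pow_one] at hcZ
  have hq : Nat.card (H ⧸ center H) = p ^ 3 := by rw [← index_eq_card, hidx]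
  by_cases hqab : IsMulCommutative (H ⧸ center H)
  · have hle : _root_.commutator H ≤ center H := by
      rw [_root_.commutator_def, commutator_le]
      intro a _ b _
      rw [← QuotientGroup.eq_one_iff, ← QuotientGroup.mk'_apply, map_commutatorElement,
        commutatorElement_eq_one_iff_mul_comm]
      exact hqab.is_comm.comm _ _
    have hpow : ∀ a : H, a ^ p ∈ center H := by
      intro a
      refine mem_center_iff.2 fun b => ?_
      have hc1 : ⁅a, b⁆ ^ p = 1 := by
        rw [← hcZ]
        exact congrArg Subtype.val (pow_card_eq_one'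
          (x := (⟨_, hle (commutator_mem_commutator (mem_top a) (mem_top b))⟩ : center H)))
      have h := Fusion.commutatorElement_zpow_left_of_le_center hle a b (p : ℤ)
      rw [zpow_natCast, zpow_natCast, hc1, commutatorElement_eq_one_iff_mul_comm] at h
      exact h.symm
    have hne' : _root_.commutator H ≠ ⊥ := fun h => hab ⟨⟨fun a b =>
      commutatorElement_eq_one_iff_mul_comm.1 (by
        rw [← mem_bot, ← h]; exact commutator_mem_commutator (mem_top a) (mem_top b))⟩⟩
    have hcomm : _root_.commutator H = center H := by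
      refine eq_of_le_of_card_ge hle ?_
      rcases hp.eq_one_or_self_of_dvd _ (hcZ ▸ card_dvd_of_le hle) with h | h
      · exact absurd (eq_bot_of_card_eq _ h) hne'
      · rw [h, hcZ]
    have hfrat : frattini H = center H := by
      refine le_antisymm (Fusion.frattini_le_of_elementary (p := p) _ hle hpow) ?_
      haveI := hR.isNilpotent
      exact hcomm ▸ Core.commutator_le_frattini
    obtain ⟨n, hn⟩ := Fusion.es_card_eq (p := p) (E := H) ⟨⟨hR, hfrat, hcomm⟩, hcZ⟩ ⊤ le_top
      Fusion.es_top_nondeg
    rw [card_top, hcard] at hn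
    have := Nat.pow_right_injective hp.two_le hn
    omega
  · have hQ := extraspecial_of_cube hq hqab
    set π := QuotientGroup.mk' (center H) with hπ
    have hπs : Function.Surjective π := QuotientGroup.mk'_surjective _
    set W := (center (H ⧸ center H)).comap π with hW
    have hZW : center H ≤ W := fun z hz => by
      rw [hW, mem_comap, show π z = 1 from (QuotientGroup.eq_one_iff z).2 hz]; exact one_mem _
    have hWc : Nat.card W = p ^ 2 := by
      have h1 := W.card_mul_index
      have h2 := (center (H ⧸ center H)).card_mul_index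
      rw [hW, index_comap_of_surjective _ hπs, ← hW, hcard] at h1
      rw [hQ.2, hq] at h2
      have h3 : (center (H ⧸ center H)).index = p ^ 2 :=
        Nat.eq_of_mul_eq_mul_left hp.pos (h2.trans (by ring))
      rw [h3] at h1
      exact Nat.eq_of_mul_eq_mul_right (pow_pos hp.pos 2) (h1.trans (by ring))
    have hWmem : ∀ x, x ∈ W ↔ ∀ y, ⁅x, y⁆ ∈ center H := by
      intro x
      rw [hW, mem_comap, mem_center_iff]
      constructor
      · intro h y
        rw [← QuotientGroup.eq_one_iff, ← QuotientGroup.mk'_apply, map_commutatorElement,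
          commutatorElement_eq_one_iff_mul_comm]
        exact (h (π y)).symm
      · intro h q
        obtain ⟨y, rfl⟩ := hπs q
        rw [eq_comm, ← commutatorElement_eq_one_iff_mul_comm, ← map_commutatorElement]
        exact (QuotientGroup.eq_one_iff _).2 (h y)
    have hWinv : ∀ (α : MulAut H) x, α x ∈ W ↔ x ∈ W := by
      intro α x
      rw [hWmem, hWmem, α.surjective.forall]
      refine forall_congr' fun y => ?_
      rw [← map_commutatorElement, apply_mem_iff]
    obtain ⟨u, huW, huZ⟩ : ∃ u ∈ W, u ∉ center H := by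
      by_contra! h
      have := card_le_of_le (show W ≤ center H from h)
      rw [hWc, hcZ, pow_two] at this
      exact absurd this (not_le.2 (lt_mul_of_one_lt_left hp.pos hp.one_lt))
    haveI := IsPGroup.isMulCommutative_of_card_eq_prime_sq hWc
    set C := centralizer (W : Set H) with hC
    have hWC : W ≤ C := fun x hx => mem_centralizer_iff.2 fun y hy =>
      congrArg Subtype.val (IsMulCommutative.is_comm.comm (⟨y, hy⟩ : W) ⟨x, hx⟩)
    have hCu : C = centralizer ({u} : Set H) := by
      refine le_antisymm (centralizer_le (Set.singleton_subset_iff.2 huW)) fun g hg => ?_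
      have hle : center H < W ⊓ centralizer ({g} : Set H) :=
        lt_of_le_of_ne (le_inf hZW (center_le_centralizer _)) fun he => huZ (by
          rw [he]
          exact ⟨huW, mem_centralizer_singleton_iff.2 (mem_centralizer_singleton_iff.1 hg).symm⟩)
      have h1 := card_step hR hle
      rw [hcZ, ← pow_two, ← hWc] at h1
      have h2 := eq_of_le_of_card_ge inf_le_left h1
      refine mem_centralizer_iff.2 fun w hw => ?_
      have h3 : w ∈ centralizer ({g} : Set H) := (h2.symm ▸ hw : w ∈ W ⊓ centralizer ({g} : Set H)).2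
      exact mem_centralizer_singleton_iff.1 h3
    let φ : H →* center H :=
      { toFun := fun h => ⟨⁅u, h⁆, (hWmem u).1 huW h⟩
        map_one' := Subtype.ext (commutatorElement_one_right u)
        map_mul' := fun h k => Subtype.ext (by
          show ⁅u, h * k⁆ = ⁅u, h⁆ * ⁅u, k⁆
          rw [show ⁅u, h * k⁆ = ⁅u, h⁆ * (h * ⁅u, k⁆ * h⁻¹) by simp only [commutatorElement_def]; group,
            mem_center_iff.1 ((hWmem u).1 huW k) h, mul_inv_cancel_right]) }
    have hφ : φ.ker = centralizer ({u} : Set H) := by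
      ext g
      rw [MonoidHom.mem_ker, mem_centralizer_singleton_iff]
      refine Iff.trans Subtype.ext_iff ?_
      show ⁅u, g⁆ = 1 ↔ _
      rw [commutatorElement_eq_one_iff_mul_comm, eq_comm]
    have hCidx : C.index ≤ p := by
      rw [hCu, ← hφ, index_ker]
      exact (Nat.le_of_dvd Nat.card_pos (card_subgroup_dvd_card φ.range)).trans_eq hcZ
    have hCne : C ≠ ⊤ := fun h => huZ (mem_center_iff.2 fun g =>
      mem_centralizer_singleton_iff.1 (hCu ▸ h.symm ▸ mem_top g))
    set D : ℕ → Subgroup H := fun i => if i = 0 then ⊥ else if i = 1 then center H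
      else if i = 2 then W else if i = 3 then C else ⊤ with hD
    have hmono : Monotone D := monotone_nat_of_le_succ fun i => by
      match i with
      | 0 => exact bot_le
      | 1 => exact hZW
      | 2 => exact hWC
      | 3 => exact le_top
      | i + 4 => exact le_top
    refine not_essential_of_chain hS hmono (n := 4) rfl rfl (fun α _ i hi x => ?_) (fun i hi => ?_) hH
    · match i with
      | 0 => exact by simp [hD]
      | 1 => exact apply_mem_iff (A := center H) α x
      | 2 => exact hWinv α x
      | 3 =>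
        show α x ∈ C ↔ x ∈ C
        rw [mem_centralizer_iff, mem_centralizer_iff]
        refine ⟨fun h w hw => α.injective (by simpa using h (α w) ((hWinv α w).2 hw)), fun h w hw => ?_⟩
        obtain ⟨w, rfl⟩ := α.surjective w
        rw [← map_mul, ← map_mul, h w ((hWinv α w).1 hw)]
      | i + 4 => exact by simp [hD]
    · match i with
      | 0 => exact (relIndex_bot_left (center H)).trans_le hcZ.le
      | 1 =>
        show (center H).relIndex W ≤ p
        exact relIndex_le hZW (le_of_eq (by rw [hWc, hcZ, pow_two]))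
      | 2 =>
        show W.relIndex C ≤ p
        refine relIndex_le hWC ?_
        have h1 := card_step hR (lt_top_iff_ne_top.2 hCne)
        rw [card_top, hcard] at h1
        rw [hWc]
        exact Nat.le_of_mul_le_mul_right (h1.trans_eq (by ring)) hp.pos
      | 3 => exact (relIndex_top_right C).trans_le hCidx
      | i + 4 => omega

theorem nonabelian_case (hS : IsPGroup p S) (hH : F.IsEssential p H) (hcard : Nat.card H = p ^ 4)
    (hab : ¬ IsMulCommutative H) :
    (Odd p ∧ ∃ (E : Type) (_ : Group E) (_ : Finite E), Cfsg.IsExtraspecial p E ∧ Nat.card E = p ^ 3 ∧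
        (∀ x : E, x ^ p = 1) ∧ Nonempty (↥H ≃* E × Multiplicative (ZMod p))) ∨
      (p = 2 ∧ Nonempty (↥H ≃* QuaternionGroup 2 × Multiplicative (ZMod 2))) ∨
      (¬ IsMulCommutative ↥H ∧ (∀ x ∈ H, x ^ (p ^ 2) = 1) ∧ IsCyclic ↥(center ↥H) ∧
        Nat.card (center ↥H) = p ^ 2) := by
  have hp : p.Prime := Fact.out
  haveI := finite_of_le hH.1.1
  have hR : IsPGroup p H := hS.to_le hH.1.1
  have hZ := center_card hS hH hcard hab
  obtain ⟨hNZ, hN, hpowZ⟩ := commutator_shape hcard hZ
  set N := _root_.commutator H with hNdef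
  have hNN : ∀ z ∈ N, z ^ p = 1 := fun z hz => by
    rw [← hN]; exact congrArg Subtype.val (pow_card_eq_one' (x := (⟨z, hz⟩ : N)))
  have hrelNZ : N.relIndex (center H) = p := by
    have h := relIndex_mul_relIndex ⊥ N (center H) bot_le hNZ
    rw [relIndex_bot_left, relIndex_bot_left, hN, hZ] at h
    exact Nat.eq_of_mul_eq_mul_left hp.pos (h.trans (pow_two p))
  have hzpow : ∀ z ∈ center H, z ^ p ∈ N := fun z hz => by
    have h := (N.subgroupOf (center H)).pow_index_mem ⟨z, hz⟩
    rw [mem_subgroupOf, ← relIndex, hrelNZ] at h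
    exact h
  have hchain : ∀ K : Subgroup H, center H ≤ K → K.index ≤ p → K ≠ ⊤ →
      (∀ α ∈ F.autGroup H, ∀ x, α x ∈ K ↔ x ∈ K) → False := by
    intro K hZK hK hKne hKinv
    set D : ℕ → Subgroup H := fun i => if i = 0 then ⊥ else if i = 1 then N
      else if i = 2 then center H else if i = 3 then K else ⊤ with hD
    have hmono : Monotone D := monotone_nat_of_le_succ fun i => by
      match i with
      | 0 => exact bot_le
      | 1 => exact hNZ
      | 2 => exact hZK
      | 3 => exact le_top
      | i + 4 => exact le_top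
    refine not_essential_of_chain hS hmono (n := 4) rfl rfl (fun α hα i hi x => ?_) (fun i hi => ?_) hH
    · match i with
      | 0 => exact by simp [hD]
      | 1 => exact apply_mem_iff (A := N) α x
      | 2 => exact apply_mem_iff (A := center H) α x
      | 3 => exact hKinv α hα x
      | i + 4 => exact by simp [hD]
    · match i with
      | 0 => exact (relIndex_bot_left N).trans_le hN.le
      | 1 => exact hrelNZ.le
      | 2 =>
        show (center H).relIndex K ≤ p
        refine relIndex_le hZK ?_
        have h1 := card_step hR (lt_top_iff_ne_top.2 hKne)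
        rw [card_top, hcard] at h1
        rw [hZ]
        exact Nat.le_of_mul_le_mul_right (h1.trans_eq (by ring)) hp.pos
      | 3 => exact (relIndex_top_right K).trans_le hK
      | i + 4 => omega
  have hexpN : ∀ x : H, x ^ p ∈ N := by
    let π := QuotientGroup.mk' N
    have hcm : ∀ x y : H, Commute (π x) (π y) := fun x y => by
      show π x * π y = π y * π x
      rw [← commutatorElement_eq_one_iff_mul_comm, ← map_commutatorElement]
      exact (QuotientGroup.eq_one_iff _).2 (commutator_mem_commutator (mem_top x) (mem_top y))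
    let θ : H →* H ⧸ N :=
      { toFun := fun x => π x ^ p
        map_one' := by simp
        map_mul' := fun x y => by rw [map_mul]; exact (hcm x y).mul_pow p }
    have hθ : ∀ x, x ∈ θ.ker ↔ x ^ p ∈ N := fun x => by
      rw [MonoidHom.mem_ker, ← QuotientGroup.eq_one_iff, QuotientGroup.mk_pow]; rfl
    by_contra hne
    refine hchain θ.ker (fun z hz => (hθ z).2 (hzpow z hz)) ?_ (fun h => hne fun x => (hθ x).1 (h ▸ mem_top x))
      fun α _ x => by rw [hθ, hθ, ← map_pow, apply_mem_iff]
    rw [index_ker]
    refine (card_le_of_le (show θ.range ≤ (center H).map π from ?_)).trans ?_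
    · rintro - ⟨x, rfl⟩
      exact ⟨x ^ p, hpowZ x, map_pow π x p⟩
    · refine le_of_eq ?_
      rw [← hrelNZ]
      have := relIndex_ker (K := center H) π
      rw [QuotientGroup.ker_mk'] at this
      exact this.symm
  by_cases hcyc : IsCyclic (center H)
  · refine Or.inr (Or.inr ⟨hab, fun x hx => ?_, hcyc, hZ⟩)
    have h := hNN _ (hexpN ⟨x, hx⟩)
    rw [← pow_mul, ← pow_two] at h
    exact congrArg Subtype.val h
  have hzel : ∀ z ∈ center H, z ^ p = 1 := by
    intro z hz
    by_contra hne
    apply hcyc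
    obtain ⟨i, hi2, hi⟩ := (Nat.dvd_prime_pow hp).1 (hZ ▸ orderOf_dvd_natCard (⟨z, hz⟩ : center H))
    rcases (by omega : i ≤ 1 ∨ i = 2) with h1 | rfl
    · exact absurd (congrArg Subtype.val (orderOf_dvd_iff_pow_eq_one.1
        (hi.dvd.trans ((pow_dvd_pow p h1).trans (pow_one p).dvd)))) hne
    · exact isCyclic_of_orderOf_eq_card _ (hi.trans hZ.symm)
  have hfrat : frattini H ≤ N := Fusion.frattini_le_of_elementary (p := p) N le_rfl hexpN
  obtain ⟨u, huZ, huN⟩ : ∃ u ∈ center H, u ∉ N := by
    by_contra! h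
    have := card_le_of_le (show center H ≤ N from h)
    rw [hZ, hN, pow_two] at this
    exact absurd this (not_le.2 (lt_mul_of_one_lt_left hp.pos hp.one_lt))
  obtain ⟨M, huM, hMc, hMab, ⟨e⟩⟩ :=
    exists_complement hcard hab huZ (hzel u huZ) fun h => huN (hfrat h)
  rcases eq_or_ne p 2 with rfl | hp2
  · refine Or.inr (Or.inl ⟨rfl, ?_⟩)
    have hsq : ∀ g : H, g ∉ center H → g ^ 2 ≠ 1 := by
      by_contra! hex
      obtain ⟨y, hy, hy2⟩ := hex
      obtain ⟨w, hw, hw2⟩ : ∃ w : H, w ∉ center H ∧ w ^ 2 ≠ 1 := by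
        by_contra! hall
        refine hab ⟨⟨fun a b => ?_⟩⟩
        have e : ∀ x : H, x⁻¹ = x := fun x => inv_eq_of_mul_eq_one_right (by
          rw [← pow_two]
          by_cases hx : x ∈ center H
          exacts [hzel x hx, hall x hx])
        have := e (a * b)
        rw [mul_inv_rev, e, e] at this
        exact this.symm
      have hwy : ∀ z ∈ center H, (w * z) ^ 2 = w ^ 2 := fun z hz => by
        rw [(show Commute w z from mem_center_iff.1 hz w).mul_pow, hzel z hz, mul_one]
      have hy' : y ∉ center H ⊔ zpowers w := by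
        intro h
        obtain ⟨a, ha, b, hb, rfl⟩ := mem_sup_of_normal_left.1 h
        obtain ⟨n, rfl⟩ := mem_zpowers_iff.1 hb
        rcases Int.even_or_odd n with ⟨m, rfl⟩ | ⟨m, rfl⟩
        · refine hy (mul_mem ha ?_)
          rw [← two_mul, zpow_mul, zpow_two, ← pow_two]
          exact zpow_mem (hpowZ w) m
        · apply hw2
          have h1 : w ^ (2 * m + 1) = w * w ^ (2 * m) := by rw [zpow_add, zpow_one]; group
          have hm : w ^ (2 * m) ∈ center H := by
            rw [zpow_mul, zpow_two, ← pow_two]; exact zpow_mem (hpowZ w) m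
          rw [h1, ← mul_assoc, ← mem_center_iff.1 ha w, mul_assoc, hwy _ (mul_mem ha hm)] at hy2
          exact hy2
      have hnc := not_commute hcard hZ hw hy'
      have hN1 : ∀ n ∈ N, n ≠ 1 → ∀ m ∈ N, m ≠ 1 → n = m := by
        intro n hn hn1 m hm hm1
        by_contra hne
        have h3 : ([1, n, m].Nodup) := by simp [Ne.symm hn1, Ne.symm hm1, hne]
        classical
        haveI := Fintype.ofFinite N
        have h4 : ([1, ⟨n, hn⟩, ⟨m, hm⟩] : List N).Nodup := List.Nodup.of_map Subtype.val h3
        have h5 := h4.length_le_card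
        rw [← Nat.card_eq_fintype_card, hN] at h5
        simp at h5
      have hc : ⁅y, w⁆ ∈ N := commutator_mem_commutator (mem_top y) (mem_top w)
      have hwy2 : (w * y) ^ 2 = 1 := by
        rw [S3053.mul_pow_class_two (fun g => mem_center_iff.1 (hNZ hc) g) 2, hy2, mul_one,
          Nat.choose_self, pow_one,
          hN1 _ (hexpN w) hw2 _ hc (fun h => hnc (commutatorElement_eq_one_iff_mul_comm.1 h).symm),
          ← pow_two, hNN _ hc]
      let π := QuotientGroup.mk' (center H)
      have hq4 : Nat.card (H ⧸ center H) ≤ 4 := by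
        have h := (center H).card_mul_index
        rw [hZ, hcard, index_eq_card] at h
        omega
      have hw' : π w ≠ 1 := fun h => hw ((QuotientGroup.eq_one_iff _).1 h)
      have hy1 : π y ≠ 1 := fun h => hy ((QuotientGroup.eq_one_iff _).1 h)
      have hwy' : π w ≠ π y := fun h => by
        apply hy'
        rw [← mul_inv_cancel_left w y, ← mul_assoc]
        rw [mul_assoc]
        exact mul_mem (mem_sup_right (mem_zpowers w)) (mem_sup_left (QuotientGroup.eq.1 h))
      have hn4 : [1, π w, π y, π w * π y].Nodup := by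
        simp only [List.nodup_cons, List.mem_cons, List.not_mem_nil, or_false, not_or, List.nodup_nil,
          and_true, not_false_eq_true]
        refine ⟨⟨Ne.symm hw', Ne.symm hy1, fun h => hwy' ?_⟩, ⟨hwy', fun h => hy1 (left_eq_mul.1 h)⟩,
          fun h => hw' (right_eq_mul.1 h)⟩
        have h2 : π w * π w = 1 := by
          rw [← map_mul, ← pow_two]; exact (QuotientGroup.eq_one_iff _).2 (hpowZ w)
        exact mul_left_cancel (h2.trans h)
      have hall := MetaTwo.four_cover hq4 _ _ _ _ hn4
      have hzw : ∀ q ∈ zpowers (π w), q = 1 ∨ q = π w := by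
        intro q hq
        obtain ⟨i, rfl⟩ := mem_zpowers_iff.1 hq
        have h2 : π w * π w = 1 := by
          rw [← map_mul, ← pow_two]; exact (QuotientGroup.eq_one_iff _).2 (hpowZ w)
        rcases Int.even_or_odd i with ⟨j, rfl⟩ | ⟨j, rfl⟩
        · left; rw [← two_mul, zpow_mul, zpow_two, h2, one_zpow]
        · right; rw [zpow_add, zpow_mul, zpow_two, h2, one_zpow, one_mul, zpow_one]
      have hmem : ∀ g : H, g ∈ (zpowers (π w)).comap π ↔ g ∈ center H ∨ g ^ 2 ≠ 1 := by
        intro g
        rw [mem_comap]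
        have hcos : ∀ x : H, π g = π x → g ^ 2 = x ^ 2 := fun x h => by
          have hz := QuotientGroup.eq.1 h.symm
          conv_lhs => rw [← mul_inv_cancel_left x g]
          rw [(show Commute x (x⁻¹ * g) from mem_center_iff.1 hz x).mul_pow, hzel _ hz, mul_one]
        constructor
        · intro h
          rcases hzw _ h with h | h
          · exact Or.inl ((QuotientGroup.eq_one_iff _).1 h)
          · exact Or.inr (hcos w h ▸ hw2)
        · rintro (h | h)
          · rw [show π g = 1 from (QuotientGroup.eq_one_iff _).2 h]; exact one_mem _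
          · rcases hall (π g) with h' | h' | h' | h'
            · rw [h']; exact one_mem _
            · rw [h']; exact mem_zpowers _
            · exact absurd (hcos y h' ▸ hy2) h
            · rw [← map_mul] at h'
              exact absurd (hcos _ h' ▸ hwy2) h
      refine hchain ((zpowers (π w)).comap π) (fun z hz => (hmem z).2 (Or.inl hz)) ?_ ?_
        fun α _ g => by rw [hmem, hmem, apply_mem_iff, ← map_pow, ne_eq, ne_eq, map_eq_one_iff _ α.injective]
      · rw [index_comap_of_surjective _ (QuotientGroup.mk'_surjective _)]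
        have h := (zpowers (π w)).card_mul_index
        have h1 : 2 ≤ Nat.card (zpowers (π w)) := by
          haveI : Nontrivial (zpowers (π w)) :=
            (nontrivial_iff_ne_bot _).2 fun h => hw' (zpowers_eq_bot.1 h)
          exact Finite.one_lt_card
        nlinarith [h.trans_le hq4, Nat.mul_le_mul_right (zpowers (π w)).index h1]
      · intro h
        rcases (hmem y).1 (h ▸ mem_top y) with h1 | h1
        exacts [hy h1, h1 hy2]
    have hMu : ∀ x : M, orderOf x = 2 → (x : H) ∈ center H := fun x hx => by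
      by_contra hxc
      refine hsq _ hxc ?_
      have := pow_orderOf_eq_one x
      rw [hx] at this
      exact congrArg Subtype.val this
    have hle2 : Nat.card ↥(M ⊓ center H) ≤ 2 := by
      have h1 : M ⊓ center H < center H :=
        lt_of_le_of_ne inf_le_right fun h => huM ((h.symm ▸ huZ : u ∈ M ⊓ center H).1)
      have := card_step hR h1
      rw [hZ] at this
      omega
    rcases Fusion.cyclic_or_quaternion (IsPGroup.of_card hMc) (fun x y hx hy => by
      by_contra hxy
      classical
      haveI := Fintype.ofFinite ↥(M ⊓ center H)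
      have hx1 : (x : H) ≠ 1 := fun h => by
        rw [show x = 1 from Subtype.ext h, orderOf_one] at hx; omega
      have hy1 : (y : H) ≠ 1 := fun h => by
        rw [show y = 1 from Subtype.ext h, orderOf_one] at hy; omega
      have h3 : [1, (x : H), (y : H)].Nodup := by
        simp [Ne.symm hx1, Ne.symm hy1, show (x : H) ≠ y from fun h => hxy (Subtype.ext h)]
      have h4 : ([1, ⟨x, x.2, hMu x hx⟩, ⟨y, y.2, hMu y hy⟩] : List ↥(M ⊓ center H)).Nodup :=
        List.Nodup.of_map Subtype.val h3
      have h5 : 3 ≤ Nat.card ↥(M ⊓ center H) :=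
        le_of_le_of_eq h4.length_le_card Nat.card_eq_fintype_card.symm
      omega) with hc | ⟨k, hk, ⟨f⟩⟩
    · letI : CommGroup M := IsCyclic.commGroup
      exact absurd ⟨⟨mul_comm⟩⟩ hMab
    · haveI : NeZero (2 ^ k) := ⟨by positivity⟩
      have h := Nat.card_congr f.toEquiv
      rw [hMc, Nat.card_eq_fintype_card, QuaternionGroup.card] at h
      obtain rfl : k = 1 := by
        have h2 : (2 : ℕ) ^ k = 2 := by omega
        exact Nat.pow_right_injective le_rfl (h2.trans (pow_one 2).symm)
      exact ⟨e.trans (MulEquiv.prodCongr f (MulEquiv.refl _))⟩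
  · refine Or.inl ⟨hp.odd_of_ne_two hp2, ?_⟩
    obtain ⟨c, hc⟩ := hp.dvd_choose_self two_ne_zero (lt_of_le_of_ne hp.two_le (Ne.symm hp2))
    let θ : H →* H :=
      { toFun := fun x => x ^ p
        map_one' := one_pow _
        map_mul' := fun a b => by
          have hm : ⁅b, a⁆ ∈ N := commutator_mem_commutator (mem_top b) (mem_top a)
          rw [S3053.mul_pow_class_two (fun g => mem_center_iff.1 (hNZ hm) g) p, hc, pow_mul, hNN _ hm,
            one_pow, mul_one] }
    have hexp1 : ∀ x : H, x ^ p = 1 := by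
      by_contra hne
      refine hchain θ.ker hzel ?_ (fun h => hne fun x => MonoidHom.mem_ker.1 (h ▸ mem_top x : x ∈ θ.ker))
        fun α _ x => by
          rw [MonoidHom.mem_ker, MonoidHom.mem_ker]
          show α x ^ p = 1 ↔ x ^ p = 1
          rw [← map_pow, map_eq_one_iff _ α.injective]
      rw [index_ker]
      refine (card_le_of_le (show θ.range ≤ N from ?_)).trans_eq hN
      rintro - ⟨x, rfl⟩
      exact hexpN x
    obtain ⟨E, gE, fE, ⟨eE⟩⟩ := exists_small (M := M)
    have hEc : Nat.card E = p ^ 3 := (Nat.card_congr eE.toEquiv).symm.trans hMc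
    refine ⟨E, gE, fE, extraspecial_of_cube hEc (fun h => hMab ⟨⟨fun a b => eE.injective ?_⟩⟩), hEc,
      fun x => ?_, ⟨e.trans (MulEquiv.prodCongr eE (MulEquiv.refl _))⟩⟩
    · rw [map_mul, map_mul]; exact h.is_comm.comm _ _
    · obtain ⟨m, rfl⟩ := eE.surjective x
      rw [← map_pow, show m ^ p = 1 from Subtype.ext (hexp1 m), map_one]

end Cfsg.Agent.FusSys.Four
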