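import Cfsg.Agent.FusSys.Inner
import Cfsg.Agent.Fusion.OddAut
import Cfsg.Agent.Classical.SL2Gen

/-!
Essential subgroups of order `p ^ 2`.
-/

set_option autoImplicit false

namespace Cfsg.Agent.FusSys

open Cfsg Cfsg.FusionSystem

universe u

variable {Ω : Type u} [Group Ω] {S : Subgroup Ω} {F : FusionSystem S} {P : Subgroup Ω} {p : ℕ}

variable [Fact p.Prime] [Finite S]

/-- An abelian essential subgroup has at least two Sylow subgroups of automorphisms. -/
theorem exists_two_sylow_of_essential (hab : IsMulCommutative P) (hP : F.IsEssential p P) :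
    p ∣ Nat.card (F.autGroup P) ∧ ∀ T : Sylow p (F.autGroup P), ∃ T' : Sylow p (F.autGroup P), T' ≠ T := by
  obtain ⟨hc, -, hn, E, hE⟩ := hP
  haveI := finite_of_le hc.1
  haveI : Finite (MulAut P) := Finite.of_injective _ MulEquiv.toEquiv_injective
  haveI : (innIn F P).Normal := hn
  have hinn : innIn F P = ⊥ := by
    refine le_bot_iff.1 fun α hα => ?_
    obtain ⟨g, hg⟩ := Subgroup.mem_subgroupOf.1 hα
    refine Subgroup.mem_bot.2 (Subtype.ext ?_)
    rw [← hg, OneMemClass.coe_one]
    refine MulEquiv.ext fun x => ?_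
    rw [MulAut.conj_apply, hab.is_comm.comm g x, mul_inv_cancel_right, MulAut.one_apply]
  have hbot := pCore_eq_bot_of_stronglyPEmbedded hE
  have hdiv : p ∣ Nat.card (F.autGroup P) :=
    hE.1.trans ((Subgroup.index_eq_card (innIn F P)).symm.dvd.trans (Subgroup.index_dvd_card _))
  refine ⟨hdiv, fun T => ?_⟩
  by_contra h
  push Not at h
  haveI : Subsingleton (Sylow p (F.autGroup P)) := ⟨fun a b => (h a).trans (h b).symm⟩
  haveI hTn : (T : Subgroup (F.autGroup P)).Normal := Sylow.normal_of_subsingleton T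
  haveI := hTn.map (QuotientGroup.mk' (innIn F P)) (QuotientGroup.mk'_surjective _)
  have h1 : (T : Subgroup (F.autGroup P)).map (QuotientGroup.mk' (innIn F P)) ≤ ⊥ :=
    hbot ▸ Cfsg.Agent.Core.le_pCore (T.2.map _)
  rw [le_bot_iff, Subgroup.map_eq_bot_iff, QuotientGroup.ker_mk', hinn, le_bot_iff] at h1
  exact T.ne_bot_of_dvd_card hdiv h1

theorem elementary_and_sl2 (hP : F.IsEssential p P) (hcard : Nat.card P = p ^ 2) :
    Cfsg.IsElementaryAbelian p P ∧
      ∃ K : Subgroup ↥(F.autGroup P), Nonempty (↥K ≃* Matrix.SpecialLinearGroup (Fin 2) (ZMod p)) := by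
  classical
  have hp : p.Prime := Fact.out
  have hPS := hP.1.1
  haveI := finite_of_le hPS
  haveI : Finite (MulAut P) := Finite.of_injective _ MulEquiv.toEquiv_injective
  have hab : IsMulCommutative P := IsPGroup.isMulCommutative_of_card_eq_prime_sq hcard
  obtain ⟨hdiv, htwo⟩ := exists_two_sylow_of_essential hab hP
  have hexp : ∀ a ∈ P, a ^ p = 1 := by
    intro a ha
    by_contra hne
    have hord : orderOf (⟨a, ha⟩ : P) = p ^ 2 := by
      obtain ⟨k, hk, hk'⟩ := (Nat.dvd_prime_pow hp).1 (hcard ▸ orderOf_dvd_natCard (⟨a, ha⟩ : P))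
      have hk2 : ¬ k ≤ 1 := fun h => hne (congrArg Subtype.val (orderOf_dvd_iff_pow_eq_one.1
        (hk'.dvd.trans ((pow_dvd_pow p h).trans (pow_one p).dvd))))
      rw [hk', show k = 2 by omega]
    haveI : IsCyclic P := isCyclic_of_orderOf_eq_card _ (hord.trans hcard.symm)
    have hcomm : ∀ f g : MulAut P, f * g = g * f := fun f g =>
      (IsCyclic.mulAutMulEquiv P).injective (by rw [map_mul, map_mul, mul_comm])
    let T : Sylow p (F.autGroup P) := default
    obtain ⟨T', hT'⟩ := htwo T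
    obtain ⟨g, hg⟩ := MulAction.exists_smul_eq (F.autGroup P) T T'
    apply hT'
    rw [← hg]
    refine Sylow.ext (Subgroup.ext fun x => ?_)
    rw [Sylow.coe_subgroup_smul, Subgroup.mem_pointwise_smul_iff_inv_smul_mem, MulAut.smul_def,
      MulAut.inv_apply]
    have : (MulAut.conj g).symm x = x := Subtype.ext (by
      rw [MulAut.conj_symm_apply, Subgroup.coe_mul, Subgroup.coe_mul, Subgroup.coe_inv, hcomm,
        ← mul_assoc, mul_inv_cancel, one_mul])
    rw [this]
  refine ⟨⟨hab, hexp⟩, ?_⟩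
  letI : CommGroup P := { (inferInstance : Group P) with mul_comm := hab.is_comm.comm }
  letI : Module (ZMod p) (Additive P) :=
    AddCommGroup.zmodModule (G := Additive P) fun v =>
      Additive.toMul.injective (Subtype.ext (hexp _ v.toMul.2))
  obtain ⟨ψ, hψ⟩ := Cfsg.Agent.Fusion.exists_mulAut_matrix (p := p) P hcard
  -- the elements of determinant one
  let δ : F.autGroup P →* ZMod p :=
    { toFun := fun x => (ψ (x : MulAut P)).det
      map_one' := by simp
      map_mul' := fun x y => by simp }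
  let N : Subgroup (F.autGroup P) := δ.toHomUnits.ker
  have hN : ∀ x, x ∈ N ↔ δ x = 1 := fun x => by
    show δ.toHomUnits x = 1 ↔ _
    rw [Units.ext_iff, MonoidHom.coe_toHomUnits, Units.val_one]
  have hpN : ∀ H : Subgroup (F.autGroup P), IsPGroup p H → H ≤ N := by
    intro H hH x hx
    obtain ⟨k, hk⟩ := hH ⟨x, hx⟩
    have h1 : x ^ p ^ k = 1 := congrArg Subtype.val hk
    rw [hN]
    have h2 := congrArg δ h1
    rw [map_pow, ZMod.pow_card_pow, map_one] at h2
    exact h2
  let θ : N →* Matrix.SpecialLinearGroup (Fin 2) (ZMod p) :=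
    { toFun := fun x => ⟨ψ ((x : F.autGroup P) : MulAut P), (hN _).1 x.2⟩
      map_one' := Subtype.ext (map_one ψ)
      map_mul' := fun x y => Subtype.ext (map_mul ψ _ _) }
  have hθ : Function.Injective θ := fun x y h =>
    Subtype.ext (Subtype.ext (hψ (congrArg Subtype.val h)))
  have himg : ∀ T : Sylow p (F.autGroup P), ∃ U : Sylow p (Matrix.SpecialLinearGroup (Fin 2) (ZMod p)),
      (U : Subgroup _) = ((T : Subgroup (F.autGroup P)).subgroupOf N).map θ := by
    intro T
    obtain ⟨L, hL⟩ : ∃ L, L = ((T : Subgroup (F.autGroup P)).subgroupOf N).map θ := ⟨_, rfl⟩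
    have hLp : IsPGroup p L := hL ▸ (T.2.comap_subtype).map θ
    obtain ⟨U, hU⟩ := hLp.exists_le_sylow
    refine ⟨U, hL ▸ (Subgroup.eq_of_le_of_card_ge hU ?_).symm⟩
    have hcU : Nat.card U = p ^ 1 :=
      Cfsg.Agent.Classical.card_sylow_eq_of_card_eq U (r := p ^ 2 - 1)
        (by rw [Cfsg.Agent.Classical.card_sl2, ZMod.card, pow_one])
        (fun h => by
          have h2 : p ∣ p ^ 2 := dvd_pow_self p two_ne_zero
          have := Nat.dvd_sub h2 h
          rw [Nat.sub_sub_self (Nat.one_le_pow _ _ hp.pos)] at this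
          exact hp.not_dvd_one this)
    have hcL : Nat.card L = Nat.card T := by
      rw [hL, ← Nat.card_congr (Subgroup.equivMapOfInjective _ θ hθ).toEquiv,
        Nat.card_congr (Subgroup.subgroupOfEquivOfLe (hpN _ T.2)).toEquiv]
    rw [hcU, hcL, pow_one]
    exact Nat.le_of_dvd Nat.card_pos (T.dvd_card_of_dvd_card hdiv)
  let T : Sylow p (F.autGroup P) := default
  obtain ⟨T', hT'⟩ := htwo T
  obtain ⟨U, hU⟩ := himg T
  obtain ⟨U', hU'⟩ := himg T'
  have hne : U ≠ U' := by
    intro h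
    apply hT'
    rw [h, hU'] at hU
    have h1 := Subgroup.map_injective hθ hU
    refine Sylow.ext ?_
    rw [← inf_eq_left.2 (hpN _ T'.2), ← inf_eq_left.2 (hpN _ T.2)]
    rw [← Subgroup.subgroupOf_map_subtype, ← Subgroup.subgroupOf_map_subtype, h1]
  have hsurj : Function.Surjective θ := by
    intro z
    have h1 : z ∈ (⊤ : Subgroup (Matrix.SpecialLinearGroup (Fin 2) (ZMod p))) := trivial
    rw [← Cfsg.Agent.Classical.sylow_sl2_sup p U U' hne, hU, hU', ← Subgroup.map_sup] at h1
    obtain ⟨x, -, hx⟩ := h1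
    exact ⟨x, hx⟩
  exact ⟨N, ⟨MulEquiv.ofBijective θ ⟨hθ, hsurj⟩⟩⟩

end Cfsg.Agent.FusSys
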