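import Cfsg.Agent.FusSys.ModT
import Cfsg.Agent.FusSys.Hyperfocal

/-!
Factor systems: description of their maps, existence, and saturation.
-/

set_option autoImplicit false

namespace Cfsg.Agent.FusSys

open Cfsg Cfsg.FusionSystem

variable {Ω : Type*} [Group Ω] {S : Subgroup Ω} {Ω' : Type*} [Group Ω'] {S' : Subgroup Ω'}
variable {F : FusionSystem S} {E : FusionSystem S'} {P Q T : Subgroup Ω} {P' Q' : Subgroup Ω'}
variable {θ : S →* Ω'} {f g : Ω → Ω} {p : ℕ}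

open Classical in
/-- A homomorphism on `S` as a total function. -/
noncomputable def thFn (θ : S →* Ω') (x : Ω) : Ω' := if h : x ∈ S then θ ⟨x, h⟩ else 1

theorem thFn_apply {x : Ω} (h : x ∈ S) : thFn θ x = θ ⟨x, h⟩ := dif_pos h

theorem thFn_coe (s : S) : thFn θ (s : Ω) = θ s := thFn_apply s.2

theorem thFn_mul {x y : Ω} (hx : x ∈ S) (hy : y ∈ S) : thFn θ (x * y) = thFn θ x * thFn θ y := by
  rw [thFn_apply hx, thFn_apply hy, thFn_apply (S.mul_mem hx hy), ← map_mul]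
  rfl

theorem thFn_inv {x : Ω} (hx : x ∈ S) : thFn θ x⁻¹ = (thFn θ x)⁻¹ := by
  rw [thFn_apply hx, thFn_apply (S.inv_mem hx), ← map_inv]
  rfl

theorem thFn_conj {x y : Ω} (hx : x ∈ S) (hy : y ∈ S) :
    thFn θ (x * y * x⁻¹) = thFn θ x * thFn θ y * (thFn θ x)⁻¹ := by
  rw [thFn_mul (S.mul_mem hx hy) (S.inv_mem hx), thFn_mul hx hy, thFn_inv hx]

theorem thFn_mem_range (x : Ω) (hx : x ∈ S) : thFn θ x ∈ θ.range := ⟨⟨x, hx⟩, (thFn_apply hx).symm⟩

theorem mem_pre {x : Ω} : x ∈ preimageAlong θ P' ↔ x ∈ S ∧ thFn θ x ∈ P' := by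
  rw [mem_preimageAlong]
  exact ⟨fun ⟨h, h1⟩ => ⟨h, by rwa [thFn_apply h]⟩, fun ⟨h, h1⟩ => ⟨h, by rwa [← thFn_apply h]⟩⟩

theorem pre_le : preimageAlong θ P' ≤ S := fun _ hx => (mem_pre.1 hx).1

theorem exists_pre (hr : P' ≤ θ.range) {z : Ω'} (hz : z ∈ P') :
    ∃ x ∈ preimageAlong θ P', thFn θ x = z := by
  obtain ⟨s, hs⟩ := hr hz
  exact ⟨s, mem_pre.2 ⟨s.2, by rw [thFn_coe, hs]; exact hz⟩, by rw [thFn_coe, hs]⟩

theorem mem_imageAlong {z : Ω'} (hP : P ≤ S) : z ∈ imageAlong θ P ↔ ∃ x ∈ P, thFn θ x = z := by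
  constructor
  · rintro ⟨s, hs, rfl⟩
    exact ⟨s, hs, thFn_coe s⟩
  · rintro ⟨x, hx, rfl⟩
    exact ⟨⟨x, hP hx⟩, hx, (thFn_apply (hP hx)).symm⟩

theorem thFn_eq_iff (hker : ∀ s : S, θ s = 1 ↔ (s : Ω) ∈ T) {x y : Ω} (hx : x ∈ S) (hy : y ∈ S) :
    thFn θ x = thFn θ y ↔ x⁻¹ * y ∈ T := by
  rw [thFn_apply hx, thFn_apply hy]
  exact ⟨fun h => mem_of_theta_eq (a := ⟨x, hx⟩) (b := ⟨y, hy⟩) hker h,
    fun h => theta_eq_of (a := ⟨x, hx⟩) (b := ⟨y, hy⟩) hker h⟩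

theorem thFn_eq_one_iff (hker : ∀ s : S, θ s = 1 ↔ (s : Ω) ∈ T) {x : Ω} (hx : x ∈ S) :
    thFn θ x = 1 ↔ x ∈ T := by
  rw [thFn_apply hx]
  exact hker ⟨x, hx⟩

theorem inducedAlong_iff {φ : preimageAlong θ P' →* Ω} {φ' : P' →* Ω'} :
    InducedAlong θ φ φ' ↔
      ∀ x : preimageAlong θ P', φ x ∈ S ∧ ∀ h : thFn θ x ∈ P', φ' ⟨thFn θ x, h⟩ = thFn θ (φ x) := by
  constructor
  · rintro ⟨hP, hφ, hP', heq⟩ x
    refine ⟨hφ x, fun h => ?_⟩
    rw [thFn_apply (hφ x), ← heq x]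
    congr 1
    exact Subtype.ext (thFn_apply (hP x.2))
  · intro h
    refine ⟨pre_le, fun x => (h x).1, fun x => thFn_apply (θ := θ) (pre_le x.2) ▸ (mem_pre.1 x.2).2,
      fun x => ?_⟩
    rw [← thFn_apply (θ := θ) ((h x).1), ← (h x).2 (mem_pre.1 x.2).2]
    congr 1
    exact Subtype.ext (thFn_apply (pre_le x.2)).symm

/-- A map of a factor system, as a function. -/
theorem mor_factor (hE : F.IsFactorSystem T θ E) (hT : F.StronglyClosed T) {f' : Ω' → Ω'} :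
    Mor E P' f' ↔ P' ≤ S' ∧ ∃ f, Mor F (preimageAlong θ P') f ∧
      ∀ x ∈ preimageAlong θ P', f' (thFn θ x) = thFn θ (f x) := by
  obtain ⟨-, hker, hrange, hmaps⟩ := hE
  constructor
  · rintro ⟨φ', hφ', hff⟩
    obtain ⟨hP', φ, hφ, hind⟩ := (hmaps P' φ').1 hφ'
    refine ⟨hP', extendFn φ, mor_extendFn hφ, fun x hx => ?_⟩
    rw [← hff ⟨_, (mem_pre.1 hx).2⟩, extendFn_apply φ hx]
    exact (inducedAlong_iff.1 hind ⟨x, hx⟩).2 _
  · rintro ⟨hP', f, ⟨φ, hφ, hff⟩, hind⟩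
    obtain ⟨φ', hφ'⟩ := exists_induced hker hT (hrange ▸ hP') hφ
    refine ⟨φ', (hmaps P' φ').2 ⟨hP', φ, hφ, hφ'⟩, fun z => ?_⟩
    obtain ⟨x, hx, hxz⟩ := exists_pre (hrange ▸ hP') z.2
    have h1 := (inducedAlong_iff.1 hφ' ⟨x, hx⟩).2 (hxz ▸ z.2)
    rw [hff ⟨x, hx⟩] at h1
    rw [← hxz, hind x hx, ← h1]
    congr 1
    exact Subtype.ext hxz.symm

/-- The lift of an isomorphism of a factor system is an isomorphism. -/
theorem exists_iso_lift [Finite S] (hE : F.IsFactorSystem T θ E) (hT : F.StronglyClosed T)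
    {f' : Ω' → Ω'} (hf' : Iso E P' Q' f') :
    ∃ f, Iso F (preimageAlong θ P') (preimageAlong θ Q') f ∧
      ∀ x ∈ preimageAlong θ P', f' (thFn θ x) = thFn θ (f x) := by
  obtain ⟨hP', f, hf, hind⟩ := (mor_factor hE hT).1 hf'.1
  obtain ⟨hTS, hker, hrange, -⟩ := hE
  refine ⟨f, ⟨hf, fun y => ⟨fun hy => ?_, ?_⟩⟩, hind⟩
  · obtain ⟨hyS, hy'⟩ := mem_pre.1 hy
    obtain ⟨z, hz, hzy⟩ := hf'.exists_eq hy'
    obtain ⟨x, hx, rfl⟩ := exists_pre (hrange ▸ hP') hz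
    rw [hind x hx] at hzy
    have h1 := (thFn_eq_iff hker (hf.mem_S hx) hyS).1 hzy
    have hTP := le_preimageAlong hker hTS P'
    obtain ⟨t, ht, hty⟩ := (StronglyClosed.iso_self hT hf hTP).exists_eq h1
    refine ⟨x * t, Subgroup.mul_mem _ hx (hTP ht), ?_⟩
    rw [hf.map_mul hx (hTP ht), hty, mul_inv_cancel_left]
  · rintro ⟨x, hx, rfl⟩
    refine mem_pre.2 ⟨hf.mem_S hx, ?_⟩
    rw [← hind x hx]
    exact hf'.mem (mem_pre.1 hx).2

/-- An isomorphism between subgroups containing the kernel descends. -/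
theorem exists_iso_image [Finite S] (hE : F.IsFactorSystem T θ E) (hT : F.StronglyClosed T)
    (hf : Iso F P Q f) (hTP : T ≤ P) :
    ∃ f', Iso E (imageAlong θ P) (imageAlong θ Q) f' ∧ ∀ x ∈ P, f' (thFn θ x) = thFn θ (f x) := by
  have hker := hE.2.1
  have hrange := hE.2.2.1
  have hP := hf.left_le
  have e : preimageAlong θ (imageAlong θ P) = P := by
    rw [preimage_image hker hT hP, sup_eq_left.2 hTP]
  obtain ⟨φ, hφ, hφf⟩ : Mor F (preimageAlong θ (imageAlong θ P)) f := by rw [e]; exact hf.1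
  have hle : imageAlong θ P ≤ θ.range := by
    rintro _ ⟨x, -, rfl⟩
    exact ⟨x, rfl⟩
  obtain ⟨φ', hφ'⟩ := exists_induced hker hT hle hφ
  have hmem := (hE.2.2.2 _ φ').2 ⟨fun z hz => hrange ▸ hle hz, φ, hφ, hφ'⟩
  have hval : ∀ x ∈ P, extendFn φ' (thFn θ x) = thFn θ (f x) := fun x hx => by
    have hx' : x ∈ preimageAlong θ (imageAlong θ P) := e.ge hx
    rw [extendFn_apply φ' (mem_pre.1 hx').2, (inducedAlong_iff.1 hφ' ⟨x, hx'⟩).2, hφf]
  refine ⟨extendFn φ', ⟨mor_extendFn hmem, fun z => ?_⟩, hval⟩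
  rw [mem_imageAlong hf.right_le]
  constructor
  · rintro ⟨y, hy, rfl⟩
    obtain ⟨x, hx, rfl⟩ := hf.exists_eq hy
    exact ⟨thFn θ x, (mem_imageAlong hP).2 ⟨x, hx, rfl⟩, hval x hx⟩
  · rintro ⟨w, hw, rfl⟩
    obtain ⟨x, hx, rfl⟩ := (mem_imageAlong hP).1 hw
    exact ⟨f x, hf.mem hx, (hval x hx).symm⟩

/-- Existence of the factor system on a given image. -/
theorem exists_factorSystem [Finite S] (hT : F.StronglyClosed T)
    (hker : ∀ s : S, θ s = 1 ↔ (s : Ω) ∈ T) (hrange : θ.range = S') :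
    ∃ E : FusionSystem S', F.IsFactorSystem T θ E := by
  refine ⟨⟨fun P' => {φ' | P' ≤ S' ∧ ∃ φ ∈ F.Hom (preimageAlong θ P'), InducedAlong θ φ φ'},
    ?_, ?_, ?_, ?_, ?_⟩, hT.1, hker, hrange, fun P' φ' => Iff.rfl⟩
  · rintro P' φ' ⟨hP', φ, hφ, hind⟩
    refine ⟨hP', fun z => ?_⟩
    obtain ⟨x, hx, hxz⟩ := exists_pre (hrange ▸ hP') z.2
    obtain ⟨h1, h2⟩ := inducedAlong_iff.1 hind ⟨x, hx⟩
    have h3 := h2 (hxz ▸ z.2)
    have e : z = ⟨thFn θ x, hxz ▸ z.2⟩ := Subtype.ext hxz.symm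
    rw [e, h3]
    exact hrange ▸ thFn_mem_range _ h1
  · rintro P' φ' ⟨hP', φ, hφ, hind⟩
    refine (injective_iff_map_eq_one φ').2 fun z hz => ?_
    obtain ⟨x, hx, hxz⟩ := exists_pre (hrange ▸ hP') z.2
    obtain ⟨h1, h2⟩ := inducedAlong_iff.1 hind ⟨x, hx⟩
    have h3 := h2 (hxz ▸ z.2)
    have e : z = ⟨thFn θ x, hxz ▸ z.2⟩ := Subtype.ext hxz.symm
    rw [e, h3, thFn_eq_one_iff hker h1] at hz
    have hTP := le_preimageAlong hker hT.1 P'
    have hm := mor_extendFn hφ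
    obtain ⟨t, ht, htx⟩ := (StronglyClosed.iso_self hT hm hTP).exists_eq hz
    rw [← extendFn_coe φ] at htx
    have hxt : t = x := hm.injOn (hTP ht) hx htx
    refine Subtype.ext ?_
    rw [← hxz, (thFn_eq_one_iff hker (pre_le hx)).2 (hxt ▸ ht)]
    rfl
  · intro P' g hP' hg
    obtain ⟨s, hs⟩ := hrange.ge hg
    refine ⟨hP', conjHom _ (s : Ω), F.conj_mem pre_le s.2, inducedAlong_iff.2 fun x => ?_⟩
    refine ⟨S.mul_mem (S.mul_mem s.2 (pre_le x.2)) (S.inv_mem s.2), fun h => ?_⟩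
    show g * thFn θ x * g⁻¹ = thFn θ ((s : Ω) * x * (s : Ω)⁻¹)
    rw [thFn_conj s.2 (pre_le x.2), thFn_coe, hs]
  · rintro P' Q' φ' ψ' ⟨hP', φ, hφ, hind⟩ ⟨hQ', ψ, hψ, hind'⟩ h
    have hval : ∀ x, φ x ∈ preimageAlong θ Q' := fun x => by
      refine mem_pre.2 ⟨(F.le_of_mem hφ).2 x, ?_⟩
      rw [← (inducedAlong_iff.1 hind x).2 (mem_pre.1 x.2).2]
      exact h _
    refine ⟨hP', _, F.comp_mem hφ hψ hval, inducedAlong_iff.2 fun x => ⟨(F.le_of_mem hψ).2 _, ?_⟩⟩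
    intro h1
    show ψ' ⟨φ' ⟨thFn θ x, h1⟩, h _⟩ = thFn θ (ψ ⟨φ x, hval x⟩)
    rw [← (inducedAlong_iff.1 hind' ⟨φ x, hval x⟩).2 (mem_pre.1 (hval x)).2]
    congr 1
    exact Subtype.ext ((inducedAlong_iff.1 hind x).2 h1)
  · rintro P' φ' ⟨hP', φ, hφ, hind⟩
    have hTP := le_preimageAlong hker hT.1 P'
    have hm := mor_extendFn hφ
    have hle : preimageAlong θ φ'.range ≤ φ.range := by
      intro y hy
      obtain ⟨hyS, w, hw⟩ := mem_pre.1 hy
      obtain ⟨x, hx, hxw⟩ := exists_pre (hrange ▸ hP') w.2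
      have h3 := (inducedAlong_iff.1 hind ⟨x, hx⟩).2 (hxw ▸ w.2)
      have e : w = ⟨thFn θ x, hxw ▸ w.2⟩ := Subtype.ext hxw.symm
      rw [e, h3] at hw
      have h4 := (thFn_eq_iff hker ((F.le_of_mem hφ).2 _) hyS).1 hw
      obtain ⟨t, ht, hty⟩ := (StronglyClosed.iso_self hT hm hTP).exists_eq h4
      refine ⟨⟨x, hx⟩ * ⟨t, hTP ht⟩, ?_⟩
      rw [map_mul, ← extendFn_coe φ ⟨t, hTP ht⟩, hty]
      exact mul_inv_cancel_left _ _
    obtain ⟨ψ, hψ, hψφ⟩ := F.inv_mem hφ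
    have hψ2 : ψ.comp (Subgroup.inclusion hle) ∈ F.Hom (preimageAlong θ φ'.range) :=
      ((mor_extendFn hψ).mono hle).hom_eq fun y => (extendFn_coe ψ (Subgroup.inclusion hle y)).symm
    have hr : φ'.range ≤ θ.range := by
      rintro _ ⟨w, rfl⟩
      obtain ⟨x, hx, hxw⟩ := exists_pre (hrange ▸ hP') w.2
      have h3 := (inducedAlong_iff.1 hind ⟨x, hx⟩).2 (hxw ▸ w.2)
      have e : w = ⟨thFn θ x, hxw ▸ w.2⟩ := Subtype.ext hxw.symm
      rw [e, h3]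
      exact thFn_mem_range _ ((F.le_of_mem hφ).2 _)
    obtain ⟨ψ', hψ'⟩ := exists_induced hker hT hr hψ2
    refine ⟨ψ', ⟨hrange ▸ hr, _, hψ2, hψ'⟩, fun w => ?_⟩
    obtain ⟨x, hx, hxw⟩ := exists_pre (hrange ▸ hP') w.2
    have h3 := (inducedAlong_iff.1 hind ⟨x, hx⟩).2 (hxw ▸ w.2)
    have e : w = ⟨thFn θ x, hxw ▸ w.2⟩ := Subtype.ext hxw.symm
    have hy : φ ⟨x, hx⟩ ∈ preimageAlong θ φ'.range :=
      mem_pre.2 ⟨(F.le_of_mem hφ).2 _, _, h3⟩
    have h5 := (inducedAlong_iff.1 hψ' ⟨_, hy⟩).2 (mem_pre.1 hy).2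
    have e2 : (⟨φ' w, ⟨w, rfl⟩⟩ : φ'.range) = ⟨thFn θ (φ ⟨x, hx⟩), (mem_pre.1 hy).2⟩ :=
      Subtype.ext ((congrArg φ' e).trans h3)
    rw [e2, h5, ← hxw]
    exact congrArg (thFn θ) (hψφ ⟨x, hx⟩)

/-- A `p`-subgroup of `T N`, `T` Sylow and `N` normal, is conjugate into `T` by an element of `N`. -/
theorem exists_conj_mem_sylow_of_le_sup {G : Type*} [Group G] [Finite G] [Fact p.Prime]
    (T : Sylow p G) (N : Subgroup G) [N.Normal] {R : Subgroup G} (hR : IsPGroup p R)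
    (hle : R ≤ (T : Subgroup G) ⊔ N) : ∃ k ∈ N, ∀ x ∈ R, k * x * k⁻¹ ∈ (T : Subgroup G) := by
  obtain ⟨g, hg⟩ := exists_conj_mem_sylow
    (R := R.subgroupOf ((T : Subgroup G) ⊔ N)) (hR.comap_subtype) (T.subtype le_sup_left)
  obtain ⟨s, hs, k, hk, hsk⟩ := Subgroup.mem_sup_of_normal_right.1 g.2
  refine ⟨k, hk, fun x hx => ?_⟩
  have h1 : (g : G) * x * (g : G)⁻¹ ∈ (T : Subgroup G) := hg ⟨x, hle hx⟩ hx
  rw [← hsk] at h1
  have h2 := T.mul_mem (T.mul_mem (T.inv_mem hs) h1) hs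
  have e : s⁻¹ * (s * k * x * (s * k)⁻¹) * s = k * x * k⁻¹ := by group
  rwa [e] at h2

/-- Automorphisms of `Q` acting trivially modulo `T`. -/
def kerMod (T Q : Subgroup Ω) : Subgroup (MulAut Q) where
  carrier := {β | ∀ x ∈ Q, x⁻¹ * apl β x ∈ T}
  one_mem' := fun x hx => by rw [apl_one hx, inv_mul_cancel]; exact T.one_mem
  mul_mem' := fun {a b} ha hb x hx => by
    have := T.mul_mem (hb x hx) (ha _ (apl_mem b hx))
    rw [apl_mul _ _ hx]
    rwa [mul_assoc, mul_inv_cancel_left] at this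
  inv_mem' := fun {a} ha x hx => by
    have h := T.inv_mem (ha _ (apl_mem a⁻¹ hx))
    rw [apl_apl_inv a hx] at h
    rwa [mul_inv_rev, inv_inv] at h

theorem kerMod_normal (hT : F.StronglyClosed T) (hQ : Q ≤ S) :
    ((kerMod T Q).subgroupOf (F.autGroup Q)).Normal := by
  refine ⟨fun b hb a x hx => ?_⟩
  have hy : apl (a : MulAut Q)⁻¹ x ∈ Q := apl_mem _ hx
  have hm := (iso_apl hQ a.2).1
  have hb' : ∀ y ∈ Q, y⁻¹ * apl (b : MulAut Q) y ∈ T := hb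
  have h1 := StronglyClosed.mor_mem hT hm (Q.mul_mem (Q.inv_mem hy) (apl_mem _ hy)) (hb' _ hy)
  rw [hm.map_mul (Q.inv_mem hy) (apl_mem _ hy), hm.map_inv hy, apl_apl_inv _ hx] at h1
  show x⁻¹ * apl ((a : MulAut Q) * (b : MulAut Q) * (a : MulAut Q)⁻¹) x ∈ T
  rwa [apl_mul _ _ hx, apl_mul _ _ hy]

theorem imageAlong_le_range (θ : S →* Ω') (P : Subgroup Ω) : imageAlong θ P ≤ θ.range := by
  rintro _ ⟨x, -, rfl⟩
  exact ⟨x, rfl⟩

theorem exists_autMap_of_morphism (hM : F.IsMorphism E θ) (hP : P ≤ S) :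
    ∃ π : F.autGroup P →* E.autGroup (imageAlong θ P), ∀ (α : F.autGroup P) (x : Ω), x ∈ P →
      apl (π α : MulAut (imageAlong θ P)) (thFn θ x) = thFn θ (apl (α : MulAut P) x) := by
  classical
  have hex : ∀ α : F.autGroup P, ∃ β : MulAut (imageAlong θ P), β ∈ E.autGroup (imageAlong θ P) ∧
      ∀ x ∈ P, apl β (thFn θ x) = thFn θ (apl (α : MulAut P) x) := by
    intro α
    obtain ⟨φ, hφ, hφα⟩ := (iso_apl hP α.2).1
    obtain ⟨φ', hφ', hP1, hv, hm, heq⟩ := hM.2 P φ hφ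
    have hval : ∀ x ∈ P, extendFn φ' (thFn θ x) = thFn θ (apl (α : MulAut P) x) := fun x hx => by
      rw [← hφα ⟨x, hx⟩, thFn_apply (hv ⟨x, hx⟩), ← heq ⟨x, hx⟩, thFn_apply (hP hx),
        extendFn_apply φ' (hm ⟨x, hx⟩)]
    have hiso : Iso E (imageAlong θ P) (imageAlong θ P) (extendFn φ') := by
      refine ⟨mor_extendFn hφ', fun z => ⟨fun hz => ?_, ?_⟩⟩
      · obtain ⟨y, hy, rfl⟩ := (mem_imageAlong hP).1 hz
        refine ⟨thFn θ (apl (α : MulAut P)⁻¹ y),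
          (mem_imageAlong hP).2 ⟨_, apl_mem _ hy, rfl⟩, ?_⟩
        rw [hval _ (apl_mem _ hy), apl_apl_inv _ hy]
      · rintro ⟨w, hw, rfl⟩
        obtain ⟨x, hx, rfl⟩ := (mem_imageAlong hP).1 hw
        exact (mem_imageAlong hP).2 ⟨_, apl_mem _ hx, (hval x hx).symm⟩
    obtain ⟨β, hβ, hβf⟩ := hiso.exists_mem_autGroup
    exact ⟨β, hβ, fun x hx => by rw [hβf _ ((mem_imageAlong hP).2 ⟨x, hx, rfl⟩), hval x hx]⟩
  choose res hres hresx using hex
  refine ⟨MonoidHom.mk' (fun α => ⟨res α, hres α⟩) fun a b => Subtype.ext <| apl_ext fun z hz => ?_,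
    hresx⟩
  obtain ⟨x, hx, rfl⟩ := (mem_imageAlong hP).1 hz
  show apl (res (a * b)) _ = apl (res a * res b) _
  rw [hresx _ x hx, apl_mul _ _ hz, hresx b x hx, hresx a _ (apl_mem _ hx)]
  exact congrArg (thFn θ) (apl_mul _ _ hx)

theorem autMap_surjective [Finite S] (hE : F.IsFactorSystem T θ E) (hT : F.StronglyClosed T)
    (hQ : Q ≤ S) (hTQ : T ≤ Q) (π : F.autGroup Q →* E.autGroup (imageAlong θ Q))
    (hπ : ∀ (α : F.autGroup Q) (x : Ω), x ∈ Q →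
      apl (π α : MulAut (imageAlong θ Q)) (thFn θ x) = thFn θ (apl (α : MulAut Q) x)) :
    Function.Surjective π := by
  rintro ⟨β, hβ⟩
  have hQ' : imageAlong θ Q ≤ S' := hE.2.2.1 ▸ imageAlong_le_range θ Q
  obtain ⟨f, hf, hind⟩ := exists_iso_lift hE hT (iso_apl hQ' hβ)
  have e : preimageAlong θ (imageAlong θ Q) = Q := by
    rw [preimage_image hE.2.1 hT hQ, sup_eq_left.2 hTQ]
  rw [e] at hf hind
  obtain ⟨α, hα, hαf⟩ := hf.exists_mem_autGroup
  refine ⟨⟨α, hα⟩, Subtype.ext (apl_ext fun z hz => ?_)⟩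
  obtain ⟨x, hx, rfl⟩ := (mem_imageAlong hQ).1 hz
  rw [hπ _ x hx, hind x hx, hαf x hx]

section Saturated

variable [Fact p.Prime] [Finite S] (hS : IsPGroup p S) (hF : F.IsSaturated p)
  (hE : F.IsFactorSystem T θ E) (hT : F.StronglyClosed T)
include hS hF hE hT

theorem factor_fullyAutomized (hQ : F.IsFullyNormalized Q) (hTQ : T ≤ Q) :
    E.IsFullyAutomized p (imageAlong θ Q) := by
  classical
  have hker := hE.2.1
  have hrange := hE.2.2.1
  have hQS := hQ.1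
  haveI : Finite θ.range := Finite.of_surjective _ θ.rangeRestrict_surjective
  haveI : Finite S' := hrange ▸ (inferInstance : Finite θ.range)
  have hS' : IsPGroup p S' := hrange ▸ hS.of_surjective _ θ.rangeRestrict_surjective
  have hQ' : imageAlong θ Q ≤ S' := hrange ▸ imageAlong_le_range θ Q
  rw [fullyAutomized_iff hS' hQ']
  obtain ⟨π, hresx⟩ :=
    exists_autMap_of_morphism (isSurjectiveMorphism_of_factor hS hF hT hE).1 hQS
  have hsurj := autMap_surjective hE hT hQS hTQ π hresx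
  haveI := finite_of_le hQS
  haveI : Finite (MulAut Q) := Finite.of_injective _ MulEquiv.toEquiv_injective
  intro hd
  obtain ⟨-, T0, hT0⟩ := fullyAutomized_of_fullyNormalized hS hF hQ
  refine T0.not_dvd_index (hd.trans ?_)
  refine dvd_trans ?_ (Subgroup.index_map_dvd (H := (T0 : Subgroup (F.autGroup Q))) hsurj)
  refine Subgroup.index_dvd_of_le ?_
  rintro _ ⟨α, hα, rfl⟩
  rw [SetLike.mem_coe, hT0] at hα
  obtain ⟨s, hs, hn, hx⟩ := mem_autInducedBy_iff.1 (Subgroup.mem_subgroupOf.1 hα)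
  refine Subgroup.mem_subgroupOf.2 (mem_autInducedBy_iff.2
    ⟨thFn θ s, hrange ▸ thFn_mem_range _ hs, ?_, fun z hz => ?_⟩)
  · refine Subgroup.mem_normalizer_iff.2 fun z => ⟨fun hz => ?_, fun hz => ?_⟩
    · obtain ⟨x, hx', rfl⟩ := (mem_imageAlong hQS).1 hz
      exact (mem_imageAlong hQS).2
        ⟨_, (Subgroup.mem_normalizer_iff.1 hn x).1 hx', thFn_conj hs (hQS hx')⟩
    · obtain ⟨x, hx', hxz⟩ := (mem_imageAlong hQS).1 hz
      refine (mem_imageAlong hQS).2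
        ⟨_, (Subgroup.mem_normalizer_iff''.1 hn x).1 hx', ?_⟩
      rw [thFn_mul (S.mul_mem (S.inv_mem hs) (hQS hx')) hs, thFn_mul (S.inv_mem hs) (hQS hx'),
        thFn_inv hs, hxz]
      group
  · obtain ⟨x, hx', rfl⟩ := (mem_imageAlong hQS).1 hz
    show apl (π α : MulAut (imageAlong θ Q)) _ = _
    rw [hresx α x hx', hx x hx', thFn_conj hs (hQS hx')]

theorem factor_receptive (hQ : F.IsFullyNormalized Q) (hTQ : T ≤ Q) :
    E.IsReceptive (imageAlong θ Q) := by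
  classical
  have hker := hE.2.1
  have hrange := hE.2.2.1
  have hQS := hQ.1
  have hQ' : imageAlong θ Q ≤ S' := hrange ▸ imageAlong_le_range θ Q
  haveI := finite_of_le hQS
  haveI : Finite (MulAut Q) := Finite.of_injective _ MulEquiv.toEquiv_injective
  rw [isReceptive_iff]
  refine ⟨hQ', fun P' f' hf' => ?_⟩
  obtain ⟨f, hf, hind⟩ := exists_iso_lift hE hT hf'
  rw [preimage_image hker hT hQS, sup_eq_left.2 hTQ] at hf
  have hP1 := hf.left_le
  have hN' : nPhi S' P' f' ≤ θ.range := fun z hz => hrange ▸ hz.1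
  -- the preimage of the extender normalizes the preimage of the source
  have hnorm : preimageAlong θ (nPhi S' P' f') ≤
      Subgroup.normalizer (preimageAlong θ P' : Set Ω) := by
    intro n hn
    obtain ⟨hnS, -, hn', -⟩ := mem_pre.1 hn
    refine Subgroup.mem_normalizer_iff.2 fun x => ⟨fun hx => ?_, fun hx => ?_⟩
    · obtain ⟨hxS, hx'⟩ := mem_pre.1 hx
      exact mem_pre.2 ⟨S.mul_mem (S.mul_mem hnS hxS) (S.inv_mem hnS), by
        rw [thFn_conj hnS hxS]; exact (Subgroup.mem_normalizer_iff.1 hn' _).1 hx'⟩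
    · obtain ⟨hxS, hx'⟩ := mem_pre.1 hx
      have hxS' : x ∈ S := by
        have := S.mul_mem (S.mul_mem (S.inv_mem hnS) hxS) hnS
        simpa [mul_assoc] using this
      refine mem_pre.2 ⟨hxS', (Subgroup.mem_normalizer_iff.1 hn' _).2 ?_⟩
      rwa [← thFn_conj hnS hxS']
  obtain ⟨-, T0, hT0⟩ := fullyAutomized_of_fullyNormalized hS hF hQ
  haveI := kerMod_normal (F := F) (Q := Q) hT hQS
  let R0 : Subgroup (MulAut Q) :=
    (autInducedBy (preimageAlong θ (nPhi S' P' f')) (preimageAlong θ P')).map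
      hf.conjAut.toMonoidHom
  have hR0A : R0 ≤ F.autGroup Q := by
    rintro _ ⟨α, hα, rfl⟩
    exact hf.conjAut_mem (autInducedBy_le_autGroup hP1 (autInducedBy_mono pre_le hα))
  have hR0 : IsPGroup p R0 :=
    (isPGroup_autInducedBy (hS.to_le pre_le)).map _
  have hle : R0.subgroupOf (F.autGroup Q) ≤
      (T0 : Subgroup (F.autGroup Q)) ⊔ (kerMod T Q).subgroupOf (F.autGroup Q) := by
    rintro ⟨β, hβA⟩ hβ
    obtain ⟨α, hα, hαβ⟩ := Subgroup.mem_map.1 hβ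
    obtain ⟨n, hn, -, hαx⟩ := mem_autInducedBy_iff.1 hα
    obtain ⟨hnS, -, hn', h', hh', hh'x⟩ := mem_pre.1 hn
    obtain ⟨h, hh⟩ := hrange.ge hh'
    have hth : thFn θ (h : Ω) = h' := by rw [thFn_coe, hh]
    have hβx : ∀ x ∈ preimageAlong θ P',
        thFn θ (apl β (f x)) = h' * thFn θ (f x) * h'⁻¹ := by
      intro x hx
      obtain ⟨hxS, hx'⟩ := mem_pre.1 hx
      have hc : n * x * n⁻¹ ∈ preimageAlong θ P' :=
        (Subgroup.mem_normalizer_iff.1 (hnorm hn) x).1 hx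
      have hb : apl β (f x) = f (n * x * n⁻¹) := by
        rw [show β = hf.conjAut α from hαβ.symm, hf.conjAut_apl α hx, hαx x hx]
      rw [hb, ← hind _ hc, thFn_conj hnS hxS, hh'x _ hx', hind x hx]
    have hmod : ∀ y ∈ Q, ((h : Ω) * y * (h : Ω)⁻¹)⁻¹ * apl β y ∈ T := by
      intro y hy
      obtain ⟨x, hx, rfl⟩ := hf.exists_eq hy
      refine (thFn_eq_iff hker (S.mul_mem (S.mul_mem h.2 (hQS hy)) (S.inv_mem h.2))
        (hQS (apl_mem β hy))).1 ?_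
      rw [thFn_conj h.2 (hQS hy), hth, hβx x hx]
    have hconj : ∀ y ∈ Q, (h : Ω) * y * (h : Ω)⁻¹ ∈ Q := by
      intro y hy
      have := Q.mul_mem (apl_mem β hy) (Q.inv_mem (hTQ (hmod y hy)))
      have e : apl β y * (((h : Ω) * y * (h : Ω)⁻¹)⁻¹ * apl β y)⁻¹ =
          (h : Ω) * y * (h : Ω)⁻¹ := by group
      rwa [e] at this
    have hhn : (h : Ω) ∈ Subgroup.normalizer (Q : Set Ω) :=
      mem_normalizer_of_conj_mem hconj
    obtain ⟨γ, hγ, hγx⟩ := exists_mem_autInducedBy (P := Q) h.2 hhn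
    have hγA : γ ∈ F.autGroup Q := autInducedBy_le_autGroup hQS hγ
    have e : (⟨β, hβA⟩ : F.autGroup Q) =
        ⟨γ, hγA⟩ * ⟨γ⁻¹ * β, Subgroup.mul_mem _ (Subgroup.inv_mem _ hγA) hβA⟩ :=
      Subtype.ext (mul_inv_cancel_left _ _).symm
    rw [e]
    refine Subgroup.mul_mem_sup (by rw [hT0]; exact hγ) fun y hy => ?_
    have hw : apl (γ⁻¹ * β) y ∈ Q := apl_mem _ hy
    have h1 : (h : Ω) * apl (γ⁻¹ * β) y * (h : Ω)⁻¹ = apl β y := by
      rw [← hγx _ hw, ← apl_mul _ _ hy, mul_inv_cancel_left]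
    have h2 := hmod y hy
    rw [← h1] at h2
    have h3 := (Subgroup.mem_normalizer_iff.1 (StronglyClosed.le_normalizer hT h.2)
      (y⁻¹ * apl (γ⁻¹ * β) y)).2
    refine h3 ?_
    have e2 : ((h : Ω) * y * (h : Ω)⁻¹)⁻¹ * ((h : Ω) * apl (γ⁻¹ * β) y * (h : Ω)⁻¹) =
        (h : Ω) * (y⁻¹ * apl (γ⁻¹ * β) y) * (h : Ω)⁻¹ := by group
    rwa [e2] at h2
  obtain ⟨k, hk, hkR⟩ := exists_conj_mem_sylow_of_le_sup T0 _ hR0.comap_subtype hle
  have hk' : ∀ y ∈ Q, y⁻¹ * apl (k : MulAut Q) y ∈ T := hk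
  have hf2 : Iso F (preimageAlong θ P') Q (apl (k : MulAut Q) ∘ f) :=
    hf.comp (iso_apl hQS k.2)
  obtain ⟨g, hg, hgf⟩ := (isReceptive_iff.1 (receptive_of_fullyNormalized hS hF hQ)).2 _ _ hf2
  have hsub : preimageAlong θ (nPhi S' P' f') ≤
      nPhi S (preimageAlong θ P') (apl (k : MulAut Q) ∘ f) := by
    intro n hn
    obtain ⟨α, hα, hαx⟩ :=
      exists_mem_autInducedBy (P := preimageAlong θ P') hn (hnorm hn)
    have hm : hf.conjAut α ∈ R0 := Subgroup.mem_map.2 ⟨α, hα, rfl⟩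
    have h1 := hkR ⟨_, hR0A hm⟩ hm
    rw [hT0] at h1
    obtain ⟨e, he, -, hex⟩ := mem_autInducedBy_iff.1 (Subgroup.mem_subgroupOf.1 h1)
    refine ⟨pre_le hn, hnorm hn, e, he, fun x hx => ?_⟩
    show apl (k : MulAut Q) (f (n * x * n⁻¹)) = e * apl (k : MulAut Q) (f x) * e⁻¹
    have hfx := hf.mem hx
    rw [← hex _ (apl_mem _ hfx), ← hαx x hx, ← hf.conjAut_apl α hx]
    show _ = apl ((k : MulAut Q) * hf.conjAut α * (k : MulAut Q)⁻¹) _
    rw [apl_mul _ _ (apl_mem _ hfx), apl_inv_apl _ hfx, apl_mul _ _ hfx]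
  obtain ⟨φ, hφ, hφg⟩ := hg.mono hsub
  obtain ⟨φ', hφ'⟩ := exists_induced hker hT hN' hφ
  refine ⟨extendFn φ', mor_extendFn ((hE.2.2.2 _ φ').2 ⟨fun z hz => hz.1, φ, hφ, hφ'⟩),
    fun z hz => ?_⟩
  obtain ⟨x, hx, rfl⟩ := exists_pre (hrange ▸ hf'.left_le) hz
  have hzN : thFn θ x ∈ nPhi S' P' f' := hf'.1.le_nPhi hz
  have hxN : x ∈ preimageAlong θ (nPhi S' P' f') := mem_pre.2 ⟨pre_le hx, hzN⟩
  rw [extendFn_apply φ' hzN, (inducedAlong_iff.1 hφ' ⟨x, hxN⟩).2 hzN, hφg, hind x hx]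
  show thFn θ (g x) = _
  rw [hgf x hx]
  exact ((thFn_eq_iff hker (hf.1.mem_S hx) (hQS (apl_mem _ (hf.mem hx)))).2
    (hk' _ (hf.mem hx))).symm
where
  mem_normalizer_of_conj_mem {G : Type _} [Group G] {Q : Subgroup G} [Finite Q] {h : G}
      (hc : ∀ y ∈ Q, h * y * h⁻¹ ∈ Q) : h ∈ Subgroup.normalizer (Q : Set G) := by
    refine Subgroup.mem_normalizer_iff.2 fun y => ⟨hc y, fun hy => ?_⟩
    obtain ⟨⟨z, hz⟩, hzy⟩ := (Finite.injective_iff_surjective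
      (f := fun y : Q => (⟨h * y * h⁻¹, hc y y.2⟩ : Q))).1 (fun a b hab => Subtype.ext <|
        mul_left_cancel (mul_right_cancel (congrArg Subtype.val hab))) ⟨_, hy⟩
    have : z = y := mul_left_cancel (mul_right_cancel (congrArg Subtype.val hzy))
    exact this ▸ hz

theorem factor_saturated : E.IsSaturated p := by
  intro P' hP'
  have hker := hE.2.1
  have hrange := hE.2.2.1
  obtain ⟨Q, g, hQ, hg, hiso, -⟩ :=
    exists_fullyNormalized_mor hS hF (P := preimageAlong θ P') pre_le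
  have hTP := le_preimageAlong hker hT.1 P'
  have hTQ : T ≤ Q := fun t ht => by
    obtain ⟨u, hu, rfl⟩ := (StronglyClosed.iso_self hT hiso.1 hTP).exists_eq ht
    exact hiso.mem (hTP hu)
  obtain ⟨f', hf', -⟩ := exists_iso_image hE hT hiso hTP
  have e : imageAlong θ (preimageAlong θ P') = P' := by
    ext z
    rw [mem_imageAlong pre_le]
    exact ⟨fun ⟨x, hx, hxz⟩ => hxz ▸ (mem_pre.1 hx).2, fun hz => exists_pre (hrange ▸ hP') hz⟩
  rw [e] at hf'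
  exact ⟨_, hf'.isConj, factor_fullyAutomized hS hF hE hT hQ hTQ,
    factor_receptive hS hF hE hT hQ hTQ⟩

theorem factor_hyperfocal :
    E.hyperfocalSubgroup p = ((F.hyperfocalSubgroup p).subgroupOf S).map θ := by
  classical
  have hker := hE.2.1
  have hrange := hE.2.2.1
  have hM := (isSurjectiveMorphism_of_factor hS hF hT hE).1
  have key : ∀ P ≤ S, ∀ (α : F.autGroup P), α ∈ pResidual p (F.autGroup P) → ∀ x ∈ P,
      (thFn θ x)⁻¹ * thFn θ (apl (α : MulAut P) x) ∈ imageAlong θ (F.hyperfocalSubgroup p) := by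
    intro P hP α hα x hx
    have hxS := hP hx
    have hyS := hP (apl_mem (α : MulAut P) hx)
    rw [← thFn_inv hxS, ← thFn_mul (S.inv_mem hxS) hyS]
    exact (mem_imageAlong (hyperfocal_le F p)).2
      ⟨_, residual_quot_mem_hyperfocal hP (Subgroup.mem_map_of_mem _ hα) hx, rfl⟩
  refine le_antisymm ((Subgroup.closure_le _).2 ?_) ?_
  · rintro _ ⟨P', β, z, hP', hβ, rfl⟩
    have hTP : T ≤ preimageAlong θ P' := le_preimageAlong hker hT.1 P'
    have e : imageAlong θ (preimageAlong θ P') = P' := by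
      ext w
      rw [mem_imageAlong pre_le]
      exact ⟨fun ⟨x, hx, hxw⟩ => hxw ▸ (mem_pre.1 hx).2, fun hw => exists_pre (hrange ▸ hP') hw⟩
    have h : ∀ β : E.autGroup (imageAlong θ (preimageAlong θ P')),
        β ∈ pResidual p (E.autGroup (imageAlong θ (preimageAlong θ P'))) →
        ∀ z ∈ imageAlong θ (preimageAlong θ P'),
          z⁻¹ * apl (β : MulAut (imageAlong θ (preimageAlong θ P'))) z ∈
            imageAlong θ (F.hyperfocalSubgroup p) := by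
      obtain ⟨π, hπ⟩ := exists_autMap_of_morphism hM (pre_le (θ := θ) (P' := P'))
      have hsurj := autMap_surjective hE hT pre_le hTP π hπ
      haveI := finite_of_le (pre_le (S := S) (θ := θ) (P' := P'))
      haveI : Finite (MulAut (preimageAlong θ P')) :=
        Finite.of_injective _ MulEquiv.toEquiv_injective
      intro β hβ z hz
      rw [← Cfsg.Agent.Fusion.map_pResidual_of_surjective π hsurj] at hβ
      obtain ⟨α, hα, rfl⟩ := hβ
      obtain ⟨x, hx, rfl⟩ := (mem_imageAlong pre_le).1 hz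
      rw [hπ α x hx]
      exact key _ pre_le α hα x hx
    rw [e] at h
    rw [← apl_coe]
    exact h β hβ _ z.2
  · rw [Subgroup.map_le_iff_le_comap]
    intro s hs
    suffices h : F.hyperfocalSubgroup p ≤ ((E.hyperfocalSubgroup p).comap θ).map S.subtype by
      obtain ⟨t, ht, hts⟩ := h (Subgroup.mem_subgroupOf.1 hs)
      exact Subtype.ext hts ▸ ht
    refine (Subgroup.closure_le _).2 ?_
    rintro _ ⟨P, α, x, hP, hα, rfl⟩
    obtain ⟨π, hπ⟩ := exists_autMap_of_morphism hM hP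
    have hxS := hP x.2
    have hyS := hP ((α : MulAut P) x).2
    refine ⟨⟨_, S.mul_mem (S.inv_mem hxS) hyS⟩, Subgroup.mem_comap.2 ?_, rfl⟩
    rw [← thFn_apply, thFn_mul (S.inv_mem hxS) hyS, thFn_inv hxS, ← apl_coe, ← hπ α x x.2]
    exact residual_quot_mem_hyperfocal (hrange ▸ imageAlong_le_range θ P)
      (Subgroup.mem_map_of_mem _ (Cfsg.Agent.Fusion.map_pResidual_le π (Subgroup.mem_map_of_mem π hα)))
      ((mem_imageAlong hP).2 ⟨x, x.2, rfl⟩)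

end Saturated

/-- A surjective morphism exhibits its target as a factor system modulo the kernel, which is
strongly closed. -/
theorem factor_of_surjective (hα : F.IsSurjectiveMorphism E θ) :
    F.StronglyClosed (θ.ker.map S.subtype) ∧ F.IsFactorSystem (θ.ker.map S.subtype) θ E := by
  obtain ⟨⟨-, hmor⟩, hrange, hsurj⟩ := hα
  have hTS : θ.ker.map S.subtype ≤ S := Subgroup.map_subtype_le _
  have hker : ∀ s : S, θ s = 1 ↔ (s : Ω) ∈ θ.ker.map S.subtype := fun s =>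
    ⟨fun h => Subgroup.mem_map.2 ⟨s, h, rfl⟩, fun h => by
      obtain ⟨t, ht, hts⟩ := Subgroup.mem_map.1 h
      exact Subtype.ext hts ▸ ht⟩
  refine ⟨stronglyClosed_iff.2 ⟨hTS, fun R f hR hf x hx => ?_⟩, hTS, hker, hrange, fun P' φ' => ?_⟩
  · obtain ⟨φ, hφ, hφf⟩ := hf
    obtain ⟨φ', -, hP, hv, hP', heq⟩ := hmor R φ hφ
    have h1 := heq ⟨x, hx⟩
    have h0 : θ ⟨x, hP hx⟩ = 1 := (hker _).2 (hR hx)
    have e : (⟨θ ⟨x, hP hx⟩, hP' ⟨x, hx⟩⟩ : imageAlong θ R) = 1 := Subtype.ext h0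
    rw [e, _root_.map_one] at h1
    rw [← hφf ⟨x, hx⟩]
    exact (hker ⟨_, hv ⟨x, hx⟩⟩).1 h1.symm
  · constructor
    · exact fun h => ⟨(E.le_of_mem h).1, hsurj P' (E.le_of_mem h).1 φ' h⟩
    · rintro ⟨hP', φ, hφ, hind⟩
      obtain ⟨ψ, hψ, hind'⟩ := hmor _ φ hφ
      have e : imageAlong θ (preimageAlong θ P') = P' := by
        ext z
        rw [mem_imageAlong pre_le]
        exact ⟨fun ⟨x, hx, hxz⟩ => hxz ▸ (mem_pre.1 hx).2,
          fun hz => exists_pre (hrange ▸ hP') hz⟩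
      obtain ⟨hP, hv, hm, heq⟩ := hind'
      refine ((mor_extendFn hψ).mono e.ge).hom_eq fun z => ?_
      obtain ⟨x, hx, hxz⟩ := exists_pre (hrange ▸ hP') z.2
      have h1 := (inducedAlong_iff.1 hind ⟨x, hx⟩).2 (hxz ▸ z.2)
      have h2 := heq ⟨x, hx⟩
      have ez : z = ⟨thFn θ x, hxz ▸ z.2⟩ := Subtype.ext hxz.symm
      rw [ez, h1]
      show thFn θ (φ ⟨x, hx⟩) = extendFn ψ (thFn θ x)
      rw [thFn_apply (hv ⟨x, hx⟩), ← h2, thFn_apply (pre_le hx), extendFn_apply ψ (hm ⟨x, hx⟩)]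

end Cfsg.Agent.FusSys
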