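import Cfsg.Agent.FusSys.Cocycle
import Cfsg.Agent.FusSys.Factor
import Cfsg.Agent.Fusion.Critical

/-!
Transfer in saturated fusion systems: Tate's theorem, the focal subgroup and the centre.
-/

set_option autoImplicit false

namespace Cfsg.Agent.FusSys

open Cfsg Cfsg.FusionSystem
open scoped commutatorElement

universe u v

variable {Ω : Type u} [Group Ω] {S : Subgroup Ω} {F : FusionSystem S} {p : ℕ}

theorem normal_hyperfocal [Finite S] :
    ((F.hyperfocalSubgroup p).subgroupOf S).Normal :=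
  ⟨fun n hn g => (hyperfocal_conj_iff g.2 n.2).2 hn⟩

section Saturated

variable [Fact p.Prime] [Finite S] (hS : IsPGroup p S) (hF : F.IsSaturated p)
include hS hF

theorem exists_mod_hyperfocal {P : Subgroup Ω} {f : Ω → Ω} (hf : Mor F P f) :
    ∃ t ∈ S, ∀ x ∈ P, (t * x * t⁻¹)⁻¹ * f x ∈ F.hyperfocalSubgroup p := by
  suffices h : ∀ P f, Mor F P f → P ≤ S ∧ (∀ x ∈ P, f x ∈ S) ∧
      ∃ t ∈ S, ∀ x ∈ P, (t * x * t⁻¹)⁻¹ * f x ∈ F.hyperfocalSubgroup p from (h P f hf).2.2
  have hcl : ∀ s ∈ S, ∀ y, y ∈ F.hyperfocalSubgroup p → s * y * s⁻¹ ∈ F.hyperfocalSubgroup p :=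
    fun s hs y hy => (hyperfocal_conj_iff hs (hyperfocal_le F p hy)).2 hy
  have hM : SubRel F S (fun P f => P ≤ S ∧ (∀ x ∈ P, f x ∈ S) ∧
      ∃ t ∈ S, ∀ x ∈ P, (t * x * t⁻¹)⁻¹ * f x ∈ F.hyperfocalSubgroup p) := by
    refine ⟨fun {P f g} ⟨h1, h2, t, ht, h3⟩ he => ⟨h1, fun x hx => he x hx ▸ h2 x hx, t, ht,
      fun x hx => by rw [he x hx]; exact h3 x hx⟩, fun h => ⟨h.1, h.2.1⟩, ?_, ?_, ?_⟩
    · intro P s hP hs
      exact ⟨mor_conj hP hs, hP, fun x hx => S.mul_mem (S.mul_mem hs (hP hx)) (S.inv_mem hs),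
        s, hs, fun x _ => by rw [inv_mul_cancel]; exact Subgroup.one_mem _⟩
    · rintro P Q f g - ⟨h1, -, t, ht, h3⟩ - ⟨-, h2', t', ht', h3'⟩ hfQ
      refine ⟨h1, fun x hx => h2' _ (hfQ x hx), t' * t, S.mul_mem ht' ht, fun x hx => ?_⟩
      have e : (t' * t * x * (t' * t)⁻¹)⁻¹ * g (f x) =
          (t' * ((t * x * t⁻¹)⁻¹ * f x) * t'⁻¹) * ((t' * f x * t'⁻¹)⁻¹ * g (f x)) := by group
      show (t' * t * x * (t' * t)⁻¹)⁻¹ * g (f x) ∈ _
      rw [e]
      exact Subgroup.mul_mem _ (hcl t' ht' _ (h3 x hx)) (h3' _ (hfQ x hx))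
    · rintro P Q f g hf' ⟨-, -, t, ht, h3⟩ hg hgf
      refine ⟨hg.left_le, fun y hy => hg.right_le (hg.mem hy), t⁻¹, S.inv_mem ht, fun y hy => ?_⟩
      obtain ⟨z, hz, rfl⟩ := hf'.exists_eq hy
      rw [hgf z hz]
      have e : (t⁻¹ * f z * t⁻¹⁻¹)⁻¹ * z = t⁻¹ * ((f z)⁻¹ * (t * z * t⁻¹)) * t⁻¹⁻¹ := by group
      rw [e]
      refine hcl _ (S.inv_mem ht) _ ?_
      have := Subgroup.inv_mem _ (h3 z hz)
      rwa [mul_inv_rev, inv_inv] at this
  refine residual_induction hS hF hM (fun α hα => ?_) fun R hR α hα =>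
    ⟨hR, fun x hx => hR (apl_mem α hx), 1, S.one_mem, fun x hx => by
      rw [one_mul, inv_one, mul_one]
      exact residual_quot_mem_hyperfocal hR hα hx⟩
  have key : ∀ β : MulAut S, β ∈ (subSys hM).autGroup S →
      S ≤ S ∧ (∀ x ∈ S, apl β x ∈ S) ∧
        ∃ t ∈ S, ∀ x ∈ S, (t * x * t⁻¹)⁻¹ * apl β x ∈ F.hyperfocalSubgroup p := fun β hβ =>
    ((mor_subSys hM).1 (iso_apl le_rfl hβ).1).2
  have hn : F.IsFullyNormalized S := ⟨le_rfl, fun Q _ => by
    haveI := finite_of_le (normalizerIn_le S S)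
    exact Subgroup.card_le_of_le (le_inf (normalizerIn_le S Q)
      ((normalizerIn_le S Q).trans Subgroup.le_normalizer))⟩
  refine key α ?_
  rw [autGroup_eq_residual_sup hS hF hn] at hα
  refine (sup_le (fun β hβ => ?_) (autInducedBy_le_autGroup le_rfl)) hα
  exact Subgroup.subset_closure (((mor_subSys hM).2
    ⟨(iso_apl le_rfl (residual_mem_autGroup hβ)).1, le_rfl, fun x hx => apl_mem β hx, 1, S.one_mem,
      fun x hx => by
        rw [one_mul, inv_one, mul_one]
        exact residual_quot_mem_hyperfocal le_rfl hβ hx⟩).hom_eq fun x => (apl_coe β x).symm)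

/-- The biset cocycle adapted to a normal subgroup containing the hyperfocal subgroup. -/
theorem exists_bisetData_above (K : Subgroup S) [K.Normal]
    (hK : (F.hyperfocalSubgroup p).subgroupOf S ≤ K) :
    ∃ B : BisetData F K, ¬ p ∣ Fintype.card B.O := by
  obtain ⟨E, hE⟩ := exists_productSystem F F
  obtain ⟨L, hL, hdiag, d, hd, hLd⟩ := exists_biset hS hF hE
  obtain ⟨B, hB⟩ := exists_bisetData hE K (fun P f hf => by
    obtain ⟨t, ht, htx⟩ := exists_mod_hyperfocal hS hF hf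
    refine ⟨⟨t, ht⟩, fun x y hx hy => hK ?_⟩
    rw [Subgroup.mem_subgroupOf]
    simp only [Subgroup.coe_mul, Subgroup.coe_inv, hy]
    exact htx x hx) L hL hdiag
  refine ⟨B, ?_⟩
  rw [← Nat.card_eq_fintype_card]
  rw [hLd] at hB
  rwa [← Nat.eq_of_mul_eq_mul_left Nat.card_pos hB]

/-- An `F`-stable homomorphism on the hyperfocal subgroup is trivial. -/
theorem stable_hom_hyperfocal {A : Type v} [CommGroup A] (τ : S → A)
    (hmul : ∀ a b : S, (a : Ω) ∈ F.hyperfocalSubgroup p → (b : Ω) ∈ F.hyperfocalSubgroup p →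
      τ (a * b) = τ a * τ b)
    (hst : ∀ R f, Mor F R f → ∀ u w : S, (u : Ω) ∈ R → (w : Ω) = f u →
      (u : Ω) ∈ F.hyperfocalSubgroup p → (w : Ω) ∈ F.hyperfocalSubgroup p → τ w = τ u)
    {k : S} (hk : (k : Ω) ∈ F.hyperfocalSubgroup p) : τ k = 1 := by
  haveI := normal_hyperfocal (F := F) (p := p)
  let τ' : ((F.hyperfocalSubgroup p).subgroupOf S) →* A :=
    MonoidHom.mk' (fun a => τ a) fun a b => hmul a b a.2 b.2
  suffices h : F.hyperfocalSubgroup p ≤ ((τ'.ker.map
      ((F.hyperfocalSubgroup p).subgroupOf S).subtype).map S.subtype) by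
    obtain ⟨_, ⟨a, ha, rfl⟩, hak⟩ := h hk
    have : (a : S) = k := Subtype.ext hak
    exact this ▸ MonoidHom.mem_ker.1 ha
  refine (Subgroup.closure_le _).2 ?_
  rintro _ ⟨P, α, x, hP, hα, rfl⟩
  haveI := finite_of_le hP
  haveI : Finite (MulAut P) := Finite.of_injective _ MulEquiv.toEquiv_injective
  -- the elements of the residual that are killed
  have hK : ∀ (γ : F.autGroup P), γ ∈ pResidual p (F.autGroup P) → ∀ x ∈ P,
      x⁻¹ * apl (γ : MulAut P) x ∈ F.hyperfocalSubgroup p := fun γ hγ x hx =>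
    residual_quot_mem_hyperfocal hP (Subgroup.mem_map_of_mem _ hγ) hx
  let q : ∀ (γ : F.autGroup P) (x : P), S := fun γ x =>
    ⟨(x : Ω)⁻¹ * apl (γ : MulAut P) x, S.mul_mem (S.inv_mem (hP x.2)) (hP (apl_mem _ x.2))⟩
  let U : Subgroup (F.autGroup P) :=
    { carrier := {γ | γ ∈ pResidual p (F.autGroup P) ∧ ∀ x : P, τ (q γ x) = 1}
      one_mem' := ⟨Subgroup.one_mem _, fun x => by
        have e : q 1 x = 1 := Subtype.ext (by
          show (x : Ω)⁻¹ * apl (1 : MulAut P) x = 1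
          rw [apl_one x.2, inv_mul_cancel])
        rw [e]
        exact τ'.map_one⟩
      mul_mem' := fun {a b} ha hb => ⟨Subgroup.mul_mem _ ha.1 hb.1, fun x => by
        have e : q (a * b) x = q b x * q a ⟨_, apl_mem (b : MulAut P) x.2⟩ := Subtype.ext (by
          show (x : Ω)⁻¹ * apl ((a : MulAut P) * (b : MulAut P)) x =
            ((x : Ω)⁻¹ * apl (b : MulAut P) x) *
              ((apl (b : MulAut P) x)⁻¹ * apl (a : MulAut P) (apl (b : MulAut P) x))
          rw [apl_mul _ _ x.2, mul_assoc, mul_inv_cancel_left])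
        rw [e, hmul _ _ (hK b hb.1 x x.2) (hK a ha.1 _ (apl_mem _ x.2)), hb.2, ha.2, one_mul]⟩
      inv_mem' := fun {a} ha => ⟨Subgroup.inv_mem _ ha.1, fun x => by
        have h := ha.2 ⟨_, apl_mem (a : MulAut P)⁻¹ x.2⟩
        have e2 : q a⁻¹ x * q a ⟨_, apl_mem (a : MulAut P)⁻¹ x.2⟩ = 1 := Subtype.ext (by
          show ((x : Ω)⁻¹ * apl (a : MulAut P)⁻¹ x) *
              ((apl (a : MulAut P)⁻¹ x)⁻¹ * apl (a : MulAut P) (apl (a : MulAut P)⁻¹ x)) = 1
          rw [apl_apl_inv _ x.2, mul_assoc, mul_inv_cancel_left, inv_mul_cancel])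
        have h2 := congrArg τ e2
        rw [hmul _ _ (hK _ (Subgroup.inv_mem _ ha.1) x x.2) (hK a ha.1 _ (apl_mem _ x.2)), h,
          mul_one] at h2
        rw [h2]
        exact τ'.map_one⟩ }
  have hle : pResidual p (F.autGroup P) ≤ U := by
    refine (Subgroup.closure_le _).2 fun γ hγ => ⟨Cfsg.Agent.Fusion.mem_pResidual_of_coprime hγ,
      fun y => ?_⟩
    have hres := Cfsg.Agent.Fusion.mem_pResidual_of_coprime (p := p) (G := F.autGroup P) hγ
    -- telescoping along the powers of `γ`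
    have hpow : ∀ n : ℕ, τ (q (γ ^ n) y) = τ (q γ y) ^ n := by
      intro n
      induction n with
      | zero =>
        have e : q (γ ^ 0) y = 1 := Subtype.ext (by
          show (y : Ω)⁻¹ * apl ((γ ^ 0 : F.autGroup P) : MulAut P) y = 1
          rw [pow_zero, OneMemClass.coe_one, apl_one y.2, inv_mul_cancel])
        rw [e, pow_zero]
        exact τ'.map_one
      | succ n ih =>
        have hin := Subgroup.pow_mem _ hres n
        obtain ⟨z, hz⟩ : ∃ z : P, (z : Ω) = apl ((γ ^ n : F.autGroup P) : MulAut P) y :=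
          ⟨⟨_, apl_mem _ y.2⟩, rfl⟩
        have e : q (γ ^ (n + 1)) y = q (γ ^ n) y * q γ z := Subtype.ext (by
          show (y : Ω)⁻¹ * apl ((γ ^ (n + 1) : F.autGroup P) : MulAut P) y =
            ((y : Ω)⁻¹ * apl ((γ ^ n : F.autGroup P) : MulAut P) y) *
              ((z : Ω)⁻¹ * apl (γ : MulAut P) z)
          rw [hz, pow_succ', Subgroup.coe_mul, apl_mul _ _ y.2, mul_assoc, mul_inv_cancel_left])
        rw [e, hmul _ _ (hK _ hin y y.2) (hK γ hres z z.2), ih, pow_succ]
        congr 1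
        -- `q γ z` is the image of `q γ y` under the map `γ ^ n`
        have hi := iso_apl hP (γ ^ n).2
        refine hst P _ hi.1 (q γ y) (q γ z) (P.mul_mem (P.inv_mem y.2) (apl_mem _ y.2)) ?_
          (hK γ hres y y.2) (hK γ hres z z.2)
        show (z : Ω)⁻¹ * apl (γ : MulAut P) z =
          apl ((γ ^ n : F.autGroup P) : MulAut P) ((y : Ω)⁻¹ * apl (γ : MulAut P) y)
        rw [hi.1.map_mul (P.inv_mem y.2) (apl_mem _ y.2), hi.1.map_inv y.2, hz, ← apl_mul _ _ y.2,
          ← apl_mul _ _ y.2, ← Subgroup.coe_mul, ← Subgroup.coe_mul, ← pow_succ, ← pow_succ']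
    have h1 : τ (q γ y) ^ orderOf γ = 1 := by
      rw [← hpow, pow_orderOf_eq_one]
      have e : q (1 : F.autGroup P) y = 1 := Subtype.ext (by
        show (y : Ω)⁻¹ * apl (1 : MulAut P) y = 1
        rw [apl_one y.2, inv_mul_cancel])
      rw [e]
      exact τ'.map_one
    obtain ⟨e, he⟩ := hS.to_subgroup ((F.hyperfocalSubgroup p).subgroupOf S)
      ⟨q γ y, hK γ hres y y.2⟩
    have h2 : τ (q γ y) ^ p ^ e = 1 := by
      have := congrArg τ' he
      rw [map_pow, _root_.map_one] at this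
      exact this
    rw [← orderOf_eq_one_iff]
    exact Nat.eq_one_of_dvd_coprimes (Nat.Coprime.pow_right e hγ)
      (orderOf_dvd_of_pow_eq_one h1) (orderOf_dvd_of_pow_eq_one h2)
  have h := (hle hα).2 x
  refine ⟨q α x, ⟨⟨q α x, hK α hα x x.2⟩, h, rfl⟩, ?_⟩
  show (x : Ω)⁻¹ * apl (α : MulAut P) x = _
  rw [apl_coe]

/-- A normal subgroup of `S` inside the hyperfocal subgroup with the same product with the
derived subgroup is the whole hyperfocal subgroup. -/
theorem hyperfocal_le_of_sup {M : Subgroup S} [M.Normal]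
    (hM : M ≤ (F.hyperfocalSubgroup p).subgroupOf S)
    (hle : (F.hyperfocalSubgroup p).subgroupOf S ≤ M ⊔ commutator S) :
    (F.hyperfocalSubgroup p).subgroupOf S ≤ M := by
  classical
  haveI := normal_hyperfocal (F := F) (p := p)
  generalize hKdef : (F.hyperfocalSubgroup p).subgroupOf S = K at *
  -- the key step
  have hstep : K ≤ M ⊔ ⁅K, (⊤ : Subgroup S)⁆ := by
    intro k hk
    obtain ⟨L, hL⟩ : ∃ L, L = M ⊔ ⁅K, (⊤ : Subgroup S)⁆ := ⟨_, rfl⟩
    rw [← hL]
    haveI : L.Normal := hL ▸ inferInstance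
    have hLK : L ≤ K := hL ▸ sup_le hM (Subgroup.commutator_le_left K ⊤)
    have hcen : ∀ k ∈ K, QuotientGroup.mk' L k ∈ Subgroup.center (S ⧸ L) := by
      intro k hk
      refine Subgroup.mem_center_iff.2 fun z => ?_
      obtain ⟨x, rfl⟩ := QuotientGroup.mk'_surjective L z
      rw [← map_mul, ← map_mul]
      refine QuotientGroup.eq.2 ?_
      have h1 : ⁅k⁻¹, x⁻¹⁆ ∈ L := hL ▸ Subgroup.mem_sup_right
        (Subgroup.commutator_mem_commutator (K.inv_mem hk) (Subgroup.mem_top _))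
      rw [commutatorElement_def] at h1
      have e : (x * k)⁻¹ * (k * x) = k⁻¹ * x⁻¹ * k⁻¹⁻¹ * x⁻¹⁻¹ := by group
      rwa [e]
    have hrep : ∀ x : S, x * ((x : S ⧸ K).out)⁻¹ * (((1 : S) : S ⧸ K).out) ∈ K := by
      intro x
      rw [← QuotientGroup.eq_one_iff, QuotientGroup.mk_mul, QuotientGroup.mk_mul,
        QuotientGroup.mk_inv, QuotientGroup.out_eq', QuotientGroup.out_eq', mul_inv_cancel,
        QuotientGroup.mk_one, one_mul]
    let c : S → Subgroup.center (S ⧸ L) := fun x =>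
      ⟨QuotientGroup.mk' L (x * ((x : S ⧸ K).out)⁻¹ * (((1 : S) : S ⧸ K).out)), hcen _ (hrep x)⟩
    have hck : ∀ k ∈ K, (c k : S ⧸ L) = QuotientGroup.mk' L k := by
      intro k hk
      show QuotientGroup.mk' L _ = _
      rw [(QuotientGroup.eq_one_iff (N := K) k).2 hk, ← QuotientGroup.mk_one, inv_mul_cancel_right]
    have hc : ∀ k ∈ K, ∀ x, c (k * x) = c k * c x := by
      intro k hk x
      refine Subtype.ext ?_
      rw [Subgroup.coe_mul, hck k hk]
      show QuotientGroup.mk' L _ = _ * QuotientGroup.mk' L _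
      rw [← map_mul]
      have e : ((k * x : S) : S ⧸ K) = (x : S ⧸ K) := by
        rw [QuotientGroup.mk_mul, (QuotientGroup.eq_one_iff (N := K) k).2 hk, one_mul]
      rw [e, mul_assoc k, mul_assoc k]
    have hinv : ∀ k ∈ K, ∀ x, c (x * k * x⁻¹) = c k := by
      intro k hk x
      refine Subtype.ext ?_
      rw [hck k hk, hck _ (Subgroup.Normal.conj_mem inferInstance k hk x), map_mul, map_mul,
        map_inv, Subgroup.mem_center_iff.1 (hcen k hk), mul_inv_cancel_right]
    obtain ⟨B, hB⟩ := exists_bisetData_above hS hF K hKdef.le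
    letI : CommGroup (Subgroup.center (S ⧸ L)) :=
      { (inferInstance : Group (Subgroup.center (S ⧸ L))) with
        mul_comm := fun a b => Subtype.ext (Subgroup.mem_center_iff.1 b.2 (a : S ⧸ L)) }
    obtain ⟨ψ, hψ⟩ := B.exists_hom hc hinv
    have hτ : ∀ u ∈ K, B.tr c u = 1 := by
      intro u hu
      refine stable_hom_hyperfocal hS hF (B.tr c) ?_ ?_ (k := u) ?_
      · intro a b ha hb
        have ha' : a ∈ K := hKdef ▸ ha
        rw [B.tr_mul hc hinv, hc a ha', div_self', one_pow, mul_one]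
      · intro R f hf u w hu hw huK hwK
        exact B.tr_stable hc hinv hf hu hw (hKdef ▸ huK) (hKdef ▸ hwK)
      · rw [← hKdef] at hu
        exact hu
    have hψK : ∀ u ∈ K, ψ u = (c u ^ Fintype.card B.O)⁻¹ := fun u hu =>
      eq_inv_of_mul_eq_one_left ((hψ u).symm.trans (hτ u hu))
    have hψ' : ∀ z ∈ commutator S, ψ z = 1 := fun z hz =>
      MonoidHom.mem_ker.1 (Abelianization.commutator_subset_ker ψ hz)
    have hψk : ψ k = 1 := by
      have h := hle hk
      rw [Subgroup.mem_sup_of_normal_left] at h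
      obtain ⟨m, hm, z, hz, rfl⟩ := h
      rw [map_mul, hψ' z hz, mul_one, hψK m (hM hm)]
      have : c m = 1 := Subtype.ext (by
        rw [hck m (hM hm), OneMemClass.coe_one]
        exact (QuotientGroup.eq_one_iff m).2 (hL ▸ Subgroup.mem_sup_left hm))
      rw [this, one_pow, inv_one]
    have hcn : c k ^ Fintype.card B.O = 1 := by
      have := hψK k hk
      rwa [hψk, eq_comm, inv_eq_one] at this
    obtain ⟨e, he⟩ := hS k
    have hcp : c k ^ p ^ e = 1 := by
      refine Subtype.ext ?_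
      rw [SubmonoidClass.coe_pow, hck k hk, ← map_pow, he, _root_.map_one, OneMemClass.coe_one]
    have : c k = 1 := orderOf_eq_one_iff.1 (Nat.eq_one_of_dvd_coprimes
      (Nat.Coprime.pow_right e ((Fact.out : p.Prime).coprime_iff_not_dvd.2 hB).symm)
      (orderOf_dvd_of_pow_eq_one hcn) (orderOf_dvd_of_pow_eq_one hcp))
    have h2 := congrArg Subtype.val this
    rw [hck k hk, OneMemClass.coe_one] at h2
    exact (QuotientGroup.eq_one_iff k).1 h2
  -- nilpotency
  haveI : Group.IsNilpotent S := hS.isNilpotent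
  haveI : Group.IsNilpotent (S ⧸ M) := inferInstance
  have hmap : ∀ n, K.map (QuotientGroup.mk' M) ≤
      Subgroup.lowerCentralSeries (⊤ : Subgroup (S ⧸ M)) n := by
    intro n
    induction n with
    | zero => exact le_top
    | succ n ih =>
      rw [Subgroup.lowerCentralSeries_succ]
      refine (Subgroup.map_mono hstep).trans ?_
      rw [Subgroup.map_sup, QuotientGroup.map_mk'_self, bot_sup_eq, Subgroup.map_commutator,
        Subgroup.map_top_of_surjective _ (QuotientGroup.mk'_surjective M)]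
      exact Subgroup.commutator_mono ih le_rfl
  obtain ⟨n, hn⟩ := Subgroup.nilpotent_iff_lowerCentralSeries.1 (inferInstance : Group.IsNilpotent (S ⧸ M))
  intro k hk
  have := hmap n (Subgroup.mem_map_of_mem _ hk)
  rw [hn, Subgroup.mem_bot] at this
  exact (QuotientGroup.eq_one_iff k).1 this

/-- Homomorphisms from `S` trivial on the focal subgroup are the stable ones. -/
theorem hom_focal_iff {A : Type v} [CommGroup A] {τ : S →* A} :
    F.focalSubgroup.subgroupOf S ≤ τ.ker ↔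
      ∀ R f, Mor F R f → ∀ u w : S, (u : Ω) ∈ R → (w : Ω) = f u → τ w = τ u := by
  constructor
  · intro h R f hf u w hu hw
    have h1 : u⁻¹ * w ∈ τ.ker := h (Subgroup.mem_subgroupOf.2 (by
      rw [Subgroup.coe_mul, Subgroup.coe_inv, hw]
      exact quot_mem_focal hf hu))
    rw [MonoidHom.mem_ker, map_mul, map_inv, inv_mul_eq_one] at h1
    exact h1.symm
  · intro h y hy
    suffices h2 : F.focalSubgroup ≤ τ.ker.map S.subtype by
      obtain ⟨z, hz, hzy⟩ := h2 hy
      exact Subtype.ext hzy ▸ hz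
    refine (Subgroup.closure_le _).2 ?_
    rintro _ ⟨P, φ, x, hφ, rfl⟩
    have hP := (F.le_of_mem hφ).1
    have hv := (F.le_of_mem hφ).2 x
    refine ⟨⟨(x : Ω), hP x.2⟩⁻¹ * ⟨φ x, hv⟩, MonoidHom.mem_ker.2 ?_, rfl⟩
    rw [map_mul, map_inv, inv_mul_eq_one]
    exact (h P (extendFn φ) (mor_extendFn hφ) ⟨_, hP x.2⟩ ⟨_, hv⟩ x.2 (extendFn_coe φ x).symm).symm

/-- The transfer of a homomorphism is a stable homomorphism. -/
theorem exists_transfer {A : Type v} [CommGroup A] :
    ∃ (n : ℕ) (T : (S →* A) → (S →* A)), ¬ p ∣ n ∧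
      (∀ χ, F.focalSubgroup.subgroupOf S ≤ (T χ).ker) ∧
      (∀ χ m, T (χ ^ m) = T χ ^ m) ∧
      ∀ (χ : S →* A) (R : Subgroup S), (∀ P f, Mor F P f → ∀ u w : S, u ∈ R → (u : Ω) ∈ P →
        (w : Ω) = f u → χ w = χ u) → ∀ u ∈ R, T χ u = χ u ^ n := by
  obtain ⟨B, hB⟩ := exists_bisetData_above hS hF (⊤ : Subgroup S) le_top
  have hc : ∀ χ : S →* A, ∀ k ∈ (⊤ : Subgroup S), ∀ x, χ (k * x) = χ k * χ x :=
    fun χ k _ x => map_mul χ k x
  have hinv : ∀ χ : S →* A, ∀ k ∈ (⊤ : Subgroup S), ∀ x, χ (x * k * x⁻¹) = χ k := fun χ k _ x => by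
    rw [map_mul, map_mul, map_inv, mul_comm (χ x), mul_inv_cancel_right]
  refine ⟨Fintype.card B.O, fun χ => MonoidHom.mk' (B.tr χ) fun u v => by
      rw [B.tr_mul (hc χ) (hinv χ), map_mul, div_self', one_pow, mul_one], hB,
    fun χ => (hom_focal_iff hS hF).2 fun R f hf u w hu hw =>
      B.tr_stable (hc χ) (hinv χ) hf hu hw (Subgroup.mem_top _) (Subgroup.mem_top _),
    fun χ m => MonoidHom.ext fun u => ?_, fun χ R hR u hu => ?_⟩
  · show ∏ o : B.O, (χ (B.s u o)) ^ m = (∏ o : B.O, χ (B.s u o)) ^ m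
    exact Finset.prod_pow _ _ _
  · refine B.tr_eq_pow (hc χ) (le_top : R ≤ ⊤) (fun v hv o ho => ?_) hu
    obtain ⟨P, f, hf, hvP, hs⟩ := B.fixed v o ho
    exact hR P f hf v (B.s v o) hv hvP hs

/-- A normal subgroup containing `S'` and covering the focal subgroup modulo the Frattini
subgroup contains it. -/
theorem focal_le_of_elementary {N : Subgroup S} [N.Normal] (hNc : commutator S ≤ N)
    (hN : F.focalSubgroup.subgroupOf S ≤ N ⊔ frattini S)
    (hNF : N ≤ F.focalSubgroup.subgroupOf S) : F.focalSubgroup.subgroupOf S ≤ N := by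
  haveI : IsMulCommutative (S ⧸ N) := Subgroup.Normal.quotient_commutative_iff_commutator_le.2 hNc
  letI : CommGroup (S ⧸ N) :=
    { (inferInstance : Group (S ⧸ N)) with
      mul_comm := fun a b => IsMulCommutative.is_comm.comm a b }
  obtain ⟨n, T, hn, hTst, hTpow, hTval⟩ := exists_transfer (A := S ⧸ N) hS hF
  have key : ∀ (e : ℕ) (χ : S →* S ⧸ N), N ≤ χ.ker → χ ^ p ^ e = 1 →
      F.focalSubgroup.subgroupOf S ≤ χ.ker := by
    intro e
    induction e with
    | zero =>
      intro χ _ h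
      rw [pow_zero, pow_one] at h
      subst h
      intro x _
      rfl
    | succ e ih =>
      intro χ hχN hχ
      have hpst : F.focalSubgroup.subgroupOf S ≤ (χ ^ p).ker := ih (χ ^ p) (fun x hx => by
        rw [MonoidHom.mem_ker, MonoidHom.pow_apply, MonoidHom.mem_ker.1 (hχN hx), one_pow])
        (by rw [← pow_mul, ← pow_succ', hχ])
      let θ : S →* S ⧸ N := T χ / χ ^ n
      have hθp : ∀ u, θ u ^ p = 1 := by
        intro u
        have h1 : T (χ ^ p) u = (χ ^ p) u ^ n :=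
          hTval (χ ^ p) ⊤ (fun P f hf a b _ ha hb => ((hom_focal_iff hS hF).1 hpst) P f hf a b ha hb)
            u (Subgroup.mem_top _)
        rw [hTpow, MonoidHom.pow_apply, MonoidHom.pow_apply] at h1
        show (T χ u / (χ u) ^ n) ^ p = 1
        rw [div_pow, h1, ← pow_mul, ← pow_mul, mul_comm p n, div_self']
      have hθN : N ≤ θ.ker := fun x hx => by
        rw [MonoidHom.mem_ker]
        show T χ x / (χ x) ^ n = 1
        rw [MonoidHom.mem_ker.1 (hχN hx), one_pow, div_one, MonoidHom.mem_ker.1 (hTst χ (hNF hx))]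
      have hθΦ : frattini S ≤ θ.ker :=
        Cfsg.Agent.Fusion.frattini_le_of_elementary (p := p) θ.ker
          (Abelianization.commutator_subset_ker θ) fun x => by
            rw [MonoidHom.mem_ker, map_pow, hθp]
      intro y hy
      have h2 : θ y = 1 := MonoidHom.mem_ker.1 (sup_le hθN hθΦ (hN hy))
      change T χ y / (χ y) ^ n = 1 at h2
      rw [MonoidHom.mem_ker.1 (hTst χ hy), one_div, inv_eq_one] at h2
      rw [MonoidHom.mem_ker]
      obtain ⟨a, ha⟩ := hS y
      have h3 : χ y ^ p ^ a = 1 := by rw [← map_pow, ha, _root_.map_one]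
      exact orderOf_eq_one_iff.1 (Nat.eq_one_of_dvd_coprimes
        (Nat.Coprime.pow_right a ((Fact.out : p.Prime).coprime_iff_not_dvd.2 hn).symm)
        (orderOf_dvd_of_pow_eq_one h2) (orderOf_dvd_of_pow_eq_one h3))
  obtain ⟨a, ha⟩ := IsPGroup.iff_card.1 hS
  have h := key a (QuotientGroup.mk' N) (by rw [QuotientGroup.ker_mk'])
    (MonoidHom.ext fun x => by
      rw [MonoidHom.pow_apply, ← map_pow, ← ha, pow_card_eq_one', _root_.map_one, MonoidHom.one_apply])
  rwa [QuotientGroup.ker_mk'] at h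

theorem focal_inf_center :
    F.focalSubgroup ⊓ F.center = ⁅S, S⁆ ⊓ F.center := by
  refine le_antisymm (fun z hz => ⟨?_, hz.2⟩) (inf_le_inf_right _ commutator_le_focal)
  have hzS : z ∈ S := focal_le F hz.1
  obtain ⟨n, T, hn, hTst, -, hTval⟩ := exists_transfer (A := Abelianization S) hS hF
  have hcen := (isCentral_center (F := F))
  have h1 := hTval Abelianization.of (F.center.subgroupOf S) (fun P f hf u w hu huP hw => by
    obtain ⟨g, hg, hgf, hgfix⟩ := (isCentral_iff.1 hcen).2 P f hf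
    have : (w : Ω) = u := by
      rw [hw, ← hgf _ huP, hgfix _ (show (u : Ω) ∈ F.center from hu)]
    rw [Subtype.ext this]) ⟨z, hzS⟩ hz.2
  rw [MonoidHom.mem_ker.1 (hTst _ (show (⟨z, hzS⟩ : S) ∈ F.focalSubgroup.subgroupOf S from hz.1))] at h1
  obtain ⟨a, ha⟩ := hS ⟨z, hzS⟩
  have h3 : Abelianization.of (⟨z, hzS⟩ : S) ^ p ^ a = 1 := by rw [← map_pow, ha, _root_.map_one]
  have h4 : Abelianization.of (⟨z, hzS⟩ : S) = 1 := orderOf_eq_one_iff.1 (Nat.eq_one_of_dvd_coprimes
    (Nat.Coprime.pow_right a ((Fact.out : p.Prime).coprime_iff_not_dvd.2 hn).symm)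
    (orderOf_dvd_of_pow_eq_one h1.symm) (orderOf_dvd_of_pow_eq_one h3))
  have h5 : (⟨z, hzS⟩ : S) ∈ commutator S := (QuotientGroup.eq_one_iff _).1 h4
  rw [← map_subtype_commutator' S]
  exact ⟨_, h5, rfl⟩
where
  map_subtype_commutator' (H : Subgroup Ω) : (commutator H).map H.subtype = ⁅H, H⁆ := by
    rw [commutator_def, Subgroup.map_commutator, ← MonoidHom.range_eq_map, Subgroup.range_subtype]

end Saturated

end Cfsg.Agent.FusSys
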