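import Cfsg.Agent.FusSys.GenCtl
import Cfsg.Agent.FusSys.Tate

/-!
Functors controlling the focal subgroup.
-/

set_option autoImplicit false

namespace Cfsg.Agent.FusSys

open Cfsg Cfsg.FusionSystem

universe u

variable {Ω : Type u} [Group Ω] {S : Subgroup Ω} {F : FusionSystem S} {p : ℕ} {Q : Subgroup Ω}
variable {W : ∀ (Q : Type u) [Group Q], Subgroup Q}

/-- The maps moving elements only within cosets of `D`. -/
def DiffRel (S D : Subgroup Ω) (X : Subgroup Ω) (f : Ω → Ω) : Prop :=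
  X ≤ S ∧ (∀ x ∈ X, f x ∈ S) ∧ ∀ x ∈ X, x⁻¹ * f x ∈ D

theorem subRel_diff {D : Subgroup Ω} (hD : ⁅S, S⁆ ≤ D) : SubRel F S (DiffRel S D) where
  congr := by
    rintro P f g ⟨h1, h2, h3⟩ he
    exact ⟨h1, fun x hx => he x hx ▸ h2 x hx, fun x hx => (he x hx).symm ▸ h3 x hx⟩
  le h := ⟨h.1, h.2.1⟩
  conj := by
    intro P s hP hs
    refine ⟨mor_conj hP hs, hP, fun x hx => S.mul_mem (S.mul_mem hs (hP hx)) (S.inv_mem hs),
      fun x hx => hD ?_⟩
    have h := Subgroup.commutator_mem_commutator (S.inv_mem (hP hx)) hs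
    rwa [commutatorElement_def, inv_inv, mul_assoc, mul_assoc, ← mul_assoc s] at h
  comp := by
    rintro P R f g - ⟨h1, -, h3⟩ - ⟨-, h2', h3'⟩ hfR
    refine ⟨h1, fun x hx => h2' _ (hfR x hx), fun x hx => ?_⟩
    show x⁻¹ * g (f x) ∈ D
    have h := D.mul_mem (h3 x hx) (h3' _ (hfR x hx))
    rwa [mul_assoc, mul_inv_cancel_left] at h
  inv := by
    rintro P R f g hfi ⟨-, -, h3⟩ hgi hgf
    refine ⟨hgi.left_le, fun x hx => hgi.1.mem_S hx, fun y hy => ?_⟩
    obtain ⟨x, hx, rfl⟩ := hfi.exists_eq hy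
    rw [hgf x hx]
    have h := D.inv_mem (h3 x hx)
    rwa [mul_inv_rev, inv_inv] at h

/-- The focal subgroup lies in `D` when all maps move elements within cosets of `D`. -/
theorem focal_le_iff {D : Subgroup Ω} :
    F.focalSubgroup ≤ D ↔ ∀ X f, Mor F X f → ∀ x ∈ X, x⁻¹ * f x ∈ D := by
  refine ⟨fun h X f hf x hx => h (quot_mem_focal hf hx), fun h => (Subgroup.closure_le _).2 ?_⟩
  rintro _ ⟨P, φ, x, hφ, rfl⟩
  have h1 := h P _ (mor_extendFn hφ) x x.2
  rwa [extendFn_coe] at h1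

theorem mem_of_diff_mem {D : Subgroup Ω} (hQ : F.focalSubgroup ⊓ Q ≤ D) (hDF : D ≤ F.focalSubgroup)
    {X : Subgroup Ω} {f : Ω → Ω} (hf : Mor F X f) {x : Ω} (hx : x ∈ X)
    {d : Ω} (hd : d ∈ D) (h : d⁻¹ * (x⁻¹ * f x) ∈ Q) : x⁻¹ * f x ∈ D := by
  have h1 : d⁻¹ * (x⁻¹ * f x) ∈ D :=
    hQ ⟨Subgroup.mul_mem _ (Subgroup.inv_mem _ (hDF hd)) (quot_mem_focal hf hx), h⟩
  have h2 := D.mul_mem hd h1
  rwa [mul_inv_cancel_left] at h2

/-- When every map acts on a subgroup as an element of `S`, the focal subgroup meets it in the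
derived subgroup. -/
theorem focal_inf_of_act [Fact p.Prime] [Finite S] (hS : IsPGroup p S) (hF : F.IsSaturated p)
    (hQS : Q ≤ S) (hsc : F.StronglyClosed Q)
    (hact : ∀ P f, Mor F P f → KRel F (autInducedBy S Q) P f) :
    F.focalSubgroup ⊓ Q ≤ ⁅S, S⁆ := by
  intro z hz
  have hzS : z ∈ S := hQS hz.2
  obtain ⟨n, T, hn, hTst, -, hTval⟩ := exists_transfer (A := Abelianization S) hS hF
  have h1 := hTval Abelianization.of (Q.subgroupOf S) (fun P f hf u w hu huP hw => by
    obtain ⟨-, -, g, -, hgf, κ, hκ, hκx⟩ := hact P f hf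
    obtain ⟨s, hs, -, hsx⟩ := mem_autInducedBy_iff.1 hκ
    have huQ : (u : Ω) ∈ Q := hu
    have hwu : w = ⟨s, hs⟩ * u * ⟨s, hs⟩⁻¹ := Subtype.ext (by
      rw [hw, ← hgf _ huP, hκx _ huQ, hsx _ huQ]
      rfl)
    rw [hwu, map_mul, map_mul, map_inv, mul_comm (Abelianization.of _) (Abelianization.of u),
      mul_inv_cancel_right]) ⟨z, hzS⟩ hz.2
  rw [MonoidHom.mem_ker.1 (hTst _ (show (⟨z, hzS⟩ : S) ∈ F.focalSubgroup.subgroupOf S from hz.1))] at h1
  obtain ⟨a, ha⟩ := hS ⟨z, hzS⟩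
  have h3 : Abelianization.of (⟨z, hzS⟩ : S) ^ p ^ a = 1 := by rw [← map_pow, ha, _root_.map_one]
  have h4 : Abelianization.of (⟨z, hzS⟩ : S) = 1 := orderOf_eq_one_iff.1 (Nat.eq_one_of_dvd_coprimes
    (Nat.Coprime.pow_right a ((Fact.out : p.Prime).coprime_iff_not_dvd.2 hn).symm)
    (orderOf_dvd_of_pow_eq_one h1.symm) (orderOf_dvd_of_pow_eq_one h3))
  rw [← map_subtype_commutator_eq']
  exact ⟨_, (QuotientGroup.eq_one_iff _).1 h4, rfl⟩
where
  map_subtype_commutator_eq' : (commutator S).map S.subtype = ⁅S, S⁆ := by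
    rw [commutator_def, Subgroup.map_commutator, ← MonoidHom.range_eq_map, Subgroup.range_subtype]

set_option maxHeartbeats 1600000 in
/-- A functor with the local condition for the focal subgroup controls it. -/
theorem focal_le_of_goodAt [Fact p.Prime] (hW : PosFunctor p W)
    (hloc : ∀ (G : Type u) [Group G] [Finite G] (P : Sylow p G),
      Subgroup.centralizer ((pCore p G : Subgroup G) : Set G) ≤ pCore p G →
        pCore p G ⊓ commutator G ≤ (commutator
          ↥(Subgroup.normalizer (wsub W (P : Subgroup G) : Set G))).map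
          (Subgroup.normalizer (wsub W (P : Subgroup G) : Set G)).subtype)
    [Finite S] (hS : IsPGroup p S) (hF : F.IsSaturated p) {D : Subgroup Ω}
    (hDF : D ≤ F.focalSubgroup) (hgood : GoodAt F (DiffRel S D) (wsub W S)) :
    F.focalSubgroup ≤ D := by
  refine smaller_induction (Φ := fun {Ω} _ {S} F => Finite S → IsPGroup p S → F.IsSaturated p →
    ∀ D : Subgroup Ω, GoodAt F (DiffRel S D) (wsub W S) →
      ∀ X f, Mor F X f → ∀ x ∈ X, x⁻¹ * f x ∈ D) ?_ F inferInstance hS hF D hgood |>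
    focal_le_iff.2
  clear hDF hgood hF hS
  intro Ω _ S F ih _ hS hF D₁ hgood₁
  -- replace `D` by its part in the focal subgroup
  set D := D₁ ⊓ F.focalSubgroup with hD
  have hDF : D ≤ F.focalSubgroup := inf_le_right
  have hgood : GoodAt F (DiffRel S D) (wsub W S) := fun X f hf hN => by
    obtain ⟨h1, h2, h3⟩ := hgood₁ X f hf hN
    exact ⟨h1, h2, fun x hx => ⟨h3 x hx, quot_mem_focal hf hx⟩⟩
  intro X f hf x hx
  refine (inf_le_left : D ≤ D₁) ?_
  clear hgood₁
  revert X f x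
  suffices h : ∀ X f, Mor F X f → ∀ x ∈ X, x⁻¹ * f x ∈ D from h
  have hWS : wsub W S ≤ S := wsub_le W S
  have hSW : S ≤ Subgroup.normalizer (wsub W S : Set Ω) := fun s hs =>
    (normalizerIn_le_normalizerIn_wsub hW le_rfl hS (le_normalizerIn le_rfl hs)).2
  have hSS : ⁅S, S⁆ ≤ D := by
    rw [Subgroup.commutator_le]
    intro a ha b hb
    have hm : Mor F S (fun y => b * y * b⁻¹) := mor_conj le_rfl hb
    have h := (hgood S _ hm (nRel_of_mapsTo (g := fun y => b * y * b⁻¹) hWS hSW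
      (by rw [sup_eq_left.2 hWS]; exact hm) (fun _ _ => rfl)
      fun y hy => (Subgroup.mem_normalizer_iff.1 (hSW hb) y).1 hy)).2.2 a⁻¹ (S.inv_mem ha)
    rwa [inv_inv, ← mul_assoc, ← mul_assoc] at h
  have hM : SubRel F S (DiffRel S D) := subRel_diff hSS
  -- maps normalizing a subgroup that is not normal
  have hsame : ∀ {T : Subgroup Ω} (E : FusionSystem T), T = S → E.IsSubsystemOf F →
      E.IsSaturated p → Smaller E F → ∀ X f, Mor E X f → DiffRel S D X f := by
    intro T E hT hEF hE hlt X f hf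
    subst hT
    exact ⟨hf.le, fun x hx => hf.mem_S hx, ih E hlt inferInstance hS hE D
      (fun Y g hg hgW => hgood Y g (mor_of_sub hEF hg) (nRel_of_sub hEF le_rfl hgW)) X f hf⟩
  have hnorm : ∀ U ≤ S, S ≤ Subgroup.normalizer (U : Set Ω) → ¬ F.IsNormal U →
      ∀ X f, Mor F X f → NRel F U X f → DiffRel S D X f := by
    intro U hU hSU hUn X f hf hNf
    have hN := isNormalizerSystem_normalizerSys (F := F) hU
    have hUfn : F.IsFullyNormalized U := ⟨hU, fun R _ => by
      rw [normalizerIn_eq_of_le hSU]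
      exact Subgroup.card_le_of_le inf_le_left⟩
    exact hsame _ (normalizerIn_eq_of_le hSU) (normalizerSystem_subsystem hS hF hN)
      (normalizerSystem_saturated hS hF hUfn hN) (smaller_normalizer hU hUn hN) X f
      ((mor_normalizerSystem hN).2 ⟨hf, hNf⟩)
  suffices hall : ∀ X f, Mor F X f → DiffRel S D X f from fun X f hf => (hall X f hf).2.2
  set Q := F.core with hQdef
  have hQn : F.IsNormal Q := isNormal_core
  by_cases hQ0 : Q = ⊥
  · refine reduce_to_normalizers hS hF hW hM hgood fun U hU hUn N hN hgoodN => ?_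
    haveI : Finite (normalizerIn S U) := finite_of_le inf_le_left
    have hNF := normalizerSystem_subsystem hS hF hN
    intro X f hf
    refine ⟨(mor_of_sub hNF hf).le, fun x hx => (mor_of_sub hNF hf).mem_S hx,
      ih N (smaller_normalizer hUn.1 (fun h => hU (le_bot_iff.1 (hQ0 ▸ le_core h))) hN)
        inferInstance (hS.to_le inf_le_left) (normalizerSystem_saturated hS hF hUn hN) D
        (fun Y g hg hgW => ⟨hg.le, fun y hy => hg.mem_S hy, (hgoodN Y g hg hgW).2.2⟩) X f hf⟩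
  have hQS : Q ≤ S := hQn.1
  have hSN : S ≤ Subgroup.normalizer (Q : Set Ω) :=
    StronglyClosed.le_normalizer (stronglyClosed_of_isNormal hQn)
  have hQR : ¬ F.IsCentric Q → Q < Q ⊔ centralizerIn S Q := fun h => lt_sup_centralizer hQn h
  -- it suffices to treat the part in `Q` and the quotient by `Q`
  have hquot : F.focalSubgroup ⊓ Q ≤ D → Q ≠ S → ∀ X f, Mor F X f → DiffRel S D X f := by
    intro hQD hQneS X f hf
    obtain ⟨Ω', _, S', E, θ, _, hS', hE, hEs, hlt, hne, hbig⟩ :=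
      exists_factor hS hF hQn hQ0 hQneS
    have hsc := stronglyClosed_of_isNormal hQn
    have hker := hE.2.1
    have hrange := hE.2.2.1
    have hDS : D ≤ S := hDF.trans (focal_le F)
    have hW'S : wsub W S' ≤ S' := wsub_le W S'
    have hS'W : S' ≤ Subgroup.normalizer (wsub W S' : Set Ω') := fun s hs =>
      (normalizerIn_le_normalizerIn_wsub hW le_rfl hS' (le_normalizerIn le_rfl hs)).2
    have hgoodE : GoodAt E (DiffRel S' (imageAlong θ D)) (wsub W S') := by
      rintro X' f' hf' ⟨-, -, g', hg', hg'f, hg'W⟩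
      refine ⟨hf'.le, fun y hy => hf'.mem_S hy, fun y hy => ?_⟩
      obtain ⟨hsup, g, hg, hgi⟩ := (mor_factor hE hsc).1 hg'
      have hWle : preimageAlong θ (wsub W S') ≤ preimageAlong θ (X' ⊔ wsub W S') := fun x hx =>
        mem_pre.2 ⟨(mem_pre.1 hx).1, Subgroup.mem_sup_right (mem_pre.1 hx).2⟩
      have hgM := hnorm _ pre_le (le_normalizer_preimage (hrange.le.trans hS'W))
        (fun h => (hbig _ hW'S (wsub_ne_bot hW hS' hne)).not_ge (le_core h))
        (preimageAlong θ (X' ⊔ wsub W S')) g hg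
        (nRel_of_mapsTo (g := g) pre_le (le_normalizer_preimage (hrange.le.trans hS'W))
          (by rw [sup_eq_left.2 hWle]; exact hg) (fun _ _ => rfl) fun x hx => by
            refine mem_pre.2 ⟨hg.mem_S (hWle hx), ?_⟩
            rw [← hgi x (hWle hx)]
            exact (hg'W _).2 ⟨_, (mem_pre.1 hx).2, rfl⟩)
      obtain ⟨x, hx, rfl⟩ := exists_pre (hsup.trans hrange.ge) (Subgroup.mem_sup_left hy)
      refine (mem_imageAlong hDS).2 ⟨x⁻¹ * g x, hgM.2.2 x hx, ?_⟩
      rw [thFn_mul (S.inv_mem (pre_le hx)) (hg.mem_S hx), thFn_inv (pre_le hx), ← hgi x hx,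
        hg'f _ hy]
    refine ⟨hf.le, fun x hx => hf.mem_S hx, fun x hx => ?_⟩
    obtain ⟨k, hk, hkf, -⟩ := (isNormal_iff.1 hQn).2 X f hf
    obtain ⟨I, hI⟩ := hk.exists_iso
    obtain ⟨k', hk', hk'k⟩ := exists_iso_image hE hsc hI le_sup_right
    have hxm : x ∈ X ⊔ Q := Subgroup.mem_sup_left hx
    have h1 := ih E (Or.inl hlt) inferInstance hS' hEs _ hgoodE _ _ hk'.1 _
      ((mem_imageAlong hk.le).2 ⟨x, hxm, rfl⟩)
    obtain ⟨d, hd, hdx⟩ := (mem_imageAlong hDS).1 h1
    rw [hk'k x hxm, hkf x hx, ← thFn_inv (hf.le hx),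
      ← thFn_mul (S.inv_mem (hf.le hx)) (hf.mem_S hx)] at hdx
    exact mem_of_diff_mem hQD hDF hf hx hd
      ((thFn_eq_iff hker (hDS hd) (S.mul_mem (S.inv_mem (hf.le hx)) (hf.mem_S hx))).1 hdx)
  by_cases hQc : F.IsCentric Q
  · obtain ⟨L, _, ι, hι, -⟩ := exists_model hS hF hQn hQc
    haveI : Finite L := hι.1
    obtain ⟨P, hP⟩ := hι.2.2.1
    have hr := hι.2.1
    have hinj := hr.1
    have hQO : F.focalSubgroup ⊓ Q ≤ D := by
      intro y hy
      have hyS : y ∈ S := hQS hy.2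
      have hyO : ι ⟨y, hyS⟩ ∈ pCore p L :=
        Cfsg.Agent.Core.le_pCore (hN := model_normal_image hι hQn)
          (((hS.to_le hQS).comap_subtype (K := S)).map ι)
          ⟨⟨y, hyS⟩, hy.2, rfl⟩
      have hyL : ι ⟨y, hyS⟩ ∈ commutator L := by
        have hle : F.focalSubgroup ≤ ((commutator L).comap ι).map S.subtype := by
          rw [focal_le_iff]
          intro Y g hg z hz
          obtain ⟨hY, hgS, l, hl⟩ := (mor_realized hr).1 hg
          refine ⟨⟨z, hY hz⟩⁻¹ * ⟨g z, hgS z hz⟩, ?_, rfl⟩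
          have hlz : ι ⟨g z, hgS z hz⟩ = l * ι ⟨z, hY hz⟩ * l⁻¹ := by
            rw [← thFn_apply (θ := ι) (hgS z hz)]
            exact hl ⟨z, hY hz⟩ hz
          rw [SetLike.mem_coe, Subgroup.mem_comap, map_mul, map_inv, hlz]
          have h := Subgroup.commutator_mem_commutator (Subgroup.mem_top (ι ⟨z, hY hz⟩)⁻¹)
            (Subgroup.mem_top l)
          rw [commutatorElement_def, inv_inv, ← commutator_def] at h
          rwa [← mul_assoc, ← mul_assoc]
        obtain ⟨w, hw, hwy⟩ := hle hy.1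
        rwa [show w = ⟨y, hyS⟩ from Subtype.ext hwy] at hw
      have hloc' := hloc L P hι.2.2.2
      set N₁ := Subgroup.normalizer (wsub W (P : Subgroup L) : Set L)
      obtain ⟨w, hw, hwy⟩ := hloc' ⟨hyO, hyL⟩
      let e : S ≃* (P : Subgroup L) :=
        (MonoidHom.ofInjective hinj).trans (MulEquiv.subgroupCongr hP.symm)
      have hWimg : ((wsub W S).subgroupOf S).map ι = wsub W (P : Subgroup L) := by
        rw [show (wsub W S).subgroupOf S = W S from
          Subgroup.comap_map_eq_self_of_injective S.subtype_injective _, wsub,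
          ← hW.map_eq S _ hS e, Subgroup.map_map]
        rfl
      have hPN : (P : Subgroup L) ≤ N₁ := fun s hs =>
        (normalizerIn_le_normalizerIn_wsub (S := (P : Subgroup L)) hW le_rfl P.2
          (le_normalizerIn le_rfl hs)).2
      have hwP : w ∈ ((P.subtype hPN : Sylow p N₁) : Subgroup N₁) := by
        rw [Sylow.coe_subtype, Subgroup.mem_subgroupOf]
        exact hP.ge ⟨_, hwy.symm⟩
      have hfoc : w ∈ Subgroup.focalSubgroup ((P.subtype hPN : Sylow p N₁) : Subgroup N₁) := by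
        rw [← Subgroup.commutator_inf_eq_focalSubgroup]
        exact ⟨hw, hwP⟩
      have hgen : Subgroup.focalSubgroup ((P.subtype hPN : Sylow p N₁) : Subgroup N₁) ≤
          ((D.subgroupOf S).map ι).subgroupOf N₁ := by
        rw [Subgroup.focalSubgroup_def, Subgroup.closure_le]
        rintro g ⟨hgP, a, haP, u, rfl⟩
        rw [Sylow.coe_subtype, Subgroup.mem_subgroupOf] at hgP haP
        obtain ⟨b, hb⟩ := hP.le haP
        obtain ⟨c, hc⟩ := hP.le hgP
        -- the map induced by `u`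
        have hu : (u : L) * ι b⁻¹ * (u : L)⁻¹ = ι (b⁻¹ * c) := by
          rw [map_mul, map_inv, hb, hc, commutatorElement_def]
          simp only [Subgroup.coe_mul, Subgroup.coe_inv]
          group
        set U := Subgroup.zpowers ((b⁻¹ : S) : Ω) with hUdef
        have hUS : U ≤ S := Subgroup.zpowers_le.2 (b⁻¹).2
        have hsrc : ∀ z : S, (z : Ω) ∈ U ⊔ wsub W S → ∃ v : S, (u : L) * ι z * (u : L)⁻¹ = ι v := by
          have hle : U ⊔ wsub W S ≤
              ((ι.range.comap (MulAut.conj (u : L)).toMonoidHom).comap ι).map S.subtype := by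
            refine sup_le (Subgroup.zpowers_le.2 ⟨b⁻¹, ⟨_, hu.symm⟩, rfl⟩) fun z hz => ⟨⟨z, hWS hz⟩, ?_, rfl⟩
            exact hP.le (wsub_le W _ ((Subgroup.mem_normalizer_iff.1 u.2 _).1
              (hWimg ▸ ⟨⟨z, hWS hz⟩, hz, rfl⟩)))
          intro z hz
          obtain ⟨z', ⟨v, hv⟩, hzz⟩ := hle hz
          exact ⟨v, Subtype.ext hzz ▸ hv.symm⟩
        have hm : Mor F (U ⊔ wsub W S) (pullConj ι u) := by
          refine (mor_realized hr).2 ⟨sup_le hUS hWS, fun z hz => ?_, u, fun z hz => ?_⟩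
          · obtain ⟨v, hv⟩ := hsrc ⟨z, sup_le hUS hWS hz⟩ hz
            exact pullConj_eq hinj hv ▸ v.2
          · obtain ⟨v, hv⟩ := hsrc z hz
            rw [pullConj_eq hinj hv, thFn_coe, hv]
        have hmD := hgood _ _ hm (nRel_of_mapsTo (g := pullConj ι u) hWS hSW
          (by rw [sup_eq_left.2 le_sup_right]; exact hm) (fun _ _ => rfl) fun z hz => by
            obtain ⟨v, hv, hvz⟩ : (u : L) * ι ⟨z, hWS hz⟩ * (u : L)⁻¹ ∈
                ((wsub W S).subgroupOf S).map ι := by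
              rw [hWimg]
              exact (Subgroup.mem_normalizer_iff.1 u.2 _).1 (hWimg ▸ ⟨⟨z, hWS hz⟩, hz, rfl⟩)
            rw [show pullConj ι u z = (v : Ω) from pullConj_eq hinj (x := ⟨z, hWS hz⟩) hvz.symm]
            exact hv)
        have h1 := hmD.2.2 _ (Subgroup.mem_sup_left (Subgroup.mem_zpowers ((b⁻¹ : S) : Ω)))
        rw [pullConj_eq hinj hu] at h1
        refine Subgroup.mem_subgroupOf.2 ⟨c, ?_, hc⟩
        simpa [Subgroup.mem_subgroupOf] using h1
      obtain ⟨v, hv, hvy⟩ := hgen hfoc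
      rw [hinj (hvy.trans hwy)] at hv
      exact hv
    by_cases hQeq : Q = S
    · intro X f hf
      exact ⟨hf.le, fun x hx => hf.mem_S hx, fun x hx => hQO ⟨quot_mem_focal hf hx,
        hQeq.ge (S.mul_mem (S.inv_mem (hf.le hx)) (hf.mem_S hx))⟩⟩
    exact hquot hQO hQeq
  by_cases hact : ∀ P f, Mor F P f → KRel F (autInducedBy S Q) P f
  · exact hquot ((focal_inf_of_act hS hF hQS (stronglyClosed_of_isNormal hQn) hact).trans hSS)
      (core_ne_top hQc)
  push Not at hact
  obtain ⟨P₀, f₀, hf₀, hno⟩ := hact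
  refine split_step hS hF hQn (hQS := hQS) (hSN := hSN) hM (fun N hN X f hf => ?_)
    (hsame (actSys F hQS hSN) rfl actSys_le (actSys_saturated hS hF hQn)
      (smaller_subsystem actSys_le hf₀ fun h => hno (mor_actSys.1 h).2))
  obtain ⟨hfF, hNf⟩ := (mor_normalizerSystem hN).1 hf
  exact hnorm _ (sup_le hQS inf_le_left) (fun x hx => split_maps.normalizes hSN hx)
    (fun h => (hQR hQc).not_ge (le_core h)) X f hfF hNf

end Cfsg.Agent.FusSys
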