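import Cfsg.Agent.FusSys.StrongExtra
import Cfsg.Agent.FusSys.FocalCtl

/-!
Core-free systems with full hyperfocal subgroup over groups with centre of index at most `p^2`.
-/

set_option autoImplicit false

namespace Cfsg.Agent.FusSys.SmallCentral

open Cfsg Cfsg.FusionSystem Cfsg.Agent.FusSys Cfsg.Agent.FusSys.StrongExtra

universe u

variable {Ω : Type u} [Group Ω] {S E C D : Subgroup Ω} {F : FusionSystem S} {p : ℕ}

/-- The centre of `S`. -/
def zS (S : Subgroup Ω) : Subgroup Ω := S ⊓ Subgroup.centralizer (S : Set Ω)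

theorem zS_comm {z s : Ω} (hz : z ∈ zS S) (hs : s ∈ S) : Commute s z :=
  Subgroup.mem_centralizer_iff.1 hz.2 s hs

theorem zS_map : zS S = (Subgroup.center S).map S.subtype := by
  ext x
  constructor
  · intro hx
    exact ⟨⟨x, hx.1⟩, Subgroup.mem_center_iff.2 fun g => Subtype.ext (zS_comm hx g.2).eq, rfl⟩
  · rintro ⟨y, hy, rfl⟩
    exact ⟨y.2, Subgroup.mem_centralizer_iff.2 fun g hg =>
      congrArg Subtype.val (Subgroup.mem_center_iff.1 hy ⟨g, hg⟩)⟩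

/-- The shape of `S`. -/
structure Amb (p : ℕ) (S : Subgroup Ω) : Prop where
  pgrp : IsPGroup p S
  card : Nat.card S = p ^ 2 * Nat.card (zS S)
  br_mem : ∀ a ∈ S, ∀ b ∈ S, br a b ∈ zS S
  pow_mem : ∀ a ∈ S, a ^ p ∈ zS S
  nonab : ∃ a ∈ S, ∃ b ∈ S, br a b ≠ 1

theorem Amb.classTwo (hA : Amb p S) : ClassTwo S :=
  fun a ha b hb _ hc => (zS_comm (hA.br_mem a ha b hb) hc).symm

/-- The data attached to an essential subgroup. -/
structure Ess (F : FusionSystem S) (p : ℕ) (E C : Subgroup Ω) (z w : Ω) : Prop where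
  ess : F.IsEssential p E
  le : E ≤ S
  zle : zS S ≤ E
  normal : ∀ s ∈ S, ∀ u ∈ E, s * u * s⁻¹ ∈ E
  selfc : centralizerIn S E ≤ E
  comm : ∀ u ∈ E, ∀ v ∈ E, Commute u v
  index : Nat.card S = p * Nat.card E
  z_mem : z ∈ zS S
  z_pow : z ^ p = 1
  z_ne : z ≠ 1
  br_mem : ∀ a ∈ S, ∀ b ∈ S, ∃ k : ℕ, br a b = z ^ k
  w_mem : w ∈ E
  w_not : w ∉ zS S
  w_pow : w ^ p = 1
  C_le : C ≤ zS S
  z_not : z ∉ C
  decomp : ∀ u ∈ E, ∃ c ∈ C, ∃ a b : ℕ, u = c * z ^ a * w ^ b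
  C_inv : ∀ γ ∈ F.autGroup E, ∀ c ∈ C, apl γ c ∈ C

theorem pow_p_sq_eq [Fact p.Prime] [Finite E] {z w : Ω} (δ : MulAut E)
    (hmul : ∀ u ∈ E, ∀ v ∈ E, apl δ (u * v) = apl δ u * apl δ v)
    (hzE : z ∈ E) (hwE : w ∈ E) (hcom : Commute z w) (hz : z ^ p = 1) (hw : w ^ p = 1)
    (hδz : apl δ z = z) (hδw : ∃ i : ℕ, apl δ w = w * z ^ i)
    (hδ : ∀ u ∈ E, ∃ i j : ℕ, apl δ u = u * (z ^ i * w ^ j)) : δ ^ (p * p) = 1 := by
  obtain ⟨i0, hi0⟩ := hδw
  have hpow : ∀ n : ℕ, apl (δ ^ n) z = z ∧ apl (δ ^ n) w = w * (z ^ i0) ^ n := by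
    intro n
    induction n with
    | zero => exact ⟨by rw [pow_zero, apl_one hzE], by rw [pow_zero, apl_one hwE, pow_zero, mul_one]⟩
    | succ n ih =>
      have hz' : apl δ (z ^ i0) = z ^ i0 := by
        clear ih hi0 hδ
        induction i0 with
        | zero =>
          rw [pow_zero]
          have h1 := hmul 1 E.one_mem 1 E.one_mem
          rw [mul_one] at h1
          exact mul_eq_left.1 h1.symm
        | succ i ih' => rw [pow_succ, hmul _ (E.pow_mem hzE i) _ hzE, ih', hδz]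
      have hzn : ∀ m : ℕ, apl δ ((z ^ i0) ^ m) = (z ^ i0) ^ m := by
        intro m
        induction m with
        | zero =>
          rw [pow_zero]
          have h1 := hmul 1 E.one_mem 1 E.one_mem
          rw [mul_one] at h1
          exact mul_eq_left.1 h1.symm
        | succ m ih' => rw [pow_succ, hmul _ (E.pow_mem (E.pow_mem hzE i0) m) _ (E.pow_mem hzE i0), ih', hz']
      refine ⟨by rw [pow_succ', apl_mul _ _ hzE, ih.1, hδz], ?_⟩
      rw [pow_succ', apl_mul _ _ hwE, ih.2, hmul _ hwE _ (E.pow_mem (E.pow_mem hzE i0) n), hi0, hzn,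
        mul_assoc, pow_succ' (z ^ i0)]
  have hdiff : ∀ n : ℕ, ∀ u ∈ E, ∃ i j : ℕ, apl (δ ^ n) u = u * (z ^ i * w ^ j) := by
    intro n
    induction n with
    | zero => exact fun u hu => ⟨0, 0, by simp [apl_one hu]⟩
    | succ n ih =>
      intro u hu
      obtain ⟨i, j, hij⟩ := hδ u hu
      obtain ⟨i', j', hij'⟩ := ih (apl δ u) (apl_mem δ hu)
      refine ⟨i + i', j + j', ?_⟩
      rw [pow_succ, apl_mul _ _ hu, hij', hij, mul_assoc,
        (hcom.pow_pow i' j).symm.mul_mul_mul_comm, ← pow_add, ← pow_add]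
  refine apl_ext fun u hu => ?_
  have hfix : ∀ n, p ∣ n → apl (δ ^ n) z = z ∧ apl (δ ^ n) w = w := fun n ⟨e, he⟩ => by
    refine ⟨(hpow n).1, ?_⟩
    rw [(hpow n).2, he, ← pow_mul, show i0 * (p * e) = p * (i0 * e) by ring, pow_mul z, hz, one_pow,
      mul_one]
  obtain ⟨i, j, hij⟩ := hdiff p u hu
  have hP := hfix p dvd_rfl
  have hmulp : ∀ n : ℕ, ∀ a ∈ E, ∀ b ∈ E, apl (δ ^ n) (a * b) = apl (δ ^ n) a * apl (δ ^ n) b := by
    intro n a ha b hb
    rw [apl_apply _ (E.mul_mem ha hb), apl_apply _ ha, apl_apply _ hb, ← Subgroup.coe_mul, ← map_mul]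
    rfl
  have hiter : ∀ m : ℕ, apl ((δ ^ p) ^ m) u = u * (z ^ i * w ^ j) ^ m := by
    intro m
    induction m with
    | zero => rw [pow_zero, apl_one hu, pow_zero, mul_one]
    | succ m ih =>
      have hpowfix : ∀ a, a ∈ E → apl (δ ^ p) a = a → ∀ k : ℕ, apl (δ ^ p) (a ^ k) = a ^ k := by
        intro a ha haf k
        induction k with
        | zero =>
          rw [pow_zero]
          have h1 := hmulp p 1 E.one_mem 1 E.one_mem
          rw [mul_one] at h1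
          exact mul_eq_left.1 h1.symm
        | succ k ihk => rw [pow_succ a, hmulp p _ (E.pow_mem ha k) _ ha, ihk, haf]
      have hzw : z ^ i * w ^ j ∈ E := E.mul_mem (E.pow_mem hzE i) (E.pow_mem hwE j)
      have hzwf : apl (δ ^ p) (z ^ i * w ^ j) = z ^ i * w ^ j := by
        rw [hmulp p _ (E.pow_mem hzE i) _ (E.pow_mem hwE j), hpowfix z hzE hP.1, hpowfix w hwE hP.2]
      rw [pow_succ' (δ ^ p), apl_mul _ _ hu, ih, hmulp p _ hu _ (E.pow_mem hzw m), hij,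
        hpowfix _ hzw hzwf, mul_assoc, pow_succ']
  rw [pow_mul, hiter, apl_one hu, (hcom.pow_pow i j).mul_pow, ← pow_mul, ← pow_mul, mul_comm i p,
    mul_comm j p, pow_mul, pow_mul, hz, hw, one_pow, one_pow, one_mul, mul_one]

section Essential

variable [Fact p.Prime] [Finite S] (hS : IsPGroup p S) (hF : F.IsSaturated p)
include hS hF

theorem aut_pgroup_inner {α : MulAut S} (hα : α ∈ F.autGroup S) {k : ℕ} (h : α ^ p ^ k = 1) :
    ∃ s ∈ S, ∀ x ∈ S, apl α x = s * x * s⁻¹ := by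
  obtain ⟨-, R, hR⟩ := top_fullyAutomized hS hF
  haveI : Finite (MulAut S) := Finite.of_injective _ MulEquiv.toEquiv_injective
  haveI hn : (R : Subgroup (F.autGroup S)).Normal := by
    refine ⟨fun n hn g => ?_⟩
    rw [hR, Subgroup.mem_subgroupOf] at hn ⊢
    obtain ⟨s, hs, -, hsx⟩ := mem_autInducedBy_iff.1 hn
    refine mem_autInducedBy_iff.2 ⟨apl (g : MulAut S) s, apl_mem _ hs, Subgroup.le_normalizer (apl_mem _ hs),
      fun x hx => ?_⟩
    have hx' := apl_mem (g : MulAut S)⁻¹ hx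
    show apl ((g : MulAut S) * (n : MulAut S) * (g : MulAut S)⁻¹) x = _
    rw [apl_mul _ _ hx, apl_mul _ _ hx', hsx _ hx']
    have hm := (iso_apl (F := F) le_rfl g.2).1
    rw [hm.map_conj hs hx', apl_apl_inv _ hx]
  have hp : IsPGroup p (Subgroup.zpowers (⟨α, hα⟩ : F.autGroup S)) := by
    rintro ⟨β, hβ⟩
    refine ⟨k, Subtype.ext ?_⟩
    obtain ⟨j, rfl⟩ := Subgroup.mem_zpowers_iff.1 hβ
    show ((⟨α, hα⟩ : F.autGroup S) ^ j) ^ p ^ k = 1
    rw [← zpow_natCast, ← zpow_mul, mul_comm, zpow_mul, zpow_natCast,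
      show (⟨α, hα⟩ : F.autGroup S) ^ p ^ k = 1 from Subtype.ext h, one_zpow]
  obtain ⟨T, hT⟩ := hp.exists_le_sylow
  have hTR : T = R := by
    obtain ⟨g, hg⟩ := MulAction.exists_smul_eq (F.autGroup S) R T
    rw [← hg, Sylow.smul_eq_iff_mem_normalizer.mpr
      (Subgroup.normalizer_eq_top_iff.mpr hn ▸ Subgroup.mem_top g)]
  have h1 := hT (Subgroup.mem_zpowers (⟨α, hα⟩ : F.autGroup S))
  rw [hTR, hR, Subgroup.mem_subgroupOf] at h1
  obtain ⟨s, hs, -, hsx⟩ := mem_autInducedBy_iff.1 h1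
  exact ⟨s, hs, hsx⟩

theorem not_essential_top' : ¬ F.IsEssential p S := by
  rintro ⟨-, -, _, R, hR⟩
  haveI := innIn_normal F S
  haveI : Finite (MulAut S) := Finite.of_injective _ MulEquiv.toEquiv_injective
  obtain ⟨-, T, hT⟩ := top_fullyAutomized hS hF
  refine T.not_dvd_index (hR.1.trans ?_)
  rw [hT, ← Subgroup.index_eq_card, autInducedBy_self_eq_inn]

theorem torus_unique {z c : Ω} {δ₁ δ₂ : MulAut S} {C₂ : Subgroup Ω} (hp2 : p ≠ 2)
    (hz : z ∈ zS S) (hzp : z ^ p = 1) (hz1 : z ≠ 1)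
    (h1 : δ₁ ∈ F.autGroup S) (h2 : δ₂ ∈ F.autGroup S)
    (h1C : apl δ₁ c = c) (h2C : ∀ c ∈ C₂, apl δ₂ c = c)
    (h1z : apl δ₁ z = z ^ (p - 1)) (h2z : apl δ₂ z = z ^ (p - 1))
    (hC₂ : ∀ c ∈ C₂, c ∈ zS S) (hd : ∀ u ∈ zS S, ∃ c ∈ C₂, ∃ a : ℕ, u = c * z ^ a)
    (hcZ : c ∈ zS S) : c ∈ C₂ := by
  classical
  have hp := (Fact.out : p.Prime)
  haveI : Finite (MulAut S) := Finite.of_injective _ MulEquiv.toEquiv_injective
  obtain ⟨c₂, hc₂, a, hca⟩ := hd c hcZ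
  have hm₁ := (iso_apl (F := F) le_rfl h1).1
  have hm₂ := (iso_apl (F := F) le_rfl h2).1
  have hmod : ∀ n k : ℕ, p ∣ n + k → z ^ n = (z ^ k)⁻¹ := fun n k ⟨r, hr⟩ => by
    rw [eq_inv_iff_mul_eq_one, ← pow_add, hr, pow_mul, hzp, one_pow]
  have hpm : ∀ n : ℕ, (z ^ (p - 1)) ^ n = (z ^ n)⁻¹ := fun n => by
    rw [← pow_mul]
    refine hmod _ _ ⟨n, ?_⟩
    obtain ⟨r, hr⟩ : ∃ r, p = r + 1 := ⟨p - 1, by have := hp.pos; omega⟩
    subst hr
    rw [Nat.add_sub_cancel]; ring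
  have d2 : apl δ₂ c = c * (z ^ (2 * a))⁻¹ := by
    rw [hca, hm₂.map_mul (hC₂ _ hc₂).1 (S.pow_mem hz.1 a), h2C _ hc₂, hm₂.map_pow hz.1, h2z, hpm,
      two_mul, pow_add]
    group
  have hqc : apl (δ₁ * δ₂) c = c * z ^ (2 * a) := by
    rw [apl_mul _ _ hcZ.1, d2, hm₁.map_mul hcZ.1 (S.inv_mem (S.pow_mem hz.1 _)),
      hm₁.map_inv (S.pow_mem hz.1 _), h1C, hm₁.map_pow hz.1, h1z, hpm, inv_inv]
  have hqz : apl (δ₁ * δ₂) z = z := by
    rw [apl_mul _ _ hz.1, h2z, hm₁.map_pow hz.1, h1z, hpm, ← hmod 1 (p - 1) ⟨1, by have := hp.pos; omega⟩,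
      pow_one]
  have hq := mul_mem h1 h2
  have hn : ∀ n : ℕ, apl ((δ₁ * δ₂) ^ n) c = c * z ^ (2 * a * n) := by
    intro n
    induction n with
    | zero => rw [pow_zero, apl_one hcZ.1, mul_zero, pow_zero, mul_one]
    | succ n ih =>
      rw [pow_succ', apl_mul _ _ hcZ.1, ih,
        (iso_apl (F := F) le_rfl hq).1.map_mul hcZ.1 (S.pow_mem hz.1 _),
        (iso_apl (F := F) le_rfl hq).1.map_pow hz.1, hqz, hqc, mul_assoc, ← pow_add]
      congr 2
      ring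
  obtain ⟨k, m, hm, hord⟩ := Nat.exists_eq_pow_mul_and_not_dvd (orderOf_pos (δ₁ * δ₂)).ne' p hp.ne_one
  obtain ⟨s, hs, hsx⟩ := aut_pgroup_inner hS hF (pow_mem hq m) (k := k)
    (by rw [← pow_mul, mul_comm, ← hord, pow_orderOf_eq_one])
  have h3 : z ^ (2 * a * m) = 1 := by
    have h4 := hn m
    rw [hsx c hcZ.1, (zS_comm hcZ hs).eq, mul_inv_cancel_right, left_eq_mul] at h4
    exact h4
  have h5 := orderOf_dvd_of_pow_eq_one h3
  rw [orderOf_eq_prime hzp hz1] at h5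
  rcases hp.dvd_mul.1 h5 with h6 | h6
  · rcases hp.dvd_mul.1 h6 with h7 | ⟨r, rfl⟩
    · exact absurd ((Nat.prime_dvd_prime_iff_eq hp Nat.prime_two).1 h7) hp2
    · rw [hca, pow_mul, hzp, one_pow, mul_one]; exact hc₂
  · exact absurd h6 hm

end Essential

section Structure

variable [Fact p.Prime] [Finite S] (hA : Amb p S) (hF : F.IsSaturated p)
include hA hF

set_option maxHeartbeats 1000000 in
/-- The structure of an essential subgroup. -/
theorem exists_ess (hE : F.IsEssential p E) : ∃ C z w, Ess F p E C z w ∧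
    (p ≠ 2 → ∃ δ ∈ F.autGroup S, (∀ c ∈ C, apl δ c = c) ∧ apl δ z = z⁻¹ ∧
      ∀ x ∈ S, x⁻¹ * apl δ x ∈ E) ∧
    (p = 2 → ∀ γ ∈ F.autGroup E, apl γ z ∈ Subgroup.closure ({z, w} : Set Ω) ∧
      apl γ w ∈ Subgroup.closure ({z, w} : Set Ω) ∧ ∃ α ∈ F.autGroup S, ∀ c ∈ C, apl γ c = apl α c) := by
  classical
  have hp := (Fact.out : p.Prime)
  have hct := hA.classTwo
  have hES : E ≤ S := hE.1.1
  haveI : Finite E := finite_of_le hES
  haveI : Finite (MulAut E) := Finite.of_injective _ MulEquiv.toEquiv_injective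
  have hC := centric_self hE.1
  have hZE : zS S ≤ E := fun c hc => hC ⟨hc.1, Subgroup.mem_centralizer_iff.2 fun u hu =>
    (zS_comm hc (hES hu)).eq⟩
  have hnorm : ∀ s ∈ S, ∀ u ∈ E, s * u * s⁻¹ ∈ E := fun s hs u hu => by
    rw [show s * u * s⁻¹ = br s u * u by rw [br]; group]
    exact E.mul_mem (hZE (hA.br_mem s hs u (hES hu))) hu
  have hne : E ≠ S := by
    intro h
    subst h
    exact not_essential_top' hA.pgrp hF hE
  have hpgE : IsPGroup p E := hA.pgrp.to_le hES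
  have hzle : zS S ≤ S := inf_le_left
  haveI : Finite (zS S) := finite_of_le hzle
  obtain ⟨j, hj⟩ := IsPGroup.iff_card.1 (hA.pgrp.to_le hzle)
  obtain ⟨i, hi⟩ := IsPGroup.iff_card.1 hpgE
  have hlt : Nat.card E < Nat.card S := card_lt_of_lt' le_rfl (lt_of_le_of_ne hES hne)
  have hgt : Nat.card (zS S) < Nat.card E := by
    refine card_lt_of_lt' hES (lt_of_le_of_ne hZE fun h => hne (le_antisymm hES fun s hs => hC ⟨hs, ?_⟩))
    exact Subgroup.mem_centralizer_iff.2 fun u hu => ((zS_comm (h.symm ▸ hu) hs).eq).symm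
  have hi' : i = j + 1 := by
    rw [hA.card, hi, hj, ← pow_add, Nat.pow_lt_pow_iff_right hp.one_lt] at hlt
    rw [hi, hj, Nat.pow_lt_pow_iff_right hp.one_lt] at hgt
    omega
  have hindex : Nat.card S = p * Nat.card E := by rw [hA.card, hi, hj, hi']; ring
  obtain ⟨e₀, he₀, he₀Z⟩ := SetLike.exists_of_lt (lt_of_le_of_ne hZE (fun h => hgt.ne (by rw [h])))
  -- `E = Z⟨e₀⟩`
  have hgenE : ∀ u ∈ E, ∃ c ∈ zS S, ∃ k : ℕ, u = c * e₀ ^ k := by
    let E' : Subgroup Ω :=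
      { carrier := {u | ∃ c ∈ zS S, ∃ k : ℕ, u = c * e₀ ^ k}
        mul_mem' := by
          rintro _ _ ⟨c, hc, k, rfl⟩ ⟨c', hc', k', rfl⟩
          refine ⟨c * c', (zS S).mul_mem hc hc', k + k', ?_⟩
          rw [pow_add, ((zS_comm hc' (hES he₀)).pow_left k).mul_mul_mul_comm]
        one_mem' := ⟨1, (zS S).one_mem, 0, by simp⟩
        inv_mem' := by
          rintro _ ⟨c, hc, k, rfl⟩
          refine ⟨c⁻¹ * ((e₀ ^ p) ^ k)⁻¹, (zS S).mul_mem ((zS S).inv_mem hc)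
            ((zS S).inv_mem ((zS S).pow_mem (hA.pow_mem e₀ (hES he₀)) k)), (p - 1) * k, ?_⟩
          have h1 : e₀ ^ ((p - 1) * k) * e₀ ^ k = (e₀ ^ p) ^ k := by
            rw [← pow_add, ← pow_mul]; congr 1
            obtain ⟨q, rfl⟩ : ∃ q, p = q + 1 := ⟨p - 1, by have := hp.pos; omega⟩
            simp; ring
          have h2 : Commute ((e₀ ^ k)) c⁻¹ := ((zS_comm hc (hES he₀)).inv_right).pow_left k
          rw [mul_inv_rev, show e₀ ^ ((p - 1) * k) = (e₀ ^ p) ^ k * (e₀ ^ k)⁻¹ by rw [← h1, mul_inv_cancel_right]]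
          rw [h2.inv_left.eq]
          group }
    have hle : E' ≤ E := by
      rintro _ ⟨c, hc, k, rfl⟩
      exact E.mul_mem (hZE hc) (E.pow_mem he₀ k)
    have hlt' : zS S < E' := lt_of_le_of_ne (fun c hc => ⟨c, hc, 0, by simp⟩)
      fun h => he₀Z (h.symm ▸ ⟨1, (zS S).one_mem, 1, by simp⟩)
    have hE'E : E' = E := by
      refine eq_of_le_of_card hES hle ?_
      haveI := finite_of_le (hle.trans hES)
      obtain ⟨i₁, hi₁⟩ := IsPGroup.iff_card.1 (hA.pgrp.to_le (hle.trans hES))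
      have h2 := card_lt_of_lt' (hle.trans hES) hlt'
      rw [hi₁, hj, Nat.pow_lt_pow_iff_right hp.one_lt] at h2
      rw [hi, hi₁, hi']
      exact Nat.pow_le_pow_right hp.pos h2
    intro u hu
    rw [← hE'E] at hu
    exact hu
  have hcomm : ∀ u ∈ E, ∀ v ∈ E, Commute u v := by
    intro u hu v hv
    obtain ⟨c, hc, k, rfl⟩ := hgenE u hu
    obtain ⟨c', hc', k', rfl⟩ := hgenE v hv
    refine Commute.mul_left ((zS_comm hc (S.mul_mem hc'.1 (S.pow_mem (hES he₀) k'))).symm) ?_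
    exact ((zS_comm hc' (hES he₀)).pow_left k).mul_right ((Commute.refl e₀).pow_pow k k')
  obtain ⟨x, hx, hxE⟩ := SetLike.exists_of_lt (lt_of_le_of_ne hES hne)
  -- `S = E⟨x⟩`
  have hxp : x ^ p ∈ E := hZE (hA.pow_mem x hx)
  have hgenS : ∀ s ∈ S, ∃ u ∈ E, ∃ k : ℕ, s = u * x ^ k := by
    let S' : Subgroup Ω :=
      { carrier := {s | ∃ u ∈ E, ∃ k : ℕ, s = u * x ^ k}
        mul_mem' := by
          rintro _ _ ⟨u, hu, k, rfl⟩ ⟨v, hv, k', rfl⟩
          refine ⟨u * (x ^ k * v * (x ^ k)⁻¹), E.mul_mem hu (hnorm _ (S.pow_mem hx k) v hv), k + k', ?_⟩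
          rw [pow_add]; group
        one_mem' := ⟨1, E.one_mem, 0, by simp⟩
        inv_mem' := by
          rintro _ ⟨u, hu, k, rfl⟩
          have h1 : x ^ ((p - 1) * k) * x ^ k = (x ^ p) ^ k := by
            rw [← pow_add, ← pow_mul]; congr 1
            obtain ⟨q, rfl⟩ : ∃ q, p = q + 1 := ⟨p - 1, by have := hp.pos; omega⟩
            simp; ring
          refine ⟨(x ^ k)⁻¹ * u⁻¹ * x ^ k * ((x ^ p) ^ k)⁻¹, E.mul_mem ?_ (E.inv_mem (E.pow_mem hxp k)),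
            (p - 1) * k, ?_⟩
          · have := hnorm _ (S.inv_mem (S.pow_mem hx k)) _ (E.inv_mem hu)
            rwa [inv_inv] at this
          · rw [show x ^ ((p - 1) * k) = (x ^ p) ^ k * (x ^ k)⁻¹ by rw [← h1, mul_inv_cancel_right]]
            group }
    have hle : S' ≤ S := by
      rintro _ ⟨u, hu, k, rfl⟩
      exact S.mul_mem (hES hu) (S.pow_mem hx k)
    have hlt' : E < S' := lt_of_le_of_ne (fun u hu => ⟨u, hu, 0, by simp⟩)
      fun h => hxE (h.symm ▸ ⟨1, E.one_mem, 1, by simp⟩)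
    have hS'S : S' = S := by
      refine eq_of_le_of_card le_rfl hle ?_
      haveI := finite_of_le hle
      obtain ⟨i₁, hi₁⟩ := IsPGroup.iff_card.1 (hA.pgrp.to_le hle)
      have h2 := card_lt_of_lt' hle hlt'
      rw [hi₁, hi, Nat.pow_lt_pow_iff_right hp.one_lt] at h2
      rw [hindex, hi, hi₁, ← pow_succ']
      exact Nat.pow_le_pow_right hp.pos h2
    intro s hs
    rw [← hS'S] at hs
    exact hs
  -- commutators
  have hbrx : ∀ u ∈ E, ∃ k : ℕ, br x u = br x e₀ ^ k := by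
    intro u hu
    obtain ⟨c, hc, k, rfl⟩ := hgenE u hu
    refine ⟨k, ?_⟩
    rw [br_mul_right hct hx hc.1 (S.pow_mem (hES he₀) k), br_pow_right hct hx (hES he₀),
      br_eq_one.2 (zS_comm hc hx).eq, one_mul]
  set z := br x e₀ with hzdef
  have hzZ : z ∈ zS S := hA.br_mem x hx e₀ (hES he₀)
  have hbr : ∀ a ∈ S, ∀ b ∈ S, ∃ k : ℕ, br a b = z ^ k := by
    have hEE : ∀ u ∈ E, ∀ v ∈ E, br u v = 1 := fun u hu v hv => br_eq_one.2 (hcomm u hu v hv).eq
    have hz1 : z ^ p = 1 := by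
      rw [hzdef, ← br_pow_right hct hx (hES he₀),
        br_eq_one.2 (zS_comm (hA.pow_mem e₀ (hES he₀)) hx).eq]
    have hinv : ∀ k : ℕ, (z ^ k)⁻¹ = z ^ ((p - 1) * k) := by
      intro k
      rw [inv_eq_iff_mul_eq_one, ← pow_add]
      obtain ⟨q, rfl⟩ : ∃ q, p = q + 1 := ⟨p - 1, by have := hp.pos; omega⟩
      rw [show k + (q + 1 - 1) * k = (q + 1) * k by simp; ring, pow_mul, hz1, one_pow]
    intro a ha b hb
    obtain ⟨u, hu, k, rfl⟩ := hgenS a ha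
    obtain ⟨v, hv, l, rfl⟩ := hgenS b hb
    obtain ⟨m, hm⟩ := hbrx u hu
    obtain ⟨n, hn⟩ := hbrx v hv
    have hxk := S.pow_mem hx k
    have hxl := S.pow_mem hx l
    have hux : br u (x ^ l) = (z ^ (m * l))⁻¹ := by
      rw [br_pow_right hct (hES hu) hx, ← br_inv x u, hm, inv_pow, pow_mul]
    have hxv : br (x ^ k) v = z ^ (n * k) := by
      rw [br_pow_left hct hx (hES hv), hn, pow_mul]
    have hxx : br (x ^ k) (x ^ l) = 1 := br_eq_one.2 ((Commute.refl x).pow_pow k l).eq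
    rw [br_mul_left hct (hES hu) hxk (S.mul_mem (hES hv) hxl), br_mul_right hct (hES hu) (hES hv) hxl,
      br_mul_right hct hxk (hES hv) hxl, hEE u hu v hv, one_mul, hux, hxv, hxx, mul_one, hinv, ← pow_add]
    exact ⟨_, rfl⟩
  have hzp : z ^ p = 1 := by
    rw [hzdef, ← br_pow_right hct hx (hES he₀),
      br_eq_one.2 (zS_comm (hA.pow_mem e₀ (hES he₀)) hx).eq]
  have hz1 : z ≠ 1 := by
    intro h
    obtain ⟨a, ha, b, hb, hab⟩ := hA.nonab
    obtain ⟨k, hk⟩ := hbr a ha b hb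
    exact hab (by rw [hk, h, one_pow])
  have hord : orderOf z = p := orderOf_eq_prime hzp hz1
  have hzE : z ∈ E := hZE hzZ
  -- the automorphism induced by `x`
  have hisoτ : Iso F E E (fun u => x * u * x⁻¹) := iso_conj_self hES hx (by
    haveI := finite_of_le hES
    exact mem_normalizer_of_maps (hnorm x hx))
  obtain ⟨τ, hτ, hτx⟩ := hisoτ.exists_mem_autGroup
  set A := F.autGroup E with hAdef
  have hmul : ∀ γ ∈ A, ∀ u ∈ E, ∀ v ∈ E, apl γ (u * v) = apl γ u * apl γ v := fun γ hγ u hu v hv =>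
    (iso_apl hES hγ).1.map_mul hu hv
  have hpowA : ∀ γ ∈ A, ∀ u ∈ E, ∀ n : ℕ, apl γ (u ^ n) = apl γ u ^ n := fun γ hγ u hu n =>
    (iso_apl hES hγ).1.map_pow hu n
  have hτfix : ∀ u ∈ zS S, apl τ u = u := fun u hu => by
    rw [hτx u (hZE hu), ← (zS_comm hu hx).symm.eq, mul_inv_cancel_right]
  have hfixZ : ∀ u ∈ E, apl τ u = u → u ∈ zS S := by
    intro u hu h
    rw [hτx u hu, mul_inv_eq_iff_eq_mul] at h
    refine ⟨hES hu, Subgroup.mem_centralizer_iff.2 fun s hs => ?_⟩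
    obtain ⟨v, hv, k, rfl⟩ := hgenS s hs
    exact ((hcomm v hv u hu).mul_left ((show Commute x u from h).pow_left k)).eq
  have hτmove : ∀ u ∈ E, ∃ k : ℕ, apl τ u = u * z ^ k := by
    intro u hu
    obtain ⟨k, hk⟩ := hbr x hx u (hES hu)
    refine ⟨k, ?_⟩
    rw [hτx u hu, ← (zS_comm ((zS S).pow_mem hzZ k) (hES hu)).symm.eq, ← hk, br]
    group
  -- automorphisms induced by `S`
  have hAutS : ∀ a ∈ S, ∃ k : ℕ, ∀ u ∈ E, apl (τ ^ k) u = a * u * a⁻¹ := by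
    intro a ha
    obtain ⟨v, hv, k, rfl⟩ := hgenS a ha
    refine ⟨k, fun u hu => ?_⟩
    have hit : ∀ n : ℕ, ∀ u ∈ E, apl (τ ^ n) u = x ^ n * u * (x ^ n)⁻¹ := by
      intro n
      induction n with
      | zero => intro u hu; simp [apl_one hu]
      | succ n ih =>
        intro u hu
        rw [pow_succ', apl_mul _ _ hu, ih u hu, hτx _ (hnorm _ (S.pow_mem hx n) u hu), pow_succ']
        group
    rw [hit k u hu]
    have h1 := hcomm v hv _ (hnorm _ (S.pow_mem hx k) u hu)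
    calc x ^ k * u * (x ^ k)⁻¹ = v * (x ^ k * u * (x ^ k)⁻¹) * v⁻¹ := by
          rw [h1.eq, mul_inv_cancel_right]
      _ = _ := by group
  have hτord : τ ^ p = 1 := by
    obtain ⟨k, hk⟩ := hAutS (x ^ p) (S.pow_mem hx p)
    refine apl_ext fun u hu => ?_
    rw [apl_one hu]
    have hit : ∀ n : ℕ, apl (τ ^ n) u = x ^ n * u * (x ^ n)⁻¹ := by
      intro n
      induction n with
      | zero => simp [apl_one hu]
      | succ n ih =>
        rw [pow_succ', apl_mul _ _ hu, ih, hτx _ (hnorm _ (S.pow_mem hx n) u hu), pow_succ']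
        group
    rw [hit, (hcomm _ hxp u hu).eq, mul_inv_cancel_right]
  obtain ⟨-, Sy, hSy⟩ := fullyAutomized_of_fullyNormalized hA.pgrp hF hE.2.1
  have hSyz : ∀ γ : A, γ ∈ (Sy : Subgroup A) → ∃ k : ℕ, (γ : MulAut E) = τ ^ k := by
    intro γ hγ
    rw [hSy, Subgroup.mem_subgroupOf] at hγ
    obtain ⟨a, ha, -, hax⟩ := mem_autInducedBy_iff.1 hγ
    obtain ⟨k, hk⟩ := hAutS a ha
    exact ⟨k, apl_ext fun u hu => (hax u hu).trans (hk u hu).symm⟩
  have hτSy : (⟨τ, hτ⟩ : A) ∈ (Sy : Subgroup A) := by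
    rw [hSy, Subgroup.mem_subgroupOf]
    exact mem_autInducedBy_iff.2 ⟨x, hx, mem_normalizer_of_maps (hnorm x hx), hτx⟩
  -- two automorphisms in one `p`-subgroup
  have hsame : ∀ (P : Subgroup A) (γ : A), IsPGroup p P → ⟨τ, hτ⟩ ∈ P → γ ∈ P →
      ∃ k : ℕ, (γ : MulAut E) = τ ^ k := by
    intro P γ hP hτP hγ
    refine hSyz γ ?_
    obtain ⟨Q, hQ⟩ := hP.exists_le_sylow
    have hτne : (⟨τ, hτ⟩ : A) ≠ 1 := fun h => hz1 (by
      have h1 : apl τ e₀ = e₀ := by rw [show τ = 1 from congrArg Subtype.val h, apl_one he₀]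
      rw [hτx e₀ he₀, mul_inv_eq_iff_eq_mul] at h1
      rw [hzdef]; exact br_eq_one.2 h1)
    have hcard : ∀ R : Sylow p A, Nat.card (R : Subgroup A) = p := fun R => by
      rw [R.card_eq_multiplicity, ← Sy.card_eq_multiplicity]
      refine le_antisymm ?_ ?_
      · haveI : Finite (Sy : Subgroup A) := Subtype.finite
        have hs : Function.Surjective (fun k : Fin p => (⟨⟨τ, hτ⟩ ^ (k : ℕ), Subgroup.pow_mem _ hτSy _⟩ :
            (Sy : Subgroup A))) := fun γ' => by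
          obtain ⟨k, hk⟩ := hSyz γ' γ'.2
          refine ⟨⟨k % p, Nat.mod_lt _ hp.pos⟩, Subtype.ext (Subtype.ext ?_)⟩
          show τ ^ (k % p) = _
          rw [← pow_eq_pow_mod k hτord, hk]
        exact (Nat.card_le_card_of_surjective _ hs).trans (Nat.card_fin p).le
      · have h1 : orderOf (⟨τ, hτ⟩ : A) = p := orderOf_eq_prime (Subtype.ext hτord) hτne
        calc p = _ := h1.symm
          _ = _ := (Nat.card_zpowers _).symm
          _ ≤ _ := Subgroup.card_le_of_le (Subgroup.zpowers_le.2 hτSy)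
    have h1 : Subgroup.zpowers (⟨τ, hτ⟩ : A) = (Q : Subgroup A) := Subgroup.eq_of_le_of_card_ge
      (Subgroup.zpowers_le.2 (hQ hτP))
      (by rw [hcard Q, Nat.card_zpowers, orderOf_eq_prime (Subtype.ext hτord) hτne])
    exact (Subgroup.zpowers_le.2 hτSy) (h1 ▸ hQ hγ)
  have hτ1 : τ ≠ 1 := fun h => hz1 (by
    have h1 : apl τ e₀ = e₀ := by rw [h, apl_one he₀]
    rw [hτx e₀ he₀, mul_inv_eq_iff_eq_mul] at h1
    rw [hzdef]; exact br_eq_one.2 h1)
  have hinvP : ∀ k : ℕ, ¬ p ∣ k → ∃ j q : ℕ, k * j = q * p + 1 := by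
    intro k hk
    have h0 : (k : ZMod p) ≠ 0 := fun h => hk ((ZMod.natCast_eq_zero_iff k p).1 h)
    refine ⟨((k : ZMod p)⁻¹).val, k * ((k : ZMod p)⁻¹).val / p, ?_⟩
    have h1 : (k * ((k : ZMod p)⁻¹).val) % p = 1 := by
      have h2 : ((k * ((k : ZMod p)⁻¹).val : ℕ) : ZMod p) = ((1 : ℕ) : ZMod p) := by
        rw [Nat.cast_mul, ZMod.natCast_val, ZMod.cast_id', id, mul_inv_cancel₀ h0, Nat.cast_one]
      rw [ZMod.natCast_eq_natCast_iff'] at h2
      rw [h2, Nat.mod_eq_of_lt hp.one_lt]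
    have h3 := Nat.div_add_mod (k * ((k : ZMod p)⁻¹).val) p
    rw [h1, mul_comm p] at h3
    exact h3.symm
  have hzinv : z⁻¹ = z ^ (p - 1) := by
    rw [inv_eq_iff_mul_eq_one, ← pow_succ', Nat.sub_add_cancel hp.one_le, hzp]
  have hconjp : ∀ γ : MulAut E, (γ * τ * γ⁻¹) ^ p = 1 := fun γ => by
    rw [conj_pow, hτord, mul_one, mul_inv_cancel]
  -- the key separation
  have key : ∀ γ ∈ A, (∀ k : ℕ, γ * τ * γ⁻¹ ≠ τ ^ k) → apl γ⁻¹ z ∉ zS S := by
    intro γ hγA hγ hzfix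
    set w := apl γ z with hw
    have hwE : w ∈ E := apl_mem _ hzE
    have hwp : w ^ p = 1 := by rw [hw, ← hpowA _ hγA _ hzE, hzp, (iso_apl hES hγA).1.map_one]
    set σ := γ * τ * γ⁻¹ with hσ
    have hσA : σ ∈ A := mul_mem (mul_mem hγA hτ) (inv_mem hγA)
    have hσz : apl σ z = z := by
      rw [hσ, apl_mul _ _ hzE, apl_mul _ _ (apl_mem _ hzE), hτfix _ hzfix, apl_apl_inv _ hzE]
    have hσm : ∀ u ∈ E, ∃ k : ℕ, apl σ u = u * w ^ k := by
      intro u hu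
      obtain ⟨k, hk⟩ := hτmove _ (apl_mem γ⁻¹ hu)
      refine ⟨k, ?_⟩
      rw [hσ, apl_mul _ _ hu, apl_mul _ _ (apl_mem _ hu), hk,
        hmul _ hγA _ (apl_mem _ hu) _ (E.pow_mem hzE k), apl_apl_inv _ hu, hpowA _ hγA _ hzE]
    have hσw : apl σ w = w := by
      rw [hσ, apl_mul _ _ hwE, apl_mul _ _ (apl_mem _ hwE), hw, apl_inv_apl _ hzE, hτfix _ hzZ]
    let Pr : A → Prop := fun δ => apl (δ : MulAut E) z = z ∧
      (∃ i : ℕ, apl (δ : MulAut E) w = w * z ^ i) ∧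
      ∀ u ∈ E, ∃ i j : ℕ, apl (δ : MulAut E) u = u * (z ^ i * w ^ j)
    have hPmul : ∀ δ δ', Pr δ → Pr δ' → Pr (δ * δ') := by
      rintro δ δ' ⟨h1, ⟨i1, h2⟩, h3⟩ ⟨h1', ⟨i1', h2'⟩, h3'⟩
      refine ⟨?_, ⟨i1 + i1', ?_⟩, fun u hu => ?_⟩
      · rw [Subgroup.coe_mul, apl_mul _ _ hzE, h1', h1]
      · rw [Subgroup.coe_mul, apl_mul _ _ hwE, h2', hmul _ δ.2 _ hwE _ (E.pow_mem hzE i1'),
          hpowA _ δ.2 _ hzE, h1, h2, mul_assoc, pow_add]
      · obtain ⟨i', j', hu'⟩ := h3' u hu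
        obtain ⟨i, j, huj⟩ := h3 u hu
        refine ⟨i + i' + i1 * j', j + j', ?_⟩
        have c1 : Commute z w := hcomm z hzE w hwE
        have d1 : Commute (w ^ j) (z ^ i') := c1.symm.pow_pow j i'
        have d2 : Commute (w ^ j * w ^ j') (z ^ (i1 * j')) :=
          (c1.symm.pow_pow j _).mul_left (c1.symm.pow_pow j' _)
        rw [Subgroup.coe_mul, apl_mul _ _ hu, hu',
          hmul _ δ.2 _ hu _ (E.mul_mem (E.pow_mem hzE i') (E.pow_mem hwE j')),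
          hmul _ δ.2 _ (E.pow_mem hzE i') _ (E.pow_mem hwE j'), hpowA _ δ.2 _ hzE, h1,
          hpowA _ δ.2 _ hwE, h2, huj, (c1.symm.pow_right i1).mul_pow, ← pow_mul]
        calc u * (z ^ i * w ^ j) * (z ^ i' * (w ^ j' * z ^ (i1 * j')))
            = u * (z ^ i * (w ^ j * z ^ i') * w ^ j' * z ^ (i1 * j')) := by group
          _ = u * (z ^ i * z ^ i' * ((w ^ j * w ^ j') * z ^ (i1 * j'))) := by rw [d1.eq]; group
          _ = u * (z ^ i * z ^ i' * (z ^ (i1 * j') * (w ^ j * w ^ j'))) := by rw [d2.eq]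
          _ = _ := by rw [pow_add, pow_add, pow_add]; group
    have hPone : Pr 1 := ⟨apl_one hzE, ⟨0, by rw [Subgroup.coe_one, apl_one hwE, pow_zero, mul_one]⟩,
      fun u hu => ⟨0, 0, by simp [apl_one hu]⟩⟩
    have hPord : ∀ δ : A, Pr δ → δ ^ (p * p) = 1 := fun δ h => Subtype.ext
      (pow_p_sq_eq _ (hmul _ δ.2) hzE hwE (hcomm z hzE w hwE) hzp hwp h.1 h.2.1 h.2.2)
    let K : Subgroup A :=
      { carrier := {δ | Pr δ}
        mul_mem' := fun {a b} ha hb => hPmul a b ha hb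
        one_mem' := hPone
        inv_mem' := fun {a} ha => by
          have hpw : ∀ n : ℕ, Pr (a ^ n) := by
            intro n
            induction n with
            | zero => rw [pow_zero]; exact hPone
            | succ n ih => rw [pow_succ]; exact hPmul _ _ ih ha
          have e : a⁻¹ = a ^ (p * p - 1) := by
            rw [inv_eq_iff_mul_eq_one, ← pow_succ', Nat.sub_add_cancel (Nat.mul_pos hp.pos hp.pos),
              hPord a ha]
          show Pr a⁻¹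
          rw [e]
          exact hpw _ }
    have hKp : IsPGroup p K := fun δ => ⟨2, Subtype.ext (by
      rw [Subgroup.coe_pow, pow_two, hPord _ δ.2]; rfl)⟩
    have hτK : (⟨τ, hτ⟩ : A) ∈ K := ⟨hτfix _ hzZ, hτmove w hwE, fun u hu => by
      obtain ⟨i, hi⟩ := hτmove u hu
      exact ⟨i, 0, by rw [pow_zero, mul_one]; exact hi⟩⟩
    have hσK : (⟨σ, hσA⟩ : A) ∈ K := ⟨hσz, ⟨0, by rw [pow_zero, mul_one]; exact hσw⟩, fun u hu => by
      obtain ⟨k, hk⟩ := hσm u hu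
      exact ⟨0, k, by rw [pow_zero, one_mul]; exact hk⟩⟩
    obtain ⟨k, hk⟩ := hsame K ⟨σ, hσA⟩ hKp hτK hσK
    exact hγ k hk
  have hsep : ∀ γ ∈ A, (∀ k : ℕ, γ * τ * γ⁻¹ ≠ τ ^ k) → apl γ z ∉ zS S := by
    intro γ hγA hγ
    have h1 := key γ⁻¹ (inv_mem hγA) (fun k hk => ?_)
    · rwa [inv_inv] at h1
    rw [inv_inv] at hk
    have e : τ = (γ * τ * γ⁻¹) ^ k := by rw [conj_pow, ← hk]; group
    have hpk : ¬ p ∣ k := fun ⟨q, hq⟩ => hτ1 (by rw [e, hq, pow_mul, hconjp, one_pow])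
    obtain ⟨j, q, hjq⟩ := hinvP k hpk
    refine hγ j ?_
    rw [e, ← pow_mul, hjq, pow_succ, mul_comm q, pow_mul, hconjp, one_pow, one_mul]
    rw [← e]
  -- some conjugate differs
  obtain ⟨γ, hγA, hγ⟩ : ∃ γ ∈ A, ∀ k : ℕ, γ * τ * γ⁻¹ ≠ τ ^ k := by
    by_contra hall
    push Not at hall
    haveI hn : (Subgroup.zpowers (⟨τ, hτ⟩ : A)).Normal := ⟨fun n hn g => by
      obtain ⟨i, rfl⟩ := Subgroup.mem_zpowers_iff.1 hn
      obtain ⟨k, hk⟩ := hall g g.2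
      rw [← conj_zpow, show g * ⟨τ, hτ⟩ * g⁻¹ = (⟨τ, hτ⟩ : A) ^ k from Subtype.ext hk]
      exact Subgroup.zpow_mem _ (Subgroup.pow_mem _ (Subgroup.mem_zpowers _) k) i⟩
    have hpT : IsPGroup p (Subgroup.zpowers (⟨τ, hτ⟩ : A)) := by
      refine IsPGroup.of_card (n := 1) ?_
      rw [Nat.card_zpowers, pow_one]
      exact orderOf_eq_prime (Subtype.ext hτord) fun h => hτ1 (congrArg Subtype.val h)
    have h1 := Core.le_pCore hpT (Subgroup.mem_zpowers (⟨τ, hτ⟩ : A))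
    have h2 : τ ∈ (pCore p A).map A.subtype := ⟨_, h1, rfl⟩
    rw [(essential_radical hA.pgrp hF hE).2, inn_eq_autInducedBy] at h2
    obtain ⟨v, hv, -, hvx⟩ := mem_autInducedBy_iff.1 h2
    exact hτ1 (apl_ext fun u hu => by
      rw [hvx u hu, apl_one hu, (hcomm v hv u hu).eq, mul_inv_cancel_right])
  -- automorphisms commuting with `τ` extend
  have hextend : ∀ g ∈ A, g * τ = τ * g → ∃ α ∈ F.autGroup S, (∀ u ∈ E, apl α u = apl g u) ∧
      ∀ a ∈ S, a⁻¹ * apl α a ∈ E := by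
    intro g hg hcom
    have hSN : S ≤ nPhi S E (apl g) := by
      intro a ha
      obtain ⟨k, hk⟩ := hAutS a ha
      refine ⟨ha, mem_normalizer_of_maps (hnorm a ha), a, ha, fun u hu => ?_⟩
      rw [← hk u hu, ← hk _ (apl_mem g hu), ← apl_mul _ _ hu, ← apl_mul _ _ hu,
        ((show Commute g τ from hcom).pow_right k).eq]
    obtain ⟨f, hf, hfu⟩ := (isReceptive_iff.1
      (receptive_of_fullyNormalized hA.pgrp hF hE.2.1)).2 E _ (iso_apl hES hg)
    have hfS := hf.mono hSN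
    obtain ⟨α, hα, hαx⟩ := Iso.exists_mem_autGroup (show Iso F S S f from ⟨hfS, fun y =>
      ⟨fun hy => hfS.surj_of_card le_rfl (fun a ha => hfS.mem_S ha) le_rfl hy,
        fun ⟨a, ha, hay⟩ => hay ▸ hfS.mem_S ha⟩⟩)
    refine ⟨α, hα, fun u hu => (hαx u (hES hu)).trans (hfu u hu), fun a ha => hC ?_⟩
    refine ⟨S.mul_mem (S.inv_mem ha) (apl_mem α ha), Subgroup.mem_centralizer_iff.2 fun u hu => ?_⟩
    obtain ⟨u', hu', rfl⟩ := (iso_apl hES hg).exists_eq hu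
    obtain ⟨k, hk⟩ := hAutS a ha
    have h1 : apl α (a * u' * a⁻¹) = a * apl g u' * a⁻¹ := by
      rw [← hk u' hu', hαx _ (hES (apl_mem _ hu')), hfu _ (apl_mem _ hu'), ← hk _ (apl_mem g hu'),
        ← apl_mul _ _ hu', ← apl_mul _ _ hu', ((show Commute g τ from hcom).pow_right k).eq]
    have h2 : apl α (a * u' * a⁻¹) = apl α a * apl g u' * (apl α a)⁻¹ := by
      rw [(iso_apl le_rfl hα).1.map_conj ha (hES hu'), hαx _ (hES hu'), hfu _ hu']
    rw [h2] at h1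
    calc apl g u' * (a⁻¹ * apl α a) = a⁻¹ * (a * apl g u' * a⁻¹) * apl α a := by group
      _ = a⁻¹ * (apl α a * apl g u' * (apl α a)⁻¹) * apl α a := by rw [h1]
      _ = a⁻¹ * apl α a * apl g u' := by group
  -- a torus for every pair
  have hpair : ∀ g ∈ A, (∀ k : ℕ, g * τ * g⁻¹ ≠ τ ^ k) → ∃ C : Subgroup Ω,
      (∀ c, c ∈ C ↔ c ∈ zS S ∧ apl (g * τ * g⁻¹) c = c) ∧
      (∀ u ∈ E, ∃ c ∈ C, ∃ a b : ℕ, u = c * z ^ a * apl g z ^ b) ∧ z ∉ C ∧
      (∀ u ∈ zS S, ∃ c ∈ C, ∃ a : ℕ, u = c * z ^ a) ∧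
      ∃ δ ∈ F.autGroup S, (∀ c ∈ C, apl δ c = c) ∧ apl δ z = z ^ (p - 1) ∧
        ∀ a ∈ S, a⁻¹ * apl δ a ∈ E := by
    intro g hgA hg
    set w := apl g z with hw
    have hwE : w ∈ E := apl_mem _ hzE
    have hwp : w ^ p = 1 := by rw [hw, ← hpowA _ hgA _ hzE, hzp, (iso_apl hES hgA).1.map_one]
    have hwZ : w ∉ zS S := hsep g hgA hg
    set σ := g * τ * g⁻¹ with hσ
    have hσA : σ ∈ A := mul_mem (mul_mem hgA hτ) (inv_mem hgA)
    have hσm : ∀ u ∈ E, ∃ k : ℕ, apl σ u = u * w ^ k := by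
      intro u hu
      obtain ⟨k, hk⟩ := hτmove _ (apl_mem g⁻¹ hu)
      refine ⟨k, ?_⟩
      rw [hσ, apl_mul _ _ hu, apl_mul _ _ (apl_mem _ hu), hk,
        hmul _ hgA _ (apl_mem _ hu) _ (E.pow_mem hzE k), apl_apl_inv _ hu, hpowA _ hgA _ hzE]
    have hσw : apl σ w = w := by
      rw [hσ, apl_mul _ _ hwE, apl_mul _ _ (apl_mem _ hwE), hw, apl_inv_apl _ hzE, hτfix _ hzZ]
    obtain ⟨m', hm'⟩ := hσm z hzE
    have hm'p : ¬ p ∣ m' := fun ⟨q, hq⟩ => key g hgA hg (hfixZ _ (apl_mem _ hzE) (by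
      have h1 : apl σ z = z := by rw [hm', hq, pow_mul, hwp, one_pow, mul_one]
      rw [hσ, apl_mul _ _ hzE, apl_mul _ _ (apl_mem _ hzE)] at h1
      have h2 := congrArg (apl g⁻¹) h1
      rwa [apl_inv_apl _ (apl_mem _ (apl_mem _ hzE))] at h2))
    obtain ⟨j', q', hj'⟩ := hinvP m' hm'p
    obtain ⟨m, hm⟩ := hτmove w hwE
    have hmp : ¬ p ∣ m := fun ⟨q, hq⟩ =>
      hwZ (hfixZ w hwE (by rw [hm, hq, pow_mul, hzp, one_pow, mul_one]))
    obtain ⟨j, q, hj⟩ := hinvP m hmp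
    let C : Subgroup Ω :=
      { carrier := {c | c ∈ zS S ∧ apl σ c = c}
        mul_mem' := fun {a b} ha hb => ⟨(zS S).mul_mem ha.1 hb.1,
          by rw [hmul _ hσA _ (hZE ha.1) _ (hZE hb.1), ha.2, hb.2]⟩
        one_mem' := ⟨(zS S).one_mem, (iso_apl hES hσA).1.map_one⟩
        inv_mem' := fun {a} ha => ⟨(zS S).inv_mem ha.1,
          by rw [(iso_apl hES hσA).1.map_inv (hZE ha.1), ha.2]⟩ }
    have hz0 : z ∉ C := fun h => hm'p (by
      have h1 := h.2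
      rw [hm', mul_eq_left] at h1
      have h2 := orderOf_dvd_of_pow_eq_one h1
      rwa [orderOf_eq_prime hwp fun h => hwZ (by rw [h]; exact (zS S).one_mem)] at h2)
    have hdZ : ∀ u ∈ zS S, ∃ c ∈ C, ∃ a : ℕ, u = c * z ^ a := by
      intro u hu
      obtain ⟨n, hn⟩ := hσm u (hZE hu)
      refine ⟨u * z ^ (n * j' * (p - 1)), ⟨(zS S).mul_mem hu ((zS S).pow_mem hzZ _), ?_⟩, n * j', ?_⟩
      · have hd : p ∣ n + m' * (n * j' * (p - 1)) := by
          refine ⟨n * (q' * (p - 1) + 1), ?_⟩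
          obtain ⟨r, rfl⟩ : ∃ r, p = r + 1 := ⟨p - 1, by have := hp.pos; omega⟩
          rw [Nat.add_sub_cancel, show m' * (n * j' * r) = m' * j' * (n * r) by ring, hj']
          ring
        obtain ⟨r, hr⟩ := hd
        have c1 : Commute (w ^ n) (z ^ (n * j' * (p - 1))) := (hcomm w hwE z hzE).pow_pow _ _
        rw [hmul _ hσA _ (hZE hu) _ (E.pow_mem hzE _), hn, hpowA _ hσA _ hzE, hm',
          (hcomm z hzE _ (E.pow_mem hwE m')).mul_pow, ← pow_mul]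
        calc u * w ^ n * (z ^ (n * j' * (p - 1)) * w ^ (m' * (n * j' * (p - 1))))
            = u * (w ^ n * z ^ (n * j' * (p - 1))) * w ^ (m' * (n * j' * (p - 1))) := by group
          _ = u * z ^ (n * j' * (p - 1)) * (w ^ n * w ^ (m' * (n * j' * (p - 1)))) := by
            rw [c1.eq]; group
          _ = _ := by rw [← pow_add, hr, pow_mul w, hwp, one_pow, mul_one]
      · rw [mul_assoc, ← pow_add, show n * j' * (p - 1) + n * j' = p * (n * j') by
          obtain ⟨r, rfl⟩ : ∃ r, p = r + 1 := ⟨p - 1, by have := hp.pos; omega⟩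
          rw [Nat.add_sub_cancel]; ring, pow_mul, hzp, one_pow, mul_one]
    have hdE : ∀ u ∈ E, ∃ c ∈ C, ∃ a b : ℕ, u = c * z ^ a * w ^ b := by
      obtain ⟨c1, hc1, k1, hk1⟩ := hgenE w hwE
      have hk1p : ¬ p ∣ k1 := fun ⟨r, hr⟩ => hwZ (by
        rw [hk1, hr, pow_mul]
        exact (zS S).mul_mem hc1 ((zS S).pow_mem (hA.pow_mem e₀ (hES he₀)) r))
      obtain ⟨j1, q1, hj1⟩ := hinvP k1 hk1p
      intro u hu
      obtain ⟨c0, hc0, k0, hk0⟩ := hgenE u hu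
      have hc1' : Commute c1 (e₀ ^ k1) := ((zS_comm hc1 (hES he₀)).symm).pow_right k1
      have he : e₀ ^ k0 = (c1 ^ (j1 * k0))⁻¹ * ((e₀ ^ p) ^ (q1 * k0))⁻¹ * w ^ (j1 * k0) := by
        rw [hk1, hc1'.mul_pow, ← pow_mul e₀ k1, show k1 * (j1 * k0) = p * (q1 * k0) + k0 by
          rw [← mul_assoc, hj1]; ring, pow_add, pow_mul e₀ p]
        have c2 : Commute (c1 ^ (j1 * k0)) ((e₀ ^ p) ^ (q1 * k0)) :=
          (zS_comm (hA.pow_mem e₀ (hES he₀)) hc1.1).pow_pow _ _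
        calc e₀ ^ k0 = (c1 ^ (j1 * k0))⁻¹ * ((e₀ ^ p) ^ (q1 * k0))⁻¹ *
              (((e₀ ^ p) ^ (q1 * k0)) * c1 ^ (j1 * k0)) * e₀ ^ k0 := by group
          _ = _ := by rw [← c2.eq]; group
      obtain ⟨c, hc, a, ha⟩ := hdZ (c0 * ((c1 ^ (j1 * k0))⁻¹ * ((e₀ ^ p) ^ (q1 * k0))⁻¹))
        ((zS S).mul_mem hc0 ((zS S).mul_mem ((zS S).inv_mem ((zS S).pow_mem hc1 _))
          ((zS S).inv_mem ((zS S).pow_mem (hA.pow_mem e₀ (hES he₀)) _))))
      refine ⟨c, hc, a, j1 * k0, ?_⟩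
      rw [← ha, hk0, he]
      group
    refine ⟨C, fun c => Iff.rfl, hdE, hz0, hdZ, ?_⟩
    -- the word
    set T := τ ^ (j * (p - 1)) with hTdef
    have hTA : T ∈ A := pow_mem hτ _
    have hτn : ∀ n : ℕ, (∀ u ∈ zS S, apl (τ ^ n) u = u) ∧ apl (τ ^ n) w = w * z ^ (m * n) := by
      intro n
      induction n with
      | zero => exact ⟨fun u hu => by rw [pow_zero, apl_one (hZE hu)],
          by rw [pow_zero, apl_one hwE, mul_zero, pow_zero, mul_one]⟩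
      | succ n ih =>
        refine ⟨fun u hu => by rw [pow_succ', apl_mul _ _ (hZE hu), ih.1 u hu, hτfix u hu], ?_⟩
        rw [pow_succ' τ, apl_mul _ _ hwE, ih.2, hmul _ hτ _ hwE _ (E.pow_mem hzE _),
          hτfix _ ((zS S).pow_mem hzZ _), hm, mul_assoc, ← pow_add]
        congr 2
        ring
    have hσn : ∀ n : ℕ, apl (σ ^ n) w = w ∧ (∀ c ∈ C, apl (σ ^ n) c = c) ∧
        apl (σ ^ n) z = z * w ^ (m' * n) := by
      intro n
      induction n with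
      | zero => exact ⟨by rw [pow_zero, apl_one hwE], fun c hc => by rw [pow_zero, apl_one (hZE hc.1)],
          by rw [pow_zero, apl_one hzE, mul_zero, pow_zero, mul_one]⟩
      | succ n ih =>
        refine ⟨by rw [pow_succ', apl_mul _ _ hwE, ih.1, hσw],
          fun c hc => by rw [pow_succ', apl_mul _ _ (hZE hc.1), ih.2.1 c hc, hc.2], ?_⟩
        rw [pow_succ' σ, apl_mul _ _ hzE, ih.2.2, hmul _ hσA _ hzE _ (E.pow_mem hwE _), hm',
          hpowA _ hσA _ hwE, hσw, mul_assoc, ← pow_add]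
        congr 2
        ring
    set U := σ ^ j' with hUdef
    have hUA : U ∈ A := pow_mem hσA _
    have hTw : apl T w = w * z ^ (p - 1) := by
      rw [hTdef, (hτn _).2, ← mul_assoc, hj, show (q * p + 1) * (p - 1) = p * (q * (p - 1)) + (p - 1) by ring,
        pow_add, pow_mul, hzp, one_pow, one_mul]
    have hUz : apl U z = z * w := by
      rw [hUdef, (hσn _).2.2, hj', pow_succ, mul_comm q', pow_mul, hwp, one_pow, one_mul]
    have hTz : ∀ u ∈ zS S, apl T u = u := (hτn _).1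
    have hUw : apl U w = w := (hσn _).1
    set R := T * U * T with hRdef
    have hRA : R ∈ A := mul_mem (mul_mem hTA hUA) hTA
    have czw : Commute z w := hcomm z hzE w hwE
    have hRz : apl R z = w := by
      rw [hRdef, apl_mul _ _ hzE, apl_mul _ _ (apl_mem _ hzE), hTz z hzZ, hUz,
        hmul _ hTA _ hzE _ hwE, hTz z hzZ, hTw, ← mul_assoc, czw.eq, mul_assoc, ← pow_succ',
        Nat.sub_add_cancel hp.one_le, hzp, mul_one]
    have hRw : apl R w = z ^ (p - 1) := by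
      have h2 : apl U (w * z ^ (p - 1)) = z ^ (p - 1) := by
        rw [hmul _ hUA _ hwE _ (E.pow_mem hzE _), hpowA _ hUA _ hzE, hUw, hUz, czw.mul_pow, ← mul_assoc,
          ((czw.pow_left (p - 1)).symm).eq, mul_assoc, ← pow_succ', Nat.sub_add_cancel hp.one_le, hwp,
          mul_one]
      rw [hRdef, apl_mul _ _ hwE, apl_mul _ _ (apl_mem _ hwE), hTw, h2, hTz _ ((zS S).pow_mem hzZ _)]
    have hRC : ∀ c ∈ C, apl R c = c := fun c hc => by
      rw [hRdef, apl_mul _ _ (hZE hc.1), apl_mul _ _ (apl_mem _ (hZE hc.1)), hTz c hc.1,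
        hUdef, (hσn _).2.1 c hc, hTz c hc.1]
    set δ := R * R with hδdef
    have hδA : δ ∈ A := mul_mem hRA hRA
    have hδz : apl δ z = z ^ (p - 1) := by rw [hδdef, apl_mul _ _ hzE, hRz, hRw]
    have hδw : apl δ w = w ^ (p - 1) := by
      rw [hδdef, apl_mul _ _ hwE, hRw, hpowA _ hRA _ hzE, hRz]
    have hδC : ∀ c ∈ C, apl δ c = c := fun c hc => by
      rw [hδdef, apl_mul _ _ (hZE hc.1), hRC c hc, hRC c hc]
    have hcom : δ * τ = τ * δ := apl_ext fun u hu => by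
      rw [apl_mul _ _ hu, apl_mul _ _ hu]
      obtain ⟨c, hc, a, b, rfl⟩ := hdE u hu
      have hcE := hZE hc.1
      have hca := E.mul_mem hcE (E.pow_mem hzE a)
      rw [hmul _ hτ _ hca _ (E.pow_mem hwE b), hτfix _ ((zS S).mul_mem hc.1 ((zS S).pow_mem hzZ a)),
        hpowA _ hτ _ hwE, hm, hmul _ hδA _ hca _ (E.pow_mem (E.mul_mem hwE (E.pow_mem hzE m)) b),
        hpowA _ hδA _ (E.mul_mem hwE (E.pow_mem hzE m)), hmul _ hδA _ hwE _ (E.pow_mem hzE m),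
        hpowA _ hδA _ hzE, hδz, hδw, hmul _ hδA _ hca _ (E.pow_mem hwE b),
        hmul _ hδA _ hcE _ (E.pow_mem hzE a), hpowA _ hδA _ hzE, hpowA _ hδA _ hwE, hδz, hδw, hδC c hc,
        hmul _ hτ _ (E.mul_mem hcE (E.pow_mem (E.pow_mem hzE _) a)) _ (E.pow_mem (E.pow_mem hwE _) b),
        hτfix _ ((zS S).mul_mem hc.1 ((zS S).pow_mem ((zS S).pow_mem hzZ _) a)),
        hpowA _ hτ _ (E.pow_mem hwE _), hpowA _ hτ _ hwE, hm,
        (czw.pow_left m).symm.mul_pow, ← pow_mul z, ← pow_mul z, mul_comm (p - 1) m, ← pow_mul z]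
    obtain ⟨α, hα, hαu, hαE⟩ := hextend δ hδA hcom
    exact ⟨α, hα, fun c hc => (hαu c (hZE hc.1)).trans (hδC c hc), (hαu z hzE).trans hδz, hαE⟩
  obtain ⟨C, hCiff, hdE, hz0, hdZ, δ, hδ, hδC, hδz, hδE⟩ := hpair γ hγA hγ
  set w := apl γ z with hw
  have hwE : w ∈ E := apl_mem _ hzE
  have hwp : w ^ p = 1 := by rw [hw, ← hpowA _ hγA _ hzE, hzp, (iso_apl hES hγA).1.map_one]
  have hwZ : w ∉ zS S := hsep γ hγA hγ
  have hCZ : C ≤ zS S := fun c hc => ((hCiff c).1 hc).1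
  have hCσ : ∀ c ∈ C, apl (γ * τ * γ⁻¹) c = c := fun c hc => ((hCiff c).1 hc).2
  have hodd : p ≠ 2 → ∀ g ∈ A, ∀ c ∈ C, apl (g * τ * g⁻¹) c = c := by
    intro hp2 g hgA c hc
    by_cases hg : ∀ k : ℕ, g * τ * g⁻¹ ≠ τ ^ k
    swap
    · push Not at hg
      obtain ⟨k, hk⟩ := hg
      have : ∀ n : ℕ, apl (τ ^ n) c = c := by
        intro n
        induction n with
        | zero => rw [pow_zero, apl_one (hZE (hCZ hc))]
        | succ n ih => rw [pow_succ', apl_mul _ _ (hZE (hCZ hc)), ih, hτfix _ (hCZ hc)]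
      rw [hk, this k]
    obtain ⟨C', hC'iff, -, -, hdZ', δ', hδ', hδ'C, hδ'z, -⟩ := hpair g hgA hg
    exact ((hC'iff c).1 (torus_unique hA.pgrp hF hp2 hzZ hzp hz1 hδ hδ' (hδC c hc) hδ'C hδz hδ'z
      (fun c h => ((hC'iff c).1 h).1) hdZ' (hCZ hc))).2
  have htwo : p = 2 → ∀ g ∈ A, ∃ l ∈ A, (∀ c ∈ C, apl l c = c) ∧ l⁻¹ * g * τ = τ * (l⁻¹ * g) ∧
      apl g z ∈ Subgroup.closure ({z, w} : Set Ω) := by
    intro hp2 g hgA
    subst hp2
    set σ := γ * τ * γ⁻¹ with hσdef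
    have hσA : σ ∈ A := mul_mem (mul_mem hγA hτ) (inv_mem hγA)
    have hσ2 : σ * σ = 1 := by rw [← pow_two]; exact hconjp γ
    have hτ2 : τ * τ = 1 := by rw [← pow_two]; exact hτord
    have hconj1 : ∀ g ∈ A, g * τ * g⁻¹ ≠ 1 := fun g _ h => hτ1 (by
      rw [mul_inv_eq_one] at h; exact mul_eq_left.1 h)
    -- equal conjugates send `z` to the same element
    have hzeq : ∀ g₁ ∈ A, ∀ g₂ ∈ A, g₁ * τ * g₁⁻¹ = g₂ * τ * g₂⁻¹ → apl g₁ z = apl g₂ z := by
      intro g₁ hg₁ g₂ hg₂ h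
      have hgA := mul_mem (inv_mem hg₂) hg₁
      have hcom : g₂⁻¹ * g₁ * τ = τ * (g₂⁻¹ * g₁) := by
        calc g₂⁻¹ * g₁ * τ = g₂⁻¹ * (g₁ * τ * g₁⁻¹) * g₁ := by group
          _ = g₂⁻¹ * (g₂ * τ * g₂⁻¹) * g₁ := by rw [h]
          _ = _ := by group
      have h1 : apl (g₂⁻¹ * g₁) z = z := by
        have hge := apl_mem (g₂⁻¹ * g₁) he₀
        obtain ⟨k, hk⟩ := hτmove _ hge
        obtain ⟨k0, hk0⟩ := hτmove e₀ he₀
        have h2 : apl (g₂⁻¹ * g₁) z ^ k0 = z ^ k := by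
          have h3 : apl (g₂⁻¹ * g₁ * τ) e₀ = apl (τ * (g₂⁻¹ * g₁)) e₀ := by rw [hcom]
          rw [apl_mul (g₂⁻¹ * g₁) τ he₀, apl_mul τ (g₂⁻¹ * g₁) he₀] at h3
          rw [hk, hk0, hmul _ hgA _ he₀ _ (E.pow_mem hzE k0), hpowA _ hgA _ hzE, mul_right_inj] at h3
          exact h3
        have hk0p : ¬ 2 ∣ k0 := fun ⟨r, hr⟩ => he₀Z (hfixZ e₀ he₀ (by
          rw [hk0, hr, pow_mul, hzp, one_pow, mul_one]))
        have hg2 : apl (g₂⁻¹ * g₁) z ^ 2 = 1 := by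
          rw [← hpowA _ hgA _ hzE, hzp, (iso_apl hES hgA).1.map_one]
        rw [← Nat.mod_add_div k0 2, show k0 % 2 = 1 by omega, pow_add, pow_one, pow_mul, hg2, one_pow,
          mul_one] at h2
        rcases Nat.even_or_odd k with ⟨r, rfl⟩ | ⟨r, rfl⟩
        · exfalso
          rw [← two_mul, pow_mul, hzp, one_pow] at h2
          exact hz1 ((iso_apl hES hgA).1.injOn hzE E.one_mem
            (h2.trans (iso_apl hES hgA).1.map_one.symm))
        · rw [h2, pow_succ, pow_mul, hzp, one_pow, one_mul]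
      have h4 := congrArg (apl g₂) h1
      rw [← apl_mul _ _ hzE, mul_inv_cancel_left] at h4
      exact h4
    have hmove : ∀ g₁ ∈ A, ∀ g₂ ∈ A, g₁ * τ * g₁⁻¹ ≠ g₂ * τ * g₂⁻¹ →
        apl (g₁ * τ * g₁⁻¹) (apl g₂ z) = apl g₂ z * apl g₁ z := by
      intro g₁ hg₁ g₂ hg₂ hne
      have hu := apl_mem g₂ hzE
      obtain ⟨k, hk⟩ := hτmove _ (apl_mem g₁⁻¹ hu)
      have e : apl (g₁ * τ * g₁⁻¹) (apl g₂ z) = apl g₂ z * apl g₁ z ^ k := by
        rw [apl_mul _ _ hu, apl_mul _ _ (apl_mem _ hu), hk,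
          hmul _ hg₁ _ (apl_mem _ hu) _ (E.pow_mem hzE k), apl_apl_inv _ hu, hpowA _ hg₁ _ hzE]
      have hk2 : k % 2 = 1 := by
        by_contra hk2
        obtain ⟨r, hr⟩ : 2 ∣ k := Nat.dvd_of_mod_eq_zero (by omega)
        refine hsep (g₁⁻¹ * g₂) (mul_mem (inv_mem hg₁) hg₂) (fun i hi => ?_) ?_
        · rw [← Nat.mod_add_div i 2, pow_add, pow_mul, hτord, one_pow, mul_one] at hi
          rcases Nat.mod_two_eq_zero_or_one i with h | h
          · rw [h, pow_zero] at hi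
            exact hconj1 _ (mul_mem (inv_mem hg₁) hg₂) hi
          · rw [h, pow_one] at hi
            refine hne ?_
            calc g₁ * τ * g₁⁻¹ = g₁ * (g₁⁻¹ * g₂ * τ * (g₁⁻¹ * g₂)⁻¹) * g₁⁻¹ := by rw [hi]
              _ = _ := by group
        · rw [apl_mul _ _ hzE]
          exact hfixZ _ (apl_mem _ hu) (by rw [hk, hr, pow_mul, hzp, one_pow, mul_one])
      rw [e, ← Nat.mod_add_div k 2, hk2, pow_add, pow_one, pow_mul, ← hpowA _ hg₁ _ hzE, hzp,
        (iso_apl hES hg₁).1.map_one, one_pow, mul_one]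
    have hσne : σ ≠ τ := fun h => hγ 1 (by rw [pow_one]; exact h)
    have h1τ : (1 : MulAut E) * τ * 1⁻¹ = τ := by group
    have hστσ : σ * τ * σ = τ * σ * τ := by
      -- both differ from `τ` and `σ`
      by_contra hne
      have hg2A : τ * γ ∈ A := mul_mem hτ hγA
      have hA2 : τ * γ * τ * (τ * γ)⁻¹ = τ * σ * τ := by
        rw [hσdef, mul_inv_rev, inv_eq_of_mul_eq_one_right hτ2]; group
      have hA1 : σ * τ * σ⁻¹ = σ * τ * σ := by rw [inv_eq_of_mul_eq_one_right hσ2]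
      have hA3 : σ * τ * σ⁻¹ ≠ σ := fun h => hσne (by
        rw [mul_inv_eq_iff_eq_mul] at h; exact (mul_left_cancel h).symm)
      have hA4 : σ * τ * σ⁻¹ ≠ τ := by
        intro h
        have h2 := hzeq σ hσA 1 (one_mem _) (by rw [h1τ]; exact h)
        rw [apl_one hzE] at h2
        have h3 := hmove γ hγA 1 (one_mem _) (by rw [h1τ]; exact hσne)
        rw [apl_one hzE, h2, left_eq_mul] at h3
        exact hwZ (by show apl γ z ∈ zS S; rw [h3]; exact (zS S).one_mem)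
      have hA5 : σ * τ * σ⁻¹ ≠ τ * γ * τ * (τ * γ)⁻¹ := by rw [hA1, hA2]; exact hne
      have m1 := hmove σ hσA 1 (one_mem _) (by rw [h1τ]; exact hA4)
      have m2 := hmove σ hσA γ hγA hA3
      have m3 := hmove σ hσA (τ * γ) hg2A hA5
      have e0 : apl (τ * γ) z = w * z := by
        have h := hmove 1 (one_mem _) γ hγA (by rw [h1τ]; exact fun h => hσne h.symm)
        rw [h1τ, apl_one hzE] at h
        rw [apl_mul _ _ hzE]
        exact h
      have hA' : σ * τ * σ⁻¹ ∈ A := mul_mem (mul_mem hσA hτ) (inv_mem hσA)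
      rw [e0, hmul _ hA' _ hwE _ hzE] at m3
      rw [apl_one hzE] at m1
      rw [m1, m2] at m3
      set v := apl σ z with hv
      have hvE : v ∈ E := apl_mem _ hzE
      have h4 : v = 1 := by
        have h5 : w * v * (z * v) = w * z * v * v := by
          rw [((hcomm v hvE z hzE).mul_mul_mul_comm w v)]; group
        rw [h5] at m3
        exact mul_eq_left.1 m3
      exact hz1 ((iso_apl hES hσA).1.injOn hzE E.one_mem (h4.trans (iso_apl hES hσA).1.map_one.symm))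
    have hA2 : τ * γ * τ * (τ * γ)⁻¹ = τ * σ * τ := by
      rw [hσdef, mul_inv_rev, inv_eq_of_mul_eq_one_right hτ2]; group
    have e0 : apl (τ * γ) z = w * z := by
      have h := hmove 1 (one_mem _) γ hγA (by rw [h1τ]; exact fun h => hσne h.symm)
      rw [h1τ, apl_one hzE] at h
      rw [apl_mul _ _ hzE]
      exact h
    -- every conjugate is one of three
    have hthree : g * τ * g⁻¹ = τ ∨ g * τ * g⁻¹ = σ ∨ g * τ * g⁻¹ = τ * γ * τ * (τ * γ)⁻¹ := by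
      by_contra hne
      push Not at hne
      obtain ⟨n1, n2, n3⟩ := hne
      have m1 := hmove g hgA 1 (one_mem _) (by rw [h1τ]; exact n1)
      have m2 := hmove g hgA γ hγA n2
      have m3 := hmove g hgA (τ * γ) (mul_mem hτ hγA) n3
      rw [e0, hmul _ (mul_mem (mul_mem hgA hτ) (inv_mem hgA)) _ hwE _ hzE] at m3
      rw [apl_one hzE] at m1
      rw [m1, m2] at m3
      set v := apl g z with hv
      have hvE : v ∈ E := apl_mem _ hzE
      have h5 : w * v * (z * v) = w * z * v * v := by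
        rw [((hcomm v hvE z hzE).mul_mul_mul_comm w v)]; group
      rw [h5] at m3
      have h4 : v = 1 := mul_eq_left.1 m3
      exact hz1 ((iso_apl hES hgA).1.injOn hzE E.one_mem (h4.trans (iso_apl hES hgA).1.map_one.symm))
    have hcl := Subgroup.subset_closure (k := ({z, w} : Set Ω))
    have hlC : ∀ l ∈ ({τ, σ} : Set (MulAut E)), ∀ c ∈ C, apl l c = c := by
      rintro l (rfl | rfl) c hc
      exacts [hτfix c (hCZ hc), hCσ c hc]
    rcases hthree with h | h | h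
    · refine ⟨1, one_mem _, fun c hc => apl_one (hZE (hCZ hc)), ?_, ?_⟩
      · rw [inv_one, one_mul]; exact mul_inv_eq_iff_eq_mul.1 h
      · rw [hzeq g hgA 1 (one_mem _) (by rw [h1τ]; exact h), apl_one hzE]
        exact hcl (Or.inl rfl)
    · refine ⟨τ * σ, mul_mem hτ hσA, fun c hc => by
        rw [apl_mul _ _ (hZE (hCZ hc)), hlC σ (Or.inr rfl) c hc, hlC τ (Or.inl rfl) c hc], ?_, ?_⟩
      · have e1 : τ * σ * τ * (τ * σ)⁻¹ = σ := by
          rw [mul_inv_rev, inv_eq_of_mul_eq_one_right hσ2, inv_eq_of_mul_eq_one_right hτ2,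
            show τ * σ * τ * (σ * τ) = τ * (σ * τ * σ) * τ by group, hστσ,
            show τ * (τ * σ * τ) * τ = τ * τ * σ * (τ * τ) by group, hτ2]
          group
        calc (τ * σ)⁻¹ * g * τ = (τ * σ)⁻¹ * (g * τ * g⁻¹) * g := by group
          _ = (τ * σ)⁻¹ * (τ * σ * τ * (τ * σ)⁻¹) * g := by rw [h, e1]
          _ = _ := by group
      · rw [hzeq g hgA γ hγA h]
        exact hcl (Or.inr rfl)
    · refine ⟨σ, hσA, hlC σ (Or.inr rfl), ?_, ?_⟩
      · have e1 : σ * τ * σ⁻¹ = τ * γ * τ * (τ * γ)⁻¹ := by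
          rw [hA2, inv_eq_of_mul_eq_one_right hσ2, hστσ]
        calc σ⁻¹ * g * τ = σ⁻¹ * (g * τ * g⁻¹) * g := by group
          _ = σ⁻¹ * (σ * τ * σ⁻¹) * g := by rw [h, e1]
          _ = _ := by group
      · rw [hzeq g hgA _ (mul_mem hτ hγA) h, e0]
        exact Subgroup.mul_mem _ (hcl (Or.inr rfl)) (hcl (Or.inl rfl))
  have hCall : ∀ g ∈ A, ∀ c ∈ C, apl (g * τ * g⁻¹) c = c := by
    by_cases hp2 : p = 2
    swap
    · exact hodd hp2
    intro g hgA c hc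
    obtain ⟨l, hl, hlc, hcom, -⟩ := htwo hp2 g hgA
    have e : g * τ * g⁻¹ = l * τ * l⁻¹ := by
      calc g * τ * g⁻¹ = l * (l⁻¹ * g * τ) * g⁻¹ := by group
        _ = l * (τ * (l⁻¹ * g)) * g⁻¹ := by rw [hcom]
        _ = _ := by group
    have hcE := hZE (hCZ hc)
    have hlinv : apl l⁻¹ c = c := by conv_lhs => rw [← hlc c hc, apl_inv_apl l hcE]
    rw [e, apl_mul _ _ hcE, apl_mul _ _ (apl_mem _ hcE), hlinv, hτfix c (hCZ hc), hlc c hc]
  have hCinv : ∀ g ∈ A, ∀ c ∈ C, apl g c ∈ C := by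
    intro g hgA c hc
    have hcE := hZE (hCZ hc)
    have hfix : ∀ g' ∈ A, apl (g' * τ * g'⁻¹) (apl g c) = apl g c := by
      intro g' hg'
      have h := hCall (g⁻¹ * g') (mul_mem (inv_mem hgA) hg') c hc
      rw [show g⁻¹ * g' * τ * (g⁻¹ * g')⁻¹ = g⁻¹ * (g' * τ * g'⁻¹) * g by group,
        apl_mul _ _ hcE, apl_mul _ _ (apl_mem g hcE)] at h
      have h2 := congrArg (apl g) h
      rwa [apl_apl_inv _ (apl_mem _ (apl_mem g hcE))] at h2
    refine (hCiff _).2 ⟨hfixZ _ (apl_mem g hcE) ?_, hfix γ hγA⟩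
    have := hfix 1 (one_mem _)
    rwa [one_mul, inv_one, mul_one] at this
  refine ⟨C, z, w, ⟨hE, hES, hZE, hnorm, hC, hcomm, hindex, hzZ, hzp, hz1, hbr, hwE, hwZ, hwp, hCZ, hz0,
    hdE, hCinv⟩, fun _ => ⟨δ, hδ, hδC, hδz.trans hzinv.symm, hδE⟩, fun hp2 g hgA => ?_⟩
  obtain ⟨l, hl, hlc, hcom, hgz⟩ := htwo hp2 g hgA
  obtain ⟨-, -, -, -, hgw⟩ := htwo hp2 (g * γ) (mul_mem hgA hγA)
  obtain ⟨α, hα, hαu, -⟩ := hextend (l⁻¹ * g) (mul_mem (inv_mem hl) hgA) hcom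
  refine ⟨hgz, by rwa [apl_mul _ _ hzE] at hgw, α, hα, fun c hc => ?_⟩
  have hcE := hZE (hCZ hc)
  have h1 := hlc _ (hCinv _ (mul_mem (inv_mem hl) hgA) c hc)
  rw [← apl_mul _ _ hcE, mul_inv_cancel_left] at h1
  rw [h1, hαu c hcE]

end Structure

/-! ### The global argument -/

theorem Ess.mem_C {z w : Ω} [Fact p.Prime] (h : Ess F p E C z w) {u : Ω} (hu : u ∈ zS S) :
    ∃ c ∈ C, ∃ a : ℕ, u = c * z ^ a := by
  obtain ⟨c, hc, a, b, hab⟩ := h.decomp u (h.zle hu)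
  refine ⟨c, hc, a, ?_⟩
  have h1 : w ^ b ∈ zS S := by
    have h2 := (zS S).mul_mem ((zS S).inv_mem ((zS S).mul_mem (h.C_le hc) ((zS S).pow_mem h.z_mem a))) hu
    rwa [hab, inv_mul_cancel_left] at h2
  have h3 : p ∣ b := by
    by_contra hb
    have hcop : Nat.Coprime b (orderOf w) := Nat.Coprime.coprime_dvd_right
      (orderOf_dvd_of_pow_eq_one h.w_pow) ((Fact.out : p.Prime).coprime_iff_not_dvd.2 hb).symm
    obtain ⟨j, hj⟩ := exists_pow_eq_self_of_coprime hcop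
    exact h.w_not (hj ▸ (zS S).pow_mem h1 j)
  obtain ⟨e, rfl⟩ := h3
  rw [hab, pow_mul, h.w_pow, one_pow, mul_one]

theorem Ess.pow_E {z w : Ω} [Fact p.Prime] (h : Ess F p E C z w) (hbot : C = ⊥) {u : Ω} (hu : u ∈ E) :
    u ^ p = 1 := by
  obtain ⟨c, hc, a, b, rfl⟩ := h.decomp u hu
  rw [hbot, Subgroup.mem_bot] at hc
  rw [hc, one_mul, ((h.comm z (h.zle h.z_mem) w h.w_mem).pow_pow a b).mul_pow, pow_right_comm z,
    pow_right_comm w, h.z_pow, h.w_pow, one_pow, one_pow, one_mul]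

theorem Ess.card_zS {z w : Ω} [Fact p.Prime] (h : Ess F p E C z w) (hbot : C = ⊥) :
    zS S = Subgroup.zpowers z ∧ Nat.card (zS S) = p := by
  have e : zS S = Subgroup.zpowers z := le_antisymm (fun u hu => by
    obtain ⟨c, hc, a, rfl⟩ := h.mem_C hu
    rw [hbot, Subgroup.mem_bot] at hc
    rw [hc, one_mul]
    exact Subgroup.pow_mem _ (Subgroup.mem_zpowers z) a) (Subgroup.zpowers_le.2 h.z_mem)
  exact ⟨e, by rw [e, Nat.card_zpowers, orderOf_eq_prime h.z_pow h.z_ne]⟩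

section Global

variable [Fact p.Prime] [Finite S] (hA : Amb p S) (hF : F.IsSaturated p)
include hA hF

omit hA hF [Fact p.Prime] [Finite S] in
theorem aut_zS {α : MulAut S} (hα : α ∈ F.autGroup S) {u : Ω} (hu : u ∈ zS S) :
    apl α u ∈ zS S := by
  refine ⟨apl_mem α hu.1, Subgroup.mem_centralizer_iff.2 fun g hg => ?_⟩
  obtain ⟨g', hg', rfl⟩ := (iso_apl (F := F) le_rfl hα).exists_eq hg
  rw [← (iso_apl (F := F) le_rfl hα).1.map_mul hg' hu.1, ← (iso_apl (F := F) le_rfl hα).1.map_mul hu.1 hg',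
    (zS_comm hu hg').eq]

omit hF [Finite S] in
theorem z_unique {E₁ C₁ E₂ C₂ : Subgroup Ω} {z₁ w₁ z₂ w₂ : Ω} (h₁ : Ess F p E₁ C₁ z₁ w₁)
    (h₂ : Ess F p E₂ C₂ z₂ w₂) : ∃ k : ℕ, z₂ = z₁ ^ k := by
  obtain ⟨a, ha, b, hb, hab⟩ := hA.nonab
  obtain ⟨k₁, hk₁⟩ := h₁.br_mem a ha b hb
  obtain ⟨k₂, hk₂⟩ := h₂.br_mem a ha b hb
  have hk : ¬ p ∣ k₂ := fun ⟨e, he⟩ => hab (by rw [hk₂, he, pow_mul, h₂.z_pow, one_pow])
  have hcop : Nat.Coprime k₂ (orderOf z₂) := Nat.Coprime.coprime_dvd_right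
    (orderOf_dvd_of_pow_eq_one h₂.z_pow) ((Fact.out : p.Prime).coprime_iff_not_dvd.2 hk).symm
  obtain ⟨j, hj⟩ := exists_pow_eq_self_of_coprime hcop
  exact ⟨k₁ * j, by rw [← hj, ← hk₂, hk₁, ← pow_mul]⟩

omit hF [Finite S] in
theorem aut_z {E₁ C₁ : Subgroup Ω} {z₁ w₁ : Ω} (h₁ : Ess F p E₁ C₁ z₁ w₁) {α : MulAut S}
    (hα : α ∈ F.autGroup S) : ∃ k : ℕ, apl α z₁ = z₁ ^ k := by
  obtain ⟨a, ha, b, hb, hab⟩ := hA.nonab
  obtain ⟨k, hk⟩ := h₁.br_mem a ha b hb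
  have hkp : ¬ p ∣ k := fun ⟨e, he⟩ => hab (by rw [hk, he, pow_mul, h₁.z_pow, one_pow])
  have hcop : Nat.Coprime k (orderOf z₁) := Nat.Coprime.coprime_dvd_right
    (orderOf_dvd_of_pow_eq_one h₁.z_pow) ((Fact.out : p.Prime).coprime_iff_not_dvd.2 hkp).symm
  obtain ⟨j, hj⟩ := exists_pow_eq_self_of_coprime hcop
  have hm := (iso_apl (F := F) le_rfl hα).1
  obtain ⟨m, hm'⟩ := h₁.br_mem _ (apl_mem α ha) _ (apl_mem α hb)
  refine ⟨m * j, ?_⟩
  rw [← hk] at hj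
  conv_lhs => rw [← hj]
  rw [pow_mul, ← hm', br, br, hm.map_pow (S.mul_mem (S.mul_mem (S.mul_mem ha hb) (S.inv_mem ha)) (S.inv_mem hb)),
    hm.map_mul (S.mul_mem (S.mul_mem ha hb) (S.inv_mem ha)) (S.inv_mem hb),
    hm.map_mul (S.mul_mem ha hb) (S.inv_mem ha), hm.map_mul ha hb, hm.map_inv ha, hm.map_inv hb]

theorem C_bot_of_invariant {C : Subgroup Ω} (hcore : F.core = ⊥) (hCZ : C ≤ zS S)
    (hS' : ∀ α ∈ F.autGroup S, ∀ c ∈ C, apl α c ∈ C)
    (hE' : ∀ E, F.IsEssential p E → C ≤ E ∧ ∀ γ ∈ F.autGroup E, ∀ c ∈ C, apl γ c ∈ C) : C = ⊥ := by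
  rw [eq_bot_iff, ← hcore]
  refine le_core ((isNormal_iff_essential hA.pgrp hF).2 fun P hP => ?_)
  rcases hP with rfl | hP
  · refine ⟨hCZ.trans inf_le_left, fun α hα => invariant_of_apl fun x hx => ⟨fun h => ?_, hS' α hα x⟩⟩
    rw [← apl_inv_apl α hx]
    exact hS' _ (inv_mem hα) _ h
  · obtain ⟨h1, h2⟩ := hE' P hP
    refine ⟨h1, fun α hα => invariant_of_apl fun x hx => ⟨fun h => ?_, h2 α hα x⟩⟩
    rw [← apl_inv_apl α hx]
    exact h2 _ (inv_mem hα) _ h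

theorem odd_case (hp2 : p ≠ 2) (hcore : F.core = ⊥) (hess : ∃ E, F.IsEssential p E) :
    Nat.card (zS S) = p ∧ ∀ a ∈ S, a ^ p = 1 := by
  obtain ⟨E, hE⟩ := hess
  obtain ⟨C, z, w, h, hodd, -⟩ := exists_ess hA hF hE
  obtain ⟨δ, hδ, hδC, hδz, hδE⟩ := hodd hp2
  have hzinv : z⁻¹ = z ^ (p - 1) := by
    rw [inv_eq_iff_mul_eq_one, ← pow_succ', Nat.sub_add_cancel (Fact.out : p.Prime).one_le, h.z_pow]
  have hone : ∀ (c : Ω) (δ' : MulAut S), δ' ∈ F.autGroup S → c ∈ zS S → apl δ' c = c →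
      apl δ' z = z ^ (p - 1) → c ∈ C := fun c δ' h' hc hfix hz' =>
    torus_unique hA.pgrp hF hp2 h.z_mem h.z_pow h.z_ne h' hδ hfix hδC hz' (hδz.trans hzinv)
      (fun c hc => h.C_le hc) (fun u hu => h.mem_C hu) hc
  have hzS := h.z_mem.1
  have hC : C = ⊥ := by
    refine C_bot_of_invariant hA hF hcore h.C_le (fun α hα c hc => ?_) (fun E₂ hE₂ => ?_)
    · obtain ⟨k, hk⟩ := aut_z hA h (inv_mem hα)
      refine hone _ (α * δ * α⁻¹) (mul_mem (mul_mem hα hδ) (inv_mem hα)) (aut_zS hα (h.C_le hc)) ?_ ?_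
      · rw [apl_mul _ _ (apl_mem α (h.C_le hc).1), apl_mul _ _ (apl_mem _ (apl_mem α (h.C_le hc).1)),
          apl_inv_apl _ (h.C_le hc).1, hδC c hc]
      · rw [apl_mul _ _ hzS, apl_mul _ _ (apl_mem _ hzS), hk,
          (iso_apl (F := F) le_rfl hδ).1.map_pow hzS, hδz, hzinv, pow_right_comm,
          (iso_apl (F := F) le_rfl hα).1.map_pow (S.pow_mem hzS k), ← hk, apl_apl_inv _ hzS]
    · obtain ⟨C₂, z₂, w₂, h₂, hodd₂, -⟩ := exists_ess hA hF hE₂
      obtain ⟨δ₂, hδ₂, hδC₂, hδz₂, -⟩ := hodd₂ hp2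
      have hzinv₂ : z₂⁻¹ = z₂ ^ (p - 1) := by
        rw [inv_eq_iff_mul_eq_one, ← pow_succ', Nat.sub_add_cancel (Fact.out : p.Prime).one_le, h₂.z_pow]
      obtain ⟨k, hk⟩ := z_unique hA h₂ h
      have h2z : apl δ₂ z = z ^ (p - 1) := by
        rw [hk, (iso_apl (F := F) le_rfl hδ₂).1.map_pow h₂.z_mem.1, hδz₂, hzinv₂, pow_right_comm]
      obtain ⟨k', hk'⟩ := z_unique hA h h₂
      have h1z : apl δ z₂ = z₂ ^ (p - 1) := by
        rw [hk', (iso_apl (F := F) le_rfl hδ).1.map_pow h.z_mem.1, hδz, hzinv, pow_right_comm]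
      have e1 : ∀ c ∈ C, c ∈ C₂ := fun c hc => torus_unique hA.pgrp hF hp2 h₂.z_mem h₂.z_pow h₂.z_ne hδ hδ₂
        (hδC c hc) hδC₂ h1z (hδz₂.trans hzinv₂) (fun c hc => h₂.C_le hc) (fun u hu => h₂.mem_C hu)
        (h.C_le hc)
      have e2 : ∀ c ∈ C₂, c ∈ C := fun c hc => hone c δ₂ hδ₂ (h₂.C_le hc) (hδC₂ c hc) h2z
      exact ⟨fun c hc => h₂.zle (h.C_le hc), fun γ hγ c hc => e2 _ (h₂.C_inv γ hγ c (e1 c hc))⟩
  obtain ⟨hzeq, hcard⟩ := h.card_zS hC
  refine ⟨hcard, fun a ha => ?_⟩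
  have he := hδE a ha
  set e := a⁻¹ * apl δ a with hedef
  have hm := (iso_apl (F := F) le_rfl hδ).1
  have hap : apl δ a = a * e := by rw [hedef, mul_inv_cancel_left]
  have h1 : apl δ (a ^ p) = a ^ p := by
    rw [hm.map_pow ha, hap, mul_pow_class_two hA.classTwo ha (h.le he), h.pow_E hC he, mul_one]
    obtain ⟨k, hk⟩ := h.br_mem e (h.le he) a ha
    obtain ⟨r, hr⟩ := (Fact.out : p.Prime).dvd_choose_self two_ne_zero
      (lt_of_le_of_ne (Fact.out : p.Prime).two_le (Ne.symm hp2))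
    rw [hk, hr, pow_mul (z ^ k), ← pow_mul z, mul_comm k, pow_mul z, h.z_pow, one_pow, one_pow, mul_one]
  obtain ⟨i, hi⟩ : ∃ i : ℕ, a ^ p = z ^ i := by
    obtain ⟨c, hc, i, hi⟩ := h.mem_C (hA.pow_mem a ha)
    rw [hC, Subgroup.mem_bot] at hc
    exact ⟨i, by rw [hi, hc, one_mul]⟩
  rw [hi, hm.map_pow hzS, hδz, inv_pow, inv_eq_iff_mul_eq_one, ← pow_add, ← two_mul] at h1
  have h2 := orderOf_dvd_of_pow_eq_one h1
  rw [orderOf_eq_prime h.z_pow h.z_ne] at h2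
  rcases (Fact.out : p.Prime).dvd_mul.1 h2 with h3 | ⟨r, rfl⟩
  · exact absurd ((Nat.prime_dvd_prime_iff_eq (Fact.out : p.Prime) Nat.prime_two).1 h3) hp2
  · rw [hi, pow_mul, h.z_pow, one_pow]

end Global

/-- The four cosets of the centre. -/
theorem four [Finite S] (hA : Amb 2 S) {a b s : Ω} (ha : a ∈ S) (hb : b ∈ S) (hs : s ∈ S)
    (haZ : a ∉ zS S) (hbZ : b ∉ zS S) (hab : a⁻¹ * b ∉ zS S) :
    s ∈ zS S ∨ a⁻¹ * s ∈ zS S ∨ b⁻¹ * s ∈ zS S ∨ (a * b)⁻¹ * s ∈ zS S := by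
  classical
  set Z := (zS S).subgroupOf S with hZdef
  have hmem : ∀ x : S, x ∈ Z ↔ (x : Ω) ∈ zS S := fun x => Subgroup.mem_subgroupOf
  have hZn : Z.Normal := ⟨fun n hn g => by
    rw [hmem] at hn ⊢
    show (g : Ω) * n * (g : Ω)⁻¹ ∈ zS S
    rw [(zS_comm hn g.2).eq, mul_inv_cancel_right]
    exact hn⟩
  have hcard : Nat.card (S ⧸ Z) = 4 := by
    have h1 := Subgroup.card_eq_card_quotient_mul_card_subgroup Z
    have hle : zS S ≤ S := inf_le_left
    rw [hA.card, Nat.card_congr (Subgroup.subgroupOfEquivOfLe hle).toEquiv] at h1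
    haveI := finite_of_le hle
    exact (Nat.eq_of_mul_eq_mul_right Nat.card_pos h1).symm.trans (by norm_num)
  set A : S ⧸ Z := QuotientGroup.mk (⟨a, ha⟩ : S) with hAdef
  set B : S ⧸ Z := QuotientGroup.mk (⟨b, hb⟩ : S) with hBdef
  haveI := Fintype.ofFinite (S ⧸ Z)
  have hA1 : A ≠ 1 := fun h => haZ ((hmem _).1 ((QuotientGroup.eq_one_iff _).1 h))
  have hB1 : B ≠ 1 := fun h => hbZ ((hmem _).1 ((QuotientGroup.eq_one_iff _).1 h))
  have hAB : A ≠ B := fun h => hab (by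
    have := (hmem _).1 (QuotientGroup.eq.1 h)
    simpa using this)
  have hsq : A * A = 1 := by
    rw [hAdef, ← QuotientGroup.mk_mul, QuotientGroup.eq_one_iff, hmem]
    have := hA.pow_mem a ha
    rwa [pow_two] at this
  have hAB1 : A * B ≠ 1 := fun h => hAB (mul_left_cancel (hsq.trans h.symm))
  have hABA : A * B ≠ A := fun h => hB1 (mul_eq_left.1 h)
  have hABB : A * B ≠ B := fun h => hA1 (mul_eq_right.1 h)
  have huniv : ({1, A, B, A * B} : Finset (S ⧸ Z)) = Finset.univ := by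
    apply Finset.eq_univ_of_card
    rw [← Nat.card_eq_fintype_card, hcard, Finset.card_insert_of_notMem (by simp [hA1.symm, hB1.symm, hAB1.symm]),
      Finset.card_insert_of_notMem (by simp [hAB, hABA.symm]),
      Finset.card_insert_of_notMem (by simp [hABB.symm]), Finset.card_singleton]
  have hmemu : (QuotientGroup.mk (⟨s, hs⟩ : S) : S ⧸ Z) ∈ ({1, A, B, A * B} : Finset (S ⧸ Z)) := by
    rw [huniv]; exact Finset.mem_univ _
  simp only [Finset.mem_insert, Finset.mem_singleton] at hmemu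
  rcases hmemu with h | h | h | h
  · exact Or.inl ((hmem _).1 ((QuotientGroup.eq_one_iff _).1 h))
  · exact Or.inr (Or.inl (by simpa using (hmem _).1 (QuotientGroup.eq.1 h.symm)))
  · exact Or.inr (Or.inr (Or.inl (by simpa using (hmem _).1 (QuotientGroup.eq.1 h.symm))))
  · rw [hAdef, hBdef, ← QuotientGroup.mk_mul] at h
    exact Or.inr (Or.inr (Or.inr (by simpa [mul_assoc] using (hmem _).1 (QuotientGroup.eq.1 h.symm))))

/-- Three involutions outside the centre do not lie in three different cosets. -/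
theorem no_three [Finite S] (hA : Amb 2 S) {C₁ E₁ : Subgroup Ω} {z w : Ω}
    (h : Ess F 2 E₁ C₁ z w) {a b c : Ω} (ha : a ∈ S) (hb : b ∈ S) (hc : c ∈ S)
    (ha2 : a ^ 2 = 1) (hb2 : b ^ 2 = 1) (hc2 : c ^ 2 = 1)
    (haZ : a ∉ zS S) (hbZ : b ∉ zS S) (hcZ : c ∉ zS S)
    (hab : a⁻¹ * b ∉ zS S) (hac : a⁻¹ * c ∉ zS S) (hbc : b⁻¹ * c ∉ zS S) : False := by
  have hd : (a * b)⁻¹ * c ∈ zS S := by
    rcases four hA ha hb hc haZ hbZ hab with h' | h' | h' | h'
    exacts [absurd h' hcZ, absurd h' hac, absurd h' hbc, h']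
  set d := (a * b)⁻¹ * c with hddef
  have hbr : br a b ≠ 1 := by
    intro h1
    have hcom : Commute a b := br_eq_one.1 h1
    refine haZ ⟨ha, Subgroup.mem_centralizer_iff.2 fun s hs => ?_⟩
    rcases four hA ha hb hs haZ hbZ hab with h' | h' | h' | h'
    · exact ((zS_comm h' ha).eq).symm
    · rw [show s = a * (a⁻¹ * s) by group]
      exact ((Commute.refl a).mul_left (zS_comm h' ha).symm).eq
    · rw [show s = b * (b⁻¹ * s) by group]
      exact (hcom.symm.mul_left (zS_comm h' ha).symm).eq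
    · rw [show s = a * b * ((a * b)⁻¹ * s) by group]
      exact (((Commute.refl a).mul_left hcom.symm).mul_left (zS_comm h' ha).symm).eq
  have hai : a⁻¹ = a := inv_eq_of_mul_eq_one_right (by rw [← pow_two, ha2])
  have hbi : b⁻¹ = b := inv_eq_of_mul_eq_one_right (by rw [← pow_two, hb2])
  have hsq : br a b * d ^ 2 = 1 := by
    have e : c = a * b * d := by rw [hddef, mul_inv_cancel_left]
    rw [← hc2, e, ((zS_comm hd (S.mul_mem ha hb))).mul_pow, br, hai, hbi, pow_two (a * b)]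
    group
  obtain ⟨k, hk⟩ := h.br_mem a ha b hb
  obtain ⟨c', hc', i, hi⟩ := h.mem_C hd
  have hzk : z ^ k = z := by
    rcases Nat.mod_two_eq_zero_or_one k with hm | hm
    · exact absurd (by rw [hk, ← Nat.mod_add_div k 2, hm, zero_add, pow_mul, h.z_pow, one_pow]) hbr
    · rw [← Nat.mod_add_div k 2, hm, pow_add, pow_one, pow_mul, h.z_pow, one_pow, mul_one]
  rw [hk, hzk, hi, (zS_comm ((zS S).pow_mem h.z_mem i) (h.C_le hc').1).mul_pow, pow_right_comm z, h.z_pow,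
    one_pow, mul_one, mul_eq_one_iff_eq_inv] at hsq
  exact h.z_not (hsq ▸ C₁.inv_mem (C₁.pow_mem hc' 2))

theorem rel_symm {a b : Ω} (h : a⁻¹ * b ∈ zS S) : b⁻¹ * a ∈ zS S := by
  have h1 := (zS S).inv_mem h
  rwa [mul_inv_rev, inv_inv] at h1

theorem rel_trans {a b c : Ω} (h : a⁻¹ * b ∈ zS S) (h' : b⁻¹ * c ∈ zS S) : a⁻¹ * c ∈ zS S := by
  have h1 := (zS S).mul_mem h h'
  rwa [mul_assoc, mul_inv_cancel_left] at h1

section Two

variable [Finite S] (hA : Amb 2 S) (hF : F.IsSaturated 2)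
include hA hF

theorem aut_rel {E₁ C₁ : Subgroup Ω} {z w : Ω} (h : Ess F 2 E₁ C₁ z w) {a : Ω} (ha : a ∈ S)
    (haZ : a ∉ zS S) (ha2 : a ^ 2 = 1) {α : MulAut S} (hα : α ∈ F.autGroup S) :
    a⁻¹ * apl α a ∈ zS S := by
  haveI : Fact (Nat.Prime 2) := ⟨Nat.prime_two⟩
  haveI : Finite (MulAut S) := Finite.of_injective _ MulEquiv.toEquiv_injective
  have hnot : ∀ β ∈ F.autGroup S, ∀ u ∈ S, u ∉ zS S → apl β u ∉ zS S := fun β hβ u hu huZ h' => huZ (by
    have := aut_zS (F := F) (inv_mem hβ) h'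
    rwa [apl_inv_apl _ hu] at this)
  have hsq : ∀ β ∈ F.autGroup S, apl β a ^ 2 = 1 := fun β hβ => by
    rw [← (iso_apl (F := F) le_rfl hβ).1.map_pow ha, ha2, (iso_apl (F := F) le_rfl hβ).1.map_one]
  have himg : ∀ β ∈ F.autGroup S, ∀ u ∈ S, ∀ v ∈ S, u⁻¹ * v ∈ zS S →
      (apl β u)⁻¹ * apl β v ∈ zS S := fun β hβ u hu v hv huv => by
    rw [← (iso_apl (F := F) le_rfl hβ).1.map_inv hu, ← (iso_apl (F := F) le_rfl hβ).1.map_mul (S.inv_mem hu) hv]
    exact aut_zS hβ huv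
  by_contra hne
  have h2 : a⁻¹ * apl (α * α) a ∈ zS S := by
    by_contra h2
    refine no_three hA h ha (apl_mem α ha) (apl_mem (α * α) ha) ha2 (hsq α hα) (hsq _ (mul_mem hα hα))
      haZ (hnot α hα a ha haZ) (hnot _ (mul_mem hα hα) a ha haZ) hne h2 fun h3 => hne ?_
    have := himg α⁻¹ (inv_mem hα) _ (apl_mem α ha) _ (apl_mem (α * α) ha) h3
    rwa [apl_inv_apl _ ha, apl_mul _ _ ha, apl_inv_apl _ (apl_mem α ha)] at this
  have heven : ∀ n : ℕ, a⁻¹ * apl ((α * α) ^ n) a ∈ zS S := by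
    intro n
    induction n with
    | zero => rw [pow_zero, apl_one ha, inv_mul_cancel]; exact Subgroup.one_mem _
    | succ n ih =>
      rw [pow_succ', apl_mul _ _ ha]
      exact rel_trans h2 (himg _ (mul_mem hα hα) _ ha _ (apl_mem _ ha) ih)
  obtain ⟨k, m, hm, hord⟩ := Nat.exists_eq_pow_mul_and_not_dvd (orderOf_pos α).ne' 2 (by norm_num)
  obtain ⟨s, hs, hsx⟩ := aut_pgroup_inner hA.pgrp hF (pow_mem hα m) (k := k)
    (by rw [← pow_mul, mul_comm, ← hord, pow_orderOf_eq_one])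
  have hm' : m = 2 * (m / 2) + 1 := by omega
  have h3 : a⁻¹ * apl (α ^ m) a ∈ zS S := by
    rw [hsx a ha, show a⁻¹ * (s * a * s⁻¹) = br a⁻¹ s by rw [br]; group]
    exact hA.br_mem _ (S.inv_mem ha) s hs
  rw [hm', pow_succ', apl_mul _ _ ha, pow_mul, pow_two] at h3
  refine hne (rel_trans h3 ?_)
  exact rel_symm (himg α hα _ ha _ (apl_mem _ ha) (heven _))

set_option maxHeartbeats 1000000 in
theorem two_case (hcore : F.core = ⊥) (hfoc : F.focalSubgroup = S) (hess : ∃ E, F.IsEssential 2 E) :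
    Nat.card (zS S) = 2 ∧ ∃ w₁ ∈ S, ∃ w₂ ∈ S, orderOf w₁ = 2 ∧ orderOf w₂ = 2 ∧ w₁ ≠ w₂ ∧
      Subgroup.closure {w₁, w₂} = S := by
  haveI : Fact (Nat.Prime 2) := ⟨Nat.prime_two⟩
  haveI : Finite (MulAut S) := Finite.of_injective _ MulEquiv.toEquiv_injective
  obtain ⟨E₁, hE₁⟩ := hess
  obtain ⟨C₁, z, w₁, h₁, -, htwo₁⟩ := exists_ess hA hF hE₁
  have hzw : ∀ {E C : Subgroup Ω} {z' w : Ω}, Ess F 2 E C z' w → z' = z := fun h => by
    obtain ⟨k, hk⟩ := z_unique hA h₁ h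
    rcases Nat.mod_two_eq_zero_or_one k with hm | hm
    · exact absurd (by rw [hk, ← Nat.mod_add_div k 2, hm, zero_add, pow_mul, h₁.z_pow, one_pow]) h.z_ne
    · rw [hk, ← Nat.mod_add_div k 2, hm, pow_add, pow_one, pow_mul, h₁.z_pow, one_pow, mul_one]
  have hautz : ∀ α ∈ F.autGroup S, apl α z = z := fun α hα => by
    obtain ⟨k, hk⟩ := aut_z hA h₁ hα
    rcases Nat.mod_two_eq_zero_or_one k with hm | hm
    · exfalso
      refine h₁.z_ne ((iso_apl (F := F) le_rfl hα).1.injOn h₁.z_mem.1 S.one_mem ?_)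
      rw [hk, ← Nat.mod_add_div k 2, hm, zero_add, pow_mul, h₁.z_pow, one_pow,
        (iso_apl (F := F) le_rfl hα).1.map_one]
    · rw [hk, ← Nat.mod_add_div k 2, hm, pow_add, pow_one, pow_mul, h₁.z_pow, one_pow, mul_one]
  -- two essential subgroups with equivalent generators agree
  have hsame : ∀ {E C : Subgroup Ω} {z' w : Ω} {E' C' : Subgroup Ω} {z'' w' : Ω},
      Ess F 2 E C z' w → Ess F 2 E' C' z'' w' → w⁻¹ * w' ∈ zS S → E = E' := by
    intro E C z' w E' C' z'' w' h h' hr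
    refine eq_of_le_of_card h'.le (fun u hu => ?_) ?_
    · obtain ⟨c, hc, a, b, rfl⟩ := h.decomp u hu
      refine E'.mul_mem (h'.zle ((zS S).mul_mem (h.C_le hc) ((zS S).pow_mem h.z_mem a))) (E'.pow_mem ?_ b)
      have h1 := E'.mul_mem h'.w_mem (E'.inv_mem (h'.zle hr))
      rwa [mul_inv_rev, inv_inv, mul_inv_cancel_left] at h1
    · exact (Nat.eq_of_mul_eq_mul_left (by norm_num) (h'.index.symm.trans h.index)).le
  -- `Aut_F(S)` preserves every essential subgroup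
  have hpres : ∀ {E C : Subgroup Ω} {z' w : Ω}, Ess F 2 E C z' w → ∀ α ∈ F.autGroup S, ∀ u ∈ E,
      apl α u ∈ E := by
    intro E C z' w h α hα u hu
    obtain ⟨c, hc, a, b, rfl⟩ := h.decomp u hu
    have hm := (iso_apl (F := F) le_rfl hα).1
    have hwS := h.le h.w_mem
    rw [hm.map_mul (S.mul_mem (h.C_le hc).1 (S.pow_mem h.z_mem.1 a)) (S.pow_mem hwS b), hm.map_pow hwS]
    refine E.mul_mem (h.zle (aut_zS hα ((zS S).mul_mem (h.C_le hc) ((zS S).pow_mem h.z_mem a)))) (E.pow_mem ?_ b)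
    have h1 := E.mul_mem h.w_mem (h.zle (aut_rel hA hF h hwS h.w_not h.w_pow hα))
    rwa [mul_inv_cancel_left] at h1
  -- hence also the complements of `z`
  have hCS : ∀ {E C : Subgroup Ω} {z' w : Ω}, Ess F 2 E C z' w → ∀ α ∈ F.autGroup S, ∀ c ∈ C,
      apl α c ∈ C := by
    intro E C z' w h α hα c hc
    haveI := finite_of_le h.le
    have hiso : Iso F E E (apl α) := by
      have hm := (iso_apl (F := F) le_rfl hα).1.mono h.le
      refine ⟨hm, fun y => ⟨fun hy => ⟨apl α⁻¹ y, hpres h _ (inv_mem hα) y hy,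
        apl_apl_inv _ (h.le hy)⟩, ?_⟩⟩
      rintro ⟨x, hx, rfl⟩
      exact hpres h α hα x hx
    obtain ⟨γ, hγ, hγx⟩ := hiso.exists_mem_autGroup
    rw [← hγx c (h.zle (h.C_le hc))]
    exact h.C_inv γ hγ c hc
  -- a second essential subgroup
  obtain ⟨E₂, hE₂, hne⟩ : ∃ E₂, F.IsEssential 2 E₂ ∧ E₂ ≠ E₁ := by
    by_contra hall
    push Not at hall
    have hSS : ⁅S, S⁆ ≤ E₁ := Subgroup.commutator_le.2 fun a ha b hb => h₁.zle (hA.br_mem a ha b hb)
    have hdiff : ∀ R, (R = S ∨ F.IsEssential 2 R) → ∀ α ∈ F.autGroup R, DiffRel S E₁ R (apl α) := by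
      rintro R (hR | hR) α hα
      · subst hR
        refine ⟨le_rfl, fun x hx => apl_mem α hx, fun x hx => ?_⟩
        have hidx : (E₁.subgroupOf R).index = 2 := by
          have h1 := (E₁.subgroupOf R).index_mul_card
          rw [Nat.card_congr (Subgroup.subgroupOfEquivOfLe h₁.le).toEquiv, h₁.index] at h1
          haveI := finite_of_le h₁.le
          exact Nat.eq_of_mul_eq_mul_right Nat.card_pos h1
        have h2 := (Subgroup.mul_mem_iff_of_index_two hidx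
          (a := (⟨x, hx⟩ : R)⁻¹) (b := ⟨apl α x, apl_mem α hx⟩)).2 (by
            simp only [Subgroup.inv_mem_iff, Subgroup.mem_subgroupOf]
            refine ⟨hpres h₁ α hα x, fun h' => ?_⟩
            have := hpres h₁ α⁻¹ (inv_mem hα) _ h'
            rwa [apl_inv_apl _ hx] at this)
        simpa [Subgroup.mem_subgroupOf] using h2
      · have hRE := hall R hR
        subst hRE
        exact ⟨h₁.le, fun x hx => h₁.le (apl_mem α hx), fun x hx =>
          R.mul_mem (R.inv_mem hx) (apl_mem α hx)⟩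
    have hle : F.focalSubgroup ≤ E₁ := focal_le_iff.2 fun X f hf x hx =>
      ((alperin_induction hA.pgrp hF (subRel_diff hSS) hdiff X f hf).2.2 x hx)
    have h1 := h₁.index
    rw [le_antisymm h₁.le (hfoc ▸ hle)] at h1
    have h2 : 0 < Nat.card S := Nat.card_pos
    omega
  obtain ⟨C₂, z₂, w₂, h₂, -, htwo₂⟩ := exists_ess hA hF hE₂
  obtain rfl := hzw h₂
  have hw₁S := h₁.le h₁.w_mem
  have hw₂S := h₂.le h₂.w_mem
  have hw12 : w₁⁻¹ * w₂ ∉ zS S := fun h => hne (hsame h₁ h₂ h).symm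
  have hEall : ∀ E, F.IsEssential 2 E → E = E₁ ∨ E = E₂ := by
    intro E hE
    obtain ⟨C, z', w, h, -, -⟩ := exists_ess hA hF hE
    by_contra hne'
    push Not at hne'
    exact no_three hA h hw₁S hw₂S (h.le h.w_mem) h₁.w_pow h₂.w_pow h.w_pow h₁.w_not h₂.w_not h.w_not
      hw12 (fun h' => hne'.1 (hsame h₁ h h').symm) (fun h' => hne'.2 (hsame h₂ h h').symm)
  -- the subgroup moved within the centre
  set W : Set Ω := {y | ∃ c ∈ zS S, ∃ α ∈ F.autGroup S, y = c⁻¹ * apl α c} with hW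
  set V := Subgroup.closure (insert z₂ W) with hV
  have hVZ : V ≤ zS S := (Subgroup.closure_le _).2 (by
    rintro y (rfl | ⟨c, hc, α, hα, rfl⟩)
    exacts [h₁.z_mem, (zS S).mul_mem ((zS S).inv_mem hc) (aut_zS hα hc)])
  have hzV : z₂ ∈ V := Subgroup.subset_closure (Set.mem_insert _ _)
  have hWV : ∀ c ∈ zS S, ∀ α ∈ F.autGroup S, c⁻¹ * apl α c ∈ V := fun c hc α hα =>
    Subgroup.subset_closure (Set.mem_insert_of_mem _ ⟨c, hc, α, hα, rfl⟩)
  have hinvol : ∀ a ∈ S, a ∉ zS S → a ^ 2 = 1 → ∀ α ∈ F.autGroup S, a⁻¹ * apl α a ∈ V := by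
    intro a ha haZ ha2 α hα
    have hcZ := aut_rel hA hF h₁ ha haZ ha2 hα
    set c := a⁻¹ * apl α a with hc
    have hαa : apl α a = a * c := by rw [hc, mul_inv_cancel_left]
    have hc2 : c ^ 2 = 1 := by
      have h1 : apl α a ^ 2 = (a * c) ^ 2 := by rw [hαa]
      rw [← (iso_apl (F := F) le_rfl hα).1.map_pow ha, ha2, (iso_apl (F := F) le_rfl hα).1.map_one,
        (zS_comm hcZ ha).mul_pow, ha2, one_mul] at h1
      exact h1.symm
    have hit : ∀ n : ℕ, ∃ v ∈ V, apl (α ^ n) a = a * (c ^ n * v) := by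
      intro n
      induction n with
      | zero => exact ⟨1, V.one_mem, by rw [pow_zero, apl_one ha]; simp⟩
      | succ n ih =>
        obtain ⟨v, hv, hv'⟩ := ih
        have hcn := (zS S).mul_mem ((zS S).pow_mem hcZ n) (hVZ hv)
        refine ⟨v * ((c ^ n * v)⁻¹ * apl α (c ^ n * v)), V.mul_mem hv (hWV _ hcn α hα), ?_⟩
        rw [pow_succ' α, apl_mul _ _ ha, hv', (iso_apl (F := F) le_rfl hα).1.map_mul ha hcn.1, hαa]
        group
    obtain ⟨k, m, hm, hord⟩ := Nat.exists_eq_pow_mul_and_not_dvd (orderOf_pos α).ne' 2 (by norm_num)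
    obtain ⟨s, hs, hsx⟩ := aut_pgroup_inner hA.pgrp hF (pow_mem hα m) (k := k)
      (by rw [← pow_mul, mul_comm, ← hord, pow_orderOf_eq_one])
    obtain ⟨v, hv, hv'⟩ := hit m
    rw [hsx a ha] at hv'
    obtain ⟨i, hi⟩ := h₂.br_mem a⁻¹ (S.inv_mem ha) s hs
    have h1 : c ^ m * v = z₂ ^ i := by
      rw [← hi, br, inv_inv, show c ^ m * v = a⁻¹ * (a * (c ^ m * v)) by group, ← hv']
      group
    have h2 : c ^ m ∈ V := by
      rw [eq_mul_inv_of_mul_eq h1]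
      exact V.mul_mem (V.pow_mem hzV i) (V.inv_mem hv)
    rw [show m = 2 * (m / 2) + 1 by omega, pow_succ, pow_mul, hc2, one_pow, one_mul] at h2
    exact h2
  have hdiffS : ∀ α ∈ F.autGroup S, ∀ s ∈ S, s⁻¹ * apl α s ∈ V := by
    intro α hα
    have hm := (iso_apl (F := F) le_rfl hα).1
    have hmul : ∀ u ∈ S, ∀ v ∈ S, u⁻¹ * apl α u ∈ V → v⁻¹ * apl α v ∈ V →
        (u * v)⁻¹ * apl α (u * v) ∈ V := by
      intro u hu v hv h1 h2
      rw [hm.map_mul hu hv, show (u * v)⁻¹ * (apl α u * apl α v) = v⁻¹ * (u⁻¹ * apl α u) * apl α v by group,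
        (zS_comm (hVZ h1) (S.inv_mem hv)).eq, mul_assoc]
      exact V.mul_mem h1 h2
    have hw := hinvol w₁ hw₁S h₁.w_not h₁.w_pow α hα
    have hw' := hinvol w₂ hw₂S h₂.w_not h₂.w_pow α hα
    intro s hs
    rcases four hA hw₁S hw₂S hs h₁.w_not h₂.w_not hw12 with h | h | h | h
    · exact hWV s h α hα
    · have := hmul _ hw₁S _ h.1 hw (hWV _ h α hα)
      rwa [mul_inv_cancel_left] at this
    · have := hmul _ hw₂S _ h.1 hw' (hWV _ h α hα)
      rwa [mul_inv_cancel_left] at this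
    · have := hmul _ (S.mul_mem hw₁S hw₂S) _ h.1 (hmul _ hw₁S _ hw₂S hw hw') (hWV _ h α hα)
      rwa [mul_inv_cancel_left] at this
  set K := Subgroup.closure ({w₁, w₂} : Set Ω) with hK
  have hKS : K ≤ S := (Subgroup.closure_le _).2 (by rintro y (rfl | rfl) <;> assumption)
  have hw₁K : w₁ ∈ K := Subgroup.subset_closure (Or.inl rfl)
  have hw₂K : w₂ ∈ K := Subgroup.subset_closure (Or.inr rfl)
  have hi₁ : w₁⁻¹ = w₁ := inv_eq_of_mul_eq_one_right (by rw [← pow_two, h₁.w_pow])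
  have hi₂ : w₂⁻¹ = w₂ := inv_eq_of_mul_eq_one_right (by rw [← pow_two, h₂.w_pow])
  -- normal form in `K`
  have hKnf : ∀ g ∈ K, ∃ a b e : ℕ, g = z₂ ^ a * w₁ ^ b * w₂ ^ e := by
    obtain ⟨n, hn⟩ := h₁.br_mem w₂ hw₂S w₁ hw₁S
    rw [hzw h₁] at hn
    have hnf : ∀ a b e : ℕ, z₂ ^ a * w₁ ^ b * w₂ ^ e * w₁ = z₂ ^ (a + n * e) * w₁ ^ (b + 1) * w₂ ^ e ∧
        z₂ ^ a * w₁ ^ b * w₂ ^ e * w₂ = z₂ ^ a * w₁ ^ b * w₂ ^ (e + 1) := fun a b e => by
      refine ⟨?_, by rw [pow_succ]; group⟩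
      rw [mul_assoc (z₂ ^ a * w₁ ^ b), mul_swap (w₂ ^ e) w₁, br_pow_left hA.classTwo hw₂S hw₁S, hn,
        ← pow_mul, pow_add, pow_succ w₁]
      have h1 := ((zS_comm ((zS S).pow_mem h₂.z_mem (n * e)) (S.pow_mem hw₁S b))).eq
      calc z₂ ^ a * w₁ ^ b * (z₂ ^ (n * e) * (w₁ * w₂ ^ e))
          = z₂ ^ a * (w₁ ^ b * z₂ ^ (n * e)) * (w₁ * w₂ ^ e) := by group
        _ = _ := by rw [h1]; group
    intro g hg
    induction hg using Subgroup.closure_induction_right with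
    | one => exact ⟨0, 0, 0, by simp⟩
    | mul_right x _ y hy ih =>
      obtain ⟨a, b, e, rfl⟩ := ih
      rcases hy with rfl | rfl
      exacts [⟨_, _, _, (hnf a b e).1⟩, ⟨_, _, _, (hnf a b e).2⟩]
    | mul_inv_cancel x _ y hy ih =>
      obtain ⟨a, b, e, rfl⟩ := ih
      rcases hy with rfl | rfl
      · rw [hi₁]; exact ⟨_, _, _, (hnf a b e).1⟩
      · rw [hi₂]; exact ⟨_, _, _, (hnf a b e).2⟩
  have hKn : K ≤ Subgroup.normalizer (V : Set Ω) := fun g hg => Subgroup.mem_normalizer_iff.2 fun v =>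
    ⟨fun hv => by rw [(zS_comm (hVZ hv) (hKS hg)).eq, mul_inv_cancel_right]; exact hv, fun hv => by
      have h1 := zS_comm (hVZ hv) (hKS hg)
      have e : v = g * v * g⁻¹ := by
        calc v = g⁻¹ * (g * v * g⁻¹ * g) := by group
          _ = _ := by rw [← h1.eq]; group
      rw [e]; exact hv⟩
  -- the focal argument
  have hSD : S ≤ V ⊔ K := by
    have hzD : z₂ ∈ V ⊔ K := Subgroup.mem_sup_left hzV
    have hSS : ⁅S, S⁆ ≤ V ⊔ K := Subgroup.commutator_le.2 fun a ha b hb => by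
      obtain ⟨k, hk⟩ := h₂.br_mem a ha b hb
      show br a b ∈ V ⊔ K
      rw [hk]; exact Subgroup.pow_mem _ hzD k
    have hess' : ∀ {E C : Subgroup Ω} {w : Ω}, Ess F 2 E C z₂ w → w ∈ K →
        (∀ γ ∈ F.autGroup E, apl γ z₂ ∈ Subgroup.closure ({z₂, w} : Set Ω) ∧
          apl γ w ∈ Subgroup.closure ({z₂, w} : Set Ω) ∧ ∃ α ∈ F.autGroup S, ∀ c ∈ C, apl γ c = apl α c) →
        ∀ γ ∈ F.autGroup E, DiffRel S (V ⊔ K) E (apl γ) := by
      intro E C w h hw htw γ hγ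
      obtain ⟨h1, h2, α, hα, h3⟩ := htw γ hγ
      have hcl : Subgroup.closure ({z₂, w} : Set Ω) ≤ V ⊔ K := (Subgroup.closure_le _).2 (by
        rintro y (rfl | rfl)
        exacts [hzD, Subgroup.mem_sup_right hw])
      refine ⟨h.le, fun x hx => h.le (apl_mem γ hx), fun u hu => ?_⟩
      obtain ⟨c, hc, a, b, rfl⟩ := h.decomp u hu
      have hm := (iso_apl (F := F) h.le hγ).1
      have hcE := h.zle (h.C_le hc)
      have hzE := h.zle h.z_mem
      rw [hm.map_mul (E.mul_mem hcE (E.pow_mem hzE a)) (E.pow_mem h.w_mem b),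
        hm.map_mul hcE (E.pow_mem hzE a), hm.map_pow hzE, hm.map_pow h.w_mem, h3 c hc]
      have hx : (c * z₂ ^ a)⁻¹ * (apl α c * apl γ z₂ ^ a) ∈ E := E.mul_mem
        (E.inv_mem (E.mul_mem hcE (E.pow_mem hzE a)))
        (E.mul_mem (h.zle (aut_zS hα (h.C_le hc))) (E.pow_mem (apl_mem γ hzE) a))
      rw [show (c * z₂ ^ a * w ^ b)⁻¹ * (apl α c * apl γ z₂ ^ a * apl γ w ^ b) =
        (w ^ b)⁻¹ * ((c * z₂ ^ a)⁻¹ * (apl α c * apl γ z₂ ^ a)) * apl γ w ^ b by group,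
        (h.comm _ (E.inv_mem (E.pow_mem h.w_mem b)) _ hx).eq, mul_assoc]
      refine Subgroup.mul_mem _ ?_ (Subgroup.mul_mem _ (Subgroup.inv_mem _ (Subgroup.pow_mem _
        (Subgroup.mem_sup_right hw) b)) (Subgroup.pow_mem _ (hcl h2) b))
      rw [mul_inv_rev, mul_assoc, ← mul_assoc c⁻¹]
      exact Subgroup.mul_mem _ (Subgroup.inv_mem _ (Subgroup.pow_mem _ hzD a))
        (Subgroup.mul_mem _ (Subgroup.mem_sup_left (hWV c (h.C_le hc) α hα)) (Subgroup.pow_mem _ (hcl h1) a))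
    have hdiff : ∀ R, (R = S ∨ F.IsEssential 2 R) → ∀ α ∈ F.autGroup R,
        DiffRel S (V ⊔ K) R (apl α) := by
      rintro R (hR | hR) α hα
      · subst hR
        exact ⟨le_rfl, fun x hx => apl_mem α hx, fun x hx => Subgroup.mem_sup_left (hdiffS α hα x hx)⟩
      · rcases hEall R hR with rfl | rfl
        · exact hess' (hzw h₁ ▸ h₁) hw₁K (fun γ hγ => hzw h₁ ▸ htwo₁ rfl γ hγ) α hα
        · exact hess' h₂ hw₂K (fun γ hγ => htwo₂ rfl γ hγ) α hα
    exact hfoc ▸ focal_le_iff.2 fun X f hf x hx =>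
      (alperin_induction hA.pgrp hF (subRel_diff hSS) hdiff X f hf).2.2 x hx
  -- hence the centre is `V`
  have hZV : ∀ u ∈ zS S, u ∈ V := by
    intro u hu
    have h1 : u ∈ ((V ⊔ K : Subgroup Ω) : Set Ω) := hSD hu.1
    rw [Subgroup.coe_mul_of_right_le_normalizer_left _ _ hKn] at h1
    obtain ⟨v, hv, g, hg, rfl⟩ := h1
    obtain ⟨a, b, e, rfl⟩ := hKnf g hg
    have h2 : w₁ ^ b * w₂ ^ e ∈ zS S := by
      have := (zS S).mul_mem ((zS S).inv_mem (hVZ (V.mul_mem hv (V.pow_mem hzV a)))) hu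
      rwa [show (v * z₂ ^ a)⁻¹ * (v * (z₂ ^ a * w₁ ^ b * w₂ ^ e)) = w₁ ^ b * w₂ ^ e by group] at this
    rw [← Nat.mod_add_div b 2, ← Nat.mod_add_div e 2, pow_add, pow_add, pow_mul, pow_mul, h₁.w_pow,
      h₂.w_pow, one_pow, one_pow, mul_one, mul_one] at h2
    have h3 : b % 2 = 0 ∧ e % 2 = 0 := by
      rcases Nat.mod_two_eq_zero_or_one b with hb | hb <;>
        rcases Nat.mod_two_eq_zero_or_one e with he | he <;>
        rw [hb, he] at h2
      · exact ⟨hb, he⟩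
      · exact absurd (by simpa using h2) h₂.w_not
      · exact absurd (by simpa using h2) h₁.w_not
      · exfalso
        rw [pow_one, pow_one] at h2
        refine hw12 ?_
        rw [hi₁]
        exact h2
    refine V.mul_mem hv ?_
    rw [← Nat.mod_add_div b 2, ← Nat.mod_add_div e 2, pow_add w₁, pow_add w₂, pow_mul w₁, pow_mul w₂,
      h₁.w_pow, h₂.w_pow, one_pow, one_pow, h3.1, h3.2, pow_zero, pow_zero]
    simpa using V.pow_mem hzV a
  -- which forces the complements to agree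
  have hWC : ∀ {E C : Subgroup Ω} {w : Ω}, Ess F 2 E C z₂ w → ∀ c ∈ zS S, ∀ α ∈ F.autGroup S,
      c⁻¹ * apl α c ∈ C := by
    intro E C w h c hc α hα
    obtain ⟨c', hc', a, rfl⟩ := h.mem_C hc
    have hm := (iso_apl (F := F) le_rfl hα).1
    have hzfix : apl α z₂ = z₂ := (hzw h₁) ▸ hautz α hα
    rw [hm.map_mul (h.C_le hc').1 (S.pow_mem h.z_mem.1 a), hm.map_pow h.z_mem.1, hzfix]
    have h1 := hCS h α hα c' hc'
    have h2 : Commute (c'⁻¹ * apl α c') (z₂ ^ a) :=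
      zS_comm ((zS S).pow_mem h.z_mem a) (S.mul_mem (S.inv_mem (h.C_le hc').1) (h.C_le h1).1)
    rw [show (c' * z₂ ^ a)⁻¹ * (apl α c' * z₂ ^ a) = (z₂ ^ a)⁻¹ * (c'⁻¹ * apl α c' * z₂ ^ a) by group,
      h2.eq, inv_mul_cancel_left]
    exact C.mul_mem (C.inv_mem hc') h1
  have hC12 : ∀ {E C : Subgroup Ω} {w : Ω} {E' C' : Subgroup Ω} {w' : Ω}, Ess F 2 E C z₂ w →
      Ess F 2 E' C' z₂ w' → ∀ c ∈ C, c ∈ C' := by
    intro E C w E' C' w' h h' c hc
    have hinter : ∀ y ∈ V, ∃ a : ℕ, y * z₂ ^ a ∈ C ⊓ C' := by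
      intro y hy
      induction hy using Subgroup.closure_induction with
      | mem y hy =>
        rcases hy with rfl | ⟨c, hc, α, hα, rfl⟩
        · exact ⟨1, by rw [pow_one, ← pow_two, h.z_pow]; exact Subgroup.one_mem _⟩
        · exact ⟨0, by rw [pow_zero, mul_one]; exact ⟨hWC h c hc α hα, hWC h' c hc α hα⟩⟩
      | one => exact ⟨0, by simp⟩
      | mul x y hx hy ihx ihy =>
        obtain ⟨a, ha⟩ := ihx
        obtain ⟨b, hb⟩ := ihy
        refine ⟨a + b, ?_⟩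
        have hyS : y ∈ S := (hVZ hy).1
        rw [pow_add, ((zS_comm ((zS S).pow_mem h.z_mem a) hyS)).mul_mul_mul_comm]
        exact Subgroup.mul_mem _ ha hb
      | inv x hx ih =>
        obtain ⟨a, ha⟩ := ih
        refine ⟨a, ?_⟩
        have h2 : (z₂ ^ a)⁻¹ = z₂ ^ a := inv_eq_of_mul_eq_one_right (by
          rw [← pow_add, ← two_mul, pow_mul, h.z_pow, one_pow])
        have h1 := Subgroup.inv_mem _ ha
        rwa [mul_inv_rev, h2, ← (zS_comm ((zS S).pow_mem h.z_mem a) (S.inv_mem (hVZ hx).1)).eq] at h1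
    obtain ⟨a, ha⟩ := hinter c (hZV c (h.C_le hc))
    have hza : z₂ ^ a ∈ C := by
      have := C.mul_mem (C.inv_mem hc) ha.1
      rwa [inv_mul_cancel_left] at this
    have hz1 : z₂ ^ a = 1 := by
      rcases Nat.mod_two_eq_zero_or_one a with hm | hm
      · rw [← Nat.mod_add_div a 2, hm, zero_add, pow_mul, h.z_pow, one_pow]
      · rw [← Nat.mod_add_div a 2, hm, pow_add, pow_one, pow_mul, h.z_pow, one_pow, mul_one] at hza
        exact absurd hza h.z_not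
    have := ha.2
    rwa [hz1, mul_one] at this
  have hC : C₂ = ⊥ := by
    refine C_bot_of_invariant hA hF hcore h₂.C_le (fun α hα c hc => hCS h₂ α hα c hc) fun E hE => ?_
    rcases hEall E hE with rfl | rfl
    · have h₁' := hzw h₁ ▸ h₁
      exact ⟨h₂.C_le.trans h₁.zle, fun γ hγ c hc =>
        hC12 h₁' h₂ _ (h₁.C_inv γ hγ c (hC12 h₂ h₁' c hc))⟩
    · exact ⟨h₂.C_le.trans h₂.zle, h₂.C_inv⟩
  obtain ⟨hzeq, hcard⟩ := h₂.card_zS hC
  refine ⟨hcard, w₁, hw₁S, w₂, hw₂S, orderOf_eq_prime h₁.w_pow fun h => h₁.w_not (h ▸ (zS S).one_mem),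
    orderOf_eq_prime h₂.w_pow fun h => h₂.w_not (h ▸ (zS S).one_mem),
    fun h => hw12 (by rw [h, inv_mul_cancel]; exact (zS S).one_mem), ?_⟩
  refine le_antisymm hKS ?_
  have hzK : z₂ ∈ K := by
    obtain ⟨a, ha, b, hb, hab⟩ := hA.nonab
    obtain ⟨k, hk⟩ := h₂.br_mem w₁ hw₁S w₂ hw₂S
    rcases Nat.mod_two_eq_zero_or_one k with hm | hm
    · exfalso
      have hcom : Commute w₁ w₂ := br_eq_one.1 (by
        rw [hk, ← Nat.mod_add_div k 2, hm, zero_add, pow_mul, h₂.z_pow, one_pow])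
      refine h₁.w_not ⟨hw₁S, Subgroup.mem_centralizer_iff.2 fun s hs => ?_⟩
      rcases four hA hw₁S hw₂S hs h₁.w_not h₂.w_not hw12 with h' | h' | h' | h'
      · exact ((zS_comm h' hw₁S).eq).symm
      · rw [show s = w₁ * (w₁⁻¹ * s) by group]
        exact ((Commute.refl w₁).mul_left (zS_comm h' hw₁S).symm).eq
      · rw [show s = w₂ * (w₂⁻¹ * s) by group]
        exact (hcom.symm.mul_left (zS_comm h' hw₁S).symm).eq
      · rw [show s = w₁ * w₂ * ((w₁ * w₂)⁻¹ * s) by group]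
        exact (((Commute.refl w₁).mul_left hcom.symm).mul_left (zS_comm h' hw₁S).symm).eq
    · rw [← Nat.mod_add_div k 2, hm, pow_add, pow_one, pow_mul, h₂.z_pow, one_pow, mul_one] at hk
      rw [← hk]
      exact K.mul_mem (K.mul_mem (K.mul_mem hw₁K hw₂K) (K.inv_mem hw₁K)) (K.inv_mem hw₂K)
  intro s hs
  have h1 : s ∈ ((V ⊔ K : Subgroup Ω) : Set Ω) := hSD hs
  rw [Subgroup.coe_mul_of_right_le_normalizer_left _ _ hKn] at h1
  obtain ⟨v, hv, g, hg, rfl⟩ := h1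
  refine K.mul_mem ?_ hg
  obtain ⟨i, rfl⟩ := Subgroup.mem_zpowers_iff.1 (hzeq ▸ hVZ hv)
  exact K.zpow_mem hzK i

end Two

end Cfsg.Agent.FusSys.SmallCentral
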