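import Cfsg.Agent.FusSys.Criteria
import Cfsg.Agent.FusSys.Inner

/-!
An essential subgroup has no invariant chain with steps of order at most `p`.
-/

set_option autoImplicit false

namespace Cfsg.Agent.FusSys

open Cfsg Cfsg.FusionSystem

universe u

/-- A permutation of `p`-power order with a fixed point on a set with at most `p` elements is trivial. -/
theorem perm_eq_one_of_small {p : ℕ} [Fact p.Prime] {X : Type*} [Finite X] (hX : Nat.card X ≤ p)
    (σ : Equiv.Perm X) {x₀ : X} (h₀ : σ x₀ = x₀) {k : ℕ} (hσ : σ ^ p ^ k = 1) (y : X) : σ y = y := by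
  classical
  haveI := Fintype.ofFinite X
  by_contra hy
  have hper : Function.IsPeriodicPt σ (p ^ k) y := by
    show (⇑σ)^[p ^ k] y = y
    rw [Equiv.Perm.iterate_eq_pow, hσ, Equiv.Perm.one_apply]
  obtain ⟨j, -, hj⟩ := (Nat.dvd_prime_pow Fact.out).1 hper.minimalPeriod_dvd
  have hj0 : j ≠ 0 := by
    rintro rfl
    rw [pow_zero] at hj
    exact hy (Function.minimalPeriod_eq_one_iff_isFixedPt.1 hj)
  have hpm : p ≤ Function.minimalPeriod σ y := hj ▸ Nat.le_self_pow hj0 p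
  let f : Option (Fin (Function.minimalPeriod σ y)) → X := fun o => o.elim x₀ fun i => (⇑σ)^[(i : ℕ)] y
  have hne : ∀ i : ℕ, (⇑σ)^[i] y ≠ x₀ := by
    intro i h
    have h2 : (⇑σ)^[i] x₀ = x₀ := Function.iterate_fixed h₀ i
    have h3 : y = x₀ := σ.injective.iterate i (h.trans h2.symm)
    exact hy (h3 ▸ h₀)
  have hf : Function.Injective f := by
    rintro (_ | a) (_ | b) h
    · rfl
    · exact absurd h.symm (hne b)
    · exact absurd h (hne a)
    · exact congrArg some (Fin.ext (Function.iterate_injOn_Iio_minimalPeriod a.2 b.2 h))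
  have := Nat.card_le_card_of_injective f hf
  rw [Nat.card_eq_fintype_card, Fintype.card_option, Fintype.card_fin] at this
  omega

variable {Ω : Type u} [Group Ω] {S : Subgroup Ω} {F : FusionSystem S} {P : Subgroup Ω} {p : ℕ}

/-- A `p`-automorphism fixes every coset of a subgroup in an overgroup in which it has index at most `p`. -/
theorem step_trivial [Fact p.Prime] [Finite P] {A B : Subgroup P} (hA : A.relIndex B ≤ p)
    {γ : MulAut P} (hγA : ∀ x, γ x ∈ A ↔ x ∈ A) (hγB : ∀ x, γ x ∈ B ↔ x ∈ B)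
    {k : ℕ} (hγ : γ ^ p ^ k = 1) {x : P} (hx : x ∈ B) : x⁻¹ * γ x ∈ A := by
  set N := A.subgroupOf B with hN
  have hcard : Nat.card (B ⧸ N) ≤ p := by rw [← Subgroup.index_eq_card]; exact hA
  let g : B ≃ B := γ.toEquiv.subtypeEquiv fun a => (hγB a).symm
  have hg : ∀ a b : B, QuotientGroup.leftRel N a b ↔ QuotientGroup.leftRel N (g a) (g b) := by
    intro a b
    rw [QuotientGroup.leftRel_apply, QuotientGroup.leftRel_apply, hN, Subgroup.mem_subgroupOf,
      Subgroup.mem_subgroupOf]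
    show (a : P)⁻¹ * b ∈ A ↔ (γ a)⁻¹ * γ b ∈ A
    rw [← map_inv, ← map_mul, hγA]
  let σ : Equiv.Perm (B ⧸ N) := Quotient.congr g hg
  have hσ : ∀ (j : ℕ) (a : B), ∃ b : B, (σ ^ j) (a : B ⧸ N) = (b : B ⧸ N) ∧ (b : P) = (γ ^ j) a := by
    intro j a
    induction j with
    | zero => exact ⟨a, rfl, rfl⟩
    | succ j ih =>
      obtain ⟨b, hb, hb'⟩ := ih
      refine ⟨g b, ?_, ?_⟩
      · rw [pow_succ', Equiv.Perm.mul_apply, hb]; rfl
      · rw [pow_succ', MulAut.mul_apply, ← hb']; rfl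
  have hσk : σ ^ p ^ k = 1 := by
    refine Equiv.ext fun q => ?_
    obtain ⟨a, rfl⟩ := QuotientGroup.mk_surjective q
    obtain ⟨b, hb, hb'⟩ := hσ (p ^ k) a
    rw [hb, Equiv.Perm.one_apply]
    rw [hγ, MulAut.one_apply] at hb'
    rw [Subtype.ext hb']
  have h0 : σ ((1 : B) : B ⧸ N) = ((1 : B) : B ⧸ N) := by
    show ((g 1 : B) : B ⧸ N) = _
    congr 1
    exact Subtype.ext (map_one γ)
  have h := perm_eq_one_of_small hcard σ h0 hσk ((⟨x, hx⟩ : B) : B ⧸ N)
  exact Subgroup.mem_subgroupOf.1 (QuotientGroup.eq.1 h.symm)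

/-- An essential subgroup is not centralised along an invariant chain with steps of index at most `p`. -/
theorem not_essential_of_chain [Fact p.Prime] [Finite S] (hS : IsPGroup p S) {D : ℕ → Subgroup P}
    (hD : Monotone D) {n : ℕ} (htop : D n = ⊤) (hbot : D 0 = ⊥)
    (hinv : ∀ α ∈ F.autGroup P, ∀ i ≤ n, ∀ x, α x ∈ D i ↔ x ∈ D i)
    (hstep : ∀ i < n, (D i).relIndex (D (i + 1)) ≤ p) : ¬ F.IsEssential p P := by
  rintro ⟨hc, -, hn, E, hE⟩
  haveI := finite_of_le hc.1
  haveI : Finite (MulAut P) := Finite.of_injective _ MulEquiv.toEquiv_injective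
  haveI : (innIn F P).Normal := hn
  set C : ℕ → Subgroup Ω := fun i => (D i).map P.subtype with hC
  have hmem : ∀ i (x : P), (x : Ω) ∈ C i ↔ x ∈ D i := fun i x =>
    Subgroup.mem_map_iff_mem P.subtype_injective
  have happ : ∀ (α : MulAut P) (i : ℕ) (x : Ω) (hx : x ∈ P), apl α x ∈ C i ↔ α ⟨x, hx⟩ ∈ D i := by
    intro α i x hx
    rw [apl_apply α hx, hmem]
  have hmono : Monotone C := fun i j hij => Subgroup.map_mono (hD hij)
  have hP : P ≤ C n := fun x hx => (hmem n ⟨x, hx⟩).2 (htop ▸ Subgroup.mem_top _)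
  set Γ := F.autGroup P ⊓ chainStab (P := P) C hmono n with hΓ
  have hΓp : IsPGroup p Γ := isPGroup_chainStab (hS.to_le hc.1) hmono hP fun δ _ _ x hx hxC => by
    have h1 := (hmem 0 ⟨x, hx⟩).1 hxC
    rw [hbot, Subgroup.mem_bot] at h1
    have h2 : x = 1 := congrArg Subtype.val h1
    subst h2
    rw [apl_apply δ hx, show (⟨1, hx⟩ : P) = 1 from rfl, map_one, Subgroup.coe_one]
  have hnorm : (Γ.subgroupOf (F.autGroup P)).Normal := ⟨fun γ hγ α => by
    refine Subgroup.mem_subgroupOf.2 ⟨Subgroup.mul_mem _ (Subgroup.mul_mem _ α.2 γ.2)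
      (Subgroup.inv_mem _ α.2), ?_⟩
    refine chainStab_conj (fun i hi x hx => ?_) (Subgroup.mem_subgroupOf.1 hγ).2
    rw [happ _ i x hx, hinv _ α.2 i hi, ← hmem]⟩
  let T : Sylow p (F.autGroup P) := default
  have hle : (T : Subgroup (F.autGroup P)) ≤ Γ.subgroupOf (F.autGroup P) := by
    intro γ hγ
    obtain ⟨k, hk⟩ := T.2 ⟨γ, hγ⟩
    refine Subgroup.mem_subgroupOf.2 ⟨γ.2, mem_chainStab.2 fun i hi x hxP hxC => ?_⟩
    have hk' : (γ : MulAut P) ^ p ^ k = 1 := by
      have h2 : γ ^ p ^ k = 1 := congrArg Subtype.val hk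
      rw [← SubmonoidClass.coe_pow, h2, OneMemClass.coe_one]
    have h := step_trivial (hstep i hi) (hinv _ γ.2 i hi.le) (hinv _ γ.2 (i + 1) hi) hk'
      ((hmem (i + 1) ⟨x, hxP⟩).1 hxC)
    rw [← hmem] at h
    rw [apl_apply _ hxP]
    exact h
  haveI := hnorm.map (QuotientGroup.mk' (innIn F P)) (QuotientGroup.mk'_surjective _)
  have h1 : (Γ.subgroupOf (F.autGroup P)).map (QuotientGroup.mk' (innIn F P)) ≤ ⊥ :=
    pCore_eq_bot_of_stronglyPEmbedded hE ▸ Cfsg.Agent.Core.le_pCore (hΓp.comap_subtype.map _)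
  rw [le_bot_iff, Subgroup.map_eq_bot_iff, QuotientGroup.ker_mk'] at h1
  refine T.not_dvd_index ?_
  have h2 : p ∣ (innIn F P).index := by
    show p ∣ ((Inn P).subgroupOf (F.autGroup P)).index
    rw [Subgroup.index_eq_card]
    exact hE.1
  exact h2.trans (Subgroup.index_dvd_of_le (hle.trans h1))

end Cfsg.Agent.FusSys
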