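import Cfsg.Agent.FusSys.RankTwoBase
import Cfsg.Agent.FusSys.RankTwoCore
import Mathlib.GroupTheory.PGroup

/-!
# Actions on an elementary abelian group of order `p²` without invariant line
-/

set_option autoImplicit false

namespace Cfsg.Agent.FusSys.RankTwoResist

open Subgroup

universe u v

variable {p : ℕ} [hp : Fact p.Prime] {V : Type v} [CommGroup V] [Finite V]

section Plane

variable (hexp : ∀ x : V, x ^ p = 1) (hcard : Nat.card V = p ^ 2)
include hexp hcard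

theorem plane_span {v w : V} (hv : v ≠ 1) (hw : w ∉ zpowers v) (x : V) :
    ∃ i j : ℤ, x = v ^ i * w ^ j := by
  have h1 : Nat.card (zpowers v) = p := by
    rw [Nat.card_zpowers]; exact orderOf_eq_prime (hexp v) hv
  have hlt : zpowers v < zpowers v ⊔ zpowers w :=
    lt_of_le_of_ne le_sup_left fun h => hw (h ▸ (le_sup_right : zpowers w ≤ _) (mem_zpowers w))
  have h2 := Nat.le_of_dvd Nat.card_pos (card_dvd_of_le hlt.le)
  obtain ⟨e, -, he⟩ := (Nat.dvd_prime_pow hp.out).1 (hcard ▸ card_subgroup_dvd_card (zpowers v ⊔ zpowers w))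
  have he2 : 2 ≤ e := by
    by_contra hne
    have h3 : Nat.card (↥(zpowers v ⊔ zpowers w)) ≤ p := by
      rw [he]
      exact (Nat.pow_le_pow_right hp.out.pos (show e ≤ 1 by omega)).trans_eq (pow_one p)
    exact hlt.ne (Subgroup.eq_of_le_of_card_ge hlt.le (h3.trans h1.ge))
  have htop : zpowers v ⊔ zpowers w = ⊤ := Subgroup.eq_top_of_le_card _ (by
    rw [hcard, he]; exact Nat.pow_le_pow_right hp.out.pos he2)
  obtain ⟨a, ⟨i, rfl⟩, b, ⟨j, rfl⟩, rfl⟩ := Subgroup.mem_sup.1 (htop ▸ mem_top x)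
  exact ⟨i, j, rfl⟩

/-- A `p`-element fixing `v` is unipotent with respect to `v`. -/
theorem unip {γ : MulAut V} {k : ℕ} (hγ : γ ^ p ^ k = 1) {v : V} (hv : γ v = v) (hv1 : v ≠ 1)
    (w : V) : ∃ s : ℤ, γ w = w * v ^ s := by
  by_cases hw : w ∈ zpowers v
  · obtain ⟨i, rfl⟩ := hw
    exact ⟨0, by rw [zpow_zero, mul_one]; exact (map_zpow γ v i).trans (by rw [hv])⟩
  · have h := sec_trivial (L := zpowers v) (w := w) (by rw [hexp]; exact one_mem _) hγ
      (fun x hx => by obtain ⟨i, rfl⟩ := hx; exact ⟨i, ((map_zpow γ v i).trans (by rw [hv])).symm⟩)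
      (by
        obtain ⟨i, j, hij⟩ := plane_span hexp hcard hv1 hw (γ w)
        rw [hij]
        exact mul_mem_sup (zpow_mem (mem_zpowers v) i) (zpow_mem (mem_zpowers w) j))
      w (mem_sup_right (mem_zpowers w))
    obtain ⟨s, hs⟩ := h
    refine ⟨s, ?_⟩
    rw [show v ^ s = γ w * w⁻¹ from hs, mul_comm w, inv_mul_cancel_right]

theorem eq_one_of_fix_two {γ : MulAut V} {v w : V} (hv : γ v = v) (hv1 : v ≠ 1) (hw : γ w = w)
    (hw1 : w ∉ zpowers v) : γ = 1 := by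
  refine MulEquiv.ext fun x => ?_
  obtain ⟨i, j, rfl⟩ := plane_span hexp hcard hv1 hw1 x
  rw [map_mul, map_zpow, map_zpow, hv, hw, MulAut.one_apply]

variable {A : Type u} [Group A] [Finite A] (φ : A →* MulAut V)

omit hexp hcard in
/-- The elements acting unipotently with respect to `v`. -/
def flag (v : V) : Subgroup A where
  carrier := {a | φ a v = v ∧ ∀ w, φ a w * w⁻¹ ∈ zpowers v}
  one_mem' := ⟨by rw [map_one, MulAut.one_apply],
    fun w => by rw [map_one, MulAut.one_apply, mul_inv_cancel]; exact one_mem _⟩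
  mul_mem' := fun {a b} ha hb => ⟨by rw [map_mul, MulAut.mul_apply, hb.1, ha.1], fun w => by
    have := mul_mem (ha.2 (φ b w)) (hb.2 w)
    rwa [mul_assoc, inv_mul_cancel_left, ← MulAut.mul_apply, ← map_mul] at this⟩
  inv_mem' := fun {a} ha => ⟨by
      conv_lhs => rw [← ha.1]
      rw [map_inv, MulAut.inv_apply_self],
    fun w => by
      have h1 := inv_mem (ha.2 ((φ a)⁻¹ w))
      rw [MulAut.apply_inv_self, mul_inv_rev, inv_inv] at h1
      rwa [map_inv]⟩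

variable {φ}

/-- Transvections from one unipotent element. -/
theorem exists_transvection {g : A} {k : ℕ} (hg : (φ g) ^ p ^ k = 1) (hg1 : φ g ≠ 1) {v w : V}
    (hv1 : v ≠ 1) (hw : w ∉ zpowers v) (hv : φ g v = v) (s : ℤ) :
    ∃ a : A, φ a v = v ∧ φ a w = w * v ^ s := by
  obtain ⟨c, hc⟩ := unip hexp hcard hg hv hv1 w
  have hc0 : (c : ZMod p) ≠ 0 := fun h => hg1 (eq_one_of_fix_two hexp hcard hv hv1
    (by rw [hc, zpow_eq_one_of_cast (hexp v) h, mul_one]) hw)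
  obtain ⟨m, hm⟩ := exists_zinv hc0
  have hit : ∀ n : ℕ, φ (g ^ n) v = v ∧ φ (g ^ n) w = w * v ^ (c * n) := by
    intro n
    induction n with
    | zero => simp
    | succ n ih =>
      rw [pow_succ', map_mul, MulAut.mul_apply, MulAut.mul_apply, ih.1, ih.2, map_mul, map_zpow, hv,
        hc, mul_assoc, ← zpow_add]
      exact ⟨rfl, by congr 2; push_cast; ring⟩
  refine ⟨g ^ (((m * s : ℤ) : ZMod p).val), (hit _).1, (hit _).2.trans ?_⟩
  refine congrArg (w * ·) (zcongr (hexp v) ?_)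
  push_cast at hm ⊢
  rw [ZMod.natCast_zmod_val, ← mul_assoc, hm, one_mul]

end Plane

/-- The data extracted from an action on a plane without invariant line. -/
structure Torus (p : ℕ) {A : Type u} [Group A] (φ : A →* MulAut V) (T : Subgroup A) (u : A)
    (v₁ v₂ : V) : Prop where
  ne_one : v₁ ≠ 1
  indep : v₂ ∉ zpowers v₁
  span : ∀ x, ∃ i j : ℤ, x = v₁ ^ i * v₂ ^ j
  fix : ∀ g ∈ T, φ g v₁ = v₁ ∧ ∃ k : ℤ, φ g v₂ = v₂ * v₁ ^ k
  moved : ∃ c : ℤ, (c : ZMod p) ≠ 0 ∧ φ u v₂ = v₂ * v₁ ^ c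
  swap : ∃ a, φ a v₁ = v₂
  torus : ∀ l l' : ℤ, ((l * l' : ℤ) : ZMod p) = 1 → ∃ a, φ a v₁ = v₁ ^ l ∧ φ a v₂ = v₂ ^ l'
  kills : ∀ I : Subgroup A, I.Normal → IsPGroup p I → ∀ g ∈ I, φ g = 1

theorem exists_torus (hexp : ∀ x : V, x ^ p = 1) (hcard : Nat.card V = p ^ 2)
    {A : Type u} [Group A] [Finite A] {φ : A →* MulAut V} {T : Subgroup A} (hT : IsPGroup p T)
    {u : A} (huT : u ∈ T) (hu1 : φ u ≠ 1)
    (hline : ∀ N : Subgroup A, N.Normal → (∀ a ∈ N, (φ a) ^ p = 1) → u ∉ N) :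
    ∃ v₁ v₂ : V, Torus p φ T u v₁ v₂ := by
  have hfixed : ∀ P : Subgroup A, IsPGroup p P → ∃ v : V, v ≠ 1 ∧ ∀ g ∈ P, φ g v = v := by
    intro P hP
    letI : MulAction P V := MulAction.compHom V (φ.comp P.subtype)
    obtain ⟨v, hv, hv1⟩ := hP.exists_fixed_point_of_prime_dvd_card_of_fixed_point V
      (hcard ▸ dvd_pow_self p two_ne_zero) (a := (1 : V)) (fun g => map_one (φ (g : A)))
    exact ⟨v, fun h => hv1 h.symm, fun g hg => hv ⟨g, hg⟩⟩
  have hpow : ∀ g ∈ T, ∃ k : ℕ, (φ g) ^ p ^ k = 1 := fun g hg => by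
    obtain ⟨k, hk⟩ := hT ⟨g, hg⟩
    exact ⟨k, by rw [← map_pow, show g ^ p ^ k = 1 from congrArg Subtype.val hk, map_one]⟩
  have hno : ∀ v : V, v ≠ 1 → ∃ a, φ a v ∉ zpowers v := by
    intro v hv
    by_contra! hall
    refine hline (flag φ v) ⟨fun n hn a => ⟨?_, fun w => ?_⟩⟩ (fun a ha => ?_) ⟨?_, fun w => ?_⟩
    · obtain ⟨i, hi⟩ := hall a⁻¹
      rw [map_mul, map_mul, MulAut.mul_apply, MulAut.mul_apply, ← (show v ^ i = φ a⁻¹ v from hi),
        map_zpow, hn.1, (show v ^ i = φ a⁻¹ v from hi), map_inv, MulAut.apply_inv_self]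
    · obtain ⟨j, hj⟩ := hn.2 (φ a⁻¹ w)
      have hj' : φ n (φ a⁻¹ w) = v ^ j * φ a⁻¹ w := by
        rw [show v ^ j = φ n (φ a⁻¹ w) * (φ a⁻¹ w)⁻¹ from hj, inv_mul_cancel_right]
      rw [map_mul, map_mul, MulAut.mul_apply, MulAut.mul_apply, hj', map_mul, map_zpow, map_inv,
        MulAut.apply_inv_self, mul_inv_cancel_right]
      exact zpow_mem (hall a) j
    · have hit : ∀ n : ℕ, ∀ w, ∃ j : ℤ, φ a w = w * v ^ j ∧ ((φ a) ^ n) w = w * v ^ (j * n) := by
        intro n w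
        obtain ⟨j, hj⟩ := ha.2 w
        have hj' : φ a w = w * v ^ j := by
          rw [show v ^ j = φ a w * w⁻¹ from hj, mul_comm w, inv_mul_cancel_right]
        refine ⟨j, hj', ?_⟩
        induction n with
        | zero => simp
        | succ n ih =>
          rw [pow_succ', MulAut.mul_apply, ih, map_mul, map_zpow, ha.1, hj', mul_assoc, ← zpow_add]
          congr 2
          push_cast
          ring
      refine MulEquiv.ext fun w => ?_
      obtain ⟨j, -, hj⟩ := hit p w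
      rw [hj, mul_comm j, zpow_mul, zpow_natCast, hexp, one_zpow, mul_one, MulAut.one_apply]
    · obtain ⟨k, hk⟩ := hpow u huT
      have h := sec_trivial (L := ⊥) (w := v) (by rw [hexp]; exact one_mem _) hk
        (fun x hx => by rw [mem_bot.1 hx, map_one]; exact one_mem _)
        (by rw [bot_sup_eq]; exact hall u) v (mem_sup_right (mem_zpowers v))
      rwa [mem_bot, mul_inv_eq_one] at h
    · obtain ⟨k, hk⟩ := hpow u huT
      have h := sec_trivial (L := ⊥) (w := v) (by rw [hexp]; exact one_mem _) hk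
        (fun x hx => by rw [mem_bot.1 hx, map_one]; exact one_mem _)
        (by rw [bot_sup_eq]; exact hall u) v (mem_sup_right (mem_zpowers v))
      rw [mem_bot, mul_inv_eq_one] at h
      obtain ⟨s, hs⟩ := unip hexp hcard hk h hv w
      exact ⟨s, by show v ^ s = φ u w * w⁻¹; rw [hs, mul_comm w, mul_inv_cancel_right]⟩
  obtain ⟨v₁, hv1, hv⟩ := hfixed T hT
  obtain ⟨a, ha⟩ := hno v₁ hv1
  obtain ⟨v₂, hv₂⟩ : ∃ x, x = φ a v₁ := ⟨_, rfl⟩
  rw [← hv₂] at ha
  have hfix : ∀ g ∈ T, φ g v₁ = v₁ ∧ ∃ k : ℤ, φ g v₂ = v₂ * v₁ ^ k := fun g hg => by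
    obtain ⟨k, hk⟩ := hpow g hg
    exact ⟨hv g hg, unip hexp hcard hk (hv g hg) hv1 v₂⟩
  obtain ⟨c, hc⟩ := (hfix u huT).2
  have hc0 : (c : ZMod p) ≠ 0 := fun h => hu1 (eq_one_of_fix_two hexp hcard (hv u huT) hv1
    (by rw [hc, zpow_eq_one_of_cast (hexp v₁) h, mul_one]) ha)
  have hspan := plane_span hexp hcard hv1 ha
  have hv2 : v₂ ≠ 1 := fun h => ha (h ▸ one_mem _)
  have ha' : v₁ ∉ zpowers v₂ := by
    rintro ⟨i, hi⟩
    have hi' : v₂ ^ i = v₁ := hi
    refine ha (zpow_mem_cancel (hexp v₂) (k := i) (fun h => hv1 ?_) (hi'.symm ▸ mem_zpowers v₁))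
    rw [← hi', zpow_eq_one_of_cast (hexp v₂) h]
  obtain ⟨g, hgdef⟩ : ∃ g, g = a * u * a⁻¹ := ⟨_, rfl⟩
  obtain ⟨k, hk⟩ := hpow u huT
  have hgk : (φ g) ^ p ^ k = 1 := by
    rw [hgdef, map_mul, map_mul, map_inv, conj_pow, hk, mul_one, mul_inv_cancel]
  have hg1 : φ g ≠ 1 := fun h => hu1 (by
    rw [hgdef, map_mul, map_mul, map_inv] at h
    exact conj_eq_one_iff.1 h)
  have hgv : φ g v₂ = v₂ := by
    rw [hgdef, hv₂, map_mul, map_mul, map_inv, MulAut.mul_apply, MulAut.mul_apply,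
      MulAut.inv_apply_self, hv u huT]
  have hX := exists_transvection hexp hcard hk hu1 hv1 ha (hv u huT)
  have hY := exists_transvection hexp hcard hgk hg1 hv2 ha' hgv
  have hW : ∀ l l' : ℤ, ((l * l' : ℤ) : ZMod p) = 1 →
      ∃ w, φ w v₁ = v₂ ^ (-l') ∧ φ w v₂ = v₁ ^ l := by
    intro l l' hll
    obtain ⟨x, hx1, hx2⟩ := hX l
    obtain ⟨y, hy2, hy1⟩ := hY (-l')
    have e1 : ((l * -l' : ℤ) : ZMod p) = -1 := by
      push_cast at hll ⊢; rw [mul_neg, hll]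
    refine ⟨x * y * x, ?_, ?_⟩
    · rw [map_mul, map_mul, MulAut.mul_apply, MulAut.mul_apply, hx1, hy1, map_mul, map_zpow, hx1,
        hx2, mul_zpow, ← zpow_mul, zcongr (hexp v₁) (n := -1) (by simpa using e1), zpow_neg v₁,
        zpow_one, mul_left_comm, mul_inv_cancel, mul_one]
    · rw [map_mul, map_mul, MulAut.mul_apply, MulAut.mul_apply, hx2, map_mul, map_zpow, hy2, hy1,
        mul_zpow, ← zpow_mul, mul_comm (-l') l,
        zcongr (hexp v₂) (n := -1) (by simpa using e1), zpow_neg v₂, zpow_one, mul_left_comm,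
        mul_inv_cancel, mul_one, map_zpow, hx1]
  refine ⟨v₁, v₂, hv1, ha, hspan, hfix, ⟨c, hc0, hc⟩, ⟨a, hv₂.symm⟩, fun l l' hll => ?_,
    fun I hI hIp g hg => ?_⟩
  · obtain ⟨w₁, h11, h12⟩ := hW l l' hll
    obtain ⟨w₂, h21, h22⟩ := hW (-1) (-1) (by simp)
    refine ⟨w₁ * w₂, ?_, ?_⟩
    · rw [map_mul, MulAut.mul_apply, h21, neg_neg, zpow_one, h12]
    · rw [map_mul, MulAut.mul_apply, h22, map_zpow, h11, ← zpow_mul, mul_neg_one, neg_neg]
  · obtain ⟨v, hv1', hv'⟩ := hfixed I hIp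
    obtain ⟨b, hb⟩ := hno v hv1'
    refine eq_one_of_fix_two hexp hcard (hv' g hg) hv1' ?_ hb
    have h := hv' _ (hI.conj_mem g hg b⁻¹)
    rw [inv_inv, map_mul, map_mul, MulAut.mul_apply, MulAut.mul_apply, map_inv] at h
    have h' := congrArg (φ b) h
    rwa [MulAut.apply_inv_self] at h'

end Cfsg.Agent.FusSys.RankTwoResist
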