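import Cfsg.Agent.FusSys.Model
import Cfsg.Agent.FusSys.Factor
import Cfsg.Agent.FusSys.GroupSys

/-!
Systems realized by a homomorphism into a group: saturation, and normal subgroups.
-/

set_option autoImplicit false

namespace Cfsg.Agent.FusSys

open Cfsg Cfsg.FusionSystem

variable {Ω : Type*} [Group Ω] {S : Subgroup Ω} {F : FusionSystem S} {G : Type*} [Group G]
variable {ι : S →* G} {P Q R : Subgroup Ω} {f : Ω → Ω} {p : ℕ}

theorem mor_realized (hr : F.IsRealizedBy ι) :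
    Mor F P f ↔ P ≤ S ∧ (∀ x ∈ P, f x ∈ S) ∧
      ∃ g : G, ∀ x : S, (x : Ω) ∈ P → thFn ι (f x) = g * ι x * g⁻¹ := by
  constructor
  · rintro ⟨φ, hφ, hφf⟩
    have hle := F.le_of_mem hφ
    obtain ⟨g, hg⟩ := (hr.2 P hle.1 φ hle.2).1 hφ
    refine ⟨hle.1, fun x hx => hφf ⟨x, hx⟩ ▸ hle.2 ⟨x, hx⟩, g, fun x hx => ?_⟩
    rw [← hφf ⟨x, hx⟩, thFn_apply (hle.2 _), hg]
  · rintro ⟨hP, hf, g, hg⟩
    let φ : P →* Ω :=
      { toFun := fun x => f x
        map_one' := by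
          have h := hg 1 (by simp)
          rw [map_one, mul_one, mul_inv_cancel, thFn_apply (hf _ (by simp))] at h
          exact congrArg Subtype.val (hr.1 (h.trans (map_one ι).symm))
        map_mul' := fun x y => by
          have hx := hg ⟨x, hP x.2⟩ x.2
          have hy := hg ⟨y, hP y.2⟩ y.2
          have hxy := hg ⟨_, hP (x * y).2⟩ (x * y).2
          rw [thFn_apply (hf _ x.2)] at hx
          rw [thFn_apply (hf _ y.2)] at hy
          rw [thFn_apply (hf _ (x * y).2)] at hxy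
          refine congrArg Subtype.val (hr.1 (a₁ := ⟨f (x * y : P), hf _ (x * y).2⟩)
            (a₂ := ⟨f x, hf _ x.2⟩ * ⟨f y, hf _ y.2⟩) ?_)
          rw [map_mul, hx, hy, hxy]
          show g * ι (⟨x, hP x.2⟩ * ⟨y, hP y.2⟩) * g⁻¹ = _
          rw [map_mul]
          group }
    exact ⟨φ, (hr.2 P hP φ fun x => hf x x.2).2 ⟨g, fun x =>
      (thFn_apply (θ := ι) (hf x x.2)).symm.trans (hg ⟨x, hP x.2⟩ x.2)⟩, fun _ => rfl⟩

/-- A system realized on a Sylow subgroup of a finite group is saturated. -/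
theorem realized_saturated [Fact p.Prime] [Finite S] [Finite G] (hr : F.IsRealizedBy ι)
    (hT : ∃ T : Sylow p G, (T : Subgroup G) = ι.range) : F.IsSaturated p := by
  classical
  obtain ⟨T, hT⟩ := hT
  let e : S ≃* (T : Subgroup G) :=
    (MonoidHom.ofInjective hr.1).trans (MulEquiv.subgroupCongr hT.symm)
  let θ : (T : Subgroup G) →* Ω := S.subtype.comp e.symm.toMonoidHom
  have hker : ∀ s : (T : Subgroup G), θ s = 1 ↔ (s : G) ∈ (⊥ : Subgroup G) := fun s => by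
    rw [Subgroup.mem_bot, show θ s = ((e.symm s : S) : Ω) from rfl, OneMemClass.coe_eq_one,
      MulEquiv.map_eq_one_iff, OneMemClass.coe_eq_one]
  have hrange : θ.range = S := by
    refine le_antisymm ?_ fun x hx => ⟨e ⟨x, hx⟩, by simp [θ]⟩
    rintro _ ⟨s, rfl⟩
    exact (e.symm s).2
  have hval : ∀ (x : S), thFn θ (ι x) = x := fun x => by
    have h : ι x ∈ (T : Subgroup G) := hT.symm ▸ ⟨x, rfl⟩
    rw [thFn_apply h, show (⟨ι x, h⟩ : (T : Subgroup G)) = e x from rfl]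
    simp [θ]
  have hbot : (groupFusionSystem (T : Subgroup G)).StronglyClosed ⊥ :=
    stronglyClosed_of_isNormal isNormal_bot
  refine factor_saturated T.2 (gfs_saturated T) (E := F) (T := ⊥) (θ := θ) ?_ hbot
  refine ⟨bot_le, hker, hrange, fun P φ' => ⟨fun h => ?_, ?_⟩⟩
  · have hle := F.le_of_mem h
    refine ⟨hle.1, ?_⟩
    obtain ⟨g, hg⟩ := (hr.2 P hle.1 φ' hle.2).1 h
    have hpre : ∀ x ∈ preimageAlong θ P, ∃ y : P, (x : G) = ι ⟨y, hle.1 y.2⟩ := by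
      intro x hx
      obtain ⟨hxT, hxP⟩ := mem_pre.1 hx
      obtain ⟨s, rfl⟩ := (hT ▸ hxT : x ∈ ι.range)
      rw [hval] at hxP
      exact ⟨⟨s, hxP⟩, rfl⟩
    have hm : Mor (groupFusionSystem (T : Subgroup G)) (preimageAlong θ P)
        (fun x => g * x * g⁻¹) :=
      mor_gfs.2 ⟨pre_le, fun x hx => by
        obtain ⟨y, rfl⟩ := hpre x hx
        rw [← hg y]
        exact hT.symm ▸ ⟨_, rfl⟩, g, fun _ _ => rfl⟩
    obtain ⟨φ, hφ, hφf⟩ := hm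
    refine ⟨φ, hφ, inducedAlong_iff.2 fun x => ?_⟩
    obtain ⟨y, hy⟩ := hpre x x.2
    simp only [hφf x, hy]
    rw [← hg y]
    refine ⟨hT.symm ▸ ⟨_, rfl⟩, fun h => ?_⟩
    refine Eq.trans ?_ (hval _).symm
    congr 1
    apply Subtype.ext
    exact hval _
  · rintro ⟨hP, φ, hφ, hind⟩
    obtain ⟨-, -, g, hg⟩ := mor_gfs.1 (mor_extendFn hφ)
    have hx : ∀ x : P, ι ⟨x, hP x.2⟩ ∈ preimageAlong θ P := fun x =>
      mem_pre.2 ⟨hT.symm ▸ ⟨_, rfl⟩, by rw [hval]; exact x.2⟩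
    have hv : ∀ x : P, ∃ s : S, φ ⟨_, hx x⟩ = ι s ∧ φ' x = s := fun x => by
      obtain ⟨h1, h2⟩ := inducedAlong_iff.1 hind ⟨_, hx x⟩
      obtain ⟨s, hs⟩ := (hT ▸ h1 : φ ⟨_, hx x⟩ ∈ ι.range)
      refine ⟨s, hs.symm, ?_⟩
      have h3 := h2 (by rw [hval]; exact x.2)
      rw [← hs, hval s] at h3
      rw [← h3]
      congr 1
      exact Subtype.ext (hval ⟨x, hP x.2⟩).symm
    refine (hr.2 P hP φ' fun x => ?_).2 ⟨g, fun x => ?_⟩
    · obtain ⟨s, -, hs⟩ := hv x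
      exact hs ▸ s.2
    · obtain ⟨s, hs, hs'⟩ := hv x
      have h1 := hg _ (hx x)
      rw [extendFn_apply φ (hx x), hs] at h1
      rw [← h1]
      congr 1
      exact Subtype.ext hs'

theorem subgroupOf_map_eq (hQ : Q ≤ S) {N : Subgroup G} (hN : N ≤ ι.range)
    (h : ∀ x : S, (x : Ω) ∈ Q ↔ ι x ∈ N) : (Q.subgroupOf S).map ι = N := by
  refine le_antisymm ?_ fun y hy => ?_
  · rintro _ ⟨x, hx, rfl⟩
    exact (h x).1 hx
  · obtain ⟨x, rfl⟩ := hN hy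
    exact ⟨x, (h x).2 hy, rfl⟩

open Classical in
/-- Conjugation by `g`, pulled back along `ι` where possible. -/
noncomputable def pullConj (ι : S →* G) (g : G) (x : Ω) : Ω :=
  if h : x ∈ S ∧ g * thFn ι x * g⁻¹ ∈ ι.range then (Classical.choose h.2 : S) else 1

theorem pullConj_eq (hinj : Function.Injective ι) {g : G} {x y : S}
    (hxy : g * ι x * g⁻¹ = ι y) : pullConj ι g x = y := by
  have h : (x : Ω) ∈ S ∧ g * thFn ι x * g⁻¹ ∈ ι.range :=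
    ⟨x.2, by rw [thFn_coe, hxy]; exact ⟨y, rfl⟩⟩
  rw [pullConj, dif_pos h]
  exact congrArg Subtype.val (hinj ((Classical.choose_spec h.2).trans (by rw [thFn_coe, hxy])))

/-- A normal subgroup of `G` inside the image of `S` gives a normal subgroup of the system. -/
theorem isNormal_of_normal (hr : F.IsRealizedBy ι) {N : Subgroup G} [hN : N.Normal]
    (hNle : N ≤ ι.range) : F.IsNormal ((N.comap ι).map S.subtype) := by
  classical
  set Q := (N.comap ι).map S.subtype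
  have hQS : Q ≤ S := Subgroup.map_subtype_le _
  have hmem : ∀ x : S, (x : Ω) ∈ Q ↔ ι x ∈ N := fun x =>
    ⟨fun ⟨y, hy, hyx⟩ => Subtype.ext hyx ▸ hy, fun h => ⟨x, h, rfl⟩⟩
  refine isNormal_iff.2 ⟨hQS, fun P f hf => ?_⟩
  obtain ⟨hP, hfS, g, hg⟩ := (mor_realized hr).1 hf
  let k : Ω → Ω := pullConj ι g
  have hk : ∀ x : S, ∀ y : S, g * ι x * g⁻¹ = ι y → k x = y := fun x y h =>
    pullConj_eq hr.1 h
  have hkQ : ∀ x : S, (x : Ω) ∈ Q → ∃ y : S, g * ι x * g⁻¹ = ι y ∧ (y : Ω) ∈ Q := by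
    intro x hx
    obtain ⟨y, hy⟩ := hNle (hN.conj_mem _ ((hmem x).1 hx) g)
    exact ⟨y, hy.symm, (hmem y).2 (hy ▸ hN.conj_mem _ ((hmem x).1 hx) g)⟩
  have hkP : ∀ (x : S) (hx : (x : Ω) ∈ P), g * ι x * g⁻¹ = ι ⟨f x, hfS _ hx⟩ := fun x hx => by
    rw [← hg x hx, thFn_apply (hfS _ hx)]
  have hsup : ∀ x : S, (x : Ω) ∈ P ⊔ Q → ∃ y : S, g * ι x * g⁻¹ = ι y := by
    intro x hx
    have hle : P ⊔ Q ≤ ((ι.range.comap (MulAut.conj g).toMonoidHom).comap ι).map S.subtype := by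
      refine sup_le (fun z hz => ⟨⟨z, hP hz⟩, ?_, rfl⟩) fun z hz => ⟨⟨z, hQS hz⟩, ?_, rfl⟩
      · show g * ι ⟨z, hP hz⟩ * g⁻¹ ∈ ι.range
        rw [hkP ⟨z, hP hz⟩ hz]
        exact ⟨_, rfl⟩
      · obtain ⟨y, hy, -⟩ := hkQ ⟨z, hQS hz⟩ hz
        exact ⟨y, hy.symm⟩
    obtain ⟨w, ⟨y, hy⟩, hwx⟩ := hle hx
    exact ⟨y, Subtype.ext hwx ▸ hy.symm⟩
  refine ⟨k, (mor_realized hr).2 ⟨sup_le hP hQS, fun x hx => ?_, g, fun x hx => ?_⟩,
    fun x hx => ?_, fun z => ⟨fun hz => ?_, ?_⟩⟩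
  · obtain ⟨y, hy⟩ := hsup ⟨x, sup_le hP hQS hx⟩ hx
    exact hk ⟨x, _⟩ y hy ▸ y.2
  · obtain ⟨y, hy⟩ := hsup x hx
    rw [hk x y hy, thFn_coe, hy]
  · exact hk ⟨x, hP hx⟩ _ (hkP ⟨x, hP hx⟩ hx)
  · obtain ⟨w, hw⟩ := hNle (hN.conj_mem _ ((hmem ⟨z, hQS hz⟩).1 hz) g⁻¹)
    refine ⟨w, (hmem w).2 (hw ▸ hN.conj_mem _ ((hmem ⟨z, hQS hz⟩).1 hz) g⁻¹),
      hk w ⟨z, hQS hz⟩ ?_⟩
    rw [hw]
    group
  · rintro ⟨x, hx, rfl⟩
    obtain ⟨y, hy, hyQ⟩ := hkQ ⟨x, hQS hx⟩ hx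
    exact hk ⟨x, hQS hx⟩ y hy ▸ hyQ

/-- In a model, `O_p(G)` is inside the image of `S`. -/
theorem pCore_le_range [Fact p.Prime] (hT : ∃ T : Sylow p G, (T : Subgroup G) = ι.range)
    [Finite G] : pCore p G ≤ ι.range := by
  obtain ⟨T, hT⟩ := hT
  exact hT ▸ Cfsg.Agent.Core.pCore_le_sylow T

/-- The preimage of `O_p(G)` in a model is normal and centric. -/
theorem model_core_centric [Fact p.Prime] (h : F.IsModel p G ι) :
    F.IsNormal (((pCore p G).comap ι).map S.subtype) ∧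
      F.IsCentric (((pCore p G).comap ι).map S.subtype) := by
  obtain ⟨hfin, hr, hT, hC⟩ := h
  haveI := hfin
  haveI : Finite S := Finite.of_injective _ hr.1
  have hle := pCore_le_range (ι := ι) hT
  have hn := isNormal_of_normal hr hle
  refine ⟨hn, hn.1, fun R hR => ?_⟩
  obtain ⟨f, hf⟩ := isConj_iff.1 hR
  have hsc := stronglyClosed_of_isNormal hn
  have hRle : R ≤ ((pCore p G).comap ι).map S.subtype := fun y hy => by
    obtain ⟨x, hx, rfl⟩ := hf.exists_eq hy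
    exact (stronglyClosed_iff.1 hsc).2 _ _ le_rfl hf.1 x hx
  rw [eq_of_le_of_card hn.1 hRle hf.card_eq.le]
  rintro z ⟨hz, hzc⟩
  refine ⟨⟨z, hz⟩, hC (Subgroup.mem_centralizer_iff.2 fun y hy => ?_), rfl⟩
  obtain ⟨x, rfl⟩ := hle hy
  rw [← map_mul, ← map_mul]
  congr 1
  exact Subtype.ext (Subgroup.mem_centralizer_iff.1 hzc x ⟨x, hy, rfl⟩)

theorem model_constrained [Fact p.Prime] (h : F.IsModel p G ι) : F.IsConstrained p := by
  obtain ⟨hn, hc⟩ := model_core_centric h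
  obtain ⟨hfin, hr, hT, -⟩ := h
  haveI := hfin
  haveI : Finite S := Finite.of_injective _ hr.1
  exact ⟨realized_saturated hr hT, _, hn, hc⟩

/-- A subgroup normal in the system has normal image in a model. -/
theorem model_normal_image [Fact p.Prime] (h : F.IsModel p G ι) (hQ : F.IsNormal Q) :
    ((Q.subgroupOf S).map ι).Normal := by
  obtain ⟨hn, -⟩ := model_core_centric h
  obtain ⟨hfin, hr, hT, hC⟩ := h
  haveI := hfin
  have hle := pCore_le_range (ι := ι) hT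
  set Q0 := ((pCore p G).comap ι).map S.subtype
  refine ⟨?_⟩
  rintro _ ⟨x, hx, rfl⟩ g
  have hQ0 : ∀ z : S, (z : Ω) ∈ Q0 → ∃ w : S, g * ι z * g⁻¹ = ι w ∧ pullConj ι g z = w := by
    rintro z ⟨y, hy, hyz⟩
    obtain rfl : y = z := Subtype.ext hyz
    obtain ⟨w, hw⟩ := hle ((inferInstance : (pCore p G).Normal).conj_mem _ hy g)
    exact ⟨w, hw.symm, pullConj_eq hr.1 hw.symm⟩
  have hm : Mor F Q0 (pullConj ι g) := by
    refine (mor_realized hr).2 ⟨hn.1, fun z hz => ?_, g, fun z hz => ?_⟩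
    · obtain ⟨w, -, hw'⟩ := hQ0 ⟨z, hn.1 hz⟩ hz
      exact hw' ▸ w.2
    · obtain ⟨w, hw, hw'⟩ := hQ0 z hz
      rw [hw', thFn_coe, hw]
  obtain ⟨k, hk, hkf, hkQ⟩ := (isNormal_iff.1 hQ).2 Q0 _ hm
  obtain ⟨-, hkS, g', hg'⟩ := (mor_realized hr).1 hk
  have hc : g'⁻¹ * g ∈ ι.range := by
    refine hle (hC (Subgroup.mem_centralizer_iff.2 fun y hy => ?_))
    obtain ⟨z, rfl⟩ := hle hy
    have hz : (z : Ω) ∈ Q0 := ⟨z, hy, rfl⟩
    have h1 := hg' z (Subgroup.mem_sup_left hz)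
    rw [hkf _ hz] at h1
    obtain ⟨w, hw, hw'⟩ := hQ0 z hz
    rw [hw', thFn_coe, ← hw] at h1
    calc ι z * (g'⁻¹ * g) = g'⁻¹ * (g' * ι z * g'⁻¹) * g := by group
      _ = g'⁻¹ * (g * ι z * g⁻¹) * g := by rw [← h1]
      _ = g'⁻¹ * g * ι z := by group
  obtain ⟨s, hs⟩ := hc
  have hxQ : (x : Ω) ∈ Q := hx
  have hxs : ((s * x * s⁻¹ : S) : Ω) ∈ Q := by
    have h2 := (Subgroup.mem_normalizer_iff.1
      (StronglyClosed.le_normalizer (stronglyClosed_of_isNormal hQ) s.2) x).1 hxQ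
    simpa using h2
  refine ⟨⟨k (s * x * s⁻¹ : S), hkS _ (Subgroup.mem_sup_right hxs)⟩,
    (hkQ _).2 ⟨_, hxs, rfl⟩, ?_⟩
  rw [← thFn_apply (θ := ι), hg' _ (Subgroup.mem_sup_right hxs), map_mul, map_mul, map_inv, hs]
  group

end Cfsg.Agent.FusSys
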