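import Cfsg.Agent.FusSys.SolvableSys

/-!
Factor systems of constrained systems by central strongly closed subgroups.
-/

set_option autoImplicit false

namespace Cfsg.Agent.FusSys

open Cfsg Cfsg.FusionSystem

universe u v

variable {Ω : Type u} [Group Ω] {S T Q : Subgroup Ω} {F : FusionSystem S} {p : ℕ}
variable {Ω' : Type v} [Group Ω'] {S' : Subgroup Ω'} {θ : S →* Ω'} {E : FusionSystem S'}
variable [Fact p.Prime] [Finite S] (hS : IsPGroup p S) (hF : F.IsSaturated p)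

include hS hF

/-- The image of a normal subgroup in a factor system is normal. -/
theorem isNormal_imageAlong (hE : F.IsFactorSystem T θ E) (hT : F.StronglyClosed T)
    (hQ : F.IsNormal Q) : E.IsNormal (imageAlong θ Q) := by
  have hrange := hE.2.2.1
  obtain ⟨hQS, hext⟩ := isNormal_iff.1 hQ
  have hTsc := hT
  refine isNormal_iff.2 ⟨hrange ▸ imageAlong_le_range θ Q, fun P' f' hf' => ?_⟩
  obtain ⟨hP', f, hf, hff⟩ := (mor_factor hE hT).1 hf'
  obtain ⟨g, hg, hgf, hgQ⟩ := hext _ f hf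
  obtain ⟨M, hM⟩ := hg.exists_iso
  obtain ⟨g', hg', hgg⟩ := exists_iso_image hE hT hM
    ((le_preimageAlong hE.2.1 hT.1 P').trans le_sup_left)
  have hle : P' ⊔ imageAlong θ Q ≤ imageAlong θ (preimageAlong θ P' ⊔ Q) := by
    refine sup_le (fun z hz => ?_) ?_
    · obtain ⟨x, hx, hxz⟩ := exists_pre (hrange ▸ hP') hz
      exact (mem_imageAlong hg.le).2 ⟨x, Subgroup.mem_sup_left hx, hxz⟩
    · intro z hz
      obtain ⟨x, hx, hxz⟩ := (mem_imageAlong hQS).1 hz
      exact (mem_imageAlong hg.le).2 ⟨x, Subgroup.mem_sup_right hx, hxz⟩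
  refine ⟨g', hg'.1.mono hle, fun z hz => ?_, fun y => ?_⟩
  · obtain ⟨x, hx, rfl⟩ := exists_pre (hrange ▸ hP') hz
    rw [hgg x (Subgroup.mem_sup_left hx), hgf x hx, hff x hx]
  · rw [mem_imageAlong hQS]
    constructor
    · rintro ⟨q, hq, rfl⟩
      obtain ⟨r, hr, rfl⟩ := (hgQ q).1 hq
      exact ⟨thFn θ r, (mem_imageAlong hQS).2 ⟨r, hr, rfl⟩, hgg r (Subgroup.mem_sup_right hr)⟩
    · rintro ⟨z, hz, rfl⟩
      obtain ⟨r, hr, rfl⟩ := (mem_imageAlong hQS).1 hz
      exact ⟨g r, (hgQ _).2 ⟨r, hr, rfl⟩, (hgg r (Subgroup.mem_sup_right hr)).symm⟩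

/-- The factor system of a constrained system by a central strongly closed subgroup. -/
theorem constrained_factor (hE : F.IsFactorSystem T θ E) (hT : F.StronglyClosed T)
    (hc : F.IsConstrained p) (hcen : ∀ t ∈ T, ∀ s ∈ S, s * t = t * s) : E.IsConstrained p := by
  classical
  obtain ⟨-, Q, hQ, hQc⟩ := hc
  have hker := hE.2.1
  have hrange := hE.2.2.1
  subst hrange
  haveI : Finite θ.range := Finite.of_surjective _ θ.rangeRestrict_surjective
  have hE' : E.IsSaturated p := factor_saturated hS hF hE hT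
  have hp' : IsPGroup p θ.range := hS.of_surjective _ θ.rangeRestrict_surjective
  have hR : E.IsNormal E.core := isNormal_core
  have hQR : imageAlong θ Q ≤ E.core := le_core (isNormal_imageAlong hS hF hE hT hQ)
  refine ⟨hE', E.core, hR, hR.1, fun P hP => ?_⟩
  obtain ⟨φ, hφ⟩ := isConj_iff.1 hP
  obtain rfl : P = E.core :=
    hφ.eq_image (StronglyClosed.iso_self (stronglyClosed_of_isNormal hR) hφ.1 le_rfl)
  set C := centralizerIn θ.range E.core with hC
  have hCc : E.StronglyClosed C := stronglyClosed_centralizer_of_normal hp' hE' hR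
  have hcomm : ∀ a ∈ C, ∀ x ∈ C, x⁻¹ * (a * x * a⁻¹) ∈ E.core := by
    rintro _ ⟨⟨a, rfl⟩, ha⟩ _ ⟨⟨x, rfl⟩, hx⟩
    have hdiff : ∀ (q : Ω) (hq : q ∈ Q) (c : S), θ c ∈ Subgroup.centralizer (E.core : Set Ω') →
        q⁻¹ * ((c : Ω) * q * (c : Ω)⁻¹) ∈ T := fun q hq c hc => by
      have hcq : θ c * θ ⟨q, hQ.1 hq⟩ = θ ⟨q, hQ.1 hq⟩ * θ c :=
        (Subgroup.mem_centralizer_iff.1 hc _ (hQR ⟨⟨q, hQ.1 hq⟩, hq, rfl⟩)).symm
      refine (hker (⟨q, hQ.1 hq⟩⁻¹ * (c * ⟨q, hQ.1 hq⟩ * c⁻¹))).1 ?_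
      rw [map_mul, map_mul, map_mul, map_inv, map_inv, hcq]
      group
    have hswap : ∀ q ∈ Q, (a : Ω) * x * q * ((a : Ω) * x)⁻¹ = x * a * q * ((x : Ω) * a)⁻¹ := by
      intro q hq
      have hda := hdiff q hq a ha
      have hdx := hdiff q hq x hx
      set da := q⁻¹ * ((a : Ω) * q * (a : Ω)⁻¹) with hdadef
      set dx := q⁻¹ * ((x : Ω) * q * (x : Ω)⁻¹) with hdxdef
      have ea : (a : Ω) * q * (a : Ω)⁻¹ = q * da := by rw [hdadef]; group
      have ex : (x : Ω) * q * (x : Ω)⁻¹ = q * dx := by rw [hdxdef]; group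
      have hfa : (a : Ω) * dx * (a : Ω)⁻¹ = dx := by rw [hcen dx hdx a a.2, mul_inv_cancel_right]
      have hfx : (x : Ω) * da * (x : Ω)⁻¹ = da := by rw [hcen da hda x x.2, mul_inv_cancel_right]
      calc (a : Ω) * x * q * ((a : Ω) * x)⁻¹ = a * (x * q * (x : Ω)⁻¹) * (a : Ω)⁻¹ := by group
        _ = (a * q * (a : Ω)⁻¹) * (a * dx * (a : Ω)⁻¹) := by rw [ex]; group
        _ = q * (da * dx) := by rw [ea, hfa, mul_assoc]
        _ = q * dx * (x * da * (x : Ω)⁻¹) := by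
          rw [hfx, mul_assoc q dx da, hcen dx hdx da (hT.1 hda)]
        _ = (x : Ω) * (a * q * (a : Ω)⁻¹) * (x : Ω)⁻¹ := by rw [← ex, ea]; group
        _ = x * a * q * ((x : Ω) * a)⁻¹ := by group
    have hmem : (x : Ω)⁻¹ * ((a : Ω) * x * (a : Ω)⁻¹) ∈ Q := by
      refine centric_self hQc ⟨(x⁻¹ * (a * x * a⁻¹) : S).2, Subgroup.mem_centralizer_iff.2 fun q hq => ?_⟩
      have hq' : (a : Ω)⁻¹ * q * a ∈ Q := by
        simpa using isStronglyClosed_normal (stronglyClosed_of_isNormal hQ) (S.inv_mem a.2) hq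
      have h := hswap _ hq'
      calc q * ((x : Ω)⁻¹ * (a * x * (a : Ω)⁻¹))
          = a * ((x : Ω) * a)⁻¹ * (x * a * ((a : Ω)⁻¹ * q * a) * ((x : Ω) * a)⁻¹) * (a * x) *
              (a : Ω)⁻¹ := by group
        _ = a * ((x : Ω) * a)⁻¹ * (a * x * ((a : Ω)⁻¹ * q * a) * ((a : Ω) * x)⁻¹) * (a * x) *
              (a : Ω)⁻¹ := by rw [h]
        _ = (x : Ω)⁻¹ * (a * x * (a : Ω)⁻¹) * q := by group
    refine hQR ⟨x⁻¹ * (a * x * a⁻¹), hmem, ?_⟩
    simp
  have hinf : E.StronglyClosed (C ⊓ E.core) := stronglyClosed_iff.2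
    ⟨inf_le_left.trans hCc.1, fun X f hX hf x hx =>
      ⟨StronglyClosed.mor_mem hCc hf hx (hX hx).1,
        StronglyClosed.mor_mem (stronglyClosed_of_isNormal hR) hf hx (hX hx).2⟩⟩
  let C' : ℕ → Subgroup Ω' := fun i => if i = 0 then ⊥ else if i = 1 then C ⊓ E.core else C
  have hC' : ∀ i, E.StronglyClosed (C' i) := fun i => by
    show E.StronglyClosed (if i = 0 then ⊥ else if i = 1 then C ⊓ E.core else C)
    split_ifs
    exacts [stronglyClosed_of_isNormal isNormal_bot, hinf, hCc]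
  refine le_core (isNormal_of_series hp' hE' hCc (C := C') (n := 2) ?_ (by simp [C'])
    (fun P hc _ => ⟨fun α hα i _ x hx =>
      apl_invariant_of_stronglyClosed (hC' i) hc.1 hα hx, fun δ _ _ x hx hx0 => ?_⟩)
    fun i hi a ha x hx => ?_)
  · refine monotone_nat_of_le_succ fun i => ?_
    show (if i = 0 then ⊥ else if i = 1 then C ⊓ E.core else C) ≤
      if i + 1 = 0 then ⊥ else if i + 1 = 1 then C ⊓ E.core else C
    rcases i with - | - | i <;> simp
  · have h1 : x = 1 := by simpa [C'] using hx0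
    subst h1
    rw [apl_apply δ hx]
    exact congrArg Subtype.val (map_one δ)
  · obtain rfl | rfl : i = 0 ∨ i = 1 := by omega
    · have hxD : x ∈ C ⊓ E.core := by simpa [C'] using hx
      show x⁻¹ * (a * x * a⁻¹) ∈ (⊥ : Subgroup Ω')
      rw [← (Subgroup.mem_centralizer_iff.1 ha.2 x hxD.2), mul_inv_cancel_right, inv_mul_cancel]
      exact one_mem _
    · have hxC : x ∈ C := by simpa [C'] using hx
      show x⁻¹ * (a * x * a⁻¹) ∈ C ⊓ E.core
      exact ⟨C.mul_mem (C.inv_mem hxC) (C.mul_mem (C.mul_mem ha hxC) (C.inv_mem ha)), hcomm a ha x hxC⟩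

end Cfsg.Agent.FusSys
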