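import Cfsg.Agent.FusSys.Criteria

/-!
Uniqueness of saturated subsystems of `p`-power index over a given subgroup.
-/

set_option autoImplicit false

namespace Cfsg.Agent.FusSys

open Cfsg Cfsg.FusionSystem

universe u

variable {Ω : Type u} [Group Ω] {S T : Subgroup Ω} {F : FusionSystem S} {p : ℕ}

theorem le_of_contains_residuals [Fact p.Prime] [Finite T] (hT : IsPGroup p T)
    {E D : FusionSystem T} (hE : E.IsSaturated p) (hEF : E.IsSubsystemOf F)
    (hD : ∀ P : Subgroup Ω, P ≤ T →
      (pResidual p (F.autGroup P)).map (F.autGroup P).subtype ≤ D.autGroup P) : E ≤ D := by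
  refine le_of_aut_le hT hE fun R hR => ?_
  have hRT : R ≤ T := hR.elim (fun e => e.le) fun e => e.1.1
  have hRn : E.IsFullyNormalized R := by
    rcases hR with rfl | hR
    · exact ⟨le_rfl, fun R' _ => by
        haveI := finite_of_le (normalizerIn_le R R)
        exact Subgroup.card_le_of_le (le_inf inf_le_left (inf_le_left.trans Subgroup.le_normalizer))⟩
    · exact hR.2.1
  rw [autGroup_eq_residual_sup hT hE hRn]
  refine sup_le ?_ (autInducedBy_le_autGroup hRT)
  have hle : E.autGroup R ≤ F.autGroup R := by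
    rw [FusionSystem.autGroup, Subgroup.closure_le]
    exact fun α hα => Subgroup.subset_closure (hEF R hα)
  refine le_trans ?_ (hD R hRT)
  rintro _ ⟨α, hα, rfl⟩
  exact Subgroup.mem_map.2 ⟨Subgroup.inclusion hle α,
    Cfsg.Agent.Fusion.map_pResidual_le (Subgroup.inclusion hle) (Subgroup.mem_map_of_mem _ hα), rfl⟩

theorem eq_of_pPowerIndex [Fact p.Prime] [Finite T] (hT : IsPGroup p T) {E D : FusionSystem T}
    (hE : E.IsSaturated p) (hD : D.IsSaturated p) (hEi : E.HasPPowerIndexIn F p)
    (hDi : D.HasPPowerIndexIn F p) (P : Subgroup Ω) : E.Hom P = D.Hom P :=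
  Set.Subset.antisymm (le_of_contains_residuals hT hE hEi.1 hDi.2.2 P)
    (le_of_contains_residuals hT hD hDi.1 hEi.2.2 P)

end Cfsg.Agent.FusSys
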