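import Cfsg.Agent.FusSys.PPowerTwist
import Cfsg.Agent.FusSys.PIndexUnique
import Cfsg.Agent.Core.Frattini

/-!
Existence of saturated subsystems of `p`-power index over every subgroup containing the hyperfocal subgroup.
-/

set_option autoImplicit false

namespace Cfsg.Agent.FusSys.PPI

open Cfsg Cfsg.FusionSystem Cfsg.Agent.FusSys

universe u

variable {Ω : Type u} [Group Ω] {S T : Subgroup Ω} {F : FusionSystem S} {p : ℕ}

section Index

variable [Fact p.Prime] [Finite S] (hS : IsPGroup p S) (hF : F.IsSaturated p)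
include hS hF

theorem exists_ctx [hn : (T.subgroupOf S).Normal] (hidx : (T.subgroupOf S).index = p)
    (hfoc : F.focalSubgroup ≤ T) : Nonempty (Ctx F T p) := by
  classical
  obtain ⟨B, hB⟩ := exists_bisetData_above hS hF (⊤ : Subgroup S) le_top
  haveI : IsCyclic (S ⧸ T.subgroupOf S) :=
    isCyclic_of_prime_card (p := p) (by rw [← Subgroup.index_eq_card, hidx])
  letI : CommGroup (S ⧸ T.subgroupOf S) := IsCyclic.commGroup
  have hcard : Nat.card (S ⧸ T.subgroupOf S) = p := by rw [← Subgroup.index_eq_card, hidx]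
  refine ⟨{ A := S ⧸ T.subgroupOf S, χ := QuotientGroup.mk' (T.subgroupOf S), ker := fun u => ?_,
            expA := fun a => ?_, gen := fun u hu a => ?_, stab := fun R f hf u w hu hw => ?_,
            B := B, deg := hB }⟩
  · exact (QuotientGroup.eq_one_iff u).trans Subgroup.mem_subgroupOf
  · conv_lhs => rw [← hcard]
    exact pow_card_eq_one'
  · obtain ⟨k, hk⟩ := (Submonoid.mem_powers_iff _ _).1 (mem_powers_of_prime_card hcard hu (g' := a))
    exact ⟨k, hk⟩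
  · refine (QuotientGroup.eq.2 (Subgroup.mem_subgroupOf.2 ?_)).symm
    rw [Subgroup.coe_mul, Subgroup.coe_inv, hw]
    exact hfoc (quot_mem_focal hf hu)

theorem stronglyClosed_of_focal_le (hTS : T ≤ S) (hfoc : F.focalSubgroup ≤ T) : F.StronglyClosed T := by
  refine stronglyClosed_iff.2 ⟨hTS, fun R f hR hf x hx => ?_⟩
  have := T.mul_mem (hR hx) (hfoc (quot_mem_focal hf hx))
  rwa [mul_inv_cancel_left] at this

end Index

section Build

variable (C : Ctx F T p)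

/-- The maps of the subsystem: inside `T`, with trivial twist when rigid. -/
def MRel (P : Subgroup Ω) (f : Ω → Ω) : Prop :=
  P ≤ T ∧ (∀ x ∈ P, f x ∈ T) ∧ (Rig F T P → Th C P f 1)

variable {C} {P Q : Subgroup Ω} {f g : Ω → Ω} {a : C.A}

theorem th_conj_of_mem {s : Ω} (hs : s ∈ S) :
    Th C P (fun x => s * x * s⁻¹) (C.χ ⟨s, hs⟩ ^ Fintype.card C.B.O) :=
  th_conj ⟨s, hs⟩

theorem mrel_sub (hTS : T ≤ S) : SubRel F T (MRel C) := by
  refine ⟨fun {P f g} ⟨h1, h2, h3⟩ he => ⟨h1, fun x hx => he x hx ▸ h2 x hx, fun h => (h3 h).congr he⟩,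
    fun h => ⟨h.1, h.2.1⟩, ?_, ?_, ?_⟩
  · intro P s hP hs
    refine ⟨mor_conj (hP.trans hTS) (hTS hs), hP,
      fun x hx => T.mul_mem (T.mul_mem hs (hP hx)) (T.inv_mem hs), fun _ => ?_⟩
    have h := th_conj_of_mem (C := C) (P := P) (hTS hs)
    rwa [(C.ker ⟨s, hTS hs⟩).2 hs, one_pow] at h
  · rintro P Q f g hf ⟨h1, -, h3⟩ - ⟨-, h2', h3'⟩ hfQ
    refine ⟨h1, fun x hx => h2' _ (hfQ x hx), fun hr => ?_⟩
    obtain ⟨R, hR⟩ := hf.exists_iso
    have hRQ : R ≤ Q := fun y hy => by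
      obtain ⟨x, hx, rfl⟩ := hR.exists_eq hy
      exact hfQ x hx
    have := (h3 hr).comp (h3' ((hr.iso hR).mono hRQ)) hf hfQ
    rwa [one_mul] at this
  · rintro P Q f g hf ⟨h1, h2, h3⟩ hg hgf
    refine ⟨fun y hy => ?_, fun y hy => h1 (hg.mem hy), fun hr => ?_⟩
    · obtain ⟨x, hx, rfl⟩ := hf.exists_eq hy
      exact h2 x hx
    · have := (h3 (hr.of_iso hf)).symm hf hgf
      rwa [inv_one] at this

/-- The subsystem attached to the twist. -/
def sys (hTS : T ≤ S) : FusionSystem T := subSys (mrel_sub (C := C) hTS)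

variable {hTS : T ≤ S}

theorem mor_sys : Mor (sys (C := C) hTS) P f ↔ Mor F P f ∧ MRel C P f := mor_subSys _

theorem iso_sys : Iso (sys (C := C) hTS) P Q f ↔ Iso F P Q f ∧ MRel C P f := by
  show Mor (sys (C := C) hTS) P f ∧ _ ↔ (Mor F P f ∧ _) ∧ _
  rw [mor_sys]
  tauto

variable [Fact p.Prime] [Finite S] (hS : IsPGroup p S) (hF : F.IsSaturated p)

theorem exists_root (a : C.A) : ∃ b : C.A, b ^ Fintype.card C.B.O = a := by
  have hp : p.Prime := Fact.out
  obtain ⟨m, hm⟩ := Nat.exists_mul_mod_eq_one_of_coprime (k := p)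
    ((hp.coprime_iff_not_dvd.2 C.deg).symm) hp.one_lt
  refine ⟨a ^ m, ?_⟩
  rw [← pow_mul, mul_comm, pow_eq_pow_mod _ (C.expA a), hm.2, pow_one]

theorem exists_value (hne : ¬ S ≤ T) (a : C.A) : ∃ s : S, C.χ s ^ Fintype.card C.B.O = a := by
  obtain ⟨u, hu, huT⟩ := SetLike.not_le_iff_exists.1 hne
  obtain ⟨b, rfl⟩ := exists_root a
  obtain ⟨k, rfl⟩ := C.gen ⟨u, hu⟩ (fun h => huT ((C.ker _).1 h)) b
  exact ⟨⟨u, hu⟩ ^ k, by rw [map_pow]⟩

theorem exists_cent_value {c : Ω} (hc : c ∈ centralizerIn S Q) (hcT : c ∉ T) (a : C.A) :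
    ∃ d : S, (d : Ω) ∈ centralizerIn S Q ∧ C.χ d ^ Fintype.card C.B.O = a := by
  obtain ⟨b, rfl⟩ := exists_root a
  obtain ⟨k, rfl⟩ := C.gen ⟨c, hc.1⟩ (fun h => hcT ((C.ker _).1 h)) b
  refine ⟨⟨c, hc.1⟩ ^ k, ?_, by rw [map_pow]⟩
  rw [SubgroupClass.coe_pow]
  exact Subgroup.pow_mem _ hc k

include hS hF

theorem exists_cent_not_mem (hfoc : F.focalSubgroup ≤ T) (hQ : F.IsFullyNormalized Q) (hr : ¬ Rig F T Q) :
    ∃ c ∈ centralizerIn S Q, c ∉ T := by
  simp only [Rig, not_forall] at hr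
  obtain ⟨Q', f, hf, hle⟩ := hr
  obtain ⟨c, hc, hcT⟩ := SetLike.not_le_iff_exists.1 hle
  obtain ⟨g, hg, -, -⟩ := hf.symm
  obtain ⟨k, hk, hkg⟩ := (isReceptive_iff.1 (receptive_of_fullyNormalized hS hF hQ)).2 Q' g hg
  have hcN : c ∈ nPhi S Q' g := centralizerIn_le_nPhi hc
  refine ⟨k c, hk.mem_centralizerIn hg.1.le_nPhi (hg.congr hkg) hcN hc.2, fun h => hcT ?_⟩
  have h1 : c⁻¹ * k c ∈ T := hfoc (quot_mem_focal hk hcN)
  have := T.mul_mem h (T.inv_mem h1)
  rwa [mul_inv_rev, inv_inv, mul_inv_cancel_left] at this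

theorem exists_conj_fullyNormalized (hne : ¬ S ≤ T) (hfoc : F.focalSubgroup ≤ T) (hPT : P ≤ T) :
    ∃ Q f, Iso (sys (C := C) hTS) P Q f ∧ F.IsFullyNormalized Q := by
  have hsc := stronglyClosed_of_focal_le hS hF hTS hfoc
  obtain ⟨Q₀, hPQ, hQ₀⟩ := exists_fullyNormalized_conj (F := F) (hPT.trans hTS)
  obtain ⟨g, hg⟩ := isConj_iff.1 hPQ
  obtain ⟨a, ha⟩ := th_exists (C := C) hg.1
  obtain ⟨s, hs⟩ := exists_value (C := C) hne a⁻¹
  set c : Ω → Ω := fun x => (s : Ω) * x * (s : Ω)⁻¹ with hc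
  obtain ⟨Q, hQ⟩ := (mor_conj (F := F) hQ₀.1 s.2).exists_iso
  have hf : Iso F P Q (c ∘ g) := hg.comp hQ
  have hfT : ∀ x ∈ P, (c ∘ g) x ∈ T := fun x hx => StronglyClosed.mor_mem hsc hf.1 hx (hPT hx)
  refine ⟨Q, _, iso_sys.2 ⟨hf, hPT, hfT, fun _ => ?_⟩, hf.right_le, fun R hR => ?_⟩
  · have := ha.comp (th_conj (C := C) (R := Q₀) s) hg.1 fun x hx => hg.mem hx
    rwa [hs, inv_mul_cancel] at this
  · refine (hQ₀.2 R (isConj_trans hQ.isConj hR)).trans ?_
    refine (mor_conj (F := F) (normalizerIn_le S Q₀) s.2).card_image_le (normalizerIn_le S Q) fun x hx => ?_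
    exact (mor_conj (normalizerIn_le S Q₀) s.2).mem_normalizerIn (le_normalizerIn hQ₀.1) hQ hx hx.2

theorem fullyAutomized_sys (hfoc : F.focalSubgroup ≤ T) (hQT : Q ≤ T) (hQ : F.IsFullyNormalized Q) :
    (sys (C := C) hTS).IsFullyAutomized p Q := by
  classical
  haveI := finite_of_le hQ.1
  haveI : Finite T := finite_of_le hTS
  have hT : IsPGroup p T := hS.to_le hTS
  set E := sys (C := C) hTS with hE
  refine (fullyAutomized_iff hT hQT).2 ?_
  obtain ⟨-, R, hR⟩ := fullyAutomized_of_fullyNormalized hS hF hQ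
  have hEF : ∀ α ∈ E.autGroup Q, α ∈ F.autGroup Q ∧ MRel C Q (apl α) := fun α hα => by
    have h := iso_sys.1 ((mem_autGroup_iff hQT).1 hα)
    exact ⟨(mem_autGroup_iff hQ.1).2 h.1, h.2⟩
  set U : Sylow p (E.autGroup Q) := Classical.arbitrary _ with hU
  let D : Subgroup (F.autGroup Q) :=
    ((U : Subgroup (E.autGroup Q)).map (E.autGroup Q).subtype).subgroupOf (F.autGroup Q)
  obtain ⟨y, hy⟩ := exists_conj_mem_sylow (R := D) ((U.2.map _).comap_subtype) R
  have key : ∀ u ∈ (U : Subgroup (E.autGroup Q)),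
      (y : MulAut Q) * (u : MulAut Q) * (y : MulAut Q)⁻¹ ∈ autInducedBy T Q := by
    intro u hu
    obtain ⟨huF, huM⟩ := hEF u u.2
    have h1 := hy ⟨u, huF⟩ (Subgroup.mem_map.2 ⟨u, hu, rfl⟩)
    rw [autInducedBy_subgroupOf_eq R hR] at h1
    change (y : MulAut Q) * (u : MulAut Q) * (y : MulAut Q)⁻¹ ∈ autInducedBy S Q at h1
    obtain ⟨s, hs, hsn, hsx⟩ := mem_autInducedBy_iff.1 h1
    by_cases hr : Rig F T Q
    · refine mem_autInducedBy_iff.2 ⟨s, (C.ker ⟨s, hs⟩).1 ?_, hsn, hsx⟩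
      obtain ⟨b, hb⟩ := th_exists (C := C) (iso_apl hQ.1 y.2).1
      have hyi := iso_apl hQ.1 y.2
      have hinv : Th C Q (apl (y : MulAut Q)⁻¹) b⁻¹ := hb.symm hyi fun x hx => apl_inv_apl _ hx
      have h3 := (hinv.comp (huM.2.2 hr) (iso_apl hQ.1 (Subgroup.inv_mem _ y.2)).1
        fun x hx => apl_mem _ hx).comp hb
          ((iso_apl hQ.1 (Subgroup.inv_mem _ y.2)).comp (iso_apl hQ.1 huF)).1
          fun x hx => apl_mem _ (apl_mem _ hx)
      have h4 : Th C Q (fun x => s * x * s⁻¹) (b * (1 * b⁻¹)) := h3.congr fun x hx => by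
        rw [← hsx x hx, apl_mul _ _ hx, apl_mul _ _ (apl_mem _ hx)]
        rfl
      have h5 := th_unique hS (mor_conj hQ.1 hs) hr (th_conj_of_mem hs) h4
      rw [one_mul, mul_inv_cancel] at h5
      obtain ⟨m, hm⟩ := Nat.exists_mul_mod_eq_one_of_coprime (k := p)
        (((Fact.out : p.Prime).coprime_iff_not_dvd.2 C.deg).symm) (Fact.out : p.Prime).one_lt
      rw [← pow_one (C.χ ⟨s, hs⟩), ← hm.2, ← pow_eq_pow_mod _ (C.expA _), pow_mul, h5, one_pow]
    · obtain ⟨c, hc, hcT⟩ := exists_cent_not_mem hS hF hfoc hQ hr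
      obtain ⟨k, hk⟩ := C.gen ⟨c, hc.1⟩ (fun h => hcT ((C.ker _).1 h)) (C.χ ⟨s, hs⟩)⁻¹
      have hck : c ^ k ∈ centralizerIn S Q := Subgroup.pow_mem _ hc k
      refine mem_autInducedBy_iff.2 ⟨s * c ^ k, (C.ker ⟨s * c ^ k, S.mul_mem hs hck.1⟩).1 ?_,
        Subgroup.mul_mem _ hsn (Subgroup.centralizer_le_normalizer _ hck.2), fun x hx => ?_⟩
      · show C.χ (⟨s, hs⟩ * ⟨c, hc.1⟩ ^ k) = 1
        rw [map_mul, map_pow, hk, mul_inv_cancel]
      · rw [hsx x hx]
        have e : c ^ k * x = x * c ^ k := (Subgroup.mem_centralizer_iff.1 hck.2 x hx).symm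
        calc s * x * s⁻¹ = s * (x * c ^ k * (c ^ k)⁻¹) * s⁻¹ := by rw [mul_inv_cancel_right]
          _ = s * c ^ k * x * (s * c ^ k)⁻¹ := by rw [← e]; group
  have hle : autInducedBy T Q ≤ E.autGroup Q := autInducedBy_le_autGroup hQT
  have hcard : Nat.card (U : Subgroup (E.autGroup Q)) ≤
      Nat.card ((autInducedBy T Q).subgroupOf (E.autGroup Q)) := by
    refine Nat.card_le_card_of_injective
      (fun u => ⟨⟨_, hle (key u u.2)⟩, key u u.2⟩) fun u v h => ?_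
    have h' := congrArg (fun w : (autInducedBy T Q).subgroupOf (E.autGroup Q) => ((w : E.autGroup Q) : MulAut Q)) h
    exact Subtype.ext (Subtype.ext (mul_left_cancel (mul_right_cancel h')))
  obtain ⟨V, hV⟩ := ((isPGroup_autInducedBy (P := Q) hT).comap_subtype :
    IsPGroup p ((autInducedBy T Q).subgroupOf (E.autGroup Q))).exists_le_sylow
  have : (autInducedBy T Q).subgroupOf (E.autGroup Q) = (V : Subgroup (E.autGroup Q)) :=
    Subgroup.eq_of_le_of_card_ge hV (by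
      rw [Sylow.card_eq_multiplicity] at hcard ⊢
      exact hcard)
  rw [this]
  exact V.not_dvd_index

theorem receptive_sys (hfoc : F.focalSubgroup ≤ T) (hQT : Q ≤ T) (hQ : F.IsFullyNormalized Q) :
    (sys (C := C) hTS).IsReceptive Q := by
  have hsc := stronglyClosed_of_focal_le hS hF hTS hfoc
  refine isReceptive_iff.2 ⟨hQT, fun X f hf => ?_⟩
  obtain ⟨hfF, hfM⟩ := iso_sys.1 hf
  obtain ⟨ψ, hψ, hψf⟩ := (isReceptive_iff.1 (receptive_of_fullyNormalized hS hF hQ)).2 X f hfF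
  have hN : nPhi T X f ≤ nPhi S X f := fun a ⟨ha, han, t, ht, hx⟩ => ⟨hTS ha, han, t, hTS ht, hx⟩
  have hNT : nPhi T X f ≤ T := fun a ha => ha.1
  have hψ' := hψ.mono hN
  have hψT : ∀ x ∈ nPhi T X f, ψ x ∈ T := fun x hx => StronglyClosed.mor_mem hsc hψ' hx (hNT hx)
  have hXN : X ≤ nPhi T X f := hf.1.le_nPhi
  by_cases hrN : Rig F T (nPhi T X f)
  swap
  · exact ⟨ψ, mor_sys.2 ⟨hψ', hNT, hψT, fun h => absurd h hrN⟩, hψf⟩
  obtain ⟨a, ha⟩ := th_exists (C := C) hψ'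
  by_cases hrX : Rig F T X
  · refine ⟨ψ, mor_sys.2 ⟨hψ', hNT, hψT, fun _ => ?_⟩, hψf⟩
    have h1 := th_unique hS hfF.1 hrX ((ha.mono hXN).congr fun x hx => (hψf x hx).symm) (hfM.2.2 hrX)
    rwa [h1] at ha
  · obtain ⟨c, hc, hcT⟩ := exists_cent_not_mem hS hF hfoc hQ fun h => hrX (h.of_iso hfF)
    obtain ⟨d, hd, hda⟩ := exists_cent_value (C := C) hc hcT a⁻¹
    obtain ⟨N', hN'⟩ := hψ'.exists_iso
    have hg : Mor F (nPhi T X f) (fun x => (d : Ω) * ψ x * (d : Ω)⁻¹) := hψ'.conjComp d.2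
    refine ⟨_, mor_sys.2 ⟨hg, hNT, fun x hx => StronglyClosed.mor_mem hsc hg hx (hNT hx), fun _ => ?_⟩,
      fun x hx => ?_⟩
    · have := ha.comp (th_conj (C := C) (R := N') d) hψ' fun x hx => hN'.mem hx
      rwa [hda, inv_mul_cancel] at this
    · show (d : Ω) * ψ x * (d : Ω)⁻¹ = f x
      rw [hψf x hx, ← Subgroup.mem_centralizer_iff.1 hd.2 _ (hfF.mem hx), mul_inv_cancel_right]

theorem saturated_sys (hne : ¬ S ≤ T) (hfoc : F.focalSubgroup ≤ T) :
    (sys (C := C) hTS).IsSaturated p := fun P hPT => by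
  obtain ⟨Q, f, hf, hQ⟩ := exists_conj_fullyNormalized (C := C) (hTS := hTS) hS hF hne hfoc hPT
  have hQT : Q ≤ T := hf.right_le
  exact ⟨Q, hf.isConj, fullyAutomized_sys hS hF hfoc hQT hQ, receptive_sys hS hF hfoc hQT hQ⟩

theorem th_pow {α : MulAut P} (hP : P ≤ S) (hα : α ∈ F.autGroup P) (ha : Th C P (apl α) a) :
    ∀ k : ℕ, Th C P (apl (α ^ k)) (a ^ k) := by
  intro k
  induction k with
  | zero =>
    have h := th_conj (C := C) (R := P) 1
    rw [map_one, one_pow] at h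
    rw [pow_zero, pow_zero]
    exact h.congr fun x hx => by simp [apl_one hx]
  | succ k ih =>
    rw [pow_succ, pow_succ]
    have := ha.comp ih (iso_apl hP hα).1 fun x hx => apl_mem _ hx
    exact this.congr fun x hx => apl_mul _ _ hx

theorem mem_autGroup_sys (hPT : P ≤ T) {α : MulAut P} (hα : α ∈ F.autGroup P)
    (hord : (orderOf α).Coprime p) : α ∈ (sys (C := C) hTS).autGroup P := by
  have hP := hPT.trans hTS
  haveI := finite_of_le hP
  refine (mem_autGroup_iff hPT).2 (iso_sys.2 ⟨iso_apl hP hα, hPT, fun x hx => hPT (apl_mem _ hx),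
    fun hr => ?_⟩)
  obtain ⟨a, ha⟩ := th_exists (C := C) (iso_apl hP hα).1
  have h := th_pow hS hF hP hα ha (orderOf α)
  rw [pow_orderOf_eq_one] at h
  have h1 : a ^ orderOf α = 1 :=
    th_id_eq_one hS hP hr (h.congr fun x hx => (apl_one hx).symm)
  have h2 : a = 1 := by
    have := pow_gcd_eq_one.2 ⟨h1, C.expA a⟩
    rwa [hord.gcd_eq_one, pow_one] at this
  rwa [h2] at ha

end Build

variable [Fact p.Prime]

theorem exists_index_p [Finite S] (hS : IsPGroup p S) (hF : F.IsSaturated p) (hTS : T ≤ S)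
    [(T.subgroupOf S).Normal] (hidx : (T.subgroupOf S).index = p) (hfoc : F.focalSubgroup ≤ T) :
    ∃ E : FusionSystem T, E.IsSaturated p ∧ E.HasPPowerIndexIn F p := by
  obtain ⟨C⟩ := exists_ctx hS hF hidx hfoc
  have hne : ¬ S ≤ T := fun h => (Fact.out : p.Prime).ne_one
    (by rw [← hidx, Subgroup.subgroupOf_eq_top.2 h, Subgroup.index_top])
  refine ⟨sys (C := C) hTS, saturated_sys hS hF hne hfoc,
    fun P φ hφ => hφ.1, hyperfocal_le_focal.trans hfoc, fun P hPT => ?_⟩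
  rw [pResidual, MonoidHom.map_closure, Subgroup.closure_le]
  rintro _ ⟨α, hα, rfl⟩
  exact mem_autGroup_sys hS hF hPT α.2 (by rwa [Set.mem_setOf_eq, ← Subgroup.orderOf_coe] at hα)

theorem exists_pPower (n : ℕ) :
    ∀ {S : Subgroup Ω} [Finite S] (F : FusionSystem S) (T : Subgroup Ω), Nat.card S ≤ n → IsPGroup p S →
      F.IsSaturated p → T ≤ S → F.hyperfocalSubgroup p ≤ T →
      ∃ E : FusionSystem T, E.IsSaturated p ∧ E.HasPPowerIndexIn F p := by
  induction n with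
  | zero => exact fun {S} _ F T h => absurd h (Nat.not_le.2 Nat.card_pos)
  | succ n ih =>
    intro S _ F T hn hS hF hTS hT
    rcases eq_or_lt_of_le hTS with rfl | hlt
    · refine ⟨F, hF, fun P φ h => h, hT, fun P _ => ?_⟩
      exact Subgroup.map_subtype_le _
    obtain ⟨M', hM', hle⟩ := (eq_top_or_exists_le_coatom (T.subgroupOf S)).resolve_left
      fun h => not_le_of_gt hlt (Subgroup.subgroupOf_eq_top.1 h)
    obtain ⟨hnM, hidx⟩ := Cfsg.Agent.Core.index_eq_of_isCoatom hS hM'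
    set M : Subgroup Ω := M'.map S.subtype with hM
    have hMS : M ≤ S := Subgroup.map_subtype_le M'
    have hMeq : M.subgroupOf S = M' := Subgroup.comap_map_eq_self_of_injective S.subtype_injective M'
    have hTM : T ≤ M := fun x hx => ⟨⟨x, hTS hx⟩, hle hx, rfl⟩
    haveI : (M.subgroupOf S).Normal := hMeq ▸ hnM
    have hfoc : F.focalSubgroup ≤ M := by
      rw [focal_eq hS hF, ← map_subtype_commutator_eq]
      haveI := hnM
      exact sup_le (hT.trans hTM) (Subgroup.map_mono (Cfsg.Agent.Core.commutator_le_of_isCoatom_normal hM'))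
    obtain ⟨E1, hE1, hE1i⟩ := exists_index_p hS hF hMS (hMeq.symm ▸ hidx) hfoc
    haveI : Finite M := finite_of_le hMS
    have hlt' : Nat.card M < Nat.card S := by
      refine lt_of_le_of_ne (Subgroup.card_le_of_le hMS) fun h => hM'.1 ?_
      have : M = S := Subgroup.eq_of_le_of_card_ge hMS h.ge
      rw [← hMeq, this, Subgroup.subgroupOf_self]
    have hhyp : E1.hyperfocalSubgroup p ≤ T := by
      refine le_trans ?_ hT
      refine (Subgroup.closure_le _).2 ?_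
      rintro _ ⟨P, α, x, hP, hα, rfl⟩
      have hle' : E1.autGroup P ≤ F.autGroup P := Subgroup.closure_mono fun _ hβ => hE1i.1 P hβ
      exact Subgroup.subset_closure ⟨P, Subgroup.inclusion hle' α, x, hP.trans hMS,
        Cfsg.Agent.Fusion.map_pResidual_le _ (Subgroup.mem_map_of_mem _ hα), rfl⟩
    obtain ⟨E, hE, hEi⟩ := ih E1 T (by omega) (hS.to_le hMS) hE1 hTM hhyp
    refine ⟨E, hE, fun P φ h => hE1i.1 P (hEi.1 P h), hT, fun P hPT => ?_⟩
    rw [pResidual, MonoidHom.map_closure, Subgroup.closure_le]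
    rintro _ ⟨α, hα, rfl⟩
    have h1 : (α : MulAut P) ∈ E1.autGroup P :=
      hE1i.2.2 P (hPT.trans hTM) (Subgroup.mem_map.2 ⟨α, Subgroup.subset_closure hα, rfl⟩)
    refine hEi.2.2 P hPT (Subgroup.mem_map.2 ⟨⟨α, h1⟩, Subgroup.subset_closure ?_, rfl⟩)
    show (orderOf (⟨α, h1⟩ : E1.autGroup P)).Coprime p
    rw [← Subgroup.orderOf_coe]
    rwa [Set.mem_setOf_eq, ← Subgroup.orderOf_coe] at hα

theorem exists_unique_pPower [Finite S] (hS : IsPGroup p S) (hF : F.IsSaturated p) (hTS : T ≤ S)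
    (hT : F.hyperfocalSubgroup p ≤ T) :
    ∃ E : FusionSystem T, (E.IsSaturated p ∧ E.HasPPowerIndexIn F p) ∧
      ∀ E' : FusionSystem T, E'.IsSaturated p → E'.HasPPowerIndexIn F p → E' = E := by
  obtain ⟨E, hE, hEi⟩ := exists_pPower (p := p) (Nat.card S) F T le_rfl hS hF hTS hT
  haveI : Finite T := finite_of_le hTS
  exact ⟨E, ⟨hE, hEi⟩, fun E' hE' hEi' =>
    hom_ext_iff.2 fun P => eq_of_pPowerIndex (hS.to_le hTS) hE' hE hEi' hEi P⟩

end Cfsg.Agent.FusSys.PPI
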