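import Cfsg.Agent.FusSys.FocalCtl
import Cfsg.Agent.FusSys.Sub
import Cfsg.Agent.FusSys.KNorm
import Cfsg.Agent.Coprime.Basic

/-!
The focal subgroup of `C_F(T)` is centralized by a normal subsystem over `T`.
-/

set_option autoImplicit false

namespace Cfsg.Agent.FusSys.CentFocal

open Cfsg Cfsg.FusionSystem Cfsg.Agent.FusSys

universe u

variable {Ω : Type u} [Group Ω] {S T P X : Subgroup Ω} {F : FusionSystem S}

/-- `foc(C_F(P))`. -/
def cFoc (F : FusionSystem S) (hP : P ≤ S) : Subgroup Ω := (centralizerSys F hP).focalSubgroup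

theorem mor_cSys {hP : P ≤ S} {Q : Subgroup Ω} {f : Ω → Ω} :
    Mor (centralizerSys F hP) Q f ↔ Mor F Q f ∧ CRel F P Q f :=
  mor_centralizerSystem (isCentralizerSystem_centralizerSys hP)

theorem cRel_mono {U Q : Subgroup Ω} {f : Ω → Ω} (hle : U ≤ P) (h : CRel F P Q f) :
    CRel F U Q f := by
  obtain ⟨h1, h2, g, hg, hgf, hgP⟩ := h
  have hc : centralizerIn S P ≤ centralizerIn S U := fun c hc =>
    ⟨hc.1, Subgroup.centralizer_le hle hc.2⟩
  exact ⟨h1.trans hc, fun x hx => hc (h2 x hx), g, hg.mono (sup_le_sup_left hle _), hgf,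
    fun x hx => hgP x (hle hx)⟩

theorem cFoc_le_centralizerIn (hP : P ≤ S) : cFoc F hP ≤ centralizerIn S P :=
  focal_le_iff.2 fun Q f hf x hx => by
    obtain ⟨-, h1, h2, -⟩ := mor_cSys.1 hf
    exact Subgroup.mul_mem _ (Subgroup.inv_mem _ (h1 hx)) (h2 x hx)

theorem cFoc_mono {U : Subgroup Ω} (hP : P ≤ S) (hU : U ≤ S) (hle : U ≤ P) :
    cFoc F hP ≤ cFoc F hU :=
  focal_le_iff.2 fun Q f hf x hx =>
    quot_mem_focal (F := centralizerSys F hU)
      (mor_cSys.2 ⟨(mor_cSys.1 hf).1, cRel_mono hle (mor_cSys.1 hf).2⟩) hx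

/-- `C_F(P)` is transported by maps defined on `P C_S(P)`. -/
theorem cRel_conj {N N' P' Q : Subgroup Ω} {h h' f : Ω → Ω} (hh : Iso F N N' h)
    (hh' : Iso F N' N h') (hh'h : ∀ x ∈ N, h' (h x) = x) (hPN : P ≤ N)
    (hCN : centralizerIn S P ≤ N) (hPP : Iso F P P' h) (hf : CRel F P Q f) :
    ∃ Q', Iso F Q Q' h ∧ CRel F P' Q' (h ∘ f ∘ h') := by
  obtain ⟨h1, h2, g, hg, hgf, hgP⟩ := hf
  have hQN : Q ≤ N := h1.trans hCN
  obtain ⟨Q', hQ'⟩ := (hh.1.mono hQN).exists_iso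
  have hinv : ∀ y ∈ Q', h' y ∈ Q := fun y hy => by
    obtain ⟨x, hx, rfl⟩ := hQ'.exists_eq hy
    rw [hh'h x (hQN hx)]; exact hx
  have hinvP : ∀ y ∈ P', h' y ∈ P := fun y hy => by
    obtain ⟨x, hx, rfl⟩ := hPP.exists_eq hy
    rw [hh'h x (hPN hx)]; exact hx
  have hQ'le : Q' ≤ centralizerIn S P' := fun y hy => by
    obtain ⟨x, hx, rfl⟩ := hQ'.exists_eq hy
    exact hh.1.mem_centralizerIn hPN hPP (hQN hx) (h1 hx).2
  have hle : Q' ⊔ P' ≤ N' := sup_le
    (fun y hy => by obtain ⟨x, hx, rfl⟩ := hQ'.exists_eq hy; exact hh.mem (hQN hx))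
    (fun y hy => by obtain ⟨x, hx, rfl⟩ := hPP.exists_eq hy; exact hh.mem (hPN hx))
  have hgN : ∀ x ∈ Q ⊔ P, g x ∈ N := fun x hx => hg.mem_of_sup
    (fun a ha => by rw [hgf a ha]; exact hCN (h2 a ha))
    (fun a ha => by rw [hgP a ha]; exact hPN ha) hx
  have hk' : ∀ y ∈ Q' ⊔ P', h' y ∈ Q ⊔ P := fun y hy => (hh'.1.mono hle).mem_of_sup
    (fun a ha => Subgroup.mem_sup_left (hinv a ha))
    (fun a ha => Subgroup.mem_sup_right (hinvP a ha)) hy
  refine ⟨Q', hQ', hQ'le, fun y hy => hh.1.mem_centralizerIn hPN hPP (hCN (h2 _ (hinv y hy)))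
      (h2 _ (hinv y hy)).2, _, ((hh'.1.mono hle).comp hg hk').comp hh.1 fun y hy => hgN _ (hk' y hy),
    fun y hy => ?_, fun y hy => ?_⟩
  · show h (g (h' y)) = h (f (h' y))
    rw [hgf _ (hinv y hy)]
  · show h (g (h' y)) = y
    obtain ⟨x, hx, rfl⟩ := hPP.exists_eq hy
    rw [hh'h x (hPN hx), hgP x hx]

/-- Automorphisms of `P C_S(P)` normalizing `P` preserve `foc(C_F(P))`. -/
theorem apl_mem_cFoc (hP : P ≤ S) {δ : MulAut ↥(P ⊔ centralizerIn S P)}
    (hδ : δ ∈ F.autGroup (P ⊔ centralizerIn S P)) (hPP : Iso F P P (apl δ)) {y : Ω}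
    (hy : y ∈ cFoc F hP) : apl δ y ∈ cFoc F hP := by
  have hNS : (P ⊔ centralizerIn S P) ≤ S := sup_le hP (centralizerIn_le S P)
  have hh := iso_apl hNS hδ
  obtain ⟨h', hh', hh'h, -⟩ := hh.symm
  have hCN : centralizerIn S P ≤ (P ⊔ centralizerIn S P) := le_sup_right
  have hmul : ∀ {a b : Ω}, a ∈ (P ⊔ centralizerIn S P) → b ∈ (P ⊔ centralizerIn S P) → apl δ (a * b) = apl δ a * apl δ b :=
    fun ha hb => hh.1.map_mul ha hb
  have hFN : cFoc F hP ≤ (P ⊔ centralizerIn S P) := (cFoc_le_centralizerIn hP).trans hCN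
  induction hy using Subgroup.closure_induction with
  | mem z hz =>
    obtain ⟨Q, φ, x, hφ, rfl⟩ := hz
    have hm := mor_cSys.1 (mor_extendFn hφ)
    obtain ⟨Q', hQ', hcr⟩ := cRel_conj hh hh' hh'h le_sup_left hCN hPP hm.2
    have hxN : (x : Ω) ∈ (P ⊔ centralizerIn S P) := hCN (hm.2.1 x.2)
    have hfx : φ x ∈ (P ⊔ centralizerIn S P) := by
      have := hm.2.2.1 x x.2
      rw [extendFn_coe] at this
      exact hCN this
    rw [hmul ((P ⊔ centralizerIn S P).inv_mem hxN) hfx, hh.1.map_inv hxN]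
    obtain ⟨-, -, k, hk, hkf, -⟩ := id hcr
    have hmor : Mor F Q' (apl δ ∘ extendFn φ ∘ h') :=
      (hk.mono le_sup_left).congr fun y hy => (hkf y hy).symm
    have := quot_mem_focal (F := centralizerSys F hP) (mor_cSys.2 ⟨hmor, hcr⟩) (hQ'.mem x.2)
    rw [Function.comp_apply, Function.comp_apply, hh'h x hxN, extendFn_coe] at this
    exact this
  | one => rw [hh.1.map_one]; exact Subgroup.one_mem _
  | mul a b ha hb iha ihb => rw [hmul (hFN ha) (hFN hb)]; exact Subgroup.mul_mem _ iha ihb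
  | inv a ha iha => rw [hh.1.map_inv (hFN ha)]; exact Subgroup.inv_mem _ iha

variable {p : ℕ} [Fact p.Prime] [Finite S] (hS : IsPGroup p S) (hF : F.IsSaturated p)
include hS hF

/-- Automorphisms of a fully centralized `P` extend to `P C_S(P)`. -/
theorem exists_ext (hP : F.IsFullyCentralized P) {α : MulAut P} (hα : α ∈ F.autGroup P) :
    ∃ δ ∈ F.autGroup (P ⊔ centralizerIn S P),
      Iso F P P (apl δ) ∧ ∀ x ∈ P, apl δ x = apl α x := by
  have hiso := iso_apl hP.1 hα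
  obtain ⟨g, hg, hgx⟩ := (isReceptive_iff.1 (receptive_of_fullyCentralized hS hF hP)).2 P _ hiso
  have hg' := hg.mono (sup_le hiso.1.le_nPhi centralizerIn_le_nPhi)
  have hisoP : Iso F P P g := hiso.congr hgx
  have hmem : ∀ x ∈ P ⊔ centralizerIn S P, g x ∈ P ⊔ centralizerIn S P := fun x hx =>
    hg'.mem_of_sup (fun a ha => Subgroup.mem_sup_left (hisoP.mem ha))
      (fun a ha => Subgroup.mem_sup_right
        (hg'.mem_centralizerIn le_sup_left hisoP (Subgroup.mem_sup_right ha) ha.2)) hx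
  have hNS : P ⊔ centralizerIn S P ≤ S := sup_le hP.1 (centralizerIn_le S P)
  obtain ⟨δ, hδ, hδx⟩ := Iso.exists_mem_autGroup (show Iso F _ _ g from ⟨hg', fun y =>
    ⟨fun hy => hg'.surj_of_card hNS hmem le_rfl hy, fun ⟨x, hx, hxy⟩ => hxy ▸ hmem x hx⟩⟩)
  exact ⟨δ, hδ, hisoP.congr fun x hx => hδx x (Subgroup.mem_sup_left hx),
    fun x hx => (hδx x (Subgroup.mem_sup_left hx)).trans (hgx x hx)⟩

/-- An automorphism of `P C_S(P)` of order prime to `p`, trivial modulo `P`, fixes `foc(C_F(P))`. -/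
theorem fix_cFoc (hP : F.IsFullyCentralized P) {δ : MulAut ↥(P ⊔ centralizerIn S P)}
    (hδ : δ ∈ F.autGroup (P ⊔ centralizerIn S P)) (hPP : Iso F P P (apl δ))
    (hmod : ∀ c ∈ centralizerIn S P, c⁻¹ * apl δ c ∈ P) (hord : (orderOf δ).Coprime p) {y : Ω}
    (hy : y ∈ cFoc F hP.1) : apl δ y = y := by
  classical
  have hNS : (P ⊔ centralizerIn S P) ≤ S := sup_le hP.1 (centralizerIn_le S P)
  have hCS : (centralizerIn S P) ≤ S := centralizerIn_le S P
  have hCN : (centralizerIn S P) ≤ (P ⊔ centralizerIn S P) := le_sup_right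
  haveI : Finite (centralizerIn S P) := finite_of_le hCS
  have hh := iso_apl hNS hδ
  obtain ⟨h', hh', hh'h, hhh'⟩ := hh.symm
  have hδC : ∀ c ∈ (centralizerIn S P), apl δ c ∈ (centralizerIn S P) := fun c hc =>
    hh.1.mem_centralizerIn le_sup_left hPP (hCN hc) hc.2
  have hz : ∀ c ∈ (centralizerIn S P), c⁻¹ * apl δ c ∈ P ⊓ (centralizerIn S P) := fun c hc =>
    ⟨hmod c hc, (centralizerIn S P).mul_mem ((centralizerIn S P).inv_mem hc) (hδC c hc)⟩
  have hcen : ∀ z ∈ P ⊓ (centralizerIn S P), ∀ c ∈ (centralizerIn S P), Commute z c := fun z hz c hc =>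
    Subgroup.mem_centralizer_iff.1 hc.2 z hz.1
  have hcoe : ∀ c ∈ (centralizerIn S P), apl δ c = c * (c⁻¹ * apl δ c) := fun c _ => (mul_inv_cancel_left _ _).symm
  let Fx : Subgroup Ω :=
    { carrier := {c | c ∈ (centralizerIn S P) ∧ apl δ c = c}
      mul_mem' := fun {a b} ha hb => ⟨(centralizerIn S P).mul_mem ha.1 hb.1,
        by rw [hh.1.map_mul (hCN ha.1) (hCN hb.1), ha.2, hb.2]⟩
      one_mem' := ⟨(centralizerIn S P).one_mem, hh.1.map_one⟩
      inv_mem' := fun {a} ha => ⟨(centralizerIn S P).inv_mem ha.1, by rw [hh.1.map_inv (hCN ha.1), ha.2]⟩ }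
  -- commutators of `(centralizerIn S P)` are fixed
  have hcomm : ⁅(centralizerIn S P), (centralizerIn S P)⁆ ≤ Fx := by
    rw [Subgroup.commutator_le]
    intro a ha b hb
    obtain ⟨u, hu, hau⟩ : ∃ u ∈ P ⊓ (centralizerIn S P), apl δ a = a * u := ⟨_, hz a ha, hcoe a ha⟩
    obtain ⟨v, hv, hbv⟩ : ∃ v ∈ P ⊓ (centralizerIn S P), apl δ b = b * v := ⟨_, hz b hb, hcoe b hb⟩
    refine ⟨(centralizerIn S P).mul_mem ((centralizerIn S P).mul_mem ((centralizerIn S P).mul_mem ha hb) ((centralizerIn S P).inv_mem ha)) ((centralizerIn S P).inv_mem hb), ?_⟩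
    rw [commutatorElement_def, hh.1.map_mul (hCN ((centralizerIn S P).mul_mem ((centralizerIn S P).mul_mem ha hb) ((centralizerIn S P).inv_mem ha)))
      (hCN ((centralizerIn S P).inv_mem hb)), hh.1.map_mul (hCN ((centralizerIn S P).mul_mem ha hb)) (hCN ((centralizerIn S P).inv_mem ha)),
      hh.1.map_mul (hCN ha) (hCN hb), hh.1.map_inv (hCN ha), hh.1.map_inv (hCN hb), hau, hbv]
    have e1 : Commute u (b * v) := hcen u hu _ ((centralizerIn S P).mul_mem hb hv.2)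
    have e2 : Commute v a⁻¹ := hcen v hv _ ((centralizerIn S P).inv_mem ha)
    calc a * u * (b * v) * (a * u)⁻¹ * (b * v)⁻¹
        = a * (u * (b * v)) * u⁻¹ * a⁻¹ * v⁻¹ * b⁻¹ := by group
      _ = a * b * (v * a⁻¹) * v⁻¹ * b⁻¹ := by rw [e1.eq]; group
      _ = a * b * a⁻¹ * b⁻¹ := by rw [e2.eq]; group
  -- Alperin's theorem in `C_F(P)`
  have hDsat : (centralizerSys F hP.1).IsSaturated p :=
    centralizerSystem_saturated hS hF hP (isCentralizerSystem_centralizerSys hP.1)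
  have hCp : IsPGroup p (centralizerIn S P) := hS.to_le hCS
  refine ((focal_le_iff (D := Fx)).2 (fun Q f hf x hx => ?_) hy).2
  refine (alperin_induction hCp hDsat (subRel_diff (F := centralizerSys F hP.1) hcomm) (fun R hR α hα => ?_)
    Q f hf).2.2 x hx
  have hRC : R ≤ (centralizerIn S P) := hR.elim (fun e => e.le) fun e => e.1.1
  haveI : Finite R := finite_of_le (hRC.trans hCS)
  have hRn : (centralizerSys F hP.1).IsFullyNormalized R := by
    rcases hR with e | h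
    · rw [e]
      exact ⟨le_rfl, fun Q hQ => by
        rw [show Q = centralizerIn S P from
          eq_of_le_of_card le_rfl (isConj_le_right hQ) (isConj_card_eq hQ).le]⟩
    · exact h.2.1
  have hZR : P ⊓ (centralizerIn S P) ≤ R := by
    have hself : centralizerIn (centralizerIn S P) R ≤ R := by
      rcases hR with e | h
      · rw [e]; exact centralizerIn_le _ _
      · exact centric_self h.1
    exact fun z hz => hself ⟨hz.2, Subgroup.mem_centralizer_iff.2 fun r hr =>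
      (hcen z hz r (hRC hr)).eq.symm⟩
  -- `δ` restricted to `R`
  have hδR : ∀ x ∈ R, apl δ x ∈ R := fun x hx => by
    rw [hcoe x (hRC hx)]; exact R.mul_mem hx (hZR (hz x (hRC hx)))
  have hmorR := hh.1.mono (hRC.trans hCN)
  have hisoR : Iso F R R (apl δ) := ⟨hmorR, fun y =>
    ⟨fun hy => hmorR.surj_of_card (hRC.trans hCS) hδR le_rfl hy, fun ⟨x, hx, hxy⟩ => hxy ▸ hδR x hx⟩⟩
  obtain ⟨d, hdF, hd⟩ := hisoR.exists_mem_autGroup
  have hdpow : ∀ n : ℕ, ∀ x ∈ R, apl (d ^ n) x = apl (δ ^ n) x := fun n x hx =>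
    (apl_pow (hRC.trans hCN) (fun x hx => (hd x hx).symm) n x hx).symm
  have hdord : (orderOf d).Coprime p := by
    refine Nat.Coprime.coprime_dvd_left (orderOf_dvd_of_pow_eq_one (apl_ext fun x hx => ?_)) hord
    rw [hdpow _ x hx, pow_orderOf_eq_one, apl_one (hCN (hRC hx)), apl_one hx]
  set A := (centralizerSys F hP.1).autGroup R with hA
  have hAmor : ∀ a ∈ A, Mor F R (apl a) ∧ CRel F P R (apl a) := fun a ha =>
    mor_cSys.1 (iso_apl hRC ha).1
  have hAZ : ∀ a ∈ A, ∀ z ∈ P ⊓ (centralizerIn S P), apl a z = z := by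
    intro a ha z hz
    obtain ⟨-, -, -, g, hg, hga, hgP⟩ := hAmor a ha
    rw [← hga z (hZR hz), hgP z hz.1]
  have hAmul : ∀ a ∈ A, ∀ x ∈ R, ∀ y ∈ R, apl a (x * y) = apl a x * apl a y := fun a ha x hx y hy =>
    (hAmor a ha).1.map_mul hx hy
  -- `d` normalizes `A`
  have hdA : ∀ a ∈ A, d * a * d⁻¹ ∈ A := by
    intro a ha
    obtain ⟨R', hR', hcr⟩ := cRel_conj hh hh' hh'h le_sup_left hCN hPP (hAmor a ha).2
    obtain rfl : R' = R := hR'.eq_image hisoR
    have heq : ∀ y ∈ R', apl (d * a * d⁻¹) y = apl δ (apl a (h' y)) := by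
      intro y hy
      obtain ⟨x, hx, rfl⟩ := hisoR.exists_eq hy
      rw [hh'h x (hCN (hRC hx)), apl_mul _ _ (hδR x hx), ← hd x hx, apl_inv_apl d hx,
        apl_mul _ _ hx, hd _ (apl_mem a hx)]
    refine Subgroup.subset_closure (Set.mem_setOf.2 (mem_hom_iff.2 ?_))
    have hF' : d * a * d⁻¹ ∈ F.autGroup R' := mul_mem (mul_mem hdF
      ((mem_autGroup_iff (hRC.trans hCS)).2 ⟨(hAmor a ha).1, (iso_apl hRC ha).2⟩)) (inv_mem hdF)
    refine (mor_cSys.2 ⟨(iso_apl (hRC.trans hCS) hF').1, hcr.congr fun y hy => ?_⟩).congr fun y hy =>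
      ((extendFn_apply _ hy).trans (apl_apply _ hy).symm)
    exact heq y hy
  -- the elements of `A` trivial modulo `P ⊓ (centralizerIn S P)`
  let M : Subgroup (MulAut R) :=
    { carrier := {a | a ∈ A ∧ ∀ x ∈ R, x⁻¹ * apl a x ∈ P ⊓ (centralizerIn S P)}
      mul_mem' := by
        rintro a b ⟨ha, ha'⟩ ⟨hb, hb'⟩
        refine ⟨A.mul_mem ha hb, fun x hx => ?_⟩
        rw [apl_mul _ _ hx]
        have h1 := Subgroup.mul_mem _ (hb' x hx) (ha' _ (apl_mem b hx))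
        rwa [mul_assoc, mul_inv_cancel_left] at h1
      one_mem' := ⟨A.one_mem, fun x hx => by rw [apl_one hx, inv_mul_cancel]; exact Subgroup.one_mem _⟩
      inv_mem' := by
        rintro a ⟨ha, ha'⟩
        refine ⟨A.inv_mem ha, fun x hx => ?_⟩
        have h1 := Subgroup.inv_mem _ (ha' _ (apl_mem a⁻¹ hx))
        rwa [apl_apl_inv a hx, mul_inv_rev, inv_inv] at h1 }
  have hMp : IsPGroup p M := by
    rintro ⟨n, hn, hn'⟩
    obtain ⟨k, hk⟩ : ∃ k, Nat.card (centralizerIn S P) = p ^ k := IsPGroup.iff_card.1 hCp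
    refine ⟨k, Subtype.ext (apl_ext fun x hx => ?_)⟩
    obtain ⟨u, hu, hxu⟩ : ∃ u ∈ P ⊓ (centralizerIn S P), apl n x = x * u :=
      ⟨_, hn' x hx, (mul_inv_cancel_left _ _).symm⟩
    have hit : ∀ j : ℕ, apl (n ^ j) x = x * u ^ j := by
      intro j
      induction j with
      | zero => rw [pow_zero, pow_zero, apl_one hx, mul_one]
      | succ j ih =>
        rw [pow_succ', apl_mul _ _ hx, ih, hAmul n hn _ hx _ (R.pow_mem (hZR hu) j), hxu,
          hAZ n hn _ (Subgroup.pow_mem _ hu j), pow_succ' u, mul_assoc]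
    show apl (n ^ p ^ k) x = apl 1 x
    rw [hit, apl_one hx, ← hk,
      show u ^ Nat.card (centralizerIn S P) = 1 from congrArg Subtype.val (pow_card_eq_one' (x := (⟨u, hu.2⟩ : (centralizerIn S P)))),
      mul_one]
  have hMA : M ≤ A := fun a ha => ha.1
  haveI : Finite (MulAut R) := Finite.of_injective _ MulEquiv.toEquiv_injective
  -- `M` is induced by `(centralizerIn S P)`
  have hMinn : ∀ n ∈ M, ∀ x ∈ R, x⁻¹ * apl n x ∈ Fx := by
    intro n hn x hx
    obtain ⟨Sy, hSy⟩ := (fullyAutomized_of_fullyNormalized hCp hDsat hRn).2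
    haveI : (M.subgroupOf A).Normal := ⟨fun m hm a => by
      refine Subgroup.mem_subgroupOf.2 ⟨(a * m * a⁻¹ : A).2, fun y hy => ?_⟩
      rw [Subgroup.coe_mul, Subgroup.coe_mul, Subgroup.coe_inv, apl_mul _ _ hy,
        apl_mul _ _ (apl_mem _ hy)]
      have hy' := apl_mem (a : MulAut R)⁻¹ hy
      have h1 := (Subgroup.mem_subgroupOf.1 hm).2 _ hy'
      obtain ⟨u, hu, hmu⟩ : ∃ u ∈ P ⊓ (centralizerIn S P), apl (m : MulAut R) (apl (a : MulAut R)⁻¹ y) =
          apl (a : MulAut R)⁻¹ y * u := ⟨_, h1, (mul_inv_cancel_left _ _).symm⟩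
      rw [hmu, hAmul _ a.2 _ hy' _ (hZR hu), apl_apl_inv _ hy, inv_mul_cancel_left, hAZ _ a.2 _ hu]
      exact hu⟩
    have hle : M.subgroupOf A ≤ (Sy : Subgroup A) := by
      obtain ⟨Sy', hSy'⟩ := (hMp.comap_subtype (K := A)).exists_le_sylow
      obtain ⟨g, hg⟩ := MulAction.exists_smul_eq A Sy' Sy
      rw [← hg, Sylow.coe_subgroup_smul]
      intro m hm
      rw [Subgroup.mem_pointwise_smul_iff_inv_smul_mem]
      refine hSy' ?_
      have := ‹(M.subgroupOf A).Normal›.conj_mem m hm g⁻¹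
      simpa using this
    have h1 := hle (show (⟨n, hMA hn⟩ : A) ∈ M.subgroupOf A from hn)
    rw [hSy, Subgroup.mem_subgroupOf] at h1
    obtain ⟨c, hc, -, hcx⟩ := mem_autInducedBy_iff.1 h1
    rw [hcx x hx]
    refine hcomm ?_
    have h := Subgroup.commutator_mem_commutator ((centralizerIn S P).inv_mem (hRC hx)) hc
    rwa [commutatorElement_def, inv_inv, mul_assoc, mul_assoc, ← mul_assoc c] at h
  -- `⟨d⟩` acts trivially on `A / M`
  have hdM : ∀ m ∈ M, d * m * d⁻¹ ∈ M := by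
    rintro m ⟨hm, hm'⟩
    refine ⟨hdA m hm, fun x hx => ?_⟩
    have hx' := apl_mem d⁻¹ hx
    obtain ⟨u, hu, hmu⟩ : ∃ u ∈ P ⊓ (centralizerIn S P), apl m (apl d⁻¹ x) = apl d⁻¹ x * u :=
      ⟨_, hm' _ hx', (mul_inv_cancel_left _ _).symm⟩
    rw [apl_mul _ _ hx, apl_mul _ _ hx', hmu, hd _ (R.mul_mem hx' (hZR hu)),
      hh.1.map_mul (hCN (hRC hx')) (hCN hu.2), ← hd _ hx', apl_apl_inv _ hx, inv_mul_cancel_left]
    exact ⟨hPP.mem hu.1, hδC u hu.2⟩
  have hdn : Subgroup.zpowers d ≤ Subgroup.normalizer (M : Set (MulAut R)) := by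
    refine Subgroup.zpowers_le.2 (mem_normalizer_of_maps hdM)
  have hA' : ∀ a ∈ A, a⁻¹ * (d * a * d⁻¹) ∈ M := by
    intro a ha
    refine ⟨A.mul_mem (A.inv_mem ha) (hdA a ha), fun x hx => ?_⟩
    have hy := apl_mem d⁻¹ hx
    set y := apl d⁻¹ x with hydef
    obtain ⟨u, hu, hxu⟩ : ∃ u ∈ P ⊓ (centralizerIn S P), x = y * u := ⟨y⁻¹ * apl δ y, hz y (hRC hy), by
      rw [mul_inv_cancel_left, ← hd y hy, hydef, apl_apl_inv d hx]⟩
    have hay := apl_mem a hy
    obtain ⟨v, hv, hav⟩ : ∃ v ∈ P ⊓ (centralizerIn S P), apl δ (apl a y) = apl a y * v :=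
      ⟨_, hz _ (hRC hay), hcoe _ (hRC hay)⟩
    rw [apl_mul _ _ hx, apl_mul _ _ hx, apl_mul _ _ hy, hd _ hay, hav,
      hAmul _ (A.inv_mem ha) _ hay _ (hZR hv), apl_inv_apl a hy, hAZ _ (A.inv_mem ha) _ hv, hxu,
      mul_inv_rev, mul_assoc, inv_mul_cancel_left]
    exact Subgroup.mul_mem _ (Subgroup.inv_mem _ hu) hv
  have hcop : (Nat.card (Subgroup.zpowers d)).Coprime (Nat.card M) := by
    rw [Nat.card_zpowers]
    obtain ⟨e, he⟩ := IsPGroup.iff_card.1 hMp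
    rw [he]
    exact Nat.Coprime.pow_right e hdord
  obtain ⟨n, hn, hfix⟩ := Cfsg.Agent.Coprime.exists_fixed_mem_leftCoset hdn hcop
    (Or.inl inferInstance) (k := α) (fun b hb => by
      obtain ⟨j, rfl⟩ := (Submonoid.mem_powers_iff _ _).1 (mem_powers_iff_mem_zpowers.2 hb)
      induction j with
      | zero => simp [Subgroup.one_mem]
      | succ j ih =>
        have e : α⁻¹ * (d ^ (j + 1) * α * (d ^ (j + 1))⁻¹) =
            α⁻¹ * (d * α * d⁻¹) * (d * (α⁻¹ * (d ^ j * α * (d ^ j)⁻¹)) * d⁻¹) := by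
          rw [pow_succ']; group
        rw [e]
        exact M.mul_mem (hA' α hα) (hdM _ (ih (Subgroup.pow_mem _ (Subgroup.mem_zpowers d) j))))
  refine ⟨hRC, fun x hx => hRC (apl_mem α hx), fun x hx => ?_⟩
  have hb : α * n ∈ A := A.mul_mem hα (hMA hn)
  have hx' := apl_mem n⁻¹ hx
  have h1 : (apl n⁻¹ x)⁻¹ * apl (α * n) (apl n⁻¹ x) ∈ Fx := by
    have hxb := apl_mem (α * n) hx'
    refine ⟨(centralizerIn S P).mul_mem ((centralizerIn S P).inv_mem (hRC hx')) (hRC hxb), ?_⟩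
    obtain ⟨u, hu, hxu⟩ : ∃ u ∈ P ⊓ (centralizerIn S P), apl δ (apl n⁻¹ x) = apl n⁻¹ x * u :=
      ⟨_, hz _ (hRC hx'), hcoe _ (hRC hx')⟩
    have hc : apl δ (apl (α * n) (apl n⁻¹ x)) = apl (α * n) (apl δ (apl n⁻¹ x)) := by
      rw [← hd _ hxb, ← hd _ hx', ← apl_mul _ _ hx', ← apl_mul _ _ hx',
        Subgroup.mem_centralizer_iff.1 hfix d (Subgroup.mem_zpowers d)]
    rw [hh.1.map_mul (hCN ((centralizerIn S P).inv_mem (hRC hx'))) (hCN (hRC hxb)), hh.1.map_inv (hCN (hRC hx')),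
      hc, hxu, hAmul _ hb _ hx' _ (hZR hu), hAZ _ hb _ hu, mul_inv_rev,
      (hcen u hu _ (hRC hxb)).eq.symm, mul_assoc u⁻¹,
      ← mul_assoc _ u, ((hcen u hu _ ((centralizerIn S P).inv_mem (hRC hx'))).eq).symm, mul_assoc u,
      inv_mul_cancel_left]
  have h2 := hMinn n⁻¹ (M.inv_mem hn) x hx
  have h3 := Fx.mul_mem h2 h1
  rwa [mul_assoc, mul_inv_cancel_left, ← apl_mul _ _ hx, mul_inv_cancel_right] at h3

/-- Extensions trivial modulo `P` give maps centralizing any `X ≤ foc(C_F(P))` centralizing `T`. -/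
theorem cRel_of_ext {E : FusionSystem T} (hEF : E.IsSubsystemOf F) (hTS : T ≤ S)
    (hX : X ≤ centralizerIn S T) (hPT : P ≤ T) (hPc : F.IsFullyCentralized P)
    (hXfix : ∀ γ ∈ F.autGroup (P ⊔ centralizerIn S P), Iso F P P (apl γ) →
      (∃ a ∈ E.autGroup P, ∀ x ∈ P, apl γ x = apl a x) →
      (∀ c ∈ centralizerIn S P, c⁻¹ * apl γ c ∈ P) → (orderOf γ).Coprime p →
      ∀ x ∈ X, apl γ x = x)
    (hA : E.IsFullyAutomized p P) (hTP : centralizerIn T P ≤ P)
    (hTn : S ≤ Subgroup.normalizer (T : Set Ω)) {δ : MulAut ↥(P ⊔ centralizerIn S P)}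
    (hδ : δ ∈ F.autGroup (P ⊔ centralizerIn S P)) {α : MulAut P} (hα : α ∈ E.autGroup P)
    (hδα : ∀ x ∈ P, apl δ x = apl α x) (hmod : ∀ c ∈ centralizerIn S P, c⁻¹ * apl δ c ∈ P) :
    CRel F X P (apl α) := by
  classical
  have hNS : (P ⊔ centralizerIn S P) ≤ S := sup_le hPc.1 (centralizerIn_le S P)
  have hPN : P ≤ (P ⊔ centralizerIn S P) := le_sup_left
  have hCN : centralizerIn S P ≤ (P ⊔ centralizerIn S P) := le_sup_right
  haveI : Finite ↥(P ⊔ centralizerIn S P) := finite_of_le hNS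
  haveI : Finite P := finite_of_le hPc.1
  haveI : Finite (MulAut ↥(P ⊔ centralizerIn S P)) := Finite.of_injective _ MulEquiv.toEquiv_injective
  haveI : Finite (MulAut P) := Finite.of_injective _ MulEquiv.toEquiv_injective
  let H : Subgroup (MulAut ↥(P ⊔ centralizerIn S P)) :=
    { carrier := {γ | γ ∈ F.autGroup (P ⊔ centralizerIn S P) ∧ (∃ a ∈ E.autGroup P, ∀ x ∈ P, apl γ x = apl a x) ∧
        ∀ c ∈ centralizerIn S P, c⁻¹ * apl γ c ∈ P}
      mul_mem' := by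
        rintro γ γ' ⟨h1, ⟨a, ha, hax⟩, h3⟩ ⟨h1', ⟨a', ha', ha'x⟩, h3'⟩
        refine ⟨mul_mem h1 h1', ⟨a * a', mul_mem ha ha', fun x hx => ?_⟩, fun c hc => ?_⟩
        · rw [apl_mul _ _ (hPN hx), ha'x x hx, hax _ (apl_mem a' hx), apl_mul _ _ hx]
        · rw [apl_mul _ _ (hCN hc), ← mul_inv_cancel_left c (apl γ' c),
            (iso_apl hNS h1).1.map_mul (hCN hc) (hPN (h3' c hc)), ← mul_assoc]
          refine P.mul_mem (h3 c hc) ?_
          rw [hax _ (h3' c hc)]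
          exact apl_mem a (h3' c hc)
      one_mem' := ⟨one_mem _, ⟨1, one_mem _, fun x hx => by rw [apl_one hx, apl_one (hPN hx)]⟩,
        fun c hc => by rw [apl_one (hCN hc), inv_mul_cancel]; exact P.one_mem⟩
      inv_mem' := by
        rintro γ ⟨h1, ⟨a, ha, hax⟩, h3⟩
        refine ⟨inv_mem h1, ⟨a⁻¹, inv_mem ha, fun x hx => ?_⟩, fun c hc => ?_⟩
        · conv_lhs => rw [← apl_apl_inv a hx, ← hax _ (apl_mem _ hx),
            apl_inv_apl γ (hPN (apl_mem a⁻¹ hx))]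
        · have hd : apl γ⁻¹ c ∈ centralizerIn S P := by
            have hg := iso_apl hNS (inv_mem h1)
            refine hg.1.mem_centralizerIn hPN (show Iso F P P (apl γ⁻¹) from ?_) (hCN hc) hc.2
            refine (iso_apl hPc.1 (α := a⁻¹) ?_).congr fun x hx => ?_
            · exact inv_mem (Subgroup.subset_closure
                ((hEF P) ((iso_apl hPT ha).1.hom_eq fun x => (apl_coe a x).symm)))
            · conv_lhs => rw [← apl_apl_inv a hx, ← hax _ (apl_mem _ hx),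
                apl_inv_apl γ (hPN (apl_mem a⁻¹ hx))]
          have h4 := P.inv_mem (h3 _ hd)
          rwa [apl_apl_inv γ (hCN hc), mul_inv_rev, inv_inv] at h4 }
  have hPP : ∀ γ ∈ H, Iso F P P (apl γ) := by
    rintro γ ⟨-, ⟨a, ha, hax⟩, -⟩
    refine (iso_apl hPc.1 (α := a) ?_).congr hax
    exact Subgroup.subset_closure ((hEF P) ((iso_apl hPT ha).1.hom_eq fun x => (apl_coe a x).symm))
  -- restriction to `P`
  let res : H →* MulAut P := MonoidHom.mk' (fun γ => γ.2.2.1.choose) fun γ γ' => apl_ext fun x hx => by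
    rw [← (γ * γ').2.2.1.choose_spec.2 x hx, apl_mul _ _ hx,
      ← γ'.2.2.1.choose_spec.2 x hx, ← γ.2.2.1.choose_spec.2 _ ((hPP γ' γ'.2).mem hx)]
    exact apl_mul _ _ (hPN hx)
  have hres : ∀ (γ : H), res γ ∈ E.autGroup P ∧ ∀ x ∈ P, apl (γ : MulAut ↥(P ⊔ centralizerIn S P)) x = apl (res γ) x :=
    fun γ => γ.2.2.1.choose_spec
  have hCX : X ≤ centralizerIn S P := hX.trans fun c hc => ⟨hc.1, Subgroup.centralizer_le hPT hc.2⟩
  have hPSX : P ≤ centralizerIn S X := fun x hx => ⟨hPc.1 hx, Subgroup.mem_centralizer_iff.2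
    fun c hc => ((Subgroup.mem_centralizer_iff.1 (hX hc).2) x (hPT hx)).symm⟩
  have hXS : X ≤ S := hX.trans (centralizerIn_le S T)
  -- the good elements
  let K : Subgroup H :=
    { carrier := {γ | CRel F X P (apl (res γ))}
      mul_mem' := by
        intro γ γ' h h'
        refine CRel.congr ((subRel_cRel hXS).comp ((hPP γ' γ'.2).1.congr fun x hx =>
          ((hres γ').2 x hx).symm) h' ((hPP γ γ.2).1.congr fun x hx => ((hres γ).2 x hx).symm) h
          fun x hx => apl_mem _ hx) fun x hx => ?_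
        rw [map_mul, apl_mul _ _ hx]
        rfl
      one_mem' := by
        show CRel F X P (apl (res 1))
        rw [map_one]
        exact ⟨hPSX, fun x hx => by rw [apl_one hx]; exact hPSX hx,
          id, mor_id (sup_le hPc.1 hXS), fun x hx => (apl_one hx).symm, fun _ _ => rfl⟩
      inv_mem' := by
        intro γ h
        refine (subRel_cRel hXS).inv ((hPP γ γ.2).congr fun x hx => ((hres γ).2 x hx).symm) h
          ((hPP (γ⁻¹ : H) (γ⁻¹ : H).2).congr fun x hx => ((hres γ⁻¹).2 x hx).symm) fun x hx => ?_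
        rw [map_inv, apl_inv_apl _ hx] }
  suffices hK : K = ⊤ by
    have hmem : (⟨δ, hδ, ⟨α, hα, hδα⟩, hmod⟩ : H) ∈ K := hK ▸ Subgroup.mem_top _
    refine CRel.congr hmem fun x hx => ?_
    rw [← (hres _).2 x hx]
    exact (hδα x hx).symm
  -- elements of order prime to `p`
  have hpp : ∀ γ : H, (orderOf γ).Coprime p → γ ∈ K := by
    intro γ hγ
    rw [← Subgroup.orderOf_coe] at hγ
    refine ⟨hPSX, fun x hx => hPSX (apl_mem _ hx), apl (γ : MulAut ↥(P ⊔ centralizerIn S P)),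
      (iso_apl hNS γ.2.1).1.mono (sup_le hPN (hCX.trans hCN)), (hres γ).2, fun x hx => ?_⟩
    exact hXfix _ γ.2.1 (hPP γ γ.2) γ.2.2.1 γ.2.2.2 hγ x hx
  -- the automorphisms induced by `T`
  let Ts : Subgroup H :=
    { carrier := {γ | ∃ t ∈ T, t ∈ Subgroup.normalizer (P : Set Ω) ∧
        ∀ x ∈ (P ⊔ centralizerIn S P), apl (γ : MulAut ↥(P ⊔ centralizerIn S P)) x = t * x * t⁻¹}
      mul_mem' := by
        rintro γ γ' ⟨t, ht, htn, htx⟩ ⟨t', ht', ht'n, ht'x⟩
        refine ⟨t * t', T.mul_mem ht ht', Subgroup.mul_mem _ htn ht'n, fun x hx => ?_⟩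
        rw [Subgroup.coe_mul, apl_mul _ _ hx, ht'x x hx, htx _ (ht'x x hx ▸ apl_mem _ hx)]
        group
      one_mem' := ⟨1, T.one_mem, Subgroup.one_mem _, fun x hx => by
        rw [Subgroup.coe_one, apl_one hx]; group⟩
      inv_mem' := by
        rintro γ ⟨t, ht, htn, htx⟩
        refine ⟨t⁻¹, T.inv_mem ht, Subgroup.inv_mem _ htn, fun x hx => ?_⟩
        have h1 := htx _ (apl_mem (γ : MulAut ↥(P ⊔ centralizerIn S P))⁻¹ hx)
        rw [apl_apl_inv _ hx] at h1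
        rw [Subgroup.coe_inv]
        calc apl (γ : MulAut ↥(P ⊔ centralizerIn S P))⁻¹ x
            = t⁻¹ * (t * apl (γ : MulAut ↥(P ⊔ centralizerIn S P))⁻¹ x * t⁻¹) * t⁻¹⁻¹ := by group
          _ = _ := by rw [← h1] }
  have hTsp : IsPGroup p Ts := by
    rintro ⟨γ, t, ht, htn, htx⟩
    obtain ⟨k, hk⟩ := hS ⟨t, hTS ht⟩
    refine ⟨k, Subtype.ext (Subtype.ext (apl_ext fun x hx => ?_))⟩
    have hit : ∀ j : ℕ, apl ((γ : MulAut ↥(P ⊔ centralizerIn S P)) ^ j) x = t ^ j * x * (t ^ j)⁻¹ := by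
      intro j
      induction j with
      | zero => rw [pow_zero, apl_one hx]; simp
      | succ j ih =>
        rw [pow_succ', apl_mul _ _ hx, htx _ (apl_mem _ hx), ih, pow_succ' t]
        group
    show apl ((γ : MulAut ↥(P ⊔ centralizerIn S P)) ^ p ^ k) x = apl 1 x
    rw [hit, apl_one hx, show t ^ p ^ k = 1 from congrArg Subtype.val hk]
    group
  obtain ⟨Sy, hSy⟩ := hTsp.exists_le_sylow
  -- every element of `Aut_T(P)` comes from `Ts`
  have hTlift : ∀ t ∈ normalizerIn T P, ∃ γ ∈ Ts, ∀ x ∈ P, apl (res γ) x = t * x * t⁻¹ := by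
    intro t ht
    have htS := hTS ht.1
    have hmaps : ∀ x ∈ (P ⊔ centralizerIn S P), t * x * t⁻¹ ∈ (P ⊔ centralizerIn S P) := fun x hx => by
      exact (mor_conj (F := F) hNS htS).mem_of_sup
        (fun a ha => Subgroup.mem_sup_left ((Subgroup.mem_normalizer_iff.1 ht.2 a).1 ha))
        (fun a ha => Subgroup.mem_sup_right ((mor_conj (F := F) hNS htS).mem_centralizerIn le_sup_left
          (iso_conj_self hPc.1 htS ht.2) (Subgroup.mem_sup_right ha) ha.2)) hx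
    obtain ⟨γ, hγ, hγx⟩ := Iso.exists_mem_autGroup (show Iso F (P ⊔ centralizerIn S P) (P ⊔ centralizerIn S P) (fun x => t * x * t⁻¹) from
      ⟨mor_conj hNS htS, fun y => ⟨fun hy => (mor_conj (F := F) hNS htS).surj_of_card hNS hmaps le_rfl hy,
        fun ⟨x, hx, hxy⟩ => hxy ▸ hmaps x hx⟩⟩)
    have hisoP : Iso E P P (fun x => t * x * t⁻¹) := iso_conj_self hPT ht.1 ht.2
    obtain ⟨a, ha, hax⟩ := hisoP.exists_mem_autGroup
    refine ⟨⟨γ, hγ, ⟨a, ha, fun x hx => ?_⟩, fun c hc => ?_⟩, ⟨t, ht.1, ht.2, hγx⟩, fun x hx => ?_⟩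
    · rw [hγx x (hPN hx), hax x hx]
    · rw [hγx c (hCN hc)]
      have hd : t * c * t⁻¹ ∈ centralizerIn S P := by
        have h1 := (mor_conj (F := F) hNS htS).mem_centralizerIn hPN
          (iso_conj_self hPc.1 htS ht.2) (hCN hc) hc.2
        exact h1
      refine hTP ⟨?_, Subgroup.mul_mem _ (Subgroup.inv_mem _ hc.2) hd.2⟩
      rw [show c⁻¹ * (t * c * t⁻¹) = c⁻¹ * t * c * t⁻¹ by group]
      refine T.mul_mem ?_ (T.inv_mem ht.1)
      exact (Subgroup.mem_normalizer_iff''.1 (hTn hc.1) t).1 ht.1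
    · rw [← (hres _).2 x hx]
      exact hγx x (hPN hx)
  -- a Sylow subgroup restricts into `Aut_T(P)`
  have hSK : (Sy : Subgroup H) ≤ K := by
    obtain ⟨-, R, hR⟩ := hA
    let res' : H →* E.autGroup P := res.codRestrict _ fun γ => (hres γ).1
    have himg : ((Sy : Subgroup H).map res') = (R : Subgroup (E.autGroup P)) := by
      refine R.is_maximal' (Sy.2.map res') ?_
      intro a ha
      rw [hR, Subgroup.mem_subgroupOf] at ha
      obtain ⟨t, ht, htn, htx⟩ := mem_autInducedBy_iff.1 ha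
      obtain ⟨γ, hγ, hγx⟩ := hTlift t ⟨ht, htn⟩
      exact ⟨γ, hSy hγ, Subtype.ext (apl_ext fun x hx => (hγx x hx).trans (htx x hx).symm)⟩
    intro γ hγ
    have h1 : res' γ ∈ (R : Subgroup (E.autGroup P)) := himg ▸ Subgroup.mem_map_of_mem _ hγ
    rw [hR, Subgroup.mem_subgroupOf] at h1
    obtain ⟨t, ht, -, htx⟩ := mem_autInducedBy_iff.1 h1
    refine CRel.congr ((subRel_cRel (F := F) hXS).conj hPSX (s := t) ⟨hTS ht,
      Subgroup.mem_centralizer_iff.2 fun c hc =>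
        ((Subgroup.mem_centralizer_iff.1 (hX hc).2) t ht).symm⟩).2 fun x hx => ?_
    exact htx x hx
  by_contra hne
  obtain ⟨r, hr, hrd⟩ := Nat.exists_prime_and_dvd (fun h => hne (Subgroup.index_eq_one.1 h))
  haveI := Fact.mk hr
  by_cases hrp : r = p
  · subst hrp
    exact Sy.not_dvd_index (hrd.trans (Subgroup.index_dvd_of_le hSK))
  · obtain ⟨Rr⟩ : Nonempty (Sylow r H) := inferInstance
    refine Rr.not_dvd_index (hrd.trans (Subgroup.index_dvd_of_le fun γ hγ => hpp γ ?_))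
    obtain ⟨k, hk⟩ := Rr.2 ⟨γ, hγ⟩
    refine Nat.Coprime.coprime_dvd_left (orderOf_dvd_of_pow_eq_one (congrArg Subtype.val hk))
      ((Nat.coprime_primes hr (Fact.out : p.Prime)).2 hrp |>.pow_left k)

/-- A subgroup of `C_S(T)` invariant under `Aut_F(T C_S(T))` and fixed by the extensions trivial
modulo `P` is centralized by `E`. -/
theorem subsystem_centralizes_of (E : FusionSystem T) (hE : E.IsNormalIn F p)
    (hTS : T ≤ S) (hX : X ≤ centralizerIn S T)
    (hXfix : ∀ P ≤ T, F.IsFullyCentralized P → ∀ γ ∈ F.autGroup (P ⊔ centralizerIn S P),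
      Iso F P P (apl γ) → (∃ a ∈ E.autGroup P, ∀ x ∈ P, apl γ x = apl a x) →
      (∀ c ∈ centralizerIn S P, c⁻¹ * apl γ c ∈ P) → (orderOf γ).Coprime p →
      ∀ x ∈ X, apl γ x = x)
    (hXinv : ∀ δ ∈ F.autGroup (T ⊔ centralizerIn S T), Iso F T T (apl δ) →
      ∀ x ∈ X, apl δ x ∈ X) :
    ∀ Q : Subgroup Ω, E.Hom Q ⊆ F.centralizerHom X Q := by
  classical
  obtain ⟨⟨hEs, -, hEF, hT, hinv, hfrat⟩, hext⟩ := hE
  have hTn : S ≤ Subgroup.normalizer (T : Set Ω) := StronglyClosed.le_normalizer hT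
  have hTfn : F.IsFullyNormalized T := ⟨hTS, fun Q _ => by
    rw [show normalizerIn S T = S from le_antisymm inf_le_left fun s hs => ⟨hs, hTn hs⟩]
    exact Subgroup.card_le_of_le inf_le_left⟩
  have hTc := fullyCentralized_of_fullyNormalized hS hF hTfn
  haveI : Finite T := finite_of_le hTS
  have hTp : IsPGroup p T := hS.to_le hTS
  have hXS : X ≤ S := hX.trans (centralizerIn_le S T)
  have hTX : T ≤ centralizerIn S X := fun x hx => ⟨hTS hx, Subgroup.mem_centralizer_iff.2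
    fun c hc => ((Subgroup.mem_centralizer_iff.1 (hX hc).2) x hx).symm⟩
  have hmorF : ∀ {Q f}, Mor E Q f → Mor F Q f := fun {Q f} h => by
    obtain ⟨φ, hφ, hφf⟩ := h; exact ⟨φ, hEF Q hφ, hφf⟩
  have hisoF : ∀ {Q Q' f}, Iso E Q Q' f → Iso F Q Q' f := fun h => ⟨hmorF h.1, h.2⟩
  have hM : SubRel E T (fun Q f => Q ≤ T ∧ (∀ x ∈ Q, f x ∈ T) ∧ CRel F X Q f) :=
    { congr := fun {Q f g} h he => ⟨h.1, fun x hx => he x hx ▸ h.2.1 x hx, CRel.congr h.2.2 he⟩
      le := fun h => ⟨h.1, h.2.1⟩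
      conj := fun {Q s} hQ hs => ⟨mor_conj hQ hs, hQ,
        fun x hx => T.mul_mem (T.mul_mem hs (hQ hx)) (T.inv_mem hs),
        ((subRel_cRel (F := F) hXS).conj (hQ.trans hTX) (hTX hs)).2⟩
      comp := fun {Q R f g} hf h1 hg h2 hfR => ⟨h1.1, fun x hx => h2.2.1 _ (hfR x hx),
        (subRel_cRel (F := F) hXS).comp (hmorF hf) h1.2.2 (hmorF hg) h2.2.2 hfR⟩
      inv := fun {Q R f g} hf h1 hg hgf => ⟨hg.left_le, fun x hx => h1.1 (hg.mem hx),
        (subRel_cRel (F := F) hXS).inv (hisoF hf) h1.2.2 (hisoF hg) hgf⟩ }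
  suffices h : E ≤ subSys hM by
    intro Q φ hφ
    rw [mem_centralizerHom_iff]
    exact ⟨hEF Q hφ, ((mor_subSys hM).1 (le_iff_mor.1 h Q _ (mor_extendFn hφ))).2.2.2⟩
  refine le_of_aut_le' hTp hEs fun R hR hbig γ hγ => ?_
  have hRT : R ≤ T := hR.elim (fun e => e.le) fun e => e.1.1
  suffices h : CRel F X R (apl γ) by
    exact Subgroup.subset_closure (((mor_subSys hM).2 ⟨(iso_apl hRT hγ).1, hRT,
      fun x hx => hRT (apl_mem γ hx), h⟩).hom_eq fun x => (apl_coe γ x).symm)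
  by_cases hRT' : R = T
  · subst hRT'
    -- `R = T`
    obtain ⟨δ, hδ, hδγ, hδc⟩ := hext γ hγ
    have hTC : centralizerIn R R ≤ R := centralizerIn_le _ _
    refine cRel_of_ext hS hF hEF hTS hX le_rfl hTc (hXfix _ le_rfl hTc)
      (fullyAutomized_of_fullyNormalized hTp hEs ⟨le_rfl, fun Q hQ => by
        rw [show Q = R from eq_of_le_of_card le_rfl (isConj_le_right hQ) (isConj_card_eq hQ).le]⟩)
      hTC hTn hδ hγ (fun x hx => ?_) fun c hc => ?_
    · rw [apl_apply _ (Subgroup.mem_sup_left hx), apl_apply _ hx]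
      exact hδγ ⟨x, hx⟩
    · rw [apl_apply _ (Subgroup.mem_sup_right hc)]
      exact (hδc ⟨c, Subgroup.mem_sup_right hc⟩ hc).1
  -- an essential subgroup: pass to a fully normalized conjugate
  replace hR := hR.resolve_left hRT'
  have hRlt : R < T := lt_of_le_of_ne hRT hRT'
  obtain ⟨P, g, hPn, hg, hgP, -⟩ := exists_fullyNormalized_mor hS hF (hRT.trans hTS) (P := R)
  have hPT : P ≤ T := fun y hy => by
    obtain ⟨x, hx, rfl⟩ := hgP.exists_eq hy
    exact StronglyClosed.mor_mem hT hgP.1 hx (hRT hx)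
  have hPc := fullyCentralized_of_fullyNormalized hS hF hPn
  set NR := normalizerIn T R with hNR
  have hNRle : NR ≤ normalizerIn S R := fun x hx => ⟨hTS hx.1, hx.2⟩
  have hNRT : NR ≤ T := normalizerIn_le T R
  have hRN : R ≤ NR := le_normalizerIn hRT
  have hcard : Nat.card R < Nat.card NR := card_lt_of_lt' hNRT (lt_normalizerIn hTp hRlt)
  obtain ⟨φ, hφ, hφg⟩ := hg.mono hNRle
  obtain ⟨a, ha, φ₀, hφ₀, hφa⟩ := hfrat NR hNRT φ hφ
  set e := extendFn φ₀ with he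
  have heM : Mor E NR e := mor_extendFn hφ₀
  have heT : ∀ x ∈ NR, e x ∈ T := fun x hx => heM.mem_S hx
  have hga : ∀ x ∈ NR, g x = apl a (e x) := fun x hx => by
    rw [← hφg ⟨x, hx⟩, apl_apply a (heT x hx)]
    have := hφa ⟨x, hx⟩ (by rw [← extendFn_coe φ₀]; exact heT x hx)
    rw [this]
    congr 3
    exact (extendFn_coe φ₀ ⟨x, hx⟩).symm
  have heC : CRel F X NR e := ((mor_subSys hM).1 (hbig NR e hcard heM)).2.2.2
  obtain ⟨R₀, hR₀⟩ := (heM.mono hRN).exists_iso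
  have hR₀T : R₀ ≤ T := hR₀.right_le
  have haR₀ : Iso F R₀ P (apl a) := by
    refine ⟨(iso_apl hTS ha).1.mono hR₀T, fun y => ⟨fun hy => ?_, fun ⟨z, hz, hzy⟩ => ?_⟩⟩
    · obtain ⟨x, hx, rfl⟩ := hgP.exists_eq hy
      exact ⟨e x, hR₀.mem hx, (hga x (hRN hx)).symm⟩
    · obtain ⟨x, hx, rfl⟩ := hR₀.exists_eq hz
      rw [← hzy, ← hga x (hRN hx)]
      exact hgP.mem hx
  -- transport of `E` by `a`
  have htrans : ∀ {Q Q' : Subgroup Ω} {f : Ω → Ω}, Mor E Q f → Iso F Q Q' (apl a) →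
      Mor E Q' (apl a ∘ f ∘ apl a⁻¹) := by
    intro Q Q' f hf hQ'
    have hQT : Q ≤ T := hf.le
    obtain ⟨ψ, hψ, hψf⟩ := hf
    obtain ⟨χ, hχ, hχx⟩ := hinv Q hQT ψ hψ a ha
    have hmap : ((Q.subgroupOf T).map (T.subtype.comp a.toMonoidHom)) = Q' := by
      ext y
      rw [hQ'.2 y]
      constructor
      · rintro ⟨x, hx, rfl⟩
        exact ⟨x, hx, apl_coe a x⟩
      · rintro ⟨x, hx, rfl⟩
        exact ⟨⟨x, hQT hx⟩, hx, (apl_apply a (hQT hx)).symm⟩
    refine hmap ▸ ⟨χ, hχ, fun y => ?_⟩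
    obtain ⟨y, hy⟩ := y
    obtain ⟨x, hx, rfl⟩ := id hy
    have hxQ : (x : Ω) ∈ Q := hx
    have hfx : ψ ⟨(x : Ω), hxQ⟩ ∈ T := (E.le_of_mem hψ).2 _
    refine (hχx ⟨(x : Ω), hxQ⟩ hfx hy).trans ?_
    show _ = apl a (f (apl a⁻¹ ((a x : T) : Ω)))
    rw [← apl_coe a x, apl_inv_apl a x.2, ← hψf ⟨(x : Ω), hxQ⟩, apl_apply a hfx]
  -- `γ` moved to `R₀` and then to `P`
  obtain ⟨e', he', he'e, hee'⟩ := hR₀.symm
  obtain ⟨γ₀, hγ₀, hγ₀x⟩ := ((he'.comp (iso_apl hRT hγ)).comp hR₀).exists_mem_autGroup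
  have hP0 : ∀ y ∈ P, apl a⁻¹ y ∈ R₀ := fun y hy => by
    obtain ⟨z, hz, rfl⟩ := haR₀.exists_eq hy
    rw [apl_inv_apl a (hR₀T hz)]; exact hz
  obtain ⟨γ₁, hγ₁, hγ₁x⟩ : ∃ γ₁ ∈ E.autGroup P, ∀ y ∈ P, apl γ₁ y = apl a (apl γ₀ (apl a⁻¹ y)) := by
    have hm : ∀ y ∈ P, apl a (apl γ₀ (apl a⁻¹ y)) ∈ P := fun y hy =>
      haR₀.mem (apl_mem γ₀ (hP0 y hy))
    have hmor := htrans (iso_apl hR₀T hγ₀).1 haR₀
    exact Iso.exists_mem_autGroup (show Iso E P P (apl a ∘ apl γ₀ ∘ apl a⁻¹) from ⟨hmor, fun y =>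
      ⟨fun hy => hmor.surj_of_card hPT hm le_rfl hy, fun ⟨x, hx, hxy⟩ => hxy ▸ hm x hx⟩⟩)
  -- the key step at `P`
  have hTP : centralizerIn T P ≤ P := by
    intro y hy
    obtain ⟨z, hz⟩ : ∃ z, z = apl a⁻¹ y := ⟨_, rfl⟩
    have hzT : z ∈ T := hz ▸ apl_mem a⁻¹ hy.1
    have hy' : apl a z = y := by rw [hz, apl_apl_inv a hy.1]
    have hzc : z ∈ centralizerIn T R₀ := ⟨hzT, (iso_apl hTS ha).1.centralizes_of_image hR₀T haR₀
      hzT (by rw [hy']; exact hy.2)⟩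
    rw [← hy']
    exact haR₀.mem (hR.1.2 R₀ hR₀.isConj hzc)
  have hPlt : P < T := lt_of_le_of_ne hPT fun h => hRlt.ne
    (eq_of_le_of_card le_rfl hRT (by rw [← h, hgP.card_eq]) )
  have hPEn : E.IsFullyNormalized P := fullyNormalized_sub hS hF hT hEF hPT hPn
  have hAut := fullyAutomized_of_fullyNormalized hTp hEs hPEn
  have hkey : CRel F X P (apl γ₁) := by
    haveI : Finite P := finite_of_le hPc.1
    haveI : Finite (MulAut P) := Finite.of_injective _ MulEquiv.toEquiv_injective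
    set A := E.autGroup P
    have hAF : ∀ b ∈ A, b ∈ F.autGroup P := fun b hb =>
      Subgroup.subset_closure ((hEF P) ((iso_apl hPT hb).1.hom_eq fun x => (apl_coe b x).symm))
    let G : Subgroup A :=
      { carrier := {b | CRel F X P (apl (b : MulAut P))}
        mul_mem' := fun {b b'} h h' => CRel.congr ((subRel_cRel hXS).comp
          (hmorF (iso_apl hPT b'.2).1) h' (hmorF (iso_apl hPT b.2).1) h fun x hx => apl_mem _ hx)
          fun x hx => (apl_mul (b : MulAut P) b' hx)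
        one_mem' := ⟨hPT.trans hTX, fun x hx => by rw [Subgroup.coe_one, apl_one hx]; exact hTX (hPT hx),
          id, mor_id (sup_le hPc.1 hXS), fun x hx => (apl_one hx).symm, fun _ _ => rfl⟩
        inv_mem' := fun {b} h => (subRel_cRel hXS).inv (hisoF (iso_apl hPT b.2)) h
          (hisoF (iso_apl hPT (b⁻¹ : A).2)) fun x hx => apl_inv_apl (b : MulAut P) hx }
    suffices hG : G = ⊤ by
      have : (⟨γ₁, hγ₁⟩ : A) ∈ G := hG ▸ Subgroup.mem_top _
      exact this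
    obtain ⟨-, Sy, hSy⟩ := hAut
    -- automorphisms normalizing `Aut_T(P)` extend
    have hnorm : Subgroup.normalizer ((Sy : Subgroup A) : Set A) ≤ G := by
      intro b hb
      have hrec := receptive_of_fullyNormalized hTp hEs hPEn
      obtain ⟨k, hk, hkx⟩ := (isReceptive_iff.1 hrec).2 P _ (iso_apl hPT b.2)
      have hle : normalizerIn T P ≤ nPhi T P (apl (b : MulAut P)) := by
        intro t ht
        obtain ⟨c, hc⟩ := exists_mem_autInducedBy (P := P) ht.1 ht.2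
        have hcA : c ∈ A := autInducedBy_le_autGroup hPT hc.1
        have hcS : (⟨c, hcA⟩ : A) ∈ (Sy : Subgroup A) := by
          rw [hSy, Subgroup.mem_subgroupOf]; exact hc.1
        have h1 := (Subgroup.mem_normalizer_iff.1 hb _).1 hcS
        rw [hSy, Subgroup.mem_subgroupOf] at h1
        obtain ⟨s, hs, -, hsx⟩ := mem_autInducedBy_iff.1 h1
        refine ⟨ht.1, ht.2, s, hs, fun x hx => ?_⟩
        rw [← hsx _ (apl_mem (b : MulAut P) hx), ← hc.2 x hx]
        show _ = apl ((b : MulAut P) * c * (b : MulAut P)⁻¹) _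
        rw [apl_mul _ _ (apl_mem _ hx), apl_inv_apl _ hx, apl_mul _ _ hx]
      have hcard' : Nat.card R < Nat.card (normalizerIn T P) := by
        rw [hgP.card_eq]; exact card_lt_of_lt' (normalizerIn_le T P) (lt_normalizerIn hTp hPlt)
      have h2 := ((mor_subSys hM).1 (hbig _ k hcard' (hk.mono hle))).2.2.2
      obtain ⟨-, -, j, hj, hjk, hjX⟩ := h2
      exact ⟨hPT.trans hTX, fun x hx => hTX (hPT (apl_mem _ hx)), j,
        hj.mono (sup_le_sup_right (le_normalizerIn hPT) _),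
        fun x hx => (hjk x (le_normalizerIn hPT hx)).trans (hkx x hx), hjX⟩
    -- conjugates of `Aut_T(P)`
    let L : Subgroup A := Subgroup.normalClosure ((Sy : Subgroup A) : Set A)
    have hL : L ≤ G := by
      refine (Subgroup.closure_le _).2 fun z hz => ?_
      obtain ⟨c, hc, hcz⟩ := Group.mem_conjugatesOfSet_iff.1 hz
      obtain ⟨b, hb⟩ := _root_.isConj_iff.1 hcz
      subst hb
      rw [hSy, SetLike.mem_coe, Subgroup.mem_subgroupOf] at hc
      obtain ⟨t, ht, htn, htx⟩ := mem_autInducedBy_iff.1 hc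
      obtain ⟨δ, hδ, hδP, hδx⟩ := exists_ext hS hF hPc (hAF _ b.2)
      have hNS : (P ⊔ centralizerIn S P) ≤ S := sup_le hPc.1 (centralizerIn_le S P)
      have htS := hTS ht
      have hmaps : ∀ x ∈ (P ⊔ centralizerIn S P), t * x * t⁻¹ ∈ (P ⊔ centralizerIn S P) := fun x hx =>
        (mor_conj (F := F) hNS htS).mem_of_sup
          (fun y hy => Subgroup.mem_sup_left ((Subgroup.mem_normalizer_iff.1 htn y).1 hy))
          (fun y hy => Subgroup.mem_sup_right ((mor_conj (F := F) hNS htS).mem_centralizerIn le_sup_left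
            (iso_conj_self hPc.1 htS htn) (Subgroup.mem_sup_right hy) hy.2)) hx
      obtain ⟨σ, hσ, hσx⟩ := Iso.exists_mem_autGroup (show Iso F (P ⊔ centralizerIn S P) (P ⊔ centralizerIn S P) (fun x => t * x * t⁻¹) from
        ⟨mor_conj hNS htS, fun y => ⟨fun hy => (mor_conj (F := F) hNS htS).surj_of_card hNS hmaps le_rfl hy,
          fun ⟨x, hx, hxy⟩ => hxy ▸ hmaps x hx⟩⟩)
      refine cRel_of_ext hS hF hEF hTS hX hPT hPc (hXfix _ hPT hPc) (fullyAutomized_of_fullyNormalized hTp hEs hPEn) hTP hTn (δ := δ * σ * δ⁻¹)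
        (mul_mem (mul_mem hδ hσ) (inv_mem hδ)) (b * c * b⁻¹).2 (fun x hx => ?_) fun d hd => ?_
      · have hb' : apl δ⁻¹ x = apl (b : MulAut P)⁻¹ x := by
          conv_lhs => rw [← apl_apl_inv (b : MulAut P) hx, ← hδx _ (apl_mem _ hx),
            apl_inv_apl δ (Subgroup.mem_sup_left (apl_mem _ hx))]
        rw [Subgroup.coe_mul, Subgroup.coe_mul, Subgroup.coe_inv, apl_mul _ _ (Subgroup.mem_sup_left hx),
          apl_mul _ _ (apl_mem _ (Subgroup.mem_sup_left hx)), hb', apl_mul _ _ hx,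
          apl_mul _ _ (apl_mem _ hx), hσx _ (Subgroup.mem_sup_left (apl_mem _ hx)),
          ← htx _ (apl_mem _ hx), hδx _ (apl_mem _ (apl_mem _ hx))]
      · have hdN : d ∈ (P ⊔ centralizerIn S P) := Subgroup.mem_sup_right hd
        have hδi : Iso F P P (apl δ⁻¹) := by
          obtain ⟨k, hk, hkx, -⟩ := hδP.symm
          refine hk.congr fun y hy => ?_
          obtain ⟨x, hx, rfl⟩ := hδP.exists_eq hy
          rw [hkx x hx, apl_inv_apl δ (Subgroup.mem_sup_left hx)]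
        have hd' : apl δ⁻¹ d ∈ centralizerIn S P :=
          (iso_apl hNS (inv_mem hδ)).1.mem_centralizerIn le_sup_left hδi hdN hd.2
        have hdt : t * apl δ⁻¹ d * t⁻¹ ∈ centralizerIn S P :=
          (mor_conj (F := F) hNS htS).mem_centralizerIn le_sup_left (iso_conj_self hPc.1 htS htn)
            (Subgroup.mem_sup_right hd') hd'.2
        have hu : (apl δ⁻¹ d)⁻¹ * (t * apl δ⁻¹ d * t⁻¹) ∈ P := by
          refine hTP ⟨?_, Subgroup.mul_mem _ (Subgroup.inv_mem _ hd'.2) hdt.2⟩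
          rw [show (apl δ⁻¹ d)⁻¹ * (t * apl δ⁻¹ d * t⁻¹) = (apl δ⁻¹ d)⁻¹ * t * apl δ⁻¹ d * t⁻¹ by group]
          exact T.mul_mem ((Subgroup.mem_normalizer_iff''.1 (hTn hd'.1) t).1 ht) (T.inv_mem ht)
        rw [apl_mul _ _ hdN, apl_mul _ _ (apl_mem _ hdN), hσx _ (apl_mem _ hdN),
          ← mul_inv_cancel_left (apl δ⁻¹ d) (t * apl δ⁻¹ d * t⁻¹),
          (iso_apl hNS hδ).1.map_mul (Subgroup.mem_sup_right hd') (Subgroup.mem_sup_left hu),
          apl_apl_inv δ hdN, inv_mul_cancel_left]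
        exact hδP.mem hu
    refine top_le_iff.1 ((Sy.normalizer_sup_eq_top' (N := L) Subgroup.le_normalClosure).ge.trans
      (sup_le hnorm hL))
  -- back to `R₀`
  obtain ⟨δ, hδ, hδT, hδa⟩ := exists_ext hS hF hTc ha
  have hNT : T ⊔ centralizerIn S T ≤ S := sup_le hTS (centralizerIn_le S T)
  have hN := iso_apl hNT hδ
  obtain ⟨k, hk, hkδ, hδk⟩ := hN.symm
  have hXN : X ≤ T ⊔ centralizerIn S T := hX.trans le_sup_right
  have hXX : ∀ x ∈ X, apl δ x ∈ X := fun x hx => hXinv δ hδ hδT x hx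
  have hXsurj : ∀ y ∈ X, ∃ x ∈ X, apl δ x = y := fun y hy =>
    (hN.1.mono hXN).surj_of_card hXS hXX le_rfl hy
  obtain ⟨hγ1a, hγ1b, j, hj, hjγ, hjX⟩ := hkey
  have hδR : ∀ z ∈ R₀ ⊔ X, apl δ z ∈ P ⊔ X := fun z hz => (hN.1.mono (sup_le
      (hR₀T.trans le_sup_left) hXN)).mem_of_sup
    (fun w hw => Subgroup.mem_sup_left (by rw [hδa w (hR₀T hw)]; exact haR₀.mem hw))
    (fun w hw => Subgroup.mem_sup_right (hXX w hw)) hz
  have hjN : ∀ z ∈ P ⊔ X, j z ∈ T ⊔ centralizerIn S T := fun z hz => hj.mem_of_sup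
    (fun w hw => Subgroup.mem_sup_left (by rw [hjγ w hw]; exact hPT (apl_mem γ₁ hw)))
    (fun w hw => Subgroup.mem_sup_right (by rw [hjX w hw]; exact hX hw)) hz
  have hγ₀C : CRel F X R₀ (apl γ₀) := by
    refine ⟨hR₀T.trans hTX, fun x hx => hTX (hR₀T (apl_mem γ₀ hx)), _,
      (((hN.1.mono (sup_le (hR₀T.trans le_sup_left) hXN)).comp hj hδR).comp hk.1
        fun z hz => hjN _ (hδR z hz)), fun x hx => ?_, fun x hx => ?_⟩
    · show k (j (apl δ x)) = _
      have hxP := haR₀.mem hx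
      rw [hδa x (hR₀T hx), hjγ _ hxP, hγ₁x _ hxP, apl_inv_apl a (hR₀T hx),
        ← hδa _ (hR₀T (apl_mem γ₀ hx)), hkδ _ (Subgroup.mem_sup_left (hR₀T (apl_mem γ₀ hx)))]
    · show k (j (apl δ x)) = x
      rw [hjX _ (hXX x hx), hkδ x (hXN hx)]
  -- back to `R`
  have heR : CRel F X R e := by
    obtain ⟨h1, h2, j, hj, hje, hjX⟩ := heC
    exact ⟨hRN.trans h1, fun x hx => h2 x (hRN hx), j, hj.mono (sup_le_sup_right hRN _),
      fun x hx => hje x (hRN hx), hjX⟩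
  have hS' := subRel_cRel (F := F) hXS
  have he'C : CRel F X R₀ e' := hS'.inv (hisoF hR₀) heR (hisoF he') he'e
  have h1 := hS'.comp (hmorF hR₀.1) heR (hmorF (iso_apl hR₀T hγ₀).1) hγ₀C fun x hx => hR₀.mem hx
  have h2 := hS'.comp ((hmorF hR₀.1).comp (hmorF (iso_apl hR₀T hγ₀).1) fun x hx => hR₀.mem hx) h1
    (hmorF he'.1) he'C fun x hx => apl_mem γ₀ (hR₀.mem hx)
  refine CRel.congr h2 fun x hx => ?_
  show apl γ x = e' (apl γ₀ (e x))
  rw [hγ₀x _ (hR₀.mem hx)]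
  show _ = e' (e (apl γ (e' (e x))))
  rw [he'e x hx, he'e _ (apl_mem γ hx)]

/-- `foc(C_F(T))` is centralized by `E`. -/
theorem subsystem_centralizes (E : FusionSystem T) (hE : E.IsNormalIn F p)
    (hTS : T ≤ S) :
    ∀ Q : Subgroup Ω, E.Hom Q ⊆ F.centralizerHom (cFoc F hTS) Q :=
  subsystem_centralizes_of hS hF E hE hTS (cFoc_le_centralizerIn hTS)
    (fun _ hPT hPc _ hγ hPP _ hmod hord _ hx =>
      fix_cFoc hS hF hPc hγ hPP hmod hord (cFoc_mono hTS hPc.1 hPT hx))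
    (fun _ hδ hδT _ hx => apl_mem_cFoc hTS hδ hδT hx)

end Cfsg.Agent.FusSys.CentFocal
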