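import Cfsg.Agent.FusSys.Tate
import Cfsg.Agent.FusSys.Inner
import Cfsg.Agent.FusSys.GroupSys

/-!
Consequences of the transfer: Tate's theorem for a saturated subsystem, and a criterion for the
inner system.
-/

set_option autoImplicit false

namespace Cfsg.Agent.FusSys

open Cfsg Cfsg.FusionSystem

universe u

variable {Ω : Type u} [Group Ω] {S : Subgroup Ω} {F H : FusionSystem S} {p : ℕ}

theorem map_subtype_commutator_eq (K : Subgroup Ω) : (commutator K).map K.subtype = ⁅K, K⁆ := by
  rw [commutator_def, Subgroup.map_commutator, ← MonoidHom.range_eq_map, Subgroup.range_subtype]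

theorem autGroup_mono (h : H.IsSubsystemOf F) {P : Subgroup Ω} : H.autGroup P ≤ F.autGroup P :=
  Subgroup.closure_mono fun _ hα => h P hα

theorem focal_mono (h : H.IsSubsystemOf F) : H.focalSubgroup ≤ F.focalSubgroup := by
  refine (Subgroup.closure_le _).2 ?_
  rintro _ ⟨P, φ, x, hφ, rfl⟩
  exact Subgroup.subset_closure ⟨P, φ, x, h P hφ, rfl⟩

theorem hyperfocal_mono (h : H.IsSubsystemOf F) (p : ℕ) :
    H.hyperfocalSubgroup p ≤ F.hyperfocalSubgroup p := by
  refine (Subgroup.closure_le _).2 ?_
  rintro _ ⟨P, α, x, hP, hα, rfl⟩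
  exact Subgroup.subset_closure ⟨P, Subgroup.inclusion (autGroup_mono h) α, x, hP,
    Cfsg.Agent.Fusion.map_pResidual_le _ (Subgroup.mem_map_of_mem _ hα), rfl⟩

section Saturated

variable [Fact p.Prime] [Finite S] (hS : IsPGroup p S) (hF : F.IsSaturated p)
include hS hF

theorem focal_eq_of_elementary (hsub : H.IsSubsystemOf F)
    (h : (frattini S).map S.subtype ⊔ F.focalSubgroup = (frattini S).map S.subtype ⊔ H.focalSubgroup) :
    F.focalSubgroup = H.focalSubgroup := by
  refine le_antisymm ?_ (focal_mono hsub)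
  have hc : commutator S ≤ H.focalSubgroup.subgroupOf S := fun x hx =>
    commutator_le_focal (F := H) (map_subtype_commutator_eq S ▸ Subgroup.mem_map_of_mem _ hx)
  haveI : (H.focalSubgroup.subgroupOf S).Normal := Subgroup.Normal.of_commutator_le S hc
  have key := focal_le_of_elementary hS hF hc ?_ fun x hx => focal_mono hsub hx
  · intro x hx
    exact key (x := ⟨x, focal_le F hx⟩) hx
  · intro x hx
    have h1 : (x : Ω) ∈ (frattini S).map S.subtype ⊔ F.focalSubgroup := Subgroup.mem_sup_right hx
    rw [h, ← Subgroup.map_subgroupOf_eq_of_le (focal_le H), ← Subgroup.map_sup] at h1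
    obtain ⟨y, hy, hyx⟩ := h1
    rw [Subtype.ext hyx] at hy
    rwa [sup_comm]

theorem hyperfocal_eq_of_focal (hH : H.IsSaturated p) (hsub : H.IsSubsystemOf F)
    (h : F.focalSubgroup = H.focalSubgroup) :
    F.hyperfocalSubgroup p = H.hyperfocalSubgroup p := by
  refine le_antisymm (fun x hx => ?_) (hyperfocal_mono hsub p)
  haveI := normal_hyperfocal (F := H) (p := p)
  have key := hyperfocal_le_of_sup hS hF (M := (H.hyperfocalSubgroup p).subgroupOf S)
    (fun y hy => hyperfocal_mono hsub p hy) ?_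
  · exact key (x := ⟨x, hyperfocal_le F p hx⟩) hx
  · intro y hy
    have h1 : (y : Ω) ∈ H.focalSubgroup := h ▸ hyperfocal_le_focal hy
    rw [focal_eq hS hH, ← Subgroup.map_subgroupOf_eq_of_le (hyperfocal_le H p),
      ← map_subtype_commutator_eq, ← Subgroup.map_sup] at h1
    obtain ⟨z, hz, hzy⟩ := h1
    rwa [Subtype.ext hzy] at hz

theorem focal_eq_of_hyperfocal (hH : H.IsSaturated p)
    (h : F.hyperfocalSubgroup p = H.hyperfocalSubgroup p) : F.focalSubgroup = H.focalSubgroup := by
  rw [focal_eq hS hF, focal_eq hS hH, h]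

/-- A system with trivial hyperfocal subgroup is inner. -/
theorem eq_inner_of_hyperfocal_bot (h : F.hyperfocalSubgroup p = ⊥) : F = innerFusionSystem S := by
  refine eq_inner_of_pGroups hS hF fun P hP => ?_
  haveI := finite_of_le hP
  haveI : Finite (MulAut P) := Finite.of_injective _ MulEquiv.toEquiv_injective
  have hbot : pResidual p (F.autGroup P) = ⊥ := by
    rw [eq_bot_iff]
    intro α hα
    rw [Subgroup.mem_bot]
    refine Subtype.ext (apl_ext fun x hx => ?_)
    have h1 := residual_quot_mem_hyperfocal hP (Subgroup.mem_map_of_mem _ hα) hx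
    rw [h, Subgroup.mem_bot, inv_mul_eq_one] at h1
    rw [OneMemClass.coe_one, apl_one hx]
    exact h1.symm
  intro α
  obtain ⟨e, he⟩ := Cfsg.Agent.Fusion.isPGroup_quotient_pResidual (G := F.autGroup P) (p := p)
    (α : F.autGroup P ⧸ pResidual p (F.autGroup P))
  refine ⟨e, ?_⟩
  rw [← QuotientGroup.mk_pow, QuotientGroup.eq_one_iff, hbot, Subgroup.mem_bot] at he
  exact he

theorem inner_saturated : (innerFusionSystem S).IsSaturated p := by
  rw [saturated_iff_top_receptive hS]
  refine ⟨⟨le_rfl, ?_⟩, fun P hP => isReceptive_iff.2 ⟨hP.1, fun R f hf => ?_⟩⟩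
  · have hinn : (innerFusionSystem S).autGroup S = autInducedBy S S := by
      refine le_antisymm (fun α hα => ?_) (autInducedBy_le_inner le_rfl)
      obtain ⟨-, g, hg, hgx⟩ := mor_inner.1 (iso_apl le_rfl hα).1
      exact mem_autInducedBy_iff.2 ⟨g, hg, Subgroup.le_normalizer hg, hgx⟩
    have hp : IsPGroup p ((innerFusionSystem S).autGroup S) := by
      rw [hinn]
      exact isPGroup_autInducedBy hS
    refine ⟨(hp.of_equiv Subgroup.topEquiv.symm).toSylow ?_, ?_⟩
    · rw [Subgroup.index_top]
      exact (Fact.out : p.Prime).not_dvd_one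
    · show (⊤ : Subgroup ((innerFusionSystem S).autGroup S)) = _
      rw [← hinn, Subgroup.subgroupOf_self]
  · obtain ⟨hR, g, hg, hgx⟩ := mor_inner.1 hf.1
    exact ⟨fun x => g * x * g⁻¹, mor_inner.2 ⟨fun x hx => hx.1, g, hg, fun x _ => rfl⟩,
      fun x hx => (hgx x hx).symm⟩

end Saturated

end Cfsg.Agent.FusSys
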