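import Cfsg.Agent.FusSys.PIndexUnique
import Cfsg.Agent.FusSys.CentFocal
import Cfsg.Agent.FusSys.TateCor

/-!
Subsystems of `p`-power index over normal subgroups are normal.
-/

set_option autoImplicit false

namespace Cfsg.Agent.FusSys.PPI

open Cfsg Cfsg.FusionSystem Cfsg.Agent.FusSys

universe u

variable {Ω : Type u} [Group Ω] {S T : Subgroup Ω} {F : FusionSystem S} {E : FusionSystem T} {p : ℕ}

theorem stronglyClosed_of_hyperfocal_le [Fact p.Prime] [Finite S] (hS : IsPGroup p S) (hF : F.IsSaturated p)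
    (hTS : T ≤ S) (hTn : ∀ s ∈ S, ∀ x ∈ T, s * x * s⁻¹ ∈ T) (hT : F.hyperfocalSubgroup p ≤ T) :
    F.StronglyClosed T := by
  refine stronglyClosed_iff.2 ⟨hTS, fun R f hR hf x hx => ?_⟩
  obtain ⟨t, ht, h⟩ := exists_mod_hyperfocal hS hF hf
  have := T.mul_mem (hTn t ht x (hR hx)) (hT (h x hx))
  rwa [mul_inv_cancel_left] at this

section Sub

variable [Fact p.Prime] [Finite S] (hS : IsPGroup p S) (hF : F.IsSaturated p) (hTS : T ≤ S)
  (hTn : ∀ s ∈ S, ∀ x ∈ T, s * x * s⁻¹ ∈ T) (hEs : E.IsSaturated p) (hEi : E.HasPPowerIndexIn F p)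
include hS hF hTS hTn hEs hEi

/-- Conjugation by elements of `S` preserves the maps of the subsystem. -/
theorem conj_invariant {s : Ω} (hs : s ∈ S) {P : Subgroup Ω} {f : Ω → Ω} (hf : Mor E P f) :
    ∃ R, Iso F P R (fun x => s * x * s⁻¹) ∧ Mor E R (fun y => s * f (s⁻¹ * y * s) * s⁻¹) := by
  haveI : Finite T := finite_of_le hTS
  have hsub := isSubsystemOf_iff_mor.1 hEi.1
  set c : Ω → Ω := fun x => s * x * s⁻¹ with hc
  set M : Subgroup Ω → (Ω → Ω) → Prop := fun P f => P ≤ T ∧ (∀ x ∈ P, f x ∈ T) ∧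
    ∀ R, Iso F P R c → Mor E R (fun y => s * f (s⁻¹ * y * s) * s⁻¹) with hMdef
  have hcs : ∀ x, s⁻¹ * c x * s = x := fun x => by
    show s⁻¹ * (s * x * s⁻¹) * s = x
    group
  have hRT : ∀ {P R : Subgroup Ω}, P ≤ T → Iso F P R c → R ≤ T := fun hP hR y hy => by
    obtain ⟨x, hx, rfl⟩ := hR.exists_eq hy
    exact hTn s hs x (hP hx)
  have hM : SubRel F T M := by
    refine ⟨fun {P f g} ⟨h1, h2, h3⟩ he => ⟨h1, fun x hx => he x hx ▸ h2 x hx, fun R hR => (h3 R hR).congr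
      fun y hy => ?_⟩, fun h => ⟨h.1, h.2.1⟩, ?_, ?_, ?_⟩
    · obtain ⟨x, hx, rfl⟩ := hR.exists_eq hy
      rw [hcs, he x hx]
    · intro P t hP ht
      refine ⟨mor_conj (hP.trans hTS) (hTS ht), hP,
        fun x hx => T.mul_mem (T.mul_mem ht (hP hx)) (T.inv_mem ht), fun R hR => ?_⟩
      refine (mor_conj (hRT hP hR) (hTn s hs t ht)).congr fun y _ => ?_
      show s * (t * (s⁻¹ * y * s) * t⁻¹) * s⁻¹ = s * t * s⁻¹ * y * (s * t * s⁻¹)⁻¹
      group
    · rintro P Q f g hfF ⟨h1, -, h3⟩ hgF ⟨hQ, h2', h3'⟩ hfQ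
      refine ⟨h1, fun x hx => h2' _ (hfQ x hx), fun R hR => ?_⟩
      obtain ⟨R', hR'⟩ := (mor_conj (F := F) hgF.le hs).exists_iso
      refine ((h3 R hR).comp (h3' R' hR') fun y hy => ?_).congr fun y hy => ?_
      · obtain ⟨x, hx, rfl⟩ := hR.exists_eq hy
        rw [hcs]
        exact hR'.mem (hfQ x hx)
      · show s * g (f (s⁻¹ * y * s)) * s⁻¹ =
          s * g (s⁻¹ * (s * f (s⁻¹ * y * s) * s⁻¹) * s) * s⁻¹
        have e : s⁻¹ * (s * f (s⁻¹ * y * s) * s⁻¹) * s = f (s⁻¹ * y * s) := hcs _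
        rw [e]
    · rintro P Q f g hf ⟨h1, h2, h3⟩ hg hgf
      refine ⟨fun y hy => ?_, fun y hy => h1 (hg.mem hy), fun R hR => ?_⟩
      · obtain ⟨x, hx, rfl⟩ := hf.exists_eq hy
        exact h2 x hx
      obtain ⟨R', hR'⟩ := (mor_conj (F := F) hf.left_le hs).exists_iso
      obtain ⟨R'', hR''⟩ := (h3 R' hR').exists_iso
      have hRR : R'' = R := by
        ext y
        rw [hR.2 y, hR''.2 y]
        constructor
        · rintro ⟨z, hz, rfl⟩
          obtain ⟨x, hx, rfl⟩ := hR'.exists_eq hz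
          exact ⟨f x, hf.mem hx, by
            show c (f x) = s * f (s⁻¹ * c x * s) * s⁻¹
            rw [hcs]⟩
        · rintro ⟨z, hz, rfl⟩
          obtain ⟨x, hx, rfl⟩ := hf.exists_eq hz
          exact ⟨c x, hR'.mem hx, by
            show s * f (s⁻¹ * c x * s) * s⁻¹ = c (f x)
            rw [hcs]⟩
      subst hRR
      obtain ⟨k, hk, hkf, -⟩ := hR''.symm
      refine hk.1.congr fun y hy => ?_
      obtain ⟨z, hz, rfl⟩ := hR''.exists_eq hy
      obtain ⟨x, hx, rfl⟩ := hR'.exists_eq hz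
      rw [hkf (c x) (hR'.mem hx), hcs, hcs, hgf x hx]
  have hle : E ≤ subSys hM := by
    refine le_of_contains_residuals (hS.to_le hTS) hEs hEi.1 fun Q hQT α hα => ?_
    have hQS := hQT.trans hTS
    haveI := finite_of_le hQS
    refine (mem_autGroup_iff hQT).2 ⟨(mor_subSys hM).2 ⟨(iso_apl hQS (residual_mem_autGroup hα)).1, hQT,
      fun x hx => hQT (apl_mem α hx), fun R hR => ?_⟩, (iso_apl hQS (residual_mem_autGroup hα)).2⟩
    have h1 := hEi.2.2 R (hRT hQT hR) (Iso.map_pResidual hQS hR hα)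
    refine (iso_apl (hRT hQT hR) h1).1.congr fun y hy => ?_
    obtain ⟨x, hx, rfl⟩ := hR.exists_eq hy
    rw [hR.conjAut_apl α hx, hcs]
  obtain ⟨R, hR⟩ := (mor_conj (F := F) (hf.le.trans hTS) hs).exists_iso
  exact ⟨R, hR, ((mor_subSys hM).1 ((le_iff_mor.1 hle) P f hf)).2.2.2 R hR⟩

/-- Every map of `F` inside `T` is a map of `E` followed by a conjugation from `S`. -/
theorem frattini_dec {P : Subgroup Ω} {f : Ω → Ω} (hPT : P ≤ T) (hf : Mor F P f) :
    ∃ s ∈ S, ∃ e, Mor E P e ∧ ∀ x ∈ P, f x = s * e x * s⁻¹ := by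
  classical
  haveI : Finite T := finite_of_le hTS
  have hsc := stronglyClosed_of_hyperfocal_le hS hF hTS hTn hEi.2.1
  set M : Subgroup Ω → (Ω → Ω) → Prop := fun P f => P ≤ S ∧ (∀ x ∈ P, f x ∈ S) ∧
    ∃ s ∈ S, ∃ e, Mor E (P ⊓ T) e ∧ ∀ x ∈ P ⊓ T, f x = s * e x * s⁻¹ with hMdef
  have hM : SubRel F S M := by
    refine ⟨fun {P f g} ⟨h1, h2, s, hs, e, he1, he2⟩ he => ⟨h1, fun x hx => he x hx ▸ h2 x hx, s, hs, e,
      he1, fun x hx => (he x hx.1).trans (he2 x hx)⟩, fun h => ⟨h.1, h.2.1⟩, ?_, ?_, ?_⟩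
    · intro P t hP ht
      exact ⟨mor_conj hP ht, hP, fun x hx => S.mul_mem (S.mul_mem ht (hP hx)) (S.inv_mem ht), t, ht, id,
        mor_id inf_le_right, fun x _ => rfl⟩
    · rintro P Q f g hfF ⟨h1, -, s, hs, e, he1, he2⟩ hgF ⟨-, h2', s', hs', e', he1', he2'⟩ hfQ
      refine ⟨h1, fun x hx => h2' _ (hfQ x hx), s' * s, S.mul_mem hs' hs, ?_⟩
      obtain ⟨R, hR, hR1⟩ := conj_invariant hS hF hTS hTn hEs hEi (S.inv_mem hs) he1'
      refine ⟨_, he1.comp hR1 fun x hx => ?_, fun x hx => ?_⟩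
      · have h : s⁻¹ * f x * s⁻¹⁻¹ = e x := by rw [he2 x hx]; group
        rw [← h]
        exact hR.mem ⟨hfQ x hx.1, StronglyClosed.mor_mem hsc hfF hx.1 hx.2⟩
      · have hy : f x ∈ Q ⊓ T := ⟨hfQ x hx.1, StronglyClosed.mor_mem hsc hfF hx.1 hx.2⟩
        show g (f x) = s' * s * (s⁻¹ * e' (s⁻¹⁻¹ * e x * s⁻¹) * s⁻¹⁻¹) * (s' * s)⁻¹
        rw [inv_inv, ← he2 x hx, he2' _ hy]
        group
    · rintro P Q f g hf ⟨h1, h2, s, hs, e, he1, he2⟩ hg hgf
      refine ⟨hg.left_le, fun y hy => hg.right_le (hg.mem hy), s⁻¹, S.inv_mem hs, ?_⟩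
      obtain ⟨R, hR⟩ := he1.exists_iso
      obtain ⟨k, hk, hke, -⟩ := hR.symm
      obtain ⟨R', hR', hR1⟩ := conj_invariant hS hF hTS hTn hEs hEi hs hk.1
      have key : ∀ y ∈ Q ⊓ T, ∃ x ∈ P ⊓ T, f x = y := fun y hy => by
        obtain ⟨x, hx, rfl⟩ := hf.exists_eq hy.1
        refine ⟨x, ⟨hx, ?_⟩, rfl⟩
        have := StronglyClosed.mor_mem hsc hg.1 (hf.mem hx) hy.2
        rwa [hgf x hx] at this
      refine ⟨_, hR1.mono fun y hy => ?_, fun y hy => ?_⟩
      · obtain ⟨x, hx, rfl⟩ := key y hy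
        rw [he2 x hx]
        exact hR'.mem (hR.mem hx)
      · obtain ⟨x, hx, rfl⟩ := key y hy
        have h3 : s⁻¹ * f x * s = e x := by rw [he2 x hx]; group
        show g (f x) = s⁻¹ * (s * k (s⁻¹ * f x * s) * s⁻¹) * s⁻¹⁻¹
        rw [hgf x hx.1, h3, hke x hx]
        group
  have hres : ∀ R ≤ S, (pResidual p (F.autGroup R)).map (F.autGroup R).subtype ≤ (subSys hM).autGroup R := by
    intro R hR
    haveI := finite_of_le hR
    rw [pResidual, MonoidHom.map_closure, Subgroup.closure_le]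
    rintro _ ⟨α, hα, rfl⟩
    rw [Set.mem_setOf_eq, ← Subgroup.orderOf_coe] at hα
    have hi := iso_apl hR α.2
    refine (mem_autGroup_iff hR).2 ⟨(mor_subSys hM).2 ⟨hi.1, hR, fun x hx => hR (apl_mem _ hx), 1, S.one_mem,
      apl (α : MulAut R), ?_, fun x _ => by group; rfl⟩, hi.2⟩
    have hinv := fun x (hx : x ∈ R) => apl_invariant_of_stronglyClosed hsc hR α.2 hx
    haveI : Finite ↥(R ⊓ T) := finite_of_le (inf_le_left.trans hR)
    have hiT : Iso F (R ⊓ T) (R ⊓ T) (apl (α : MulAut R)) :=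
      ⟨hi.1.mono inf_le_left, fun y => ⟨fun hy => ⟨apl (α : MulAut R)⁻¹ y,
        ⟨apl_mem _ hy.1, (hinv _ (apl_mem _ hy.1)).1 (by rw [apl_apl_inv _ hy.1]; exact hy.2)⟩,
        apl_apl_inv _ hy.1⟩,
        fun ⟨x, hx, he⟩ => he ▸ ⟨apl_mem _ hx.1, (hinv x hx.1).2 hx.2⟩⟩⟩
    obtain ⟨β, hβ, hβx⟩ := hiT.exists_mem_autGroup
    have hpow : ∀ k : ℕ, ∀ x ∈ R ⊓ T, apl (β ^ k) x = apl ((α : MulAut R) ^ k) x := by
      intro k
      induction k with
      | zero => intro x hx; rw [pow_zero, pow_zero, apl_one hx, apl_one hx.1]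
      | succ k ih =>
        intro x hx
        rw [pow_succ, pow_succ, apl_mul _ _ hx, apl_mul _ _ hx.1, hβx x hx]
        exact ih _ (hiT.mem hx)
    have hord : (orderOf β).Coprime p := by
      refine Nat.Coprime.coprime_dvd_left (orderOf_dvd_of_pow_eq_one (apl_ext fun x hx => ?_)) hα
      rw [hpow _ x hx, pow_orderOf_eq_one, apl_one hx, apl_one hx.1]
    have h1 : β ∈ E.autGroup (R ⊓ T) := hEi.2.2 _ inf_le_right (Subgroup.mem_map.2
      ⟨⟨β, hβ⟩, Cfsg.Agent.Fusion.mem_pResidual_of_coprime (by rwa [← Subgroup.orderOf_coe]), rfl⟩)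
    exact (iso_apl inf_le_right h1).1.congr fun x hx => (hβx x hx).symm
  have hn : F.IsFullyNormalized S := ⟨le_rfl, fun Q _ => by
    haveI := finite_of_le (normalizerIn_le S S)
    exact Subgroup.card_le_of_le (le_inf (normalizerIn_le S Q)
      ((normalizerIn_le S Q).trans Subgroup.le_normalizer))⟩
  have hall : M P f := by
    refine residual_induction hS hF hM (fun α hα => ?_) (fun R hR α hα =>
      ((mor_subSys hM).1 (iso_apl hR (hres R hR hα)).1).2) P f hf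
    rw [autGroup_eq_residual_sup hS hF hn] at hα
    exact ((mor_subSys hM).1 (iso_apl le_rfl
      (sup_le (hres S le_rfl) (autInducedBy_le_autGroup le_rfl) hα)).1).2
  obtain ⟨-, -, s, hs, e, he1, he2⟩ := hall
  rw [inf_eq_left.2 hPT] at he1 he2
  exact ⟨s, hs, e, he1, he2⟩

theorem invariant_of_pPowerIndex : E.IsInvariantIn F := by
  haveI : Finite T := finite_of_le hTS
  refine ⟨hEi.1, stronglyClosed_of_hyperfocal_le hS hF hTS hTn hEi.2.1, ?_, ?_⟩
  · intro P hPT φ hφ α hα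
    set a := apl α with ha
    have hai : Iso F T T a := iso_apl hTS hα
    obtain ⟨s, hs, e, he, hae⟩ := frattini_dec hS hF hTS hTn hEs hEi le_rfl hai.1
    set Q := (P.subgroupOf T).map (T.subtype.comp α.toMonoidHom) with hQ
    have hQmem : ∀ y, y ∈ Q ↔ ∃ x ∈ P, a x = y := fun y => by
      rw [hQ, Subgroup.mem_map]
      constructor
      · rintro ⟨x, hx, rfl⟩
        exact ⟨x, Subgroup.mem_subgroupOf.1 hx, apl_apply α x.2⟩
      · rintro ⟨x, hx, rfl⟩
        exact ⟨⟨x, hPT hx⟩, Subgroup.mem_subgroupOf.2 hx, (apl_apply α (hPT hx)).symm⟩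
    set f := extendFn φ with hf
    have hfm : Mor E P f := mor_extendFn hφ
    have hfT : ∀ x ∈ P, f x ∈ T := fun x hx => hfm.mem_S hx
    obtain ⟨R, hR⟩ := (he.mono hPT).exists_iso
    obtain ⟨k, hk, hke, -⟩ := hR.symm
    have hmid : Mor E R (e ∘ f ∘ k) :=
      (hk.1.comp hfm fun y hy => hk.mem hy).comp he fun y hy => hfT _ (hk.mem hy)
    obtain ⟨R', hR', hR1⟩ := conj_invariant hS hF hTS hTn hEs hEi hs hmid
    have hQR : Q ≤ R' := fun y hy => by
      obtain ⟨x, hx, rfl⟩ := (hQmem y).1 hy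
      rw [hae x (hPT hx)]
      exact hR'.mem (hR.mem hx)
    obtain ⟨χ, hχ, hχf⟩ := hR1.mono hQR
    refine ⟨χ, hχ, fun x hφx hαx => ?_⟩
    rw [hχf]
    show s * e (f (k (s⁻¹ * ((α ⟨x, hPT x.2⟩ : T) : Ω) * s))) * s⁻¹ = _
    have h1 : ((α ⟨x, hPT x.2⟩ : T) : Ω) = s * e x * s⁻¹ :=
      (apl_apply α (hPT x.2)).symm.trans (hae x (hPT x.2))
    rw [h1, show s⁻¹ * (s * e x * s⁻¹) * s = e x by group, hke x x.2]
    rw [hf, extendFn_coe, ← hae _ hφx]
    exact apl_apply α hφx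
  · intro P hPT φ hφ
    obtain ⟨s, hs, e, he, hfe⟩ := frattini_dec hS hF hTS hTn hEs hEi hPT (mor_extendFn hφ)
    have hsn : s ∈ Subgroup.normalizer (T : Set Ω) := Subgroup.mem_normalizer_iff.2 fun x =>
      ⟨fun hx => hTn s hs x hx, fun hx => by
        have := hTn s⁻¹ (S.inv_mem hs) _ hx
        simpa [mul_assoc] using this⟩
    obtain ⟨α, hα, hαx⟩ := exists_mem_autInducedBy (P := T) hs hsn
    obtain ⟨φ₀, hφ₀, hφe⟩ := he
    refine ⟨α, autInducedBy_le_autGroup hTS hα, φ₀, hφ₀, fun x hx => ?_⟩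
    rw [← apl_apply α hx, hαx _ hx, hφe x, ← extendFn_coe φ x, hfe x x.2]

theorem normal_of_pPowerIndex : E.IsNormalIn F p := by
  classical
  haveI : Finite T := finite_of_le hTS
  refine ⟨⟨hEs, hF, invariant_of_pPowerIndex hS hF hTS hTn hEs hEi⟩, fun α hα => ?_⟩
  set N := T ⊔ centralizerIn S T with hN
  have hNS : N ≤ S := sup_le hTS (centralizerIn_le S T)
  set Z := T ⊓ Subgroup.centralizer (T : Set Ω) with hZ
  have hcen : ∀ {b : MulAut N}, (∀ x ∈ T, apl b x ∈ T) → (∀ x ∈ T, ∃ y ∈ T, apl b y = x) →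
      b ∈ F.autGroup N → ∀ c ∈ centralizerIn S T, apl b c ∈ centralizerIn S T := by
    intro b hb1 hb2 hb c hc
    have hm := (iso_apl hNS hb).1
    refine ⟨hm.mem_S (Subgroup.mem_sup_right hc), Subgroup.mem_centralizer_iff.2 fun x hx => ?_⟩
    obtain ⟨y, hy, rfl⟩ := hb2 x hx
    rw [← hm.map_mul (Subgroup.mem_sup_left hy) (Subgroup.mem_sup_right hc),
      ← hm.map_mul (Subgroup.mem_sup_right hc) (Subgroup.mem_sup_left hy),
      Subgroup.mem_centralizer_iff.1 hc.2 y hy]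
  let G' : Subgroup (MulAut T) :=
    { carrier := {γ | ∃ b ∈ F.autGroup N, (∀ x ∈ T, apl b x = apl γ x) ∧
        ∀ c ∈ centralizerIn S T, c⁻¹ * apl b c ∈ Z}
      one_mem' := ⟨1, Subgroup.one_mem _, fun x hx => by rw [apl_one hx, apl_one (Subgroup.mem_sup_left hx)],
        fun c hc => by rw [apl_one (Subgroup.mem_sup_right hc), inv_mul_cancel]; exact Subgroup.one_mem _⟩
      mul_mem' := by
        rintro γ γ' ⟨b, hb, h1, h2⟩ ⟨b', hb', h1', h2'⟩
        refine ⟨b * b', Subgroup.mul_mem _ hb hb', fun x hx => ?_, fun c hc => ?_⟩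
        · rw [apl_mul _ _ (Subgroup.mem_sup_left hx), h1' x hx, apl_mul _ _ hx, h1 _ (apl_mem _ hx)]
        · rw [apl_mul _ _ (Subgroup.mem_sup_right hc)]
          have h3 := hcen (fun x hx => (h1' x hx).symm ▸ apl_mem _ hx)
            (fun x hx => ⟨apl γ'⁻¹ x, apl_mem _ hx, by rw [h1' _ (apl_mem _ hx), apl_apl_inv _ hx]⟩) hb' c hc
          have := Z.mul_mem (h2' c hc) (h2 _ h3)
          rwa [mul_assoc, mul_inv_cancel_left] at this
      inv_mem' := by
        rintro γ ⟨b, hb, h1, h2⟩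
        have h1i : ∀ x ∈ T, apl b⁻¹ x = apl γ⁻¹ x := fun x hx => by
          conv_lhs => rw [← apl_apl_inv γ hx, ← h1 _ (apl_mem _ hx)]
          rw [apl_inv_apl _ (Subgroup.mem_sup_left (apl_mem _ hx))]
        refine ⟨b⁻¹, Subgroup.inv_mem _ hb, h1i, fun c hc => ?_⟩
        have h3 := hcen (fun x hx => (h1i x hx).symm ▸ apl_mem _ hx)
          (fun x hx => ⟨apl γ x, apl_mem _ hx, by rw [h1i _ (apl_mem _ hx), apl_inv_apl _ hx]⟩)
          (Subgroup.inv_mem _ hb) c hc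
        have := Z.inv_mem (h2 _ h3)
        rwa [apl_apl_inv _ (Subgroup.mem_sup_right hc), mul_inv_rev, inv_inv] at this }
  suffices h : E.autGroup T ≤ G' by
    obtain ⟨b, hb, h1, h2⟩ := h hα
    refine ⟨b, hb, fun x => ?_, fun c hc => ?_⟩
    · rw [← apl_coe b, ← apl_coe α]
      exact h1 x x.2
    · rw [← apl_coe b]
      exact h2 c hc
  have hTT : E.IsFullyNormalized T := ⟨le_rfl, fun R' _ => by
    haveI := finite_of_le (normalizerIn_le T T)
    exact Subgroup.card_le_of_le (le_inf (normalizerIn_le T R')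
      ((normalizerIn_le T R').trans Subgroup.le_normalizer))⟩
  rw [autGroup_eq_residual_sup (hS.to_le hTS) hEs hTT]
  refine sup_le ?_ ?_
  · rw [pResidual, MonoidHom.map_closure, Subgroup.closure_le]
    rintro _ ⟨γ, hγ, rfl⟩
    rw [Set.mem_setOf_eq, ← Subgroup.orderOf_coe] at hγ
    have hle : E.autGroup T ≤ F.autGroup T := Subgroup.closure_mono fun _ hβ => hEi.1 T hβ
    have hγF : (γ : MulAut T) ∈ F.autGroup T := hle γ.2
    have hfc : F.IsFullyCentralized T := by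
      refine fullyCentralized_of_fullyNormalized hS hF ⟨hTS, fun R _ => ?_⟩
      haveI := finite_of_le (normalizerIn_le S T)
      refine Subgroup.card_le_of_le (le_inf (normalizerIn_le S R) fun s hs => ?_)
      exact Subgroup.mem_normalizer_iff.2 fun x => ⟨fun hx => hTn s hs.1 x hx, fun hx => by
        have := hTn s⁻¹ (S.inv_mem hs.1) _ hx
        simpa [mul_assoc] using this⟩
    obtain ⟨δ, hδ, hδT, hδx⟩ := CentFocal.exists_ext hS hF hfc hγF
    haveI := finite_of_le hNS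
    obtain ⟨a, m, hm, hn⟩ := Nat.exists_eq_pow_mul_and_not_dvd (isOfFinOrder_of_finite δ).orderOf_pos.ne' p
      (Fact.out : p.Prime).ne_one
    obtain ⟨k, hk0, hk1⟩ := Nat.chineseRemainder
      ((Nat.Coprime.pow_left a hγ.symm : (p ^ a).Coprime (orderOf (γ : MulAut T)))) 0 1
    have hpow : ∀ j : ℕ, ∀ x ∈ T, apl (δ ^ j) x = apl ((γ : MulAut T) ^ j) x := by
      intro j
      induction j with
      | zero => intro x hx; rw [pow_zero, pow_zero, apl_one (Subgroup.mem_sup_left hx), apl_one hx]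
      | succ j ih =>
        intro x hx
        rw [pow_succ, pow_succ, apl_mul _ _ (Subgroup.mem_sup_left hx), apl_mul _ _ hx, hδx x hx]
        exact ih _ (apl_mem _ hx)
    have hγk : (γ : MulAut T) ^ k = (γ : MulAut T) := by
      conv_rhs => rw [← pow_one (γ : MulAut T)]
      exact pow_eq_pow_iff_modEq.2 hk1
    have hb1 : ∀ x ∈ T, apl (δ ^ k) x = apl (γ : MulAut T) x := fun x hx => by rw [hpow k x hx, hγk]
    have hord : (orderOf (δ ^ k)).Coprime p := by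
      refine Nat.Coprime.coprime_dvd_left (orderOf_dvd_of_pow_eq_one (?_ : (δ ^ k) ^ m = 1))
        (((Fact.out : p.Prime).coprime_iff_not_dvd.2 hm).symm)
      rw [← pow_mul, ← orderOf_dvd_iff_pow_eq_one, hn]
      exact mul_dvd_mul_right (Nat.modEq_zero_iff_dvd.1 hk0) _
    have hbF : δ ^ k ∈ F.autGroup N := Subgroup.pow_mem _ hδ k
    refine ⟨δ ^ k, hbF, hb1, fun c hc => ⟨hEi.2.1 (residual_quot_mem_hyperfocal hNS (Subgroup.mem_map.2
      ⟨⟨_, hbF⟩, Cfsg.Agent.Fusion.mem_pResidual_of_coprime (by rwa [← Subgroup.orderOf_coe]), rfl⟩)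
      (Subgroup.mem_sup_right hc)), ?_⟩⟩
    refine Subgroup.mul_mem _ (Subgroup.inv_mem _ hc.2) (hcen (fun x hx => (hb1 x hx).symm ▸ apl_mem _ hx)
      (fun x hx => ⟨apl (γ : MulAut T)⁻¹ x, apl_mem _ hx, ?_⟩) hbF c hc).2
    rw [hb1 _ (apl_mem _ hx), apl_apl_inv _ hx]
  · intro γ hγ
    obtain ⟨t, ht, -, htx⟩ := mem_autInducedBy_iff.1 hγ
    obtain ⟨b, hb, hbx⟩ := exists_mem_autInducedBy (P := N) (hTS ht)
      (Subgroup.le_normalizer (Subgroup.mem_sup_left ht : t ∈ N))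
    refine ⟨b, autInducedBy_le_autGroup hNS hb, fun x hx => (hbx x (Subgroup.mem_sup_left hx)).trans (htx x hx).symm,
      fun c hc => ?_⟩
    rw [hbx c (Subgroup.mem_sup_right hc), Subgroup.mem_centralizer_iff.1 hc.2 t ht, mul_inv_cancel_right,
      inv_mul_cancel]
    exact Subgroup.one_mem _

end Sub

end Cfsg.Agent.FusSys.PPI
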