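import Cfsg.Agent.FusSys.IndexPrimeCls

/-!
Saturation of the subsystems of index prime to `p` given by subgroups of `Aut_F(S)`.
-/

set_option autoImplicit false
set_option linter.unusedSectionVars false

namespace Cfsg.Agent.FusSys

open Cfsg Cfsg.FusionSystem

universe u

variable {Ω : Type u} [Group Ω] {S P Q R : Subgroup Ω} {F : FusionSystem S} {f g : Ω → Ω} {p : ℕ}
variable {Γ : Subgroup (MulAut S)}

/-- The classes of the extensions to `Q C_S(Q)` of the map induced by `a` on `Q`. -/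
def Lam (F : FusionSystem S) (p : ℕ) (Γ : Subgroup (MulAut S)) (Q : Subgroup Ω) (a : Ω → Ω)
    (η : MulAut S) : Prop :=
  ∃ k, Iso F (Q ⊔ centralizerIn S Q) (Q ⊔ centralizerIn S Q) k ∧ (∀ x ∈ Q, k x = a x) ∧
    Cls F p Γ (Q ⊔ centralizerIn S Q) k η

theorem Lam.congr {a a' : Ω → Ω} {η : MulAut S} (h : Lam F p Γ Q a η)
    (he : ∀ x ∈ Q, a' x = a x) : Lam F p Γ Q a' η := by
  obtain ⟨k, hk, hka, hη⟩ := h
  exact ⟨k, hk, fun x hx => (hka x hx).trans (he x hx).symm, hη⟩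

variable [Finite S]

/-- A map stabilizing `Q` stabilizes `Q C_S(Q)`. -/
theorem iso_core_of_mor {D : Subgroup Ω} {k : Ω → Ω} (hk : Mor F D k)
    (hD : Q ⊔ centralizerIn S Q ≤ D) (hkQ : Iso F Q Q k) :
    Iso F (Q ⊔ centralizerIn S Q) (Q ⊔ centralizerIn S Q) k := by
  have hm := hk.mono hD
  have hmem : ∀ x ∈ Q ⊔ centralizerIn S Q, k x ∈ Q ⊔ centralizerIn S Q := fun x hx =>
    hm.mem_of_sup (fun a ha => Subgroup.mem_sup_left (hkQ.mem ha))
      (fun a ha => Subgroup.mem_sup_right (hm.mem_centralizerIn le_sup_left hkQ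
        (le_sup_right (a := Q) ha) ha.2)) hx
  exact ⟨hm, fun y => ⟨fun hy => hm.surj_of_card hm.le hmem le_rfl hy,
    fun ⟨x, hx, hxy⟩ => hxy ▸ hmem x hx⟩⟩

theorem core_le_normalizerIn (hQ : Q ≤ S) : Q ⊔ centralizerIn S Q ≤ normalizerIn S Q :=
  sup_le (le_inf hQ Subgroup.le_normalizer) (centralizerIn_le_normalizerIn S Q)

/-- A map stabilizing `P` carries the normalizer of `P` into the normalizer of the image. -/
theorem Mor.mem_normalizerIn_image {D P' : Subgroup Ω} (hf : Mor F D f) (hi : Iso F P P' f)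
    (hPD : P ≤ D) {x : Ω} (hx : x ∈ D) (hxn : x ∈ Subgroup.normalizer (P : Set Ω)) :
    f x ∈ normalizerIn S P' := by
  have := finite_of_le hi.right_le
  refine ⟨hf.mem_S hx, mem_normalizer_of_maps fun y hy => ?_⟩
  obtain ⟨z, hz, rfl⟩ := hi.exists_eq hy
  rw [← hf.map_conj hx (hPD hz)]
  exact hi.mem ((Subgroup.mem_normalizer_iff.1 hxn z).1 hz)

/-- Restricting a map to a subgroup gives an isomorphism onto the image. -/
theorem exists_iso_restrict {D : Subgroup Ω} (hf : Mor F D f) (hP : P ≤ D) :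
    ∃ P', Iso F P P' f := (hf.mono hP).exists_iso

variable [Fact p.Prime] (hS : IsPGroup p S) (hF : F.IsSaturated p) (hG : GoodGam F p Γ)
include hS hF

theorem centric_core (hQ : F.IsFullyNormalized Q) : F.IsCentric (Q ⊔ centralizerIn S Q) :=
  by
  have hle : Q ⊔ centralizerIn S Q ≤ S := sup_le hQ.1 inf_le_left
  refine ⟨hle, fun R hR => ?_⟩
  obtain ⟨f, hf⟩ := isConj_iff.1 hR
  obtain ⟨Q', hQ'⟩ := exists_iso_restrict hf.1 (le_sup_left : Q ≤ _)
  have hQ'R : Q' ≤ R := fun y hy => by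
    obtain ⟨x, hx, rfl⟩ := hQ'.exists_eq hy
    exact hf.mem (Subgroup.mem_sup_left hx)
  have hcard := (fullyCentralized_of_fullyNormalized hS hF hQ).2 Q' hQ'.isConj
  intro y hy
  have hy' : y ∈ centralizerIn S Q' := ⟨hy.1, Subgroup.centralizer_le hQ'R hy.2⟩
  obtain ⟨x, hx, rfl⟩ := (hf.1.mono le_sup_right).surj_of_card
    (inf_le_left : centralizerIn S Q' ≤ S) (fun x hx => hf.1.mem_centralizerIn le_sup_left hQ'
      (Subgroup.mem_sup_right hx) hx.2) hcard hy'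
  exact hf.mem (Subgroup.mem_sup_right hx)

include hG

theorem Lam.comp {a b : Ω → Ω} {η θ : MulAut S} (h : Lam F p Γ Q a η) (h' : Lam F p Γ Q b θ)
    (haQ : ∀ x ∈ Q, a x ∈ Q) : Lam F p Γ Q (b ∘ a) (θ * η) := by
  obtain ⟨k, hk, hka, hη⟩ := h
  obtain ⟨l, hl, hlb, hθ⟩ := h'
  refine ⟨l ∘ k, hk.comp hl, fun x hx => ?_, hη.comp hG.toGamNormal hθ fun x hx => hk.mem hx⟩
  show l (k x) = b (a x)
  rw [hka x hx, hlb _ (haQ x hx)]

theorem Lam.inv {a b : Ω → Ω} {η : MulAut S} (h : Lam F p Γ Q a η)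
    (ha : ∀ y ∈ Q, ∃ x ∈ Q, a x = y) (hba : ∀ x ∈ Q, b (a x) = x) :
    Lam F p Γ Q b η⁻¹ := by
  obtain ⟨k, hk, hka, hη⟩ := h
  obtain ⟨l, hl, hlk, -⟩ := hk.symm
  refine ⟨l, hl, fun y hy => ?_, hη.inv hG.toGamNormal hk hlk⟩
  obtain ⟨x, hx, rfl⟩ := ha y hy
  rw [hba x hx, ← hka x hx, hlk _ (Subgroup.mem_sup_left hx)]

theorem lam_one (hQ : Q ≤ S) : Lam F p Γ Q id 1 :=
  ⟨id, iso_id (sup_le hQ inf_le_left), fun _ _ => rfl,
    cls_minOp (mor_id (sup_le hQ inf_le_left))⟩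

theorem Lam.mul_right {a : Ω → Ω} {η γ : MulAut S} (h : Lam F p Γ Q a η) (hγ : γ ∈ Γ) :
    Lam F p Γ Q a (η * γ) := by
  obtain ⟨k, hk, hka, hη⟩ := h
  exact ⟨k, hk, hka, hη.mul_right hG.toGamNormal hγ⟩

/-- A map fixing `Q` pointwise extends with the same class. -/
theorem lam_id_of_fix (hQn : F.IsFullyNormalized Q) {Y : Subgroup Ω} (hQY : Q ≤ Y)
    (hY : Y ≤ normalizerIn S Q) {m : Ω → Ω} (hm : Mor F Y m)
    (hmT : ∀ x ∈ Y, m x ∈ normalizerIn S Q) (hfix : ∀ x ∈ Q, m x = x) :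
    ∃ η, Lam F p Γ Q id η ∧ Cls F p Γ Y m η := by
  obtain ⟨η, a, ha, hafix, haη, hmη⟩ := exists_cls_fix hG.toGamNormal hS hF hQn hQY hY hm hmT hfix
  have hle := core_le_normalizerIn (S := S) hQn.1
  refine ⟨η, ⟨a, iso_core_of_mor ha hle
    ((iso_id hQn.1).congr hafix), hafix, haη.mono hle⟩, hmη⟩

/-- An automorphism fixing `Q` is realized with its class on the normalizer. -/
theorem exists_fix_of_lam (hQn : F.IsFullyNormalized Q) {γ : MulAut S} (h : Lam F p Γ Q id γ) :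
    ∃ a, Mor F (normalizerIn S Q) a ∧ (∀ x ∈ Q, a x = x) ∧
      Cls F p Γ (normalizerIn S Q) a γ := by
  obtain ⟨k, hk, hka, hγ⟩ := h
  have hle := core_le_normalizerIn (S := S) hQn.1
  obtain ⟨η, a, ha, hafix, haη, hkη⟩ := exists_cls_fix hG.toGamNormal hS hF hQn le_sup_left hle hk.1
    (fun x hx => hle (hk.mem hx)) hka
  refine ⟨a, ha, hafix, ?_⟩
  have h1 := haη.mul_right hG.toGamNormal (hkη.unique hG hγ (centric_core hS hF hQn))
  rwa [mul_inv_cancel_left] at h1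

/-- The classes at a fully normalized subgroup are those of the maps fixing it. -/
def MainAt (F : FusionSystem S) (p : ℕ) (Γ : Subgroup (MulAut S)) (Q : Subgroup Ω) : Prop :=
  ∀ γ, Cls F p Γ Q id γ → Lam F p Γ Q id γ

section Step

variable (hQn : F.IsFullyNormalized Q)
  (ihQ : ∀ R : Subgroup Ω, Nat.card Q < Nat.card R → F.IsFullyNormalized R → MainAt F p Γ R)
include hQn ihQ

/-- The classes of a map of a subgroup containing `Q` in its normalizer. -/
theorem lam_of_cls : ∀ {Y : Subgroup Ω} {f : Ω → Ω} {η : MulAut S},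
    Q ≤ Y → Y ≤ normalizerIn S Q → (Q < Y ∨ F.IsCentric Y) →
    Iso F Q Q f → Cls F p Γ Y f η → Lam F p Γ Q f η := by
  set T := normalizerIn S Q with hTdef
  have hTS : T ≤ S := inf_le_left
  have hT : Finite T := finite_of_le hTS
  set R₀ := Q ⊔ centralizerIn S Q with hR₀
  have hR₀c : F.IsCentric R₀ := centric_core hS hF hQn
  have hR₀T : R₀ ≤ T := core_le_normalizerIn hQn.1
  suffices H : ∀ d, ∀ {Y : Subgroup Ω} {f : Ω → Ω} {η : MulAut S},
      Nat.card T - Nat.card Y = d →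
      Q ≤ Y → Y ≤ T → (Q < Y ∨ F.IsCentric Y) →
      Iso F Q Q f → Cls F p Γ Y f η → Lam F p Γ Q f η from fun {_ _ _} => H _ rfl
  intro d
  induction d using Nat.strong_induction_on with
  | _ d ih =>
  intro Y f η hd hQY hYT hY hfQ hη
  have hYS : Y ≤ S := hYT.trans hTS
  have hf : Mor F Y f := hη.mor hG.toGamNormal
  obtain ⟨k, hk, hkf⟩ :=
    (isReceptive_iff.1 (receptive_of_fullyNormalized hS hF hQn)).2 Q f hfQ
  have hkQ : Iso F Q Q k := hfQ.congr hkf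
  have hsrc : Y ⊔ R₀ ≤ nPhi S Q f := by
    refine sup_le (fun y hy => ⟨hYS hy, (hYT hy).2, f y, hf.mem_S hy,
      fun x hx => hf.map_conj hy (hQY hx)⟩) (sup_le hfQ.1.le_nPhi centralizerIn_le_nPhi)
  have hk' : Mor F (Y ⊔ R₀) k := hk.mono hsrc
  obtain ⟨ζ, hζ⟩ := exists_cls hG.toGamNormal hS hF hk'
  have hlam : Lam F p Γ Q f ζ :=
    ⟨k, iso_core_of_mor hk' le_sup_right hkQ, hkf, hζ.mono le_sup_right⟩
  obtain ⟨I, hI⟩ := hk'.exists_iso
  obtain ⟨l, hl, hlk, -⟩ := hI.symm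
  -- `f` maps `Y` into the image of the extension
  have hR₀I : R₀ ≤ I := fun y hy => by
    obtain ⟨x, hx, rfl⟩ := (iso_core_of_mor hk' le_sup_right hkQ).exists_eq hy
    exact hI.mem (Subgroup.mem_sup_right hx)
  have himg : ∀ y ∈ Y, f y ∈ I := fun y hy => by
    have hky : k y ∈ I := hI.mem (Subgroup.mem_sup_left hy)
    have hc : (k y)⁻¹ * f y ∈ centralizerIn S Q := by
      refine ⟨S.mul_mem (S.inv_mem (hk'.mem_S (Subgroup.mem_sup_left hy))) (hf.mem_S hy),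
        Subgroup.mem_centralizer_iff.2 fun x hx => ?_⟩
      obtain ⟨z, hz, rfl⟩ := hkQ.exists_eq hx
      have hyz : y * z * y⁻¹ ∈ Q := (Subgroup.mem_normalizer_iff.1 (hYT hy).2 z).1 hz
      have h1 := hk'.map_conj (Subgroup.mem_sup_left hy)
        (Subgroup.mem_sup_right (Subgroup.mem_sup_left hz) : z ∈ Y ⊔ R₀)
      rw [hkf _ hyz, hf.map_conj hy (hQY hz), ← hkf z hz] at h1
      calc k z * ((k y)⁻¹ * f y) = (k y)⁻¹ * (k y * k z * (k y)⁻¹) * f y := by group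
        _ = (k y)⁻¹ * (f y * k z * (f y)⁻¹) * f y := by rw [h1]
        _ = (k y)⁻¹ * f y * k z := by group
    have h2 := I.mul_mem hky (hR₀I (Subgroup.mem_sup_right hc))
    rwa [mul_inv_cancel_left] at h2
  set m := l ∘ f with hmdef
  have hm : Mor F Y m := hf.comp hl.1 himg
  have hmfix : ∀ x ∈ Q, m x = x := fun x hx => by
    show l (f x) = x
    rw [← hkf x hx, hlk x (Subgroup.mem_sup_right (Subgroup.mem_sup_left hx))]
  have hmT : ∀ y ∈ Y, m y ∈ T := fun y hy => hm.mem_normalizerIn_image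
    ((iso_id hQn.1).congr hmfix) hQY hy (hYT hy).2
  obtain ⟨η', hη', hmη'⟩ := lam_id_of_fix hS hF hG hQn hQY hYT hm hmT hmfix
  have hid : Cls F p Γ Y id (η'⁻¹ * (ζ⁻¹ * η)) :=
    hmη'.id_of hG.toGamNormal (hη.comp hG.toGamNormal (hζ.inv hG.toGamNormal hI hlk) himg)
  suffices hγ : ∀ γ, Cls F p Γ Y id γ → Lam F p Γ Q id γ by
    have h := ((hγ _ hid).comp hS hF hG hη' fun x hx => hx).comp hS hF hG hlam fun x hx => hx
    rwa [mul_inv_cancel_left, mul_inv_cancel_left] at h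
  intro γ hγ
  by_cases hYc : F.IsCentric Y
  · have h := (lam_one (F := F) (p := p) hS hF hG hQn.1).mul_right hS hF hG
      (hγ.mem_of_centric hG hYc)
    rwa [one_mul] at h
  have hQY' : Q < Y := hY.resolve_right hYc
  have hYne : Y < T := lt_of_le_of_ne hYT fun e =>
    hYc (e ▸ centric_of_le hR₀c hR₀T hTS)
  set D := T ⊓ Subgroup.normalizer (Y : Set Ω) with hDdef
  have hYD : Y < D := lt_inf_normalizer hS hTS hYne
  obtain ⟨Y', w, hY'n, hw, hwi, hwT⟩ := exists_fullyNormalized_mor hS hF hYS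
  obtain ⟨c, hc⟩ := exists_cls hG.toGamNormal hS hF hw
  obtain ⟨w', hw'i, hw'w, -⟩ := hwi.symm
  have hwY : Cls F p Γ Y w c := hc.mono (le_normalizerIn hYS)
  have hγ' : Cls F p Γ Y' id (c * γ * c⁻¹) := by
    have h := ((hwY.inv hG.toGamNormal hwi hw'w).comp hG.toGamNormal (hγ.comp hG.toGamNormal hwY fun x hx => hx)
      fun y hy => hw'i.mem hy).congr (f' := id) fun y hy => by
        obtain ⟨x, hx, rfl⟩ := hwi.exists_eq hy
        show w x = w (id (w' (w x)))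
        rw [hw'w x hx]
        rfl
    exact h
  have hcardY : Nat.card Q < Nat.card Y' := hwi.card_eq ▸ card_lt_of_lt' hYS hQY'
  obtain ⟨χ, hχ, hχY', hχc⟩ := ihQ Y' hcardY hY'n _ hγ'
  -- the image of `Q`
  have hQN : Q ≤ normalizerIn S Y := hQY.trans (le_normalizerIn hYS)
  obtain ⟨Q', hQ'⟩ := exists_iso_restrict hw hQN
  have hQ'Y' : Q' ≤ Y' := fun y hy => by
    obtain ⟨x, hx, rfl⟩ := hQ'.exists_eq hy
    exact hwi.mem (hQY hx)
  obtain ⟨h, hh, hhi, hhT⟩ :=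
    exists_mor_to_fullyNormalized hS hF hQn (isConj_symm hQ'.isConj)
  obtain ⟨d', hd'⟩ := exists_cls hG.toGamNormal hS hF hh
  -- the composite on the normalizer of `Y` in `T`
  have hDle : D ≤ normalizerIn S Y := le_inf (inf_le_left.trans hTS) inf_le_right
  have hwD : ∀ x ∈ D, w x ∈ normalizerIn S Q' := fun x hx =>
    hw.mem_normalizerIn_image hQ' hQN (hDle hx) (Subgroup.mem_inf.1 hx).1.2
  have hu : Cls F p Γ D (h ∘ w) (d' * c) := (hc.mono hDle).comp hG.toGamNormal hd' hwD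
  have hcard : Nat.card T - Nat.card D < d := by
    have h1 : Nat.card ↥Y < Nat.card ↥D := card_lt_of_lt' (inf_le_left.trans hTS) hYD
    have h2 : Nat.card ↥D ≤ Nat.card ↥T := Subgroup.card_le_of_le inf_le_left
    omega
  have huQ : Lam F p Γ Q (h ∘ w) (d' * c) :=
    ih _ hcard rfl (hQY.trans hYD.le) inf_le_left (Or.inl (hQY'.trans hYD)) (hQ'.comp hhi) hu
  obtain ⟨u', hu'i, hu'u, -⟩ := (hQ'.comp hhi).symm
  -- transport of the map fixing `Y'`
  set Z := Y' ⊔ centralizerIn S Y' with hZdef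
  have hY'Q' : Y' ≤ normalizerIn S Q' := fun y hy => by
    obtain ⟨x, hx, rfl⟩ := hwi.exists_eq hy
    exact hwD x (hYD.le hx)
  have hZQ' : Z ≤ normalizerIn S Q' := sup_le hY'Q'
    ((inf_le_inf_left S (Subgroup.centralizer_le hQ'Y')).trans (centralizerIn_le_normalizerIn S Q'))
  obtain ⟨J, hJ⟩ := exists_iso_restrict hh hZQ'
  obtain ⟨h', hh'i, hh'h, -⟩ := hJ.symm
  have hJT : J ≤ T := fun y hy => by
    obtain ⟨x, hx, rfl⟩ := hJ.exists_eq hy
    exact hhT x (hZQ' hx)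
  have hQ'Z : Q' ≤ Z := hQ'Y'.trans le_sup_left
  have hQJ : Q ≤ J := fun y hy => by
    obtain ⟨x, hx, rfl⟩ := hhi.exists_eq hy
    exact hJ.mem (hQ'Z hx)
  have hm2fix : ∀ x ∈ Q, (h ∘ χ ∘ h') x = x := fun y hy => by
    obtain ⟨x, hx, rfl⟩ := hhi.exists_eq hy
    show h (χ (h' (h x))) = h x
    rw [hh'h x (hQ'Z hx), hχY' x (hQ'Y' hx)]
    rfl
  have hm2c : Cls F p Γ J (h ∘ χ ∘ h') (d' * ((c * γ * c⁻¹) * d'⁻¹)) :=
    (((hd'.mono hZQ').inv hG.toGamNormal hJ hh'h).comp hG.toGamNormal hχc fun y hy => hh'i.mem hy).comp hG.toGamNormal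
      (hd'.mono hZQ') fun y hy => hχ.mem (hh'i.mem hy)
  obtain ⟨δ, hδ, hJδ⟩ := lam_id_of_fix hS hF hG hQn hQJ hJT (hm2c.mor hG.toGamNormal)
    (fun y hy => hhT _ (hZQ' (hχ.mem (hh'i.mem hy)))) hm2fix
  have hJc : F.IsCentric J := centric_of_isConj (centric_core hS hF hY'n) hJ.isConj
  have h1 := hδ.mul_right hS hF hG (hJδ.unique hG hm2c hJc)
  rw [mul_inv_cancel_left] at h1
  have h2 := (huQ.comp hS hF hG h1 fun x hx => (hQ'.comp hhi).mem hx).comp hS hF hG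
    (huQ.inv hS hF hG (fun y hy => (hQ'.comp hhi).exists_eq hy) hu'u)
    fun x hx => (hQ'.comp hhi).mem hx
  have h3 := h2.congr (a' := id) fun x hx => (hu'u x hx).symm
  rwa [show (d' * c)⁻¹ * (d' * ((c * γ * c⁻¹) * d'⁻¹) * (d' * c)) = γ by group] at h3

end Step

/-- The maps whose restrictions to conjugates of `Q` have the classes of their extensions. -/
def StepRel (F : FusionSystem S) (p : ℕ) (Γ : Subgroup (MulAut S)) (Q : Subgroup Ω)
    (X : Subgroup Ω) (e : Ω → Ω) : Prop :=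
  Mor F X e ∧ ∀ P P', P ≤ X → Iso F P P' e → ∀ g g' c c', Iso F P Q g → Iso F P' Q g' →
    Cls F p Γ (normalizerIn S P) g c → Cls F p Γ (normalizerIn S P') g' c' →
    ∃ a, (∀ x ∈ P, g' (e x) = a (g x)) ∧ Lam F p Γ Q a (c' * c⁻¹)

theorem stepRel_centric (hQn : F.IsFullyNormalized Q)
    (ihQ : ∀ R : Subgroup Ω, Nat.card Q < Nat.card R → F.IsFullyNormalized R → MainAt F p Γ R)
    {X : Subgroup Ω} {e : Ω → Ω} (hX : F.IsCentric X) (he : Mor (minOp F p) X e) :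
    StepRel F p Γ Q X e := by
  refine ⟨le_iff_mor.1 minOp_le X e he, fun P P' hPX hP g g' c c' hg hg' hc hc' => ?_⟩
  have heF : Mor F X e := le_iff_mor.1 minOp_le X e he
  set Z := X ⊓ Subgroup.normalizer (P : Set Ω) with hZdef
  have hZN : Z ≤ normalizerIn S P := le_inf (inf_le_left.trans hX.1) inf_le_right
  have hPZ : P ≤ Z := le_inf hPX Subgroup.le_normalizer
  obtain ⟨Y, hY⟩ := exists_iso_restrict (hc.mor hG.toGamNormal) hZN
  obtain ⟨g₁, hg₁, hg₁g, -⟩ := hY.symm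
  have heZ : ∀ x ∈ Z, e x ∈ normalizerIn S P' := fun x hx =>
    heF.mem_normalizerIn_image hP hPX hx.1 hx.2
  have hcls : Cls F p Γ Y (g' ∘ e ∘ g₁) (c' * c⁻¹) := by
    have h := (((hc.mono hZN).inv hG.toGamNormal hY hg₁g).comp hG.toGamNormal
      ((cls_minOp (Γ := Γ) he).mono (inf_le_left : Z ≤ X)) fun y hy => hg₁.mem hy).comp hG.toGamNormal hc'
      fun y hy => heZ _ (hg₁.mem hy)
    rwa [one_mul] at h
  have hQY : Q ≤ Y := fun y hy => by
    obtain ⟨x, hx, rfl⟩ := hg.exists_eq hy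
    exact hY.mem (hPZ hx)
  have hYT : Y ≤ normalizerIn S Q := fun y hy => by
    obtain ⟨x, hx, rfl⟩ := hY.exists_eq hy
    exact (hc.mor hG.toGamNormal).mem_normalizerIn_image hg (le_normalizerIn (hPX.trans hX.1)) (hZN hx) hx.2
  have hval : ∀ x ∈ P, (g' ∘ e ∘ g₁) (g x) = g' (e x) := fun x hx => by
    show g' (e (g₁ (g x))) = _
    rw [hg₁g x (hPZ hx)]
  have hiso : Iso F Q Q (g' ∘ e ∘ g₁) := by
    refine ⟨(hcls.mor hG.toGamNormal).mono hQY, fun y => ⟨fun hy => ?_, ?_⟩⟩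
    · obtain ⟨z, hz, rfl⟩ := hg'.exists_eq hy
      obtain ⟨x, hx, rfl⟩ := hP.exists_eq hz
      exact ⟨g x, hg.mem hx, hval x hx⟩
    · rintro ⟨_, hy, rfl⟩
      obtain ⟨x, hx, rfl⟩ := hg.exists_eq hy
      rw [hval x hx]
      exact hg'.mem (hP.mem hx)
  have hor : Q < Y ∨ F.IsCentric Y := by
    by_cases hPX' : P = X
    · right
      have : Z = X := le_antisymm inf_le_left (hPX' ▸ hPZ)
      exact centric_of_isConj (this.symm ▸ hX) hY.isConj
    · left
      have hlt : P < Z := lt_inf_normalizer hS hX.1 (lt_of_le_of_ne hPX hPX')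
      refine lt_of_le_of_ne hQY fun e => ?_
      have h1 := card_lt_of_lt' (inf_le_left.trans hX.1) hlt
      rw [hg.card_eq, hY.card_eq, e] at h1
      exact lt_irrefl _ h1
  exact ⟨_, fun x hx => (hval x hx).symm,
    lam_of_cls hS hF hG hQn ihQ hQY hYT hor hiso hcls⟩

/-- The main lemma: the classes at a fully normalized subgroup are those of the maps fixing it. -/
theorem mainAt : ∀ {Q : Subgroup Ω}, F.IsFullyNormalized Q → MainAt F p Γ Q := by
  suffices H : ∀ d, ∀ {Q : Subgroup Ω}, Nat.card S - Nat.card Q = d → F.IsFullyNormalized Q →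
      MainAt F p Γ Q from fun {_} => H _ rfl
  intro d
  induction d using Nat.strong_induction_on with
  | _ d ih =>
  intro Q hd hQn
  have ihQ : ∀ R : Subgroup Ω, Nat.card Q < Nat.card R → F.IsFullyNormalized R →
      MainAt F p Γ R := fun R hlt hR => by
    have h1 : Nat.card R ≤ Nat.card S := Subgroup.card_le_of_le hR.1
    exact ih _ (by omega) rfl hR
  have hM : SubRel F S (StepRel F p Γ Q) := by
    refine ⟨fun {X e e'} h he => ⟨h.1.congr he, fun P P' hPX hP g g' c c' hg hg' hc hc' => ?_⟩,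
      fun h => ⟨h.1.le, fun _ hx => h.1.mem_S hx⟩, fun {X s} hX hs => ⟨mor_conj hX hs,
        mor_conj hX hs, fun P P' hPX => (stepRel_centric hS hF hG hQn ihQ (centric_top F)
          (mor_conj le_rfl hs)).2 P P' (hPX.trans hX)⟩, ?_, ?_⟩
    · obtain ⟨a, ha, hl⟩ := h.2 P P' hPX
        (hP.congr fun x hx => (he x (hPX hx)).symm) g g' c c' hg hg' hc hc'
      exact ⟨a, fun x hx => by rw [he x (hPX hx)]; exact ha x hx, hl⟩
    · rintro X Y e e' - h - h' heY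
      refine ⟨h.1.comp h'.1 heY, fun P P'' hPX hP g g'' c c'' hg hg'' hc hc'' => ?_⟩
      obtain ⟨P', hP'⟩ := exists_iso_restrict h.1 hPX
      have hP'Y : P' ≤ Y := fun y hy => by
        obtain ⟨x, hx, rfl⟩ := hP'.exists_eq hy
        exact heY x (hPX hx)
      have hP'' : Iso F P' P'' e' := ⟨h'.1.mono hP'Y, fun y => ⟨fun hy => by
        obtain ⟨x, hx, rfl⟩ := hP.exists_eq hy
        exact ⟨e x, hP'.mem hx, rfl⟩, fun ⟨z, hz, hzy⟩ => by
        obtain ⟨x, hx, rfl⟩ := hP'.exists_eq hz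
        exact hzy ▸ hP.mem hx⟩⟩
      obtain ⟨g', hg', hg'i, -⟩ := exists_mor_to_fullyNormalized hS hF hQn
        (isConj_trans (isConj_symm hP'.isConj) hg.isConj)
      obtain ⟨c', hc'⟩ := exists_cls hG.toGamNormal hS hF hg'
      obtain ⟨a, ha, hla⟩ := h.2 P P' hPX hP' g g' c c' hg hg'i hc hc'
      obtain ⟨b, hb, hlb⟩ := h'.2 P' P'' hP'Y hP'' g' g'' c' c'' hg'i hg'' hc' hc''
      have haQ : ∀ y ∈ Q, a y ∈ Q := fun y hy => by
        obtain ⟨x, hx, rfl⟩ := hg.exists_eq hy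
        rw [← ha x hx]
        exact hg'i.mem (hP'.mem hx)
      refine ⟨b ∘ a, fun x hx => ?_, ?_⟩
      · show g'' (e' (e x)) = b (a (g x))
        rw [← ha x hx, hb _ (hP'.mem hx)]
      · have hl := hla.comp hS hF hG hlb haQ
        rwa [show c'' * c'⁻¹ * (c' * c⁻¹) = c'' * c⁻¹ by group] at hl
    · rintro X Y e e' he h he' hee
      refine ⟨he'.1, fun P' P hP'Y hP' g' g c' c hg' hg hc' hc => ?_⟩
      have hPX : P ≤ X := fun y hy => by
        obtain ⟨x, hx, rfl⟩ := hP'.exists_eq hy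
        exact he'.mem (hP'Y hx)
      have hP : Iso F P P' e := ⟨h.1.mono hPX, fun y => ⟨fun hy => by
        obtain ⟨x, hx, rfl⟩ := he.exists_eq (hP'Y hy)
        exact ⟨x, hee x hx ▸ hP'.mem hy, rfl⟩, fun ⟨x, hx, hxy⟩ => by
        obtain ⟨y', hy', rfl⟩ := hP'.exists_eq hx
        obtain ⟨x', hx', rfl⟩ := he.exists_eq (hP'Y hy')
        rw [hee x' hx'] at hxy
        exact hxy ▸ hy'⟩⟩
      obtain ⟨a, ha, hla⟩ := h.2 P P' hPX hP g g' c c' hg hg' hc hc'
      have hsurj : ∀ y ∈ Q, ∃ x ∈ Q, a x = y := fun y hy => by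
        obtain ⟨z, hz, rfl⟩ := hg'.exists_eq hy
        obtain ⟨x, hx, rfl⟩ := hP.exists_eq hz
        exact ⟨g x, hg.mem hx, (ha x hx).symm⟩
      obtain ⟨k, hk, hka, -⟩ := hla
      obtain ⟨l, -, hlk, -⟩ := hk.symm
      have hla' : ∀ x ∈ Q, l (a x) = x := fun x hx => by
        rw [← hka x hx, hlk x (Subgroup.mem_sup_left hx)]
      obtain ⟨a₀, ha₀, hla₀⟩ := h.2 P P' hPX hP g g' c c' hg hg' hc hc'
      have hsame : ∀ x ∈ Q, a₀ x = a x := fun y hy => by
        obtain ⟨x, hx, rfl⟩ := hg.exists_eq hy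
        rw [← ha₀ x hx, ← ha x hx]
      have hl := (hla₀.congr fun x hx => (hsame x hx).symm).inv hS hF hG hsurj hla'
      rw [mul_inv_rev, inv_inv] at hl
      refine ⟨l, fun y hy => ?_, hl⟩
      obtain ⟨x, hx, rfl⟩ := hP.exists_eq hy
      rw [hee x (hPX hx), ha x hx, hla' _ (hg.mem hx)]
  have hC : ContainsCentricOp (subSys hM) F p := fun R hR α hα =>
    Subgroup.subset_closure (((mor_subSys hM).2 ⟨(iso_apl hR.1 (opPrime_le_autGroup hα)).1,
      stepRel_centric hS hF hG hQn ihQ hR (mor_minOp_of_mem hR hα)⟩).hom_eq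
      fun x => (apl_coe α x).symm)
  intro γ hγ
  obtain ⟨hγS, δ, hδ, e, he, hid⟩ := hγ
  have hb : γ * δ ∈ F.autGroup S := Subgroup.mul_mem _ hγS (hG.le hδ)
  have hstep := ((mor_subSys hM).1 (le_iff_mor.1 (minOp_le_of hC) Q e he)).2
  obtain ⟨P', hP'⟩ := (le_iff_mor.1 minOp_le Q e he).exists_iso
  have hback : Iso F P' Q (apl (γ * δ)) := by
    refine ⟨(iso_apl le_rfl hb).1.mono hP'.right_le, fun y => ⟨fun hy => ⟨e y, hP'.mem hy,
      (hid y hy).symm⟩, fun ⟨z, hz, hzy⟩ => ?_⟩⟩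
    obtain ⟨x, hx, rfl⟩ := hP'.exists_eq hz
    rw [← hid x hx] at hzy
    exact hzy ▸ hx
  obtain ⟨a, ha, hla⟩ := hstep.2 Q P' le_rfl hP' id (apl (γ * δ)) 1 (γ * δ) (iso_id hQn.1) hback
    (cls_minOp (mor_id inf_le_left)) (cls_apl inf_le_left hb)
  have h1 := (hla.congr (a' := id) fun x hx =>
    (ha x hx).symm.trans (hid x hx).symm |>.symm).mul_right hS hF hG (Γ.inv_mem hδ)
  simpa using h1

end Cfsg.Agent.FusSys
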