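import Cfsg.Agent.FusSys.WeaklyNormalAux
import Cfsg.Agent.FusSys.NormalSub

/-!
The Frattini condition follows from invariance under all maps of the system.
-/

set_option autoImplicit false

namespace Cfsg.Agent.FusSys

open Cfsg Cfsg.FusionSystem

universe u

variable {Ω : Type u} [Group Ω] {S T : Subgroup Ω} {F : FusionSystem S} {E : FusionSystem T}
variable {p : ℕ}

/-- Conjugates of maps of `E` by maps of `F` are maps of `E`. -/
def StrongInv (E : FusionSystem T) (F : FusionSystem S) : Prop :=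
  ∀ (P Q : Subgroup Ω) (f g : Ω → Ω), P ≤ Q → Q ≤ T → Mor E P f → (∀ x ∈ P, f x ∈ Q) →
    Mor F Q g → ∀ P', (∀ y, y ∈ P' ↔ ∃ x ∈ P, g x = y) →
      ∃ h, Mor E P' h ∧ ∀ x ∈ P, h (g x) = g (f x)

/-- The maps that are an automorphism of `T` after a map of `E`. -/
def FrattiniRel (E : FusionSystem T) (F : FusionSystem S) (P : Subgroup Ω) (f : Ω → Ω) : Prop :=
  ∃ β ∈ F.autGroup T, ∃ g, Mor E P g ∧ ∀ x ∈ P, f x = apl β (g x)

theorem FrattiniRel.mono {P R : Subgroup Ω} {f : Ω → Ω} (h : FrattiniRel E F P f) (hR : R ≤ P) :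
    FrattiniRel E F R f := by
  obtain ⟨β, hβ, g, hg, hfg⟩ := h
  exact ⟨β, hβ, g, hg.mono hR, fun x hx => hfg x (hR hx)⟩

theorem FrattiniRel.congr {P : Subgroup Ω} {f f' : Ω → Ω} (h : FrattiniRel E F P f)
    (he : ∀ x ∈ P, f' x = f x) : FrattiniRel E F P f' := by
  obtain ⟨β, hβ, g, hg, hfg⟩ := h
  exact ⟨β, hβ, g, hg, fun x hx => (he x hx).trans (hfg x hx)⟩

/-- The maps of `E` are carried to maps of `E` by the automorphisms `F` induces on `T`. -/
def TransInv (E : FusionSystem T) (F : FusionSystem S) : Prop :=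
  ∀ {P : Subgroup Ω} {f : Ω → Ω}, Mor E P f → ∀ {β : MulAut T}, β ∈ F.autGroup T →
    ∃ h, Mor E ((P.subgroupOf T).map (T.subtype.comp β.toMonoidHom)) h ∧
      ∀ x ∈ P, h (apl β x) = apl β (f x)

variable [Finite S] (hT : F.StronglyClosed T) (hI : StrongInv E F)

section
variable (hC : TransInv E F)

include hC

theorem FrattiniRel.comp' {P Q : Subgroup Ω} {f f' : Ω → Ω} (hQT : Q ≤ T)
    (h : FrattiniRel E F P f) (h' : FrattiniRel E F Q f') (hfQ : ∀ x ∈ P, f x ∈ Q) :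
    FrattiniRel E F P (f' ∘ f) := by
  obtain ⟨β, hβ, g, hg, hfg⟩ := h
  obtain ⟨β', hβ', g', hg', hfg'⟩ := h'
  obtain ⟨k, hk, hkx⟩ := hC hg' (Subgroup.inv_mem _ hβ)
  have hmem : ∀ x ∈ P, g x ∈ (Q.subgroupOf T).map (T.subtype.comp (β⁻¹).toMonoidHom) := fun x hx =>
    ⟨⟨f x, hQT (hfQ x hx)⟩, hfQ x hx, by
      show ((β⁻¹ ⟨f x, _⟩ : T) : Ω) = g x
      rw [← apl_apply, hfg x hx, apl_inv_apl β (hg.mem_S hx)]⟩
  refine ⟨β' * β, Subgroup.mul_mem _ hβ' hβ, k ∘ g, hg.comp hk hmem, fun x hx => ?_⟩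
  have hgT : g x ∈ T := hg.mem_S hx
  have h1 := hkx _ (hfQ x hx)
  rw [hfg x hx, apl_inv_apl β hgT] at h1
  have hfT : apl β (g x) ∈ Q := hfg x hx ▸ hfQ x hx
  show f' (f x) = apl (β' * β) (k (g x))
  rw [apl_mul _ _ (hk.mem_S (hmem x hx)), h1, apl_apl_inv β (hg'.mem_S hfT), hfg' _ (hfQ x hx),
    hfg x hx]

theorem FrattiniRel.inv' {P Q : Subgroup Ω} {f f' : Ω → Ω} (hi : Iso F P Q f)
    (h : FrattiniRel E F P f) (hff : ∀ x ∈ P, f' (f x) = x) : FrattiniRel E F Q f' := by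
  obtain ⟨β, hβ, g, hg, hfg⟩ := h
  obtain ⟨R, hR⟩ := hg.exists_iso
  obtain ⟨g', hg', hgl, -⟩ := hR.symm
  obtain ⟨k, hk, hkx⟩ := hC hg'.1 hβ
  have hle : Q ≤ (R.subgroupOf T).map (T.subtype.comp β.toMonoidHom) := fun y hy => by
    obtain ⟨x, hx, rfl⟩ := hi.exists_eq hy
    exact ⟨⟨g x, hg.mem_S hx⟩, hR.mem hx, by
      show ((β ⟨g x, _⟩ : T) : Ω) = f x
      rw [← apl_apply, hfg x hx]⟩
  refine ⟨β⁻¹, Subgroup.inv_mem _ hβ, k, hk.mono hle, fun y hy => ?_⟩
  obtain ⟨x, hx, rfl⟩ := hi.exists_eq hy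
  rw [hff x hx, hfg x hx, hkx _ (hR.mem hx), hgl x hx, apl_inv_apl β (hg.le hx)]

end

include hT hI

theorem strongInv_transport {P : Subgroup Ω} {f : Ω → Ω} (hf : Mor E P f) {β : MulAut T}
    (hβ : β ∈ F.autGroup T) :
    ∃ h, Mor E ((P.subgroupOf T).map (T.subtype.comp β.toMonoidHom)) h ∧
      ∀ x ∈ P, h (apl β x) = apl β (f x) :=
  hI P T f (apl β) hf.le le_rfl hf (fun x hx => hf.mem_S hx) (iso_apl hT.1 hβ).1 _ fun y =>
    ⟨fun ⟨x, hx, hxy⟩ => ⟨x, hx, (apl_coe β x).trans hxy⟩,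
      fun ⟨x, hx, hxy⟩ => ⟨⟨x, hf.le hx⟩, hx, (apl_apply β (hf.le hx)).symm.trans hxy⟩⟩

theorem FrattiniRel.comp {P Q : Subgroup Ω} {f f' : Ω → Ω} (hQT : Q ≤ T)
    (h : FrattiniRel E F P f) (h' : FrattiniRel E F Q f') (hfQ : ∀ x ∈ P, f x ∈ Q) :
    FrattiniRel E F P (f' ∘ f) :=
  FrattiniRel.comp' (fun hf _ hβ => strongInv_transport hT hI hf hβ) hQT h h' hfQ

theorem FrattiniRel.inv {P Q : Subgroup Ω} {f f' : Ω → Ω} (hi : Iso F P Q f)
    (h : FrattiniRel E F P f) (hff : ∀ x ∈ P, f' (f x) = x) : FrattiniRel E F Q f' :=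
  FrattiniRel.inv' (fun hf _ hβ => strongInv_transport hT hI hf hβ) hi h hff

variable [Fact p.Prime] (hS : IsPGroup p S) (hF : F.IsSaturated p)

include hS hF

theorem frattini_of_strongInv : ∀ (P : Subgroup Ω), P ≤ T → ∀ f, Mor F P f → FrattiniRel E F P f := by
  haveI := finite_of_le hT.1
  suffices H : ∀ d, ∀ P : Subgroup Ω, P ≤ T → Nat.card T - Nat.card P ≤ d → ∀ f, Mor F P f →
      FrattiniRel E F P f from fun P hP f hf => H _ P hP le_rfl f hf
  intro d
  induction d using Nat.strong_induction_on with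
  | _ d ih =>
    intro P hP hd f hf
    by_cases hPT : P = T
    · subst hPT
      obtain ⟨β, hβ, hβx⟩ := (StronglyClosed.iso_self hT hf le_rfl).exists_mem_autGroup
      exact ⟨β, hβ, id, mor_id le_rfl, fun x hx => (hβx x hx).symm⟩
    have hbig : ∀ R, P < R → R ≤ T → ∀ g, Mor F R g → FrattiniRel E F R g := by
      intro R hPR hR g hg
      haveI := finite_of_le hR
      have h1 : Nat.card P < Nat.card R := lt_of_not_ge fun hle =>
        hPR.ne (Subgroup.eq_of_le_of_card_ge hPR.le hle)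
      have h2 : Nat.card R ≤ Nat.card T := Subgroup.card_le_of_le hR
      exact ih _ (by omega) R hR le_rfl g hg
    have hTp : IsPGroup p T := hS.to_le hT.1
    have hlt : ∀ R : Subgroup Ω, R ≤ T → Nat.card R = Nat.card P → R < T ⊓ Subgroup.normalizer (R : Set Ω) := by
      intro R hR hc
      refine lt_inf_normalizer hTp le_rfl (lt_of_le_of_ne hR fun e => hPT ?_)
      exact Subgroup.eq_of_le_of_card_ge hP (le_of_eq (e ▸ hc))
    have hPS : P ≤ S := hP.trans hT.1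
    obtain ⟨P₁, k, hP₁n, hk, hki, -⟩ := exists_fullyNormalized_mor hS hF hPS
    have hP₁T : P₁ ≤ T := fun y hy => by
      obtain ⟨x, hx, rfl⟩ := hki.exists_eq hy
      exact StronglyClosed.mor_mem hT hki.1 hx (hP hx)
    have hstep : ∀ R h, R ≤ T → Nat.card R = Nat.card P → Mor F (normalizerIn S R) h →
        FrattiniRel E F R h := by
      intro R h hR hc hh
      have hlt' := hlt R hR hc
      have hle : T ⊓ Subgroup.normalizer (R : Set Ω) ≤ normalizerIn S R := inf_le_inf_right _ hT.1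
      refine FrattiniRel.mono ?_ hlt'.le
      have hcard : Nat.card P < Nat.card ↥(T ⊓ Subgroup.normalizer (R : Set Ω)) := by
        haveI := finite_of_le (inf_le_left : T ⊓ Subgroup.normalizer (R : Set Ω) ≤ T)
        exact hc ▸ lt_of_not_ge fun hle' => hlt'.ne (Subgroup.eq_of_le_of_card_ge hlt'.le hle')
      have h2 : Nat.card ↥(T ⊓ Subgroup.normalizer (R : Set Ω)) ≤ Nat.card T :=
        Subgroup.card_le_of_le inf_le_left
      exact ih _ (by omega) _ inf_le_left le_rfl h (hh.mono hle)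
    obtain ⟨P₂, hP₂⟩ := hf.exists_iso
    have hP₂T : P₂ ≤ T := fun y hy => by
      obtain ⟨x, hx, rfl⟩ := hP₂.exists_eq hy
      exact StronglyClosed.mor_mem hT hf hx (hP hx)
    obtain ⟨k₂, hk₂, hk₂i, -⟩ :=
      exists_mor_to_fullyNormalized hS hF hP₁n (isConj_trans (isConj_symm hP₂.isConj) hki.isConj)
    have hc₂ : Nat.card P₂ = Nat.card P := hP₂.card_eq.symm
    have hF1 : FrattiniRel E F P k := hstep P k hP rfl hk
    have hF2 : FrattiniRel E F P₂ k₂ := hstep P₂ k₂ hP₂T hc₂ hk₂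
    obtain ⟨k', hk', hk'l, hk'r⟩ := hki.symm
    obtain ⟨k₂', hk₂', hk₂'l, -⟩ := hk₂i.symm
    obtain ⟨a, ha, hax⟩ := ((hk'.comp hP₂).comp hk₂i).exists_mem_autGroup
    -- the Frattini argument in `Aut_F(P₁)`
    haveI := finite_of_le hP₁n.1
    haveI : Finite (MulAut P₁) := Finite.of_injective _ MulEquiv.toEquiv_injective
    obtain ⟨-, U, hU⟩ := fullyAutomized_of_fullyNormalized hS hF hP₁n
    let A : Subgroup (F.autGroup P₁) := (E.autGroup P₁).subgroupOf (F.autGroup P₁)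
    haveI hA : A.Normal := ⟨fun e he b => by
      rw [Subgroup.mem_subgroupOf] at he ⊢
      have he' := (iso_apl hP₁T he).1
      have hb := (iso_apl hP₁n.1 b.2).1
      obtain ⟨h, hh, hhx⟩ := hI P₁ P₁ _ _ le_rfl hP₁T he' (fun x hx => apl_mem _ hx) hb P₁ fun y =>
        ⟨fun hy => ⟨_, apl_mem _ hy, apl_apl_inv _ hy⟩, fun ⟨x, hx, hxy⟩ => hxy ▸ apl_mem _ hx⟩
      refine Subgroup.subset_closure (hh.hom_eq fun y => ?_)
      show (((b : MulAut P₁) * (e : MulAut P₁) * (b : MulAut P₁)⁻¹) y : Ω) = h y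
      rw [← apl_coe, mul_assoc, apl_mul _ _ y.2, apl_mul _ _ y.2, ← hhx _ (apl_mem _ y.2),
        apl_apl_inv _ y.2]⟩
    have hs := sylow_inter_normal U A
    obtain ⟨R, hR⟩ := (sylIn_iff (U.2.to_le inf_le_left) inf_le_right).1 hs
    have hfr := Sylow.normalizer_sup_eq_top R
    rw [hR, Subgroup.subgroupOf_map_subtype,
      inf_eq_left.2 (inf_le_right : (U : Subgroup (F.autGroup P₁)) ⊓ A ≤ A)] at hfr
    have ham : (⟨a, ha⟩ : F.autGroup P₁) ∈ (⊤ : Subgroup (F.autGroup P₁)) := Subgroup.mem_top _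
    rw [← hfr, Subgroup.mem_sup_of_normal_right] at ham
    obtain ⟨n, hn, e, he, hne⟩ := ham
    have hFe : FrattiniRel E F P₁ (apl (e : MulAut P₁)) :=
      ⟨1, Subgroup.one_mem _, _, (iso_apl hP₁T he).1, fun x hx =>
        (apl_one (hP₁T (apl_mem _ hx))).symm⟩
    have hFn : FrattiniRel E F P₁ (apl (n : MulAut P₁)) := by
      have hni := iso_apl (F := F) hP₁n.1 n.2
      obtain ⟨g, hg, hgn⟩ := (isReceptive_iff.1 (receptive_of_fullyNormalized hS hF hP₁n)).2 P₁ _ hni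
      have hlt' := hlt P₁ hP₁T hki.card_eq.symm
      have hle : T ⊓ Subgroup.normalizer (P₁ : Set Ω) ≤ nPhi S P₁ (apl (n : MulAut P₁)) := by
        rintro t ⟨htT, htn⟩
        obtain ⟨c, hc, hcx⟩ := exists_mem_autInducedBy (K := S) (P := P₁) (hT.1 htT) htn
        have hcF : c ∈ F.autGroup P₁ := autInducedBy_le_autGroup hP₁n.1 hc
        have hcE : c ∈ E.autGroup P₁ := Subgroup.subset_closure
          (((mor_conj (F := E) hP₁T htT).congr fun x hx => hcx x hx).hom_eq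
            fun x => (apl_coe c x).symm)
        have hcU : (⟨c, hcF⟩ : F.autGroup P₁) ∈ (U : Subgroup (F.autGroup P₁)) ⊓ A :=
          ⟨hU.ge (Subgroup.mem_subgroupOf.2 hc), Subgroup.mem_subgroupOf.2 hcE⟩
        have h1 := ((Subgroup.mem_normalizer_iff.1 hn _).1 hcU).1
        have h2 := Subgroup.mem_subgroupOf.1 (hU.le h1)
        obtain ⟨h, hh, -, hhx⟩ := mem_autInducedBy_iff.1 h2
        refine mem_nPhi.2 ⟨hT.1 htT, htn, h, hh, fun x hx => ?_⟩
        rw [← hhx _ (apl_mem _ hx)]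
        show _ = apl ((n : MulAut P₁) * c * (n : MulAut P₁)⁻¹) _
        rw [apl_mul _ _ (apl_mem _ hx), apl_inv_apl _ hx, apl_mul _ _ hx, hcx x hx]
      have hcard : Nat.card P < Nat.card ↥(T ⊓ Subgroup.normalizer (P₁ : Set Ω)) := by
        haveI := finite_of_le (inf_le_left : T ⊓ Subgroup.normalizer (P₁ : Set Ω) ≤ T)
        exact hki.card_eq ▸ lt_of_not_ge fun hle' =>
          hlt'.ne (Subgroup.eq_of_le_of_card_ge hlt'.le hle')
      have h2 : Nat.card ↥(T ⊓ Subgroup.normalizer (P₁ : Set Ω)) ≤ Nat.card T :=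
        Subgroup.card_le_of_le inf_le_left
      exact ((ih _ (by omega) _ inf_le_left le_rfl g (hg.mono hle)).mono hlt'.le).congr
        fun x hx => (hgn x hx).symm
    have hFa : FrattiniRel E F P₁ (apl a) := (FrattiniRel.comp hT hI hP₁T hFe hFn
      fun x hx => apl_mem _ hx).congr fun x hx => by
        show apl a x = apl (n : MulAut P₁) (apl (e : MulAut P₁) x)
        rw [← apl_mul _ _ hx]
        exact congrArg (fun b : F.autGroup P₁ => apl (b : MulAut P₁) x) hne.symm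
    have hF2' : FrattiniRel E F P₁ k₂' := FrattiniRel.inv hT hI hk₂i hF2 hk₂'l
    refine (FrattiniRel.comp hT hI hP₁T (FrattiniRel.comp hT hI hP₁T hF1 hFa fun x hx => hki.mem hx)
      hF2' fun x hx => apl_mem a (hki.mem hx)).congr fun x hx => ?_
    show f x = k₂' (apl a (k x))
    rw [hax _ (hki.mem hx)]
    show f x = k₂' (k₂ (f (k' (k x))))
    rw [hk'l x hx, hk₂'l _ (hP₂.mem hx)]

end Cfsg.Agent.FusSys
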