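import Cfsg.Agent.FusSys.Transport

/-!
Transport of invariant, normal and subnormal subsystems, of simple and quasisimple systems and of components.
-/

set_option autoImplicit false
set_option linter.unusedSectionVars false

namespace Cfsg.Agent.FusSys

open Cfsg Cfsg.FusionSystem

variable {Ω : Type*} [Group Ω] {S : Subgroup Ω} {Ω' : Type*} [Group Ω'] {S' : Subgroup Ω'}
variable {F : FusionSystem S} {F' : FusionSystem S'} {e : Ω → Ω'} {d : Ω' → Ω}
variable {P Q R T : Subgroup Ω} {f : Ω → Ω} {p : ℕ}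

theorem invariant_of_mor {E : FusionSystem T} (hsub : E.IsSubsystemOf F) (hT : F.StronglyClosed T)
    (htr : ∀ P f, Mor E P f → ∀ β : MulAut T, β ∈ F.autGroup T →
      ∃ h, Mor E ((P.subgroupOf T).map (T.subtype.comp β.toMonoidHom)) h ∧ ∀ x ∈ P, h (apl β x) = apl β (f x))
    (hfr : ∀ P f, P ≤ T → Mor F P f → ∃ β ∈ F.autGroup T, ∃ g, Mor E P g ∧ ∀ x ∈ P, f x = apl β (g x)) :
    E.IsInvariantIn F := by
  refine ⟨hsub, hT, fun P hPT φ hφ α hα => ?_, fun P hP φ hφ => ?_⟩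
  · obtain ⟨g, ⟨χ, hχ, hχg⟩, hgx⟩ := htr P _ (mor_extendFn hφ) α hα
    refine ⟨χ, hχ, fun x hφx hαx => ?_⟩
    rw [hχg]
    show g ((α ⟨x, hPT x.2⟩ : T) : Ω) = _
    rw [← apl_apply α (hPT x.2), hgx x x.2, extendFn_coe, apl_apply α hφx]
  · obtain ⟨β, hβ, g, ⟨φ₀, hφ₀, hg⟩, hfx⟩ := hfr P _ hP (mor_extendFn hφ)
    refine ⟨β, hβ, φ₀, hφ₀, fun x hx => ?_⟩
    rw [← extendFn_coe φ x, hfx x x.2, ← hg x, apl_apply β hx]

theorem map_subgroupOf_apl (hPT : P ≤ T) (β : MulAut T) :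
    (P.subgroupOf T).map (T.subtype.comp β.toMonoidHom) = tImg (apl β) P := by
  refine le_antisymm ?_ ((Subgroup.closure_le _).2 ?_)
  · rintro _ ⟨⟨x, hx⟩, hxP, rfl⟩
    show ((β ⟨x, hx⟩ : T) : Ω) ∈ _
    rw [← apl_apply β hx]
    exact mem_tImg_of_mem (e := apl β) hxP
  · rintro _ ⟨x, hx, rfl⟩
    exact ⟨⟨x, hPT hx⟩, hx, (apl_apply β (hPT hx)).symm⟩

/-- An automorphism of `T` induced by `F` is an automorphism of an invariant subsystem over `T`. -/
theorem transp_of_invariant {E : FusionSystem T} (hE : E.IsInvariantIn F) {β : MulAut T}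
    (hβ : β ∈ F.autGroup T) : Transp E E (apl β) (apl β⁻¹) := by
  have hTS : T ≤ S := hE.2.1.1
  refine ⟨fun x hx => apl_mem β hx, fun x hx => apl_mem _ hx, fun x hx => apl_inv_apl β hx,
    fun x hx => apl_apl_inv β hx, fun x hx y hy => (iso_apl hTS hβ).1.map_mul hx hy, fun P f hf => ?_,
    fun P f hf => ?_⟩
  · obtain ⟨g, hg, hgx⟩ := exists_transport hE hf hβ
    rw [map_subgroupOf_apl hf.le β] at hg
    refine hg.congr fun y hy => ?_
    rw [← map_subgroupOf_apl hf.le β] at hy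
    obtain ⟨⟨x, hx⟩, hxP, rfl⟩ := hy
    show apl β (f (apl β⁻¹ ((β ⟨x, hx⟩ : T) : Ω))) = g ((β ⟨x, hx⟩ : T) : Ω)
    rw [← apl_apply β hx, hgx x hxP, apl_inv_apl β hx]
  · obtain ⟨g, hg, hgx⟩ := exists_transport hE hf (Subgroup.inv_mem _ hβ)
    rw [map_subgroupOf_apl hf.le β⁻¹] at hg
    refine hg.congr fun y hy => ?_
    rw [← map_subgroupOf_apl hf.le β⁻¹] at hy
    obtain ⟨⟨x, hx⟩, hxP, rfl⟩ := hy
    show apl β⁻¹ (f (apl β ((β⁻¹ ⟨x, hx⟩ : T) : Ω))) = g ((β⁻¹ ⟨x, hx⟩ : T) : Ω)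
    rw [← apl_apply β⁻¹ hx, hgx x hxP, apl_apl_inv β hx]

namespace Transp

variable (h : Transp F F' e d)
include h

theorem exists_aut_eq (hP : P ≤ S) {Q' : Subgroup Ω'} (hQ : tImg e P = Q') {α : MulAut P} (hα : α ∈ F.autGroup P) :
    ∃ β ∈ F'.autGroup Q', ∀ x ∈ P, apl β (e x) = e (apl α x) := by
  subst hQ
  exact h.exists_aut hP hα

theorem restrict {U : Subgroup Ω} (D : FusionSystem U) [Finite S] (hU : U ≤ S) :
    ∃ D' : FusionSystem (tImg e U), Transp D D' e d := by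
  haveI := finite_of_le hU
  let θ : U →* Ω' := h.hom.comp (Subgroup.inclusion hU)
  have hker : ∀ s : U, θ s = 1 ↔ (s : Ω) ∈ (⊥ : Subgroup Ω) := fun s => by
    rw [Subgroup.mem_bot]
    exact ⟨fun hs => h.injOn (hU s.2) S.one_mem (hs.trans h.map_one.symm),
      fun hs => (congrArg e hs).trans h.map_one⟩
  have hrange : θ.range = tImg e U := by
    ext y
    rw [h.mem_tImg hU]
    exact ⟨fun ⟨s, hs⟩ => ⟨s, s.2, hs⟩, fun ⟨x, hx, hxy⟩ => ⟨⟨x, hx⟩, hxy⟩⟩
  have hbot : D.StronglyClosed ⊥ := stronglyClosed_of_isNormal isNormal_bot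
  obtain ⟨D', hD'⟩ := exists_factorSystem hbot hker hrange
  have hθ : ∀ x ∈ U, thFn θ x = e x := fun x hx => by rw [thFn_apply hx]; rfl
  have hinv : ∀ y ∈ tImg e U, d y ∈ U := fun y hy => by
    obtain ⟨x, hx, rfl⟩ := (h.mem_tImg hU).1 hy
    rwa [h.left x (hU hx)]
  have hright : ∀ y ∈ tImg e U, e (d y) = y := fun y hy => h.right y (h.tImg_le hU hy)
  have hpre : ∀ P', P' ≤ tImg e U → preimageAlong θ P' = tImg d P' := fun P' hP' => by
    ext x
    rw [mem_pre, h.symm.mem_tImg (hP'.trans (h.tImg_le hU))]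
    refine ⟨fun ⟨hx, hxP⟩ => ⟨e x, hθ x hx ▸ hxP, h.left x (hU hx)⟩, fun ⟨y, hy, hyx⟩ => ?_⟩
    subst hyx
    refine ⟨hinv y (hP' hy), ?_⟩
    rwa [hθ _ (hinv y (hP' hy)), hright y (hP' hy)]
  refine ⟨D', fun x hx => mem_tImg_of_mem hx, hinv, fun x hx => h.left x (hU hx), hright,
    fun x hx y hy => h.map_mul x (hU hx) y (hU hy), fun P f hf => ?_, fun P' f' hf' => ?_⟩
  · have himg : preimageAlong θ (tImg e P) = P := by
      rw [hpre _ (tImg_mono hf.le), h.tImg_tImg (hf.le.trans hU)]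
    refine (mor_factor hD' hbot).2 ⟨tImg_mono hf.le, f, by rw [himg]; exact hf, fun x hx => ?_⟩
    rw [himg] at hx
    show e (f (d (thFn θ x))) = thFn θ (f x)
    rw [hθ x (hf.le hx), h.left x (hU (hf.le hx)), hθ _ (hf.mem_S hx)]
  · obtain ⟨hP', g, hg, hgx⟩ := (mor_factor hD' hbot).1 hf'
    rw [hpre P' hP'] at hg hgx
    refine hg.congr fun x hx => ?_
    show d (f' (e x)) = g x
    rw [← hθ x (hg.le hx), hgx x hx, hθ _ (hg.mem_S hx), h.left _ (hU (hg.mem_S hx))]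

theorem invariant [Finite S] {E : FusionSystem T} {T' : Subgroup Ω'} {E' : FusionSystem T'} (hE : Transp E E' e d)
    (hinv : E.IsInvariantIn F) : E'.IsInvariantIn F' := by
  have hTS : T ≤ S := hinv.2.1.1
  have hT' : tImg e T = T' := hE.tImg_top
  have hT'S : T' ≤ S' := hT' ▸ h.tImg_le hTS
  have hT : tImg d T' = T := by rw [← hT', h.tImg_tImg hTS]
  refine invariant_of_mor (h.isSubsystem hE hTS hinv.1) (hT' ▸ h.stronglyClosed hinv.2.1) ?_ ?_
  · intro P' f' hf' β' hβ'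
    obtain ⟨β, hβ, hβx⟩ := h.symm.exists_aut_eq hT'S hT hβ'
    have hP' : P' ≤ T' := hf'.le
    obtain ⟨g, hg, hgx⟩ := exists_transport hinv (hE.mor' P' f' hf') hβ
    rw [map_subgroupOf_apl (hT ▸ tImg_mono hP') β] at hg
    have hg' := hE.mor _ _ hg
    have himg : tImg e (tImg (apl β) (tImg d P')) = (P'.subgroupOf T').map (T'.subtype.comp β'.toMonoidHom) := by
      rw [map_subgroupOf_apl hP' β']
      refine le_antisymm ((Subgroup.closure_le _).2 ?_) ((Subgroup.closure_le _).2 ?_)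
      · rintro _ ⟨z, hz, rfl⟩
        have hz' : z ∈ ((tImg d P').subgroupOf T).map (T.subtype.comp β.toMonoidHom) := by
          rw [map_subgroupOf_apl (hT ▸ tImg_mono hP') β]; exact hz
        obtain ⟨⟨x, hx⟩, hxP, rfl⟩ := hz'
        obtain ⟨y, hy, rfl⟩ := (hE.symm.mem_tImg hP').1 hxP
        show e ((β ⟨d y, hx⟩ : T) : Ω) ∈ _
        rw [← apl_apply β hx, hβx y (hP' hy), hE.right _ (apl_mem β' (hP' hy))]
        exact mem_tImg_of_mem (e := apl β') hy
      · rintro _ ⟨y, hy, rfl⟩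
        rw [← hE.right _ (apl_mem β' (hP' hy)), ← hβx y (hP' hy)]
        exact mem_tImg_of_mem (mem_tImg_of_mem (e := apl β) (mem_tImg_of_mem (e := d) hy))
    refine ⟨_, himg ▸ hg', fun y hy => ?_⟩
    show e (g (d (apl β' y))) = apl β' (f' y)
    rw [← hβx y (hP' hy), hgx _ (mem_tImg_of_mem hy), hE.right y (hP' hy), hβx _ (hf'.mem_S hy),
      hE.right _ (apl_mem β' (hf'.mem_S hy))]
  · intro P' f' hP' hf'
    obtain ⟨β, hβ, g, hg, hgx⟩ := exists_frattini hinv (hT ▸ tImg_mono hP') (h.mor' P' f' hf')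
    obtain ⟨β', hβ', hβ'x⟩ := h.exists_aut_eq hTS hT' hβ
    have hg' := hE.mor _ _ hg
    rw [h.symm.tImg_tImg hf'.le] at hg'
    refine ⟨β', hβ', _, hg', fun y hy => ?_⟩
    show f' y = apl β' (e (g (d y)))
    have hgy := hg.mem_S (mem_tImg_of_mem (e := d) hy)
    rw [hβ'x _ hgy, ← hgx _ (mem_tImg_of_mem hy), hE.right y (hP' hy),
      h.right _ (hf'.mem_S hy)]

theorem normal [Fact p.Prime] [Finite S] (hS : IsPGroup p S) {E : FusionSystem T} {T' : Subgroup Ω'}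
    {E' : FusionSystem T'} (hE : Transp E E' e d) (hn : E.IsNormalIn F p) : E'.IsNormalIn F' p := by
  obtain ⟨⟨hEsat, hFsat, hinv⟩, hext⟩ := hn
  have hTS : T ≤ S := hinv.2.1.1
  haveI := finite_of_le hTS
  have hT' : tImg e T = T' := hE.tImg_top
  have hT'S : T' ≤ S' := hT' ▸ h.tImg_le hTS
  refine ⟨⟨hE.saturated (hS.to_le hTS) hEsat, h.saturated hS hFsat, h.invariant hE hinv⟩, fun α' hα' => ?_⟩
  obtain ⟨α, hα, hαx⟩ := hE.symm.exists_aut_eq le_rfl hE.symm.tImg_top hα'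
  obtain ⟨β, hβ, hβT, hβC⟩ := hext α hα
  have hTC : T ⊔ centralizerIn S T ≤ S := sup_le hTS inf_le_left
  have hTC' : tImg e (T ⊔ centralizerIn S T) = T' ⊔ centralizerIn S' T' := by
    rw [h.tImg_sup hTS (centralizerIn_le S T), h.tImg_centralizerIn hTS, hT']
  obtain ⟨β', hβ', hβ'x⟩ := h.exists_aut_eq hTC hTC' hβ
  refine ⟨β', hβ', fun y => ?_, fun c hc => ?_⟩
  · obtain ⟨x, hx, hxy⟩ := (hE.mem_tImg le_rfl).1 (hT'.ge y.2 : (y : Ω') ∈ _)
    rw [← apl_coe α' y, ← hxy, ← apl_coe β']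
    show apl β' ((y : T') : Ω') = _
    rw [← hxy, hβ'x x (le_sup_left (b := centralizerIn S T) hx)]
    have h1 := hβT ⟨x, hx⟩
    rw [← apl_coe β, ← apl_coe α] at h1
    have h2 := hαx (y : Ω') y.2
    rw [← hxy, hE.left x hx] at h2
    show e (apl β x) = _
    rw [show apl β x = apl α x from h1, h2, hE.right _ (apl_mem α' (hxy.symm ▸ y.2))]
  · replace hc : (c : Ω') ∈ tImg e (centralizerIn S T) := by rw [h.tImg_centralizerIn hTS, hT']; exact hc
    obtain ⟨x, hx, hxc⟩ := (h.mem_tImg (centralizerIn_le S T)).1 hc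
    have hxU : x ∈ T ⊔ centralizerIn S T := Subgroup.mem_sup_right hx
    have h1 := hβC ⟨x, hxU⟩ hx
    rw [← apl_coe β] at h1
    rw [← apl_coe β' c, ← hxc, hβ'x x hxU, ← h.map_inv hx.1,
      ← h.map_mul _ (S.inv_mem hx.1) _ (hTC (apl_mem β hxU))]
    refine ⟨hT' ▸ mem_tImg_of_mem h1.1, Subgroup.mem_centralizer_iff.2 fun z hz => ?_⟩
    obtain ⟨a, ha, rfl⟩ := (hE.mem_tImg le_rfl).1 (hT'.ge hz)
    rw [← h.map_mul a (hTS ha) _ (hTS h1.1), ← h.map_mul _ (hTS h1.1) a (hTS ha)]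
    exact congrArg e (Subgroup.mem_centralizer_iff.1 h1.2 a ha)

theorem simple [Fact p.Prime] [Finite S] (hS : IsPGroup p S) (hs : F.IsSimple p) : F'.IsSimple p := by
  haveI := h.finite
  obtain ⟨hsat, hne, hmin⟩ := hs
  refine ⟨h.saturated hS hsat, fun hb => hne ?_, fun T' E' hn => ?_⟩
  · have hSS := h.symm.tImg_top
    rw [hb, h.symm.tImg_bot] at hSS
    exact hSS.symm
  have hT'S : T' ≤ S' := hn.1.2.2.2.1.1
  obtain ⟨E, hE⟩ := h.symm.restrict E' hT'S
  rcases hmin _ E (h.symm.normal (h.isPGroup hS) hE hn) with hT | ⟨hT, hHom⟩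
  · left
    rw [← h.symm.tImg_tImg hT'S, hT, h.tImg_bot]
  · have hTS' : T' = S' := by rw [← h.symm.tImg_tImg hT'S, hT, h.tImg_top]
    refine Or.inr ⟨hTS', fun P' => Set.ext fun φ => ?_⟩
    rw [mem_hom_iff, mem_hom_iff]
    constructor
    · exact isSubsystemOf_iff_mor.1 hn.1.2.2.1 P' _
    · intro hm
      have h1 := h.mor' P' _ hm
      have h2 : Mor E (tImg d P') (fun x => d (extendFn φ (e x))) := by
        obtain ⟨ψ, hψ, hψx⟩ := h1
        exact ⟨ψ, (hHom _).ge hψ, hψx⟩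
      have h3 := hE.mor' _ _ h2
      rw [h.symm.tImg_tImg hm.le] at h3
      exact h3.congr fun y hy => by
        show extendFn φ y = e (d (extendFn φ (e (d y))))
        rw [h.right y (hm.le hy), h.right _ (hm.mem_S hy)]

theorem subnormal [hp : Fact p.Prime] [hfin : Finite S] (hS : IsPGroup p S) {T : Subgroup Ω} {C : FusionSystem T}
    (hC : C.IsSubnormalIn F p) : T ≤ S ∧ ∃ T', ∃ C' : FusionSystem T', Transp C C' e d ∧ C'.IsSubnormalIn F' p := by
  revert h hS hfin hp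
  induction hC generalizing S' with
  | refl => exact fun h {_ _} _ => ⟨le_rfl, _, _, h, IsSubnormalIn.refl _ _⟩
  | step hED hDF ih =>
    intro h hp hfin hS
    have hUS := hDF.1.2.2.2.1.1
    obtain ⟨D', hD'⟩ := h.restrict _ hUS
    haveI := finite_of_le hUS
    obtain ⟨hTU, T', C', hC', hsub⟩ := ih hD' (hS.to_le hUS)
    exact ⟨hTU.trans hUS, T', C', hC', IsSubnormalIn.step hsub (h.normal hS hD' hDF)⟩

theorem quasisimple [Fact p.Prime] [Finite S] (hS : IsPGroup p S) (hq : F.Quasisimple p) : F'.Quasisimple p := by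
  haveI := h.finite
  obtain ⟨hsat, hhyp, hsimple⟩ := hq
  refine ⟨h.saturated hS hsat, by rw [h.hyperfocal hS hsat, hhyp, h.tImg_top], fun E' hE' => ?_⟩
  have hZ : F.IsCentral F.center := isCentral_center
  have hT : F.StronglyClosed F.center := stronglyClosed_of_isNormal (isCentral_isNormal hZ)
  have hT' : F'.StronglyClosed F'.center := stronglyClosed_of_isNormal (isCentral_isNormal isCentral_center)
  set θ := QuotientGroup.mk' ((F.center).subgroupOf S) with hθ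
  set θ' := QuotientGroup.mk' ((F'.center).subgroupOf S') with hθ'
  have hker : ∀ s : S, θ s = 1 ↔ (s : Ω) ∈ F.center := fun s => QuotientGroup.eq_one_iff s
  have hker' : ∀ s : S', θ' s = 1 ↔ (s : Ω') ∈ F'.center := fun s => QuotientGroup.eq_one_iff s
  have hrange : θ.range = ⊤ := MonoidHom.range_eq_top.2 (QuotientGroup.mk'_surjective _)
  obtain ⟨E, hE⟩ := exists_factorSystem hT hker hrange
  let k : S →* S' :=
    { toFun := fun x => ⟨e x, h.map_mem x x.2⟩
      map_one' := Subtype.ext h.map_one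
      map_mul' := fun x y => Subtype.ext (h.map_mul x x.2 y y.2) }
  let l : S' →* S :=
    { toFun := fun x => ⟨d x, h.inv_mem x x.2⟩
      map_one' := Subtype.ext h.symm.map_one
      map_mul' := fun x y => Subtype.ext (h.inv_mul x.2 y.2) }
  let k' := QuotientGroup.map ((F.center).subgroupOf S) ((F'.center).subgroupOf S') k fun x hx =>
    Subgroup.mem_subgroupOf.2 (h.center_eq ▸ mem_tImg_of_mem (Subgroup.mem_subgroupOf.1 hx) : (k x : Ω') ∈ F'.center)
  let l' := QuotientGroup.map ((F'.center).subgroupOf S') ((F.center).subgroupOf S) l fun x hx =>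
    Subgroup.mem_subgroupOf.2 (h.symm.center_eq ▸ mem_tImg_of_mem (Subgroup.mem_subgroupOf.1 hx) : (l x : Ω) ∈ F.center)
  have hk : ∀ x ∈ S, k' (thFn θ x) = thFn θ' (e x) := fun x hx => by
    rw [thFn_apply hx, thFn_apply (h.map_mem x hx)]; rfl
  have hl : ∀ y ∈ S', l' (thFn θ' y) = thFn θ (d y) := fun y hy => by
    rw [thFn_apply hy, thFn_apply (h.inv_mem y hy)]; rfl
  have hsurj : ∀ q : S ⧸ (F.center).subgroupOf S, ∃ x ∈ S, thFn θ x = q := fun q => by
    obtain ⟨⟨x, hx⟩, rfl⟩ := QuotientGroup.mk'_surjective _ q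
    exact ⟨x, hx, thFn_apply hx⟩
  have hsurj' : ∀ q : S' ⧸ (F'.center).subgroupOf S', ∃ x ∈ S', thFn θ' x = q := fun q => by
    obtain ⟨⟨x, hx⟩, rfl⟩ := QuotientGroup.mk'_surjective _ q
    exact ⟨x, hx, thFn_apply hx⟩
  have hlk : ∀ q, l' (k' q) = q := fun q => by
    obtain ⟨x, hx, rfl⟩ := hsurj q
    rw [hk x hx, hl _ (h.map_mem x hx), h.left x hx]
  have hkl : ∀ q, k' (l' q) = q := fun q => by
    obtain ⟨x, hx, rfl⟩ := hsurj' q
    rw [hl x hx, hk _ (h.inv_mem x hx), h.right x hx]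
  have htr : Transp E E' k' l' := by
    refine ⟨fun x _ => Subgroup.mem_top _, fun x _ => Subgroup.mem_top _, fun x _ => hlk x, fun x _ => hkl x,
      fun x _ y _ => _root_.map_mul k' x y, fun P₁ f₁ hf₁ => ?_, fun P₁ f₁ hf₁ => ?_⟩
    · obtain ⟨-, g, hg, hgx⟩ := (mor_factor hE hT).1 hf₁
      have hm := h.mor _ _ hg
      have hpre : preimageAlong θ' (tImg k' P₁) = tImg e (preimageAlong θ P₁) := by
        ext y
        rw [mem_pre, h.mem_tImg pre_le]
        constructor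
        · rintro ⟨hy, hy'⟩
          refine ⟨d y, mem_pre.2 ⟨h.inv_mem y hy, ?_⟩, h.right y hy⟩
          rw [← hl y hy]
          have hsub : tImg k' P₁ ≤ P₁.comap l' := (Subgroup.closure_le _).2 (by
            rintro _ ⟨q, hq, rfl⟩
            show l' (k' q) ∈ P₁
            rw [hlk]; exact hq)
          exact hsub hy'
        · rintro ⟨x, hx, rfl⟩
          obtain ⟨hxS, hxP⟩ := mem_pre.1 hx
          refine ⟨h.map_mem x hxS, ?_⟩
          rw [← hk x hxS]
          exact mem_tImg_of_mem hxP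
      refine (mor_factor hE' hT').2 ⟨le_top, _, hpre ▸ hm, fun y hy => ?_⟩
      rw [hpre] at hy
      obtain ⟨x, hx, rfl⟩ := (h.mem_tImg pre_le).1 hy
      obtain ⟨hxS, hxP⟩ := mem_pre.1 hx
      show k' (f₁ (l' (thFn θ' (e x)))) = thFn θ' (e (g (d (e x))))
      rw [hl _ (h.map_mem x hxS), h.left x hxS, hgx x hx, hk _ (hg.mem_S hx)]
    · obtain ⟨-, g, hg, hgx⟩ := (mor_factor hE' hT').1 hf₁
      have hm := h.mor' _ _ hg
      have hpre : preimageAlong θ (tImg l' P₁) = tImg d (preimageAlong θ' P₁) := by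
        ext y
        rw [mem_pre, h.symm.mem_tImg pre_le]
        constructor
        · rintro ⟨hy, hy'⟩
          refine ⟨e y, mem_pre.2 ⟨h.map_mem y hy, ?_⟩, h.left y hy⟩
          rw [← hk y hy]
          have hsub : tImg l' P₁ ≤ P₁.comap k' := (Subgroup.closure_le _).2 (by
            rintro _ ⟨q, hq, rfl⟩
            show k' (l' q) ∈ P₁
            rw [hkl]; exact hq)
          exact hsub hy'
        · rintro ⟨x, hx, rfl⟩
          obtain ⟨hxS, hxP⟩ := mem_pre.1 hx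
          refine ⟨h.inv_mem x hxS, ?_⟩
          rw [← hl x hxS]
          exact mem_tImg_of_mem hxP
      refine (mor_factor hE hT).2 ⟨le_top, _, hpre ▸ hm, fun y hy => ?_⟩
      rw [hpre] at hy
      obtain ⟨x, hx, rfl⟩ := (h.symm.mem_tImg pre_le).1 hy
      obtain ⟨hxS, hxP⟩ := mem_pre.1 hx
      show l' (f₁ (k' (thFn θ (d x)))) = thFn θ (d (g (e (d x))))
      rw [hk _ (h.inv_mem x hxS), h.right x hxS, hgx x hx, hl _ (hg.mem_S hx)]
  exact htr.simple (hS.to_quotient _ |>.to_subgroup ⊤) (hsimple E hE)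

theorem component [Fact p.Prime] [Finite S] (hS : IsPGroup p S) {T : Subgroup Ω} {C : FusionSystem T}
    (hC : C.IsComponentIn F p) : T ≤ S ∧ ∃ T', ∃ C' : FusionSystem T', Transp C C' e d ∧ C'.IsComponentIn F' p := by
  obtain ⟨hTS, T', C', hC', hsub⟩ := h.subnormal hS hC.1
  haveI := finite_of_le hTS
  exact ⟨hTS, T', C', hC', hsub, hC'.quasisimple (hS.to_le hTS) hC.2⟩

end Transp

end Cfsg.Agent.FusSys
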