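import Cfsg.Agent.FusSys.Centric
import Cfsg.Agent.FusSys.KNorm
import Cfsg.Agent.FusSys.SylowAux
import Cfsg.Agent.Core.PCore

/-!
Pairs `P ≤ Y` of subgroups with the conjugacy class of `Y` saturated: standard members of the class
of the pair, and extension of maps on `P`.
-/

set_option autoImplicit false

namespace Cfsg.Agent.FusSys

open Cfsg Cfsg.FusionSystem

universe u

variable {Ω : Type u} [Group Ω] {S : Subgroup Ω} {F : FusionSystem S} {P Y Q : Subgroup Ω}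
variable {f g : Ω → Ω} {p : ℕ}

/-- The elements of `S` normalizing both members of the pair. -/
def pairNorm (S Y P : Subgroup Ω) : Subgroup Ω := normalizerIn S Y ⊓ normalizerIn S P

theorem pairNorm_le (S Y P : Subgroup Ω) : pairNorm S Y P ≤ S := fun _ h => h.1.1

/-- The automorphisms of `Y` in the system that stabilize `P`. -/
def pairStab (F : FusionSystem S) (Y P : Subgroup Ω) : Subgroup (MulAut Y) :=
  F.autGroup Y ⊓
  { carrier := {α | ∀ x ∈ Y, (apl α x ∈ P ↔ x ∈ P)}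
    one_mem' := fun x hx => by rw [apl_one hx]
    mul_mem' := fun {α β} hα hβ x hx => by
      rw [apl_mul α β hx, hα _ (apl_mem β hx)]
      exact hβ x hx
    inv_mem' := fun {α} hα x hx => by
      rw [← hα _ (apl_mem α⁻¹ hx), apl_apl_inv α hx] }

theorem mem_pairStab {α : MulAut Y} :
    α ∈ pairStab F Y P ↔ α ∈ F.autGroup Y ∧ ∀ x ∈ Y, (apl α x ∈ P ↔ x ∈ P) := Iff.rfl

theorem autInducedBy_pairNorm_le (hY : Y ≤ S) :
    autInducedBy (pairNorm S Y P) Y ≤ pairStab F Y P := fun α hα => by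
  obtain ⟨a, ha, -, hx⟩ := mem_autInducedBy_iff.1 hα
  refine mem_pairStab.2 ⟨autInducedBy_le_autGroup hY
    (autInducedBy_mono (pairNorm_le S Y P) hα), fun x hxY => ?_⟩
  rw [hx x hxY]
  exact (Subgroup.mem_normalizer_iff.1 ha.2.2 x).symm

theorem pairStab_iso (hY : Y ≤ S) (hPY : P ≤ Y) {α : MulAut Y} (hα : α ∈ pairStab F Y P) :
    Iso F P P (apl α) := by
  refine ⟨(iso_apl hY hα.1).1.mono hPY, fun y => ⟨fun hy => ?_, fun ⟨x, hx, hxy⟩ => ?_⟩⟩
  · exact ⟨apl α⁻¹ y, (hα.2 _ (apl_mem _ (hPY hy))).1 (by rw [apl_apl_inv α (hPY hy)]; exact hy),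
      apl_apl_inv α (hPY hy)⟩
  · exact hxy ▸ (hα.2 x (hPY hx)).2 hx

/-- The class of `Y` is saturated. -/
def SatClass (F : FusionSystem S) (p : ℕ) (Y : Subgroup Ω) : Prop :=
  ∃ Q : Subgroup Ω, F.IsConj Y Q ∧ F.IsFullyAutomized p Q ∧ F.IsReceptive Q

/-- A standard pair. -/
structure StdPair (F : FusionSystem S) (p : ℕ) (Y P : Subgroup Ω) : Prop where
  le : P ≤ Y
  leS : Y ≤ S
  recep : F.IsReceptive Y
  syl : ¬ p ∣ ((autInducedBy (pairNorm S Y P) Y).subgroupOf (pairStab F Y P)).index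

variable [Finite S] [Fact p.Prime]

theorem exists_std (hS : IsPGroup p S) (hPY : P ≤ Y) (h : SatClass F p Y) :
    ∃ Y₁ P₁ f, StdPair F p Y₁ P₁ ∧ Iso F Y Y₁ f ∧ Iso F P P₁ f := by
  obtain ⟨Q, hQ, ⟨hQS, T, hT⟩, hR⟩ := h
  obtain ⟨f, hf⟩ := isConj_iff.1 hQ
  obtain ⟨P', hP', hP'Q⟩ := hf.restrict hPY
  haveI := finite_of_le hQS
  obtain ⟨U⟩ : Nonempty (Sylow p ↥((pairStab F Q P').subgroupOf (F.autGroup Q))) := inferInstance
  obtain ⟨c, hc⟩ := exists_conj_mem_sylow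
    (U.2.map ((pairStab F Q P').subgroupOf (F.autGroup Q)).subtype) T
  have hci : Iso F Q Q (apl (c : MulAut Q)) := iso_apl hQS c.2
  obtain ⟨P₁, hP₁, hP₁Q⟩ := hci.restrict hP'Q
  refine ⟨Q, P₁, apl (c : MulAut Q) ∘ f, ⟨hP₁Q, hQS, hR, ?_⟩, hf.comp hci, hP'.comp hP₁⟩
  -- conjugation by `c` carries the stabilizer of `P'` onto that of `P₁`
  have hstab : ∀ α : MulAut Q, α ∈ pairStab F Q P' →
      (c : MulAut Q) * α * (c : MulAut Q)⁻¹ ∈ pairStab F Q P₁ := fun α hα => by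
    refine mem_pairStab.2 ⟨mul_mem (mul_mem c.2 hα.1) (inv_mem c.2), fun x hx => ?_⟩
    have hmem : ∀ y ∈ Q, (apl (c : MulAut Q) y ∈ P₁ ↔ y ∈ P') := fun y hy =>
      ⟨fun h1 => by
        obtain ⟨z, hz, hzy⟩ := hP₁.exists_eq h1
        exact hci.1.injOn (hP'Q hz) hy hzy ▸ hz, fun h1 => hP₁.mem h1⟩
    rw [apl_mul _ _ hx, apl_mul _ _ (apl_mem _ hx), hmem _ (apl_mem _ (apl_mem _ hx)),
      hα.2 _ (apl_mem _ hx), ← hmem _ (apl_mem _ hx), apl_apl_inv _ hx]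
  let V : Subgroup (MulAut Q) := ((U.1.map ((pairStab F Q P').subgroupOf (F.autGroup Q)).subtype).map
    (F.autGroup Q).subtype).map (MulAut.conj (c : MulAut Q)).toMonoidHom
  have hV : V ≤ autInducedBy (pairNorm S Q P₁) Q := by
    rintro _ ⟨_, ⟨α, hα, rfl⟩, rfl⟩
    have h1 := hc α hα
    rw [autInducedBy_subgroupOf_eq T hT, mem_autInducedBy_iff] at h1
    obtain ⟨a, ha, han, hax⟩ := h1
    have hst : (c : MulAut Q) * (α : MulAut Q) * (c : MulAut Q)⁻¹ ∈ pairStab F Q P₁ :=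
      hstab _ (by obtain ⟨β, -, rfl⟩ := hα; exact β.2)
    refine mem_autInducedBy_iff.2 ⟨a, ⟨⟨ha, han⟩, ha, ?_⟩, han, hax⟩
    haveI := finite_of_le (hP₁Q.trans hQS)
    refine mem_normalizer_of_maps fun x hx => ?_
    have h2 := (hst.2 x (hP₁Q hx)).2 hx
    rwa [show apl ((c : MulAut Q) * (α : MulAut Q) * (c : MulAut Q)⁻¹) x = a * x * a⁻¹ from
      hax x (hP₁Q hx)] at h2
  have hstab' : ∀ α : MulAut Q, α ∈ pairStab F Q P₁ →
      (c : MulAut Q)⁻¹ * α * (c : MulAut Q) ∈ pairStab F Q P' := fun α hα => by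
    refine mem_pairStab.2 ⟨mul_mem (mul_mem (inv_mem c.2) hα.1) c.2, fun x hx => ?_⟩
    have hmem : ∀ y ∈ Q, (apl (c : MulAut Q) y ∈ P₁ ↔ y ∈ P') := fun y hy =>
      ⟨fun h1 => by
        obtain ⟨z, hz, hzy⟩ := hP₁.exists_eq h1
        exact hci.1.injOn (hP'Q hz) hy hzy ▸ hz, fun h1 => hP₁.mem h1⟩
    rw [apl_mul _ _ hx, apl_mul _ _ (apl_mem _ hx), ← hmem _ (apl_mem _ (apl_mem _ (apl_mem _ hx))),
      apl_apl_inv _ (apl_mem _ (apl_mem _ hx)), hα.2 _ (apl_mem _ hx), hmem x hx]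
  intro hdvd
  have hcard : Nat.card ↥(pairStab F Q P₁) = Nat.card ↥((pairStab F Q P').subgroupOf (F.autGroup Q)) := by
    refine (Nat.card_congr ?_).symm
    exact
      { toFun := fun α => ⟨_, hstab _ α.2⟩
        invFun := fun α => ⟨⟨_, (hstab' _ α.2).1⟩, hstab' _ α.2⟩
        left_inv := fun α => by ext1; ext1; simp [mul_assoc]
        right_inv := fun α => by ext1; simp [mul_assoc] }
  have h1 := ((autInducedBy (pairNorm S Q P₁) Q).subgroupOf (pairStab F Q P₁)).card_mul_index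
  have h2 : Nat.card U ∣ Nat.card ↥((autInducedBy (pairNorm S Q P₁) Q).subgroupOf (pairStab F Q P₁)) := by
    rw [Nat.card_congr (Subgroup.subgroupOfEquivOfLe (autInducedBy_pairNorm_le hQS)).toEquiv,
      show Nat.card U = Nat.card V by
        rw [Subgroup.card_map_of_injective (MulAut.conj (c : MulAut Q)).injective,
          Subgroup.card_map_of_injective (F.autGroup Q).subtype_injective,
          Subgroup.card_map_of_injective (Subgroup.subtype_injective _)]]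
    exact Subgroup.card_dvd_of_le hV
  obtain ⟨k, hk⟩ := h2
  refine U.not_dvd_index ?_
  have h3 := U.1.card_mul_index
  rw [← hcard, ← h1, hk, mul_assoc] at h3
  exact (Nat.eq_of_mul_eq_mul_left Nat.card_pos h3) ▸ hdvd.mul_left k

/-- Into a standard pair every conjugate pair maps with its normalizer. -/
theorem to_std (hS : IsPGroup p S) {Y₁ P₁ : Subgroup Ω} (hstd : StdPair F p Y₁ P₁) (hPY : P ≤ Y)
    (hf : Iso F Y Y₁ f) (hfP : Iso F P P₁ f) :
    ∃ g, Mor F (pairNorm S Y P) g ∧ Iso F Y Y₁ g ∧ Iso F P P₁ g ∧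
      ∀ a ∈ pairNorm S Y P, g a ∈ pairNorm S Y₁ P₁ := by
  haveI := finite_of_le hstd.leS
  haveI := finite_of_le hfP.right_le
  let D : Subgroup (pairStab F Y₁ P₁) :=
    ((autInducedBy (pairNorm S Y P) Y).map hf.conjAut.toMonoidHom).subgroupOf (pairStab F Y₁ P₁)
  have hpp : IsPGroup p (pairNorm S Y P) := hS.to_le (pairNorm_le S Y P)
  have hW : IsPGroup p ((autInducedBy (pairNorm S Y₁ P₁) Y₁).subgroupOf (pairStab F Y₁ P₁)) :=
    (isPGroup_autInducedBy (hS.to_le (pairNorm_le S Y₁ P₁))).comap_subtype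
  obtain ⟨c, hc⟩ := exists_conj_mem_sylow (R := D) ((isPGroup_autInducedBy hpp).map _).comap_subtype
    (hW.toSylow hstd.syl)
  have hci : Iso F Y₁ Y₁ (apl (c : MulAut Y₁)) := iso_apl hstd.leS c.2.1
  have hciP := pairStab_iso hstd.leS hstd.le c.2
  set f' := apl (c : MulAut Y₁) ∘ f with hf'def
  have hf' : Iso F Y Y₁ f' := hf.comp hci
  have hf'P : Iso F P P₁ f' := hfP.comp hciP
  have hle : pairNorm S Y P ≤ nPhi S Y f' := fun a ha => by
    obtain ⟨α, hα, hax⟩ := exists_mem_autInducedBy (P := Y) (K := pairNorm S Y P) ha ha.1.2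
    have hαs := autInducedBy_pairNorm_le (F := F) hf.left_le hα
    have hmem : hf.conjAut α ∈ pairStab F Y₁ P₁ := by
      refine mem_pairStab.2 ⟨hf.conjAut_mem hαs.1, fun y hy => ?_⟩
      obtain ⟨x, hx, rfl⟩ := hf.exists_eq hy
      have hmem : ∀ z ∈ Y, (f z ∈ P₁ ↔ z ∈ P) := fun z hz => ⟨fun h1 => by
        obtain ⟨z', hz', hzz⟩ := hfP.exists_eq h1
        exact hf.1.injOn (hPY hz') hz hzz ▸ hz', fun h1 => hfP.mem h1⟩
      rw [hf.conjAut_apl α hx, hmem _ (apl_mem α hx), hmem x hx]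
      exact hαs.2 x hx
    have h1 := hc ⟨_, hmem⟩ (Subgroup.mem_map.2 ⟨α, hα, rfl⟩)
    obtain ⟨s, hs, -, hsx⟩ := mem_autInducedBy_iff.1 (Subgroup.mem_subgroupOf.1 h1)
    refine ⟨ha.1.1, ha.1.2, s, pairNorm_le S Y₁ P₁ hs, fun x hx => ?_⟩
    rw [hf'def, Function.comp_apply, Function.comp_apply,
      ← hsx _ (apl_mem (c : MulAut Y₁) (hf.mem hx)), ← hax x hx, ← hf.conjAut_apl α hx]
    show _ = apl ((c : MulAut Y₁) * hf.conjAut α * (c : MulAut Y₁)⁻¹) _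
    rw [apl_mul _ _ (apl_mem (c : MulAut Y₁) (hf.mem hx)), apl_inv_apl _ (hf.mem hx),
      apl_mul _ _ (hf.mem hx)]
  obtain ⟨g, hg, hgf⟩ := (isReceptive_iff.1 hstd.recep).2 Y f' hf'
  have hgP : Iso F P P₁ g := hf'P.congr fun x hx => hgf x (hPY hx)
  refine ⟨g, hg.mono hle, hf'.congr hgf, hgP, fun a ha => ⟨?_, ?_⟩⟩
  · exact hg.mem_normalizerIn hf'.1.le_nPhi (hf'.congr hgf) (hle ha) ha.1.2
  · exact hg.mem_normalizerIn (hPY.trans hf'.1.le_nPhi) hgP (hle ha) ha.2.2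

omit [Finite S] [Fact p.Prime] in
/-- The elements whose action on `P` is transported into the normalizer of the target pair. -/
def pairExtender (S : Subgroup Ω) (f : Ω → Ω) (P M : Subgroup Ω) : Subgroup Ω where
  carrier := {a | a ∈ normalizerIn S P ∧ ∃ g ∈ M, ∀ x ∈ P, f (a * x * a⁻¹) = g * f x * g⁻¹}
  one_mem' := ⟨Subgroup.one_mem _, 1, M.one_mem, fun x _ => by simp⟩
  mul_mem' := by
    rintro a b ⟨ha, h, hh, hax⟩ ⟨hb, k, hk, hbx⟩
    refine ⟨Subgroup.mul_mem _ ha hb, h * k, M.mul_mem hh hk, fun x hx => ?_⟩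
    have e : a * b * x * (a * b)⁻¹ = a * (b * x * b⁻¹) * a⁻¹ := by group
    rw [e, hax _ ((Subgroup.mem_normalizer_iff.1 hb.2 x).1 hx), hbx x hx]
    group
  inv_mem' := by
    rintro a ⟨ha, h, hh, hax⟩
    refine ⟨Subgroup.inv_mem _ ha, h⁻¹, M.inv_mem hh, fun x hx => ?_⟩
    have h1 := hax _ ((Subgroup.mem_normalizer_iff.1 (Subgroup.inv_mem _ ha.2) x).1 hx)
    have e : a * (a⁻¹ * x * a⁻¹⁻¹) * a⁻¹ = x := by group
    rw [e] at h1
    rw [h1]
    group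

/-- A map on `P` extends to the elements whose action is transported into the pair normalizer. -/
theorem ext_to_std (hS : IsPGroup p S) {Y₁ P₁ D : Subgroup Ω} (hstd : StdPair F p Y P) (hPY : P₁ ≤ Y₁)
    (hf : Iso F Y₁ Y f) (hfP : Iso F P₁ P f) (hYD : Y₁ ≤ D) (hDY : D ≤ Subgroup.normalizer (Y₁ : Set Ω))
    (hD : D ≤ pairExtender S f P₁ (pairNorm S Y P)) :
    ∃ h, Mor F D h ∧ (∀ x ∈ P₁, h x = f x) ∧ ∀ a ∈ D, h a ∈ pairNorm S Y P := by
  haveI := finite_of_le hstd.leS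
  haveI : Finite (MulAut Y) := Finite.of_injective _ MulEquiv.toEquiv_injective
  have hDS : D ≤ S := fun a ha => (hD ha).1.1
  set M := pairNorm S Y P with hM
  let B : Subgroup (MulAut Y) := pairStab F Y P ⊓
    { carrier := {γ | ∃ a ∈ M, ∀ x ∈ P, apl γ x = a * x * a⁻¹}
      one_mem' := ⟨1, M.one_mem, fun x hx => by rw [apl_one (hstd.le hx)]; group⟩
      mul_mem' := by
        rintro α β ⟨a, ha, hax⟩ ⟨b, hb, hbx⟩
        refine ⟨a * b, M.mul_mem ha hb, fun x hx => ?_⟩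
        rw [apl_mul α β (hstd.le hx), hbx x hx, hax _ ((Subgroup.mem_normalizer_iff.1 hb.2.2 x).1 hx)]
        group
      inv_mem' := by
        rintro α ⟨a, ha, hax⟩
        refine ⟨a⁻¹, M.inv_mem ha, fun x hx => ?_⟩
        have hy : a⁻¹ * x * a⁻¹⁻¹ ∈ P :=
          (Subgroup.mem_normalizer_iff.1 (Subgroup.inv_mem _ ha.2.2) x).1 hx
        conv_lhs => rw [show x = a * (a⁻¹ * x * a⁻¹⁻¹) * a⁻¹ by group, ← hax _ hy]
        exact apl_inv_apl α (hstd.le hy) }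
  have hWB : autInducedBy M Y ≤ B := fun α hα => by
    obtain ⟨a, ha, -, hax⟩ := mem_autInducedBy_iff.1 hα
    exact ⟨autInducedBy_pairNorm_le hstd.leS hα, a, ha, fun x hx => hax x (hstd.le hx)⟩
  have hWi : ¬ p ∣ ((autInducedBy M Y).subgroupOf B).index := fun hd => hstd.syl
    (dvd_trans hd ⟨_, (Subgroup.relIndex_mul_relIndex (autInducedBy M Y) B (pairStab F Y P) hWB
      inf_le_left).symm⟩)
  have hW : IsPGroup p ((autInducedBy M Y).subgroupOf B) :=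
    (isPGroup_autInducedBy (hS.to_le (pairNorm_le S Y P))).comap_subtype
  let E : Subgroup B := ((autInducedBy D Y₁).map hf.conjAut.toMonoidHom).subgroupOf B
  obtain ⟨c, hc⟩ := exists_conj_mem_sylow (R := E)
    ((isPGroup_autInducedBy (hS.to_le hDS)).map _).comap_subtype (hW.toSylow hWi)
  obtain ⟨-, g₀, hg₀, hcg⟩ := c.2
  have hci : Iso F Y Y (apl (c : MulAut Y)) := iso_apl hstd.leS c.2.1.1
  set f' := apl (c : MulAut Y) ∘ f with hf'def
  have hf' : Iso F Y₁ Y f' := hf.comp hci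
  have hmemP : ∀ z ∈ Y₁, (f z ∈ P ↔ z ∈ P₁) := fun z hz => ⟨fun h1 => by
    obtain ⟨z', hz', hzz⟩ := hfP.exists_eq h1
    exact hf.1.injOn (hPY hz') hz hzz ▸ hz', fun h1 => hfP.mem h1⟩
  have hle : D ≤ nPhi S Y₁ f' := fun a ha => by
    obtain ⟨α, hα, hax⟩ := exists_mem_autInducedBy (P := Y₁) (K := D) ha (hDY ha)
    obtain ⟨⟨haS, haP⟩, b, hb, hbx⟩ := hD ha
    have hmem : hf.conjAut α ∈ B := by
      refine ⟨mem_pairStab.2 ⟨hf.conjAut_mem (autInducedBy_le_autGroup hf.left_le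
        (autInducedBy_mono hDS hα)), fun y hy => ?_⟩, b, hb, fun y hy => ?_⟩
      · obtain ⟨x, hx, rfl⟩ := hf.exists_eq hy
        rw [hf.conjAut_apl α hx, hmemP _ (apl_mem α hx), hmemP x hx, hax x hx]
        exact (Subgroup.mem_normalizer_iff.1 haP x).symm
      · obtain ⟨x, hx, rfl⟩ := hfP.exists_eq hy
        rw [hf.conjAut_apl α (hPY hx), hax x (hPY hx), hbx x hx]
    have h1 := hc ⟨_, hmem⟩ (Subgroup.mem_map.2 ⟨α, hα, rfl⟩)
    obtain ⟨s, hs, -, hsx⟩ := mem_autInducedBy_iff.1 (Subgroup.mem_subgroupOf.1 h1)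
    refine ⟨haS, hDY ha, s, pairNorm_le S Y P hs, fun x hx => ?_⟩
    rw [hf'def, Function.comp_apply, Function.comp_apply,
      ← hsx _ (apl_mem (c : MulAut Y) (hf.mem hx)), ← hax x hx, ← hf.conjAut_apl α hx]
    show _ = apl ((c : MulAut Y) * hf.conjAut α * (c : MulAut Y)⁻¹) _
    rw [apl_mul _ _ (apl_mem (c : MulAut Y) (hf.mem hx)), apl_inv_apl _ (hf.mem hx),
      apl_mul _ _ (hf.mem hx)]
  obtain ⟨h, hh, hhf⟩ := (isReceptive_iff.1 hstd.recep).2 Y₁ f' hf'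
  have hhD := hh.mono hle
  refine ⟨fun z => g₀⁻¹ * h z * g₀⁻¹⁻¹, hhD.conjComp (S.inv_mem (pairNorm_le S Y P hg₀)), fun x hx => ?_,
    fun a ha => ?_⟩
  · show g₀⁻¹ * h x * g₀⁻¹⁻¹ = f x
    rw [hhf x (hPY hx), hf'def, Function.comp_apply, hcg _ (hfP.mem hx)]
    group
  · refine Subgroup.mul_mem _ (Subgroup.mul_mem _ (Subgroup.inv_mem _ hg₀) ⟨?_, ?_⟩)
      (Subgroup.inv_mem _ (Subgroup.inv_mem _ hg₀))
    · exact hhD.mem_normalizerIn hYD (hf'.congr hhf) ha (hDY ha)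
    · refine hhD.mem_normalizerIn (hPY.trans hYD) (P := P₁) ?_ ha (hD ha).1.2
      have h2 : Iso F P₁ P f' := hfP.comp (pairStab_iso hstd.leS hstd.le c.2.1)
      exact h2.congr fun x hx => hhf x (hPY hx)

/-- Restriction of the stabilizer to `P`. -/
noncomputable def pairRes (F : FusionSystem S) {Y P : Subgroup Ω} (hPY : P ≤ Y) :
    pairStab F Y P →* MulAut P where
  toFun α :=
    { toFun := fun x => ⟨apl (α : MulAut Y) x, (α.2.2 x (hPY x.2)).2 x.2⟩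
      invFun := fun x => ⟨apl (α : MulAut Y)⁻¹ x, ((α⁻¹).2.2 x (hPY x.2)).2 x.2⟩
      left_inv := fun x => Subtype.ext (apl_inv_apl _ (hPY x.2))
      right_inv := fun x => Subtype.ext (apl_apl_inv _ (hPY x.2))
      map_mul' := fun x y => Subtype.ext (by
        show apl (α : MulAut Y) ((x : Ω) * y) = _
        rw [apl_apply _ (Y.mul_mem (hPY x.2) (hPY y.2)),
          show (⟨(x : Ω) * y, Y.mul_mem (hPY x.2) (hPY y.2)⟩ : Y) = ⟨x, hPY x.2⟩ * ⟨y, hPY y.2⟩ from rfl,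
          map_mul, Subgroup.coe_mul, ← apl_apply (α : MulAut Y), ← apl_apply (α : MulAut Y)]
        rfl) }
  map_one' := MulEquiv.ext fun x => Subtype.ext (apl_one (hPY x.2))
  map_mul' α β := MulEquiv.ext fun x => Subtype.ext (apl_mul _ _ (hPY x.2))

omit [Finite S] [Fact p.Prime] in
theorem pairRes_apl {Y P : Subgroup Ω} (hPY : P ≤ Y) (α : pairStab F Y P) {x : Ω} (hx : x ∈ P) :
    apl (pairRes F hPY α) x = apl (α : MulAut Y) x := apl_apply _ hx

/-- The normal `p`-subgroup of `Aut_F(P)` is induced by the normalizer of a standard pair. -/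
theorem std_transport (hS : IsPGroup p S) (hstd : StdPair F p Y P) {R : Subgroup (MulAut P)}
    (hR : IsPGroup p R) (hRn : ∀ α ∈ F.autGroup P, ∀ r ∈ R, α * r * α⁻¹ ∈ R)
    {δ : MulAut Y} (hδ : δ ∈ pairStab F Y P) {a : Ω} (ha : a ∈ pairNorm S Y P)
    (haR : ∃ r ∈ R, ∀ x ∈ P, apl r x = a * x * a⁻¹) :
    a ∈ pairExtender S (apl δ) P (pairNorm S Y P) := by
  haveI := finite_of_le hstd.leS
  haveI : Finite (MulAut Y) := Finite.of_injective _ MulEquiv.toEquiv_injective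
  set ρ := pairRes F hstd.le with hρ
  set W := (autInducedBy (pairNorm S Y P) Y).subgroupOf (pairStab F Y P) with hW
  have hWp : IsPGroup p W :=
    (isPGroup_autInducedBy (hS.to_le (pairNorm_le S Y P))).comap_subtype
  let N' : Subgroup ρ.range := R.subgroupOf ρ.range
  have hrange : ρ.range ≤ F.autGroup P := by
    rintro _ ⟨α, rfl⟩
    exact (mem_autGroup_iff (hstd.le.trans hstd.leS)).2
      ((pairStab_iso hstd.leS hstd.le α.2).congr fun x hx => pairRes_apl hstd.le α hx)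
  haveI hN'n : N'.Normal := ⟨fun r hr α => hRn _ (hrange α.2) _ hr⟩
  have hN'p : IsPGroup p N' := hR.comap_subtype
  let T : Sylow p ρ.range := (hWp.toSylow hstd.syl).mapSurjective (f := ρ.rangeRestrict) ρ.rangeRestrict_surjective
  obtain ⟨r, hr, hrx⟩ := haR
  obtain ⟨α, hα, hαx⟩ := exists_mem_autInducedBy (P := Y) (K := pairNorm S Y P) ha ha.1.2
  have hαs := autInducedBy_pairNorm_le (F := F) hstd.leS hα
  have e : ρ ⟨α, hαs⟩ = r := apl_ext fun x hx => by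
    rw [pairRes_apl hstd.le _ hx, hrx x hx]
    exact hαx x (hstd.le hx)
  have hmem : (⟨ρ (⟨δ, hδ⟩ * ⟨α, hαs⟩ * ⟨δ, hδ⟩⁻¹), ⟨_, rfl⟩⟩ : ρ.range) ∈ N' := by
    show ρ _ ∈ R
    rw [map_mul, map_mul, map_inv, e]
    exact hRn _ (hrange ⟨_, rfl⟩) _ hr
  have h1 := (Cfsg.Agent.Core.le_pCore hN'p).trans (Cfsg.Agent.Core.pCore_le_sylow T) hmem
  obtain ⟨β, hβ, hβe⟩ := Subgroup.mem_map.1 h1
  obtain ⟨g, hg, -, hgx⟩ := mem_autInducedBy_iff.1 (Subgroup.mem_subgroupOf.1 hβ)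
  refine ⟨⟨ha.1.1, ha.2.2⟩, g, hg, fun x hx => ?_⟩
  have hy : apl δ x ∈ P := (hδ.2 x (hstd.le hx)).2 hx
  have h2 := congrArg (fun γ : ρ.range => apl (γ : MulAut P) (apl δ x)) hβe
  simp only [MonoidHom.coe_rangeRestrict] at h2
  rw [pairRes_apl hstd.le _ hy, pairRes_apl hstd.le _ hy, hgx _ (hstd.le hy)] at h2
  rw [h2]
  show _ = apl (δ * α * δ⁻¹) (apl δ x)
  rw [apl_mul _ _ (apl_mem δ (hstd.le hx)), apl_inv_apl δ (hstd.le hx), apl_mul _ _ (hstd.le hx),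
    hαx x (hstd.le hx)]

end Cfsg.Agent.FusSys
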