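import Cfsg.Agent.FusSys.SatClassLinks

/-!
The saturation criterion: a system generated and saturated on a family, with enough `p`-automorphisms
outside the family, is saturated.
-/

set_option autoImplicit false

namespace Cfsg.Agent.FusSys

open Cfsg Cfsg.FusionSystem
open scoped Pointwise

universe u

variable {Ω : Type u} [Group Ω] {S : Subgroup Ω} {F : FusionSystem S} {P Q Q' D Y A : Subgroup Ω}
variable {f g h θ θ' ψ : Ω → Ω} {p : ℕ}

theorem Mor.exists_div (hθ : Mor F D θ) (hψ : Mor F D ψ) :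
    ∃ D' k, Iso F D D' θ ∧ Mor F D' k ∧ ∀ x ∈ D, k (θ x) = ψ x := by
  obtain ⟨D', hD'⟩ := hθ.exists_iso
  obtain ⟨θi, hθi, hθiθ, -⟩ := hD'.symm
  exact ⟨D', ψ ∘ θi, hD', hθi.1.comp hψ fun y hy => hθi.mem hy,
    fun x hx => congrArg ψ (hθiθ x hx)⟩

theorem Iso.mem_iff_of_restrict {P' Y' : Subgroup Ω} (hY : Iso F Y Y' f) (hPY : P ≤ Y)
    (hP : Iso F P P' f) {x : Ω} (hx : x ∈ Y) : f x ∈ P' ↔ x ∈ P :=
  ⟨fun h1 => by
    obtain ⟨z, hz, hzx⟩ := hP.exists_eq h1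
    exact hY.1.injOn (hPY hz) hx hzx ▸ hz, fun h1 => hP.mem h1⟩

/-- The automorphisms in `O_p(Aut_F(Q))`. -/
def coreAut (F : FusionSystem S) (p : ℕ) (Q : Subgroup Ω) : Subgroup (MulAut Q) :=
  (pCore p (F.autGroup Q)).map (F.autGroup Q).subtype

theorem coreAut_le : coreAut F p Q ≤ F.autGroup Q := Subgroup.map_subtype_le _

theorem isPGroup_coreAut : IsPGroup p (coreAut F p Q) := Cfsg.Agent.Core.pCore_isPGroup.map _

theorem coreAut_conj {α r : MulAut Q} (hα : α ∈ F.autGroup Q) (hr : r ∈ coreAut F p Q) :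
    α * r * α⁻¹ ∈ coreAut F p Q := by
  obtain ⟨r', hr', rfl⟩ := Subgroup.mem_map.1 hr
  exact Subgroup.mem_map.2 ⟨⟨α, hα⟩ * r' * ⟨α, hα⟩⁻¹,
    (Cfsg.Agent.Core.pCore_normal (p := p)).conj_mem r' hr' _, rfl⟩

theorem Iso.map_coreAut (hf : Iso F Q Q' f) :
    (coreAut F p Q).map hf.conjAut.toMonoidHom = coreAut F p Q' := by
  let e : F.autGroup Q ≃* F.autGroup Q' :=
    (hf.conjAut.subgroupMap (F.autGroup Q)).trans (MulEquiv.subgroupCongr hf.map_autGroup)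
  rw [coreAut, coreAut, ← Cfsg.Agent.Core.map_pCore e, Subgroup.map_map, Subgroup.map_map]
  rfl

/-- The elements of the normalizer acting as elements of `O_p(Aut_F(Q))`. -/
def coreExt (F : FusionSystem S) (p : ℕ) (Q : Subgroup Ω) : Subgroup Ω where
  carrier := {a | a ∈ normalizerIn S Q ∧ ∃ r ∈ coreAut F p Q, ∀ x ∈ Q, apl r x = a * x * a⁻¹}
  one_mem' := ⟨Subgroup.one_mem _, 1, Subgroup.one_mem _, fun x hx => by rw [apl_one hx]; group⟩
  mul_mem' := by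
    rintro a b ⟨ha, r, hr, hax⟩ ⟨hb, s, hs, hbx⟩
    refine ⟨Subgroup.mul_mem _ ha hb, r * s, Subgroup.mul_mem _ hr hs, fun x hx => ?_⟩
    rw [apl_mul _ _ hx, hbx x hx, hax _ ((Subgroup.mem_normalizer_iff.1 hb.2 x).1 hx)]
    group
  inv_mem' := by
    rintro a ⟨ha, r, hr, hax⟩
    refine ⟨Subgroup.inv_mem _ ha, r⁻¹, Subgroup.inv_mem _ hr, fun x hx => ?_⟩
    have hy : a⁻¹ * x * a⁻¹⁻¹ ∈ Q :=
      (Subgroup.mem_normalizer_iff.1 (Subgroup.inv_mem _ ha.2) x).1 hx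
    conv_lhs => rw [show x = a * (a⁻¹ * x * a⁻¹⁻¹) * a⁻¹ by group, ← hax _ hy]
    exact apl_inv_apl r hy

theorem coreExt_le : coreExt F p Q ≤ normalizerIn S Q := fun _ h => h.1

theorem centralizerIn_le_coreExt : centralizerIn S Q ≤ coreExt F p Q := fun a ha =>
  ⟨centralizerIn_le_normalizerIn S Q ha, 1, Subgroup.one_mem _, fun x hx => by
    rw [apl_one hx, ← Subgroup.mem_centralizer_iff.1 ha.2 x hx]
    group⟩

theorem le_coreExt [Fact p.Prime] [Finite S] (hS : IsPGroup p S) (hQ : Q ≤ S) :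
    Q ≤ coreExt F p Q := fun a ha => by
  refine ⟨le_normalizerIn hQ ha, ?_⟩
  obtain ⟨α, hα, hax⟩ := exists_mem_autInducedBy (P := Q) (K := Q) ha (Subgroup.le_normalizer ha)
  have hle : autInducedBy Q Q ≤ F.autGroup Q :=
    (autInducedBy_mono hQ).trans (autInducedBy_le_autGroup hQ)
  haveI : ((autInducedBy Q Q).subgroupOf (F.autGroup Q)).Normal := ⟨by
    rintro ⟨n, hn⟩ hnQ ⟨β, hβ⟩
    obtain ⟨b, hb, -, hbx⟩ := mem_autInducedBy_iff.1 (Subgroup.mem_subgroupOf.1 hnQ)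
    show β * n * β⁻¹ ∈ autInducedBy Q Q
    refine mem_autInducedBy_iff.2 ⟨apl β b, apl_mem β hb, Subgroup.le_normalizer (apl_mem β hb),
      fun x hx => ?_⟩
    rw [apl_mul _ _ hx, apl_mul _ _ (apl_mem _ hx), hbx _ (apl_mem _ hx),
      (iso_apl hQ hβ).1.map_conj hb (apl_mem _ hx), apl_apl_inv β hx]⟩
  have h1 := Cfsg.Agent.Core.le_pCore (p := p)
    (N := (autInducedBy Q Q).subgroupOf (F.autGroup Q))
    (isPGroup_autInducedBy (hS.to_le hQ)).comap_subtype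
    (show (⟨α, hle hα⟩ : F.autGroup Q) ∈ _ from hα)
  exact ⟨α, Subgroup.mem_map.2 ⟨_, h1, rfl⟩, hax⟩

theorem Mor.mem_coreExt_iff (hθ : Mor F A θ) (hQA : Q ≤ A) (hi : Iso F Q Q' θ) {a : Ω}
    (ha : a ∈ A) (han : a ∈ normalizerIn S Q) : θ a ∈ coreExt F p Q' ↔ a ∈ coreExt F p Q := by
  constructor
  · rintro ⟨-, r', hr', hx'⟩
    rw [← hi.map_coreAut] at hr'
    obtain ⟨r, hr, rfl⟩ := Subgroup.mem_map.1 hr'
    refine ⟨han, r, hr, fun x hx => hθ.injOn (hQA (apl_mem r hx))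
      (hQA ((Subgroup.mem_normalizer_iff.1 han.2 x).1 hx)) ?_⟩
    rw [← hi.conjAut_apl r hx, hθ.map_conj ha (hQA hx)]
    exact hx' _ (hi.mem hx)
  · rintro ⟨-, r, hr, hx⟩
    refine ⟨hθ.mem_normalizerIn hQA hi ha han.2, hi.conjAut r, ?_, hi.conjAut_eq_conj fun x hxQ => ?_⟩
    · rw [← hi.map_coreAut]
      exact Subgroup.mem_map_of_mem _ hr
    · rw [hx x hxQ, hθ.map_conj ha (hQA hxQ)]

theorem normalizerIn_le_normalizer_coreExt [Finite S] (hQ : Q ≤ S) :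
    normalizerIn S Q ≤ Subgroup.normalizer (coreExt F p Q : Set Ω) := fun n hn => by
  haveI := finite_of_le ((coreExt_le (F := F) (p := p) (Q := Q)).trans (normalizerIn_le S Q))
  exact mem_normalizer_of_maps fun x hx =>
    ((mor_conj (F := F) (normalizerIn_le S Q) hn.1).mem_coreExt_iff (le_normalizerIn hQ)
      (iso_conj_self hQ hn.1 hn.2) hx.1 hx.1).2 hx

/-- The map extends to `coreExt F p Q`. -/
def Xt (F : FusionSystem S) (p : ℕ) (Q : Subgroup Ω) (f : Ω → Ω) : Prop :=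
  ∃ g, Mor F (coreExt F p Q) g ∧ Iso F Q Q g ∧ ∀ x ∈ Q, g x = f x

theorem Xt.congr (hf : Xt F p Q f) (h : ∀ x ∈ Q, g x = f x) : Xt F p Q g := by
  obtain ⟨k, hk, hki, hkx⟩ := hf
  exact ⟨k, hk, hki, fun x hx => (hkx x hx).trans (h x hx).symm⟩

theorem mem_coreExt_of_mor (hk : Mor F (coreExt F p Q) g) (hle : Q ≤ coreExt F p Q)
    (hki : Iso F Q Q g) {a : Ω} (ha : a ∈ coreExt F p Q) : g a ∈ coreExt F p Q :=
  (hk.mem_coreExt_iff hle hki ha ha.1).2 ha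

section

variable [Finite S] [Fact p.Prime] {P₀ : Subgroup Ω}

theorem Xt.comp (hS : IsPGroup p S) (hf : Xt F p Q f) (hg : Xt F p Q g) : Xt F p Q (g ∘ f) := by
  obtain ⟨a, ha, hai, hax⟩ := hf
  obtain ⟨b, hb, hbi, hbx⟩ := hg
  refine ⟨b ∘ a, ha.comp hb fun x hx =>
    mem_coreExt_of_mor ha (le_coreExt hS hai.left_le) hai hx, hai.comp hbi, fun x hx => ?_⟩
  show b (a x) = g (f x)
  rw [hbx _ (hai.mem hx), hax x hx]

/-- A map extending to a bigger subgroup of `N_S(P₀)` extends to `coreExt F p P₀`. -/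
theorem xt_of_bigger (hS : IsPGroup p S)
    (hbig : ∀ Y : Subgroup Ω, Y ≤ S → Nat.card P₀ < Nat.card Y → SatClass F p Y)
    (hreach : ∀ Q, F.IsConj P₀ Q → Reach F Q P₀) :
    ∀ (n : ℕ) (Y : Subgroup Ω) (g : Ω → Ω), Nat.card S - Nat.card Y = n → P₀ < Y → Y ≤ normalizerIn S P₀ → Mor F Y g →
      Iso F P₀ P₀ g → Xt F p P₀ g := by
  intro n
  induction n using Nat.strong_induction_on with
  | h n ih =>
  intro Y g hn hPY hYN hg hgP
  by_cases hXY : coreExt F p P₀ ≤ Y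
  · exact ⟨g, hg.mono hXY, hgP, fun _ _ => rfl⟩
  have hYS : Y ≤ S := hg.le
  have hP₀S : P₀ ≤ S := hgP.left_le
  have hPN := le_normalizerIn (S := S) hP₀S
  have hYlt : Y < normalizerIn S P₀ := lt_of_le_of_ne hYN fun he => hXY (he ▸ coreExt_le)
  have hcard : Nat.card P₀ < Nat.card Y := card_lt_of_lt' hYS hPY
  obtain ⟨Y', hY'⟩ := hg.exists_iso
  have hPY' : P₀ ≤ Y' := fun y hy => by
    obtain ⟨x, hx, rfl⟩ := hgP.exists_eq hy
    exact hY'.mem (hPY.le hx)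
  have hY'lt : Y' < normalizerIn S P₀ := by
    refine lt_of_le_of_ne (fun y hy => ?_) fun he => ?_
    · obtain ⟨x, hx, rfl⟩ := hY'.exists_eq hy
      exact hg.mem_normalizerIn hPY.le hgP hx (hYN hx).2
    · have h1 := card_lt_of_lt' (normalizerIn_le S P₀) hYlt
      rw [hY'.card_eq, he] at h1
      exact lt_irrefl _ h1
  obtain ⟨Y'', P'', u₀, hstd, hu₀, hu₀P⟩ := exists_std hS hPY.le (hbig Y hYS hcard)
  obtain ⟨u, hu, huY, huP, humem⟩ := to_std hS hstd hPY.le hu₀ hu₀P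
  obtain ⟨gi, hgi, hgig, -⟩ := hY'.symm
  have hgiP : Iso F P₀ P₀ gi := by
    refine ⟨hgi.1.mono hPY', fun x => ⟨fun hx => ⟨g x, hgP.mem hx, hgig x (hPY.le hx)⟩, ?_⟩⟩
    rintro ⟨y, hy, rfl⟩
    obtain ⟨x, hx, rfl⟩ := hgP.exists_eq hy
    rw [hgig x (hPY.le hx)]
    exact hx
  obtain ⟨u', hu', hu'Y, hu'P, hu'mem⟩ := to_std hS hstd hPY' (hgi.comp hu₀) (hgiP.comp hu₀P)
  have big : ∀ K : Subgroup Ω, K < normalizerIn S P₀ → K < pairNorm S K P₀ := fun K h =>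
    lt_of_lt_of_le (lt_inf_normalizer hS (normalizerIn_le S P₀) h)
      fun a ha => ⟨⟨ha.1.1, ha.2⟩, ha.1⟩
  have hb := big Y hYlt
  have hb' := big Y' hY'lt
  have cb := card_lt_of_lt' (pairNorm_le S Y P₀) hb
  have cb' := card_lt_of_lt' (pairNorm_le S Y' P₀) hb'
  have cY := hY'.card_eq
  have d1 : Nat.card ↥(pairNorm S Y P₀) ≤ Nat.card S :=
    Nat.le_of_dvd Nat.card_pos (Subgroup.card_dvd_of_le (pairNorm_le S Y P₀))
  have d1' : Nat.card ↥(pairNorm S Y' P₀) ≤ Nat.card S :=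
    Nat.le_of_dvd Nat.card_pos (Subgroup.card_dvd_of_le (pairNorm_le S Y' P₀))
  obtain ⟨θ, hθ, hθP⟩ := hreach P'' huP.isConj
  have hM : pairNorm S Y'' P'' ≤ normalizerIn S P'' := inf_le_right
  have hY''M : Y'' ≤ pairNorm S Y'' P'' := fun y hy => by
    obtain ⟨x, hx, rfl⟩ := huY.exists_eq hy
    exact humem x (hb.le hx)
  have hθN : ∀ a ∈ normalizerIn S P'', θ a ∈ normalizerIn S P₀ := fun a ha =>
    hθ.mem_normalizerIn (le_normalizerIn hθP.left_le) hθP ha ha.2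
  -- the first outer factor
  have hv : Xt F p P₀ (θ ∘ u) :=
    ih _ (by omega) (pairNorm S Y P₀) (θ ∘ u) rfl (hPY.trans hb) inf_le_right
      (hu.comp hθ fun a ha => hM (humem a ha)) (huP.comp hθP)
  -- the second outer factor
  obtain ⟨Dv, k, hDv, hk, hkv⟩ := Mor.exists_div
    (hu'.comp hθ fun a ha => hM (hu'mem a ha)) (mor_id (pairNorm_le S Y' P₀))
  have hPb' : P₀ ≤ pairNorm S Y' P₀ := hPY'.trans hb'.le
  have hv'P : Iso F P₀ P₀ (θ ∘ u') := hu'P.comp hθP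
  have hPDv : P₀ ≤ Dv := fun y hy => by
    obtain ⟨x, hx, rfl⟩ := hv'P.exists_eq hy
    exact hDv.mem (hPb' hx)
  have hk' : Xt F p P₀ k := by
    refine ih _ ?_ Dv k rfl (lt_of_le_of_ne hPDv fun he => ?_) (fun y hy => ?_) hk ?_
    · rw [← hDv.card_eq]; omega
    · have h1 := hDv.card_eq
      rw [← he] at h1
      omega
    · obtain ⟨x, hx, rfl⟩ := hDv.exists_eq hy
      exact hθN _ (hM (hu'mem x hx))
    · refine ⟨hk.mono hPDv, fun x => ⟨fun hx => ⟨θ (u' x), hv'P.mem hx, hkv x (hPb' hx)⟩, ?_⟩⟩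
      rintro ⟨y, hy, rfl⟩
      obtain ⟨x, hx, rfl⟩ := hv'P.exists_eq hy
      rw [hkv x (hPb' hx)]
      exact hx
  -- the automorphism of the standard pair
  obtain ⟨ui, hui, huiu, huui⟩ := huY.symm
  obtain ⟨δ, hδ, hδx⟩ := ((hui.comp hY').comp hu'Y).exists_mem_autGroup
  have huiP : Iso F P'' P₀ ui := by
    refine ⟨hui.1.mono hstd.le, fun x => ⟨fun hx => ⟨u x, huP.mem hx, huiu x (hPY.le hx)⟩, ?_⟩⟩
    rintro ⟨y, hy, rfl⟩
    obtain ⟨x, hx, rfl⟩ := huP.exists_eq hy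
    rw [huiu x (hPY.le hx)]
    exact hx
  have hδP : Iso F P'' P'' (apl δ) :=
    ((huiP.comp hgP).comp hu'P).congr fun x hx => hδx x (hstd.le hx)
  have hδs : δ ∈ pairStab F Y'' P'' :=
    mem_pairStab.2 ⟨hδ, fun x hx => (iso_apl hstd.leS hδ).mem_iff_of_restrict hstd.le hδP hx⟩
  obtain ⟨Z, w, hZ, hw, hwθ⟩ := Mor.exists_div (hθ.mono (hY''M.trans hM))
    ((iso_apl hstd.leS hδ).1.comp hθ fun x hx => hM (hY''M (apl_mem δ hx)))
  have hPZ : P₀ ≤ Z := fun y hy => by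
    obtain ⟨x, hx, rfl⟩ := hθP.exists_eq hy
    exact hZ.mem (hstd.le hx)
  have hwP : Iso F P₀ P₀ w := by
    refine ⟨hw.mono hPZ, fun y => ⟨fun hy => ?_, ?_⟩⟩
    · obtain ⟨x, hx, rfl⟩ := (hδP.comp hθP).exists_eq hy
      exact ⟨θ x, hθP.mem hx, hwθ x (hstd.le hx)⟩
    · rintro ⟨y', hy, rfl⟩
      obtain ⟨x, hx, rfl⟩ := hθP.exists_eq hy
      rw [hwθ x (hstd.le hx)]
      exact (hδP.comp hθP).mem hx
  have hfac : ∀ x ∈ P₀, g x = k (w (θ (u x))) := fun x hx => by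
    have h1 : apl δ (u x) = u' (g x) := by
      rw [hδx _ (huY.mem (hPY.le hx))]
      show u' (g (ui (u x))) = _
      rw [huiu x (hPY.le hx)]
    rw [hwθ _ (huY.mem (hPY.le hx))]
    show _ = k (θ (apl δ (u x)))
    rw [h1]
    exact (hkv _ (hPb' (hgP.mem hx))).symm
  suffices hw' : Xt F p P₀ w from ((hv.comp hS hw').comp hS hk').congr hfac
  by_cases hXZ : coreExt F p P₀ ≤ Z
  · exact ⟨w, hw.mono hXZ, hwP, fun _ _ => rfl⟩
  have hZN : Z ≤ normalizerIn S P₀ := fun y hy => by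
    obtain ⟨x, hx, rfl⟩ := hZ.exists_eq hy
    exact hθN _ (hM (hY''M hx))
  -- an element of the core outside `Z` normalizing it
  obtain ⟨z, hz, hzZ⟩ := SetLike.exists_of_lt (lt_inf_normalizer hS (Q := Z)
    (P := Z ⊔ coreExt F p P₀)
    (sup_le (hZN.trans (normalizerIn_le S P₀)) (coreExt_le.trans (normalizerIn_le S P₀)))
    (lt_of_le_of_ne le_sup_left fun he => hXZ (he ▸ le_sup_right)))
  have hz1 : z ∈ ((Z : Set Ω) * (coreExt F p P₀ : Set Ω)) := by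
    rw [← Subgroup.coe_mul_of_left_le_normalizer_right Z (coreExt F p P₀)
      (hZN.trans (normalizerIn_le_normalizer_coreExt hP₀S))]
    exact hz.1
  obtain ⟨y, hy, x, hx, rfl⟩ := hz1
  have hxn : x ∈ Subgroup.normalizer (Z : Set Ω) := by
    have h1 := Subgroup.mul_mem _ (Subgroup.inv_mem _ (Subgroup.le_normalizer (H := Z) hy)) hz.2
    rwa [inv_mul_cancel_left] at h1
  have hxZ : x ∉ Z := fun h => hzZ (Z.mul_mem hy h)
  have hθmem : ∀ a ∈ pairNorm S Y'' P'', θ a ∈ pairNorm S Z P₀ := fun a ha =>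
    ⟨hθ.mem_normalizerIn (hY''M.trans hM) hZ (hM ha) ha.1.2, hθN a (hM ha)⟩
  obtain ⟨θi, hθi, hθiθ, -⟩ := hZ.symm
  have hθiP : Iso F P₀ P'' θi := by
    refine ⟨hθi.1.mono hPZ, fun x => ⟨fun hx => ⟨θ x, hθP.mem hx, hθiθ x (hstd.le hx)⟩, ?_⟩⟩
    rintro ⟨y, hy, rfl⟩
    obtain ⟨x, hx, rfl⟩ := hθP.exists_eq hy
    rw [hθiθ x (hstd.le hx)]
    exact hx
  obtain ⟨t, ht, -, -, htmem⟩ := to_std hS hstd hPZ hθi hθiP
  obtain ⟨a, ha, rfl⟩ := (hθ.mono hM).surj_of_card (pairNorm_le S Z P₀) hθmem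
    (ht.card_image_le (pairNorm_le S Y'' P'') htmem)
    (show x ∈ pairNorm S Z P₀ from ⟨⟨hx.1.1, hxn⟩, hx.1⟩)
  have haX : a ∈ coreExt F p P'' :=
    (hθ.mem_coreExt_iff (le_normalizerIn hθP.left_le) hθP (hM ha) (hM ha)).1 hx
  set W := Y'' ⊔ (coreExt F p P'' ⊓ pairNorm S Y'' P'') with hW
  have hWM : W ≤ pairNorm S Y'' P'' := sup_le hY''M inf_le_right
  have hWext : W ≤ pairExtender S (apl δ) P'' (pairNorm S Y'' P'') := sup_le
    (fun b hb => ⟨hM (hY''M hb), apl δ b, hY''M (apl_mem δ hb), fun c hc =>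
      (iso_apl hstd.leS hδ).1.map_conj hb (hstd.le hc)⟩)
    fun b hb => std_transport hS hstd isPGroup_coreAut (fun α hα r hr => coreAut_conj hα hr) hδs
      hb.2 hb.1.2
  obtain ⟨h, hh, hhP, hhmem⟩ := ext_to_std hS hstd hstd.le (iso_apl hstd.leS hδ) hδP le_sup_left
    (fun b hb => (hWM hb).1.2) hWext
  obtain ⟨W', k₂, hW', hk₂, hk₂θ⟩ := Mor.exists_div (hθ.mono (hWM.trans hM))
    (hh.comp hθ fun b hb => hM (hhmem b hb))
  have hPW : P₀ ≤ W' := fun y hy => by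
    obtain ⟨c, hc, rfl⟩ := hθP.exists_eq hy
    exact hW'.mem (le_sup_left (b := coreExt F p P'' ⊓ pairNorm S Y'' P'') (hstd.le hc))
  have hk₂eq : ∀ y ∈ P₀, w y = k₂ y := fun y hy => by
    obtain ⟨c, hc, rfl⟩ := hθP.exists_eq hy
    rw [hwθ c (hstd.le hc),
      hk₂θ c (le_sup_left (b := coreExt F p P'' ⊓ pairNorm S Y'' P'') (hstd.le hc))]
    show θ (apl δ c) = θ (h c)
    rw [hhP c hc]
  have hlt : Y'' < W := lt_of_le_of_ne le_sup_left fun he => hxZ (hZ.mem (he.ge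
    (le_sup_right (a := Y'') ⟨haX, ha⟩)))
  have cW := card_lt_of_lt' (hWM.trans (pairNorm_le S Y'' P'')) hlt
  have cY'' := huY.card_eq
  have dW : Nat.card ↥W ≤ Nat.card S :=
    Nat.le_of_dvd Nat.card_pos (Subgroup.card_dvd_of_le (hWM.trans (pairNorm_le S Y'' P'')))
  refine (ih _ ?_ W' k₂ rfl (lt_of_le_of_ne hPW fun he => ?_) (fun y hy => ?_) hk₂
    (hwP.congr fun y hy => (hk₂eq y hy).symm)).congr hk₂eq
  · rw [← hW'.card_eq]; omega
  · have h1 := hW'.card_eq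
    rw [← he] at h1
    omega
  · obtain ⟨c, hc, rfl⟩ := hW'.exists_eq hy
    exact hθN _ (hM (hWM hc))

/-- Every automorphism of a top member extends to `coreExt F p P₀`. -/
theorem xt_of_chain (hS : IsPGroup p S) (hne : P₀ ≠ S)
    (hbig : ∀ Y : Subgroup Ω, Y ≤ S → Nat.card P₀ < Nat.card Y → SatClass F p Y)
    (hreach : ∀ Q, F.IsConj P₀ Q → Reach F Q P₀)
    (hch : ∀ f, Iso F P₀ P₀ f → Chain F P₀ P₀ f) (hf : Iso F P₀ P₀ f) : Xt F p P₀ f := by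
  have hlink : ∀ Q Q' Y g θ θ' h, Iso F Q Q' g → Q < Y → Y ≤ normalizerIn S Q → Mor F Y g →
      Mor F (normalizerIn S Q) θ → Iso F Q P₀ θ → Mor F (normalizerIn S Q') θ' → Iso F Q' P₀ θ' →
      (∀ x ∈ Q, h (θ x) = θ' (g x)) → Xt F p P₀ h := by
    intro Q Q' Y g θ θ' h hg hQY hYN hgY hθ hθi hθ' hθ'i hh
    have hgN : ∀ a ∈ Y, g a ∈ normalizerIn S Q' := fun a ha =>
      hgY.mem_normalizerIn hQY.le hg ha (hYN ha).2
    obtain ⟨D, k, hD, hk, hkθ⟩ := Mor.exists_div (hθ.mono hYN) (hgY.comp hθ' hgN)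
    have hPD : P₀ ≤ D := fun y hy => by
      obtain ⟨x, hx, rfl⟩ := hθi.exists_eq hy
      exact hD.mem (hQY.le hx)
    have hkh : ∀ y ∈ P₀, h y = k y := fun y hy => by
      obtain ⟨x, hx, rfl⟩ := hθi.exists_eq hy
      rw [hh x hx, hkθ x (hQY.le hx)]
      rfl
    refine (xt_of_bigger hS hbig hreach _ D k rfl (lt_of_le_of_ne hPD fun he => ?_) (fun y hy => ?_)
      hk ⟨hk.mono hPD, fun y => ⟨fun hy => ?_, ?_⟩⟩).congr hkh
    · have h1 := card_lt_of_lt' (hYN.trans (normalizerIn_le S Q)) hQY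
      rw [hθi.card_eq, hD.card_eq, ← he] at h1
      exact lt_irrefl _ h1
    · obtain ⟨x, hx, rfl⟩ := hD.exists_eq hy
      exact hθ.mem_normalizerIn (le_normalizerIn hθi.left_le) hθi (hYN hx) (hYN hx).2
    · obtain ⟨x, hx, rfl⟩ := (hg.comp hθ'i).exists_eq hy
      exact ⟨θ x, hθi.mem hx, hkθ x (hQY.le hx)⟩
    · rintro ⟨y', hy, rfl⟩
      obtain ⟨x, hx, rfl⟩ := hθi.exists_eq hy
      rw [hkθ x (hQY.le hx)]
      exact (hg.comp hθ'i).mem hx
  have key : ∀ {A B f}, Chain F A B f → F.IsConj P₀ A → ∀ θ θ' h,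
      Mor F (normalizerIn S A) θ → Iso F A P₀ θ → Mor F (normalizerIn S B) θ' → Iso F B P₀ θ' →
      (∀ x ∈ A, h (θ x) = θ' (f x)) → Xt F p P₀ h := by
    intro A B f hc
    induction hc with
    | refl hA hf =>
      intro hconj θ θ' h hθ hθi hθ' hθ'i hh
      refine hlink _ _ _ id θ θ' h (iso_id hA) (lt_normalizerIn hS (lt_of_le_of_ne hA fun he => ?_))
        le_rfl (mor_id (normalizerIn_le S _)) hθ hθi hθ' hθ'i fun x hx => ?_
      · exact hne (eq_of_le_of_card le_rfl hθi.right_le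
          (le_of_eq ((congrArg (fun K : Subgroup Ω => Nat.card K) he).symm.trans hθi.card_eq)))
      · rw [hh x hx, hf x hx]
        rfl
    | @step M B a b c hc hl hh' ih =>
      intro hconj θ θ' h hθ hθi hθ' hθ'i hh
      obtain ⟨θ₁, hθ₁, hθ₁i⟩ := hreach M (isConj_trans hconj hc.iso.isConj)
      obtain ⟨τ, hτ, hτθ, -⟩ := hθi.symm
      obtain ⟨τ₁, hτ₁, hτ₁θ, -⟩ := hθ₁i.symm
      have h1 : Xt F p P₀ (θ₁ ∘ a ∘ τ) :=
        ih hconj θ θ₁ _ hθ hθi hθ₁ hθ₁i fun x hx => by simp [hτθ x hx]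
      obtain ⟨hb, Y, hMY, hYN, hbY⟩ := hl
      have h2 : Xt F p P₀ (θ' ∘ b ∘ τ₁) :=
        hlink M B Y b θ₁ θ' _ hb hMY hYN hbY hθ₁ hθ₁i hθ' hθ'i fun x hx => by simp [hτ₁θ x hx]
      refine (h1.comp hS h2).congr fun y hy => ?_
      obtain ⟨x, hx, rfl⟩ := hθi.exists_eq hy
      rw [hh x hx, hh' x hx]
      simp [hτθ x hx, hτ₁θ _ (hc.iso.mem hx)]
  exact key (hch f hf) (isConj_refl hf.left_le) id id f (mor_id (normalizerIn_le S P₀))
    (iso_id hf.left_le) (mor_id (normalizerIn_le S P₀)) (iso_id hf.left_le) fun x _ => rfl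

theorem receptive_of_xt (hS : IsPGroup p S) (hP₀S : P₀ ≤ S) (hX : P₀ < coreExt F p P₀)
    (hbig : ∀ Y : Subgroup Ω, Y ≤ S → Nat.card P₀ < Nat.card Y → SatClass F p Y)
    (hreach : ∀ Q, F.IsConj P₀ Q → Reach F Q P₀)
    (hxt : ∀ f, Iso F P₀ P₀ f → Xt F p P₀ f) : F.IsReceptive P₀ := by
  refine isReceptive_iff.2 ⟨hP₀S, fun Q f hf => ?_⟩
  obtain ⟨θ, hθ, hθi⟩ := hreach Q (isConj_symm hf.isConj)
  obtain ⟨τ, hτ, hτθ, -⟩ := hθi.symm
  set α := f ∘ τ with hαdef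
  have hα : Iso F P₀ P₀ α := hτ.comp hf
  set N := nPhi S P₀ α with hN
  have hNS : N ≤ S := nPhi_le.trans (normalizerIn_le S P₀)
  have hPX : P₀ ≤ coreExt F p P₀ := hX.le
  have hCX : centralizerIn S P₀ ≤ coreExt F p P₀ := centralizerIn_le_coreExt
  obtain ⟨g₀, hg₀, hg₀i, hg₀x⟩ := hxt α hα
  have hXN : coreExt F p P₀ ≤ N := fun a ha => ⟨ha.1.1, ha.1.2, g₀ a, hg₀.mem_S ha, fun x hx => by
    rw [← hg₀x x hx, ← hg₀x _ ((Subgroup.mem_normalizer_iff.1 ha.1.2 x).1 hx),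
      hg₀.map_conj ha (hPX hx)]⟩
  have climb : ∀ (n : ℕ) (Y : Subgroup Ω) (g : Ω → Ω), Nat.card S - Nat.card Y = n → coreExt F p P₀ ≤ Y → Y ≤ N → Mor F Y g →
      (∀ x ∈ P₀, g x = α x) → ∃ h, Mor F N h ∧ ∀ x ∈ P₀, h x = α x := by
    intro n
    induction n using Nat.strong_induction_on with
    | h n ih =>
    intro Y g hn hXY hYN hg hgx
    rcases eq_or_lt_of_le hYN with rfl | hlt
    · exact ⟨g, hg, hgx⟩
    have hgP : Iso F P₀ P₀ g := hα.congr hgx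
    have hPY : P₀ ≤ Y := hPX.trans hXY
    obtain ⟨Y', hY'⟩ := hg.exists_iso
    have hXY' : coreExt F p P₀ ≤ Y' := fun y hy => by
      obtain ⟨x, hx, rfl⟩ := (hg.mono hXY).surj_of_card (coreExt_le.trans (normalizerIn_le S P₀))
        (fun a ha => mem_coreExt_of_mor (hg.mono hXY) hPX hgP ha) le_rfl hy
      exact hY'.mem (hXY hx)
    have hY'N : Y' ≤ normalizerIn S P₀ := fun y hy => by
      obtain ⟨x, hx, rfl⟩ := hY'.exists_eq hy
      exact hg.mem_normalizerIn hPY hgP hx (hYN hx).2.1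
    haveI := finite_of_le hY'.right_le
    haveI := finite_of_le hP₀S
    set D := N ⊓ Subgroup.normalizer (Y : Set Ω) with hD
    have hYD : Y < D := lt_inf_normalizer hS hNS hlt
    have hs : ∀ a ∈ D, ∃ s ∈ pairNorm S Y' P₀,
        ∀ x ∈ P₀, g (a * x * a⁻¹) = s * g x * s⁻¹ := by
      rintro a ⟨⟨haS, han, s, hs, hax⟩, haY⟩
      have hax' : ∀ x ∈ P₀, g (a * x * a⁻¹) = s * g x * s⁻¹ := fun x hx => by
        rw [hgx x hx, hgx _ ((Subgroup.mem_normalizer_iff.1 han x).1 hx)]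
        exact hax x hx
      refine ⟨s, ⟨⟨hs, mem_normalizer_of_maps fun y hy => ?_⟩, hs,
        mem_normalizer_of_maps fun y hy => ?_⟩, hax'⟩
      · obtain ⟨x, hx, rfl⟩ := hY'.exists_eq hy
        have hz : a * x * a⁻¹ ∈ Y := (Subgroup.mem_normalizer_iff.1 haY x).1 hx
        have hc : (g (a * x * a⁻¹))⁻¹ * (s * g x * s⁻¹) ∈ centralizerIn S P₀ := by
          refine ⟨S.mul_mem (S.inv_mem (hg.mem_S hz))
            (S.mul_mem (S.mul_mem hs (hg.mem_S hx)) (S.inv_mem hs)),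
            Subgroup.mem_centralizer_iff.2 fun c hc => ?_⟩
          obtain ⟨w, hw, rfl⟩ := hgP.exists_eq hc
          set v := a⁻¹ * w * a⁻¹⁻¹ with hv
          have hvP : v ∈ P₀ :=
            (Subgroup.mem_normalizer_iff.1 (Subgroup.inv_mem _ han) w).1 hw
          have hxn := (Subgroup.mem_normalizer_iff.1 (hYN hx).2.1 v).1 hvP
          have h1 : g w = s * g v * s⁻¹ := by
            rw [← hax' v hvP, hv]
            group
          have hzn := hYN hz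
          have h2 : g (a * x * a⁻¹ * w * (a * x * a⁻¹)⁻¹) = s * g (x * v * x⁻¹) * s⁻¹ := by
            rw [← hax' _ hxn, hv]
            group
          rw [hg.map_conj hz (hPY hw), hg.map_conj hx (hPY hvP)] at h2
          calc g w * ((g (a * x * a⁻¹))⁻¹ * (s * g x * s⁻¹))
              = (g (a * x * a⁻¹))⁻¹ * (g (a * x * a⁻¹) * g w * (g (a * x * a⁻¹))⁻¹) *
                (s * g x * s⁻¹) := by group
            _ = (g (a * x * a⁻¹))⁻¹ * (s * g x * s⁻¹) * (s * g v * s⁻¹) := by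
              rw [h2]; group
            _ = _ := by rw [← h1]
        have h3 := Y'.mul_mem (hY'.mem hz) (hXY' (hCX hc))
        rwa [mul_inv_cancel_left] at h3
      · obtain ⟨x, hx, rfl⟩ := hgP.exists_eq hy
        rw [← hax' x hx]
        exact hgP.mem ((Subgroup.mem_normalizer_iff.1 han x).1 hx)
    have hPY' : P₀ ≤ Y' := hPX.trans hXY'
    have hcard : Nat.card P₀ < Nat.card Y' :=
      card_lt_of_lt' hY'.right_le (lt_of_lt_of_le hX hXY')
    obtain ⟨Y'', P'', ψ₀, hstd, hψ₀, hψ₀P⟩ := exists_std hS hPY' (hbig Y' hY'.right_le hcard)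
    obtain ⟨ψ, hψ, hψY, hψP, hψmem⟩ := to_std hS hstd hPY' hψ₀ hψ₀P
    have hY'M : Y' ≤ pairNorm S Y' P₀ :=
      le_inf (le_normalizerIn hY'.right_le) hY'N
    have hPM : P₀ ≤ pairNorm S Y' P₀ := hPY'.trans hY'M
    have hDext : D ≤ pairExtender S (ψ ∘ g) P₀ (pairNorm S Y'' P'') := fun a ha => by
      obtain ⟨s, hs, hax⟩ := hs a ha
      refine ⟨⟨ha.1.1, ha.1.2.1⟩, ψ s, hψmem s hs, fun x hx => ?_⟩
      show ψ (g (a * x * a⁻¹)) = _
      rw [hax x hx, hψ.map_conj hs (hPM (hgP.mem hx))]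
      rfl
    obtain ⟨h, hh, hhP, hhmem⟩ := ext_to_std hS hstd hPY (hY'.comp hψY) (hgP.comp hψP) hYD.le
      inf_le_right hDext
    obtain ⟨M', hM'⟩ := hψ.exists_iso
    obtain ⟨ψi, hψi, hψiψ, -⟩ := hM'.symm
    have hCM : centralizerIn S P₀ ≤ pairNorm S Y' P₀ := hCX.trans (hXY'.trans hY'M)
    have himg : ∀ a ∈ D, h a ∈ M' := fun a ha => by
      obtain ⟨s, hs, hax⟩ := hs a ha
      have hc : (ψ s)⁻¹ * h a ∈ centralizerIn S P'' := by
        refine ⟨S.mul_mem (S.inv_mem (hψ.mem_S hs)) (hh.mem_S ha),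
          Subgroup.mem_centralizer_iff.2 fun c hc => ?_⟩
        obtain ⟨w, hw, rfl⟩ := (hgP.comp hψP).exists_eq hc
        have hwn := (Subgroup.mem_normalizer_iff.1 ha.1.2.1 w).1 hw
        have h1 : h (a * w * a⁻¹) = ψ (g (a * w * a⁻¹)) := hhP _ hwn
        rw [hh.map_conj ha (hYD.le (hPY hw)), hhP w hw, hax w hw,
          hψ.map_conj hs (hPM (hgP.mem hw))] at h1
        show (ψ ∘ g) w * _ = _
        calc (ψ ∘ g) w * ((ψ s)⁻¹ * h a)
            = (ψ s)⁻¹ * (ψ s * (ψ ∘ g) w * (ψ s)⁻¹) * h a := by group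
          _ = (ψ s)⁻¹ * (h a * (ψ ∘ g) w * (h a)⁻¹) * h a := by rw [h1]; rfl
          _ = _ := by group
      obtain ⟨c, hc, hce⟩ := (hψ.mono hCM).surj_of_card (centralizerIn_le S P'')
        (fun c hc => hψ.mem_centralizerIn hPM hψP (hCM hc) hc.2)
        (hreach P'' hψP.isConj).card_centralizer_le hc
      have h2 := M'.mul_mem (hM'.mem hs) (hM'.mem (hCM hc))
      rwa [hce, mul_inv_cancel_left] at h2
    have cD : Nat.card Y < Nat.card D := card_lt_of_lt' (inf_le_left.trans hNS) hYD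
    have dD : Nat.card ↥D ≤ Nat.card S :=
      Nat.le_of_dvd Nat.card_pos (Subgroup.card_dvd_of_le (inf_le_left.trans hNS))
    refine ih _ (by omega) D (ψi ∘ h) rfl (hXY.trans hYD.le) inf_le_left
      (hh.comp hψi.1 himg) fun x hx => ?_
    show ψi (h x) = α x
    rw [hhP x hx, ← hgx x hx]
    exact hψiψ _ (hPM (hgP.mem hx))
  obtain ⟨h, hh, hhx⟩ := climb _ _ g₀ rfl le_rfl hXN hg₀ hg₀x
  have hmap : ∀ a ∈ nPhi S Q f, θ a ∈ N := fun a ha => by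
    have haN := nPhi_le ha
    have hθa := hθ.mem_normalizerIn (le_normalizerIn hθi.left_le) hθi haN haN.2
    obtain ⟨-, -, s, hs, hax⟩ := ha
    refine ⟨hθa.1, hθa.2, s, hs, fun y hy => ?_⟩
    obtain ⟨x, hx, rfl⟩ := hθi.exists_eq hy
    rw [← hθ.map_conj haN (le_normalizerIn hθi.left_le hx)]
    show f (τ (θ (a * x * a⁻¹))) = s * f (τ (θ x)) * s⁻¹
    rw [hτθ _ ((Subgroup.mem_normalizer_iff.1 haN.2 x).1 hx), hτθ x hx]
    exact hax x hx
  refine ⟨h ∘ θ, (hθ.mono nPhi_le).comp hh hmap, fun x hx => ?_⟩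
  show h (θ x) = f x
  rw [hhx _ (hθi.mem hx)]
  exact congrArg f (hτθ x hx)

theorem automized_of_xt (hS : IsPGroup p S) (hP₀S : P₀ ≤ S) (hX : P₀ < coreExt F p P₀)
    (hbig : ∀ Y : Subgroup Ω, Y ≤ S → Nat.card P₀ < Nat.card Y → SatClass F p Y)
    (hreach : ∀ Q, F.IsConj P₀ Q → Reach F Q P₀)
    (hxt : ∀ f, Iso F P₀ P₀ f → Xt F p P₀ f) : F.IsFullyAutomized p P₀ := by
  set X := coreExt F p P₀ with hXdef
  have hXS : X ≤ S := coreExt_le.trans (normalizerIn_le S P₀)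
  obtain ⟨X'', P'', u₀, hstd, hu₀, hu₀P⟩ :=
    exists_std hS hX.le (hbig X hXS (card_lt_of_lt' hXS hX))
  obtain ⟨u, hu, huX, huP, humem⟩ := to_std hS hstd hX.le hu₀ hu₀P
  have hpn : pairNorm S X P₀ = normalizerIn S P₀ := le_antisymm inf_le_right fun a ha =>
    ⟨⟨ha.1, normalizerIn_le_normalizer_coreExt hP₀S ha⟩, ha⟩
  haveI := finite_of_le hP₀S
  haveI := finite_of_le hXS
  haveI := finite_of_le hstd.leS
  haveI : Finite (MulAut X'') := Finite.of_injective _ MulEquiv.toEquiv_injective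
  haveI : Finite (MulAut P₀) := Finite.of_injective _ MulEquiv.toEquiv_injective
  let φ₀ : pairStab F X'' P'' →* MulAut P₀ :=
    huP.conjAut.symm.toMonoidHom.comp (pairRes F hstd.le)
  have hφ : ∀ β, φ₀ β ∈ F.autGroup P₀ := fun β => by
    have h1 : pairRes F hstd.le β ∈ F.autGroup P'' :=
      (mem_autGroup_iff (hstd.le.trans hstd.leS)).2
        ((pairStab_iso hstd.leS hstd.le β.2).congr fun x hx => pairRes_apl hstd.le β hx)
    rw [← huP.map_autGroup, Subgroup.mem_map_equiv] at h1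
    exact h1
  let φ := φ₀.codRestrict (F.autGroup P₀) hφ
  have hφx : ∀ β (x : Ω), x ∈ P₀ → u (apl (φ₀ β) x) = apl (β : MulAut X'') (u x) := fun β x hx => by
    rw [← huP.conjAut_apl _ hx, ← pairRes_apl hstd.le β (huP.mem hx)]
    show apl (huP.conjAut (huP.conjAut.symm _)) _ = _
    rw [MulEquiv.apply_symm_apply]
  have hsurj : Function.Surjective φ := fun ⟨α, hα⟩ => by
    obtain ⟨g, hg, hgi, hgx⟩ := hxt _ (iso_apl hP₀S hα)
    have hgX : Iso F X X g := ⟨hg, fun y => ⟨fun hy => hg.surj_of_card hXS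
      (fun a ha => mem_coreExt_of_mor hg hX.le hgi ha) le_rfl hy,
      fun ⟨a, ha, hay⟩ => hay ▸ mem_coreExt_of_mor hg hX.le hgi ha⟩⟩
    obtain ⟨ui, hui, huiu, -⟩ := huX.symm
    have huiP : Iso F P'' P₀ ui := by
      refine ⟨hui.1.mono hstd.le, fun x => ⟨fun hx => ⟨u x, huP.mem hx, huiu x (hX.le hx)⟩, ?_⟩⟩
      rintro ⟨y, hy, rfl⟩
      obtain ⟨x, hx, rfl⟩ := huP.exists_eq hy
      rw [huiu x (hX.le hx)]
      exact hx
    obtain ⟨δ, hδ, hδx⟩ := ((hui.comp hgX).comp huX).exists_mem_autGroup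
    have hδP : Iso F P'' P'' (apl δ) :=
      ((huiP.comp hgi).comp huP).congr fun x hx => hδx x (hstd.le hx)
    refine ⟨⟨δ, mem_pairStab.2 ⟨hδ, fun x hx =>
      (iso_apl hstd.leS hδ).mem_iff_of_restrict hstd.le hδP hx⟩⟩, Subtype.ext (apl_ext fun x hx => ?_)⟩
    refine hu.injOn (show apl _ x ∈ pairNorm S X P₀ from ?_) (show apl α x ∈ pairNorm S X P₀ from ?_) ?_
    · rw [hpn]; exact le_normalizerIn hP₀S (apl_mem _ hx)
    · rw [hpn]; exact le_normalizerIn hP₀S (apl_mem _ hx)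
    · show u (apl (φ₀ _) x) = _
      rw [hφx _ x hx, hδx _ (huX.mem (hX.le hx)), ← hgx x hx]
      show u (g (ui (u x))) = _
      rw [huiu x (hX.le hx)]
  refine (fullyAutomized_iff hS hP₀S).2 fun hdvd => hstd.syl (hdvd.trans ?_)
  refine (Subgroup.index_dvd_of_le ?_).trans (Subgroup.index_map_dvd (f := φ) _ hsurj)
  rintro _ ⟨β, hβ, rfl⟩
  obtain ⟨a, ha, -, hax⟩ := mem_autInducedBy_iff.1 (Subgroup.mem_subgroupOf.1 hβ)
  have hc : Nat.card ↥(pairNorm S X'' P'') ≤ Nat.card ↥(pairNorm S X P₀) := by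
    haveI := finite_of_le (normalizerIn_le S P'')
    rw [hpn]
    exact (Subgroup.card_le_of_le (inf_le_right : pairNorm S X'' P'' ≤ normalizerIn S P'')).trans
      (hreach P'' huP.isConj).card_le
  obtain ⟨b, hb, rfl⟩ := hu.surj_of_card (pairNorm_le S X'' P'') humem hc ha
  show φ₀ β ∈ autInducedBy S P₀
  refine mem_autInducedBy_iff.2 ⟨b, hb.2.1, hb.2.2, fun x hx => ?_⟩
  have hxM : x ∈ pairNorm S X P₀ := hpn ▸ le_normalizerIn hP₀S hx
  have hbx := (Subgroup.mem_normalizer_iff.1 hb.2.2 x).1 hx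
  refine hu.injOn (hpn ▸ le_normalizerIn hP₀S (apl_mem _ hx)) (hpn ▸ le_normalizerIn hP₀S hbx) ?_
  rw [hφx _ x hx, hax _ (huX.mem (hX.le hx)), hu.map_conj hb hxM]

/-- Outside the family the core of a top member is properly bigger. -/
theorem lt_coreExt (hS : IsPGroup p S) (hP₀S : P₀ ≤ S)
    (hreach : ∀ Q, F.IsConj P₀ Q → Reach F Q P₀)
    (hstar : F.IsCentric P₀ → ∃ Q, F.IsConj P₀ Q ∧
      ¬ (autInducedBy S Q ⊓ coreAut F p Q ≤ Inn Q)) : P₀ < coreExt F p P₀ := by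
  refine lt_of_le_of_ne (le_coreExt hS hP₀S) fun he => ?_
  have hc : F.IsCentric P₀ := centric_of_fullyCentralized
    ⟨hP₀S, fun Q hQ => (hreach Q hQ).card_centralizer_le⟩
    (centralizerIn_le_coreExt.trans he.ge)
  obtain ⟨Q, hQ, hnot⟩ := hstar hc
  obtain ⟨θ, hθ, hθi⟩ := hreach Q hQ
  refine hnot fun α hα => ?_
  obtain ⟨a, ha, han, hax⟩ := mem_autInducedBy_iff.1 hα.1
  have h1 : θ a ∈ coreExt F p P₀ :=
    (hθ.mem_coreExt_iff (le_normalizerIn hθi.left_le) hθi ⟨ha, han⟩ ⟨ha, han⟩).2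
      ⟨⟨ha, han⟩, α, hα.2, hax⟩
  rw [← he] at h1
  obtain ⟨b, hb, hba⟩ := hθi.exists_eq h1
  obtain rfl := hθ.injOn (le_normalizerIn hθi.left_le hb) ⟨ha, han⟩ hba
  rw [inn_eq_autInducedBy]
  exact mem_autInducedBy_iff.2 ⟨b, hb, han, hax⟩

theorem saturated_of_family (hS : IsPGroup p S) {ℋ : Set (Subgroup Ω)} (hℋS : ∀ P ∈ ℋ, P ≤ S)
    (hℋconj : ∀ P ∈ ℋ, ∀ Q, F.IsConj P Q → Q ∈ ℋ)
    (hsat : ∀ P ∈ ℋ, SatClass F p P)
    (hgen : ∀ E : FusionSystem S, (∀ P ∈ ℋ, F.Hom P ⊆ E.Hom P) → F ≤ E)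
    (hstar : ∀ P : Subgroup Ω, F.IsCentric P → P ∉ ℋ →
      ∃ Q, F.IsConj P Q ∧ ¬ (autInducedBy S Q ⊓ coreAut F p Q ≤ Inn Q)) :
    F.IsSaturated p := by
  have hSℋ : S ∈ ℋ := by
    by_contra hnot
    obtain ⟨Q, hQ, h⟩ := hstar S (centric_top F) hnot
    obtain rfl : Q = S := eq_of_le_of_card le_rfl (isConj_le_right hQ) (isConj_card_eq hQ).le
    exact h (inf_le_left.trans inn_eq_autInducedBy.ge)
  suffices H : ∀ n, ∀ P : Subgroup Ω, P ≤ S → Nat.card S - Nat.card P = n → SatClass F p P from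
    fun P hP => H _ P hP rfl
  intro n
  induction n using Nat.strong_induction_on with
  | h n ih =>
  intro P hP hn
  by_cases hPℋ : P ∈ ℋ
  · exact hsat P hPℋ
  have hne : P ≠ S := fun he => hPℋ (he ▸ hSℋ)
  have hbig : ∀ Y : Subgroup Ω, Y ≤ S → Nat.card P < Nat.card Y → SatClass F p Y := fun Y hY hc => by
    have h1 : Nat.card Y ≤ Nat.card S := Nat.le_of_dvd Nat.card_pos (Subgroup.card_dvd_of_le hY)
    exact ih _ (by omega) Y hY rfl
  obtain ⟨P₀, hP₀, htop⟩ := exists_top hS hP hne hbig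
    (chain_of_generated hS hℋS hℋconj hSℋ hgen hPℋ)
  have hP₀S := isConj_le_right hP₀
  have hP₀ℋ : P₀ ∉ ℋ := fun h => hPℋ (hℋconj P₀ h P (isConj_symm hP₀))
  have hne₀ : P₀ ≠ S := fun he => hP₀ℋ (he ▸ hSℋ)
  have hreach : ∀ Q, F.IsConj P₀ Q → Reach F Q P₀ := fun Q hQ => htop Q (isConj_trans hP₀ hQ)
  have hbig₀ : ∀ Y : Subgroup Ω, Y ≤ S → Nat.card P₀ < Nat.card Y → SatClass F p Y :=
    fun Y hY hc => hbig Y hY ((isConj_card_eq hP₀).trans_lt hc)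
  have hX := lt_coreExt hS hP₀S hreach fun hc => hstar P₀ hc hP₀ℋ
  have hxt : ∀ f, Iso F P₀ P₀ f → Xt F p P₀ f := fun f hf =>
    xt_of_chain hS hne₀ hbig₀ hreach
      (fun f hf => chain_of_generated hS hℋS hℋconj hSℋ hgen hP₀ℋ P₀ f hf) hf
  exact ⟨P₀, hP₀, automized_of_xt hS hP₀S hX hbig₀ hreach hxt,
    receptive_of_xt hS hP₀S hX hbig₀ hreach hxt⟩

end

end Cfsg.Agent.FusSys
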