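import Cfsg.Agent.FusSys.CentE

/-!
The group of automorphisms of `R C_S(R)` in `IsDelta`, and the elements of `C_S(T)` fixed by those of
order prime to `p`.
-/

set_option autoImplicit false

namespace Cfsg.Agent.FusSys.CentE

open Cfsg Cfsg.FusionSystem Cfsg.Agent.FusSys Cfsg.Agent.FusSys.CentFocal

universe u

variable {Ω : Type u} [Group Ω] {S T R : Subgroup Ω} {F : FusionSystem S} {E : FusionSystem T}
variable {p : ℕ} [Fact p.Prime] [Finite S]

/-- A subgroup containing a subgroup of index prime to `p` and the elements of order prime to `p`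
is everything. -/
theorem eq_top_of_coprime {D : Type u} [Group D] [Finite D] {K P : Subgroup D} (hPK : P ≤ K)
    (hidx : ¬ p ∣ P.index) (hK : ∀ d : D, (orderOf d).Coprime p → d ∈ K) : K = ⊤ := by
  have hp := (Fact.out : p.Prime)
  refine eq_top_iff.2 fun d _ => ?_
  obtain ⟨a, m, hm, horder⟩ := Nat.exists_eq_pow_mul_and_not_dvd (orderOf_pos d).ne' p hp.ne_one
  obtain ⟨k, hk0, hk1⟩ := Nat.chineseRemainder
    (Nat.Coprime.pow_left a ((hp.coprime_iff_not_dvd).2 hm)) 0 1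
  have hpres : pResidual p D ≤ K := by
    rw [pResidual, Subgroup.closure_le]
    exact fun x hx => hK x hx
  obtain ⟨Q⟩ : Nonempty (Sylow p D) := inferInstance
  -- `K` contains a Sylow subgroup
  obtain ⟨Q, hQ⟩ : ∃ Q : Sylow p D, (Q : Subgroup D) ≤ K := by
    obtain ⟨Q₀⟩ : Nonempty (Sylow p K) := inferInstance
    obtain ⟨Q, hQ⟩ := (Q₀.2.map K.subtype).exists_le_sylow
    refine ⟨Q, ?_⟩
    have hKidx : ¬ p ∣ K.index := fun h => hidx (h.trans (Subgroup.index_dvd_of_le hPK))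
    have hcard : Nat.card ((Q₀ : Subgroup K).map K.subtype) = Nat.card (Q : Subgroup D) := by
      rw [Subgroup.card_map_of_injective K.subtype_injective, Q₀.card_eq_multiplicity,
        Q.card_eq_multiplicity, ← Subgroup.card_mul_index K,
        Nat.factorization_mul Nat.card_pos.ne' Subgroup.index_ne_zero_of_finite, Finsupp.add_apply,
        Nat.factorization_eq_zero_of_not_dvd hKidx, add_zero]
    rw [← Subgroup.eq_of_le_of_card_ge hQ hcard.ge]
    exact Subgroup.map_subtype_le _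
  have h := (sup_le hQ hpres : _ ⊔ pResidual p D ≤ K)
  rw [Cfsg.Agent.Fusion.sylow_sup_pResidual Q] at h
  exact h (Subgroup.mem_top d)

/-- A power of `δ` of order prime to `p` agreeing with `n` on `V`. -/
theorem exists_coprime_pow {N U V : Subgroup Ω} (hN : N ≤ S) (hU : U ≤ S) (hVN : V ≤ N)
    (hVU : V ≤ U) {n : MulAut U} (hn : (orderOf n).Coprime p) {δ : MulAut N}
    (h : ∀ x ∈ V, apl δ x = apl n x) (hV : ∀ x ∈ V, apl n x ∈ V) :
    ∃ k, (orderOf (δ ^ k)).Coprime p ∧ ∀ x ∈ V, apl (δ ^ k) x = apl n x := by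
  haveI := finite_of_le hN
  haveI := finite_of_le hU
  haveI : Finite (MulAut N) := Finite.of_injective _ MulEquiv.toEquiv_injective
  haveI : Finite (MulAut U) := Finite.of_injective _ MulEquiv.toEquiv_injective
  have hp := (Fact.out : p.Prime)
  obtain ⟨a, m, hm, horder⟩ := Nat.exists_eq_pow_mul_and_not_dvd (orderOf_pos δ).ne' p hp.ne_one
  obtain ⟨k, hk0, hk1⟩ := Nat.chineseRemainder (Nat.Coprime.pow_left a hn.symm) 0 1
  refine ⟨k, ?_, fun x hx => ?_⟩
  · refine Nat.Coprime.coprime_dvd_left (orderOf_dvd_of_pow_eq_one (x := δ ^ k) ?_)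
      ((hp.coprime_iff_not_dvd).2 hm).symm
    rw [← pow_mul, ← orderOf_dvd_iff_pow_eq_one, horder]
    exact mul_dvd_mul_right (Nat.modEq_zero_iff_dvd.1 hk0) m
  · have hnk : n ^ k = n := by
      conv_rhs => rw [← pow_one n]
      exact pow_eq_pow_iff_modEq.2 hk1
    have hit : ∀ j : ℕ, ∀ y ∈ V, apl (δ ^ j) y = apl (n ^ j) y ∧ apl (n ^ j) y ∈ V := by
      intro j
      induction j with
      | zero =>
        intro y hy
        rw [pow_zero, pow_zero, apl_one (hVN hy), apl_one (hVU hy)]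
        exact ⟨rfl, hy⟩
      | succ j ih =>
        intro y hy
        obtain ⟨h1, h2⟩ := ih y hy
        rw [pow_succ', pow_succ', apl_mul _ _ (hVN hy), apl_mul _ _ (hVU hy), h1, h _ h2]
        exact ⟨rfl, hV _ h2⟩
    rw [(hit k x hx).1, hnk]

variable (hE : E.IsInvariantIn F)
include hE

/-- `Aut_E(R)` is invariant under `Aut_F(R)`. -/
theorem autE_conj (hR : R ≤ T) {a α : MulAut R} (ha : a ∈ F.autGroup R) (hα : α ∈ E.autGroup R) :
    a * α * a⁻¹ ∈ E.autGroup R := by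
  have hTS : T ≤ S := hE.2.1.1
  have hai := iso_apl (hR.trans hTS) ha
  obtain ⟨β, hβ, e, he, hfe⟩ := exists_frattini hE hR hai.1
  obtain ⟨R₂, hR₂⟩ := he.exists_iso
  obtain ⟨e', he', he'e, -⟩ := hR₂.symm
  have hm : Mor E R₂ (e ∘ apl α ∘ e') :=
    (he'.1.comp (iso_apl hR hα).1 fun x hx => he'.mem hx).comp he fun x hx =>
      apl_mem α (he'.mem hx)
  obtain ⟨k, hk, hkx⟩ := exists_transport hE hm hβ
  have hR₂T : R₂ ≤ T := hR₂.right_le
  have himg : R ≤ (R₂.subgroupOf T).map (T.subtype.comp β.toMonoidHom) := fun x hx => by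
    have hz := apl_mem a⁻¹ hx
    refine ⟨⟨e (apl a⁻¹ x), hR₂T (hR₂.mem hz)⟩, hR₂.mem hz, ?_⟩
    show ((β _ : T) : Ω) = x
    rw [← apl_apply β (hR₂T (hR₂.mem hz)), ← hfe _ hz, apl_apl_inv a hx]
  refine (mem_autGroup_iff hR).2 ⟨(hk.mono himg).congr fun x hx => ?_, fun y => ⟨fun hy => ?_, ?_⟩⟩
  · have hz := apl_mem a⁻¹ hx
    have h1 := hkx _ (hR₂.mem hz)
    rw [← hfe _ hz, apl_apl_inv a hx] at h1
    rw [h1, apl_mul _ _ hx, apl_mul _ _ hz, hfe _ (apl_mem α hz)]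
    show _ = apl β (e (apl α (e' (e (apl a⁻¹ x)))))
    rw [he'e _ hz]
  · exact ⟨apl (a * α * a⁻¹)⁻¹ y, apl_mem _ hy, apl_apl_inv _ hy⟩
  · rintro ⟨x, hx, rfl⟩
    exact apl_mem _ hx

theorem IsDelta.conj (hR : R ≤ T) {δ η : MulAut ↥(R ⊔ centralizerIn S R)} (hδ : IsDelta E F R δ)
    (hη : η ∈ F.autGroup (R ⊔ centralizerIn S R)) (hηR : Iso F R R (apl η)) :
    IsDelta E F R (η⁻¹ * δ * η) := by
  have hRS : R ≤ S := hR.trans hE.2.1.1
  have hN : R ⊔ centralizerIn S R ≤ S := sup_le hRS (centralizerIn_le S R)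
  obtain ⟨h1, ⟨α, hα, hαx⟩, h3⟩ := hδ
  obtain ⟨a, ha, hax⟩ := hηR.exists_mem_autGroup
  have hinv : ∀ x ∈ R, apl η⁻¹ x = apl a⁻¹ x := fun x hx => by
    conv_lhs => rw [← apl_apl_inv a hx, hax _ (apl_mem _ hx),
      apl_inv_apl η (Subgroup.mem_sup_left (apl_mem _ hx))]
  have hα' := autE_conj hE hR (Subgroup.inv_mem _ ha) hα
  rw [inv_inv] at hα'
  refine ⟨mul_mem (mul_mem (inv_mem hη) h1) hη, ⟨_, hα', fun x hx => ?_⟩, fun c hc => ?_⟩
  · rw [apl_mul _ _ (Subgroup.mem_sup_left hx),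
      apl_mul _ _ (apl_mem _ (Subgroup.mem_sup_left hx)), ← hax x hx, hαx _ (apl_mem a hx),
      hinv _ (apl_mem α (apl_mem a hx)), apl_mul _ _ hx, apl_mul _ _ (apl_mem a hx)]
  · have hcN : c ∈ R ⊔ centralizerIn S R := Subgroup.mem_sup_right hc
    have hd : apl η c ∈ centralizerIn S R :=
      (iso_apl hN hη).1.mem_centralizerIn le_sup_left hηR hcN hc.2
    rw [apl_mul _ _ hcN, apl_mul _ _ (apl_mem _ hcN), ← mul_inv_cancel_left (apl η c) (apl δ (apl η c)),
      (iso_apl hN (inv_mem hη)).1.map_mul (Subgroup.mem_sup_right hd)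
        (Subgroup.mem_sup_left (h3 _ hd)), apl_inv_apl η hcN, inv_mul_cancel_left,
      hinv _ (h3 _ hd)]
    exact apl_mem _ (h3 _ hd)

omit hE

/-- The group of the `IsDelta` automorphisms at `R`. -/
noncomputable def deltaGroup (E : FusionSystem T) (F : FusionSystem S) (hR : R ≤ S) : Subgroup (MulAut ↥(R ⊔ centralizerIn S R)) :=
  haveI := finite_of_le (sup_le hR (centralizerIn_le S R))
  chainStab.subgroupOfFiniteSubmonoid
    { carrier := {δ | IsDelta E F R δ}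
      one_mem' := IsDelta.one
      mul_mem' := fun h h' => IsDelta.mul hR h h' }

omit [Fact p.Prime] in
theorem mem_deltaGroup {hR : R ≤ S} {δ : MulAut ↥(R ⊔ centralizerIn S R)} :
    δ ∈ deltaGroup E F hR ↔ IsDelta E F R δ := Iff.rfl

section Saturated

variable (hS : IsPGroup p S) (hF : F.IsSaturated p)
include hS hF

/-- The automorphisms in `IsDelta` induced by `S` form a subgroup of index prime to `p`. -/
theorem exists_sylow_delta (hE : E.IsInvariantIn F) (hRT : R ≤ T)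
    (hRn : S ≤ Subgroup.normalizer (R : Set Ω)) :
    ∃ P : Subgroup (deltaGroup E F (hRT.trans hE.2.1.1)), ¬ p ∣ P.index ∧ ∀ γ : deltaGroup E F (hRT.trans hE.2.1.1),
      γ ∈ P ↔ ∃ s ∈ S, ∀ x ∈ R ⊔ centralizerIn S R,
        apl (γ : MulAut ↥(R ⊔ centralizerIn S R)) x = s * x * s⁻¹ := by
  have hRS := hRT.trans hE.2.1.1
  have hN : R ⊔ centralizerIn S R ≤ S := sup_le hRS (centralizerIn_le S R)
  haveI := finite_of_le hN
  haveI : Finite (MulAut ↥(R ⊔ centralizerIn S R)) :=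
    Finite.of_injective _ MulEquiv.toEquiv_injective
  set D := deltaGroup E F hRS
  have hNn : ∀ s ∈ S, s ∈ Subgroup.normalizer ((R ⊔ centralizerIn S R : Subgroup Ω) : Set Ω) :=
    fun s hs => by
    have hmaps : ∀ t ∈ S, ∀ x ∈ R ⊔ centralizerIn S R, t * x * t⁻¹ ∈ R ⊔ centralizerIn S R :=
      fun t ht x hx => (mor_conj (F := F) hN ht).mem_of_sup
        (fun y hy => Subgroup.mem_sup_left ((Subgroup.mem_normalizer_iff.1 (hRn ht) y).1 hy))
        (fun y hy => Subgroup.mem_sup_right ((mor_conj (F := F) hN ht).mem_centralizerIn le_sup_left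
          (iso_conj_self hRS ht (hRn ht)) (Subgroup.mem_sup_right hy) hy.2)) hx
    refine Subgroup.mem_normalizer_iff.2 fun x => ⟨hmaps s hs x, fun h => ?_⟩
    have h' := hmaps s⁻¹ (S.inv_mem hs) _ h
    rwa [show s⁻¹ * (s * x * s⁻¹) * s⁻¹⁻¹ = x by group] at h'
  have hNfn : F.IsFullyNormalized (R ⊔ centralizerIn S R) := ⟨hN, fun Q _ => by
    rw [show normalizerIn S (R ⊔ centralizerIn S R) = S from
      le_antisymm inf_le_left fun s hs => ⟨hs, hNn s hs⟩]
    exact Subgroup.card_le_of_le inf_le_left⟩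
  set A := F.autGroup (R ⊔ centralizerIn S R)
  set I := autInducedBy S (R ⊔ centralizerIn S R) with hI
  obtain ⟨-, Sy, hSy⟩ := fullyAutomized_of_fullyNormalized hS hF hNfn
  have hIA : I ≤ A := autInducedBy_le_autGroup hN
  have hDA : D ≤ A := fun δ hδ => (mem_deltaGroup.1 hδ).1
  let B := A ⊓ Subgroup.normalizer (D : Set (MulAut ↥(R ⊔ centralizerIn S R)))
  have hIB : I ≤ B := le_inf hIA fun σ hσ => by
    have hconj : ∀ τ ∈ I, ∀ δ ∈ D, τ⁻¹ * δ * τ ∈ D := fun τ hτ δ hδ => by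
      obtain ⟨s, hs, -, hsx⟩ := mem_autInducedBy_iff.1 hτ
      refine mem_deltaGroup.2 ((mem_deltaGroup.1 hδ).conj hE hRT (hIA hτ) ?_)
      exact (iso_conj_self hRS hs (hRn hs)).congr fun x hx => hsx x (Subgroup.mem_sup_left hx)
    refine Subgroup.mem_normalizer_iff''.2 fun δ => ⟨hconj σ hσ δ, fun h => ?_⟩
    have h' := hconj σ⁻¹ (I.inv_mem hσ) _ h
    rwa [show σ⁻¹⁻¹ * (σ⁻¹ * δ * σ) * σ⁻¹ = δ by group] at h'
  have hDB : D ≤ B := le_inf hDA Subgroup.le_normalizer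
  have hsyl : SylIn p I B := by
    refine ⟨hIB, fun hd => Sy.not_dvd_index ?_⟩
    rw [hSy]
    exact hd.trans (Dvd.intro _ (Subgroup.relIndex_mul_relIndex I B A hIB inf_le_left))
  have hn : (D.subgroupOf B).Normal := Subgroup.normal_subgroupOf_of_le_normalizer inf_le_right
  have h := sylIn_inter_normal hsyl hDB hn
  refine ⟨I.subgroupOf D, ?_, fun γ => ?_⟩
  · rw [← Subgroup.inf_subgroupOf_right]
    exact h.2
  · rw [Subgroup.mem_subgroupOf, mem_autInducedBy_iff]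
    exact ⟨fun ⟨s, hs, _, hsx⟩ => ⟨s, hs, hsx⟩, fun ⟨s, hs, hsx⟩ => ⟨s, hs, hNn s hs, hsx⟩⟩

end Saturated

/-- The elements of `C_S(T)` fixed by the `IsDelta` automorphisms at `R` of order prime to `p`. -/
def fixAt (E : FusionSystem T) (F : FusionSystem S) (p : ℕ) (hRT : R ≤ T) (hTS : T ≤ S) : Subgroup Ω where
  carrier := {c | c ∈ centralizerIn S T ∧
    ∀ δ, IsDelta E F R δ → (orderOf δ).Coprime p → apl δ c = c}
  one_mem' := ⟨Subgroup.one_mem _, fun δ hδ _ =>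
    (iso_apl (sup_le (hRT.trans hTS) (centralizerIn_le S R)) hδ.1).1.map_one⟩
  mul_mem' := by
    rintro a b ⟨ha, ha'⟩ ⟨hb, hb'⟩
    refine ⟨Subgroup.mul_mem _ ha hb, fun δ hδ hord => ?_⟩
    rw [(iso_apl (sup_le (hRT.trans hTS) (centralizerIn_le S R)) hδ.1).1.map_mul
      (Subgroup.mem_sup_right (centralizerIn_anti hRT ha))
      (Subgroup.mem_sup_right (centralizerIn_anti hRT hb)), ha' δ hδ hord, hb' δ hδ hord]
  inv_mem' := by
    rintro a ⟨ha, ha'⟩
    refine ⟨Subgroup.inv_mem _ ha, fun δ hδ hord => ?_⟩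
    rw [(iso_apl (sup_le (hRT.trans hTS) (centralizerIn_le S R)) hδ.1).1.map_inv
      (Subgroup.mem_sup_right (centralizerIn_anti hRT ha)), ha' δ hδ hord]

/-- `fixAt` is invariant under the automorphisms of `T C_S(T)` preserving `R`. -/
theorem fixAt_invariant (hS : IsPGroup p S) (hF : F.IsSaturated p) (hE : E.IsNormalIn F p)
    (hT : F.StronglyClosed T) (hRT : R ≤ T) (hRc : F.IsFullyCentralized R)
    {a : MulAut ↥(T ⊔ centralizerIn S T)} (ha : a ∈ F.autGroup (T ⊔ centralizerIn S T))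
    (haR : Iso F R R (apl a)) {y : Ω} (hy : y ∈ fixAt E F p hRT hT.1) :
    apl a y ∈ fixAt E F p hRT hT.1 := by
  obtain ⟨hyC, hyfix⟩ := hy
  have hM : T ⊔ centralizerIn S T ≤ S := sup_le hT.1 (centralizerIn_le S T)
  have hai := iso_apl hM ha
  have hay : apl a y ∈ centralizerIn S T := hai.1.mem_centralizerIn le_sup_left
    (StronglyClosed.iso_self hT hai.1 le_sup_left) (Subgroup.mem_sup_right hyC) hyC.2
  refine ⟨hay, fun δ hδ hord => ?_⟩
  obtain ⟨b, hb, hbx⟩ := haR.exists_mem_autGroup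
  obtain ⟨η, hη, hηR, hηb⟩ := exists_ext hS hF hRc hb
  have hN : R ⊔ centralizerIn S R ≤ S := sup_le hRc.1 (centralizerIn_le S R)
  have hηi := iso_apl hN hη
  have hayR : apl a y ∈ centralizerIn S R := centralizerIn_anti hRT hay
  have hyR : y ∈ centralizerIn S R := centralizerIn_anti hRT hyC
  set y' := apl η⁻¹ (apl a y) with hy'def
  have hηinv : Iso F R R (apl η⁻¹) := by
    refine (iso_apl hRc.1 (inv_mem hb)).congr fun x hx => ?_
    conv_lhs => rw [← apl_apl_inv b hx, ← hηb _ (apl_mem _ hx),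
      apl_inv_apl η (Subgroup.mem_sup_left (apl_mem _ hx))]
  have hy' : y' ∈ centralizerIn S R := (iso_apl hN (inv_mem hη)).1.mem_centralizerIn le_sup_left
    hηinv (Subgroup.mem_sup_right hayR) hayR.2
  have hδ' := hδ.conj hE.1.2.2 hRT hη hηR
  have hord' : (orderOf (η⁻¹ * δ * η)).Coprime p := by
    haveI := finite_of_le hN
    rwa [show η⁻¹ * δ * η = η⁻¹ * δ * η⁻¹⁻¹ by rw [inv_inv], ← MulAut.conj_apply,
      MulEquiv.orderOf_eq]
  -- `y⁻¹ y'` lies in the focal subgroup of `C_F(R)`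
  have hle : R ⊔ Subgroup.zpowers y ≤ T ⊔ centralizerIn S T :=
    sup_le (hRT.trans le_sup_left) (Subgroup.zpowers_le.2 (Subgroup.mem_sup_right hyC))
  have hmaps : ∀ x ∈ R ⊔ Subgroup.zpowers y, apl a x ∈ R ⊔ centralizerIn S R := fun x hx =>
    (hai.1.mono hle).mem_of_sup (fun w hw => Subgroup.mem_sup_left (haR.mem hw)) (fun w hw => by
      obtain ⟨j, rfl⟩ := Subgroup.mem_zpowers_iff.1 hw
      rw [mor_map_zpow hai.1 (Subgroup.mem_sup_right hyC)]
      exact Subgroup.zpow_mem _ (Subgroup.mem_sup_right hayR) j) hx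
  have hm := (hai.1.mono hle).comp (iso_apl hN (inv_mem hη)).1 hmaps
  have hmR : ∀ x ∈ R, (apl η⁻¹ ∘ apl a) x = x := fun x hx => by
    show apl η⁻¹ (apl a x) = x
    rw [← hbx x hx, ← hηb x hx, apl_inv_apl η (Subgroup.mem_sup_left hx)]
  have hz : y⁻¹ * y' ∈ cFoc F hRc.1 := by
    refine quot_mem_focal (F := centralizerSys F hRc.1) (mor_cSys.2 ⟨hm.mono le_sup_right,
      Subgroup.zpowers_le.2 hyR, fun w hw => ?_, _, hm.mono (sup_le le_sup_right le_sup_left),
      fun _ _ => rfl, hmR⟩) (Subgroup.mem_zpowers y)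
    exact hm.mem_centralizerIn le_sup_left ⟨hm.mono le_sup_left, fun v =>
      ⟨fun hv => ⟨v, hv, hmR v hv⟩, fun ⟨v', hv', hvv⟩ => hvv ▸ (hmR v' hv').symm ▸ hv'⟩⟩
      (Subgroup.mem_sup_right hw) (Subgroup.zpowers_le.2 hyR hw).2
  have hfix : apl (η⁻¹ * δ * η) y' = y' := by
    rw [← mul_inv_cancel_left y y', (iso_apl hN hδ'.1).1.map_mul (Subgroup.mem_sup_right hyR)
      (Subgroup.mem_sup_right (cFoc_le_centralizerIn hRc.1 hz)), hyfix _ hδ' hord',
      fix_cFoc hS hF hRc hδ'.1 (hδ'.iso hRc.1 hE.1.2.2.1 hRT) hδ'.2.2 hord' hz]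
  have hayN : apl a y ∈ R ⊔ centralizerIn S R := Subgroup.mem_sup_right hayR
  have hηy : apl η y' = apl a y := apl_apl_inv η hayN
  rw [apl_mul _ _ (Subgroup.mem_sup_right hy'), apl_mul _ _ (apl_mem _ (Subgroup.mem_sup_right hy')),
    hηy] at hfix
  conv_lhs => rw [← apl_apl_inv η (apl_mem δ hayN), hfix, hηy]

end Cfsg.Agent.FusSys.CentE
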