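import Cfsg.Agent.FusSys.IndexPrimeRad

/-!
Subgroups of `Aut_F(T)` of index prime to `p` above the automorphisms of a normal subsystem over `T`,
and the subsystems of `F` of index prime to `p` they give.
-/

set_option autoImplicit false
set_option linter.unusedSectionVars false

namespace Cfsg.Agent.FusSys

open Cfsg Cfsg.FusionSystem

universe u

variable {Ω : Type u} [Group Ω] {S T P Q R : Subgroup Ω} {F : FusionSystem S} {E : FusionSystem T}
variable {f g : Ω → Ω} {p : ℕ} {K : Subgroup (MulAut T)}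

theorem autGroup_mono_of_le {D : FusionSystem S} (h : D ≤ F) :
    D.autGroup P ≤ F.autGroup P := Subgroup.closure_mono fun _ hα => h P hα

/-- A normal subgroup of `Aut_F(T)` containing `Aut_E(T)` with quotient of order prime to `p`. -/
structure CharKer (E : FusionSystem T) (F : FusionSystem S) (p : ℕ) (K : Subgroup (MulAut T)) :
    Prop where
  le : K ≤ F.autGroup T
  autE : E.autGroup T ≤ K
  conj : ∀ α ∈ F.autGroup T, ∀ κ ∈ K, α * κ * α⁻¹ ∈ K
  pow : ∀ α ∈ F.autGroup T, ∀ k : ℕ, α ^ p ^ k ∈ K → α ∈ K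

/-- `f` is, on `P`, the automorphism `α` of `T` after a map of `E`. -/
def Dec (E : FusionSystem T) (F : FusionSystem S) (P : Subgroup Ω) (f : Ω → Ω) (α : MulAut T) :
    Prop :=
  α ∈ F.autGroup T ∧ ∃ e, Mor E P e ∧ ∀ x ∈ P, f x = apl α (e x)

theorem Dec.le {α : MulAut T} (h : Dec E F P f α) : P ≤ T := by
  obtain ⟨-, e, he, -⟩ := h
  exact he.le

theorem Dec.mem_T {α : MulAut T} (h : Dec E F P f α) {x : Ω} (hx : x ∈ P) : f x ∈ T := by
  obtain ⟨-, e, he, hef⟩ := h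
  rw [hef x hx]
  exact apl_mem α (he.mem_S hx)

theorem Dec.mono {α : MulAut T} (h : Dec E F P f α) (hR : R ≤ P) : Dec E F R f α := by
  obtain ⟨hα, e, he, hef⟩ := h
  exact ⟨hα, e, he.mono hR, fun x hx => hef x (hR hx)⟩

theorem Dec.congr {α : MulAut T} {f' : Ω → Ω} (h : Dec E F P f α) (he : ∀ x ∈ P, f' x = f x) :
    Dec E F P f' α := by
  obtain ⟨hα, e, he', hef⟩ := h
  exact ⟨hα, e, he', fun x hx => (he x hx).trans (hef x hx)⟩

theorem dec_apl (hP : P ≤ T) {α : MulAut T} (hα : α ∈ F.autGroup T) : Dec E F P (apl α) α :=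
  ⟨hα, id, mor_id hP, fun _ _ => rfl⟩

theorem dec_mor (he : Mor E P f) : Dec E F P f 1 :=
  ⟨Subgroup.one_mem _, f, he, fun x hx => (apl_one (he.mem_S hx)).symm⟩

section Invariant

variable (hE : E.IsInvariantIn F)
include hE

theorem Dec.comp {α α' : MulAut T} (h : Dec E F P f α) (h' : Dec E F R g α')
    (hfR : ∀ x ∈ P, f x ∈ R) : Dec E F P (g ∘ f) (α' * α) := by
  obtain ⟨hα, e, he, hef⟩ := h
  obtain ⟨hα', e', he', heg⟩ := h'
  obtain ⟨k, hk, hkx⟩ := exists_transport hE he' (Subgroup.inv_mem _ hα)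
  have hmem : ∀ x ∈ P, e x ∈ (R.subgroupOf T).map (T.subtype.comp α⁻¹.toMonoidHom) := fun x hx =>
    (map_apl_eq he'.le).2 ⟨f x, hfR x hx, by rw [hef x hx, apl_inv_apl α (he.mem_S hx)]⟩
  refine ⟨Subgroup.mul_mem _ hα' hα, k ∘ e, he.comp hk hmem, fun x hx => ?_⟩
  have h1 := hkx _ (hfR x hx)
  rw [hef x hx, apl_inv_apl α (he.mem_S hx)] at h1
  have h2 : e' (apl α (e x)) ∈ T := he'.mem_S (hef x hx ▸ hfR x hx)
  show g (f x) = apl (α' * α) (k (e x))
  rw [h1, apl_mul _ _ (apl_mem _ h2), apl_apl_inv α h2, heg _ (hfR x hx), hef x hx]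

theorem exists_dec (hP : P ≤ T) (hf : Mor F P f) : ∃ α, Dec E F P f α := by
  obtain ⟨β, hβ, e, he, hef⟩ := exists_frattini hE hP hf
  exact ⟨β, hβ, e, he, hef⟩

/-- The image of a subgroup centric in `E` under a map of the system is centric in `E`. -/
theorem Dec.centric_image {α : MulAut T} (h : Dec E F P f α) (hP : E.IsCentric P)
    (hi : ∀ y, y ∈ Q ↔ ∃ x ∈ P, f x = y) : E.IsCentric Q := by
  obtain ⟨hα, e, he, hef⟩ := h
  have hTS : T ≤ S := hE.2.1.1
  have hQT : Q ≤ T := fun y hy => by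
    obtain ⟨x, hx, rfl⟩ := (hi y).1 hy
    rw [hef x hx]
    exact apl_mem α (he.mem_S hx)
  refine ⟨hQT, fun W hW c hc => ?_⟩
  obtain ⟨k, hk⟩ := isConj_iff.1 hW
  obtain ⟨k', hk', hkx⟩ := exists_transport hE hk.1 (Subgroup.inv_mem _ hα)
  obtain ⟨M, hM⟩ := he.exists_iso
  have hle : M ≤ (Q.subgroupOf T).map (T.subtype.comp α⁻¹.toMonoidHom) := fun y hy => by
    obtain ⟨x, hx, rfl⟩ := hM.exists_eq hy
    exact (map_apl_eq hQT).2 ⟨f x, (hi _).2 ⟨x, hx, rfl⟩,
      by rw [hef x hx, apl_inv_apl α (he.mem_S hx)]⟩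
  obtain ⟨N, hN⟩ := (hk'.mono hle).exists_iso
  have hNc := hP.2 N (hM.comp hN).isConj
  have hcN : apl α⁻¹ c ∈ centralizerIn T N := by
    refine ⟨apl_mem _ hc.1, Subgroup.mem_centralizer_iff.2 fun y hy => ?_⟩
    obtain ⟨z, hz, rfl⟩ := hN.exists_eq hy
    obtain ⟨q, hq, rfl⟩ := (map_apl_eq hQT).1 (hle hz)
    have hkq : k q ∈ T := hk.1.mem_S hq
    rw [hkx q hq]
    have hm : Mor E T id := mor_id le_rfl
    have e1 : apl α⁻¹ (k q * c) = apl α⁻¹ (k q) * apl α⁻¹ c :=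
      (iso_apl (F := F) hTS (Subgroup.inv_mem _ hα)).1.map_mul hkq hc.1
    have e2 : apl α⁻¹ (c * k q) = apl α⁻¹ c * apl α⁻¹ (k q) :=
      (iso_apl (F := F) hTS (Subgroup.inv_mem _ hα)).1.map_mul hc.1 hkq
    rw [← e1, ← e2, Subgroup.mem_centralizer_iff.1 hc.2 _ (hk.mem hq)]
  obtain ⟨z, hz, hzc⟩ := hN.exists_eq (hNc hcN)
  obtain ⟨q, hq, rfl⟩ := (map_apl_eq hQT).1 (hle hz)
  rw [hkx q hq] at hzc
  have h3 : k q = c := by
    rw [← apl_apl_inv α (hk.1.mem_S hq : k q ∈ T), hzc, apl_apl_inv α hc.1]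
  exact h3 ▸ hk.mem hq

end Invariant

variable [Finite S] [Fact p.Prime] (hS : IsPGroup p S) (hE : E.IsWeaklyNormalIn F p)
variable (hK : CharKer E F p K)
include hS hE hK

theorem dec_unique_of {α α' : MulAut T}
    (hG : ∀ M : Subgroup Ω, E.IsConj P M → ∀ γ ∈ F.autGroup T, Mor E M (apl γ) → γ ∈ K)
    (h : Dec E F P f α) (h' : Dec E F P f α') : α⁻¹ * α' ∈ K := by
  obtain ⟨hα, e, he, hef⟩ := h
  obtain ⟨hα', e', he', hef'⟩ := h'
  obtain ⟨M, hM⟩ := he'.exists_iso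
  obtain ⟨k, hk, hke, -⟩ := hM.symm
  refine hG M hM.isConj _ (Subgroup.mul_mem _ (Subgroup.inv_mem _ hα) hα')
    ((hk.1.comp he fun y hy => hk.mem hy).congr fun y hy => ?_)
  obtain ⟨x, hx, rfl⟩ := hM.exists_eq hy
  show apl (α⁻¹ * α') (e' x) = e (k (e' x))
  rw [hke x hx, apl_mul _ _ (he'.mem_S hx), ← hef' x hx, hef x hx, apl_inv_apl α (he.mem_S hx)]

/-- The automorphisms of `T` which are maps of `E` on a subgroup centric in `E` lie in `K`. -/
theorem mem_of_mor_centric {α : MulAut T} (hα : α ∈ F.autGroup T) (hR : E.IsCentric R)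
    (hm : Mor E R (apl α)) : α ∈ K := by
  have hT := hE.2.2.2.1
  have hTS : T ≤ S := hT.1
  have := finite_of_le hTS
  have hTp : IsPGroup p T := hS.to_le hTS
  suffices H : ∀ d, ∀ R : Subgroup Ω, Nat.card T - Nat.card R = d → E.IsCentric R →
      ∀ α ∈ F.autGroup T, Mor E R (apl α) → α ∈ K from H _ R rfl hR α hα hm
  intro d
  induction d using Nat.strong_induction_on with
  | _ d ih =>
  intro R hd hR α hα hm
  by_cases hRT : R = T
  · subst hRT
    exact hK.autE ((mem_autGroup_iff le_rfl).2 ⟨hm, (iso_apl (F := F) hTS hα).2⟩)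
  set N := normalizerIn T R with hNdef
  have hRN : R < N := lt_normalizerIn hTp (lt_of_le_of_ne hR.1 hRT)
  have hNT : N ≤ T := inf_le_left
  have hNc : E.IsCentric N := centric_of_le hR hRN.le hNT
  have hbig : ∀ M : Subgroup Ω, E.IsConj N M → ∀ γ ∈ F.autGroup T, Mor E M (apl γ) → γ ∈ K := by
    intro M hM γ hγ hγm
    have h1 : Nat.card ↥R < Nat.card ↥M := isConj_card_eq hM ▸ card_lt_of_lt' hNT hRN
    have h2 : Nat.card ↥M ≤ Nat.card ↥T := Subgroup.card_le_of_le (isConj_le_right hM)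
    exact ih _ (by omega) M rfl (centric_of_isConj hNc hM) γ hγ hγm
  have hαF : Mor F T (apl α) := (iso_apl hTS hα).1
  obtain ⟨R', hR'⟩ := hm.exists_iso
  obtain ⟨ε, hε, hεf⟩ :=
    (isReceptive_iff.1 (centric_receptive hTp hE.1 (centric_of_isConj hR hR'.isConj))).2 R _ hR'
  have hNn : N ≤ nPhi T R (apl α) := fun t ht => mem_nPhi.2 ⟨ht.1, ht.2, apl α t, apl_mem α ht.1,
    fun x hx => hαF.map_conj ht.1 (hR.1 hx)⟩
  have hεN : Mor E N ε := hε.mono hNn
  have hεF : Mor F N ε := by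
    obtain ⟨φ, hφ, hφε⟩ := hεN
    exact ⟨φ, hE.2.2.1 N hφ, hφε⟩
  obtain ⟨N', hN'⟩ := hεF.exists_iso
  obtain ⟨ε', hε', hε'ε, -⟩ := hN'.symm
  -- the images coincide
  have hN'T : N' = (normalizerIn T R') := by
    refine eq_of_le_of_card ((inf_le_left : normalizerIn T R' ≤ T).trans hTS) (fun y hy => ?_) ?_
    · obtain ⟨x, hx, rfl⟩ := hN'.exists_eq hy
      exact hεN.mem_normalizerIn_image (hR'.congr hεf) hRN.le hx hx.2
    · rw [← hN'.card_eq]
      have hb : ∀ y ∈ normalizerIn T R', apl α⁻¹ y ∈ N := fun y hy => by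
        have hαi : Mor F T (apl α⁻¹) := (iso_apl hTS (Subgroup.inv_mem _ hα)).1
        refine ⟨apl_mem _ hy.1, ?_⟩
        have := finite_of_le (hR.1.trans hTS)
        refine mem_normalizer_of_maps fun x hx => ?_
        obtain ⟨z, hz, hzx⟩ := hR'.exists_eq
          ((Subgroup.mem_normalizer_iff.1 hy.2 _).1 (hR'.mem hx))
        have e1 := congrArg (apl α⁻¹) hzx
        rw [apl_inv_apl α (hR.1 hz), hαi.map_conj hy.1 (apl_mem α (hR.1 hx)),
          apl_inv_apl α (hR.1 hx)] at e1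
        rwa [← e1]
      exact ((iso_apl hTS (Subgroup.inv_mem _ hα)).1.mono (inf_le_left : normalizerIn T R' ≤ T)).card_image_le
        (hNT.trans hTS) hb
  have hαN : ∀ x ∈ N, apl α x ∈ N' := fun x hx => by
    rw [hN'T]
    have hRF : Iso F R R' (apl α) := ⟨hαF.mono hR.1, hR'.2⟩
    exact ⟨apl_mem α hx.1, (hαF.mem_normalizerIn_image hRF hR.1 hx.1 hx.2).2⟩
  set τ := ε' ∘ apl α with hτdef
  have hτ : Mor F N τ := (hαF.mono hNT).comp hε'.1 hαN
  have hτmem : ∀ x ∈ N, τ x ∈ N := fun x hx => hε'.mem (hαN x hx)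
  have hτi : Iso F N N τ := ⟨hτ, fun y => ⟨fun hy => hτ.surj_of_card (hNT.trans hTS) hτmem le_rfl hy,
    fun ⟨x, hx, hxy⟩ => hxy ▸ hτmem x hx⟩⟩
  obtain ⟨δ, hδ, hδτ⟩ := hτi.exists_mem_autGroup
  have hfix : ∀ x ∈ R, apl δ x = x := fun x hx => by
    rw [hδτ x (hRN.le hx)]
    show ε' (apl α x) = x
    rw [← hεf x hx, hε'ε x (hRN.le hx)]
  -- `δ` has `p`-power order
  have hd' : ∀ y ∈ N, y⁻¹ * apl δ y ∈ R := fun y hy => by
    refine centric_self hR ⟨T.mul_mem (T.inv_mem (hNT hy)) (hNT (apl_mem δ hy)),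
      Subgroup.mem_centralizer_iff.2 fun x hx => ?_⟩
    have hyx := (Subgroup.mem_normalizer_iff.1 hy.2 x).1 hx
    have h1 := (iso_apl (hNT.trans hTS) hδ).1.map_conj hy (hRN.le hx)
    rw [hfix _ hyx, hfix x hx] at h1
    calc x * (y⁻¹ * apl δ y) = y⁻¹ * (y * x * y⁻¹) * apl δ y := by group
      _ = y⁻¹ * (apl δ y * x * (apl δ y)⁻¹) * apl δ y := by rw [h1]
      _ = y⁻¹ * apl δ y * x := by group
  have hiter : ∀ k : ℕ, ∀ y ∈ N, apl (δ ^ k) y = y * (y⁻¹ * apl δ y) ^ k := by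
    intro k
    induction k with
    | zero => intro y hy; rw [pow_zero, pow_zero, mul_one, apl_one hy]
    | succ k ihk =>
      intro y hy
      have hdm : (y⁻¹ * apl δ y) ^ k ∈ R := R.pow_mem (hd' y hy) k
      rw [pow_succ', apl_mul _ _ hy, ihk y hy,
        (iso_apl (hNT.trans hTS) hδ).1.map_mul hy (hRN.le hdm), hfix _ hdm, pow_succ',
        ← mul_assoc, ← mul_assoc, mul_inv_cancel, one_mul]
  have := finite_of_le (hR.1.trans hTS)
  obtain ⟨n, hn⟩ := IsPGroup.iff_card.1 (hTp.to_le hR.1)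
  have hδp : δ ^ p ^ n = 1 := apl_ext fun y hy => by
    rw [hiter _ y hy, apl_one hy]
    have h1 : (⟨_, hd' y hy⟩ : R) ^ p ^ n = 1 := by
      rw [← hn]; exact pow_card_eq_one'
    rw [show (y⁻¹ * apl δ y) ^ p ^ n = 1 from congrArg Subtype.val h1, mul_one]
  obtain ⟨γ, hγ⟩ := exists_dec hE.2.2 hNT (iso_apl (hNT.trans hTS) hδ).1
  have hpow : ∀ k : ℕ, Dec E F N (apl (δ ^ k)) (γ ^ k) := by
    intro k
    induction k with
    | zero =>
      rw [pow_zero, pow_zero]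
      exact (dec_mor (mor_id hNT)).congr fun x hx => apl_one hx
    | succ k ihk =>
      rw [pow_succ', pow_succ']
      exact (ihk.comp hE.2.2 hγ fun x hx => apl_mem _ hx).congr fun x hx => apl_mul δ _ hx
  have hγK : γ ∈ K := by
    refine hK.pow γ hγ.1 n ?_
    have h1 := hpow (p ^ n)
    rw [hδp] at h1
    simpa using dec_unique_of hS hE hK hbig
      ((dec_mor (F := F) (mor_id hNT : Mor E N id)).congr fun x hx => apl_one hx) h1
  have h2 : Dec E F N (apl α) (1 * γ) := by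
    refine (hγ.comp hE.2.2 (dec_mor hεN) fun x hx => apl_mem δ hx).congr fun x hx => ?_
    show apl α x = ε (apl δ x)
    rw [hδτ x hx]
    obtain ⟨z, hz, hzx⟩ := hN'.exists_eq (hαN x hx)
    show apl α x = ε (ε' (apl α x))
    rw [← hzx, hε'ε z hz]
  have h3 := dec_unique_of hS hE hK hbig h2 (dec_apl hNT hα)
  rw [one_mul] at h3
  simpa using K.mul_mem hγK h3

theorem dec_unique {α α' : MulAut T} (hP : E.IsCentric P) (h : Dec E F P f α)
    (h' : Dec E F P f α') : α⁻¹ * α' ∈ K :=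
  dec_unique_of hS hE hK
    (fun _ hM _ hγ hm => mem_of_mor_centric hS hE hK hγ (centric_of_isConj hP hM) hm) h h'

/-- All decompositions on subgroups centric in `E` have their automorphism in `K`. -/
def CharOne (E : FusionSystem T) (F : FusionSystem S) (K : Subgroup (MulAut T)) (P : Subgroup Ω)
    (f : Ω → Ω) : Prop :=
  Mor F P f ∧ ∀ R, R ≤ P → E.IsCentric R → ∀ α, Dec E F R f α → α ∈ K

theorem restrict_T {b : MulAut S} (hb : b ∈ F.autGroup S) :
    ∃ σ ∈ F.autGroup T, ∀ x ∈ T, apl σ x = apl b x :=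
  (StronglyClosed.iso_self hE.2.2.2.1 (iso_apl le_rfl hb).1 hE.2.2.2.1.1).exists_mem_autGroup

theorem charOne_of_pow (hP : P ≤ S) {δ : MulAut P} (hδ : δ ∈ F.autGroup P) {k : ℕ}
    (hk : δ ^ p ^ k = 1) (hW : ∀ x ∈ P, apl δ x ∈ P ⊓ T ↔ x ∈ P ⊓ T) :
    CharOne E F K P (apl δ) := by
  have := finite_of_le hE.2.2.2.1.1
  refine ⟨(iso_apl hP hδ).1, fun R hRP hR α hα => ?_⟩
  have hWc : E.IsCentric (P ⊓ T) := centric_of_le hR (le_inf hRP hR.1) inf_le_right
  have := finite_of_le hP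
  obtain ⟨γ, hγ⟩ := exists_dec hE.2.2 inf_le_right ((iso_apl hP hδ).1.mono (inf_le_left : P ⊓ T ≤ P))
  have hmemW : ∀ n : ℕ, ∀ x ∈ P ⊓ T, apl (δ ^ n) x ∈ P ⊓ T := by
    intro n
    induction n with
    | zero => intro x hx; rw [pow_zero, apl_one hx.1]; exact hx
    | succ n ih =>
      intro x hx
      rw [pow_succ', apl_mul _ _ hx.1]
      exact (hW _ (apl_mem _ hx.1)).2 (ih x hx)
  have hpow : ∀ n : ℕ, Dec E F (P ⊓ T) (apl (δ ^ n)) (γ ^ n) := by
    intro n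
    induction n with
    | zero =>
      rw [pow_zero, pow_zero]
      exact (dec_mor (mor_id inf_le_right)).congr fun x hx => apl_one hx.1
    | succ n ihn =>
      rw [pow_succ', pow_succ']
      exact (ihn.comp hE.2.2 hγ (hmemW n)).congr fun x hx => apl_mul δ _ hx.1
  have hγK : γ ∈ K := by
    refine hK.pow γ hγ.1 k ?_
    have h1 := hpow (p ^ k)
    rw [hk] at h1
    simpa using dec_unique hS hE hK hWc
      ((dec_mor (F := F) (mor_id inf_le_right : Mor E (P ⊓ T) id)).congr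
        fun x hx => apl_one hx.1) h1
  simpa using K.mul_mem hγK (dec_unique hS hE hK hR (hγ.mono (le_inf hRP hR.1)) hα)

theorem subRel_charOne : SubRel F S (CharOne E F K) := by
  have hT := hE.2.2.2.1
  refine ⟨fun {P f f'} h he => ⟨h.1.congr he, fun R hR hRc α hα =>
      h.2 R hR hRc α (hα.congr fun x hx => (he x (hR hx)).symm)⟩,
    fun h => ⟨h.1.le, fun _ hx => h.1.mem_S hx⟩, fun {P s} hP hs => ⟨mor_conj hP hs,
      mor_conj hP hs, fun R hR hRc α hα => ?_⟩, ?_, ?_⟩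
  · have := finite_of_le hT.1
    obtain ⟨σ, hσ, hσx⟩ := exists_mem_autInducedBy (P := T) hs (StronglyClosed.le_normalizer hT hs)
    have hσF : σ ∈ F.autGroup T := autInducedBy_le_autGroup hT.1 hσ
    have hσp : IsPGroup p (autInducedBy S T) := isPGroup_autInducedBy hS
    obtain ⟨k, hk⟩ := hσp ⟨σ, hσ⟩
    have hσK : σ ∈ K := hK.pow σ hσF k (by
      rw [show σ ^ p ^ k = 1 from congrArg Subtype.val hk]
      exact K.one_mem)
    have h1 : Dec E F R (fun x => s * x * s⁻¹) σ :=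
      (dec_apl hRc.1 hσF).congr fun x hx => (hσx x (hRc.1 hx)).symm
    simpa using K.mul_mem hσK (dec_unique hS hE hK hRc h1 hα)
  · rintro P R f g - h - h' hfR
    refine ⟨h.1.comp h'.1 hfR, fun R0 hR0 hc α hα => ?_⟩
    obtain ⟨a, ha⟩ := exists_dec hE.2.2 hc.1 (h.1.mono hR0)
    obtain ⟨R1, hR1⟩ := exists_iso_restrict h.1 hR0
    have hc1 : E.IsCentric R1 := ha.centric_image hE.2.2 hc hR1.2
    have hR1R : R1 ≤ R := fun y hy => by
      obtain ⟨x, hx, rfl⟩ := hR1.exists_eq hy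
      exact hfR x (hR0 hx)
    obtain ⟨b, hb⟩ := exists_dec hE.2.2 hc1.1 (h'.1.mono hR1R)
    have h2 := ha.comp hE.2.2 hb fun x hx => hR1.mem hx
    have h3 := K.mul_mem (K.mul_mem (h'.2 R1 hR1R hc1 b hb) (h.2 R0 hR0 hc a ha))
      (dec_unique hS hE hK hc h2 hα)
    rwa [mul_inv_cancel_left] at h3
  · rintro P R f g hf h hg hgf
    refine ⟨hg.1, fun R0 hR0 hc α hα => ?_⟩
    obtain ⟨R1, hR1⟩ := exists_iso_restrict hg.1 hR0
    have hc1 : E.IsCentric R1 := hα.centric_image hE.2.2 hc hR1.2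
    have hR1P : R1 ≤ P := fun y hy => by
      obtain ⟨x, hx, rfl⟩ := hR1.exists_eq hy
      exact hg.mem (hR0 hx)
    obtain ⟨b, hb⟩ := exists_dec hE.2.2 hc1.1 (h.1.mono hR1P)
    have hval : ∀ y ∈ R0, f (g y) = y := fun y hy => by
      obtain ⟨x, hx, rfl⟩ := hf.exists_eq (hR0 hy)
      rw [hgf x hx]
    have h2 := (hα.comp hE.2.2 hb fun x hx => hR1.mem hx).congr (f' := id)
      fun x hx => (hval x hx).symm
    have h3 := dec_unique hS hE hK hc h2 (dec_mor (mor_id hc.1))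
    rw [mul_one] at h3
    simpa using K.mul_mem (K.inv_mem (h.2 R1 hR1P hc1 b hb)) (K.inv_mem h3 : (b * α)⁻¹⁻¹ ∈ K)

theorem charOne_of_minOp (h : Mor (minOp F p) P f) : CharOne E F K P f := by
  have hM := subRel_charOne hS hE hK
  have hC : ContainsCentricOp (subSys hM) F p := by
    intro X hX
    rw [opPrime, MonoidHom.map_closure, Subgroup.closure_le]
    rintro _ ⟨⟨δ, hδ⟩, ⟨k, hk⟩, rfl⟩
    rw [Subgroup.orderOf_mk] at hk
    have hδp : δ ^ p ^ k = 1 := by rw [← hk, pow_orderOf_eq_one]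
    exact Subgroup.subset_closure (((mor_subSys hM).2 ⟨(iso_apl hX.1 hδ).1,
      charOne_of_pow hS hE hK hX.1 hδ hδp fun x hx => and_congr (iff_of_true (apl_mem δ hx) hx)
        (apl_invariant_of_stronglyClosed hE.2.2.2.1 hX.1 hδ hx)⟩).hom_eq fun x => (apl_coe δ x).symm)
  exact ((mor_subSys hM).1 (le_iff_mor.1 (minOp_le_of hC) P f h)).2

omit hS hE hK in
/-- The automorphisms of `S` restricting to members of `K`. -/
def gamRes (F : FusionSystem S) (K : Subgroup (MulAut T)) (hTS : T ≤ S) :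
    Subgroup (MulAut S) where
  carrier := {β | β ∈ F.autGroup S ∧ ∃ κ ∈ K, ∀ x ∈ T, apl β x = apl κ x}
  one_mem' := ⟨Subgroup.one_mem _, 1, K.one_mem, fun x hx => by rw [apl_one hx, apl_one (hTS hx)]⟩
  mul_mem' := by
    rintro a b ⟨ha, κ, hκ, hax⟩ ⟨hb, l, hl, hbx⟩
    exact ⟨Subgroup.mul_mem _ ha hb, κ * l, K.mul_mem hκ hl, fun x hx => by
      rw [apl_mul _ _ (hTS hx), hbx x hx, hax _ (apl_mem l hx), apl_mul _ _ hx]⟩
  inv_mem' := by
    rintro a ⟨ha, κ, hκ, hax⟩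
    exact ⟨Subgroup.inv_mem _ ha, κ⁻¹, K.inv_mem hκ, fun x hx => by
      conv_lhs => rw [← apl_apl_inv κ hx, ← hax _ (apl_mem _ hx),
        apl_inv_apl a (hTS (apl_mem κ⁻¹ hx))]⟩

theorem goodGam_gamRes : GoodGam F p (gamRes F K hE.2.2.2.1.1) := by
  have hTS := hE.2.2.2.1.1
  have hN : GamNormal F (gamRes F K hTS) := by
    refine ⟨fun _ h => h.1, fun b hb γ ⟨hγ, κ, hκ, hγx⟩ => ?_⟩
    obtain ⟨σ, hσ, hσx⟩ := restrict_T hS hE hK hb
    refine ⟨Subgroup.mul_mem _ (Subgroup.mul_mem _ hb hγ) (Subgroup.inv_mem _ hb), σ * κ * σ⁻¹,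
      hK.conj σ hσ κ hκ, fun x hx => ?_⟩
    have hy : apl σ⁻¹ x ∈ T := apl_mem _ hx
    have hby : apl b⁻¹ x = apl σ⁻¹ x := by
      conv_lhs => rw [← apl_apl_inv σ hx, hσx _ hy, apl_inv_apl b (hTS hy)]
    rw [apl_mul _ _ (hTS hx), apl_mul _ _ (apl_mem _ (hTS hx)), hby, hγx _ hy,
      ← hσx _ (apl_mem κ hy), apl_mul _ _ hx, apl_mul _ _ hy]
  refine goodGam_of_radical hS hE.2.1 hN fun R hRc hRr β hβ hm => ⟨hβ, ?_⟩
  obtain ⟨σ, hσ, hσx⟩ := restrict_T hS hE hK hβ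
  have hW : E.IsCentric (R ⊓ T) := by
    by_contra h
    exact not_radical_of_not_centric_in hS hE.2.1 hE.2.2.1 hE.2.2.2.1 hRc h hRr
  have hd : Dec E F (R ⊓ T) (apl β) σ :=
    (dec_apl inf_le_right hσ).congr fun x hx => (hσx x hx.2).symm
  exact ⟨σ, (charOne_of_minOp hS hE hK hm).2 _ inf_le_left hW σ hd, fun x hx => (hσx x hx).symm⟩

theorem mem_autGroup_charSys {β : MulAut S} :
    β ∈ (clsSys (goodGam_gamRes hS hE hK)).autGroup S ↔ β ∈ gamRes F K hE.2.2.2.1.1 := by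
  refine ⟨fun h => ?_, mem_autGroup_clsSys _⟩
  have hβF : β ∈ F.autGroup S :=
    autGroup_mono_of_le (clsSys_le (goodGam_gamRes hS hE hK)) h
  have h1 := (mor_clsSys _).1 (iso_apl le_rfl h).1
  have h2 := h1.unique (goodGam_gamRes hS hE hK) (cls_apl le_rfl hβF) (centric_top F)
  rwa [inv_one, one_mul] at h2

/-- The maps of `E` lie in the subsystem. -/
theorem le_charSys : E.IsSubsystemOf (clsSys (goodGam_gamRes hS hE hK)) := by
  have hT := hE.2.2.2.1
  have hTp : IsPGroup p T := hS.to_le hT.1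
  have := finite_of_le hT.1
  have hG := goodGam_gamRes hS hE hK
  have hEF : ∀ {X : Subgroup Ω} {h : Ω → Ω}, Mor E X h → Mor F X h := fun ⟨φ, hφ, hφh⟩ =>
    ⟨φ, hE.2.2.1 _ hφ, hφh⟩
  have hM : SubRel E T (fun P f => Mor E P f ∧ Mor (clsSys hG) P f) := by
    refine ⟨fun h he => ⟨h.1.congr he, h.2.congr he⟩, fun h => ⟨h.1.le, fun _ hx => h.1.mem_S hx⟩,
      fun hP hs => ⟨mor_conj hP hs, mor_conj hP hs, mor_conj (hP.trans hT.1) (hT.1 hs)⟩,
      fun _ h _ h' hfR => ⟨h.1.comp h'.1 hfR, h.2.comp h'.2 hfR⟩, fun hf h hg hgf => ⟨hg.1, ?_⟩⟩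
    obtain ⟨k, hk, hkl, -⟩ := (show Iso (clsSys hG) _ _ _ from ⟨h.2, hf.2⟩).symm
    refine hk.1.congr fun y hy => ?_
    obtain ⟨x, hx, rfl⟩ := hf.exists_eq hy
    rw [hgf x hx, hkl x hx]
  have hall := alperin_induction hTp hE.1 hM fun R hR α hα => by
    have hRc : E.IsCentric R := hR.elim (fun e => e.symm ▸ centric_top E) fun e => e.1
    have hm : Mor E R (apl α) := (iso_apl hRc.1 hα).1
    refine ⟨hm, (mor_clsSys hG).2 ?_⟩
    obtain ⟨η, hη⟩ := exists_cls (Γ := gamRes F K hT.1) hG.toGamNormal hS hE.2.1 (hEF hm)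
    obtain ⟨hηS, γ, hγ, e, he, hef⟩ := hη
    have hb : η * γ ∈ F.autGroup S := Subgroup.mul_mem _ hηS (hG.le hγ)
    obtain ⟨σ, hσ, hσx⟩ := restrict_T hS hE hK hb
    have heF : Mor F R e := le_iff_mor.1 minOp_le R e he
    obtain ⟨a, ha⟩ := exists_dec hE.2.2 hRc.1 heF
    have haK : a ∈ K := (charOne_of_minOp hS hE hK he).2 R le_rfl hRc a ha
    have hd : Dec E F R (apl α) (σ * a) :=
      (ha.comp hE.2.2 (dec_apl le_rfl hσ) fun x hx => ha.mem_T hx).congr fun x hx => by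
        show apl α x = apl σ (e x)
        rw [hσx _ (ha.mem_T hx), hef x hx]
    have h3 := dec_unique hS hE hK hRc hd (dec_mor hm)
    rw [mul_one] at h3
    have hσK : σ ∈ K := by simpa using K.mul_mem (K.inv_mem h3) (K.inv_mem haK)
    have hg : η * γ ∈ gamRes F K hT.1 := ⟨hb, σ, hσK, fun x hx => (hσx x hx).symm⟩
    have hηΓ : η ∈ gamRes F K hT.1 := by simpa using Subgroup.mul_mem _ hg (Subgroup.inv_mem _ hγ)
    exact ⟨Subgroup.one_mem _, η * γ, hg, e, he, fun x hx => by rw [one_mul]; exact hef x hx⟩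
  exact isSubsystemOf_iff_mor.2 fun P f h => (hall P f h).2

theorem charSys_normal : (clsSys (goodGam_gamRes hS hE hK)).IsNormalIn F p := by
  have hG := goodGam_gamRes hS hE hK
  have hF := hE.2.1
  have hsub : (clsSys hG).IsSubsystemOf F := fun P => clsSys_le hG P
  refine ⟨⟨clsSys_saturated hG hS hF, hF, hsub,
    stronglyClosed_iff.2 ⟨le_rfl, fun R f _ hf x hx => hf.mem_S hx⟩, ?_, ?_⟩, fun α hα => ?_⟩
  · intro P hP φ hφ b hb
    have hbi := Subgroup.inv_mem _ hb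
    have hmap : ∀ {y : Ω}, y ∈ (P.subgroupOf S).map (S.subtype.comp b.toMonoidHom) →
        ∃ x ∈ P, apl b x = y := fun h => (map_apl_eq hP).1 h
    have hle : (P.subgroupOf S).map (S.subtype.comp b.toMonoidHom) ≤ S := fun y hy => by
      obtain ⟨x, hx, rfl⟩ := hmap hy
      exact apl_mem b (hP hx)
    have hmem : ∀ y ∈ (P.subgroupOf S).map (S.subtype.comp b.toMonoidHom), apl b⁻¹ y ∈ P := by
      intro y hy
      obtain ⟨x, hx, rfl⟩ := hmap hy
      rwa [apl_inv_apl b (hP hx)]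
    have h1 := (mor_clsSys hG).1 (mor_extendFn hφ)
    have h2 := ((cls_apl (p := p) (Γ := gamRes F K hE.2.2.2.1.1) hle hbi).comp hG.toGamNormal h1
      hmem).comp hG.toGamNormal (cls_apl le_rfl hb) fun y hy => (h1.mor hG.toGamNormal).mem_S (hmem y hy)
    rw [one_mul, mul_inv_cancel] at h2
    obtain ⟨χ, hχ, hχx⟩ := (mor_clsSys hG).2 h2
    refine ⟨χ, hχ, fun x hφx hαx => ?_⟩
    rw [hχx]
    show apl b (extendFn φ (apl b⁻¹ ((b ⟨x, hP x.2⟩ : S) : Ω))) = _
    rw [← apl_apply b (hP x.2), apl_inv_apl b (hP x.2), extendFn_coe, apl_apply b hφx]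
  · intro P hP φ hφ
    obtain ⟨β, hβ, e, he, hef⟩ := frattini_minOp hS hF P _ (mor_extendFn hφ)
    obtain ⟨φ₀, hφ₀, hφ₀x⟩ := le_iff_mor.1 (minOp_le_clsSys hG) P e he
    refine ⟨β, hβ, φ₀, hφ₀, fun x hx => ?_⟩
    rw [← apl_apply β hx, hφ₀x x, ← hef x x.2, extendFn_coe]
  · have hαF : α ∈ F.autGroup S := autGroup_mono_of_le (fun P => hsub P) hα
    have heq : S ⊔ centralizerIn S S = S := sup_eq_left.2 inf_le_left
    obtain ⟨β, hβ, hβx⟩ : ∃ β ∈ F.autGroup (S ⊔ centralizerIn S S),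
        ∀ x ∈ S, apl β x = apl α x := by
      rw [heq]
      exact ⟨α, hαF, fun _ _ => rfl⟩
    refine ⟨β, hβ, fun x => ?_, fun c hc => ?_⟩
    · rw [← apl_coe β, ← apl_coe α]
      exact hβx x x.2
    · have hcS : (c : Ω) ∈ S := hc.1
      rw [← apl_coe β c, hβx _ hcS]
      refine ⟨S.mul_mem (S.inv_mem hcS) (apl_mem α hcS), ?_⟩
      refine Subgroup.mul_mem _ (Subgroup.inv_mem _ hc.2) (Subgroup.mem_centralizer_iff.2 fun y hy => ?_)
      have hy' := apl_mem α⁻¹ hy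
      have hm := (iso_apl (F := F) le_rfl hαF).1
      have h := Subgroup.mem_centralizer_iff.1 hc.2 _ hy'
      have h1 := congrArg (apl α) h
      rwa [hm.map_mul hy' hcS, hm.map_mul hcS hy', apl_apl_inv α hy] at h1

theorem charSys_proper (hne : K ≠ F.autGroup T) :
    ¬ ∀ P : Subgroup Ω, (clsSys (goodGam_gamRes hS hE hK)).Hom P = F.Hom P := by
  intro hall
  have hT := hE.2.2.2.1
  have hF := hE.2.1
  have := finite_of_le hT.1
  have := finite_of_le (normalizerIn_le S T)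
  have : Finite (MulAut T) := Finite.of_injective _ MulEquiv.toEquiv_injective
  have hTn : F.IsFullyNormalized T := by
    refine ⟨hT.1, fun Q _ => ?_⟩
    have := finite_of_le (normalizerIn_le S T)
    exact Subgroup.card_le_of_le
      (le_inf inf_le_left (inf_le_left.trans (StronglyClosed.le_normalizer hT)))
  obtain ⟨-, U, hU⟩ := fullyAutomized_of_fullyNormalized hS hF hTn
  refine hne (le_antisymm hK.le fun α hα => ?_)
  let A : Subgroup (F.autGroup T) := K.subgroupOf (F.autGroup T)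
  have hA : A.Normal := ⟨fun x hx y => hK.conj y y.2 x hx⟩
  have hUA : (U : Subgroup (F.autGroup T)) ≤ A := fun u hu => by
    obtain ⟨k, hk⟩ := U.2 ⟨u, hu⟩
    refine hK.pow _ u.2 k ?_
    show (u : MulAut T) ^ p ^ k ∈ K
    rw [show (u : MulAut T) ^ p ^ k = 1 from congrArg Subtype.val (congrArg Subtype.val hk)]
    exact K.one_mem
  have hfr := Sylow.normalizer_sup_eq_top (U.subtype hUA)
  rw [Sylow.coe_subtype, Subgroup.subgroupOf_map_subtype, inf_eq_left.2 hUA] at hfr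
  have ham : (⟨α, hα⟩ : F.autGroup T) ∈ (⊤ : Subgroup (F.autGroup T)) := Subgroup.mem_top _
  rw [← hfr, Subgroup.mem_sup_of_normal_right] at ham
  obtain ⟨n, hn, e, he, hne'⟩ := ham
  obtain ⟨g, hg, hgn⟩ := (isReceptive_iff.1 (receptive_of_fullyNormalized hS hF hTn)).2 T _
    (iso_apl (F := F) hT.1 n.2)
  have hle : S ≤ nPhi S T (apl (n : MulAut T)) := fun t ht => by
    obtain ⟨c, hc, hcx⟩ := exists_mem_autInducedBy (P := T) ht (StronglyClosed.le_normalizer hT ht)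
    have hcF : c ∈ F.autGroup T := autInducedBy_le_autGroup hT.1 hc
    have hcU : (⟨c, hcF⟩ : F.autGroup T) ∈ (U : Subgroup (F.autGroup T)) :=
      hU.ge (Subgroup.mem_subgroupOf.2 hc)
    have h1 := (Subgroup.mem_normalizer_iff.1 hn _).1 hcU
    obtain ⟨h, hh, -, hhx⟩ := mem_autInducedBy_iff.1 (Subgroup.mem_subgroupOf.1 (hU.le h1))
    refine mem_nPhi.2 ⟨ht, StronglyClosed.le_normalizer hT ht, h, hh, fun x hx => ?_⟩
    rw [← hhx _ (apl_mem _ hx)]
    show _ = apl ((n : MulAut T) * c * (n : MulAut T)⁻¹) _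
    rw [apl_mul _ _ (apl_mem _ hx), apl_inv_apl _ hx, apl_mul _ _ hx, hcx x hx]
  obtain ⟨S', hS'⟩ := (hg.mono hle).exists_iso
  have hSS : S' = S := eq_of_le_of_card le_rfl hS'.right_le hS'.card_eq.le
  obtain ⟨b, hb, hbg⟩ := (hSS ▸ hS' : Iso F S S g).exists_mem_autGroup
  have hbc : b ∈ (clsSys (goodGam_gamRes hS hE hK)).autGroup S := by
    rw [FusionSystem.autGroup, hall S]
    exact hb
  obtain ⟨-, κ, hκ, hκx⟩ := (mem_autGroup_charSys hS hE hK).1 hbc
  have hnK : (n : MulAut T) ∈ K := by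
    have heq : (n : MulAut T) = κ := apl_ext fun x hx => by
      rw [← hκx x hx, hbg x (hT.1 hx), hgn x hx]
    exact heq ▸ hκ
  have := K.mul_mem hnK (show (e : MulAut T) ∈ K from he)
  rwa [show (n : MulAut T) * e = α from congrArg Subtype.val hne'] at this

end Cfsg.Agent.FusSys
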