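import Cfsg.Agent.FusSys.Criteria
import Cfsg.Prelude.Def_FusionComponents

/-!
Maps modulo a strongly closed subgroup: every map of a saturated system agrees modulo `T` with one
defined on the product with `T`. Consequences for factor systems.
-/

set_option autoImplicit false

namespace Cfsg.Agent.FusSys

open Cfsg Cfsg.FusionSystem

universe u

variable {Ω : Type u} [Group Ω] {S : Subgroup Ω}
variable {F : FusionSystem S} {P Q R T : Subgroup Ω} {f g : Ω → Ω} {p : ℕ}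

/-- `f` agrees modulo `T` with a map defined on `P ⊔ T`. -/
def ModRel (F : FusionSystem S) (T P : Subgroup Ω) (f : Ω → Ω) : Prop :=
  P ≤ S ∧ (∀ x ∈ P, f x ∈ S) ∧ ∃ g, Mor F (P ⊔ T) g ∧ ∀ x ∈ P, (f x)⁻¹ * g x ∈ T

theorem subRel_modRel [Finite S] (hT : F.StronglyClosed T) : SubRel F S (ModRel F T) where
  congr := by
    rintro P f g ⟨h1, h2, k, hk, hkf⟩ he
    exact ⟨h1, fun x hx => he x hx ▸ h2 x hx, k, hk, fun x hx => by rw [he x hx]; exact hkf x hx⟩
  le h := ⟨h.1, h.2.1⟩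
  conj := by
    intro P s hP hs
    exact ⟨mor_conj hP hs, hP, fun x hx => S.mul_mem (S.mul_mem hs (hP hx)) (S.inv_mem hs), _,
      mor_conj (sup_le hP hT.1) hs, fun x _ => by rw [inv_mul_cancel]; exact T.one_mem⟩
  comp := by
    rintro P R f g - ⟨h1, h2, k, hk, hkf⟩ - ⟨-, h2', l, hl, hlg⟩ hfR
    have hT2 : ∀ x ∈ T, k x ∈ T := fun x hx =>
      StronglyClosed.mor_mem hT hk (Subgroup.mem_sup_right hx) hx
    have hm : ∀ x ∈ P ⊔ T, k x ∈ R ⊔ T := fun x hx => hk.mem_of_sup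
      (fun a ha => by
        have := Subgroup.mul_mem (R ⊔ T) (Subgroup.mem_sup_left (hfR a ha))
          (Subgroup.mem_sup_right (hkf a ha))
        rwa [mul_inv_cancel_left] at this)
      (fun a ha => Subgroup.mem_sup_right (hT2 a ha)) hx
    refine ⟨h1, fun x hx => h2' _ (hfR x hx), l ∘ k, hk.comp hl hm, fun x hx => ?_⟩
    have ht := hkf x hx
    have e : k x = f x * ((f x)⁻¹ * k x) := by group
    show (g (f x))⁻¹ * l (k x) ∈ T
    rw [e, hl.map_mul (Subgroup.mem_sup_left (hfR x hx)) (Subgroup.mem_sup_right ht), ← mul_assoc]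
    exact T.mul_mem (hlg _ (hfR x hx))
      (StronglyClosed.mor_mem hT hl (Subgroup.mem_sup_right ht) ht)
  inv := by
    rintro P R f g hf ⟨h1, h2, k, hk, hkf⟩ hg hgf
    obtain ⟨I, hI⟩ := hk.exists_iso
    obtain ⟨k', hk', hk'k, -⟩ := hI.symm
    have hTT : Iso F T T k := StronglyClosed.iso_self hT hk le_sup_right
    have hle : R ⊔ T ≤ I := sup_le
      (fun y hy => by
        obtain ⟨x, hx, rfl⟩ := hf.exists_eq hy
        obtain ⟨w, hw, hwx⟩ := hTT.exists_eq (hkf x hx)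
        have := I.mul_mem (hI.mem (Subgroup.mem_sup_left (T := T) hx))
          (I.inv_mem (hI.mem (Subgroup.mem_sup_right (S := P) hw)))
        rw [hwx] at this
        have e : k x * ((f x)⁻¹ * k x)⁻¹ = f x := by group
        rwa [e] at this)
      fun y hy => by
        obtain ⟨w, hw, rfl⟩ := hTT.exists_eq hy
        exact hI.mem (Subgroup.mem_sup_right hw)
    refine ⟨hf.right_le, fun y hy => hg.right_le.trans le_rfl (hg.mem hy), k', hk'.1.mono hle,
      fun y hy => ?_⟩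
    obtain ⟨x, hx, rfl⟩ := hf.exists_eq hy
    obtain ⟨w, hw, hwx⟩ := hTT.exists_eq (hkf x hx)
    rw [hgf x hx]
    have h3 : f x = k (x * w⁻¹) := by
      rw [hk.map_mul (Subgroup.mem_sup_left hx) (Subgroup.mem_sup_right (T.inv_mem hw)),
        hk.map_inv (Subgroup.mem_sup_right hw), hwx]
      group
    rw [h3, hk'k _ ((P ⊔ T).mul_mem (Subgroup.mem_sup_left hx)
      (Subgroup.mem_sup_right (T.inv_mem hw))), inv_mul_cancel_left]
    exact T.inv_mem hw

theorem exists_extend_mod [Fact p.Prime] [Finite S] (hS : IsPGroup p S) (hF : F.IsSaturated p)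
    (hT : F.StronglyClosed T) (hf : Mor F P f) :
    ∃ g, Mor F (P ⊔ T) g ∧ ∀ x ∈ P, (f x)⁻¹ * g x ∈ T := by
  suffices h : ∀ P f, Mor F P f → ModRel F T P f from (h P f hf).2.2
  have hM := subRel_modRel (F := F) hT
  suffices h : F ≤ subSys hM from fun P f hf => ((mor_subSys hM).1 (le_iff_mor.1 h P f hf)).2
  refine le_of_aut_le' hS hF fun R hR hbig α hα => ?_
  have hRS : R ≤ S := hR.elim (fun e => e.le) fun e => e.1.1
  have hgen : ∀ β : MulAut R, β ∈ F.autGroup R → ModRel F T R (apl β) →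
      β ∈ (subSys hM).autGroup R := fun β hβ h =>
    Subgroup.subset_closure (((mor_subSys hM).2 ⟨(iso_apl hRS hβ).1, h⟩).hom_eq
      fun x => (apl_coe β x).symm)
  by_cases hTR : T ≤ R
  · refine hgen α hα ⟨hRS, fun x hx => hRS (apl_mem α hx), apl α, ?_, fun x _ => by
      rw [inv_mul_cancel]; exact T.one_mem⟩
    rw [sup_eq_left.2 hTR]
    exact (iso_apl hRS hα).1
  have hRn : F.IsFullyNormalized R := by
    rcases hR with rfl | hR
    · exact absurd hT.1 hTR
    · exact hR.2.1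
  haveI := finite_of_le hRS
  -- the kernel on `R` modulo `T`
  let K : Subgroup (MulAut R) :=
    { carrier := {β | ∀ x ∈ R, x⁻¹ * apl β x ∈ T}
      one_mem' := fun x hx => by rw [apl_one hx, inv_mul_cancel]; exact T.one_mem
      mul_mem' := fun {a b} ha hb x hx => by
        have := T.mul_mem (hb x hx) (ha _ (apl_mem b hx))
        rw [apl_mul _ _ hx]
        rwa [mul_assoc, mul_inv_cancel_left] at this
      inv_mem' := fun {a} ha x hx => by
        have h := T.inv_mem (ha _ (apl_mem a⁻¹ hx))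
        rw [apl_apl_inv a hx] at h
        rwa [mul_inv_rev, inv_inv] at h }
  have hKn : ∀ a ∈ F.autGroup R, ∀ b ∈ K, a * b * a⁻¹ ∈ K := by
    intro a ha b hb x hx
    have hy : apl a⁻¹ x ∈ R := apl_mem _ hx
    have hm := (iso_apl hRS ha).1
    have h1 := StronglyClosed.mor_mem hT hm (R.mul_mem (R.inv_mem hy) (apl_mem b hy)) (hb _ hy)
    rw [hm.inv_apply hy (apl_mem b hy), apl_apl_inv a hx] at h1
    rwa [apl_mul _ _ hx, apl_mul _ _ hy]
  haveI hKN : (K.subgroupOf (F.autGroup R)).Normal := ⟨fun b hb a => hKn a a.2 b hb⟩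
  haveI : Finite (MulAut R) := Finite.of_injective _ MulEquiv.toEquiv_injective
  -- Frattini argument
  obtain ⟨-, T0, hT0⟩ := fullyAutomized_of_fullyNormalized hS hF hRn
  obtain ⟨U, hU⟩ : ∃ U : Sylow p ↥(K.subgroupOf (F.autGroup R)),
      (U : Subgroup ↥(K.subgroupOf (F.autGroup R))) =
        ((autInducedBy S R).subgroupOf (F.autGroup R)).subgroupOf (K.subgroupOf (F.autGroup R)) := by
    refine ⟨IsPGroup.toSylow (P := ((autInducedBy S R).subgroupOf (F.autGroup R)).subgroupOf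
      (K.subgroupOf (F.autGroup R)))
      ((isPGroup_autInducedBy hS).comap_subtype.comap_subtype) (fun hd => ?_), rfl⟩
    refine T0.not_dvd_index (hd.trans ?_)
    rw [hT0]
    show ((autInducedBy S R).subgroupOf (F.autGroup R)).relIndex (K.subgroupOf (F.autGroup R)) ∣ _
    have h1 := Subgroup.relIndex_mul_relIndex (⊥ : Subgroup (F.autGroup R))
      ((autInducedBy S R).subgroupOf (F.autGroup R))
      ((autInducedBy S R).subgroupOf (F.autGroup R) ⊔ K.subgroupOf (F.autGroup R)) bot_le le_sup_left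
    have h2 : ((autInducedBy S R).subgroupOf (F.autGroup R)).relIndex (K.subgroupOf (F.autGroup R)) =
        ((autInducedBy S R).subgroupOf (F.autGroup R)).relIndex
          ((autInducedBy S R).subgroupOf (F.autGroup R) ⊔ K.subgroupOf (F.autGroup R)) :=
      relIndex_sup_eq _ _
    rw [h2]
    exact Subgroup.relIndex_dvd_index_of_le le_sup_left
  have hfr := Sylow.normalizer_sup_eq_top U
  have hαtop : (⟨α, hα⟩ : F.autGroup R) ∈ (⊤ : Subgroup (F.autGroup R)) := Subgroup.mem_top _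
  rw [← hfr, Subgroup.mem_sup_of_normal_right] at hαtop
  obtain ⟨b, hb, k, hk, hbk⟩ := hαtop
  have hbE : (b : MulAut R) ∈ (subSys hM).autGroup R := by
    obtain ⟨c, ⟨hcT, hcn⟩, hcR⟩ : ∃ c ∈ T ⊓ Subgroup.normalizer (R : Set Ω), c ∉ R := by
      by_contra hne
      simp only [not_exists, not_and, not_not] at hne
      exact hTR (le_of_normalizer_le hS hF hT hRS fun a ha han => hne a ⟨ha, han⟩)
    obtain ⟨γ, hγ, hγx⟩ := exists_mem_autInducedBy (P := R) (hT.1 hcT) hcn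
    have hγA : γ ∈ F.autGroup R := autInducedBy_le_autGroup hRS hγ
    have hγK : γ ∈ K := fun x hx => by
      rw [hγx x hx]
      have h1 := (Subgroup.mem_normalizer_iff''.1
        (StronglyClosed.le_normalizer hT (hRS hx)) c).1 hcT
      have e : x⁻¹ * (c * x * c⁻¹) = x⁻¹ * c * x * c⁻¹ := by group
      rw [e]
      exact T.mul_mem h1 (T.inv_mem hcT)
    have hmem : (⟨γ, hγA⟩ : F.autGroup R) ∈
        (U : Subgroup ↥(K.subgroupOf (F.autGroup R))).map (K.subgroupOf (F.autGroup R)).subtype := by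
      rw [hU]
      exact Subgroup.mem_map.2 ⟨⟨⟨γ, hγA⟩, hγK⟩, hγ, rfl⟩
    have h2 := (Subgroup.mem_normalizer_iff.1 hb _).1 hmem
    rw [hU] at h2
    obtain ⟨⟨d, hd⟩, hd1, hd2⟩ := Subgroup.mem_map.1 h2
    obtain ⟨e, he, -, hex⟩ := mem_autInducedBy_iff.1 (Subgroup.mem_subgroupOf.1 hd1)
    have hd3 : (d : MulAut R) = (b : MulAut R) * γ * (b : MulAut R)⁻¹ := congrArg Subtype.val hd2
    have hcN : c ∈ nPhi S R (apl (b : MulAut R)) := by
      refine ⟨hT.1 hcT, hcn, e, he, fun x hx => ?_⟩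
      rw [← hγx x hx, ← hex _ (apl_mem _ hx)]
      show apl (b : MulAut R) (apl γ x) = apl (d : MulAut R) (apl (b : MulAut R) x)
      rw [hd3, apl_mul _ _ (apl_mem _ hx), apl_inv_apl _ hx, apl_mul _ _ hx]
    have hi := iso_apl hRS b.2
    obtain ⟨g, hg, hgb⟩ := (isReceptive_iff.1 (receptive_of_fullyNormalized hS hF hRn)).2 R _ hi
    have hlt : R < nPhi S R (apl (b : MulAut R)) :=
      lt_of_le_of_ne hi.1.le_nPhi fun h => hcR (h.ge hcN)
    have hgE := (hbig _ g (card_lt_of_lt' hg.le hlt) hg).mono hlt.le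
    exact Subgroup.subset_closure ((hgE.congr fun x hx => (hgb x hx).symm).hom_eq
      fun x => (apl_coe _ x).symm)
  have hkE : (k : MulAut R) ∈ (subSys hM).autGroup R := by
    refine hgen _ k.2 ⟨hRS, fun x hx => hRS (apl_mem _ hx), id, mor_id (sup_le hRS hT.1),
      fun x hx => ?_⟩
    have h1 : x⁻¹ * apl (k : MulAut R) x ∈ T := hk x hx
    have := T.inv_mem h1
    rwa [mul_inv_rev, inv_inv] at this
  have : α = (b : MulAut R) * (k : MulAut R) := (congrArg Subtype.val hbk).symm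
  rw [this]
  exact Subgroup.mul_mem _ hbE hkE
where
  /-- `[K : R ⊓ K] = [R K : R]` for `K` normal. -/
  relIndex_sup_eq {H : Type u} [Group H] [Finite H] (A C : Subgroup H) [C.Normal] :
      A.relIndex C = A.relIndex (A ⊔ C) := by
    have h1 := Subgroup.relIndex_mul_relIndex (⊥ : Subgroup H) A (A ⊔ C) bot_le le_sup_left
    have h2 := Subgroup.relIndex_mul_relIndex (⊥ : Subgroup H) C (A ⊔ C) bot_le le_sup_right
    have h3 := Subgroup.relIndex_mul_relIndex (⊥ : Subgroup H) (A ⊓ C) A bot_le inf_le_left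
    have h4 := Subgroup.relIndex_mul_relIndex (⊥ : Subgroup H) (A ⊓ C) C bot_le inf_le_right
    rw [Subgroup.inf_relIndex_left] at h3
    rw [Subgroup.inf_relIndex_right] at h4
    rw [Subgroup.relIndex_sup_right] at h2
    simp only [Subgroup.relIndex_bot_left] at h1 h2 h3 h4
    have hC : 0 < C.relIndex A := Nat.pos_of_ne_zero fun h => by
      rw [h, mul_zero] at h3
      exact absurd h3.symm Nat.card_pos.ne'
    have hI : 0 < Nat.card ↥(A ⊓ C) := Nat.card_pos
    refine Nat.eq_of_mul_eq_mul_left (Nat.mul_pos hI hC) ?_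
    calc Nat.card ↥(A ⊓ C) * C.relIndex A * A.relIndex C
        = (Nat.card ↥(A ⊓ C) * A.relIndex C) * C.relIndex A := by ring
      _ = Nat.card ↥(A ⊔ C) := by rw [h4, h2]
      _ = Nat.card ↥(A ⊓ C) * C.relIndex A * A.relIndex (A ⊔ C) := by rw [h3, h1]

section Saturated

variable [Fact p.Prime] [Finite S] (hS : IsPGroup p S) (hF : F.IsSaturated p)
include hS hF

theorem stronglyClosed_sup {T₁ T₂ : Subgroup Ω} (h₁ : F.StronglyClosed T₁)
    (h₂ : F.StronglyClosed T₂) : F.StronglyClosed (T₁ ⊔ T₂) := by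
  refine stronglyClosed_iff.2 ⟨sup_le h₁.1 h₂.1, fun R f hR hf x hx => ?_⟩
  obtain ⟨g, hg, hgf⟩ := exists_extend_mod hS hF h₁ hf
  have hx' : x ∈ ((T₁ ⊔ T₂ : Subgroup Ω) : Set Ω) := hR hx
  rw [Subgroup.coe_mul_of_right_le_normalizer_left _ _
    (h₂.1.trans (StronglyClosed.le_normalizer h₁))] at hx'
  obtain ⟨a, ha, b, hb, rfl⟩ := hx'
  have hbR : b ∈ R ⊔ T₁ := by
    have := Subgroup.mul_mem (R ⊔ T₁) (Subgroup.mem_sup_right (T₁.inv_mem ha))
      (Subgroup.mem_sup_left hx)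
    rwa [inv_mul_cancel_left] at this
  have h3 : g (a * b) ∈ T₁ ⊔ T₂ := by
    rw [hg.map_mul (Subgroup.mem_sup_right ha) hbR]
    exact Subgroup.mul_mem_sup (StronglyClosed.mor_mem h₁ hg (Subgroup.mem_sup_right ha) ha)
      (StronglyClosed.mor_mem h₂ hg hbR hb)
  have h4 := Subgroup.mul_mem (T₁ ⊔ T₂) h3
    ((T₁ ⊔ T₂).inv_mem (Subgroup.mem_sup_left (hgf _ hx)))
  show f (a * b) ∈ T₁ ⊔ T₂
  have e : g (a * b) * ((f (a * b))⁻¹ * g (a * b))⁻¹ = f (a * b) := by group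
  rwa [e] at h4

theorem stronglyClosed_sup_centralizer (hT : F.StronglyClosed T) :
    F.StronglyClosed (T ⊔ centralizerIn S T) := by
  refine stronglyClosed_iff.2 ⟨sup_le hT.1 (centralizerIn_le S T), fun R f hR hf x hx => ?_⟩
  obtain ⟨g, hg, hgf⟩ := exists_extend_mod hS hF hT hf
  have hx' : x ∈ ((T ⊔ centralizerIn S T : Subgroup Ω) : Set Ω) := hR hx
  rw [Subgroup.coe_mul_of_right_le_normalizer_left _ _
    ((centralizerIn_le S T).trans (StronglyClosed.le_normalizer hT))] at hx'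
  obtain ⟨a, ha, b, hb, rfl⟩ := hx'
  have hbR : b ∈ R ⊔ T := by
    have := Subgroup.mul_mem (R ⊔ T) (Subgroup.mem_sup_right (T.inv_mem ha))
      (Subgroup.mem_sup_left hx)
    rwa [inv_mul_cancel_left] at this
  have hTT : Iso F T T g := StronglyClosed.iso_self hT hg le_sup_right
  have h3 : g (a * b) ∈ T ⊔ centralizerIn S T := by
    rw [hg.map_mul (Subgroup.mem_sup_right ha) hbR]
    exact Subgroup.mul_mem_sup (hTT.mem ha) (hg.mem_centralizerIn le_sup_right hTT hbR hb.2)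
  have h4 := Subgroup.mul_mem (T ⊔ centralizerIn S T) h3
    ((T ⊔ centralizerIn S T).inv_mem (Subgroup.mem_sup_left (hgf _ hx)))
  show f (a * b) ∈ T ⊔ centralizerIn S T
  have e : g (a * b) * ((f (a * b))⁻¹ * g (a * b))⁻¹ = f (a * b) := by group
  rwa [e] at h4

end Saturated

/-! ### Factor systems -/

section Factor

variable {Ω' : Type*} [Group Ω'] {T : Subgroup Ω}

theorem mem_preimageAlong {θ : S →* Ω'} {P' : Subgroup Ω'} {x : Ω} :
    x ∈ preimageAlong θ P' ↔ ∃ h : x ∈ S, θ ⟨x, h⟩ ∈ P' := by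
  simp [preimageAlong, Subgroup.mem_map, Subgroup.mem_comap]

theorem le_preimageAlong {θ : S →* Ω'} (hker : ∀ s : S, θ s = 1 ↔ (s : Ω) ∈ T) (hT : T ≤ S)
    (P' : Subgroup Ω') : T ≤ preimageAlong θ P' := fun x hx =>
  mem_preimageAlong.2 ⟨hT hx, by rw [(hker ⟨x, hT hx⟩).2 hx]; exact P'.one_mem⟩

theorem theta_eq_of {θ : S →* Ω'} (hker : ∀ s : S, θ s = 1 ↔ (s : Ω) ∈ T) {a b : S}
    (h : (a : Ω)⁻¹ * b ∈ T) : θ a = θ b := by
  have := (hker (a⁻¹ * b)).2 h
  rw [map_mul, map_inv, inv_mul_eq_one] at this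
  exact this

theorem mem_of_theta_eq {θ : S →* Ω'} (hker : ∀ s : S, θ s = 1 ↔ (s : Ω) ∈ T) {a b : S}
    (h : θ a = θ b) : (a : Ω)⁻¹ * b ∈ T := by
  refine (hker (a⁻¹ * b)).1 ?_
  rw [map_mul, map_inv, inv_mul_eq_one]
  exact h

/-- A map of the system defined on the preimage induces a homomorphism on the image. -/
theorem exists_induced {θ : S →* Ω'} (hker : ∀ s : S, θ s = 1 ↔ (s : Ω) ∈ T)
    (hT : F.StronglyClosed T) {P' : Subgroup Ω'} (hP' : P' ≤ θ.range)
    {φ : preimageAlong θ P' →* Ω} (hφ : φ ∈ F.Hom (preimageAlong θ P')) :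
    ∃ φ' : P' →* Ω', InducedAlong θ φ φ' := by
  classical
  have hle : preimageAlong θ P' ≤ S := fun x hx => (mem_preimageAlong.1 hx).1
  have hval : ∀ x : preimageAlong θ P', φ x ∈ S := (F.le_of_mem hφ).2
  have hsec : ∀ y : P', ∃ x : preimageAlong θ P', θ ⟨x, hle x.2⟩ = y := fun y => by
    obtain ⟨s, hs⟩ := hP' y.2
    exact ⟨⟨s, mem_preimageAlong.2 ⟨s.2, hs ▸ y.2⟩⟩, hs⟩
  choose sec hsec using hsec
  have hwd : ∀ a b : preimageAlong θ P', θ ⟨a, hle a.2⟩ = θ ⟨b, hle b.2⟩ →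
      θ ⟨φ a, hval a⟩ = θ ⟨φ b, hval b⟩ := fun a b hab => theta_eq_of hker (by
    show (φ a)⁻¹ * φ b ∈ T
    rw [← map_inv, ← map_mul, ← extendFn_coe φ (a⁻¹ * b)]
    exact StronglyClosed.mor_mem hT (mor_extendFn hφ) (a⁻¹ * b).2 (mem_of_theta_eq hker hab))
  refine ⟨MonoidHom.mk' (fun y => θ ⟨φ (sec y), hval _⟩) fun y z => ?_, hle, hval,
    fun x => (mem_preimageAlong.1 x.2).2, fun x => hwd _ _ (hsec _)⟩
  rw [← map_mul θ]
  have h1 : θ ⟨sec (y * z), hle (sec (y * z)).2⟩ =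
      θ ⟨(sec y * sec z : preimageAlong θ P'), hle (sec y * sec z).2⟩ := by
    rw [hsec]
    show (y : Ω') * z = θ (⟨sec y, hle (sec y).2⟩ * ⟨sec z, hle (sec z).2⟩)
    rw [map_mul, hsec, hsec]
  refine (hwd _ _ h1).trans (congrArg θ (Subtype.ext ?_))
  show φ (sec y * sec z) = φ (sec y) * φ (sec z)
  exact map_mul φ _ _

theorem preimage_image [Finite S] {θ : S →* Ω'} (hker : ∀ s : S, θ s = 1 ↔ (s : Ω) ∈ T)
    (hT : F.StronglyClosed T) {P : Subgroup Ω} (hP : P ≤ S) :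
    preimageAlong θ (imageAlong θ P) = P ⊔ T := by
  refine le_antisymm (fun x hx => ?_) (sup_le (fun x hx => ?_) (le_preimageAlong hker hT.1 _))
  · obtain ⟨hxS, h⟩ := mem_preimageAlong.1 hx
    obtain ⟨a, ha, hax⟩ := Subgroup.mem_map.1 h
    have h1 := mem_of_theta_eq hker hax
    have h2 := Subgroup.mul_mem (P ⊔ T) (Subgroup.mem_sup_left (T := T) (show (a : Ω) ∈ P from ha))
      (Subgroup.mem_sup_right h1)
    have e : (a : Ω) * ((a : Ω)⁻¹ * x) = x := by group
    rwa [e] at h2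
  · exact mem_preimageAlong.2 ⟨hP hx, Subgroup.mem_map.2 ⟨⟨x, hP hx⟩, hx, rfl⟩⟩

theorem isSurjectiveMorphism_of_factor [Fact p.Prime] [Finite S] (hS : IsPGroup p S)
    (hF : F.IsSaturated p) (hT : F.StronglyClosed T) {S' : Subgroup Ω'} {θ : S →* Ω'}
    {E : FusionSystem S'} (hE : F.IsFactorSystem T θ E) : F.IsSurjectiveMorphism E θ := by
  obtain ⟨-, hker, hrange, hmaps⟩ := hE
  refine ⟨⟨fun s => hrange ▸ ⟨s, rfl⟩, fun P φ hφ => ?_⟩, hrange,
    fun P' _ φ' hφ' => ((hmaps P' φ').1 hφ').2⟩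
  have hP := (F.le_of_mem hφ).1
  obtain ⟨g, hg, hgφ⟩ := exists_extend_mod hS hF hT (mor_extendFn hφ)
  have e := preimage_image hker hT hP
  rw [← e] at hg
  obtain ⟨ψ, hψ, hψg⟩ := hg
  have hle : imageAlong θ P ≤ θ.range := by
    rintro _ ⟨x, -, rfl⟩
    exact ⟨x, rfl⟩
  obtain ⟨φ', hφ'⟩ := exists_induced hker hT hle hψ
  refine ⟨φ', (hmaps _ φ').2 ⟨fun y hy => hrange ▸ hle hy, ψ, hψ, hφ'⟩, hP, (F.le_of_mem hφ).2,
    fun x => Subgroup.mem_map.2 ⟨⟨x, hP x.2⟩, x.2, rfl⟩, fun x => ?_⟩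
  obtain ⟨hle', hval, hmem, heq⟩ := hφ'
  have hx : (x : Ω) ∈ preimageAlong θ (imageAlong θ P) :=
    e.ge (Subgroup.mem_sup_left x.2)
  refine (heq ⟨x, hx⟩).trans (theta_eq_of hker ?_)
  show (ψ ⟨x, hx⟩)⁻¹ * φ x ∈ T
  rw [hψg ⟨x, hx⟩]
  show (g x)⁻¹ * φ x ∈ T
  have := T.inv_mem (hgφ x x.2)
  rwa [extendFn_coe, mul_inv_rev, inv_inv] at this

end Factor

end Cfsg.Agent.FusSys
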