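import Cfsg.Agent.FusSys.PrimeLimit
import Cfsg.Agent.FusSys.NormalChar
import Cfsg.Agent.FusSys.DeltaFix
import Cfsg.Agent.FusSys.TransportNormal
import Cfsg.Agent.S5198
import Cfsg.Agent.S5199

/-!
Subsystems cut out by a normal subgroup of `Aut_F(T)` above the automorphisms of a normal subsystem
over `T`, with quotient a `p`-group or a `p'`-group.
-/

set_option autoImplicit false
set_option linter.unusedSectionVars false

namespace Cfsg.Agent.FusSys.AutT

open Cfsg Cfsg.FusionSystem Cfsg.Agent.FusSys Cfsg.Agent.FusSys.CentE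

universe u

variable {Ω : Type u} [Group Ω] {S T W : Subgroup Ω} {F : FusionSystem S} {E : FusionSystem T} {p : ℕ}

theorem strongInv_of_invariant (hE : E.IsInvariantIn F) : StrongInv E F := by
  intro P Q f g hPQ hQT hf hfQ hg P' hP'
  obtain ⟨β, hβ, e, he, hge⟩ := exists_frattini hE hQT hg
  obtain ⟨M, hM⟩ := (he.mono hPQ).exists_iso
  obtain ⟨k, hk, hke, -⟩ := hM.symm
  have hconj : Mor E M (e ∘ f ∘ k) :=
    (hk.1.comp hf fun y hy => hk.mem hy).comp he fun y hy => hfQ _ (hk.mem hy)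
  obtain ⟨h, hh, hhx⟩ := exists_transport hE hconj hβ
  refine ⟨h, hh.mono fun y hy => ?_, fun x hx => ?_⟩
  · obtain ⟨x, hx, rfl⟩ := (hP' y).1 hy
    exact (map_apl_eq hM.right_le).2 ⟨e x, hM.mem hx, (hge x (hPQ hx)).symm⟩
  · rw [hge x (hPQ hx), hhx _ (hM.mem hx), hge _ (hfQ x hx)]
    show apl β (e (f (k (e x)))) = _
    rw [hke x hx]

/-- An invariant subsystem is invariant in every saturated subsystem containing it. -/
theorem invariant_of_le [Fact p.Prime] [Finite S] (hS : IsPGroup p S) {D : FusionSystem W}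
    (hE : E.IsInvariantIn F) (hD : D.IsSaturated p) (hDF : D.IsSubsystemOf F)
    (hED : E.IsSubsystemOf D) : E.IsInvariantIn D := by
  have sub : ∀ {X : Subgroup Ω} {f : Ω → Ω}, Mor D X f → Mor F X f :=
    fun {X f} h => isSubsystemOf_iff_mor.1 hDF X f h
  have hWS : W ≤ S := (sub (mor_id (le_refl W))).le
  have hTW : T ≤ W := (isSubsystemOf_iff_mor.1 hED T id (mor_id le_rfl)).le
  haveI := finite_of_le hWS
  have hT : D.StronglyClosed T := stronglyClosed_iff.2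
    ⟨hTW, fun R f hR hf x hx => StronglyClosed.mor_mem hE.2.1 (sub hf) hx (hR hx)⟩
  have haut : D.autGroup T ≤ F.autGroup T := autGroup_le_of_sub hDF
  refine invariant_of_mor hED hT (fun P f hf β hβ => exists_transport hE hf (haut hβ))
    fun P f hP hf => frattini_of_strongInv hT
      (fun P Q f g h1 h2 h3 h4 h5 => strongInv_of_invariant hE P Q f g h1 h2 h3 h4 (sub h5))
      (hS.to_le hWS) hD P hP f hf

theorem inn_le_autE (E : FusionSystem T) : Inn T ≤ E.autGroup T := inn_le_autGroup le_rfl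

theorem centralizer_eq (hWS : W ≤ S) (hW : centralizerIn S T ≤ W) :
    centralizerIn W T = centralizerIn S T :=
  le_antisymm (inf_le_inf_right _ hWS) fun _ h => ⟨hW h, h.2⟩

/-- Being a map of two systems, as a generating relation. -/
theorem subRel_inter {W₀ : Subgroup Ω} {D : FusionSystem W₀} {X : FusionSystem W} (h : W₀ ≤ W) :
    SubRel D W₀ (fun P f => Mor D P f ∧ Mor X P f) := by
  refine ⟨fun h he => ⟨h.1.congr he, h.2.congr he⟩, fun h => ⟨h.1.le, fun _ hx => h.1.mem_S hx⟩,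
    fun hP hs => ⟨mor_conj hP hs, mor_conj hP hs, mor_conj (hP.trans h) (h hs)⟩,
    fun _ h _ h' hfR => ⟨h.1.comp h'.1 hfR, h.2.comp h'.2 hfR⟩, fun hf h hg hgf => ⟨hg.1, ?_⟩⟩
  obtain ⟨k, hk, hkl, -⟩ := (show Iso X _ _ _ from ⟨h.2, hf.2⟩).symm
  refine hk.1.congr fun y hy => ?_
  obtain ⟨x, hx, rfl⟩ := hf.exists_eq hy
  rw [hgf x hx, hkl x hx]

theorem exists_aut_cast {A B : Subgroup Ω} {X : FusionSystem W} (h : A = B) {b : MulAut A}
    (hb : b ∈ X.autGroup A) : ∃ b' ∈ X.autGroup B, ∀ x, apl b' x = apl b x := by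
  subst h
  exact ⟨b, hb, fun _ => rfl⟩

/-- The extension condition in a subsystem whose subgroup contains the centralizer of `T`. -/
theorem ext_cast {X : FusionSystem W} (hC : centralizerIn W T = centralizerIn S T) {α : MulAut T}
    {β : MulAut ↥(T ⊔ centralizerIn S T)} (hβ : β ∈ X.autGroup (T ⊔ centralizerIn S T))
    (hβT : ∀ x : T, ((β (Subgroup.inclusion le_sup_left x) : ↥(T ⊔ centralizerIn S T)) : Ω) =
      ((α x : T) : Ω))
    (hβC : ∀ c : ↥(T ⊔ centralizerIn S T), (c : Ω) ∈ centralizerIn S T →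
      (c : Ω)⁻¹ * ((β c : ↥(T ⊔ centralizerIn S T)) : Ω) ∈ T ⊓ Subgroup.centralizer (T : Set Ω)) :
    ∃ β ∈ X.autGroup (T ⊔ centralizerIn W T),
      (∀ x : T, ((β (Subgroup.inclusion le_sup_left x) : ↥(T ⊔ centralizerIn W T)) : Ω) =
        ((α x : T) : Ω)) ∧
      ∀ c : ↥(T ⊔ centralizerIn W T), (c : Ω) ∈ centralizerIn W T →
        (c : Ω)⁻¹ * ((β c : ↥(T ⊔ centralizerIn W T)) : Ω) ∈ T ⊓ Subgroup.centralizer (T : Set Ω) := by
  obtain ⟨β', hβ', he⟩ := exists_aut_cast (congrArg (T ⊔ ·) hC.symm) hβ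
  refine ⟨β', hβ', fun x => ?_, fun c hc => ?_⟩
  · rw [← apl_coe β', he]
    exact (apl_coe β (Subgroup.inclusion le_sup_left x)).trans (hβT x)
  · have hc' := (le_of_eq hC) hc
    rw [← apl_coe β' c, he, apl_apply β (Subgroup.mem_sup_right hc')]
    exact hβC ⟨c, Subgroup.mem_sup_right hc'⟩ hc'

/-- `F'` is the part of `F` with automorphisms of `T` in `Δ`. -/
structure Step (p : ℕ) (E : FusionSystem T) (F : FusionSystem S) {W : Subgroup Ω}
    (F' : FusionSystem W) (Δ : Subgroup (MulAut T)) : Prop where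
  sat : F'.IsSaturated p
  sub : F'.IsSubsystemOf F
  normal : E.IsNormalIn F' p
  autT : F'.autGroup T = Δ
  base : W ≤ S
  top : T ⊔ centralizerIn S T ≤ W
  frattini : ∀ P f, P ≤ T ⊔ centralizerIn S T → Mor F P f →
    ∃ b ∈ F.autGroup (T ⊔ centralizerIn S T), ∃ e, Mor F' P e ∧ ∀ x ∈ P, f x = apl b (e x)
  max : ∀ {W₀ : Subgroup Ω} (D : FusionSystem W₀), D.IsSaturated p → D.IsSubsystemOf F →
    E.IsSubsystemOf D → D.autGroup T ≤ Δ → D.IsSubsystemOf F'
  limit : ∀ {U V : Subgroup Ω} {L : FusionSystem U}, L.IsResidualLimitOf F p →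
    ∀ {L' : FusionSystem V}, L'.IsResidualLimitOf F' p → SameHom L L'

variable [Fact p.Prime] [Finite S] (hS : IsPGroup p S) (hE : E.IsNormalIn F p)
include hS hE

theorem step_refl : Step p E F F (F.autGroup T) := by
  have hF := hE.1.2.1
  have hN := stronglyClosed_sup_centralizer hS hF hE.1.2.2.2.1
  refine ⟨hF, fun _ _ h => h, hE, rfl, le_rfl, hN.1, fun P f hP hf => ⟨1, one_mem _, f, hf,
    fun x hx => (apl_one (StronglyClosed.mor_mem hN hf hx (hP hx))).symm⟩,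
    fun D _ h _ _ => h, fun hL _ hL' => limit_unique hL hS hF hL'⟩

theorem step_trans {F₁ : FusionSystem W} {Δ₁ Δ₂ : Subgroup (MulAut T)} {W₂ : Subgroup Ω}
    {F₂ : FusionSystem W₂} (h₁ : Step p E F F₁ Δ₁) (h₂ : Step p E F₁ F₂ Δ₂) (hle : Δ₂ ≤ Δ₁) :
    Step p E F F₂ Δ₂ := by
  have hWS := h₁.base
  haveI := finite_of_le hWS
  have hC := centralizer_eq (T := T) hWS (le_sup_right.trans h₁.top)
  have hN := stronglyClosed_sup_centralizer hS hE.1.2.1 hE.1.2.2.2.1
  refine ⟨h₂.sat, fun P φ h => h₁.sub P (h₂.sub P h), h₂.normal, h₂.autT, h₂.base.trans hWS,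
    hC ▸ h₂.top, fun P f hP hf => ?_, fun D hD h hED haut => h₂.max D hD
      (h₁.max D hD h hED (haut.trans hle)) hED haut, fun hL _ hL' => ?_⟩
  · obtain ⟨b, hb, e, he, hfe⟩ := h₁.frattini P f hP hf
    obtain ⟨b', hb', e', he', hee'⟩ := h₂.frattini P e (hC.symm ▸ hP) he
    obtain ⟨b'', hb'', hbb⟩ := exists_aut_cast (congrArg (T ⊔ ·) hC) hb'
    refine ⟨b * b'', mul_mem hb (autGroup_le_of_sub h₁.sub hb''), e', he', fun x hx => ?_⟩
    have hm : e' x ∈ T ⊔ centralizerIn S T := StronglyClosed.mor_mem hN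
      (isSubsystemOf_iff_mor.1 h₁.sub _ _ (isSubsystemOf_iff_mor.1 h₂.sub _ _ he')) hx (hP hx)
    rw [hfe x hx, hee' x hx, apl_mul _ _ hm, hbb]
  · obtain ⟨V, L₁, hL₁⟩ := PrimeLimit.exists_limit (hS.to_le hWS) h₁.sat
    exact fun P => (h₁.limit hL hL₁ P).trans (h₂.limit hL₁ hL' P)

section Prime

variable {K : Subgroup (MulAut T)} (hK : CharKer E F p K)
include hK

/-- The restriction to `T` of a map of the least subsystem lies in `K`. -/
theorem minOp_T_mem {P : Subgroup Ω} {e : Ω → Ω} (he : Mor (minOp F p) P e) (hTP : T ≤ P) :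
    ∃ ε ∈ K, ∀ x ∈ T, e x = apl ε x := by
  have heF : Mor F P e := le_iff_mor.1 minOp_le P e he
  haveI := finite_of_le hE.1.2.2.2.1.1
  obtain ⟨ε, hε, hεx⟩ := (StronglyClosed.iso_self hE.1.2.2.2.1 heF hTP).exists_mem_autGroup
  refine ⟨ε, (charOne_of_minOp hS hE.1 hK he).2 T hTP (centric_top E) ε ?_, fun x hx => (hεx x hx).symm⟩
  exact (dec_apl le_rfl hε).congr fun x hx => (hεx x hx).symm

/-- A map defined on `T` whose restriction there lies in `K` is a map of the subsystem of `K`. -/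
theorem mor_charSys_of_top {P : Subgroup Ω} {f : Ω → Ω} (hf : Mor F P f) (hTP : T ≤ P)
    {κ : MulAut T} (hκ : κ ∈ K) (hfκ : ∀ x ∈ T, f x = apl κ x) :
    Mor (clsSys (goodGam_gamRes hS hE.1 hK)) P f := by
  have hTS := hE.1.2.2.2.1.1
  obtain ⟨b, hb, e, he, hfe⟩ := frattini_minOp hS hE.1.2.1 P f hf
  obtain ⟨ε, hε, hεx⟩ := minOp_T_mem hS hE hK he hTP
  obtain ⟨σ, hσ, hσx⟩ := restrict_T hS hE.1 hK hb
  have hσK : σ = κ * ε⁻¹ := apl_ext fun x hx => by
    have hy := apl_mem ε⁻¹ hx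
    have h1 := hfe _ (hTP hy)
    rw [hεx _ hy, apl_apl_inv ε hx, hfκ _ hy] at h1
    rw [apl_mul _ _ hx, h1, hσx x hx]
  have hbG : b ∈ gamRes F K hTS :=
    ⟨hb, σ, hσK ▸ K.mul_mem hκ (K.inv_mem hε), fun x hx => (hσx x hx).symm⟩
  exact ((le_iff_mor.1 (minOp_le_clsSys _) P e he).comp
    (iso_apl le_rfl (mem_autGroup_clsSys (goodGam_gamRes hS hE.1 hK) hbG)).1
    fun x hx => he.mem_S hx).congr hfe

/-- The step for a quotient of order prime to `p`. -/
theorem step_prime : Step p E F (clsSys (goodGam_gamRes hS hE.1 hK)) K := by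
  have hF := hE.1.2.1
  have hT := hE.1.2.2.2.1
  have hTS := hT.1
  haveI := finite_of_le hTS
  set hG := goodGam_gamRes hS hE.1 hK with hGdef
  have hsat := clsSys_saturated hG hS hF
  have hsub : (clsSys hG).IsSubsystemOf F := fun P => clsSys_le hG P
  have hEsub := le_charSys hS hE.1 hK
  have hNS : T ⊔ centralizerIn S T ≤ S := sup_le hTS (centralizerIn_le S T)
  refine ⟨hsat, hsub, ⟨⟨hE.1.1, hsat, invariant_of_le hS hE.1.2.2 hsat hsub hEsub⟩, fun α hα => ?_⟩,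
    le_antisymm (fun α hα => ?_) fun α hα => ?_, le_rfl, hNS, fun P f hP hf => ?_,
    fun {W₀} D hD hDF hED haut => ?_,
    fun hL _ hL' => PrimeLimit.limit_eq_of_primeIndex hS hF hsat (clsSys_hasPrimeIndex hG hS hF) hL hL'⟩
  · obtain ⟨β, hβ, hβT, hβC⟩ := hE.2 α hα
    have hm := mor_charSys_of_top hS hE hK (iso_apl hNS hβ).1 le_sup_left (hK.autE hα) fun x hx => by
      rw [apl_apply _ (Subgroup.mem_sup_left hx), apl_apply _ hx]
      exact hβT ⟨x, hx⟩
    exact ⟨β, (mem_autGroup_iff hNS).2 ⟨hm, (iso_apl hNS hβ).2⟩, hβT, hβC⟩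
  · obtain ⟨-, γ, ⟨hγS, κ, hκ, hγκ⟩, e, he, hef⟩ := (mor_clsSys hG).1 (iso_apl hTS hα).1
    obtain ⟨ε, hε, hεx⟩ := minOp_T_mem hS hE hK he le_rfl
    refine (apl_ext fun x hx => ?_ : α = κ * ε) ▸ K.mul_mem hκ hε
    rw [hef x hx, one_mul, hεx x hx, hγκ _ (apl_mem ε hx), apl_mul _ _ hx]
  · have hi := iso_apl (F := F) hTS (hK.le hα)
    exact (mem_autGroup_iff hTS).2
      ⟨mor_charSys_of_top hS hE hK hi.1 le_rfl hα fun _ _ => rfl, hi.2⟩
  · obtain ⟨b, hb, e, he, hfe⟩ := frattini_minOp hS hF P f hf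
    have hN := stronglyClosed_sup_centralizer hS hF hT
    obtain ⟨b', hb', hbx⟩ :=
      (StronglyClosed.iso_self hN (iso_apl le_rfl hb).1 hN.1).exists_mem_autGroup
    refine ⟨b', hb', e, le_iff_mor.1 (minOp_le_clsSys hG) P e he, fun x hx => ?_⟩
    rw [hbx _ (StronglyClosed.mor_mem hN (le_iff_mor.1 minOp_le P e he) hx (hP hx)), hfe x hx]
  · -- the largest one
    have sub : ∀ {X : Subgroup Ω} {f : Ω → Ω}, Mor D X f → Mor F X f :=
      fun {X f} h => isSubsystemOf_iff_mor.1 hDF X f h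
    have hW₀S : W₀ ≤ S := (sub (mor_id (le_refl W₀))).le
    haveI := finite_of_le hW₀S
    have hWp := hS.to_le hW₀S
    have hinv := invariant_of_le hS hE.1.2.2 hD hDF hED
    refine isSubsystemOf_iff_mor.2 fun P f hf => ?_
    refine (alperin_induction hWp hD (subRel_inter (X := clsSys hG) hW₀S) (fun R hR α hα => ?_) P f hf).2
    have hRc : D.IsCentric R := hR.elim (fun e => e.symm ▸ centric_top D) fun e => e.1
    have hUc : E.IsCentric (R ⊓ T) := by
      rcases hR with rfl | hR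
      · rw [inf_eq_right.2 hinv.2.1.1]
        exact centric_top E
      · by_contra h
        exact not_radical_of_not_centric_in hWp hD hED hinv.2.1 hRc h (essential_radical hWp hD hR)
    refine ⟨(iso_apl hRc.1 hα).1, ?_⟩
    have hαF := sub (iso_apl hRc.1 hα).1
    obtain ⟨δ, hδ⟩ := exists_dec hinv inf_le_right ((iso_apl hRc.1 hα).1.mono inf_le_left)
    have hδK : δ ∈ K := haut hδ.1
    have hδF : Dec E F (R ⊓ T) (apl α) δ := ⟨hK.le hδK, hδ.2⟩
    obtain ⟨b, hb, e, he, hfe⟩ := frattini_minOp hS hF R _ hαF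
    have heF : Mor F R e := le_iff_mor.1 minOp_le R e he
    obtain ⟨a, ha⟩ := exists_dec hE.1.2.2 inf_le_right (heF.mono (inf_le_left : R ⊓ T ≤ R))
    have haK : a ∈ K := (charOne_of_minOp hS hE.1 hK he).2 _ inf_le_left hUc a ha
    obtain ⟨σ, hσ, hσx⟩ := restrict_T hS hE.1 hK hb
    have hd : Dec E F (R ⊓ T) (apl α) (σ * a) :=
      (ha.comp hE.1.2.2 (dec_apl le_rfl hσ) fun x hx => ha.mem_T hx).congr fun x hx => by
        show apl α x = apl σ (e x)
        rw [hσx _ (ha.mem_T hx), hfe x hx.1]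
    have h1 : σ * a ∈ K := by
      simpa using K.mul_mem hδK (dec_unique hS hE.1 hK hUc hδF hd)
    have hbG : b ∈ gamRes F K hTS :=
      ⟨hb, σ, by simpa using K.mul_mem h1 (K.inv_mem haK), fun x hx => (hσx x hx).symm⟩
    exact ((le_iff_mor.1 (minOp_le_clsSys hG) R e he).comp
      (iso_apl le_rfl (mem_autGroup_clsSys hG hbG)).1 fun x hx => he.mem_S hx).congr hfe

end Prime

omit hS hE

/-- The elements of `S` acting on `T` as elements of `Δ`. -/
def inducedIn (S T : Subgroup Ω) (Δ : Subgroup (MulAut T)) : Subgroup Ω :=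
  (Δ.comap T.normalizerMonoidHom).map (Subgroup.normalizer (T : Set Ω)).subtype ⊓ S

theorem mem_inducedIn {Δ : Subgroup (MulAut T)} {s : Ω} :
    s ∈ inducedIn S T Δ ↔ s ∈ S ∧ s ∈ Subgroup.normalizer (T : Set Ω) ∧
      ∃ δ ∈ Δ, ∀ x ∈ T, apl δ x = s * x * s⁻¹ := by
  constructor
  · rintro ⟨⟨y, hy, rfl⟩, hs⟩
    exact ⟨hs, y.2, _, hy, fun x hx => apl_normalizerMonoidHom y hx⟩
  · rintro ⟨hs, hn, δ, hδ, hδx⟩
    have e : T.normalizerMonoidHom ⟨s, hn⟩ = δ := apl_ext fun x hx =>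
      (apl_normalizerMonoidHom ⟨s, hn⟩ hx).trans (hδx x hx).symm
    exact ⟨⟨⟨s, hn⟩, show _ ∈ Δ from e ▸ hδ, rfl⟩, hs⟩

theorem autInducedBy_inducedIn {Δ : Subgroup (MulAut T)} :
    autInducedBy (inducedIn S T Δ) T = autInducedBy S T ⊓ Δ := by
  ext α
  rw [Subgroup.mem_inf, mem_autInducedBy_iff, mem_autInducedBy_iff]
  constructor
  · rintro ⟨g, hg, hn, hgx⟩
    obtain ⟨hgS, -, δ, hδ, hδx⟩ := mem_inducedIn.1 hg
    refine ⟨⟨g, hgS, hn, hgx⟩, ?_⟩
    rwa [show α = δ from apl_ext fun x hx => (hgx x hx).trans (hδx x hx).symm]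
  · rintro ⟨⟨g, hg, hn, hgx⟩, hα⟩
    exact ⟨g, mem_inducedIn.2 ⟨hg, hn, α, hα, hgx⟩, hn, hgx⟩

include hS hE

/-- The step for a quotient which is a `p`-group. -/
theorem exists_step_power {Δ : Subgroup (MulAut T)} (hBΔ : E.autGroup T ≤ Δ)
    (hΔ : Δ ≤ F.autGroup T) (hconj : ∀ a ∈ F.autGroup T, ∀ δ ∈ Δ, a * δ * a⁻¹ ∈ Δ)
    (hres : (pResidual p (F.autGroup T)).map (F.autGroup T).subtype ≤ Δ) :
    ∃ (W : Subgroup Ω) (F' : FusionSystem W), Step p E F F' Δ := by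
  have hF := hE.1.2.1
  have hT := hE.1.2.2.2.1
  have hTS := hT.1
  haveI := finite_of_le hTS
  haveI : Finite (MulAut T) := Finite.of_injective _ MulEquiv.toEquiv_injective
  have hnT : S ≤ Subgroup.normalizer (T : Set Ω) := StronglyClosed.le_normalizer hT
  set W := inducedIn S T Δ with hW
  have hWS : W ≤ S := inf_le_right
  haveI := finite_of_le hWS
  have hWp := hS.to_le hWS
  have hTW : T ≤ W := fun t ht => mem_inducedIn.2 ⟨hTS ht, hnT (hTS ht), MulAut.conj ⟨t, ht⟩,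
    hBΔ (inn_le_autE E ⟨_, rfl⟩), fun x hx => apl_conj ⟨t, ht⟩ hx⟩
  have hCW : centralizerIn S T ≤ W := fun c hc => mem_inducedIn.2 ⟨hc.1, hnT hc.1, 1, one_mem _,
    fun x hx => by rw [apl_one hx, ← Subgroup.mem_centralizer_iff.1 hc.2 x hx]; group⟩
  have hyp : F.hyperfocalSubgroup p ≤ W := fun x hx => by
    obtain ⟨α, hα, hαx⟩ := Cfsg.Agent.S5198.result p hS F hF T hT x hx
    exact mem_inducedIn.2 ⟨hyperfocal_le F p hx, hnT (hyperfocal_le F p hx), α,
      sup_le hres ((inn_le_autE E).trans hBΔ) hα, fun t ht => by rw [apl_apply α ht]; exact hαx ⟨t, ht⟩⟩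
  have hWn : ∀ s ∈ S, ∀ x ∈ W, s * x * s⁻¹ ∈ W := by
    intro s hs x hx
    obtain ⟨hxS, hxn, δ, hδ, hδx⟩ := mem_inducedIn.1 hx
    obtain ⟨σ, hσ, hσx⟩ := exists_mem_autInducedBy (K := S) (P := T) hs (hnT hs)
    refine mem_inducedIn.2 ⟨S.mul_mem (S.mul_mem hs hxS) (S.inv_mem hs),
      hnT (S.mul_mem (S.mul_mem hs hxS) (S.inv_mem hs)), σ * δ * σ⁻¹,
      hconj σ (autInducedBy_le_autGroup hTS hσ) δ hδ, fun t ht => ?_⟩
    have hy := apl_mem σ⁻¹ ht
    have h1 := hσx _ hy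
    rw [apl_apl_inv σ ht] at h1
    rw [apl_mul _ _ ht, apl_mul _ _ hy, hσx _ (apl_mem δ hy), hδx _ hy]
    conv_rhs => rw [h1]
    group
  obtain ⟨F', ⟨hsat, hidx⟩, -⟩ := PPI.exists_unique_pPower hS hF hWS hyp
  have hnorm := PPI.normal_of_pPowerIndex hS hF hWS hWn hsat hidx
  have hEsub : E.IsSubsystemOf F' :=
    Cfsg.Agent.S5199.result p hS F hF E hE F' hnorm (sup_le hTW hyp) hidx
  have hinv := invariant_of_le hS hE.1.2.2 hsat hidx.1 hEsub
  have hTn : F'.IsFullyNormalized T := ⟨hTW, fun Q _ => by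
    haveI := finite_of_le (normalizerIn_le W T)
    exact Subgroup.card_le_of_le
      (le_inf (normalizerIn_le W Q) ((normalizerIn_le W Q).trans (hWS.trans hnT)))⟩
  have haut : F'.autGroup T = Δ := by
    refine le_antisymm ?_ ?_
    · rw [autGroup_eq_residual_sup hWp hsat hTn]
      exact sup_le ((pResidual_le_of_sub hidx.1).trans hres) (autInducedBy_inducedIn.le.trans inf_le_right)
    · set A := F.autGroup T with hA
      obtain ⟨-, U, hU⟩ := fullyAutomized_of_fullyNormalized hS hF (P := T) ⟨hTS, fun Q _ => by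
        haveI := finite_of_le (normalizerIn_le S T)
        exact Subgroup.card_le_of_le
          (le_inf (normalizerIn_le S Q) ((normalizerIn_le S Q).trans hnT))⟩
      haveI hΔn : (Δ.subgroupOf A).Normal := ⟨fun x hx y => hconj y y.2 x hx⟩
      have hsyl := (sylow_inter_normal U (Δ.subgroupOf A)).2
      rw [show (U : Subgroup A) ⊓ Δ.subgroupOf A = (autInducedBy W T).subgroupOf A from by
        rw [autInducedBy_inducedIn, hU]; rfl, Subgroup.relIndex_subgroupOf hΔ] at hsyl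
      rw [← Subgroup.subgroupOf_eq_top]
      refine eq_top_of_coprime (p := p) (P := (autInducedBy W T).subgroupOf Δ)
        (fun x hx => autInducedBy_le_autGroup (F := F') hTW hx) hsyl fun d hd => ?_
      refine hidx.2.2 T hTW (Subgroup.mem_map.2 ⟨⟨d, hΔ d.2⟩, Cfsg.Agent.Fusion.mem_pResidual_of_coprime ?_, rfl⟩)
      rwa [Subgroup.orderOf_mk, Subgroup.orderOf_coe]
  have hNW : T ⊔ centralizerIn S T ≤ W := sup_le hTW hCW
  have hC := centralizer_eq (T := T) hWS hCW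
  have hN := stronglyClosed_sup_centralizer hS hF hT
  refine ⟨W, F', hsat, hidx.1, ⟨⟨hE.1.1, hsat, hinv⟩, fun α hα => ?_⟩, haut, hWS, hNW,
    fun P f hP hf => ?_, fun {W₀} D hD hDF hED hDΔ => ?_,
    fun hL _ hL' => limit_eq_of_pPower hS hF hWS hsat hidx hL hL'⟩
  · obtain ⟨β, hβ, hβT, hβC⟩ := hE.2 α hα
    refine ext_cast hC ((mem_autGroup_iff hNW).2 ⟨?_, (iso_apl hN.1 hβ).2⟩) hβT hβC
    obtain ⟨s, hs, e, he, hβe⟩ := PPI.frattini_dec hS hF hWS hWn hsat hidx hNW (iso_apl hN.1 hβ).1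
    obtain ⟨ε, hε, hεx⟩ :=
      (StronglyClosed.iso_self hinv.2.1 he le_sup_left).exists_mem_autGroup
    have hεΔ : ε ∈ Δ := haut ▸ hε
    obtain ⟨σ, hσ, hσx⟩ := exists_mem_autInducedBy (K := S) (P := T) hs (hnT hs)
    have hσΔ : σ = α * ε⁻¹ := apl_ext fun x hx => by
      have hy := apl_mem ε⁻¹ hx
      have h1 := hβe _ (Subgroup.mem_sup_left hy)
      rw [← hεx _ hy, apl_apl_inv ε hx, apl_apply β (Subgroup.mem_sup_left hy)] at h1
      rw [hσx x hx, apl_mul _ _ hx, ← h1, apl_apply α hy]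
      exact hβT ⟨_, hy⟩
    have hsW : s ∈ W :=
      mem_inducedIn.2 ⟨hs, hnT hs, σ, hσΔ ▸ Δ.mul_mem (hBΔ hα) (Δ.inv_mem hεΔ), hσx⟩
    exact (he.comp (mor_conj le_rfl hsW) fun x hx => he.mem_S hx).congr hβe
  · obtain ⟨s, hs, e, he, hfe⟩ := PPI.frattini_dec hS hF hWS hWn hsat hidx (hP.trans hNW) hf
    obtain ⟨b, hb, hbx⟩ := exists_mem_autInducedBy (K := S) (P := T ⊔ centralizerIn S T) hs
      (StronglyClosed.le_normalizer hN hs)
    refine ⟨b, autInducedBy_le_autGroup hN.1 hb, e, he, fun x hx => ?_⟩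
    rw [hbx _ (StronglyClosed.mor_mem hN (isSubsystemOf_iff_mor.1 hidx.1 P e he) hx (hP hx)), hfe x hx]
  · -- the largest one
    have hW₀S : W₀ ≤ S := (isSubsystemOf_iff_mor.1 hDF W₀ id (mor_id le_rfl)).le
    haveI := finite_of_le hW₀S
    have hW₀p := hS.to_le hW₀S
    have hTW₀ : T ≤ W₀ := (isSubsystemOf_iff_mor.1 hED T id (mor_id le_rfl)).le
    have hle : W₀ ≤ W := fun s hs => by
      obtain ⟨σ, hσ, hσx⟩ := exists_mem_autInducedBy (K := W₀) (P := T) hs (hnT (hW₀S hs))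
      exact mem_inducedIn.2 ⟨hW₀S hs, hnT (hW₀S hs), σ,
        hDΔ (autInducedBy_le_autGroup hTW₀ hσ), hσx⟩
    have hres' : ∀ R ≤ W₀, (pResidual p (D.autGroup R)).map (D.autGroup R).subtype ≤ F'.autGroup R :=
      fun R hR => (pResidual_le_of_sub hDF).trans (hidx.2.2 R (hR.trans hle))
    refine isSubsystemOf_iff_mor.2 fun P f hf => ?_
    refine (residual_induction hW₀p hD (subRel_inter (X := F') hle) (fun α hα => ⟨(iso_apl le_rfl hα).1, ?_⟩)
      (fun R hR α hα => ⟨(iso_apl hR (residual_mem_autGroup hα)).1,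
        (iso_apl (hR.trans hle) (hres' R hR hα)).1⟩) P f hf).2
    rw [autGroup_eq_residual_sup hW₀p hD ⟨le_rfl, fun Q _ => by
      haveI := finite_of_le (normalizerIn_le W₀ W₀)
      exact Subgroup.card_le_of_le (le_inf (normalizerIn_le W₀ Q)
        ((normalizerIn_le W₀ Q).trans Subgroup.le_normalizer))⟩] at hα
    exact (iso_apl hle (sup_le (hres' W₀ le_rfl)
      ((autInducedBy_mono hle).trans (autInducedBy_le_autGroup hle)) hα)).1

end Cfsg.Agent.FusSys.AutT
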