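import Cfsg.Agent.FusSys.NormalChar

/-!
Weakly normal subsystems: their automorphism groups are invariant under all maps of the system, the
least subsystem containing the centric `O^{p'}` is invariant, and the splitting of the restriction of
an automorphism of `T` at a centric subgroup.
-/

set_option autoImplicit false
set_option linter.unusedSectionVars false

namespace Cfsg.Agent.FusSys

open Cfsg Cfsg.FusionSystem

universe u

variable {Ω : Type u} [Group Ω] {S T P Q R : Subgroup Ω} {F : FusionSystem S} {E D : FusionSystem T}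
variable {f g : Ω → Ω} {p : ℕ}

theorem fs_ext {A B : FusionSystem S} (h : ∀ X, A.Hom X = B.Hom X) : A = B := by
  cases A
  cases B
  obtain rfl := funext h
  rfl

theorem Dec.of_le {α : MulAut T} (h : Dec D F P f α) (hDE : D ≤ E) : Dec E F P f α := by
  obtain ⟨hα, e, he, hef⟩ := h
  exact ⟨hα, e, le_iff_mor.1 hDE P e he, hef⟩

theorem sub_of_invariant (hE : E.IsInvariantIn F) (h : Mor E P f) : Mor F P f :=
  isSubsystemOf_iff_mor.1 hE.1 P f h

theorem autGroup_le_of_invariant (hE : E.IsInvariantIn F) :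
    E.autGroup P ≤ F.autGroup P := Subgroup.closure_mono fun _ h => hE.1 P h

/-- The automorphism groups in an invariant subsystem are carried around by the maps of the system. -/
theorem conjAut_mem_of_isInvariant (hE : E.IsInvariantIn F) (hPT : P ≤ T) (hg : Iso F P Q g)
    {α : MulAut P} (hα : α ∈ E.autGroup P) : hg.conjAut α ∈ E.autGroup Q := by
  have hQT : Q ≤ T := fun y hy => by
    obtain ⟨x, hx, rfl⟩ := hg.exists_eq hy
    exact StronglyClosed.mor_mem hE.2.1 hg.1 hx (hPT hx)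
  obtain ⟨b, hb, e, he, hge⟩ := exists_frattini hE hPT hg.1
  obtain ⟨M, hM⟩ := he.exists_iso
  obtain ⟨e', he', he'e, -⟩ := hM.symm
  have hα' := iso_apl hPT hα
  have hk : Mor E M (e ∘ apl α ∘ e') :=
    (he'.1.comp hα'.1 fun y hy => he'.mem hy).comp he fun y hy => apl_mem α (he'.mem hy)
  obtain ⟨h, hh, hhx⟩ := exists_transport hE hk hb
  have hQM : Q ≤ (M.subgroupOf T).map (T.subtype.comp b.toMonoidHom) := fun y hy => by
    obtain ⟨x, hx, rfl⟩ := hg.exists_eq hy
    exact (map_apl_eq hM.right_le).2 ⟨e x, hM.mem hx, (hge x hx).symm⟩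
  have hval : ∀ y ∈ Q, apl (hg.conjAut α) y = h y := fun y hy => by
    obtain ⟨x, hx, rfl⟩ := hg.exists_eq hy
    rw [hg.conjAut_apl α hx, hge x hx, hhx _ (hM.mem hx), hge _ (apl_mem α hx)]
    show _ = apl b (e (apl α (e' (e x))))
    rw [he'e x hx]
  exact (mem_autGroup_iff hQT).2 ⟨(hh.mono hQM).congr hval, (iso_apl hg.right_le
    (hg.conjAut_mem (autGroup_le_of_invariant hE hα))).2⟩

/-- Centric subgroups of invariant subsystems over the same subgroup agree. -/
theorem centric_transfer (hE : E.IsInvariantIn F) (hD : D.IsInvariantIn F) (h : D.IsCentric R) :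
    E.IsCentric R := by
  refine ⟨h.1, fun W hW => ?_⟩
  obtain ⟨w, hw⟩ := isConj_iff.1 hW
  obtain ⟨a, ha⟩ := exists_dec hD h.1 (sub_of_invariant hE hw.1)
  exact centric_self (ha.centric_image hD h hw.2)

theorem centric_of_mor (hE : E.IsInvariantIn F) (hR : E.IsCentric R) (hg : Iso F R Q g) :
    E.IsCentric Q := by
  obtain ⟨a, ha⟩ := exists_dec hE hR.1 hg.1
  exact ha.centric_image hE hR hg.2

section Finite

variable [Finite S] [Fact p.Prime] (hS : IsPGroup p S) (hF : F.IsSaturated p)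
include hS hF

/-- Fully normalized subgroups of the system are fully normalized in a subsystem over `T`. -/
theorem fullyNormalized_in_sub (hE : E.IsInvariantIn F) (hQT : Q ≤ T) (hQn : F.IsFullyNormalized Q) :
    E.IsFullyNormalized Q := by
  refine ⟨hQT, fun W hW => ?_⟩
  have hTS := hE.2.1.1
  obtain ⟨w, hw⟩ := isConj_iff.1 hW
  have hWF : F.IsConj W Q := isConj_symm (show Iso F Q W w from ⟨sub_of_invariant hE hw.1, hw.2⟩).isConj
  obtain ⟨g, hg, -, hgN⟩ := exists_mor_to_fullyNormalized hS hF hQn hWF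
  have hle : normalizerIn T W ≤ normalizerIn S W := inf_le_inf_right _ hTS
  refine (hg.mono hle).card_image_le (inf_le_left.trans hTS) fun x hx => ?_
  exact ⟨StronglyClosed.mor_mem hE.2.1 hg (hle hx) hx.1, (hgN x (hle hx)).2⟩

/-- A `p`-element of `Aut_E(Q)`, `Q` fully normalized, is conjugation by an element of `T` after
an automorphism in `E`. -/
theorem exists_conj_pElement (hE : E.IsWeaklyNormalIn F p) (hQT : Q ≤ T)
    (hQn : F.IsFullyNormalized Q) {α : MulAut Q} (hα : α ∈ E.autGroup Q) {k : ℕ}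
    (hk : α ^ p ^ k = 1) :
    ∃ b ∈ E.autGroup Q, ∃ t ∈ normalizerIn T Q, ∀ x ∈ Q, apl (b * α * b⁻¹) x = t * x * t⁻¹ := by
  have hTS := hE.2.2.2.1.1
  have := finite_of_le hTS
  have := finite_of_le hQn.1
  have : Finite (MulAut Q) := Finite.of_injective _ MulEquiv.toEquiv_injective
  obtain ⟨-, U, hU⟩ := fullyAutomized_of_fullyNormalized (hS.to_le hTS) hE.1
    (fullyNormalized_in_sub hS hF hE.2.2 hQT hQn)
  obtain ⟨d, hd⟩ := exists_conj_mem_sylow (isPGroup_zpowers_of_pow_eq_one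
    (x := (⟨α, hα⟩ : E.autGroup Q)) (e := k) (Subtype.ext hk)) U
  obtain ⟨t, ht, htn, htx⟩ := mem_autInducedBy_iff.1
    (Subgroup.mem_subgroupOf.1 (hU.le (hd _ (Subgroup.mem_zpowers _))))
  exact ⟨d, d.2, t, ⟨ht, htn⟩, htx⟩

end Finite

/-- The least subsystem of an invariant subsystem is invariant. -/
theorem transInv_minOp' [Finite S] (hE : E.IsInvariantIn F) : TransInv (minOp E p) F := by
  intro P f hf β hβ
  have hTS := hE.2.1.1
  have := finite_of_le hTS
  let N : Subgroup Ω → (Ω → Ω) → Prop := fun P f => P ≤ T ∧ (∀ x ∈ P, f x ∈ T) ∧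
    ∀ β ∈ F.autGroup T, ∃ h, Mor (minOp E p) ((P.subgroupOf T).map (T.subtype.comp β.toMonoidHom)) h ∧
      ∀ x ∈ P, h (apl β x) = apl β (f x)
  have hN : SubRel E T N := by
    refine ⟨fun {P f g} ⟨h1, h2, h3⟩ he => ⟨h1, fun x hx => he x hx ▸ h2 x hx, fun β hβ => ?_⟩,
      fun h => ⟨h.1, h.2.1⟩, fun {P s} hP hs => ⟨mor_conj hP hs, hP,
        fun x hx => T.mul_mem (T.mul_mem hs (hP hx)) (T.inv_mem hs), fun β hβ => ?_⟩, ?_, ?_⟩
    · obtain ⟨h, hh, hx⟩ := h3 β hβ
      exact ⟨h, hh, fun x hxP => by rw [he x hxP]; exact hx x hxP⟩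
    · have hm := (iso_apl (F := F) hTS hβ).1
      refine ⟨_, mor_conj ?_ (apl_mem β hs), fun x hx => (hm.map_conj hs (hP hx)).symm⟩
      rintro _ ⟨x, -, rfl⟩
      exact (β x).2
    · rintro P R f g - ⟨h1, h2, h3⟩ hg ⟨h1', h2', h3'⟩ hfR
      refine ⟨h1, fun x hx => h2' _ (hfR x hx), fun β hβ => ?_⟩
      obtain ⟨a, ha, hax⟩ := h3 β hβ
      obtain ⟨b, hb, hbx⟩ := h3' β hβ
      refine ⟨b ∘ a, ha.comp hb fun y hy => ?_, fun x hx => ?_⟩
      · obtain ⟨x, hx, rfl⟩ := (map_apl_eq h1).1 hy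
        rw [hax x hx]
        exact (map_apl_eq h1').2 ⟨_, hfR x hx, rfl⟩
      · show b (a (apl β x)) = _
        rw [hax x hx, hbx _ (hfR x hx)]
        rfl
    · rintro P R f g hf ⟨h1, h2, h3⟩ hg hgf
      refine ⟨hg.left_le, fun y hy => hg.right_le (hg.mem hy), fun β hβ => ?_⟩
      obtain ⟨a, ha, hax⟩ := h3 β hβ
      obtain ⟨M, hM⟩ := ha.exists_iso
      obtain ⟨a', ha', hal, -⟩ := hM.symm
      refine ⟨a', ha'.1.mono ?_, fun y hy => ?_⟩
      · intro z hz
        obtain ⟨y, hy, rfl⟩ := (map_apl_eq hg.left_le).1 hz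
        obtain ⟨x, hx, rfl⟩ := hf.exists_eq hy
        rw [← hax x hx]
        exact hM.mem ((map_apl_eq h1).2 ⟨x, hx, rfl⟩)
      · obtain ⟨x, hx, rfl⟩ := hf.exists_eq hy
        rw [← hax x hx, hal _ ((map_apl_eq h1).2 ⟨x, hx, rfl⟩), hgf x hx]
  have hD : ContainsCentricOp (subSys hN) E p := by
    intro R hR
    rw [opPrime, MonoidHom.map_closure, Subgroup.closure_le]
    rintro _ ⟨⟨α, hα⟩, ⟨k, hk⟩, rfl⟩
    rw [Subgroup.orderOf_mk] at hk
    refine Subgroup.subset_closure (((mor_subSys hN).2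
      ⟨(iso_apl hR.1 hα).1, hR.1, fun x hx => hR.1 (apl_mem α hx),
        fun b hb => ?_⟩).hom_eq fun x => (apl_coe α x).symm)
    have hi : Iso F R ((R.subgroupOf T).map (T.subtype.comp b.toMonoidHom)) (apl b) :=
      ⟨(iso_apl hTS hb).1.mono hR.1, fun y => map_apl_eq hR.1⟩
    refine ⟨_, mor_minOp_of_mem (centric_of_mor hE hR hi) (mem_opPrime
      (conjAut_mem_of_isInvariant hE hR.1 hi hα) (k := k) ?_), fun x hx => hi.conjAut_apl α hx⟩
    rw [← hk]
    exact orderOf_injective hi.conjAut.toMonoidHom hi.conjAut.injective α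
  exact (((mor_subSys hN).1 (le_iff_mor.1 (minOp_le_of hD) P f hf)).2).2.2 β hβ

/-- The least subsystem of a weakly normal subsystem is invariant. -/
theorem minOp_isInvariantIn [Finite S] [Fact p.Prime] (hS : IsPGroup p S)
    (hE : E.IsWeaklyNormalIn F p) : (minOp E p).IsInvariantIn F := by
  have hI := hE.2.2
  have hTS := hI.2.1.1
  have := finite_of_le hTS
  have hsub : (minOp E p).IsSubsystemOf F := fun X φ hφ => hI.1 X (minOp_le (F := E) (p := p) X hφ)
  refine ⟨hsub, hI.2.1, fun P hP φ hφ b hb => ?_, fun P hP φ hφ => ?_⟩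
  · obtain ⟨h, ⟨χ, hχ, hχh⟩, hhx⟩ := transInv_minOp' hI (mor_extendFn hφ) hb
    refine ⟨χ, hχ, fun x hφx hαx => ?_⟩
    rw [hχh]
    show h ((b ⟨x, hP x.2⟩ : T) : Ω) = _
    rw [← apl_apply b (hP x.2), hhx x x.2, extendFn_coe, apl_apply b hφx]
  · obtain ⟨a, ha, e, he, hfe⟩ := exists_frattini hI hP (mor_extendFn hφ)
    obtain ⟨a', ha', m, ⟨χ, hχ, hχm⟩, hem⟩ :=
      frattini_minOp (hS.to_le hTS) hE.1 P e he
    refine ⟨a * a', Subgroup.mul_mem _ ha (autGroup_le_of_invariant hI ha'), χ, hχ, fun x hx => ?_⟩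
    rw [← apl_apply _ hx, hχm x, apl_mul _ _ (hχm x ▸ hx), ← hem x x.2, ← hfe x x.2, extendFn_coe]

/-- An automorphism of a `p`-group fixing pointwise a normal subgroup which contains all its
displacements has `p`-power order on it. -/
theorem pow_fix [Fact p.Prime] (hR : IsPGroup p R) [Finite R] {N : Subgroup Ω}
    {d : Ω → Ω} (hd : Mor F N d) (hRN : R ≤ N) (hfix : ∀ x ∈ R, d x = x)
    (hdiff : ∀ y ∈ N, y⁻¹ * d y ∈ R) :
    ∃ n : ℕ, ∀ y ∈ N, d^[p ^ n] y = y := by
  obtain ⟨n, hn⟩ := IsPGroup.iff_card.1 hR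
  refine ⟨n, fun y hy => ?_⟩
  have hiter : ∀ k : ℕ, d^[k] y = y * (y⁻¹ * d y) ^ k := by
    intro k
    induction k with
    | zero => rw [Function.iterate_zero_apply, pow_zero, mul_one]
    | succ k ih =>
      have hdm : (y⁻¹ * d y) ^ k ∈ R := R.pow_mem (hdiff y hy) k
      rw [Function.iterate_succ_apply', ih, hd.map_mul hy (hRN hdm), hfix _ hdm, pow_succ',
        ← mul_assoc, ← mul_assoc, mul_inv_cancel, one_mul]
  have h1 : (⟨_, hdiff y hy⟩ : R) ^ p ^ n = 1 := by rw [← hn]; exact pow_card_eq_one'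
  rw [hiter, show (y⁻¹ * d y) ^ p ^ n = 1 from congrArg Subtype.val h1, mul_one]

/-- At a centric subgroup of an invariant subsystem the displacements of a map fixing it lie in it. -/
theorem diff_mem_of_fix (hR : E.IsCentric R) {d : Ω → Ω} {N : Subgroup Ω} (hd : Mor F N d)
    (hNT : N ≤ normalizerIn T R) (hRN : R ≤ N) (hdT : ∀ y ∈ N, d y ∈ T) (hfix : ∀ x ∈ R, d x = x)
    {y : Ω} (hy : y ∈ N) : y⁻¹ * d y ∈ R := by
  refine centric_self hR ⟨T.mul_mem (T.inv_mem (hNT hy).1) (hdT y hy),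
    Subgroup.mem_centralizer_iff.2 fun x hx => ?_⟩
  have hyx := (Subgroup.mem_normalizer_iff.1 (hNT hy).2 x).1 hx
  have h1 := hd.map_conj hy (hRN hx)
  rw [hfix _ hyx, hfix x hx] at h1
  calc x * (y⁻¹ * d y) = y⁻¹ * (y * x * y⁻¹) * d y := by group
    _ = y⁻¹ * (d y * x * (d y)⁻¹) * d y := by rw [h1]
    _ = y⁻¹ * d y * x := by group

theorem autGroup_iterate {δ : MulAut P} {d : Ω → Ω} (hδ : ∀ x ∈ P, apl δ x = d x) (k : ℕ) :
    ∀ x ∈ P, apl (δ ^ k) x = d^[k] x := by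
  induction k with
  | zero => intro x hx; rw [pow_zero, apl_one hx, Function.iterate_zero_apply]
  | succ k ih =>
    intro x hx
    rw [pow_succ', apl_mul _ _ hx, hδ _ (apl_mem _ hx), ih x hx, Function.iterate_succ_apply']

/-- An element which has a `p`-power in a subgroup and a power of order prime to `p` in it, lies in it. -/
theorem mem_of_coprime_pows {G : Type*} [Group G] [Fact p.Prime] {L : Subgroup G} {x : G} {m k : ℕ}
    (hm : ¬ p ∣ m) (h1 : x ^ p ^ k ∈ L) (h2 : x ^ m ∈ L) : x ∈ L := by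
  have hc : Nat.gcd (p ^ k) m = 1 :=
    Nat.Coprime.pow_left k ((Nat.Prime.coprime_iff_not_dvd Fact.out).2 hm)
  have hb := Nat.gcd_eq_gcd_ab (p ^ k) m
  rw [hc] at hb
  have he : x = (x ^ p ^ k) ^ Nat.gcdA (p ^ k) m * (x ^ m) ^ Nat.gcdB (p ^ k) m := by
    conv_lhs => rw [← zpow_one x]
    rw [← zpow_natCast x (p ^ k), ← zpow_natCast x m, ← zpow_mul, ← zpow_mul, ← zpow_add]
    exact congrArg (x ^ ·) (by exact_mod_cast hb)
  rw [he]
  exact L.mul_mem (L.zpow_mem h1 _) (L.zpow_mem h2 _)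

/-- `Inn(T)` has index prime to `p` in the automorphism group of `T` in a saturated system. -/
theorem not_dvd_inn_relIndex [Fact p.Prime] [Finite T] (hT : IsPGroup p T) (hE : E.IsSaturated p) :
    ¬ p ∣ (Inn T).relIndex (E.autGroup T) := by
  have h := (fullyAutomized_iff (F := E) hT le_rfl).1 ((saturated_iff_top_receptive hT).1 hE).1
  rwa [← inn_eq_autInducedBy] at h

theorem exists_pow_mem_inn [Fact p.Prime] [Finite T] (hT : IsPGroup p T) (hE : E.IsSaturated p)
    {α : MulAut T} (hα : α ∈ E.autGroup T) : ∃ m, ¬ p ∣ m ∧ α ^ m ∈ Inn T := by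
  have hn : ((Inn T).subgroupOf (E.autGroup T)).Normal := innIn_normal E T
  exact ⟨_, not_dvd_inn_relIndex hT hE,
    (((Inn T).subgroupOf (E.autGroup T)).pow_index_mem (⟨α, hα⟩ : E.autGroup T) :)⟩

/-- Near a centric subgroup, the restriction of an automorphism of `T` which is in `E` there splits
as a map of `E` after an automorphism of `p`-power order. -/
theorem exists_split [Finite S] [Fact p.Prime] (hS : IsPGroup p S) (hE : E.IsWeaklyNormalIn F p)
    (hR : E.IsCentric R) (hRN : R < normalizerIn T R) {γ : MulAut T} (hγ : γ ∈ F.autGroup T)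
    (hm : Mor E R (apl γ)) :
    ∃ (ε : Ω → Ω) (δ : MulAut ↥(normalizerIn T R)) (n : ℕ),
      Mor E (normalizerIn T R) ε ∧ δ ∈ F.autGroup (normalizerIn T R) ∧ δ ^ p ^ n = 1 ∧
      ∀ x ∈ normalizerIn T R, apl γ x = ε (apl δ x) := by
  have hTS := hE.2.2.2.1.1
  have := finite_of_le hTS
  have hTp : IsPGroup p T := hS.to_le hTS
  set N := normalizerIn T R with hNdef
  have hNT : N ≤ T := inf_le_left
  have hγF : Mor F T (apl γ) := (iso_apl hTS hγ).1
  obtain ⟨R', hR'⟩ := hm.exists_iso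
  obtain ⟨ε, hε, hεf⟩ :=
    (isReceptive_iff.1 (centric_receptive hTp hE.1 (centric_of_isConj hR hR'.isConj))).2 R _ hR'
  have hNn : N ≤ nPhi T R (apl γ) := fun t ht => mem_nPhi.2 ⟨ht.1, ht.2, apl γ t, apl_mem γ ht.1,
    fun x hx => hγF.map_conj ht.1 (hR.1 hx)⟩
  have hεN : Mor E N ε := hε.mono hNn
  have hεF : Mor F N ε := sub_of_invariant hE.2.2 hεN
  obtain ⟨N', hN'⟩ := hεF.exists_iso
  obtain ⟨ε', hε', hε'ε, hεε'⟩ := hN'.symm
  have hN'T : N' = normalizerIn T R' := by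
    refine eq_of_le_of_card ((inf_le_left : normalizerIn T R' ≤ T).trans hTS) (fun y hy => ?_) ?_
    · obtain ⟨x, hx, rfl⟩ := hN'.exists_eq hy
      exact hεN.mem_normalizerIn_image (hR'.congr hεf) hRN.le hx hx.2
    · rw [← hN'.card_eq]
      have hb : ∀ y ∈ normalizerIn T R', apl γ⁻¹ y ∈ N := fun y hy => by
        have hγi : Mor F T (apl γ⁻¹) := (iso_apl hTS (Subgroup.inv_mem _ hγ)).1
        refine ⟨apl_mem _ hy.1, ?_⟩
        have := finite_of_le (hR.1.trans hTS)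
        refine mem_normalizer_of_maps fun x hx => ?_
        obtain ⟨z, hz, hzx⟩ := hR'.exists_eq
          ((Subgroup.mem_normalizer_iff.1 hy.2 _).1 (hR'.mem hx))
        have e1 := congrArg (apl γ⁻¹) hzx
        rw [apl_inv_apl γ (hR.1 hz), hγi.map_conj hy.1 (apl_mem γ (hR.1 hx)),
          apl_inv_apl γ (hR.1 hx)] at e1
        rwa [← e1]
      exact ((iso_apl hTS (Subgroup.inv_mem _ hγ)).1.mono
        (inf_le_left : normalizerIn T R' ≤ T)).card_image_le (hNT.trans hTS) hb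
  have hγN : ∀ x ∈ N, apl γ x ∈ N' := fun x hx => by
    rw [hN'T]
    have hRF : Iso F R R' (apl γ) := ⟨hγF.mono hR.1, hR'.2⟩
    exact ⟨apl_mem γ hx.1, (hγF.mem_normalizerIn_image hRF hR.1 hx.1 hx.2).2⟩
  have hτ : Mor F N (ε' ∘ apl γ) := (hγF.mono hNT).comp hε'.1 hγN
  have hτmem : ∀ x ∈ N, (ε' ∘ apl γ) x ∈ N := fun x hx => hε'.mem (hγN x hx)
  have hτi : Iso F N N (ε' ∘ apl γ) :=
    ⟨hτ, fun y => ⟨fun hy => hτ.surj_of_card (hNT.trans hTS) hτmem le_rfl hy,
      fun ⟨x, hx, hxy⟩ => hxy ▸ hτmem x hx⟩⟩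
  obtain ⟨δ, hδ, hδτ⟩ := hτi.exists_mem_autGroup
  have hfix : ∀ x ∈ R, (ε' ∘ apl γ) x = x := fun x hx => by
    show ε' (apl γ x) = x
    rw [← hεf x hx, hε'ε x (hRN.le hx)]
  have := finite_of_le (hR.1.trans hTS)
  obtain ⟨n, hn⟩ := pow_fix (hTp.to_le hR.1) hτ hRN.le hfix fun y hy =>
    diff_mem_of_fix hR hτ le_rfl hRN.le (fun z hz => hNT (hτmem z hz)) hfix hy
  refine ⟨ε, δ, n, hεN, hδ, apl_ext fun x hx => ?_, fun x hx => ?_⟩
  · rw [autGroup_iterate hδτ _ x hx, hn x hx, apl_one hx]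
  · rw [hδτ x hx]
    exact (hεε' _ (hγN x hx)).symm

end Cfsg.Agent.FusSys
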