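import Cfsg.Agent.FusSys.SmallCentral
import Cfsg.Agent.Thompson.Replacement

/-!
Essential subgroups over a nonabelian group with a unique abelian subgroup of index `p`.
-/

set_option autoImplicit false

namespace Cfsg.Agent.FusSys.AbIndexP

open Cfsg Cfsg.FusionSystem Cfsg.Agent.FusSys Cfsg.Agent.FusSys.StrongExtra
open Cfsg.Agent.FusSys.SmallCentral (zS zS_comm)
open scoped commutatorElement

universe u

variable {Ω : Type u} [Group Ω] {S A P : Subgroup Ω} {F : FusionSystem S} {p : ℕ}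

/-- The elements of `S` central modulo the centre. -/
def z2 (S : Subgroup Ω) : Subgroup Ω where
  carrier := {s | s ∈ S ∧ ∀ t ∈ S, br s t ∈ zS S}
  one_mem' := ⟨S.one_mem, fun t _ => by simp [br]⟩
  mul_mem' := fun {a b} ha hb => ⟨S.mul_mem ha.1 hb.1, fun t ht => by
    have e : br (a * b) t = br b t * br a t := by
      have h1 : br (a * b) t = a * br b t * a⁻¹ * br a t := by simp only [br]; group
      rw [h1, (zS_comm (hb.2 t ht) ha.1).eq, mul_inv_cancel_right]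
    rw [e]; exact (zS S).mul_mem (hb.2 t ht) (ha.2 t ht)⟩
  inv_mem' := fun {a} ha => ⟨S.inv_mem ha.1, fun t ht => by
    have e : br a⁻¹ t = (br a t)⁻¹ := by
      have h1 : br a⁻¹ t = a⁻¹ * (br a t)⁻¹ * a := by simp only [br]; group
      rw [h1, (zS_comm ((zS S).inv_mem (ha.2 t ht)) (S.inv_mem ha.1)).eq, inv_mul_cancel_right]
    rw [e]; exact (zS S).inv_mem (ha.2 t ht)⟩

theorem upperCentral_two_eq (S : Subgroup Ω) :
    (Subgroup.upperCentralSeries ↥S 2).map S.subtype = z2 S := by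
  ext s
  constructor
  · rintro ⟨s, hs, rfl⟩
    refine ⟨s.2, fun t ht => ?_⟩
    have h1 := Subgroup.mem_upperCentralSeries_succ_iff.1 hs ⟨t, ht⟩
    rw [Subgroup.upperCentralSeries_one] at h1
    rw [SmallCentral.zS_map]
    exact ⟨_, h1, by simp [br, commutatorElement_def]⟩
  · rintro ⟨hs, hs'⟩
    refine ⟨⟨s, hs⟩, Subgroup.mem_upperCentralSeries_succ_iff.2 fun t => ?_, rfl⟩
    rw [Subgroup.upperCentralSeries_one]
    have h1 := hs' t t.2
    rw [SmallCentral.zS_map] at h1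
    obtain ⟨c, hc, hcs⟩ := h1
    convert! hc using 1
    exact Subtype.ext (by rw [← Subgroup.coe_subtype, hcs]; simp [br, commutatorElement_def])

/-- The hypotheses. -/
structure AI (p : ℕ) (S A : Subgroup Ω) : Prop where
  odd : p ≠ 2
  pgrp : IsPGroup p S
  le : A ≤ S
  comm : ∀ a ∈ A, ∀ b ∈ A, Commute a b
  index : Nat.card S = p * Nat.card A
  uniq : ∀ B : Subgroup Ω, B ≤ S → IsMulCommutative B → (B.subgroupOf S).index = p → B = A
  nonab : ¬ IsMulCommutative S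

variable [Fact p.Prime] [Finite S] (h : AI p S A)
include h

theorem AI.index_eq : (A.subgroupOf S).index = p := by
  haveI := finite_of_le h.le
  have h1 := (A.subgroupOf S).index_mul_card
  rw [Nat.card_congr (Subgroup.subgroupOfEquivOfLe h.le).toEquiv, h.index] at h1
  exact Nat.eq_of_mul_eq_mul_right Nat.card_pos h1

theorem AI.conj_mem {s : Ω} (hs : s ∈ S) {a : Ω} (ha : a ∈ A) : s * a * s⁻¹ ∈ A := by
  have hmin : (Nat.card S).minFac = p := by
    obtain ⟨k, hk⟩ := IsPGroup.iff_card.1 h.pgrp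
    have hk0 : k ≠ 0 := fun h0 => by
      have h2 := h.index
      rw [hk, h0, pow_zero] at h2
      exact (Fact.out : p.Prime).ne_one (Nat.eq_one_of_mul_eq_one_right h2.symm)
    rw [hk, Nat.pow_minFac hk0, (Fact.out : p.Prime).minFac_eq]
  haveI := Subgroup.normal_of_index_eq_minFac_card (H := A.subgroupOf S) (h.index_eq.trans hmin.symm)
  exact Subgroup.mem_subgroupOf.1 (this.conj_mem ⟨a, h.le ha⟩ ha ⟨s, hs⟩)

theorem AI.br_mem {a s : Ω} (ha : a ∈ A) (hs : s ∈ S) : br a s ∈ A := by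
  rw [show br a s = a * (s * a⁻¹ * s⁻¹) by simp only [br]; group]
  exact A.mul_mem ha (h.conj_mem hs (A.inv_mem ha))

theorem AI.decomp {x : Ω} (hx : x ∈ S) (hxA : x ∉ A) {s : Ω} (hs : s ∈ S) :
    ∃ a ∈ A, ∃ k : ℕ, s = a * x ^ k := by
  have hp := (Fact.out : p.Prime)
  have hnorm : A.subgroupOf S ⊔ Subgroup.zpowers (⟨x, hx⟩ : S) = ⊤ := by
    haveI := finite_of_le h.le
    set M := A.subgroupOf S ⊔ Subgroup.zpowers (⟨x, hx⟩ : S)
    have h1 := Subgroup.index_mul_card M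
    obtain ⟨j, hj⟩ := h.pgrp.index M
    rcases Nat.eq_zero_or_pos j with rfl | hj0
    · exact Subgroup.index_eq_one.1 (by rw [hj, pow_zero])
    · exfalso
      have hdvd : M.index ∣ p := h.index_eq ▸ Subgroup.index_dvd_of_le le_sup_left
      have heq : M.index = p := by
        rcases (Nat.dvd_prime hp).1 hdvd with e | e
        · rw [e] at hj; exact absurd hj (Nat.one_lt_pow hj0.ne' hp.one_lt).ne
        · exact e
      have hMA : A.subgroupOf S = M := Subgroup.eq_of_le_of_card_ge le_sup_left (by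
        have h2 := (A.subgroupOf S).index_mul_card
        rw [h.index_eq, ← h1, heq] at h2
        exact (Nat.eq_of_mul_eq_mul_left hp.pos h2).ge)
      exact hxA (Subgroup.mem_subgroupOf.1 (hMA.symm ▸ Subgroup.mem_sup_right (Subgroup.mem_zpowers _) :
        (⟨x, hx⟩ : S) ∈ A.subgroupOf S))
  haveI : (A.subgroupOf S).Normal := ⟨fun a ha g => h.conj_mem g.2 ha⟩
  have hmem : (⟨s, hs⟩ : S) ∈ A.subgroupOf S ⊔ Subgroup.zpowers (⟨x, hx⟩ : S) := hnorm ▸ Subgroup.mem_top _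
  obtain ⟨a, ha, b, hb, hab⟩ := Subgroup.mem_sup_of_normal_left.1 hmem
  obtain ⟨k, rfl⟩ := (Submonoid.mem_powers_iff _ _).1 (mem_powers_iff_mem_zpowers.2 hb)
  exact ⟨a, ha, k, by simpa using (congrArg Subtype.val hab).symm⟩

theorem AI.central_of {x : Ω} (hx : x ∈ S) (hxA : x ∉ A) {c : Ω} (hc : c ∈ A) (hcx : Commute c x) :
    c ∈ zS S := by
  refine ⟨h.le hc, Subgroup.mem_centralizer_iff.2 fun s hs => ?_⟩
  obtain ⟨a, ha, k, rfl⟩ := h.decomp hx hxA hs
  exact ((h.comm a ha c hc).mul_left (hcx.symm.pow_left k)).eq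

theorem AI.zS_le : zS S ≤ A := by
  intro z hz
  by_contra hzA
  refine h.nonab ⟨⟨fun s t => Subtype.ext ?_⟩⟩
  obtain ⟨a, ha, k, hs⟩ := h.decomp hz.1 hzA s.2
  obtain ⟨b, hb, l, ht⟩ := h.decomp hz.1 hzA t.2
  show (s : Ω) * t = t * s
  rw [hs, ht]
  exact (((h.comm a ha b hb).mul_right ((zS_comm hz (h.le ha)).pow_right l)).mul_left
    (((zS_comm hz (h.le hb)).symm.pow_left k).mul_right ((Commute.refl z).pow_pow k l))).eq

theorem AI.exists_out : ∃ x ∈ S, x ∉ A := by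
  by_contra hall
  push Not at hall
  haveI := finite_of_le h.le
  have h2 := h.index
  rw [le_antisymm hall h.le] at h2
  have h3 : 1 * Nat.card A = p * Nat.card A := by rw [one_mul]; exact h2
  exact (Fact.out : p.Prime).ne_one (Nat.eq_of_mul_eq_mul_right Nat.card_pos h3).symm

theorem AI.not_comm {x : Ω} (hx : x ∈ S) (hxA : x ∉ A) : ∃ a ∈ A, br a x ≠ 1 := by
  by_contra hall
  push Not at hall
  refine h.nonab ⟨⟨fun s t => Subtype.ext ?_⟩⟩
  have hle : ∀ a ∈ A, a ∈ zS S := fun a ha => h.central_of hx hxA ha (br_eq_one.1 (hall a ha))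
  obtain ⟨a, ha, k, hs⟩ := h.decomp hx hxA s.2
  obtain ⟨b, hb, l, ht⟩ := h.decomp hx hxA t.2
  show (s : Ω) * t = t * s
  rw [hs, ht]
  exact (((h.comm a ha b hb).mul_right ((zS_comm (hle a ha) (S.pow_mem hx l)).symm)).mul_left
    ((zS_comm (hle b hb) (S.pow_mem hx k)).mul_right ((Commute.refl x).pow_pow k l))).eq

omit [Fact p.Prime] [Finite S] in
theorem AI.zS_normal {s z : Ω} (hs : s ∈ S) (hz : z ∈ zS S) : s * z * s⁻¹ = z := by
  rw [(zS_comm hz hs).eq, mul_inv_cancel_right]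

/-- Commutation with an element outside `A`. -/
def AI.phi {x : Ω} (hx : x ∈ S) : A →* A where
  toFun a := ⟨br (a : Ω) x, h.br_mem a.2 hx⟩
  map_one' := Subtype.ext (by simp [br])
  map_mul' a b := Subtype.ext (by
    show br ((a : Ω) * b) x = br (a : Ω) x * br (b : Ω) x
    have e : br ((a : Ω) * b) x = a * br (b : Ω) x * (a : Ω)⁻¹ * br (a : Ω) x := by simp only [br]; group
    rw [e, (h.comm a a.2 _ (h.br_mem b.2 hx)).eq, mul_inv_cancel_right]
    exact (h.comm _ (h.br_mem b.2 hx) _ (h.br_mem a.2 hx)).eq)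

/-- The image of commutation with `x`. -/
def AI.img {x : Ω} (hx : x ∈ S) : Subgroup Ω := (h.phi hx).range.map A.subtype

theorem AI.mem_img {x : Ω} (hx : x ∈ S) {c : Ω} : c ∈ h.img hx ↔ ∃ a ∈ A, br a x = c := by
  constructor
  · rintro ⟨_, ⟨a, rfl⟩, rfl⟩; exact ⟨a, a.2, rfl⟩
  · rintro ⟨a, ha, rfl⟩; exact ⟨_, ⟨⟨a, ha⟩, rfl⟩, rfl⟩

theorem AI.img_le {x : Ω} (hx : x ∈ S) : h.img hx ≤ A := Subgroup.map_subtype_le _

/-- The kernel of commutation with `x` is the centre, so the image has order `|A| / |Z(S)|`. -/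
theorem AI.card_preimage {x : Ω} (hx : x ∈ S) (hxA : x ∉ A) (D : Subgroup Ω) :
    Nat.card ((D.subgroupOf A).comap (h.phi hx)) =
      Nat.card (zS S) * Nat.card (D ⊓ h.img hx : Subgroup Ω) := by
  haveI := finite_of_le h.le
  set M := (D.subgroupOf A).comap (h.phi hx)
  let f : M →* A := (h.phi hx).comp M.subtype
  have hker : f.ker = ((zS S).subgroupOf A).subgroupOf M := by
    ext a
    rw [MonoidHom.mem_ker, Subgroup.mem_subgroupOf, Subgroup.mem_subgroupOf]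
    constructor
    · intro ha
      exact h.central_of hx hxA a.1.2 (br_eq_one.1 (congrArg Subtype.val ha))
    · intro ha
      exact Subtype.ext (br_eq_one.2 (zS_comm ha hx).eq.symm)
  have hle : (zS S).subgroupOf A ≤ M := fun a ha => by
    rw [Subgroup.mem_comap, Subgroup.mem_subgroupOf]
    show br (a : Ω) x ∈ D
    rw [br_eq_one.2 (show (a : Ω) * x = x * a from (zS_comm (Subgroup.mem_subgroupOf.1 ha) hx).eq.symm)]
    exact D.one_mem
  have hrange : f.range.map A.subtype = D ⊓ h.img hx := by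
    ext c
    constructor
    · rintro ⟨_, ⟨a, rfl⟩, rfl⟩
      exact ⟨Subgroup.mem_subgroupOf.1 (Subgroup.mem_comap.1 a.2), ⟨_, ⟨a.1, rfl⟩, rfl⟩⟩
    · rintro ⟨hcD, hc⟩
      obtain ⟨a, ha, rfl⟩ := (h.mem_img hx).1 hc
      exact ⟨_, ⟨⟨⟨a, ha⟩, Subgroup.mem_comap.2 (Subgroup.mem_subgroupOf.2 hcD)⟩, rfl⟩, rfl⟩
  have h1 := f.ker.card_mul_index
  rw [Subgroup.index_ker, hker, Nat.card_congr (Subgroup.subgroupOfEquivOfLe hle).toEquiv,
    Nat.card_congr (Subgroup.subgroupOfEquivOfLe h.zS_le).toEquiv] at h1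
  rw [← h1, ← hrange, Subgroup.card_subtype]

theorem AI.card_img {x : Ω} (hx : x ∈ S) (hxA : x ∉ A) :
    Nat.card A = Nat.card (zS S) * Nat.card (h.img hx) := by
  have h1 := h.card_preimage hx hxA A
  rw [inf_eq_right.2 (h.img_le hx), Subgroup.subgroupOf_self, Subgroup.comap_top, Subgroup.card_top] at h1
  exact h1

theorem AI.mem_z2_iff {x : Ω} (hx : x ∈ S) (hxA : x ∉ A) {a : Ω} (ha : a ∈ A) :
    a ∈ z2 S ↔ br a x ∈ zS S := by
  refine ⟨fun h' => h'.2 x hx, fun h' => ⟨h.le ha, fun t ht => ?_⟩⟩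
  obtain ⟨b, hb, k, rfl⟩ := h.decomp hx hxA ht
  induction k with
  | zero =>
    rw [pow_zero, mul_one, br_eq_one.2 (h.comm a ha b hb).eq]
    exact Subgroup.one_mem _
  | succ k ih =>
    have e : br a (b * x ^ (k + 1)) = br a (b * x ^ k) * ((b * x ^ k) * br a x * (b * x ^ k)⁻¹) := by
      simp only [br, pow_succ]; group
    rw [e, h.zS_normal (S.mul_mem (h.le hb) (S.pow_mem hx k)) h']
    exact Subgroup.mul_mem _ (ih (S.mul_mem (h.le hb) (S.pow_mem hx k))) h'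

theorem AI.card_z2 {x : Ω} (hx : x ∈ S) (hxA : x ∉ A) :
    Nat.card (z2 S ⊓ A : Subgroup Ω) = Nat.card (zS S) * Nat.card (zS S ⊓ h.img hx : Subgroup Ω) := by
  have e : ((zS S).subgroupOf A).comap (h.phi hx) = (z2 S ⊓ A).subgroupOf A := by
    ext a
    rw [Subgroup.mem_comap, Subgroup.mem_subgroupOf, Subgroup.mem_subgroupOf, Subgroup.mem_inf,
      h.mem_z2_iff hx hxA a.2]
    exact ⟨fun e => ⟨e, a.2⟩, fun e => e.1⟩
  rw [← h.card_preimage hx hxA (zS S), e,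
    Nat.card_congr (Subgroup.subgroupOfEquivOfLe inf_le_right).toEquiv]

theorem AI.commutator_eq {x : Ω} (hx : x ∈ S) (hxA : x ∉ A) :
    (commutator ↥S).map S.subtype = h.img hx := by
  refine le_antisymm ?_ ?_
  · have hnorm : ((h.img hx).subgroupOf S).Normal := ⟨fun c hc g => by
      rw [Subgroup.mem_subgroupOf, h.mem_img] at hc ⊢
      obtain ⟨a, ha, hac⟩ := hc
      obtain ⟨b, hb, k, hg⟩ := h.decomp hx hxA g.2
      refine ⟨x ^ k * a * (x ^ k)⁻¹, h.conj_mem (S.pow_mem hx k) ha, ?_⟩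
      show br _ x = (g : Ω) * c * (g : Ω)⁻¹
      rw [← hac, hg]
      have e : br (x ^ k * a * (x ^ k)⁻¹) x = x ^ k * br a x * (x ^ k)⁻¹ := by simp only [br]; group
      rw [e]
      have h2 := h.comm b hb _ (h.conj_mem (S.pow_mem hx k) (h.br_mem ha hx))
      calc x ^ k * br a x * (x ^ k)⁻¹ = b * (x ^ k * br a x * (x ^ k)⁻¹) * b⁻¹ := by
            rw [h2.eq, mul_inv_cancel_right]
        _ = _ := by group⟩
    rw [Subgroup.map_le_iff_le_comap]
    show commutator ↥S ≤ (h.img hx).subgroupOf S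
    rw [commutator_def, Subgroup.commutator_le]
    intro s _ t _
    set π := QuotientGroup.mk' ((h.img hx).subgroupOf S)
    have hcomm : ∀ a : S, (a : Ω) ∈ A → Commute (π a) (π ⟨x, hx⟩) := fun a ha => by
      refine commutatorElement_eq_one_iff_mul_comm.1 ?_
      rw [← map_commutatorElement, QuotientGroup.mk'_apply, QuotientGroup.eq_one_iff, Subgroup.mem_subgroupOf]
      exact (h.mem_img hx).2 ⟨a, ha, rfl⟩
    rw [← QuotientGroup.eq_one_iff, ← QuotientGroup.mk'_apply, map_commutatorElement,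
      commutatorElement_eq_one_iff_mul_comm]
    obtain ⟨a, ha, k, hs⟩ := h.decomp hx hxA s.2
    obtain ⟨b, hb, l, ht⟩ := h.decomp hx hxA t.2
    rw [show s = (⟨a, h.le ha⟩ : S) * ⟨x, hx⟩ ^ k from Subtype.ext (by simpa using hs),
      show t = (⟨b, h.le hb⟩ : S) * ⟨x, hx⟩ ^ l from Subtype.ext (by simpa using ht),
      map_mul π, map_mul π, map_pow, map_pow]
    have hab : Commute (π ⟨a, h.le ha⟩) (π ⟨b, h.le hb⟩) :=
      (show Commute (⟨a, h.le ha⟩ : S) ⟨b, h.le hb⟩ from Subtype.ext (h.comm a ha b hb).eq).map π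
    exact ((hab.mul_right ((hcomm _ ha).pow_right l)).mul_left
      (((hcomm _ hb).symm.pow_left k).mul_right ((Commute.refl _).pow_pow k l))).eq
  · intro c hc
    obtain ⟨a, ha, rfl⟩ := (h.mem_img hx).1 hc
    exact ⟨⁅(⟨a, h.le ha⟩ : S), ⟨x, hx⟩⁆, Subgroup.commutator_mem_commutator (Subgroup.mem_top _) (Subgroup.mem_top _),
      by simp [br, commutatorElement_def]⟩

theorem AI.le_z2_of_out (hout : ¬ z2 S ≤ A) : A ≤ z2 S := by
  obtain ⟨u, hu, huA⟩ := SetLike.not_le_iff_exists.1 hout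
  intro a ha
  refine (h.mem_z2_iff hu.1 huA ha).2 ?_
  rw [← br_inv]
  exact (zS S).inv_mem (hu.2 a (h.le ha))

/-- What an essential subgroup other than `A` looks like. -/
structure Shape (p : ℕ) (S A P : Subgroup Ω) (x : Ω) : Prop where
  x_mem : x ∈ P
  x_not : x ∉ A
  gen : P = (P ⊓ A) ⊔ Subgroup.zpowers x
  base : P ⊓ A = zS S ∨ (P ⊓ A = z2 S ⊓ A ∧ ¬ IsMulCommutative P)

variable (hF : F.IsSaturated p)
include hF

theorem AI.inner_of_chain (hP : F.IsEssential p P) (C : ℕ → Subgroup Ω) (hmono : Monotone C) {n : ℕ}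
    (htop : P ≤ C n) (hinv : ∀ γ ∈ F.autGroup P, ∀ i, ∀ u ∈ P, u ∈ C i → apl γ u ∈ C i)
    (hbot : C 0 = ⊥) {g : Ω} (hg : g ∈ S) (hn : g ∈ Subgroup.normalizer (P : Set Ω))
    (hstab : ∀ i < n, ∀ u ∈ P, u ∈ C (i + 1) → u⁻¹ * (g * u * g⁻¹) ∈ C i) : g ∈ P := by
  have hPS := hP.1.1
  haveI := finite_of_le hPS
  haveI : Finite (MulAut P) := Finite.of_injective _ MulEquiv.toEquiv_injective
  obtain ⟨τ, hτ', hτx⟩ := exists_mem_autInducedBy hg hn
  have hτ : τ ∈ F.autGroup P := autInducedBy_le_autGroup hPS hτ'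
  set K := (chainStab (P := P) C hmono n).subgroupOf (F.autGroup P)
  have hKn : K.Normal := ⟨fun δ hδ γ => by
    rw [Subgroup.mem_subgroupOf, mem_chainStab] at hδ ⊢
    intro i hi u hu hui
    have hu' : apl ((γ : MulAut P)⁻¹) u ∈ P := apl_mem _ hu
    have h1 := hδ i hi _ hu' (hinv _ (inv_mem γ.2) _ u hu hui)
    have h2 := hinv _ γ.2 i _ (P.mul_mem (P.inv_mem hu') (apl_mem _ hu')) h1
    have hm := (iso_apl hPS γ.2).1
    rw [hm.map_mul (P.inv_mem hu') (apl_mem _ hu'), hm.map_inv hu', apl_apl_inv _ hu] at h2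
    show u⁻¹ * apl ((γ : MulAut P) * (δ : MulAut P) * (γ : MulAut P)⁻¹) u ∈ C i
    rwa [apl_mul _ _ hu, apl_mul _ _ hu']⟩
  have hKp : IsPGroup p K := by
    refine IsPGroup.of_injective (isPGroup_chainStab (Γ := F.autGroup P) (h.pgrp.to_le hPS) hmono htop
      (fun δ _ _ u hu h0 => ?_))
      (MonoidHom.mk' (fun δ : K => (⟨((δ : F.autGroup P) : MulAut P),
        ⟨(δ : F.autGroup P).2, Subgroup.mem_subgroupOf.1 δ.2⟩⟩ :
        ↥(F.autGroup P ⊓ chainStab (P := P) C hmono n))) fun a b => rfl)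
      (fun a b e => Subtype.ext (Subtype.ext (congrArg Subtype.val e :)))
    rw [hbot, Subgroup.mem_bot] at h0
    rw [h0, apl_apply _ P.one_mem]
    exact congrArg Subtype.val (map_one δ)
  have hτK : (⟨τ, hτ⟩ : F.autGroup P) ∈ K := by
    rw [Subgroup.mem_subgroupOf, mem_chainStab]
    intro i hi u hu hui
    rw [hτx u hu]
    exact hstab i hi u hu hui
  have h2 : τ ∈ (pCore p (F.autGroup P)).map (F.autGroup P).subtype := ⟨_, Core.le_pCore hKp hτK, rfl⟩
  rw [(essential_radical h.pgrp hF hP).2, inn_eq_autInducedBy] at h2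
  obtain ⟨v, hv, -, hvx⟩ := mem_autInducedBy_iff.1 h2
  have h3 : v⁻¹ * g ∈ P := centric_self hP.1 ⟨S.mul_mem (S.inv_mem (hPS hv)) hg,
    Subgroup.mem_centralizer_iff.2 fun u hu => by
      have h4 : v * u * v⁻¹ = g * u * g⁻¹ := by rw [← hvx u hu, hτx u hu]
      calc u * (v⁻¹ * g) = v⁻¹ * (v * u * v⁻¹) * g := by group
        _ = v⁻¹ * (g * u * g⁻¹) * g := by rw [h4]
        _ = _ := by group⟩
  have h4 := P.mul_mem hv h3
  rwa [mul_inv_cancel_left] at h4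

theorem AI.shape (hP : F.IsEssential p P) (hPA : P ≠ A) : ∃ x, Shape p S A P x := by
  classical
  have hPS := hP.1.1
  haveI := finite_of_le hPS
  have hC := centric_self hP.1
  have hZP : zS S ≤ P := fun c hc => hC ⟨hc.1, Subgroup.mem_centralizer_iff.2 fun u hu =>
    (zS_comm hc (hPS hu)).eq⟩
  have hZ0 : zS S ≤ P ⊓ A := le_inf hZP h.zS_le
  obtain ⟨x, hxP, hxA⟩ : ∃ x ∈ P, x ∉ A := by
    by_contra hall
    push Not at hall
    exact hPA (le_antisymm hall fun a ha => hC ⟨h.le ha, Subgroup.mem_centralizer_iff.2 fun u hu =>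
      (h.comm u (hall u hu) a ha).eq⟩)
  have hx := hPS hxP
  have hdec : ∀ u ∈ P, ∃ c ∈ P ⊓ A, ∃ k : ℕ, u = c * x ^ k := fun u hu => by
    obtain ⟨a, ha, k, rfl⟩ := h.decomp hx hxA (hPS hu)
    refine ⟨a, ⟨?_, ha⟩, k, rfl⟩
    have := P.mul_mem hu (P.inv_mem (P.pow_mem hxP k))
    rwa [mul_inv_cancel_right] at this
  have hgen : P = (P ⊓ A) ⊔ Subgroup.zpowers x := by
    refine le_antisymm (fun u hu => ?_) (sup_le inf_le_left (Subgroup.zpowers_le.2 hxP))
    obtain ⟨c, hc, k, rfl⟩ := hdec u hu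
    exact Subgroup.mul_mem _ (Subgroup.mem_sup_left hc) (Subgroup.mem_sup_right (Subgroup.pow_mem _ (Subgroup.mem_zpowers x) k))
  refine ⟨x, hxP, hxA, hgen, ?_⟩
  have hPne : P ≠ S := fun e => SmallCentral.not_essential_top' h.pgrp hF (e ▸ hP)
  obtain ⟨g, hg, hgP⟩ := SetLike.exists_of_lt (lt_normalizerIn h.pgrp (lt_of_le_of_ne hPS hPne))
  obtain ⟨a, ha, k, rfl⟩ := h.decomp hx hxA hg.1
  have han : a ∈ Subgroup.normalizer (P : Set Ω) := by
    have := Subgroup.mul_mem _ hg.2 (Subgroup.inv_mem _ (Subgroup.le_normalizer (P.pow_mem hxP k)))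
    rwa [mul_inv_cancel_right] at this
  have haP : a ∉ P := fun h' => hgP (P.mul_mem h' (P.pow_mem hxP k))
  by_cases hab : IsMulCommutative P
  · left
    refine le_antisymm (fun c hc => h.central_of hx hxA hc.2 ?_) hZ0
    exact congrArg Subtype.val (hab.is_comm.comm ⟨c, hc.1⟩ ⟨x, hxP⟩)
  right
  refine ⟨?_, hab⟩
  have hconj : ∀ u ∈ P, u⁻¹ * (a * u * a⁻¹) ∈ P ⊓ A := fun u hu => by
    refine ⟨P.mul_mem (P.inv_mem hu) ((Subgroup.mem_normalizer_iff.1 han u).1 hu), ?_⟩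
    rw [show u⁻¹ * (a * u * a⁻¹) = u⁻¹ * a * u * a⁻¹ by group]
    have h1 := h.conj_mem (S.inv_mem (hPS hu)) ha
    rw [inv_inv] at h1
    exact A.mul_mem h1 (A.inv_mem ha)
  obtain ⟨γ, hγ, u, hu, huA, hγu⟩ : ∃ γ ∈ F.autGroup P, ∃ u, u ∈ P ∧ u ∈ A ∧ apl γ u ∉ A := by
    by_contra hall
    push Not at hall
    let C : ℕ → Subgroup Ω := fun i => if i = 0 then ⊥ else if i = 1 then P ⊓ A else P
    have hmono : Monotone C := monotone_nat_of_le_succ fun i => by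
      rcases i with _ | _ | i <;> simp [C]
    refine haP (h.inner_of_chain hF hP C hmono (n := 2) (by simp [C]) (fun γ hγ i v hv hvi => ?_)
      (by simp [C]) (h.le ha) han fun i hi v hv hvi => ?_)
    · rcases i with _ | _ | i
      · simp only [C, if_true, Subgroup.mem_bot] at hvi ⊢
        rw [hvi, apl_apply _ P.one_mem]
        exact congrArg Subtype.val (map_one γ)
      · simp only [C, zero_add, one_ne_zero, if_false, if_true] at hvi ⊢
        exact ⟨apl_mem γ hv, hall γ hγ v hvi.1 hvi.2⟩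
      · simpa [C] using apl_mem γ hv
    · rcases i with _ | i
      · simp only [C, zero_add, one_ne_zero, if_false, if_true, Subgroup.mem_bot] at hvi ⊢
        rw [(h.comm a ha v hvi.2).eq, mul_inv_cancel_right, inv_mul_cancel]
      · obtain rfl : i = 0 := by omega
        simpa [C] using hconj v hv
  -- a second abelian maximal subgroup
  have hm := (iso_apl hPS hγ).1
  set y := apl γ u
  have hy : y ∈ S := hPS (apl_mem γ hu)
  have hker : ∀ v ∈ P ⊓ A, apl γ v ∈ A → apl γ v ∈ zS S := fun v hv hvA =>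
    h.central_of hy hγu hvA (by
      show apl γ v * y = y * apl γ v
      rw [← hm.map_mul hv.1 hu, ← hm.map_mul hu hv.1, (h.comm v hv.2 u huA).eq])
  -- hence `|P ∩ A| ≤ p |Z|`
  haveI : Finite (P ⊓ A : Subgroup Ω) := finite_of_le (inf_le_left.trans hPS)
  have hzS : zS S ≤ S := inf_le_left
  haveI : Finite (zS S) := finite_of_le hzS
  have hcard : Nat.card (P ⊓ A : Subgroup Ω) ≤ Nat.card (zS S) * p := by
    set Anorm : (A.subgroupOf S).Normal := ⟨fun c hc g => h.conj_mem g.2 hc⟩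
    let f : (P ⊓ A : Subgroup Ω) →* S ⧸ A.subgroupOf S :=
      (QuotientGroup.mk' (A.subgroupOf S)).comp (MonoidHom.mk' (fun v : (P ⊓ A : Subgroup Ω) =>
        (⟨apl γ v, hPS (apl_mem γ v.2.1)⟩ : S)) fun v v' => Subtype.ext (hm.map_mul v.2.1 v'.2.1))
    have hker' : Nat.card f.ker ≤ Nat.card (zS S) := by
      refine Nat.card_le_card_of_injective (fun v => (⟨apl γ (v : (P ⊓ A : Subgroup Ω)),
        hker _ (v : (P ⊓ A : Subgroup Ω)).2 (Subgroup.mem_subgroupOf.1 ((QuotientGroup.eq_one_iff _).1 v.2))⟩ : zS S))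
        fun v v' e => Subtype.ext (Subtype.ext (hm.injOn v.1.2.1 v'.1.2.1 (congrArg Subtype.val e)))
    have h1 := f.ker.card_mul_index
    rw [Subgroup.index_ker] at h1
    rw [← h1]
    refine Nat.mul_le_mul hker' ?_
    exact (Subgroup.card_le_card_group f.range).trans (by rw [← Subgroup.index_eq_card, h.index_eq])
  have hne : zS S ≠ P ⊓ A := fun e => hab ⟨⟨fun v v' => Subtype.ext (by
    obtain ⟨c, hc, i, hv⟩ := hdec v v.2
    obtain ⟨c', hc', j, hv'⟩ := hdec v' v'.2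
    rw [← e] at hc hc'
    show (v : Ω) * v' = v' * v
    rw [hv, hv']
    exact (((zS_comm hc' hc.1).mul_right (zS_comm hc (S.pow_mem hx j)).symm).mul_left
      ((zS_comm hc' (S.pow_mem hx i)).mul_right ((Commute.refl x).pow_pow i j))).eq)⟩⟩
  obtain ⟨j, hj⟩ := IsPGroup.iff_card.1 (h.pgrp.to_le hzS)
  obtain ⟨l, hl⟩ := IsPGroup.iff_card.1 (h.pgrp.to_le (inf_le_left.trans hPS : P ⊓ A ≤ S))
  have hlt := card_lt_of_lt' (inf_le_left.trans hPS) (lt_of_le_of_ne hZ0 hne)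
  -- `P ∩ A` is central modulo the centre
  have hPcard : Nat.card P ≤ p * Nat.card (P ⊓ A : Subgroup Ω) := by
    haveI hAn : (A.subgroupOf S).Normal := ⟨fun c hc g => h.conj_mem g.2 hc⟩
    let f : P →* S ⧸ A.subgroupOf S := (QuotientGroup.mk' (A.subgroupOf S)).comp (Subgroup.inclusion hPS)
    have hk : f.ker = (P ⊓ A).subgroupOf P := by
      ext v
      rw [MonoidHom.mem_ker, Subgroup.mem_subgroupOf, Subgroup.mem_inf]
      show ((Subgroup.inclusion hPS v : S) : S ⧸ A.subgroupOf S) = 1 ↔ _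
      rw [QuotientGroup.eq_one_iff, Subgroup.mem_subgroupOf]
      exact ⟨fun e => ⟨v.2, e⟩, fun e => e.2⟩
    have h1 := f.ker.card_mul_index
    rw [Subgroup.index_ker, hk, Nat.card_congr (Subgroup.subgroupOfEquivOfLe inf_le_left).toEquiv] at h1
    rw [← h1, mul_comm p]
    exact Nat.mul_le_mul_left _ ((Subgroup.card_le_card_group f.range).trans (by
      rw [← Subgroup.index_eq_card, h.index_eq]))
  -- `P / Z(S)` has order at most `p ^ 2`
  have hsub : ∀ v ∈ P ⊓ A, br v x ∈ zS S := by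
    intro v hv
    set Zp := (zS S).subgroupOf P
    haveI hZpn : Zp.Normal := ⟨fun c hc g => by
      rw [Subgroup.mem_subgroupOf] at hc ⊢
      show (g : Ω) * c * (g : Ω)⁻¹ ∈ zS S
      rw [h.zS_normal (hPS g.2) hc]; exact hc⟩
    have h1 := Zp.card_mul_index
    rw [Nat.card_congr (Subgroup.subgroupOfEquivOfLe hZP).toEquiv, Subgroup.index_eq_card] at h1
    obtain ⟨r, hr⟩ := IsPGroup.iff_card.1 ((h.pgrp.to_le hPS).to_quotient Zp)
    have hpp := (Fact.out : p.Prime)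
    have hr2 : r ≤ 2 := by
      have h2 : Nat.card (zS S) * p ^ r ≤ Nat.card (zS S) * p ^ 2 := by
        rw [← hr, h1]
        refine hPcard.trans ((Nat.mul_le_mul_left p hcard).trans (le_of_eq (by ring)))
      exact (Nat.pow_le_pow_iff_right hpp.one_lt).1 (Nat.le_of_mul_le_mul_left h2 Nat.card_pos)
    have hcomm : IsMulCommutative (P ⧸ Zp) := by
      rcases (by omega : r = 0 ∨ r = 1 ∨ r = 2) with rfl | rfl | rfl
      · have : Subsingleton (P ⧸ Zp) := (Nat.card_eq_one_iff_unique.1 (by rw [hr, pow_zero])).1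
        exact ⟨⟨fun _ _ => Subsingleton.elim _ _⟩⟩
      · have : IsCyclic (P ⧸ Zp) := isCyclic_of_prime_card (p := p) (by rw [hr, pow_one])
        exact ⟨⟨(IsCyclic.commGroup (α := P ⧸ Zp)).mul_comm⟩⟩
      · exact IsPGroup.isMulCommutative_of_card_eq_prime_sq hr
    have h3 : ((⁅(⟨v, hv.1⟩ : P), ⟨x, hxP⟩⁆ : P) : P ⧸ Zp) = 1 := by
      rw [← QuotientGroup.mk'_apply, map_commutatorElement, commutatorElement_eq_one_iff_mul_comm]
      exact hcomm.is_comm.comm _ _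
    simpa [br, commutatorElement_def] using Subgroup.mem_subgroupOf.1 ((QuotientGroup.eq_one_iff _).1 h3)
  have hP0 : P ⊓ A ≤ z2 S ⊓ A := fun v hv => ⟨(h.mem_z2_iff hx hxA hv.2).2 (hsub v hv), hv.2⟩
  refine le_antisymm hP0 ?_
  intro b hb
  refine ⟨?_, hb.2⟩
  have hbn : b ∈ Subgroup.normalizer (P : Set Ω) := mem_normalizer_of_maps fun v hv => by
    rw [show b * v * b⁻¹ = br b v * v by simp only [br]; group]
    exact P.mul_mem (hZP (hb.1.2 v (hPS hv))) hv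
  have hcen : ∀ γ' ∈ F.autGroup P, ∀ v ∈ P, v ∈ zS S → apl γ' v ∈ zS S := by
    intro γ' hγ' v hv hvZ
    have hm' := (iso_apl hPS hγ').1
    have hcm : ∀ w ∈ P, Commute (apl γ' v) w := fun w hw => by
      obtain ⟨w', hw', rfl⟩ := (iso_apl hPS hγ').exists_eq hw
      show apl γ' v * apl γ' w' = apl γ' w' * apl γ' v
      rw [← hm'.map_mul hv hw', ← hm'.map_mul hw' hv, (zS_comm hvZ (hPS hw')).eq]
    by_cases hvA : apl γ' v ∈ A
    · exact h.central_of hx hxA hvA (hcm x hxP)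
    · exfalso
      exact hne (le_antisymm hZ0 fun w hw => h.central_of (hPS (apl_mem γ' hv)) hvA hw.2 (hcm w hw.1).symm)
  let C : ℕ → Subgroup Ω := fun i => if i = 0 then ⊥ else if i = 1 then zS S else P
  have hmono : Monotone C := monotone_nat_of_le_succ fun i => by
    rcases i with _ | _ | i <;> simp [C, hZP]
  refine h.inner_of_chain hF hP C hmono (n := 2) (by simp [C]) (fun γ' hγ' i v hv hvi => ?_)
    (by simp [C]) hb.1.1 hbn fun i hi v hv hvi => ?_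
  · rcases i with _ | _ | i
    · simp only [C, if_true, Subgroup.mem_bot] at hvi ⊢
      rw [hvi, apl_apply _ P.one_mem]
      exact congrArg Subtype.val (map_one γ')
    · simp only [C, zero_add, one_ne_zero, if_false, if_true] at hvi ⊢
      exact hcen γ' hγ' v hv hvi
    · simpa [C] using apl_mem γ' hv
  · rcases i with _ | i
    · simp only [C, zero_add, one_ne_zero, if_false, if_true, Subgroup.mem_bot] at hvi ⊢
      rw [h.zS_normal hb.1.1 hvi, inv_mul_cancel]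
    · obtain rfl : i = 0 := by omega
      have h1 := hb.1.2 v (hPS hv)
      simp only [C, zero_add, one_ne_zero, if_false, if_true]
      rw [show v⁻¹ * (b * v * b⁻¹) = v⁻¹ * br b v * v by simp only [br]; group,
        ← (zS_comm h1 (S.inv_mem (hPS hv))).symm.eq, inv_mul_cancel_right]
      exact h1


/-- The data of an abelian essential subgroup: the centre splits as a fixed part and `⟨z⟩`, and a
map of the normalizer inverts `z` and fixes the fixed part. -/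
structure Tor (F : FusionSystem S) (P : Subgroup Ω) (z : Ω) : Prop where
  z_mem : z ∈ zS S
  z_img : ∀ {x : Ω}, x ∈ P → x ∉ A → ∀ (hx : x ∈ S), z ∈ h.img hx
  z_pow : z ^ p = 1
  z_ne : z ≠ 1
  mover : ∃ γ ∈ F.autGroup P, ∃ c ∈ zS S, apl γ c ∉ zS S
  card_z2 : Nat.card (z2 S ⊓ A : Subgroup Ω) = p * Nat.card (zS S)
  torus : ∀ γ ∈ F.autGroup P, (∃ c ∈ zS S, apl γ c ∉ zS S) → ∀ c : Ω,
    (c ∈ zS S → ∃ i : ℕ, apl γ⁻¹ (c * z ^ i) ∈ zS S) ∧ apl γ⁻¹ z ∉ zS S ∧
    ∃ f, Mor F (normalizerIn S P) f ∧ f z = z ^ (p - 1) ∧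
      ∀ d ∈ zS S, apl γ⁻¹ d ∈ zS S → f d = d

set_option maxHeartbeats 1000000 in
theorem AI.abelian_data (hP : F.IsEssential p P) {x : Ω} (hsh : Shape p S A P x)
    (hab : P ⊓ A = zS S) : ∃ z, Tor h F P z := by
  classical
  have hp := (Fact.out : p.Prime)
  have hPS := hP.1.1
  haveI := finite_of_le hPS
  haveI : Finite (MulAut P) := Finite.of_injective _ MulEquiv.toEquiv_injective
  have hxP := hsh.x_mem
  have hx := hPS hxP
  have hxA := hsh.x_not
  have hZP : zS S ≤ P := hab ▸ inf_le_left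
  have hdec : ∀ u ∈ P, ∃ c ∈ zS S, ∃ k : ℕ, u = c * x ^ k := fun u hu => by
    obtain ⟨a, ha, k, rfl⟩ := h.decomp hx hxA (hPS hu)
    refine ⟨a, hab ▸ ⟨?_, ha⟩, k, rfl⟩
    have := P.mul_mem hu (P.inv_mem (P.pow_mem hxP k))
    rwa [mul_inv_cancel_right] at this
  have hcomm : ∀ u ∈ P, ∀ v ∈ P, Commute u v := by
    intro u hu v hv
    obtain ⟨c, hc, i, rfl⟩ := hdec u hu
    obtain ⟨c', hc', j, rfl⟩ := hdec v hv
    exact ((zS_comm hc' hc.1).mul_right (zS_comm hc (S.pow_mem hx j)).symm).mul_left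
      ((zS_comm hc' (S.pow_mem hx i)).mul_right ((Commute.refl x).pow_pow i j))
  have hxp : x ^ p ∈ zS S := by
    rw [← hab]
    refine ⟨P.pow_mem hxP p, ?_⟩
    haveI : (A.subgroupOf S).Normal := ⟨fun c hc g => h.conj_mem g.2 hc⟩
    have h1 := pow_card_eq_one' (x := ((⟨x, hx⟩ : S) : S ⧸ A.subgroupOf S))
    rw [← Subgroup.index_eq_card, h.index_eq, ← QuotientGroup.mk_pow, QuotientGroup.eq_one_iff] at h1
    exact Subgroup.mem_subgroupOf.1 h1
  have hmodp : ∀ k : ℕ, p ∣ k → x ^ k ∈ zS S := fun k ⟨r, hr⟩ => by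
    rw [hr, pow_mul]; exact (zS S).pow_mem hxp r
  -- the Sylow subgroup of the automizer
  set G := F.autGroup P with hG
  obtain ⟨-, Sy, hSy⟩ := fullyAutomized_of_fullyNormalized h.pgrp hF hP.2.1
  have hconjA : ∀ g ∈ normalizerIn S P, ∃ a ∈ z2 S ⊓ A, ∀ u ∈ P, g * u * g⁻¹ = a * u * a⁻¹ := by
    intro g hg
    obtain ⟨a, ha, k, rfl⟩ := h.decomp hx hxA hg.1
    have han : a ∈ Subgroup.normalizer (P : Set Ω) := by
      have := Subgroup.mul_mem _ hg.2 (Subgroup.inv_mem _ (Subgroup.le_normalizer (P.pow_mem hxP k)))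
      rwa [mul_inv_cancel_right] at this
    refine ⟨a, ⟨(h.mem_z2_iff hx hxA ha).2 ?_, ha⟩, fun u hu => ?_⟩
    · rw [← hab]
      refine ⟨?_, h.br_mem ha hx⟩
      exact P.mul_mem ((Subgroup.mem_normalizer_iff.1 han x).1 hxP) (P.inv_mem hxP)
    · calc a * x ^ k * u * (a * x ^ k)⁻¹ = a * (x ^ k * u * (x ^ k)⁻¹) * a⁻¹ := by group
        _ = _ := by rw [(hcomm _ (P.pow_mem hxP k) u hu).eq, mul_inv_cancel_right]
  have hzn : ∀ a ∈ z2 S ⊓ A, a ∈ normalizerIn S P := fun a ha =>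
    ⟨ha.1.1, mem_normalizer_of_maps fun u hu => by
      rw [show a * u * a⁻¹ = br a u * u by simp only [br]; group]
      exact P.mul_mem (hZP (ha.1.2 u (hPS hu))) hu⟩
  have hact : ∀ a ∈ z2 S ⊓ A, ∀ c ∈ zS S, ∀ k : ℕ, a * (c * x ^ k) * a⁻¹ = c * x ^ k * br a x ^ k := by
    intro a ha c hc k
    have hb := ha.1.2 x hx
    have hxk : a * x ^ k * a⁻¹ = x ^ k * br a x ^ k := by
      induction k with
      | zero => simp
      | succ k ih =>
        calc a * x ^ (k + 1) * a⁻¹ = (a * x ^ k * a⁻¹) * (br a x * x) := by simp only [pow_succ, br]; group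
          _ = x ^ k * (br a x ^ k * (br a x * x)) := by rw [ih]; group
          _ = x ^ k * (x * br a x ^ (k + 1)) := by
            rw [← mul_assoc (br a x ^ k), ← pow_succ, ((zS_comm ((zS S).pow_mem hb (k + 1)) hx)).eq]
          _ = _ := by rw [pow_succ x]; group
    rw [show a * (c * x ^ k) * a⁻¹ = (a * c * a⁻¹) * (a * x ^ k * a⁻¹) by group,
      h.zS_normal ha.1.1 hc, hxk]
    group
  have hSyfix : ∀ s : G, s ∈ (Sy : Subgroup G) → (∀ c ∈ zS S, apl (s : MulAut P) c = c) ∧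
      ∀ u ∈ P, u⁻¹ * apl (s : MulAut P) u ∈ zS S := by
    intro s hs
    rw [hSy, Subgroup.mem_subgroupOf] at hs
    obtain ⟨g, hg, hgn, hgx⟩ := mem_autInducedBy_iff.1 hs
    obtain ⟨a, ha, hau⟩ := hconjA g ⟨hg, hgn⟩
    refine ⟨fun c hc => by rw [hgx c (hZP hc), h.zS_normal hg hc], fun u hu => ?_⟩
    obtain ⟨c, hc, k, rfl⟩ := hdec u hu
    rw [hgx _ hu, hau _ hu, hact a ha c hc k, inv_mul_cancel_left]
    exact (zS S).pow_mem (ha.1.2 x hx) k
  have hinvZ : ∀ γ : MulAut P, γ ∈ G → (∀ c ∈ zS S, apl γ c ∈ zS S) → ∀ c ∈ zS S, apl γ⁻¹ c ∈ zS S := by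
    intro γ hγ hpres c hc
    have hall : ∀ n : ℕ, apl (γ ^ n) c ∈ zS S := by
      intro n
      induction n with
      | zero => rw [pow_zero, apl_one (hZP hc)]; exact hc
      | succ n ih => rw [pow_succ', apl_mul _ _ (hZP hc)]; exact hpres _ ih
    have e : γ⁻¹ = γ ^ (orderOf γ - 1) := by
      rw [inv_eq_iff_mul_eq_one, ← pow_succ', Nat.sub_add_cancel (orderOf_pos γ), pow_orderOf_eq_one]
    rw [e]; exact hall _
  -- some element of `z2` normalizes `P` nontrivially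
  have hPne : P ≠ S := fun e => SmallCentral.not_essential_top' h.pgrp hF (e ▸ hP)
  obtain ⟨g, hg, hgP⟩ := SetLike.exists_of_lt (lt_normalizerIn h.pgrp (lt_of_le_of_ne hPS hPne))
  obtain ⟨a₀, ha₀, hga⟩ := hconjA g hg
  have ha₀Z : a₀ ∉ zS S := fun hz => hgP (centric_self hP.1 ⟨hg.1, Subgroup.mem_centralizer_iff.2 fun u hu => by
    have h1 := hga u hu
    rw [(zS_comm hz (hPS hu)).symm.eq, mul_inv_cancel_right, mul_inv_eq_iff_eq_mul] at h1
    exact h1.symm⟩)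
  have ha₀P : a₀ ∉ P := fun h' => ha₀Z (hab ▸ ⟨h', ha₀.2⟩)
  obtain ⟨γ₀, hγ₀, c₀, hc₀, hmove₀⟩ : ∃ γ ∈ G, ∃ c ∈ zS S, apl γ c ∉ zS S := by
    by_contra hall
    push Not at hall
    let C : ℕ → Subgroup Ω := fun i => if i = 0 then ⊥ else if i = 1 then zS S else P
    have hmono : Monotone C := monotone_nat_of_le_succ fun i => by
      rcases i with _ | _ | i <;> simp [C, hZP]
    refine ha₀P (h.inner_of_chain hF hP C hmono (n := 2) (by simp [C]) (fun γ' hγ' i v hv hvi => ?_)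
      (by simp [C]) ha₀.1.1 (hzn a₀ ha₀).2 fun i hi v hv hvi => ?_)
    · rcases i with _ | _ | i
      · simp only [C, if_true, Subgroup.mem_bot] at hvi ⊢
        rw [hvi, apl_apply _ P.one_mem]
        exact congrArg Subtype.val (map_one γ')
      · simp only [C, zero_add, one_ne_zero, if_false, if_true] at hvi ⊢
        exact hall γ' hγ' v hvi
      · simpa [C] using apl_mem γ' hv
    · rcases i with _ | i
      · simp only [C, zero_add, one_ne_zero, if_false, if_true, Subgroup.mem_bot] at hvi ⊢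
        rw [h.zS_normal ha₀.1.1 hvi, inv_mul_cancel]
      · obtain rfl : i = 0 := by omega
        obtain ⟨c, hc, k, rfl⟩ := hdec v hv
        simp only [C, zero_add, one_ne_zero, if_false, if_true]
        rw [hact a₀ ha₀ c hc k, inv_mul_cancel_left]
        exact (zS S).pow_mem (ha₀.1.2 x hx) k
  -- commutators with `x` avoid the part of the centre moved into the centre
  have hsep : ∀ γ ∈ G, (∃ c ∈ zS S, apl γ c ∉ zS S) → ∀ a ∈ z2 S ⊓ A,
      apl γ⁻¹ (br a x) ∈ zS S → br a x = 1 := by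
    intro γ hγ hmove a ha he
    set e := br a x with hedef
    have heZ : e ∈ zS S := ha.1.2 x hx
    obtain ⟨t, ht', htx⟩ := exists_mem_autInducedBy ha.1.1 (hzn a ha).2
    have ht : t ∈ G := autInducedBy_le_autGroup hPS ht'
    let Y' : Subgroup Ω :=
      { carrier := {c | c ∈ zS S ∧ apl γ c ∈ zS S}
        one_mem' := ⟨Subgroup.one_mem _, by rw [(iso_apl hPS hγ).1.map_one]; exact Subgroup.one_mem _⟩
        mul_mem' := fun {c d} hc hd => ⟨Subgroup.mul_mem _ hc.1 hd.1, by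
          rw [(iso_apl hPS hγ).1.map_mul (hZP hc.1) (hZP hd.1)]; exact Subgroup.mul_mem _ hc.2 hd.2⟩
        inv_mem' := fun {c} hc => ⟨Subgroup.inv_mem _ hc.1, by
          rw [(iso_apl hPS hγ).1.map_inv (hZP hc.1)]; exact Subgroup.inv_mem _ hc.2⟩ }
    have hY'Z : Y' ≤ zS S := fun c hc => hc.1
    let C : ℕ → Subgroup Ω := fun i => if i = 0 then ⊥ else if i = 1 then Y' else if i = 2 then zS S else P
    have hmono : Monotone C := monotone_nat_of_le_succ fun i => by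
      rcases i with _ | _ | _ | i <;> simp [C, hZP, hY'Z]
    set K := (chainStab (P := P) C hmono 3).subgroupOf G
    have hKp : IsPGroup p K := by
      refine IsPGroup.of_injective (isPGroup_chainStab (Γ := G) (h.pgrp.to_le hPS) hmono (n := 3)
        (by simp [C]) (fun δ _ _ u hu h0 => ?_))
        (MonoidHom.mk' (fun δ : K => (⟨((δ : G) : MulAut P),
          ⟨(δ : G).2, Subgroup.mem_subgroupOf.1 δ.2⟩⟩ :
          ↥(G ⊓ chainStab (P := P) C hmono 3))) fun a b => rfl)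
        (fun a b e => Subtype.ext (Subtype.ext (congrArg Subtype.val e :)))
      simp only [C, if_true, Subgroup.mem_bot] at h0
      rw [h0, apl_apply _ P.one_mem]
      exact congrArg Subtype.val (map_one δ)
    have hSyK : (Sy : Subgroup G) ≤ K := by
      intro s hs
      obtain ⟨hf, hd⟩ := hSyfix s hs
      rw [Subgroup.mem_subgroupOf, mem_chainStab]
      intro i hi u hu hui
      interval_cases i
      · simp only [C, zero_add, one_ne_zero, if_false, if_true, Subgroup.mem_bot] at hui ⊢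
        rw [hf u (hY'Z hui), inv_mul_cancel]
      · simp only [C, Nat.reduceAdd, OfNat.ofNat_ne_zero, OfNat.ofNat_ne_one, one_ne_zero, if_false, if_true] at hui ⊢
        rw [hf u hui, inv_mul_cancel]; exact Subgroup.one_mem _
      · simpa [C] using hd u hu
    have hKeq : K = (Sy : Subgroup G) := Sy.is_maximal' hKp hSyK
    set u₀ := γ⁻¹ * t * γ with hu₀
    have hu₀G : u₀ ∈ G := mul_mem (mul_mem (inv_mem hγ) ht) hγ
    have htfix : ∀ c ∈ zS S, apl t c = c := fun c hc => by rw [htx c (hZP hc), h.zS_normal ha.1.1 hc]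
    have htd : ∀ v ∈ P, ∃ k : ℕ, apl t v = v * e ^ k := fun v hv => by
      obtain ⟨c, hc, k, rfl⟩ := hdec v hv
      exact ⟨k, by rw [htx _ hv, hact a ha c hc k]⟩
    have he' : apl γ⁻¹ e ∈ Y' := ⟨he, by rw [apl_apl_inv _ (hZP heZ)]; exact heZ⟩
    have hu₀d : ∀ v ∈ P, v⁻¹ * apl u₀ v ∈ Y' := fun v hv => by
      obtain ⟨k, hk⟩ := htd _ (apl_mem γ hv)
      rw [hu₀, apl_mul _ _ hv, apl_mul _ _ (apl_mem γ hv), hk,
        (iso_apl hPS (inv_mem hγ)).1.map_mul (apl_mem γ hv) (P.pow_mem (hZP heZ) k),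
        apl_inv_apl _ hv, inv_mul_cancel_left, (iso_apl hPS (inv_mem hγ)).1.map_pow (hZP heZ)]
      exact Y'.pow_mem he' k
    have hu₀K : (⟨u₀, hu₀G⟩ : G) ∈ K := by
      rw [Subgroup.mem_subgroupOf, mem_chainStab]
      intro i hi u hu hui
      interval_cases i
      · simp only [C, zero_add, one_ne_zero, if_false, if_true, Subgroup.mem_bot] at hui ⊢
        show u⁻¹ * apl (γ⁻¹ * t * γ) u = 1
        rw [apl_mul _ _ hu, apl_mul _ _ (apl_mem γ hu), htfix _ hui.2, apl_inv_apl _ hu, inv_mul_cancel]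
      · simpa [C] using hu₀d u hu
      · simpa [C] using hY'Z (hu₀d u hu)
    rw [hKeq] at hu₀K
    obtain ⟨hf, -⟩ := hSyfix _ hu₀K
    obtain ⟨c, hc, hγc⟩ := hmove
    obtain ⟨d, hd, k, hdk⟩ := hdec _ (apl_mem γ (hZP hc))
    have hkp : ¬ p ∣ k := fun hk => hγc (by rw [hdk]; exact Subgroup.mul_mem _ hd (hmodp k hk))
    have h1 : apl u₀ c = c := hf c hc
    have h2 := congrArg (apl γ) h1
    rw [hu₀, apl_mul _ _ (hZP hc), apl_mul _ _ (apl_mem _ (hZP hc)),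
      apl_apl_inv _ (apl_mem _ (apl_mem _ (hZP hc))), hdk] at h2
    rw [htx _ (P.mul_mem (hZP hd) (P.pow_mem hxP k)), hact a ha d hd k, mul_eq_left] at h2
    -- `e ^ k = 1` with `p ∤ k`
    obtain ⟨j, hj⟩ := IsPGroup.iff_orderOf.1 h.pgrp ⟨e, heZ.1⟩
    have hje : orderOf e = p ^ j := by rw [← hj]; exact (Subgroup.orderOf_coe (⟨e, heZ.1⟩ : S))
    have h3 := orderOf_dvd_of_pow_eq_one h2
    rw [hje] at h3
    rcases Nat.eq_zero_or_pos j with rfl | hj0
    · exact orderOf_eq_one_iff.1 (by rw [hje, pow_zero])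
    · exact absurd ((dvd_pow_self p hj0.ne').trans h3) hkp
  set z := br a₀ x with hzdef
  have hzZ : z ∈ zS S := ha₀.1.2 x hx
  have hz1 : z ≠ 1 := fun e => ha₀Z (h.central_of hx hxA ha₀.2 (br_eq_one.1 e))
  have hzp : z ^ p = 1 := by
    have h1 := hact a₀ ha₀ 1 (Subgroup.one_mem _) p
    rw [one_mul, ← (zS_comm hxp ha₀.1.1).symm.eq, mul_inv_cancel_right, left_eq_mul] at h1
    exact h1
  have hbrp : ∀ a ∈ z2 S ⊓ A, ∀ i : ℕ, br (a * a₀ ^ i) x = br a x * z ^ i := fun a ha i => by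
    have h1 := congrArg Subtype.val ((h.phi hx).map_mul ⟨a, ha.2⟩ ⟨a₀ ^ i, A.pow_mem ha₀.2 i⟩)
    have h2 := congrArg Subtype.val (map_pow (h.phi hx) ⟨a₀, ha₀.2⟩ i)
    simp only [AI.phi, MonoidHom.coe_mk, OneHom.coe_mk, Subgroup.coe_mul, SubmonoidClass.coe_pow] at h1 h2
    rw [h1, h2]
  -- every mover gives the decomposition of the centre
  have hsplit : ∀ γ ∈ G, (∃ c ∈ zS S, apl γ c ∉ zS S) →
      apl γ⁻¹ z ∉ zS S ∧ ∀ c ∈ zS S, ∃ i : ℕ, apl γ⁻¹ (c * z ^ i) ∈ zS S := by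
    intro γ hγ hmv
    have hz' : apl γ⁻¹ z ∉ zS S := fun e => hz1 (hsep γ hγ hmv a₀ ha₀ e)
    refine ⟨hz', fun c hc => ?_⟩
    obtain ⟨d, hd, k, hdk⟩ := hdec _ (apl_mem γ⁻¹ (hZP hzZ))
    obtain ⟨d', hd', l, hdl⟩ := hdec _ (apl_mem γ⁻¹ (hZP hc))
    have hkp : ¬ p ∣ k := fun hk => hz' (by rw [hdk]; exact Subgroup.mul_mem _ hd (hmodp k hk))
    obtain ⟨e, -, he⟩ := Nat.exists_mul_mod_eq_one_of_coprime ((hp.coprime_iff_not_dvd.2 hkp).symm) hp.one_lt
    refine ⟨e * (l * (p - 1)), ?_⟩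
    have hm := (iso_apl hPS (inv_mem hγ)).1
    rw [hm.map_mul (hZP hc) (P.pow_mem (hZP hzZ) _), hm.map_pow (hZP hzZ), hdk, hdl,
      (zS_comm hd (S.pow_mem hx k)).symm.mul_pow, ← pow_mul,
      show d' * x ^ l * (d ^ (e * (l * (p - 1))) * x ^ (k * (e * (l * (p - 1))))) =
        d' * (x ^ l * d ^ (e * (l * (p - 1)))) * x ^ (k * (e * (l * (p - 1)))) by group,
      (zS_comm ((zS S).pow_mem hd _) (S.pow_mem hx l)).eq, ← mul_assoc, mul_assoc (d' * _), ← pow_add]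
    refine Subgroup.mul_mem _ (Subgroup.mul_mem _ hd' ((zS S).pow_mem hd _)) (hmodp _ ?_)
    refine ⟨(k * e / p) * (l * (p - 1)) + l, ?_⟩
    have h5 := Nat.div_add_mod (k * e) p
    rw [he] at h5
    rw [← mul_assoc k e]
    generalize k * e / p = q at h5 ⊢
    rw [← h5]
    obtain ⟨r, rfl⟩ : ∃ r, p = r + 1 := ⟨p - 1, by have := hp.pos; omega⟩
    rw [Nat.add_sub_cancel]
    ring
  -- commutators with `x` in the centre are powers of `z`
  have hpow : ∀ a ∈ z2 S ⊓ A, ∃ i : ℕ, br a x = z ^ i := by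
    intro a ha
    obtain ⟨-, hdz⟩ := hsplit γ₀ hγ₀ ⟨c₀, hc₀, hmove₀⟩
    obtain ⟨i, hi⟩ := hdz _ (ha.1.2 x hx)
    refine ⟨(p - 1) * i, ?_⟩
    rw [← hbrp a ha i] at hi
    have h1 := hsep γ₀ hγ₀ ⟨c₀, hc₀, hmove₀⟩ _ (Subgroup.mul_mem _ ha (Subgroup.pow_mem _ ha₀ i)) hi
    rw [hbrp a ha i, mul_eq_one_iff_eq_inv] at h1
    rw [h1, inv_eq_iff_mul_eq_one, ← pow_add,
      show i + (p - 1) * i = p * i by
        obtain ⟨r, rfl⟩ : ∃ r, p = r + 1 := ⟨p - 1, by have := hp.pos; omega⟩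
        rw [Nat.add_sub_cancel]; ring, pow_mul, hzp, one_pow]
  obtain ⟨τ, hτ', hτx⟩ := exists_mem_autInducedBy ha₀.1.1 (hzn a₀ ha₀).2
  have hτ : τ ∈ G := autInducedBy_le_autGroup hPS hτ'
  have hzP := hZP hzZ
  have hτfix : ∀ c ∈ zS S, apl τ c = c := fun c hc => by rw [hτx c (hZP hc), h.zS_normal ha₀.1.1 hc]
  have hτmove : ∀ u ∈ P, ∃ k : ℕ, apl τ u = u * z ^ k := fun u hu => by
    obtain ⟨c, hc, k, rfl⟩ := hdec u hu
    exact ⟨k, by rw [hτx _ hu, hact a₀ ha₀ c hc k]⟩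
  have hmul : ∀ γ ∈ G, ∀ u ∈ P, ∀ v ∈ P, apl γ (u * v) = apl γ u * apl γ v := fun γ hγ u hu v hv =>
    (iso_apl hPS hγ).1.map_mul hu hv
  have hpowG : ∀ γ ∈ G, ∀ u ∈ P, ∀ n : ℕ, apl γ (u ^ n) = apl γ u ^ n := fun γ hγ u hu n =>
    (iso_apl hPS hγ).1.map_pow hu n
  have hNτ : ∀ g ∈ normalizerIn S P, ∃ k : ℕ, ∀ u ∈ P, apl (τ ^ k) u = g * u * g⁻¹ := by
    intro g hg
    obtain ⟨a, ha, hau⟩ := hconjA g hg
    obtain ⟨i, hi⟩ := hpow a ha
    refine ⟨i, fun u hu => ?_⟩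
    obtain ⟨c, hc, k, rfl⟩ := hdec u hu
    rw [hau _ hu, hact a ha c hc k, hi, ← pow_mul]
    have hit : ∀ n : ℕ, apl (τ ^ n) (c * x ^ k) = c * x ^ k * z ^ (n * k) := by
      intro n
      induction n with
      | zero => rw [pow_zero, apl_one hu, zero_mul, pow_zero, mul_one]
      | succ n ih =>
        rw [pow_succ', apl_mul _ _ hu, ih, hmul τ hτ _ hu _ (P.pow_mem hzP _),
          hτfix _ ((zS S).pow_mem hzZ _), hτx _ hu, hact a₀ ha₀ c hc k, ← hzdef, mul_assoc, ← pow_add]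
        congr 2; ring
    exact hit i
  refine ⟨z, hzZ, ?_, hzp, hz1, ⟨γ₀, hγ₀, c₀, hc₀, hmove₀⟩, ?_, ?_⟩
  · intro x' hx'P hx'A hx'
    obtain ⟨c, hc, k, rfl⟩ := hdec x' hx'P
    have hkp : ¬ p ∣ k := fun hk => hx'A (h.zS_le (Subgroup.mul_mem _ hc (hmodp k hk)))
    obtain ⟨e, -, he⟩ := Nat.exists_mul_mod_eq_one_of_coprime ((hp.coprime_iff_not_dvd.2 hkp).symm) hp.one_lt
    refine (h.mem_img hx').2 ⟨a₀ ^ e, A.pow_mem ha₀.2 e, ?_⟩
    have hb := ha₀.1.2
    have e1 : br a₀ (c * x ^ k) = z ^ k := by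
      rw [show br a₀ (c * x ^ k) = a₀ * (c * x ^ k) * a₀⁻¹ * (c * x ^ k)⁻¹ by rfl, hact a₀ ha₀ c hc k,
        (zS_comm ((zS S).pow_mem hzZ k) hx').eq, mul_inv_cancel_right]
    have e2 := congrArg Subtype.val (map_pow (h.phi hx') ⟨a₀, ha₀.2⟩ e)
    simp only [AI.phi, MonoidHom.coe_mk, OneHom.coe_mk, SubmonoidClass.coe_pow] at e2
    rw [e2, e1, ← pow_mul, ← Nat.div_add_mod (k * e) p, he, pow_add, pow_mul, hzp, one_pow, one_mul, pow_one]
  · rw [h.card_z2 hx hxA, mul_comm p]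
    congr 1
    have e : zS S ⊓ h.img hx = Subgroup.zpowers z := by
      refine le_antisymm (fun c hc => ?_) (Subgroup.zpowers_le.2 ⟨hzZ, (h.mem_img hx).2 ⟨a₀, ha₀.2, rfl⟩⟩)
      obtain ⟨a, ha, rfl⟩ := (h.mem_img hx).1 hc.2
      obtain ⟨i, hi⟩ := hpow a ⟨(h.mem_z2_iff hx hxA ha).2 hc.1, ha⟩
      rw [hi]
      exact Subgroup.pow_mem _ (Subgroup.mem_zpowers z) i
    rw [e, Nat.card_zpowers, orderOf_eq_prime hzp hz1]
  intro γ hγ hmv c
  obtain ⟨hz', hdz⟩ := hsplit γ hγ hmv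
  refine ⟨hdz c, hz', ?_⟩
  -- the torus
  have hγi : γ⁻¹ ∈ G := inv_mem hγ
  set w := apl γ z with hw
  have hwP : w ∈ P := apl_mem _ hzP
  have hwp : w ^ p = 1 := by rw [hw, ← hpowG _ hγ _ hzP, hzp, (iso_apl hPS hγ).1.map_one]
  have hmv' : ∃ c ∈ zS S, apl γ⁻¹ c ∉ zS S := ⟨z, hzZ, hz'⟩
  have hwZ : w ∉ zS S := fun e => hz1 (hsep γ⁻¹ hγi hmv' a₀ ha₀ (by rw [inv_inv]; exact e))
  set σ := γ * τ * γ⁻¹ with hσ
  have hσG : σ ∈ G := mul_mem (mul_mem hγ hτ) hγi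
  have hσm : ∀ u ∈ P, ∃ k : ℕ, apl σ u = u * w ^ k := by
    intro u hu
    obtain ⟨k, hk⟩ := hτmove _ (apl_mem γ⁻¹ hu)
    refine ⟨k, ?_⟩
    rw [hσ, apl_mul _ _ hu, apl_mul _ _ (apl_mem _ hu), hk,
      hmul _ hγ _ (apl_mem _ hu) _ (P.pow_mem hzP k), apl_apl_inv _ hu, hpowG _ hγ _ hzP]
  have hσfix : ∀ d ∈ P, apl γ⁻¹ d ∈ zS S → apl σ d = d := fun d hd hd' => by
    rw [hσ, apl_mul _ _ hd, apl_mul _ _ (apl_mem _ hd), hτfix _ hd', apl_apl_inv _ hd]
  have hσw : apl σ w = w := hσfix w hwP (by rw [hw, apl_inv_apl _ hzP]; exact hzZ)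
  obtain ⟨dw, hdw, kw, hkw⟩ := hdec w hwP
  have hkwp : ¬ p ∣ kw := fun hk => hwZ (by rw [hkw]; exact Subgroup.mul_mem _ hdw (hmodp kw hk))
  obtain ⟨ew, -, hew⟩ := Nat.exists_mul_mod_eq_one_of_coprime ((hp.coprime_iff_not_dvd.2 hkwp).symm) hp.one_lt
  -- `P = Y ⟨z⟩ ⟨w⟩`
  have hdP : ∀ u ∈ P, ∃ d, (d ∈ zS S ∧ apl γ⁻¹ d ∈ zS S) ∧ ∃ i l : ℕ, u = d * z ^ i * w ^ l := by
    intro u hu
    obtain ⟨cu, hcu, k, rfl⟩ := hdec u hu
    have hmod : p ∣ kw * (ew * k) * (p - 1) + k := by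
      refine ⟨(kw * ew / p) * k * (p - 1) + k, ?_⟩
      have h5 := Nat.div_add_mod (kw * ew) p
      rw [hew] at h5
      rw [← mul_assoc kw ew k]
      generalize kw * ew / p = q at h5 ⊢
      rw [← h5]
      obtain ⟨r, rfl⟩ : ∃ r, p = r + 1 := ⟨p - 1, by have := hp.pos; omega⟩
      rw [Nat.add_sub_cancel]; ring
    have hc1 : cu * x ^ k * w ^ (ew * k * (p - 1)) ∈ zS S := by
      rw [hkw, (zS_comm hdw (S.pow_mem hx kw)).symm.mul_pow,
        show cu * x ^ k * (dw ^ (ew * k * (p - 1)) * (x ^ kw) ^ (ew * k * (p - 1))) =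
          cu * (x ^ k * dw ^ (ew * k * (p - 1))) * (x ^ kw) ^ (ew * k * (p - 1)) by group,
        (zS_comm ((zS S).pow_mem hdw _) (S.pow_mem hx k)).eq, ← mul_assoc, mul_assoc (cu * _),
        ← pow_mul, ← pow_add]
      refine Subgroup.mul_mem _ (Subgroup.mul_mem _ hcu ((zS S).pow_mem hdw _)) (hmodp _ ?_)
      rwa [← mul_assoc kw, add_comm]
    obtain ⟨i, hi⟩ := hdz _ hc1
    refine ⟨cu * x ^ k * w ^ (ew * k * (p - 1)) * z ^ i, ⟨Subgroup.mul_mem _ hc1 ((zS S).pow_mem hzZ i), hi⟩,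
      (p - 1) * i, ew * k, ?_⟩
    have e1 : z ^ i * z ^ ((p - 1) * i) = 1 := by
      rw [← pow_add, show i + (p - 1) * i = p * i by
        obtain ⟨r, rfl⟩ : ∃ r, p = r + 1 := ⟨p - 1, by have := hp.pos; omega⟩
        rw [Nat.add_sub_cancel]; ring, pow_mul, hzp, one_pow]
    have e2 : w ^ (ew * k * (p - 1)) * w ^ (ew * k) = 1 := by
      rw [← pow_add, show ew * k * (p - 1) + ew * k = p * (ew * k) by
        obtain ⟨r, rfl⟩ : ∃ r, p = r + 1 := ⟨p - 1, by have := hp.pos; omega⟩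
        rw [Nat.add_sub_cancel]; ring, pow_mul, hwp, one_pow]
    calc cu * x ^ k = cu * x ^ k * (w ^ (ew * k * (p - 1)) * w ^ (ew * k)) := by rw [e2, mul_one]
      _ = cu * x ^ k * w ^ (ew * k * (p - 1)) * (z ^ i * z ^ ((p - 1) * i)) * w ^ (ew * k) := by
          rw [e1, mul_one]; group
      _ = _ := by group
  obtain ⟨m, hm⟩ := hτmove w hwP
  have hmp : ¬ p ∣ m := fun ⟨r, hr⟩ => hwZ (by
    have h1 : apl τ w = w := by rw [hm, hr, pow_mul, hzp, one_pow, mul_one]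
    rw [hτx w hwP, hkw, hact a₀ ha₀ dw hdw kw, ← hzdef, mul_eq_left] at h1
    have h2 := orderOf_dvd_of_pow_eq_one h1
    rw [orderOf_eq_prime hzp hz1] at h2
    exact absurd h2 hkwp)
  obtain ⟨j, -, hj⟩ := Nat.exists_mul_mod_eq_one_of_coprime ((hp.coprime_iff_not_dvd.2 hmp).symm) hp.one_lt
  obtain ⟨m', hm'⟩ := hσm z hzP
  have hm'p : ¬ p ∣ m' := fun ⟨r, hr⟩ => by
    have h1 : apl σ z = z := by rw [hm', hr, pow_mul, hwp, one_pow, mul_one]
    rw [hσ, apl_mul _ _ hzP, apl_mul _ _ (apl_mem _ hzP)] at h1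
    have h2 := congrArg (apl γ⁻¹) h1
    rw [apl_inv_apl _ (apl_mem _ (apl_mem _ hzP))] at h2
    obtain ⟨d, hd, k, hdk⟩ := hdec _ (apl_mem γ⁻¹ hzP)
    rw [hdk, hτx _ (P.mul_mem (hZP hd) (P.pow_mem hxP k)), hact a₀ ha₀ d hd k, ← hzdef, mul_eq_left] at h2
    have h3 := orderOf_dvd_of_pow_eq_one h2
    rw [orderOf_eq_prime hzp hz1] at h3
    exact hz' (by rw [hdk]; exact Subgroup.mul_mem _ hd (hmodp k h3))
  obtain ⟨j', -, hj'⟩ := Nat.exists_mul_mod_eq_one_of_coprime ((hp.coprime_iff_not_dvd.2 hm'p).symm) hp.one_lt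
  have hτn : ∀ n : ℕ, (∀ u ∈ zS S, apl (τ ^ n) u = u) ∧ apl (τ ^ n) w = w * z ^ (m * n) := by
    intro n
    induction n with
    | zero => exact ⟨fun u hu => by rw [pow_zero, apl_one (hZP hu)],
        by rw [pow_zero, apl_one hwP, mul_zero, pow_zero, mul_one]⟩
    | succ n ih =>
      refine ⟨fun u hu => by rw [pow_succ', apl_mul _ _ (hZP hu), ih.1 u hu, hτfix u hu], ?_⟩
      rw [pow_succ' τ, apl_mul _ _ hwP, ih.2, hmul _ hτ _ hwP _ (P.pow_mem hzP _),
        hτfix _ ((zS S).pow_mem hzZ _), hm, mul_assoc, ← pow_add]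
      congr 2; ring
  have hσn : ∀ n : ℕ, apl (σ ^ n) w = w ∧ (∀ d ∈ zS S, apl γ⁻¹ d ∈ zS S → apl (σ ^ n) d = d) ∧
      apl (σ ^ n) z = z * w ^ (m' * n) := by
    intro n
    induction n with
    | zero => exact ⟨by rw [pow_zero, apl_one hwP], fun d hd _ => by rw [pow_zero, apl_one (hZP hd)],
        by rw [pow_zero, apl_one hzP, mul_zero, pow_zero, mul_one]⟩
    | succ n ih =>
      refine ⟨by rw [pow_succ', apl_mul _ _ hwP, ih.1, hσw],
        fun d hd hd' => by rw [pow_succ', apl_mul _ _ (hZP hd), ih.2.1 d hd hd', hσfix d (hZP hd) hd'], ?_⟩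
      rw [pow_succ' σ, apl_mul _ _ hzP, ih.2.2, hmul _ hσG _ hzP _ (P.pow_mem hwP _), hm',
        hpowG _ hσG _ hwP, hσw, mul_assoc, ← pow_add]
      congr 2; ring
  set T := τ ^ (j * (p - 1)) with hTdef
  set U := σ ^ j' with hUdef
  have hTG : T ∈ G := pow_mem hτ _
  have hUG : U ∈ G := pow_mem hσG _
  have hTw : apl T w = w * z ^ (p - 1) := by
    rw [hTdef, (hτn _).2, ← mul_assoc, ← Nat.div_add_mod (m * j) p, hj, add_mul, one_mul, pow_add, mul_assoc p,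
      pow_mul, hzp, one_pow, one_mul]
  have hUz : apl U z = z * w := by
    rw [hUdef, (hσn _).2.2, ← Nat.div_add_mod (m' * j') p, hj', pow_succ, pow_mul, hwp, one_pow, one_mul]
  set R := T * U * T with hRdef
  have hRG : R ∈ G := mul_mem (mul_mem hTG hUG) hTG
  have hTz : ∀ u ∈ zS S, apl T u = u := (hτn _).1
  have hUw : apl U w = w := (hσn _).1
  have czw : Commute z w := hcomm z hzP w hwP
  have hRz : apl R z = w := by
    rw [hRdef, apl_mul _ _ hzP, apl_mul _ _ (apl_mem _ hzP), hTz z hzZ, hUz,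
      hmul _ hTG _ hzP _ hwP, hTz z hzZ, hTw, ← mul_assoc, czw.eq, mul_assoc, ← pow_succ',
      Nat.sub_add_cancel hp.one_le, hzp, mul_one]
  have hRw : apl R w = z ^ (p - 1) := by
    have h2 : apl U (w * z ^ (p - 1)) = z ^ (p - 1) := by
      rw [hmul _ hUG _ hwP _ (P.pow_mem hzP _), hpowG _ hUG _ hzP, hUw, hUz, czw.mul_pow, ← mul_assoc,
        ((czw.pow_left (p - 1)).symm).eq, mul_assoc, ← pow_succ', Nat.sub_add_cancel hp.one_le, hwp, mul_one]
    rw [hRdef, apl_mul _ _ hwP, apl_mul _ _ (apl_mem _ hwP), hTw, h2, hTz _ ((zS S).pow_mem hzZ _)]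
  set δ := R * R with hδdef
  have hδG : δ ∈ G := mul_mem hRG hRG
  have hδz : apl δ z = z ^ (p - 1) := by rw [hδdef, apl_mul _ _ hzP, hRz, hRw]
  have hδw : apl δ w = w ^ (p - 1) := by rw [hδdef, apl_mul _ _ hwP, hRw, hpowG _ hRG _ hzP, hRz]
  have hRd : ∀ d ∈ zS S, apl γ⁻¹ d ∈ zS S → apl R d = d := fun d hd hd' => by
    rw [hRdef, apl_mul _ _ (hZP hd), apl_mul _ _ (apl_mem _ (hZP hd)), hTz d hd, hUdef,
      (hσn _).2.1 d hd hd', hTz d hd]
  have hδd : ∀ d ∈ zS S, apl γ⁻¹ d ∈ zS S → apl δ d = d := fun d hd hd' => by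
    rw [hδdef, apl_mul _ _ (hZP hd), hRd d hd hd', hRd d hd hd']
  have hcom : δ * τ = τ * δ := apl_ext fun u hu => by
    obtain ⟨d, hd, i, l, rfl⟩ := hdP u hu
    have hdE := hZP hd.1
    have hca := P.mul_mem hdE (P.pow_mem hzP i)
    have hτw : apl τ (apl δ w) = apl δ (apl τ w) := by
      rw [hδw, hm, hmul _ hδG _ hwP _ (P.pow_mem hzP m), hpowG _ hτ _ hwP, hm, hpowG _ hδG _ hzP, hδw, hδz,
        (czw.pow_left m).symm.mul_pow, ← pow_mul, ← pow_mul, mul_comm m]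
    have hτzd : apl τ (apl δ (d * z ^ i)) = apl δ (apl τ (d * z ^ i)) := by
      rw [hτfix _ ((zS S).mul_mem hd.1 ((zS S).pow_mem hzZ i)), hmul _ hδG _ hdE _ (P.pow_mem hzP i),
        hpowG _ hδG _ hzP, hδz, hδd d hd.1 hd.2,
        hτfix _ ((zS S).mul_mem hd.1 ((zS S).pow_mem ((zS S).pow_mem hzZ _) i))]
    rw [apl_mul _ _ hu, apl_mul _ _ hu, hmul _ hτ _ hca _ (P.pow_mem hwP l),
      hmul _ hδG _ (apl_mem _ hca) _ (apl_mem _ (P.pow_mem hwP l)), hmul _ hδG _ hca _ (P.pow_mem hwP l),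
      hmul _ hτ _ (apl_mem _ hca) _ (apl_mem _ (P.pow_mem hwP l)), ← hτzd, hpowG _ hτ _ hwP,
      hpowG _ hδG _ (apl_mem _ hwP), hpowG _ hδG _ hwP, hpowG _ hτ _ (apl_mem _ hwP), hτw]
  have hSN : normalizerIn S P ≤ nPhi S P (apl δ) := by
    intro g hg
    obtain ⟨k, hk⟩ := hNτ g hg
    refine ⟨hg.1, hg.2, g, hg.1, fun u hu => ?_⟩
    rw [← hk u hu, ← hk _ (apl_mem δ hu), ← apl_mul _ _ hu, ← apl_mul _ _ hu,
      ((show Commute δ τ from hcom).pow_right k).eq]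
  obtain ⟨f, hf, hfu⟩ := (isReceptive_iff.1 (receptive_of_fullyNormalized h.pgrp hF hP.2.1)).2 P _
    (iso_apl hPS hδG)
  exact ⟨f, hf.mono hSN, (hfu z hzP).trans hδz, fun d hd hd' => (hfu d (hZP hd)).trans (hδd d hd hd')⟩

end Cfsg.Agent.FusSys.AbIndexP
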