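import Cfsg.Agent.FusSys.AbIndexPGlobal

/-!
Core-free systems in which the abelian subgroup of index `p` is not essential.
-/

set_option autoImplicit false

namespace Cfsg.Agent.FusSys.AbIndexP

open Cfsg Cfsg.FusionSystem Cfsg.Agent.FusSys Cfsg.Agent.FusSys.StrongExtra
open Cfsg.Agent.FusSys.SmallCentral (zS zS_comm)

universe u

variable {Ω : Type u} [Group Ω] {S A P : Subgroup Ω} {F : FusionSystem S} {p : ℕ}

/-- A map on a subgroup of order at least `k` acts on the centre as an automorphism of `S` does. -/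
def ZRel (F : FusionSystem S) (k : ℕ) (X : Subgroup Ω) (f : Ω → Ω) : Prop :=
  X ≤ S ∧ (∀ x ∈ X, f x ∈ S) ∧ (k ≤ Nat.card X →
    ∃ α ∈ F.autGroup S, ∀ x ∈ X, (x ∈ zS S ↔ f x ∈ zS S) ∧ (x ∈ zS S → f x = apl α x))

theorem zS_apl_iff {α : MulAut S} (hα : α ∈ F.autGroup S) {x : Ω} (hx : x ∈ S) :
    x ∈ zS S ↔ apl α x ∈ zS S :=
  ⟨SmallCentral.aut_zS hα, fun h => by
    have h1 := SmallCentral.aut_zS (inv_mem hα) h
    rwa [apl_inv_apl α hx] at h1⟩

theorem subRel_zRel [Finite S] (k : ℕ) : SubRel F S (ZRel F k) where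
  congr := fun {P f g} hPf hgf => ⟨hPf.1, fun x hx => by rw [hgf x hx]; exact hPf.2.1 x hx, fun hk => by
    obtain ⟨α, hα, hαx⟩ := hPf.2.2 hk
    exact ⟨α, hα, fun x hx => by rw [hgf x hx]; exact hαx x hx⟩⟩
  le := fun h => ⟨h.1, h.2.1⟩
  conj := fun {P s} hP hs => ⟨(mor_conj le_rfl hs).mono hP, hP,
    fun x hx => S.mul_mem (S.mul_mem hs (hP hx)) (S.inv_mem hs), fun _ =>
    ⟨1, one_mem _, fun x hx => by
      have hxS := hP hx
      dsimp only
      refine ⟨⟨fun hz => ?_, fun hz => ?_⟩, fun hz => ?_⟩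
      · rwa [(zS_comm hz hs).eq, mul_inv_cancel_right]
      · have h1 := zS_comm hz (S.inv_mem hs)
        have e : x = s * x * s⁻¹ := by
          calc x = s⁻¹ * (s * x * s⁻¹) * s := by group
            _ = _ := by rw [h1.eq]; group
        rwa [e]
      · rw [(zS_comm hz hs).eq, mul_inv_cancel_right, apl_one hxS]⟩⟩
  comp := fun {P Q f g} hf hPf hg hQg hmaps => ⟨hPf.1, fun x hx => hQg.2.1 _ (hmaps x hx), fun hk => by
    obtain ⟨α, hα, hαx⟩ := hPf.2.2 hk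
    have hkQ : k ≤ Nat.card Q := by
      haveI := finite_of_le hQg.1
      exact hk.trans (Nat.card_le_card_of_injective (fun x : P => (⟨f x, hmaps x x.2⟩ : Q))
        fun a b e => Subtype.ext (hf.injOn a.2 b.2 (congrArg Subtype.val e)))
    obtain ⟨β, hβ, hβx⟩ := hQg.2.2 hkQ
    refine ⟨β * α, mul_mem hβ hα, fun x hx => ?_⟩
    obtain ⟨a1, a2⟩ := hαx x hx
    obtain ⟨b1, b2⟩ := hβx _ (hmaps x hx)
    refine ⟨a1.trans b1, fun hz => ?_⟩
    show g (f x) = _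
    rw [b2 (a1.1 hz), a2 hz, apl_mul _ _ (hPf.1 hx)]⟩
  inv := fun {P Q f g} hf hPf hg hgf => ⟨hf.right_le, fun x hx => hPf.1 (hg.mem hx), fun hk => by
    obtain ⟨α, hα, hαx⟩ := hPf.2.2 (by rwa [hf.card_eq])
    refine ⟨α⁻¹, inv_mem hα, fun y hy => ?_⟩
    obtain ⟨x, hx, rfl⟩ := hf.exists_eq hy
    obtain ⟨a1, a2⟩ := hαx x hx
    rw [hgf x hx]
    exact ⟨a1.symm, fun hz => by rw [a2 (a1.2 hz), apl_inv_apl α (hPf.1 hx)]⟩⟩

/-- The elements of the centre that `γ⁻¹` keeps in the centre. -/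
def fixedPart (hPS : P ≤ S) (hZ : zS S ≤ P) {γ : MulAut P} (hγ : γ ∈ F.autGroup P) : Subgroup Ω where
  carrier := {d | d ∈ zS S ∧ apl γ⁻¹ d ∈ zS S}
  one_mem' := ⟨Subgroup.one_mem _, by
    rw [(iso_apl (F := F) hPS (inv_mem hγ)).1.map_one]; exact Subgroup.one_mem _⟩
  mul_mem' := fun {a b} ha hb => ⟨Subgroup.mul_mem _ ha.1 hb.1, by
    rw [(iso_apl (F := F) hPS (inv_mem hγ)).1.map_mul (hZ ha.1) (hZ hb.1)]
    exact Subgroup.mul_mem _ ha.2 hb.2⟩
  inv_mem' := fun {a} ha => ⟨Subgroup.inv_mem _ ha.1, by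
    rw [(iso_apl (F := F) hPS (inv_mem hγ)).1.map_inv (hZ ha.1)]
    exact Subgroup.inv_mem _ ha.2⟩

variable [Fact p.Prime] [Finite S] (h : AI p S A) (hF : F.IsSaturated p)
include h hF

theorem AI.nonab_center {x : Ω} (hP : F.IsEssential p P) (hPA : P ≠ A) (hsh : Shape p S A P x)
    (hb : P ⊓ A = z2 S ⊓ A) : zS S ≤ P ∧ ∀ γ ∈ F.autGroup P, ∀ c ∈ zS S, apl γ c ∈ zS S := by
  have hp := (Fact.out : p.Prime)
  have hPS := hP.1.1
  have hxP := hsh.x_mem
  have hx := hPS hxP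
  have hzz : zS S ≤ z2 S ⊓ A := fun c hc => ⟨⟨hc.1, fun t ht => by
    rw [br_eq_one.2 (zS_comm hc ht).eq.symm]; exact Subgroup.one_mem _⟩, h.zS_le hc⟩
  have hZP : zS S ≤ P := hzz.trans (hb ▸ inf_le_left)
  refine ⟨hZP, fun γ hγ c hc => ?_⟩
  obtain ⟨y, hy, hyx⟩ : ∃ y ∈ P ⊓ A, br y x ≠ 1 := by
    by_contra hall
    push Not at hall
    have hle : P ⊓ A ≤ zS S := fun v hv => h.central_of hx hsh.x_not hv.2 (br_eq_one.1 (hall v hv))
    haveI : Finite (zS S) := finite_of_le (inf_le_left : zS S ≤ S)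
    have h1 := Subgroup.card_le_of_le hle
    rw [hb, h.z2_card hF hP hPA] at h1
    exact hp.one_lt.not_ge (Nat.le_of_mul_le_mul_right (by rwa [one_mul]) Nat.card_pos)
  have hm := (iso_apl hPS hγ).1
  have hcomm : ∀ v ∈ P, Commute (apl γ c) v := fun v hv => by
    obtain ⟨v', hv', rfl⟩ := (iso_apl hPS hγ).exists_eq hv
    show apl γ c * apl γ v' = apl γ v' * apl γ c
    rw [← hm.map_mul (hZP hc) hv', ← hm.map_mul hv' (hZP hc), (zS_comm hc (hPS hv')).eq]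
  obtain ⟨a, ha, k, he⟩ := h.decomp hx hsh.x_not (hPS (apl_mem γ (hZP hc)))
  have hax : Commute a x := by
    have h1 := hcomm x hxP
    rw [he] at h1
    have h2 := h1.mul_left ((Commute.refl x).pow_left k).inv_left
    rwa [mul_inv_cancel_right] at h2
  have haZ := h.central_of hx hsh.x_not ha hax
  have hky : Commute (x ^ k) y := by
    have h1 := hcomm y hy.1
    rw [he] at h1
    have h2 := ((zS_comm haZ (hPS hy.1)).symm.inv_left).mul_left h1
    rwa [inv_mul_cancel_left] at h2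
  have hkp : p ∣ k := by
    by_contra hkp
    obtain ⟨e, -, he'⟩ := Nat.exists_mul_mod_eq_one_of_coprime ((hp.coprime_iff_not_dvd.2 hkp).symm) hp.one_lt
    have h3 := (hky.pow_left e)
    rw [← pow_mul, ← Nat.div_add_mod (k * e) p, he', pow_add, pow_mul, pow_one] at h3
    have h4 := ((h.comm _ (h.x_pow_mem hx) y hy.2).pow_left (k * e / p)).inv_left.mul_left h3
    rw [inv_mul_cancel_left] at h4
    exact hyx (br_eq_one.2 h4.symm.eq)
  rw [he]
  refine Subgroup.mul_mem _ haZ (h.central_of hx hsh.x_not ?_ ((Commute.refl x).pow_left k))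
  obtain ⟨r, rfl⟩ := hkp
  rw [pow_mul]
  exact A.pow_mem (h.x_pow_mem hx) r

variable (hAe : ¬ F.IsEssential p A)
include hAe

omit [Fact p.Prime] [Finite S] h hF in
theorem ne_A (hP : F.IsEssential p P) : P ≠ A := fun e => hAe (e ▸ hP)

theorem AI.zRel_of (k : ℕ) (hk : p * Nat.card (zS S) < k)
    (hbig : ∀ (R : Subgroup Ω) (x : Ω), F.IsEssential p R → Shape p S A R x → R ⊓ A = z2 S ⊓ A →
      k ≤ Nat.card R → ∀ γ ∈ F.autGroup R, ∃ α ∈ F.autGroup S, ∀ c ∈ zS S, apl γ c = apl α c) :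
    ∀ X f, Mor F X f → ZRel F k X f := by
  refine alperin_induction h.pgrp hF (subRel_zRel k) fun R hR γ hγ => ?_
  rcases hR with rfl | hR
  · exact ⟨le_rfl, fun x hx => apl_mem γ hx, fun _ => ⟨γ, hγ, fun x hx => ⟨zS_apl_iff hγ hx, fun _ => rfl⟩⟩⟩
  have hRS := hR.1.1
  refine ⟨hRS, fun x hx => hRS (apl_mem γ hx), fun hkR => ?_⟩
  have hRA := ne_A hAe hR
  obtain ⟨x, hsh⟩ := h.shape hF hR hRA
  have hcard := h.card_out hRS hsh.x_mem hsh.x_not
  rcases hsh.base with hb | ⟨hb, -⟩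
  · rw [hb] at hcard
    omega
  obtain ⟨-, hinv⟩ := h.nonab_center hF hR hRA hsh hb
  obtain ⟨α, hα, hαc⟩ := hbig R x hR hsh hb hkR γ hγ
  refine ⟨α, hα, fun v hv => ⟨⟨hinv γ hγ v, fun hz => ?_⟩, hαc v⟩⟩
  have h1 := hinv γ⁻¹ (inv_mem hγ) _ hz
  rwa [apl_inv_apl γ hv] at h1

theorem AI.center_aut {x : Ω} (hP : F.IsEssential p P) (hsh : Shape p S A P x)
    (hb : P ⊓ A = z2 S ⊓ A) :
    ∀ γ ∈ F.autGroup P, ∃ α ∈ F.autGroup S, ∀ c ∈ zS S, apl γ c = apl α c := by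
  classical
  have hp := (Fact.out : p.Prime)
  have hPA := ne_A hAe hP
  have hPS := hP.1.1
  haveI := finite_of_le hPS
  haveI : Finite (MulAut P) := Finite.of_injective _ MulEquiv.toEquiv_injective
  have hzS : zS S ≤ S := inf_le_left
  haveI := finite_of_le hzS
  obtain ⟨hZP, hinv⟩ := h.nonab_center hF hP hPA hsh hb
  set G := F.autGroup P
  set N := normalizerIn S P with hN
  have hNcard : Nat.card N = p ^ 3 * Nat.card (zS S) := by
    have h1 := (P.subgroupOf N).index_mul_card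
    rw [Nat.card_congr (Subgroup.subgroupOfEquivOfLe (le_normalizerIn hPS)).toEquiv,
      h.normalizer_index hF hP hPA, h.card_out hPS hsh.x_mem hsh.x_not, hb, h.z2_card hF hP hPA] at h1
    rw [← h1]; ring
  have hrel := h.zRel_of hF hAe (p ^ 3 * Nat.card (zS S))
    (Nat.mul_lt_mul_of_pos_right (lt_self_pow₀ hp.one_lt (by norm_num)) Nat.card_pos)
    fun R y hR hy hRb hle => by
      exfalso
      have h1 := h.card_out hR.1.1 hy.x_mem hy.x_not
      rw [hRb, h.z2_card hF hR (ne_A hAe hR)] at h1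
      rw [h1, ← mul_assoc, ← pow_two] at hle
      exact (Nat.pow_lt_pow_right hp.one_lt (by norm_num : 2 < 3)).not_ge
        (Nat.le_of_mul_le_mul_right hle Nat.card_pos)
  let Good : Subgroup G :=
    { carrier := {γ | ∃ α ∈ F.autGroup S, ∀ c ∈ zS S, apl (γ : MulAut P) c = apl α c}
      one_mem' := ⟨1, one_mem _, fun c hc => by
        show apl (1 : MulAut P) c = _
        rw [apl_one (hZP hc), apl_one hc.1]⟩
      mul_mem' := by
        rintro γ γ' ⟨α, hα, hαc⟩ ⟨α', hα', hαc'⟩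
        refine ⟨α * α', mul_mem hα hα', fun c hc => ?_⟩
        show apl ((γ : MulAut P) * (γ' : MulAut P)) c = _
        rw [apl_mul _ _ (hZP hc), hαc' c hc, hαc _ (SmallCentral.aut_zS hα' hc), apl_mul _ _ hc.1]
      inv_mem' := by
        rintro γ ⟨α, hα, hαc⟩
        refine ⟨α⁻¹, inv_mem hα, fun c hc => ?_⟩
        show apl (γ : MulAut P)⁻¹ c = _
        have hd := SmallCentral.aut_zS (inv_mem hα) hc
        have h1 := hαc _ hd
        rw [apl_apl_inv α hc.1] at h1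
        conv_lhs => rw [← h1]
        rw [apl_inv_apl _ (hZP hd)] }
  let K : Subgroup G :=
    { carrier := {γ | ∀ c ∈ zS S, apl (γ : MulAut P) c = c}
      one_mem' := fun c hc => apl_one (hZP hc)
      mul_mem' := fun {a b} ha hb' c hc => by
        show apl ((a : MulAut P) * (b : MulAut P)) c = c
        rw [apl_mul _ _ (hZP hc), hb' c hc, ha c hc]
      inv_mem' := fun {a} ha c hc => by
        show apl (a : MulAut P)⁻¹ c = c
        conv_lhs => rw [← ha c hc]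
        rw [apl_inv_apl _ (hZP hc)] }
  haveI : K.Normal := ⟨fun n hn g c hc => by
    have hd := hinv _ (inv_mem g.2) c hc
    show apl ((g : MulAut P) * (n : MulAut P) * (g : MulAut P)⁻¹) c = c
    rw [apl_mul _ _ (hZP hc), apl_mul _ _ (hZP hd), hn _ hd, apl_apl_inv _ (hZP hc)]⟩
  obtain ⟨-, Sy, hSy⟩ := fullyAutomized_of_fullyNormalized h.pgrp hF hP.2.1
  have hSyK : (Sy : Subgroup G) ≤ K := fun s hs c hc => by
    rw [hSy, Subgroup.mem_subgroupOf] at hs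
    obtain ⟨g, hg, -, hgx⟩ := mem_autInducedBy_iff.1 hs
    rw [hgx c (hZP hc), h.zS_normal hg hc]
  have htop : (⊤ : Subgroup G) ≤ Good := by
    rw [← Sylow.normalizer_sup_eq_top' Sy hSyK]
    refine sup_le (fun γ hγ => ?_) fun γ hγ => ⟨1, one_mem _, fun c hc => by rw [hγ c hc, apl_one hc.1]⟩
    have hsub : N ≤ nPhi S P (apl (γ : MulAut P)) := by
      intro g hg
      obtain ⟨τ, hτ', hτx⟩ := exists_mem_autInducedBy hg.1 hg.2
      have hτS : (⟨τ, autInducedBy_le_autGroup hPS hτ'⟩ : G) ∈ (Sy : Subgroup G) := by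
        rw [hSy, Subgroup.mem_subgroupOf]; exact hτ'
      have h2 := (Subgroup.mem_normalizer_iff.1 hγ _).1 hτS
      rw [hSy, Subgroup.mem_subgroupOf] at h2
      obtain ⟨g', hg', -, hg'x⟩ := mem_autInducedBy_iff.1 h2
      refine ⟨hg.1, hg.2, g', hg', fun v hv => ?_⟩
      rw [← hg'x _ (apl_mem _ hv), ← hτx v hv]
      show _ = apl ((γ : MulAut P) * τ * (γ : MulAut P)⁻¹) (apl (γ : MulAut P) v)
      rw [apl_mul _ _ (apl_mem _ hv), apl_inv_apl _ hv, apl_mul _ _ hv]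
    obtain ⟨f, hf, hfv⟩ := (isReceptive_iff.1 (receptive_of_fullyNormalized h.pgrp hF hP.2.1)).2 P _
      (iso_apl hPS γ.2)
    obtain ⟨α, hα, hαv⟩ := (hrel N f (hf.mono hsub)).2.2 hNcard.ge
    exact ⟨α, hα, fun c hc => by
      rw [← hfv c (hZP hc)]; exact (hαv c (le_normalizerIn hPS (hZP hc))).2 hc⟩
  exact fun γ hγ => htop (Subgroup.mem_top (⟨γ, hγ⟩ : G))

/-- A mover of an abelian essential subgroup gives an automorphism of `S` inverting `z`. -/
theorem AI.torus_S {x z : Ω} {γ : MulAut P} (hP : F.IsEssential p P) (hsh : Shape p S A P x)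
    (hb : P ⊓ A = zS S) (hT : Tor h F P z) (hγ : γ ∈ F.autGroup P) (hmv : ∃ c ∈ zS S, apl γ c ∉ zS S) :
    ∃ δ ∈ F.autGroup S, apl δ z = z ^ (p - 1) ∧ ∀ d ∈ zS S, apl γ⁻¹ d ∈ zS S → apl δ d = d := by
  have hp := (Fact.out : p.Prime)
  have hPS := hP.1.1
  have hPA := ne_A hAe hP
  have hzS : zS S ≤ S := inf_le_left
  haveI := finite_of_le hzS
  have hrel := h.zRel_of hF hAe (p ^ 2 * Nat.card (zS S))
    (Nat.mul_lt_mul_of_pos_right (lt_self_pow₀ hp.one_lt (by norm_num)) Nat.card_pos)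
    fun R y hR hy hRb _ => h.center_aut hF hAe hR hy hRb
  obtain ⟨-, -, f, hf, hfz, hfd⟩ := hT.torus γ hγ hmv z
  have hcard : p ^ 2 * Nat.card (zS S) ≤ Nat.card (normalizerIn S P) := by
    have h1 := (P.subgroupOf (normalizerIn S P)).index_mul_card
    rw [Nat.card_congr (Subgroup.subgroupOfEquivOfLe (le_normalizerIn hPS)).toEquiv,
      h.normalizer_index hF hP hPA, h.card_out hPS hsh.x_mem hsh.x_not, hb] at h1
    rw [← h1, pow_two, mul_assoc]
  obtain ⟨δ, hδ, hδv⟩ := (hrel _ f hf).2.2 hcard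
  have hmem : ∀ c ∈ zS S, c ∈ normalizerIn S P := fun c hc => le_normalizerIn hPS (hb.symm ▸ hc : c ∈ P ⊓ A).1
  exact ⟨δ, hδ, by rw [← (hδv z (hmem z hT.z_mem)).2 hT.z_mem, hfz],
    fun d hd hd' => by rw [← (hδv d (hmem d hd)).2 hd, hfd d hd hd']⟩

theorem AI.mem_center_of_abelian {x : Ω} (hP : F.IsEssential p P) (hsh : Shape p S A P x)
    (hb : P ⊓ A = zS S) : zS S ≤ P := hb ▸ inf_le_left

theorem AI.exists_mover (hcore : F.core = ⊥) :
    ∃ P x, F.IsEssential p P ∧ Shape p S A P x ∧ P ⊓ A = zS S := by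
  by_contra hno
  push Not at hno
  have hzS : zS S ≤ S := inf_le_left
  have hbot : zS S = ⊥ := by
    rw [eq_bot_iff, ← hcore]
    refine le_core ((isNormal_iff_essential h.pgrp hF).2 fun R hR => ?_)
    rcases hR with rfl | hR
    · exact ⟨hzS, fun α hα => invariant_of_apl fun x hx => (zS_apl_iff hα hx).symm⟩
    obtain ⟨x, hsh⟩ := h.shape hF hR (ne_A hAe hR)
    rcases hsh.base with hb | ⟨hb, -⟩
    · exact absurd hb (hno R x hR hsh)
    obtain ⟨hZR, hinv⟩ := h.nonab_center hF hR (ne_A hAe hR) hsh hb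
    refine ⟨hZR, fun γ hγ => invariant_of_apl fun v hv => ⟨fun hz => ?_, hinv γ hγ v⟩⟩
    have h1 := hinv γ⁻¹ (inv_mem hγ) _ hz
    rwa [apl_inv_apl γ hv] at h1
  haveI : Nontrivial S := by
    by_contra hnt
    haveI := not_nontrivial_iff_subsingleton.1 hnt
    exact h.nonab ⟨⟨fun _ _ => Subsingleton.elim _ _⟩⟩
  haveI := h.pgrp.center_nontrivial
  rw [SmallCentral.zS_map, Subgroup.map_eq_bot_iff_of_injective _ S.subtype_injective] at hbot
  exact (Subgroup.nontrivial_iff_ne_bot _).1 inferInstance hbot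

theorem AI.core_free (hcore : F.core = ⊥) :
    (∃ x ∈ S, x ∉ A ∧ F.IsEssential p (zS S ⊔ Subgroup.zpowers x)) ∧
      zS S ≤ (commutator ↥S).map S.subtype ∧ Nat.card (zS S) = p := by
  classical
  have hp := (Fact.out : p.Prime)
  obtain ⟨P, x, hP, hsh, hb⟩ := h.exists_mover hF hAe hcore
  have hPS := hP.1.1
  have hPA := ne_A hAe hP
  have hx := hPS hsh.x_mem
  have hZP := h.mem_center_of_abelian hF hAe hP hsh hb
  refine ⟨⟨x, hx, hsh.x_not, ?_⟩, ?_⟩
  · rw [← hb, ← hsh.gen]; exact hP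
  -- `D` has order `p`
  set D := zS S ⊓ (commutator ↥S).map S.subtype with hD
  have hzS : zS S ≤ S := inf_le_left
  haveI : Finite D := finite_of_le (inf_le_left.trans hzS : D ≤ S)
  have hDp : Nat.card D = p := by
    rw [hD, h.commutator_eq hx hsh.x_not, h.card_zimg hF hP hPA hx hsh.x_not]
  have hgen : ∀ z ∈ D, z ≠ 1 → ∀ u ∈ D, ∃ k : ℕ, u = z ^ k := by
    intro z hz hz1 u hu
    haveI : Fact p.Prime := ⟨hp⟩
    have h1 := mem_zpowers_of_prime_card (G := D) (g := ⟨z, hz⟩) (g' := ⟨u, hu⟩) hDp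
      fun e => hz1 (congrArg Subtype.val e)
    obtain ⟨k, hk⟩ := (Submonoid.mem_powers_iff _ _).1 (mem_powers_iff_mem_zpowers.2 h1)
    exact ⟨k, by simpa using (congrArg Subtype.val hk).symm⟩
  have hTD : ∀ {Q : Subgroup Ω} {y w : Ω}, F.IsEssential p Q → Shape p S A Q y → Tor h F Q w → w ∈ D := by
    intro Q y w hQ hy hT
    refine ⟨hT.z_mem, ?_⟩
    rw [h.commutator_eq (hQ.1.1 hy.x_mem) hy.x_not]
    exact hT.z_img hy.x_mem hy.x_not _
  have hDinv : ∀ α ∈ F.autGroup S, ∀ u ∈ D, apl α u ∈ D := by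
    rintro α hα u ⟨hu, ⟨⟨v, hv⟩, hvc, rfl⟩⟩
    refine ⟨SmallCentral.aut_zS hα hu, α ⟨v, hv⟩, ?_, ?_⟩
    · have h1 := Subgroup.map_commutator (⊤ : Subgroup ↥S) ⊤ α.toMonoidHom
      rw [Subgroup.map_top_of_surjective _ α.surjective, ← commutator_def] at h1
      rw [← h1]
      exact ⟨_, hvc, rfl⟩
    · simp [apl_apply _ hv]
  obtain ⟨z, hT⟩ := h.abelian_data hF hP hsh hb
  have hzD := hTD hP hsh hT
  have hzP := hZP hT.z_mem
  obtain ⟨γ₀, hγ₀, hmv₀⟩ := hT.mover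
  set C := fixedPart hPS hZP hγ₀ with hC
  obtain ⟨δ, hδ, hδz, hδC⟩ := h.torus_S hF hAe hP hsh hb hT hγ₀ hmv₀
  have hsplit : ∀ {Q : Subgroup Ω} {w : Ω} {γ : MulAut Q}, Tor h F Q w → γ ∈ F.autGroup Q →
      (∃ c ∈ zS S, apl γ c ∉ zS S) → ∀ u ∈ zS S, ∃ c, (c ∈ zS S ∧ apl γ⁻¹ c ∈ zS S) ∧ ∃ a : ℕ, u = c * w ^ a := by
    intro Q w γ hw hγ hm u hu
    obtain ⟨i, hi⟩ := (hw.torus γ hγ hm u).1 hu
    refine ⟨u * w ^ i, ⟨Subgroup.mul_mem _ hu (Subgroup.pow_mem _ hw.z_mem i), hi⟩, (p - 1) * i, ?_⟩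
    rw [mul_assoc, ← pow_add, show i + (p - 1) * i = p * i by
      obtain ⟨r, rfl⟩ : ∃ r, p = r + 1 := ⟨p - 1, by have := hp.pos; omega⟩
      rw [Nat.add_sub_cancel]; ring, pow_mul, hw.z_pow, one_pow, mul_one]
  have hinC : ∀ δ' ∈ F.autGroup S, apl δ' z = z ^ (p - 1) → ∀ c ∈ zS S, apl δ' c = c → c ∈ C :=
    fun δ' h' hz' c hc hfix => SmallCentral.torus_unique h.pgrp hF h.odd hT.z_mem hT.z_pow hT.z_ne h' hδ hfix
      (fun c hc => hδC c hc.1 hc.2) hz' hδz (fun c hc => hc.1)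
      (fun u hu => by
        obtain ⟨c, hc, a, ha⟩ := hsplit hT hγ₀ hmv₀ u hu
        exact ⟨c, hc, a, ha⟩) hc
  have hCbot : C = ⊥ := by
    rw [eq_bot_iff, ← hcore]
    refine le_core ((isNormal_iff_essential h.pgrp hF).2 fun R hR => ?_)
    suffices hRC : C ≤ R ∧ ∀ γ ∈ F.autGroup R, ∀ c ∈ C, apl γ c ∈ C by
      refine ⟨hRC.1, fun γ hγ => invariant_of_apl fun v hv => ⟨fun hz => ?_, hRC.2 γ hγ v⟩⟩
      have h1 := hRC.2 γ⁻¹ (inv_mem hγ) _ hz
      rwa [apl_inv_apl γ hv] at h1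
    have hCS : ∀ α ∈ F.autGroup S, ∀ c ∈ C, apl α c ∈ C := by
      intro α hα c hc
      have hcS := hc.1.1
      obtain ⟨k, hk⟩ := hgen z hzD hT.z_ne _ (hDinv α⁻¹ (inv_mem hα) z hzD)
      refine hinC (α * δ * α⁻¹) (mul_mem (mul_mem hα hδ) (inv_mem hα)) ?_ _ (SmallCentral.aut_zS hα hc.1) ?_
      · have hzS' := hT.z_mem.1
        rw [apl_mul _ _ hzS', apl_mul _ _ (apl_mem _ hzS'), hk,
          (iso_apl (F := F) le_rfl hδ).1.map_pow hzS', hδz, pow_right_comm,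
          (iso_apl (F := F) le_rfl hα).1.map_pow (S.pow_mem hzS' k), ← hk, apl_apl_inv _ hzS']
      · rw [apl_mul _ _ (apl_mem α hcS), apl_mul _ _ (apl_mem _ (apl_mem α hcS)), apl_inv_apl _ hcS,
          hδC c hc.1 hc.2]
    rcases hR with rfl | hR
    · exact ⟨fun c hc => hc.1.1, hCS⟩
    obtain ⟨y, hy⟩ := h.shape hF hR (ne_A hAe hR)
    rcases hy.base with hbR | ⟨hbR, -⟩
    swap
    · obtain ⟨hZR, -⟩ := h.nonab_center hF hR (ne_A hAe hR) hy hbR
      refine ⟨fun c hc => hZR hc.1, fun γ hγ c hc => ?_⟩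
      obtain ⟨α, hα, hαc⟩ := h.center_aut hF hAe hR hy hbR γ hγ
      rw [hαc c hc.1]
      exact hCS α hα c hc
    have hZR := h.mem_center_of_abelian hF hAe hR hy hbR
    refine ⟨fun c hc => hZR hc.1, fun γ hγ c hc => ?_⟩
    obtain ⟨w, hw⟩ := h.abelian_data hF hR hy hbR
    have hwD := hTD hR hy hw
    -- every mover has fixed part `C`
    have hY : ∀ γ' ∈ F.autGroup R, (∃ c ∈ zS S, apl γ' c ∉ zS S) →
        ∀ d ∈ zS S, (apl γ'⁻¹ d ∈ zS S ↔ d ∈ C) := by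
      intro γ' hγ' hm d hd
      obtain ⟨δ', hδ', hδw, hδfix⟩ := h.torus_S hF hAe hR hy hbR hw hγ' hm
      obtain ⟨k, hk⟩ := hgen w hwD hw.z_ne z hzD
      obtain ⟨k', hk'⟩ := hgen z hzD hT.z_ne w hwD
      refine ⟨fun hd' => hinC δ' hδ' ?_ d hd (hδfix d hd hd'), fun hdC => ?_⟩
      · rw [hk, (iso_apl (F := F) le_rfl hδ').1.map_pow hw.z_mem.1, hδw, pow_right_comm]
      · have hδw' : apl δ w = w ^ (p - 1) := by
          rw [hk', (iso_apl (F := F) le_rfl hδ).1.map_pow hT.z_mem.1, hδz, pow_right_comm]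
        exact (SmallCentral.torus_unique (C₂ := fixedPart hR.1.1 hZR hγ') h.pgrp hF h.odd hw.z_mem hw.z_pow
          hw.z_ne hδ hδ' (hδC d hd hdC.2) (fun c hc => hδfix c hc.1 hc.2) hδw' hδw (fun c hc => hc.1)
          (fun u hu => by
            obtain ⟨c, hc, a, ha⟩ := hsplit hw hγ' hm u hu
            exact ⟨c, hc, a, ha⟩) hd).2
    haveI := finite_of_le hR.1.1
    haveI := finite_of_le hzS
    have hback : ∀ γ' ∈ F.autGroup R, (∀ d ∈ zS S, apl γ' d ∈ zS S) → ∀ d ∈ zS S, apl γ'⁻¹ d ∈ zS S := by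
      intro γ' hγ' hpres d hd
      have hinj : Function.Injective fun v : zS S => (⟨apl γ' v, hpres v v.2⟩ : zS S) := fun a b e =>
        Subtype.ext ((iso_apl hR.1.1 hγ').1.injOn (hZR a.2) (hZR b.2) (congrArg Subtype.val e))
      obtain ⟨v, hv⟩ := Finite.injective_iff_surjective.1 hinj ⟨d, hd⟩
      have e : apl γ' v = d := congrArg Subtype.val hv
      rw [← e, apl_inv_apl _ (hZR v.2)]
      exact v.2
    by_cases hpres : ∀ d ∈ zS S, apl γ d ∈ zS S
    · obtain ⟨g, hg, e, he, hge⟩ := hw.mover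
      have hγi := hback γ hγ hpres
      have hmov : ∃ d ∈ zS S, apl (γ⁻¹ * g) d ∉ zS S := ⟨e, he, fun hh => hge (by
        rw [apl_mul _ _ (hZR he)] at hh
        have h1 := hpres _ hh
        rwa [apl_apl_inv _ (apl_mem _ (hZR he))] at h1)⟩
      refine (hY g hg ⟨e, he, hge⟩ _ (hpres c hc.1)).1 ?_
      have h2 := (hY _ (mul_mem (inv_mem hγ) hg) hmov c hc.1).2 hc
      rwa [mul_inv_rev, inv_inv, apl_mul _ _ (hZR hc.1)] at h2
    · push Not at hpres
      have hmi : ∃ d ∈ zS S, apl γ⁻¹ d ∉ zS S := by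
        by_contra hall
        push Not at hall
        obtain ⟨d, hd, hd'⟩ := hpres
        have h1 := hback γ⁻¹ (inv_mem hγ) hall d hd
        rw [inv_inv] at h1
        exact hd' h1
      have h1 := (hY _ (inv_mem hγ) hmi c hc.1).2 hc
      rw [inv_inv] at h1
      refine (hY γ hγ hpres _ h1).1 ?_
      rw [apl_inv_apl _ (hZR hc.1)]
      exact hc.1
  have hZD : zS S ≤ D := fun u hu => by
    obtain ⟨c, hc, a, rfl⟩ := hsplit hT hγ₀ hmv₀ u hu
    have hc' : c ∈ C := hc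
    rw [hCbot, Subgroup.mem_bot] at hc'
    rw [hc', one_mul]
    exact D.pow_mem hzD a
  exact ⟨hZD.trans inf_le_right, le_antisymm (hDp ▸ Subgroup.card_le_of_le hZD)
    (by haveI := finite_of_le hzS; exact hDp.symm.le.trans (Subgroup.card_le_of_le inf_le_left))⟩

end Cfsg.Agent.FusSys.AbIndexP
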