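import Cfsg.Agent.FusSys.AbIndexP

/-!
Consequences of the existence of an essential subgroup other than the abelian subgroup of index `p`.
-/

set_option autoImplicit false

namespace Cfsg.Agent.FusSys.AbIndexP

open Cfsg Cfsg.FusionSystem Cfsg.Agent.FusSys Cfsg.Agent.FusSys.StrongExtra
open Cfsg.Agent.FusSys.SmallCentral (zS zS_comm)
open scoped commutatorElement

universe u

variable {Ω : Type u} [Group Ω] {S A P : Subgroup Ω} {F : FusionSystem S} {p : ℕ}
variable [Fact p.Prime] [Finite S] (h : AI p S A)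
include h

theorem AI.x_pow_mem {x : Ω} (hx : x ∈ S) : x ^ p ∈ A := by
  haveI : (A.subgroupOf S).Normal := ⟨fun c hc g => h.conj_mem g.2 hc⟩
  have h1 := pow_card_eq_one' (x := ((⟨x, hx⟩ : S) : S ⧸ A.subgroupOf S))
  rw [← Subgroup.index_eq_card, h.index_eq, ← QuotientGroup.mk_pow, QuotientGroup.eq_one_iff] at h1
  exact Subgroup.mem_subgroupOf.1 h1

/-- A subgroup with an element outside `A` has `p` times the order of its part in `A`. -/
theorem AI.card_out {P : Subgroup Ω} (hP : P ≤ S) {x : Ω} (hxP : x ∈ P) (hxA : x ∉ A) :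
    Nat.card P = p * Nat.card (P ⊓ A : Subgroup Ω) := by
  haveI hAn : (A.subgroupOf S).Normal := ⟨fun c hc g => h.conj_mem g.2 hc⟩
  haveI := finite_of_le hP
  let f : P →* S ⧸ A.subgroupOf S := (QuotientGroup.mk' (A.subgroupOf S)).comp (Subgroup.inclusion hP)
  have hk : f.ker = (P ⊓ A).subgroupOf P := by
    ext v
    rw [MonoidHom.mem_ker, Subgroup.mem_subgroupOf, Subgroup.mem_inf]
    show ((Subgroup.inclusion hP v : S) : S ⧸ A.subgroupOf S) = 1 ↔ _
    rw [QuotientGroup.eq_one_iff, Subgroup.mem_subgroupOf]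
    exact ⟨fun e => ⟨v.2, e⟩, fun e => e.2⟩
  have h1 := f.ker.card_mul_index
  rw [Subgroup.index_ker, hk, Nat.card_congr (Subgroup.subgroupOfEquivOfLe inf_le_left).toEquiv] at h1
  have hr : f.range = ⊤ := by
    refine f.range.eq_bot_or_eq_top_of_prime_card (hp := ⟨by
      rw [← Subgroup.index_eq_card, h.index_eq]; exact Fact.out⟩) |>.resolve_left fun hb => ?_
    refine hxA ?_
    have hm : f ⟨x, hxP⟩ ∈ f.range := ⟨_, rfl⟩
    rw [hb, Subgroup.mem_bot] at hm
    exact Subgroup.mem_subgroupOf.1 ((QuotientGroup.eq_one_iff _).1 hm)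
  rw [hr, Subgroup.card_top, ← Subgroup.index_eq_card, h.index_eq] at h1
  rw [← h1, mul_comm]

variable (hF : F.IsSaturated p) (hP : F.IsEssential p P) (hPA : P ≠ A)
include hF hP hPA

theorem AI.z2_card : Nat.card (z2 S ⊓ A : Subgroup Ω) = p * Nat.card (zS S) := by
  obtain ⟨x, hsh⟩ := h.shape hF hP hPA
  rcases hsh.base with hb | ⟨hb, hab⟩
  · obtain ⟨z, hz⟩ := h.abelian_data hF hP hsh hb
    exact hz.card_z2
  have hPS := hP.1.1
  have hxP := hsh.x_mem
  have hx := hPS hxP
  have hp := (Fact.out : p.Prime)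
  -- `Z(S) ≤ P ∩ A` of index at most `p`
  obtain ⟨y, hy, hbr⟩ : ∃ y ∈ P ⊓ A, br y x ≠ 1 := by
    by_contra hall
    push Not at hall
    refine hab ⟨⟨fun u v => Subtype.ext ?_⟩⟩
    have hcen : ∀ c ∈ P ⊓ A, c ∈ zS S := fun c hc => h.central_of hx hsh.x_not hc.2 (br_eq_one.1 (hall c hc))
    obtain ⟨a, ha, i, hu⟩ := h.decomp hx hsh.x_not (hPS u.2)
    obtain ⟨b, hb', j, hv⟩ := h.decomp hx hsh.x_not (hPS v.2)
    have haP : a ∈ P ⊓ A := ⟨by
      have := P.mul_mem u.2 (P.inv_mem (P.pow_mem hxP i))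
      rwa [hu, mul_inv_cancel_right] at this, ha⟩
    have hbP : b ∈ P ⊓ A := ⟨by
      have := P.mul_mem v.2 (P.inv_mem (P.pow_mem hxP j))
      rwa [hv, mul_inv_cancel_right] at this, hb'⟩
    show (u : Ω) * v = v * u
    rw [hu, hv]
    exact (((zS_comm (hcen b hbP) (h.le ha)).mul_right (zS_comm (hcen a haP) (S.pow_mem hx j)).symm).mul_left
      ((zS_comm (hcen b hbP) (S.pow_mem hx i)).mul_right ((Commute.refl x).pow_pow i j))).eq
  -- the image of `P ∩ A` under commutation is cyclic of order `p`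
  have hcardP := h.card_out hPS hxP hsh.x_not
  haveI : Finite (z2 S ⊓ A : Subgroup Ω) := finite_of_le (inf_le_right.trans h.le)
  have hzS : zS S ≤ S := inf_le_left
  haveI : Finite (zS S) := finite_of_le hzS
  have hge : p * Nat.card (zS S) ≤ Nat.card (z2 S ⊓ A : Subgroup Ω) := by
    rw [h.card_z2 hx hsh.x_not, mul_comm p]
    refine Nat.mul_le_mul_left _ ?_
    haveI : Finite (zS S ⊓ h.img hx : Subgroup Ω) := finite_of_le (inf_le_left.trans hzS)
    obtain ⟨r, hr⟩ := IsPGroup.iff_card.1 (h.pgrp.to_le (inf_le_left.trans hzS : zS S ⊓ h.img hx ≤ S))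
    rw [hr]
    refine Nat.le_self_pow (fun h0 => hbr ?_) p
    rw [h0, pow_zero] at hr
    have hmem : br y x ∈ zS S ⊓ h.img hx := ⟨(hb ▸ hy : y ∈ z2 S ⊓ A).1.2 x hx, (h.mem_img hx).2 ⟨y, hy.2, rfl⟩⟩
    rwa [Subgroup.card_eq_one.1 hr, Subgroup.mem_bot] at hmem
  refine le_antisymm ?_ hge
  -- the other abelian maximal subgroup gives the bound
  obtain ⟨γ, hγ, u, hu, huA, hγu⟩ : ∃ γ ∈ F.autGroup P, ∃ u, u ∈ P ∧ u ∈ A ∧ apl γ u ∉ A := by
    by_contra hall
    push Not at hall
    obtain ⟨g, hg, hgP⟩ := SetLike.exists_of_lt (lt_normalizerIn h.pgrp (lt_of_le_of_ne hPS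
      fun e => SmallCentral.not_essential_top' h.pgrp hF (e ▸ hP)))
    obtain ⟨a, ha, k, rfl⟩ := h.decomp hx hsh.x_not hg.1
    have han : a ∈ Subgroup.normalizer (P : Set Ω) := by
      have := Subgroup.mul_mem _ hg.2 (Subgroup.inv_mem _ (Subgroup.le_normalizer (P.pow_mem hxP k)))
      rwa [mul_inv_cancel_right] at this
    let C : ℕ → Subgroup Ω := fun i => if i = 0 then ⊥ else if i = 1 then P ⊓ A else P
    have hmono : Monotone C := monotone_nat_of_le_succ fun i => by
      rcases i with _ | _ | i <;> simp [C]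
    refine hgP (P.mul_mem ?_ (P.pow_mem hxP k))
    refine h.inner_of_chain hF hP C hmono (n := 2) (by simp [C]) (fun γ hγ i v hv hvi => ?_)
      (by simp [C]) (h.le ha) han fun i hi v hv hvi => ?_
    · rcases i with _ | _ | i
      · simp only [C, if_true, Subgroup.mem_bot] at hvi ⊢
        rw [hvi, apl_apply _ P.one_mem]
        exact congrArg Subtype.val (map_one γ)
      · simp only [C, zero_add, one_ne_zero, if_false, if_true] at hvi ⊢
        exact ⟨apl_mem γ hv, hall γ hγ v hvi.1 hvi.2⟩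
      · simpa [C] using apl_mem γ hv
    · rcases i with _ | i
      · simp only [C, zero_add, one_ne_zero, if_false, if_true, Subgroup.mem_bot] at hvi ⊢
        rw [(h.comm a ha v hvi.2).eq, mul_inv_cancel_right, inv_mul_cancel]
      · obtain rfl : i = 0 := by omega
        simp only [C, zero_add, one_ne_zero, if_false, if_true]
        refine ⟨P.mul_mem (P.inv_mem hv) ((Subgroup.mem_normalizer_iff.1 han v).1 hv), ?_⟩
        rw [show v⁻¹ * (a * v * a⁻¹) = v⁻¹ * a * v * a⁻¹ by group]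
        have h1 := h.conj_mem (S.inv_mem (hPS hv)) ha
        rw [inv_inv] at h1
        exact A.mul_mem h1 (A.inv_mem ha)
  have hm := (iso_apl hPS hγ).1
  haveI : (A.subgroupOf S).Normal := ⟨fun c hc g => h.conj_mem g.2 hc⟩
  haveI : Finite P := finite_of_le hPS
  let f : (z2 S ⊓ A : Subgroup Ω) →* S ⧸ A.subgroupOf S :=
    (QuotientGroup.mk' (A.subgroupOf S)).comp (MonoidHom.mk' (fun v : (z2 S ⊓ A : Subgroup Ω) =>
      (⟨apl γ v, hPS (apl_mem γ ((hb.symm ▸ v.2 : (v : Ω) ∈ P ⊓ A)).1)⟩ : S))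
      fun v v' => Subtype.ext (hm.map_mul (hb.symm ▸ v.2 : (v : Ω) ∈ P ⊓ A).1 (hb.symm ▸ v'.2 : (v' : Ω) ∈ P ⊓ A).1))
  have h1 := f.ker.card_mul_index
  rw [Subgroup.index_ker] at h1
  rw [← h1, mul_comm p]
  refine Nat.mul_le_mul ?_ ((Subgroup.card_le_card_group f.range).trans (by
    rw [← Subgroup.index_eq_card, h.index_eq]))
  refine Nat.card_le_card_of_injective (fun v => (⟨apl γ (v : (z2 S ⊓ A : Subgroup Ω)), ?_⟩ : zS S)) ?_
  · have hv : ((v : (z2 S ⊓ A : Subgroup Ω)) : Ω) ∈ P ⊓ A := by rw [hb]; exact (v : (z2 S ⊓ A : Subgroup Ω)).2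
    refine h.central_of (hPS (apl_mem γ hu)) hγu (Subgroup.mem_subgroupOf.1 ((QuotientGroup.eq_one_iff _).1 v.2)) ?_
    show apl γ _ * apl γ u = apl γ u * apl γ _
    rw [← hm.map_mul hv.1 hu, ← hm.map_mul hu hv.1, (h.comm _ hv.2 u huA).eq]
  · intro v v' e
    exact Subtype.ext (Subtype.ext (hm.injOn (hb.symm ▸ v.1.2 : ((v : (z2 S ⊓ A : Subgroup Ω)) : Ω) ∈ P ⊓ A).1
      (hb.symm ▸ v'.1.2 : ((v' : (z2 S ⊓ A : Subgroup Ω)) : Ω) ∈ P ⊓ A).1 (congrArg Subtype.val e)))

theorem AI.z2_le : z2 S ≤ A := by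
  by_contra hout
  have hA2 := h.le_z2_of_out hout
  obtain ⟨x, hsh⟩ := h.shape hF hP hPA
  have hPS := hP.1.1
  have hxP := hsh.x_mem
  have hx := hPS hxP
  have hc := h.z2_card hF hP hPA
  rw [inf_eq_right.2 hA2] at hc
  haveI := finite_of_le h.le
  rcases hsh.base with hb | ⟨hb, -⟩
  swap
  · rw [inf_eq_right.2 hA2] at hb
    refine SmallCentral.not_essential_top' h.pgrp hF ((?_ : P = S) ▸ hP)
    refine eq_of_le_of_card le_rfl hPS ?_
    rw [h.index, h.card_out hPS hxP hsh.x_not, hb]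
  -- `Z(S)⟨x⟩` would be a second abelian subgroup of index `p`
  refine hPA (h.uniq P hPS ⟨⟨fun u v => Subtype.ext ?_⟩⟩ ?_)
  · obtain ⟨a, ha, i, hu⟩ := h.decomp hx hsh.x_not (hPS u.2)
    obtain ⟨b, hb', j, hv⟩ := h.decomp hx hsh.x_not (hPS v.2)
    have haZ : a ∈ zS S := hb ▸ ⟨by
      have := P.mul_mem u.2 (P.inv_mem (P.pow_mem hxP i))
      rwa [hu, mul_inv_cancel_right] at this, ha⟩
    have hbZ : b ∈ zS S := hb ▸ ⟨by
      have := P.mul_mem v.2 (P.inv_mem (P.pow_mem hxP j))
      rwa [hv, mul_inv_cancel_right] at this, hb'⟩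
    show (u : Ω) * v = v * u
    rw [hu, hv]
    exact (((zS_comm hbZ (h.le ha)).mul_right (zS_comm haZ (S.pow_mem hx j)).symm).mul_left
      ((zS_comm hbZ (S.pow_mem hx i)).mul_right ((Commute.refl x).pow_pow i j))).eq
  · have h2 := (P.subgroupOf S).index_mul_card
    rw [Nat.card_congr (Subgroup.subgroupOfEquivOfLe hPS).toEquiv, h.card_out hPS hxP hsh.x_not, hb,
      ← hc, h.index, mul_comm _ (Nat.card A)] at h2
    rw [mul_comm (Nat.card A)] at h2
    exact Nat.eq_of_mul_eq_mul_right Nat.card_pos h2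

theorem AI.normalizer_index : (P.subgroupOf (normalizerIn S P)).index = p := by
  obtain ⟨x, hsh⟩ := h.shape hF hP hPA
  have hPS := hP.1.1
  have hxP := hsh.x_mem
  have hx := hPS hxP
  have hxA := hsh.x_not
  have hp := (Fact.out : p.Prime)
  set N := normalizerIn S P with hN
  have hNS : N ≤ S := inf_le_left
  have hPN : P ≤ N := le_normalizerIn hPS
  haveI := finite_of_le hNS
  -- elements of `N ∩ A` commute with `x` modulo `P ∩ A`
  have hsub : N ⊓ A ≤ (((P ⊓ A).subgroupOf A).comap (h.phi hx)).map A.subtype := fun a ha =>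
    ⟨⟨a, ha.2⟩, ⟨P.mul_mem ((Subgroup.mem_normalizer_iff.1 ha.1.2 x).1 hxP) (P.inv_mem hxP),
      h.br_mem ha.2 hx⟩, rfl⟩
  have hbound : Nat.card (N ⊓ A : Subgroup Ω) ≤ p * Nat.card (P ⊓ A : Subgroup Ω) := by
    haveI := finite_of_le h.le
    haveI : Finite ↥((((P ⊓ A).subgroupOf A).comap (h.phi hx)).map A.subtype) :=
      finite_of_le ((Subgroup.map_subtype_le _).trans h.le)
    refine (Subgroup.card_le_of_le hsub).trans ?_
    rw [Subgroup.card_subtype, h.card_preimage hx hxA]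
    have hz2 := h.z2_card hF hP hPA
    rw [h.card_z2 hx hxA, mul_comm p] at hz2
    have hzimg := Nat.eq_of_mul_eq_mul_left (show 0 < Nat.card (zS S) from by
      haveI := finite_of_le (show zS S ≤ S from inf_le_left); exact Nat.card_pos) hz2
    rcases hsh.base with hb | ⟨hb, -⟩
    · rw [hb, hzimg, mul_comm]
    · rw [hb, h.z2_card hF hP hPA, mul_comm p (p * _)]
      -- the part of `Z₂ ∩ A` in the image has order at most `p ^ 2`
      have hI : Nat.card (z2 S ⊓ A ⊓ h.img hx : Subgroup Ω) ≤ p * p := by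
        set I := z2 S ⊓ A ⊓ h.img hx
        have hIA : I ≤ A := inf_le_left.trans inf_le_right
        haveI := finite_of_le (hIA.trans h.le)
        let f : I →* A := (h.phi hx).comp (Subgroup.inclusion hIA)
        have h1 := f.ker.card_mul_index
        rw [Subgroup.index_ker] at h1
        rw [← h1]
        have hzS : zS S ≤ S := inf_le_left
        haveI := finite_of_le hzS
        haveI : Finite (zS S ⊓ h.img hx : Subgroup Ω) := finite_of_le (inf_le_left.trans hzS)
        refine Nat.mul_le_mul ?_ ?_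
        · rw [← hzimg]
          refine Nat.card_le_card_of_injective (fun v => (⟨(v : I), h.central_of hx hxA (hIA (v : I).2)
            (br_eq_one.1 (congrArg Subtype.val (v.2 : f (v : I) = 1))), (v : I).2.2⟩ :
              (zS S ⊓ h.img hx : Subgroup Ω))) fun v v' e => Subtype.ext (Subtype.ext (congrArg Subtype.val e :))
        · rw [← hzimg]
          refine Nat.card_le_card_of_injective (fun v => (⟨((v : A) : Ω), ?_⟩ :
              (zS S ⊓ h.img hx : Subgroup Ω))) fun v v' e => Subtype.ext (Subtype.ext (congrArg Subtype.val e :))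
          obtain ⟨u, hu⟩ := v.2
          rw [← hu]
          exact ⟨u.2.1.1.2 x hx, (h.mem_img hx).2 ⟨u, hIA u.2, rfl⟩⟩
      calc Nat.card (zS S) * _ ≤ Nat.card (zS S) * (p * p) := Nat.mul_le_mul_left _ hI
        _ = _ := by ring
  have hNcard := h.card_out hNS (hPN hxP) hxA
  have hPcard := h.card_out hPS hxP hxA
  have h1 := (P.subgroupOf N).index_mul_card
  rw [Nat.card_congr (Subgroup.subgroupOfEquivOfLe hPN).toEquiv, hNcard, hPcard] at h1
  obtain ⟨j, hj⟩ := (h.pgrp.to_le hNS).index (P.subgroupOf N)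
  have hj0 : j ≠ 0 := fun h0 => by
    rw [h0, pow_zero, Subgroup.index_eq_one, Subgroup.subgroupOf_eq_top] at hj
    exact (lt_normalizerIn h.pgrp (lt_of_le_of_ne hPS
      fun e => SmallCentral.not_essential_top' h.pgrp hF (e ▸ hP))).not_ge hj
  haveI : Finite (P ⊓ A : Subgroup Ω) := finite_of_le (inf_le_left.trans hPS)
  rw [hj, mul_left_comm] at h1
  have h2 := Nat.eq_of_mul_eq_mul_left hp.pos h1
  have h3 : p ^ j * Nat.card (P ⊓ A : Subgroup Ω) ≤ p ^ 1 * Nat.card (P ⊓ A : Subgroup Ω) := by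
    rw [h2, pow_one]; exact hbound
  have := (Nat.pow_le_pow_iff_right hp.one_lt).1 (Nat.le_of_mul_le_mul_right h3 Nat.card_pos)
  rw [hj, show j = 1 by omega, pow_one]

theorem AI.card_zimg {x : Ω} (hx : x ∈ S) (hxA : x ∉ A) : Nat.card (zS S ⊓ h.img hx : Subgroup Ω) = p := by
  have h1 := h.z2_card hF hP hPA
  rw [h.card_z2 hx hxA, mul_comm p] at h1
  haveI := finite_of_le (show zS S ≤ S from inf_le_left)
  exact Nat.eq_of_mul_eq_mul_left Nat.card_pos h1

omit hF hP hPA in
theorem AI.iterate_mem {x : Ω} (hx : x ∈ S) : ∀ (j : ℕ) (a : A),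
    ((((h.phi hx : A → A))^[j] a : A) : Ω) ∈ Subgroup.lowerCentralSeries S j := by
  intro j
  induction j with
  | zero => exact fun a => by simpa using h.le a.2
  | succ j ih =>
    intro a
    rw [Function.iterate_succ_apply']
    exact Subgroup.commutator_mem_commutator (ih a) hx

/-- The kernels of the iterates of commutation grow by a factor of at most `p`. -/
theorem AI.lcs_not_le {m : ℕ} (hm : Nat.card A = p ^ (m - 1) * Nat.card (zS S)) (h3 : 3 ≤ m) :
    ¬ Subgroup.lowerCentralSeries S (m - 2) ≤ zS S := by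
  intro hle
  obtain ⟨x, hx, hxA⟩ := h.exists_out
  have hp := (Fact.out : p.Prime)
  haveI := finite_of_le h.le
  have hzS : zS S ≤ S := inf_le_left
  haveI := finite_of_le hzS
  let φ : Monoid.End A := h.phi hx
  let K : ℕ → Subgroup A := fun j => MonoidHom.ker (φ ^ j : Monoid.End A)
  have hK1 : Nat.card (K 1) = Nat.card (zS S) := by
    rw [← Nat.card_congr (Subgroup.subgroupOfEquivOfLe h.zS_le).toEquiv]
    congr 1
    apply congrArg (fun L : Subgroup A => ↥L)
    ext a
    rw [Subgroup.mem_subgroupOf]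
    show (φ ^ 1 : Monoid.End A) a = 1 ↔ _
    rw [pow_one]
    exact ⟨fun e => h.central_of hx hxA a.2 (br_eq_one.1 (congrArg Subtype.val e)),
      fun e => Subtype.ext (br_eq_one.2 (zS_comm e hx).eq.symm)⟩
  have hit : ∀ (j : ℕ) (a : A), (φ ^ j : Monoid.End A) a = ((h.phi hx : A → A))^[j] a := fun j a => by
    rw [Monoid.End.coe_pow]; rfl
  have hgrow : ∀ j, 1 ≤ j → Nat.card (K (j + 1)) ≤ p * Nat.card (K j) := by
    intro j hj
    let f : K (j + 1) →* A := (φ : A →* A).comp (K (j + 1)).subtype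
    have h1 := f.ker.card_mul_index
    rw [Subgroup.index_ker] at h1
    have hkerle : Nat.card f.ker ≤ Nat.card (zS S) := by
      refine Nat.card_le_card_of_injective (fun v => (⟨((v : K (j + 1)) : A),
        h.central_of hx hxA ((v : K (j + 1)) : A).2 (br_eq_one.1 (congrArg Subtype.val v.2 :))⟩ : zS S))
        fun v v' e => Subtype.ext (Subtype.ext (Subtype.ext (congrArg Subtype.val e :)))
    -- the image lies in the previous kernel and in the image of commutation
    set R := f.range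
    have hR : R ≤ K j := by
      rintro _ ⟨v, rfl⟩
      show (φ ^ j : Monoid.End A) (φ ((v : K (j + 1)) : A)) = 1
      have h2 : (φ ^ (j + 1) : Monoid.End A) ((v : K (j + 1)) : A) = 1 := v.2
      rwa [pow_succ] at h2
    have hRimg : ∀ r ∈ R, (r : Ω) ∈ h.img hx := by
      rintro _ ⟨v, rfl⟩
      exact (h.mem_img hx).2 ⟨_, ((v : K (j + 1)) : A).2, rfl⟩
    -- `R` meets the centre in at most `p` elements
    haveI : ((zS S).subgroupOf A).Normal := ⟨fun c hc a => by
        rw [Subgroup.mem_subgroupOf] at hc ⊢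
        show (a : Ω) * c * (a : Ω)⁻¹ ∈ zS S
        rw [h.zS_normal (h.le a.2) hc]; exact hc⟩
    let g : R →* A ⧸ (zS S).subgroupOf A := (QuotientGroup.mk' _).comp R.subtype
    haveI : Finite (zS S ⊓ h.img hx : Subgroup Ω) := finite_of_le (inf_le_left.trans hzS)
    have hgker : Nat.card g.ker ≤ p := by
      rw [← h.card_zimg hF hP hPA hx hxA]
      refine Nat.card_le_card_of_injective (fun v => (⟨(((v : R) : A) : Ω),
        Subgroup.mem_subgroupOf.1 ((QuotientGroup.eq_one_iff _).1 v.2), hRimg _ (v : R).2⟩ :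
          (zS S ⊓ h.img hx : Subgroup Ω))) fun v v' e => Subtype.ext (Subtype.ext (Subtype.ext (congrArg Subtype.val e :)))
    have h2 := g.ker.card_mul_index
    rw [Subgroup.index_ker] at h2
    have hgr : Nat.card g.range * Nat.card (zS S) ≤ Nat.card (K j) := by
      haveI : ((zS S).subgroupOf A).Normal := ⟨fun c hc a => by
        rw [Subgroup.mem_subgroupOf] at hc ⊢
        show (a : Ω) * c * (a : Ω)⁻¹ ∈ zS S
        rw [h.zS_normal (h.le a.2) hc]; exact hc⟩
      let π := (QuotientGroup.mk' ((zS S).subgroupOf A)).comp (K j).subtype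
      have hZK : (zS S).subgroupOf A ≤ K j := by
        intro a ha
        rw [Subgroup.mem_subgroupOf] at ha
        show (φ ^ j : Monoid.End A) a = 1
        obtain ⟨i, rfl⟩ : ∃ i, j = i + 1 := ⟨j - 1, by omega⟩
        rw [pow_succ]
        show (φ ^ i : Monoid.End A) (φ a) = 1
        rw [show φ a = 1 from Subtype.ext (br_eq_one.2 (zS_comm ha hx).eq.symm), map_one]
      have h3 := π.ker.card_mul_index
      rw [Subgroup.index_ker] at h3
      have h4 : Nat.card (zS S) ≤ Nat.card π.ker := by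
        refine Nat.card_le_card_of_injective (fun c => (⟨⟨⟨(c : Ω), h.zS_le c.2⟩, hZK (Subgroup.mem_subgroupOf.2 c.2)⟩,
          (QuotientGroup.eq_one_iff _).2 (Subgroup.mem_subgroupOf.2 c.2)⟩ : π.ker)) fun c c' e =>
          Subtype.ext (congrArg (fun v : π.ker => (((v : K j) : A) : Ω)) e :)
      have h5 : g.range ≤ π.range := by
        rintro _ ⟨r, rfl⟩
        exact ⟨⟨r, hR r.2⟩, rfl⟩
      rw [← h3, mul_comm]
      exact Nat.mul_le_mul h4 (Subgroup.card_le_of_le h5)
    calc Nat.card (K (j + 1)) = Nat.card f.ker * Nat.card f.range := h1.symm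
      _ ≤ Nat.card (zS S) * (Nat.card g.ker * Nat.card g.range) := by rw [h2]; exact Nat.mul_le_mul_right _ hkerle
      _ ≤ Nat.card (zS S) * (p * Nat.card g.range) := Nat.mul_le_mul_left _ (Nat.mul_le_mul_right _ hgker)
      _ = p * (Nat.card g.range * Nat.card (zS S)) := by ring
      _ ≤ p * Nat.card (K j) := Nat.mul_le_mul_left _ hgr
  have hbound : ∀ j, 1 ≤ j → Nat.card (K j) ≤ p ^ (j - 1) * Nat.card (zS S) := by
    intro j hj
    induction j, hj using Nat.le_induction with
    | base => rw [hK1, Nat.sub_self, pow_zero, one_mul]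
    | succ j hj ih =>
      refine (hgrow j hj).trans ((Nat.mul_le_mul_left p ih).trans (le_of_eq ?_))
      rw [← mul_assoc, ← pow_succ', show j - 1 + 1 = j + 1 - 1 by omega]
  have htop : K (m - 1) = ⊤ := by
    refine eq_top_iff.2 fun a _ => ?_
    show (φ ^ (m - 1) : Monoid.End A) a = 1
    rw [hit, show m - 1 = m - 2 + 1 by omega, Function.iterate_succ_apply']
    exact Subtype.ext (br_eq_one.2 (zS_comm (hle (h.iterate_mem hx (m - 2) a)) hx).eq.symm)
  have h4 := hbound (m - 1) (by omega)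
  rw [htop, Subgroup.card_top, hm] at h4
  have := (Nat.pow_le_pow_iff_right hp.one_lt).1 (Nat.le_of_mul_le_mul_right h4 Nat.card_pos)
  omega

end Cfsg.Agent.FusSys.AbIndexP
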