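import Mathlib.GroupTheory.FiniteAbelian.Basic
import Mathlib.GroupTheory.PGroup
import Mathlib.GroupTheory.Sylow
import Mathlib.FieldTheory.Finite.Basic
import Mathlib.Algebra.Module.ZMod
import Mathlib.Algebra.Group.Prod

/-!
Automorphism groups of prime-to-`p` order of a finite abelian `p`-group: they are all abelian of
exponent dividing `p - 1` exactly when no invariant is repeated.
-/

set_option autoImplicit false

namespace Cfsg.Agent.FusSys

open scoped commutatorElement

/-- Every finite subgroup of automorphisms of prime-to-`p` order is abelian of exponent dividing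
`p - 1`. -/
def SplitAut (p : ℕ) (G : Type*) [Group G] : Prop :=
  ∀ H : Subgroup (MulAut G), (Nat.card ↥H).Coprime p →
    IsMulCommutative ↥H ∧ ∀ h ∈ H, h ^ (p - 1) = 1

theorem splitAut_congr {p : ℕ} {G : Type*} [Group G] {G' : Type*} [Group G'] (e : G ≃* G')
    (h : SplitAut p G) : SplitAut p G' := by
  intro H hH
  have hinj : Function.Injective (MulAut.congr e).symm.toMonoidHom :=
    (MulAut.congr e).symm.injective
  obtain ⟨hc, hexp⟩ := h (H.map (MulAut.congr e).symm.toMonoidHom) (by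
    rwa [← Nat.card_congr (H.equivMapOfInjective _ hinj).toEquiv])
  refine ⟨⟨⟨fun a b => Subtype.ext (hinj ?_)⟩⟩, fun a ha => hinj ?_⟩
  · have := congrArg Subtype.val (hc.is_comm.comm
      (⟨_, Subgroup.mem_map_of_mem _ a.2⟩ : ↥(H.map (MulAut.congr e).symm.toMonoidHom))
      ⟨_, Subgroup.mem_map_of_mem _ b.2⟩)
    simpa only [Subgroup.coe_mul, map_mul] using this
  · rw [map_pow, map_one]
    exact hexp _ (Subgroup.mem_map_of_mem _ ha)

section Pi

variable {p : ℕ} [hp : Fact p.Prime] {ι : Type*} {e : ι → ℕ}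

set_option quotPrecheck false in
local notation "T" => ((i : ι) → Multiplicative (ZMod (p ^ e i)))

theorem pow_zmod {n : ℕ} (x : Multiplicative (ZMod n)) (k : ℕ) :
    (x ^ k).toAdd = (k : ZMod n) * x.toAdd := by
  rw [toAdd_pow, nsmul_eq_mul]

/-- The elements of order dividing `p` which are `p ^ k`-th powers. -/
def omegaPow (x : T) (k : ℕ) : Prop := x ^ p = 1 ∧ ∃ y : T, y ^ p ^ k = x

theorem omegaPow_map (h : T ≃* T) {x : T} {k : ℕ} (hx : omegaPow x k) : omegaPow (h x) k := by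
  obtain ⟨h1, y, hy⟩ := hx
  exact ⟨by rw [← map_pow, h1, map_one], h y, by rw [← map_pow, hy]⟩

theorem omegaPow_mul {x x' : T} {k : ℕ} (hx : omegaPow x k) (hx' : omegaPow x' k) :
    omegaPow (x * x') k := by
  obtain ⟨h1, y, hy⟩ := hx
  obtain ⟨h1', y', hy'⟩ := hx'
  exact ⟨by rw [mul_pow, h1, h1', one_mul], y * y', by rw [mul_pow, hy, hy']⟩

theorem omegaPow_pow {x : T} {k : ℕ} (hx : omegaPow x k) (n : ℕ) : omegaPow (x ^ n) k := by
  obtain ⟨h1, y, hy⟩ := hx
  exact ⟨by rw [← pow_mul, mul_comm, pow_mul, h1, one_pow], y ^ n,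
    by rw [← pow_mul, mul_comm, pow_mul, hy]⟩

theorem omegaPow_inv {x : T} {k : ℕ} (hx : omegaPow x k) : omegaPow x⁻¹ k := by
  obtain ⟨h1, y, hy⟩ := hx
  exact ⟨by rw [inv_pow, h1, inv_one], y⁻¹, by rw [inv_pow, hy]⟩

theorem omegaPow_zero {x : T} (hx : x ^ p = 1) : omegaPow x 0 :=
  ⟨hx, x, by rw [pow_zero, pow_one]⟩

theorem omegaPow_eq_one {x : T} {k : ℕ} (hx : omegaPow x k) {i : ι} (hi : e i ≤ k) : x i = 1 := by
  obtain ⟨-, y, rfl⟩ := hx
  apply Multiplicative.toAdd.injective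
  rw [Pi.pow_apply, pow_zmod, toAdd_one, show ((p ^ k : ℕ) : ZMod (p ^ e i)) = 0 from
    (ZMod.natCast_eq_zero_iff _ _).2 (pow_dvd_pow p hi), zero_mul]

theorem omegaPow_iff {x : T} {k : ℕ} (hx : x ^ p = 1) :
    omegaPow x k ↔ ∀ i, e i ≤ k → x i = 1 := by
  refine ⟨fun h i hi => omegaPow_eq_one h hi, fun h => ⟨hx, ?_⟩⟩
  have : ∀ i, ∃ y : Multiplicative (ZMod (p ^ e i)), y ^ p ^ k = x i := by
    intro i
    rcases Nat.lt_or_ge k (e i) with hk | hk
    · haveI : NeZero (p ^ e i) := ⟨pow_ne_zero _ hp.out.ne_zero⟩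
      have h0 := congrArg Multiplicative.toAdd (congrFun hx i)
      rw [Pi.pow_apply, pow_zmod, Pi.one_apply, toAdd_one] at h0
      obtain ⟨v, hv⟩ : ∃ v : ℕ, ((v : ℕ) : ZMod (p ^ e i)) = (x i).toAdd :=
        ⟨_, ZMod.natCast_zmod_val _⟩
      rw [← hv, ← Nat.cast_mul, ZMod.natCast_eq_zero_iff] at h0
      obtain ⟨d, hd⟩ : ∃ d, e i = d + 1 := ⟨e i - 1, by omega⟩
      have hdiv : p ^ k ∣ v := by
        have h1 : p ^ (d + 1) ∣ p * v := hd ▸ h0
        rw [pow_succ', Nat.mul_dvd_mul_iff_left hp.out.pos] at h1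
        exact (pow_dvd_pow p (by omega)).trans h1
      obtain ⟨m, rfl⟩ := hdiv
      refine ⟨Multiplicative.ofAdd (m : ZMod (p ^ e i)), Multiplicative.toAdd.injective ?_⟩
      rw [pow_zmod, toAdd_ofAdd, ← Nat.cast_mul, hv]
    · exact ⟨1, by rw [one_pow, h i hk]⟩
  choose y hy using this
  exact ⟨y, funext hy⟩

variable [Fintype ι] (hinj : Function.Injective e)

include hinj in
theorem scalar_step (h : T ≃* T) (k : ℕ) :
    ∃ c : ℕ, ¬ p ∣ c ∧ ∀ x : T, omegaPow x k → omegaPow (h x * (x ^ c)⁻¹) (k + 1) := by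
  classical
  by_cases hk : ∃ i, e i = k + 1
  swap
  · push Not at hk
    refine ⟨1, hp.out.not_dvd_one, fun x hx => ?_⟩
    have hy := omegaPow_mul (omegaPow_map h hx) (omegaPow_inv (omegaPow_pow hx 1))
    refine (omegaPow_iff hy.1).2 fun i hi => omegaPow_eq_one hy ?_
    have := hk i
    omega
  obtain ⟨i₀, hi₀⟩ := hk
  haveI : NeZero (p ^ e i₀) := ⟨pow_ne_zero _ hp.out.ne_zero⟩
  let y₀ : T := Pi.mulSingle i₀ (Multiplicative.ofAdd 1)
  let b : T := y₀ ^ p ^ k
  have hb_i₀ : ∀ n : ℕ, ((b ^ n) i₀).toAdd = (n : ZMod (p ^ e i₀)) * ((p ^ k : ℕ) : ZMod (p ^ e i₀)) := by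
    intro n
    simp only [b, y₀, Pi.pow_apply, pow_zmod, Pi.mulSingle_eq_same, toAdd_ofAdd, mul_one]
  have hb1 : b ^ p = 1 := by
    funext i
    by_cases hi : i = i₀
    · subst hi
      apply Multiplicative.toAdd.injective
      rw [hb_i₀, Pi.one_apply, toAdd_one, ← Nat.cast_mul, ZMod.natCast_eq_zero_iff, hi₀, pow_succ']
    · simp [b, y₀, Pi.mulSingle_eq_of_ne hi]
  have hb : omegaPow b k := ⟨hb1, y₀, rfl⟩
  have hbn : ∀ n, omegaPow (b ^ n) (k + 1) → p ∣ n := by
    intro n hn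
    have h1 := congrArg Multiplicative.toAdd (omegaPow_eq_one hn hi₀.le)
    rw [hb_i₀, toAdd_one, ← Nat.cast_mul, ZMod.natCast_eq_zero_iff, hi₀, pow_succ',
      Nat.mul_dvd_mul_iff_right (pow_pos hp.out.pos k)] at h1
    exact h1
  have decomp : ∀ x : T, omegaPow x k → ∃ n : ℕ, omegaPow (x * (b ^ n)⁻¹) (k + 1) := by
    intro x hx
    obtain ⟨hx1, y, hy⟩ := hx
    refine ⟨(y i₀).toAdd.val, ?_⟩
    have hz := omegaPow_mul (x := x) ⟨hx1, y, hy⟩
      (omegaPow_inv (omegaPow_pow hb (y i₀).toAdd.val))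
    refine (omegaPow_iff hz.1).2 fun i hi => ?_
    by_cases hk' : e i ≤ k
    · exact omegaPow_eq_one hz hk'
    obtain rfl : i = i₀ := hinj (by omega)
    rw [Pi.mul_apply, Pi.inv_apply, mul_inv_eq_one]
    apply Multiplicative.toAdd.injective
    rw [hb_i₀, ← hy, Pi.pow_apply, pow_zmod, ZMod.natCast_zmod_val, mul_comm]
  obtain ⟨c, hc⟩ := decomp (h b) (omegaPow_map h hb)
  refine ⟨c, fun hdvd => ?_, fun x hx => ?_⟩
  · obtain ⟨m, rfl⟩ := hdvd
    rw [pow_mul, hb1, one_pow, inv_one, mul_one] at hc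
    have h2 := omegaPow_map h.symm hc
    rw [h.symm_apply_apply] at h2
    exact hp.out.not_dvd_one (hbn 1 (by rwa [pow_one]))
  · obtain ⟨n, hn⟩ := decomp x hx
    have e1 : h x * (x ^ c)⁻¹ = h (x * (b ^ n)⁻¹) * ((x * (b ^ n)⁻¹) ^ c)⁻¹ *
        (h b * (b ^ c)⁻¹) ^ n := by
      have hx' : x = x * (b ^ n)⁻¹ * b ^ n := by group
      generalize x * (b ^ n)⁻¹ = w at hx'
      subst hx'
      rw [map_mul, map_pow, mul_pow, pow_right_comm b n c, mul_pow, inv_pow, mul_inv, mul_mul_mul_comm]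
    rw [e1]
    exact omegaPow_mul (omegaPow_mul (omegaPow_map h hn) (omegaPow_inv (omegaPow_pow hn c)))
      (omegaPow_pow hc n)

theorem pow_apply_of_fix {G : Type*} [CommGroup G] (δ : MulAut G) {x d : G} (hd : δ d = d)
    (hx : δ x = x * d) : ∀ m : ℕ, (δ ^ m) x = x * d ^ m
  | 0 => by rw [pow_zero, pow_zero, mul_one, MulAut.one_apply]
  | m + 1 => by
    rw [pow_succ', MulAut.mul_apply, pow_apply_of_fix δ hd hx m, map_mul, map_pow, hd, hx,
      mul_assoc, ← pow_succ']

theorem fixed_of_step {G : Type*} [CommGroup G] (δ : MulAut G) (hδ : (orderOf δ).Coprime p)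
    {x d : G} (hd : δ d = d) (hdp : d ^ p = 1) (hx : δ x = x * d) : δ x = x := by
  have h1 := pow_apply_of_fix δ hd hx (orderOf δ)
  rw [pow_orderOf_eq_one, MulAut.one_apply, left_eq_mul] at h1
  have h2 : d = 1 := orderOf_eq_one_iff.1
    (Nat.eq_one_of_dvd_coprimes hδ (orderOf_dvd_of_pow_eq_one h1) (orderOf_dvd_of_pow_eq_one hdp))
  rw [hx, h2, mul_one]

include hinj in
omit hinj in
theorem eq_one_of_omegaPow (δ : MulAut T) (hδ : (orderOf δ).Coprime p)
    (h : ∀ k x, omegaPow x k → omegaPow (δ x * x⁻¹) (k + 1)) : δ = 1 := by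
  classical
  have hE : ∀ i, e i ≤ ∑ j, e j := fun i => Finset.single_le_sum (fun j _ => Nat.zero_le _) (Finset.mem_univ i)
  have hom : ∀ d k, k + d = ∑ j, e j → ∀ x : T, omegaPow x k → δ x = x := by
    intro d
    induction d with
    | zero =>
      intro k hk x hx
      have : x = 1 := funext fun i => omegaPow_eq_one hx (by have := hE i; omega)
      rw [this, map_one]
    | succ d ih =>
      intro k hk x hx
      have hd := h k x hx
      exact fixed_of_step δ hδ (ih (k + 1) (by omega) _ hd) hd.1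
        (by rw [mul_comm x, inv_mul_cancel_right])
  have hall : ∀ n, ∀ x : T, x ^ p ^ n = 1 → δ x = x := by
    intro n
    induction n with
    | zero =>
      intro x hx
      rw [pow_zero, pow_one] at hx
      rw [hx, map_one]
    | succ n ih =>
      intro x hx
      have h1 : δ (x ^ p) = x ^ p := ih _ (by rw [← pow_mul, ← pow_succ', hx])
      have hdp : (δ x * x⁻¹) ^ p = 1 := by rw [mul_pow, ← map_pow, h1, inv_pow, mul_inv_cancel]
      exact fixed_of_step δ hδ (hom (∑ j, e j) 0 (Nat.zero_add _) _ (omegaPow_zero hdp)) hdp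
        (by rw [mul_comm x, inv_mul_cancel_right])
  refine MulEquiv.ext fun x => hall (∑ j, e j) x (funext fun i => ?_)
  apply Multiplicative.toAdd.injective
  rw [Pi.pow_apply, pow_zmod, Pi.one_apply, toAdd_one,
    (ZMod.natCast_eq_zero_iff _ _).2 (pow_dvd_pow p (hE i)), zero_mul]

include hinj in
theorem splitAut_of_injective : SplitAut p T := by
  intro H hH
  have hord : ∀ h ∈ H, (orderOf h).Coprime p := fun h hh =>
    Nat.Coprime.coprime_dvd_left (Subgroup.orderOf_dvd_natCard H hh) hH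
  have omega_congr : ∀ {k : ℕ} {x : T}, omegaPow x k → ∀ {a c : ℕ}, a ≡ c [MOD p] → x ^ a = x ^ c :=
    fun {k x} hx {a c} hac => pow_eq_pow_iff_modEq.2 (Nat.ModEq.of_dvd (orderOf_dvd_of_pow_eq_one hx.1) hac)
  refine ⟨⟨⟨fun a b => Subtype.ext ?_⟩⟩, fun h hh => ?_⟩
  · refine commutatorElement_eq_one_iff_mul_comm.1 (eq_one_of_omegaPow _
      (hord _ (commutatorElement_def (a : MulAut T) b ▸
        H.mul_mem (H.mul_mem (H.mul_mem a.2 b.2) (H.inv_mem a.2)) (H.inv_mem b.2))) fun k x hx => ?_)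
    obtain ⟨c, -, hc⟩ := scalar_step hinj (a : MulAut T) k
    obtain ⟨d, -, hd⟩ := scalar_step hinj (b : MulAut T) k
    -- transfer `a b y ≡ b a y` to `y := a⁻¹ b⁻¹ x`
    have key : ∀ (f g : MulAut T) (c d : ℕ),
        (∀ x : T, omegaPow x k → omegaPow (f x * (x ^ c)⁻¹) (k + 1)) →
        (∀ x : T, omegaPow x k → omegaPow (g x * (x ^ d)⁻¹) (k + 1)) →
        ∀ y : T, omegaPow y k → omegaPow (f (g y) * (y ^ (d * c))⁻¹) (k + 1) := by
      intro f g c d hf hg y hy
      have h1 := hf _ (omegaPow_map g hy)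
      have h2 := omegaPow_pow (hg y hy) c
      have e1 : f (g y) * (y ^ (d * c))⁻¹ =
          f (g y) * (g y ^ c)⁻¹ * (g y * (y ^ d)⁻¹) ^ c := by
        rw [mul_pow, inv_pow, ← pow_mul, mul_assoc, inv_mul_cancel_left]
      rw [e1]
      exact omegaPow_mul h1 h2
    let y : T := (a : MulAut T)⁻¹ ((b : MulAut T)⁻¹ x)
    have hy : omegaPow y k := omegaPow_map _ (omegaPow_map _ hx)
    have h1 := key a b c d hc hd y hy
    have h2 := key b a d c hd hc y hy
    have h3 := omegaPow_mul h1 (omegaPow_inv h2)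
    have e2 : ⁅(a : MulAut T), (b : MulAut T)⁆ x * x⁻¹ =
        (a : MulAut T) ((b : MulAut T) y) * (y ^ (d * c))⁻¹ *
          ((b : MulAut T) ((a : MulAut T) y) * (y ^ (c * d))⁻¹)⁻¹ := by
      have hxy : (b : MulAut T) ((a : MulAut T) y) = x := by simp [y]
      rw [hxy, mul_comm c d, mul_inv_rev, inv_inv, mul_assoc, inv_mul_cancel_left,
        commutatorElement_def]
      simp [y, MulAut.mul_apply]
    rwa [e2]
  · refine eq_one_of_omegaPow _ (hord _ (H.pow_mem hh _)) fun k x hx => ?_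
    obtain ⟨c, hc0, hc⟩ := scalar_step hinj h k
    have hit : ∀ n : ℕ, omegaPow ((h ^ n) x * (x ^ c ^ n)⁻¹) (k + 1) := by
      intro n
      induction n with
      | zero =>
        rw [pow_zero, pow_zero, pow_one, MulAut.one_apply, mul_inv_cancel]
        exact ⟨one_pow p, 1, one_pow _⟩
      | succ n ih =>
        have h1 := omegaPow_map h ih
        have h2 := omegaPow_pow (hc x hx) (c ^ n)
        have e1 : (h ^ (n + 1)) x * (x ^ c ^ (n + 1))⁻¹ =
            h ((h ^ n) x * (x ^ c ^ n)⁻¹) * (h x * (x ^ c)⁻¹) ^ c ^ n := by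
          rw [pow_succ' h, MulAut.mul_apply, map_mul, map_inv, map_pow, mul_pow, inv_pow,
            ← pow_mul, ← pow_succ', mul_assoc, inv_mul_cancel_left]
        rw [e1]
        exact omegaPow_mul h1 h2
    have h1 := hit (p - 1)
    rwa [omega_congr hx (a := c ^ (p - 1)) (c := 1)
      (by
        have := Nat.ModEq.pow_totient ((hp.out.coprime_iff_not_dvd.2 hc0).symm)
        rwa [Nat.totient_prime hp.out] at this), pow_one] at h1

end Pi

/-- A repeated invariant gives a prime-to-`p` group of automorphisms which is not split. -/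
theorem not_splitAut_square {p : ℕ} [hp : Fact p.Prime] {M : Type*} [CommGroup M] {a : M}
    (ha : a ≠ 1) (ha2 : p ≠ 2 → a ^ 2 ≠ 1) {H : Type*} [CommGroup H] :
    ¬ SplitAut p ((M × M) × H) := by
  intro hs
  by_cases h2 : p = 2
  · subst h2
    let u₀ : M × M ≃* M × M :=
      { toFun := fun v => (v.2⁻¹, v.1 * v.2⁻¹)
        invFun := fun v => (v.2 * v.1⁻¹, v.1⁻¹)
        left_inv := fun v => by simp
        right_inv := fun v => by simp
        map_mul' := fun v w => by ext <;> simp [mul_inv, mul_comm, mul_left_comm, mul_assoc] }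
    let u : MulAut ((M × M) × H) := MulEquiv.prodCongr u₀ (MulEquiv.refl H)
    have hu3 : u ^ 3 = 1 := by
      refine MulEquiv.ext fun v => ?_
      obtain ⟨⟨x, y⟩, z⟩ := v
      show (u₀ (u₀ (u₀ (x, y))), z) = ((x, y), z)
      simp [u₀]
    have hcop : (Nat.card ↥(Subgroup.zpowers u)).Coprime 2 := by
      rw [Nat.card_zpowers]
      exact Nat.Coprime.coprime_dvd_left (orderOf_dvd_of_pow_eq_one hu3) (by decide)
    have h1 := (hs _ hcop).2 u (Subgroup.mem_zpowers u)
    rw [show (2 : ℕ) - 1 = 1 from rfl, pow_one] at h1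
    have h3 := congrArg (fun v : (M × M) × H => v.1.2) (DFunLike.congr_fun h1 ((a, 1), 1))
    have h4 : a * (1 : M)⁻¹ = 1 := h3
    exact ha (by simpa using h4)
  · let r₀ : M × M ≃* M × M :=
      { toFun := fun v => (v.2⁻¹, v.1)
        invFun := fun v => (v.2, v.1⁻¹)
        left_inv := fun v => by simp
        right_inv := fun v => by simp
        map_mul' := fun v w => by ext <;> simp [mul_inv, mul_comm] }
    let r : MulAut ((M × M) × H) := MulEquiv.prodCongr r₀ (MulEquiv.refl H)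
    let t : MulAut ((M × M) × H) := MulEquiv.prodCongr MulEquiv.prodComm (MulEquiv.refl H)
    have hr4 : r ^ (2 ^ 2) = 1 := by
      refine MulEquiv.ext fun v => ?_
      obtain ⟨⟨x, y⟩, z⟩ := v
      show (r₀ (r₀ (r₀ (r₀ (x, y)))), z) = ((x, y), z)
      simp [r₀]
    have ht2 : t ^ (2 ^ 1) = 1 := by
      refine MulEquiv.ext fun v => ?_
      obtain ⟨⟨x, y⟩, z⟩ := v
      rfl
    have htr : t * r * t⁻¹ = r⁻¹ := by
      refine MulEquiv.ext fun v => ?_
      obtain ⟨⟨x, y⟩, z⟩ := v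
      rfl
    have hz : ∀ {g : MulAut ((M × M) × H)} {n : ℕ}, g ^ 2 ^ n = 1 →
        IsPGroup 2 ↥(Subgroup.zpowers g) := by
      rintro g n hg ⟨x, k, rfl⟩
      refine ⟨n, Subtype.ext ?_⟩
      show (g ^ k) ^ 2 ^ n = 1
      rw [← zpow_natCast, ← zpow_mul, mul_comm, zpow_mul, zpow_natCast, hg, one_zpow]
    have hle : Subgroup.zpowers t ≤ Subgroup.normalizer (Subgroup.zpowers r : Set _) := by
      rw [Subgroup.zpowers_le, Subgroup.mem_normalizer_iff]
      have h1 : t⁻¹ = t := inv_eq_of_mul_eq_one_right (by rw [← pow_two]; simpa using ht2)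
      have hfwd : ∀ y ∈ Subgroup.zpowers r, t * y * t⁻¹ ∈ Subgroup.zpowers r := by
        rintro _ ⟨k, rfl⟩
        show t * r ^ k * t⁻¹ ∈ _
        rw [← conj_zpow, htr]
        exact Subgroup.zpow_mem _ (Subgroup.inv_mem _ (Subgroup.mem_zpowers r)) k
      refine fun x => ⟨hfwd x, fun hx => ?_⟩
      have h2 := hfwd _ hx
      have e1 : t * (t * x * t⁻¹) * t⁻¹ = x := by
        conv_lhs => enter [1, 1]; rw [← h1]
        conv_lhs => enter [2]; rw [h1]
        group
      rwa [e1] at h2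
    have hK : IsPGroup 2 ↥(Subgroup.zpowers r ⊔ Subgroup.zpowers t) :=
      IsPGroup.to_sup_of_normal_left' (hz hr4) (hz ht2) hle
    have hcop : (Nat.card ↥(Subgroup.zpowers r ⊔ Subgroup.zpowers t)).Coprime p := by
      haveI : Fact (Nat.Prime 2) := ⟨Nat.prime_two⟩
      haveI : Finite ↥(Subgroup.zpowers r ⊔ Subgroup.zpowers t) := by
        refine Set.Finite.to_subtype (s := ((Subgroup.zpowers r ⊔ Subgroup.zpowers t :
          Subgroup (MulAut ((M × M) × H))) : Set (MulAut ((M × M) × H)))) ?_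
        rw [Subgroup.coe_mul_of_right_le_normalizer_left _ _ hle]
        exact (Set.Finite.mul ((isOfFinOrder_iff_pow_eq_one.2 ⟨4, by norm_num, hr4⟩).finite_zpowers)
          ((isOfFinOrder_iff_pow_eq_one.2 ⟨2, by norm_num, ht2⟩).finite_zpowers))
      obtain ⟨n, hn⟩ := IsPGroup.iff_card.1 hK
      rw [hn]
      exact Nat.Coprime.pow_left n ((Nat.coprime_primes Nat.prime_two hp.out).2 (Ne.symm h2))
    have hcomm := congrArg Subtype.val ((hs _ hcop).1.is_comm.comm
      (⟨r, Subgroup.mem_sup_left (Subgroup.mem_zpowers r)⟩ :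
        ↥(Subgroup.zpowers r ⊔ Subgroup.zpowers t))
      ⟨t, Subgroup.mem_sup_right (Subgroup.mem_zpowers t)⟩)
    have h4 := congrArg (fun v : (M × M) × H => v.1.1) (DFunLike.congr_fun hcomm ((a, 1), 1))
    have h5 : a⁻¹ = a := h4
    exact ha2 h2 (by rw [pow_two]; nth_rw 1 [← h5]; exact inv_mul_cancel a)

theorem ringEquivCongr_cancel {a b : ℕ} (h : a = b) (h' : b = a) (x : ZMod a) :
    ZMod.ringEquivCongr h' (ZMod.ringEquivCongr h x) = x := by
  subst h
  simp

theorem splitAut_iff_no_square {p : ℕ} [hp : Fact p.Prime] {G : Type*} [CommGroup G] [Finite G]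
    (hG : IsPGroup p G) :
    SplitAut p G ↔ ¬ ∃ (n : ℕ) (H : Type) (_ : CommGroup H), 0 < n ∧
      Nonempty (G ≃* (Multiplicative (ZMod (p ^ n)) × Multiplicative (ZMod (p ^ n))) × H) := by
  classical
  constructor
  · rintro h ⟨n, H, _, hn, ⟨f⟩⟩
    refine not_splitAut_square (a := Multiplicative.ofAdd (1 : ZMod (p ^ n))) ?_ ?_
      (splitAut_congr f h)
    · intro h1
      have h1' : ((1 : ℕ) : ZMod (p ^ n)) = 0 := by rw [Nat.cast_one]; exact h1
      rw [ZMod.natCast_eq_zero_iff] at h1'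
      exact absurd (Nat.le_of_dvd Nat.one_pos h1') (Nat.not_le.2 (Nat.one_lt_pow hn.ne' hp.out.one_lt))
    · intro hp2 h1
      have h1' := congrArg Multiplicative.toAdd h1
      rw [pow_zmod, toAdd_ofAdd, mul_one, toAdd_one, ZMod.natCast_eq_zero_iff] at h1'
      have h3 : p ∣ 2 := (dvd_pow_self p hn.ne').trans h1'
      exact hp2 ((Nat.prime_dvd_prime_iff_eq hp.out Nat.prime_two).1 h3)
  · intro hno
    obtain ⟨ι, hι, n, hn1, ⟨f⟩⟩ := CommGroup.equiv_prod_multiplicative_zmod_of_finite G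
    have hpow : ∀ i, ∃ e, n i = p ^ e := by
      intro i
      have h2 : IsPGroup p (Multiplicative (ZMod (n i))) :=
        (hG.of_equiv f).of_surjective (Pi.evalMonoidHom _ i) (Function.surjective_eval i)
      haveI : NeZero (n i) := ⟨by have := hn1 i; omega⟩
      obtain ⟨e, he⟩ := IsPGroup.iff_card.1 h2
      exact ⟨e, by rwa [Nat.card_congr Multiplicative.toAdd, Nat.card_zmod] at he⟩
    choose e he using hpow
    obtain rfl : n = fun i => p ^ e i := funext he
    refine splitAut_congr f.symm (splitAut_of_injective fun i j hij => ?_)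
    by_contra hne
    refine hno ⟨e i, (∀ k : {k // k ≠ i ∧ k ≠ j}, Multiplicative (ZMod (p ^ e k.1))),
      inferInstance, ?_, ⟨f.trans ?_⟩⟩
    · rcases Nat.eq_zero_or_pos (e i) with h0 | h0
      · have := hn1 i
        simp [h0] at this
      · exact h0
    · exact
      { toFun := fun x => ((x i,
            Multiplicative.ofAdd (ZMod.ringEquivCongr (congrArg (p ^ ·) hij.symm) (x j).toAdd)),
          fun k => x k.1)
        invFun := fun y k =>
          if h : k = i then (h.symm ▸ y.1.1 : Multiplicative (ZMod (p ^ e k)))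
          else if h' : k = j then
            h'.symm ▸ Multiplicative.ofAdd
              (ZMod.ringEquivCongr (congrArg (p ^ ·) hij) y.1.2.toAdd)
          else y.2 ⟨k, h, h'⟩
        left_inv := fun x => funext fun k => by
          dsimp only
          by_cases h : k = i
          · subst h; simp
          · by_cases h' : k = j
            · subst h'; simp [h, ringEquivCongr_cancel]
            · simp [h, h']
        right_inv := fun y => by
          refine Prod.ext (Prod.ext ?_ ?_) (funext fun k => ?_)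
          · simp
          · simp [Ne.symm hne, ringEquivCongr_cancel]
          · simp [k.2.1, k.2.2]
        map_mul' := fun x y => by
          refine Prod.ext (Prod.ext rfl ?_) rfl
          simp [toAdd_mul] }

end Cfsg.Agent.FusSys
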