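import Cfsg.Agent.FusSys.ThompsonA
import Cfsg.Agent.FusSys.GroupSys
import Cfsg.Agent.S0649
import Cfsg.Agent.Fusion.Replacement

/-!
The `p`-th powers of the centre of a Sylow subgroup: for a functor `W` yielding quadratic elements
outside `O_p`, a constrained group is generated by `C(℧Z(P))` and `N(W(P))`.
-/

set_option autoImplicit false

namespace Cfsg.Agent.FusSys

open Subgroup
open scoped commutatorElement

universe u

variable {p : ℕ}

/-- The condition on a functor: if `W(P)` is not normal in a constrained group, a `p`-element outside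
`O_p` is quadratic on the centre of `O_p`. -/
def QuadCond (p : ℕ) (W : ∀ (Q : Type u) [Group Q], Subgroup Q) : Prop :=
  ∀ (G : Type u) [Group G] [Finite G] (P : Sylow p G),
    centralizer ((Cfsg.pCore p G : Subgroup G) : Set G) ≤ Cfsg.pCore p G →
    ¬ (wsub W (P : Subgroup G)).Normal →
    ∃ g ∈ (P : Subgroup G), g ∉ Cfsg.pCore p G ∧
      ⁅⁅Cfsg.pCore p G ⊓ centralizer ((Cfsg.pCore p G : Subgroup G) : Set G), zpowers g⁆,
        zpowers g⁆ = ⊥

/-- A functor with the quadratic condition whose value is not normal in a constrained group gives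
a normal subgroup centralizing `V`, made of `p`-th powers of elements of `Z(P)`, with non-normal
intersection with `P`. -/
theorem exists_normal_centralizing [Fact p.Prime] {W : ∀ (Q : Type u) [Group Q], Subgroup Q}
    (hq : QuadCond p W) {G : Type u} [Group G] [Finite G]
    (hc : centralizer ((Cfsg.pCore p G : Subgroup G) : Set G) ≤ Cfsg.pCore p G) (P : Sylow p G)
    (V : Subgroup G) (hV : ∀ x ∈ V, ∃ w ∈ (P : Subgroup G) ⊓
      centralizer ((P : Subgroup G) : Set G), w ^ p = x)
    (hWn : ¬ (wsub W (P : Subgroup G)).Normal) :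
    ∃ K : Subgroup G, K.Normal ∧ K ≤ centralizer (V : Set G) ∧
      ¬ ((P : Subgroup G) ⊓ K).Normal := by
  set O := Cfsg.pCore p G with hO
  have hOP : O ≤ (P : Subgroup G) := Core.pCore_le_sylow P
  obtain ⟨g₀, hg₀P, hg₀O, hquad₀⟩ := hq G P hc hWn
  -- an element of order `p` modulo `O`
  obtain ⟨g, hgP, hgO, hgp, hquad⟩ : ∃ g ∈ (P : Subgroup G), g ∉ O ∧ g ^ p ∈ O ∧
      ⁅⁅O ⊓ centralizer (O : Set G), zpowers g⁆, zpowers g⁆ = ⊥ := by
    classical
    obtain ⟨m, hm⟩ := P.2 ⟨g₀, hg₀P⟩
    have hex : ∃ j, g₀ ^ p ^ j ∈ O := ⟨m, by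
      rw [show g₀ ^ p ^ m = 1 from congrArg Subtype.val hm]; exact one_mem _⟩
    have hj := Nat.find_spec hex
    rcases hjd : Nat.find hex with _ | j
    · rw [hjd, pow_zero, pow_one] at hj
      exact absurd hj hg₀O
    rw [hjd] at hj
    refine ⟨g₀ ^ p ^ j, pow_mem hg₀P _, Nat.find_min hex (by omega), by
      rw [← pow_mul, ← pow_succ]; exact hj, le_bot_iff.mp ?_⟩
    rw [← hquad₀]
    have hz : zpowers (g₀ ^ p ^ j) ≤ zpowers g₀ := zpowers_le.mpr (pow_mem (mem_zpowers _) _)
    exact commutator_mono (commutator_mono le_rfl hz) hz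
  set ZO := O ⊓ centralizer (O : Set G) with hZO
  have hZP : (P : Subgroup G) ⊓ centralizer ((P : Subgroup G) : Set G) ≤ ZO :=
    le_inf (inf_le_right.trans ((centralizer_le hOP).trans hc))
      (inf_le_right.trans (centralizer_le hOP))
  -- the normal closure of `g` centralizes `V`
  set K := normalClosure ({g} : Set G) with hK
  have hKV : K ≤ centralizer (V : Set G) := by
    refine (Subgroup.closure_le _).mpr ?_
    intro h hh
    obtain ⟨g', hg', hgh⟩ := Group.mem_conjugatesOfSet_iff.mp hh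
    obtain rfl : g' = g := Set.mem_singleton_iff.mp hg'
    obtain ⟨y, rfl⟩ := _root_.isConj_iff.mp hgh
    set h := y * g' * y⁻¹ with hhdef
    refine mem_centralizer_iff.mpr fun x hx => ?_
    obtain ⟨w, hw, rfl⟩ := hV x hx
    have hwZ : w ∈ ZO := hZP hw
    have hZn : ZO.Normal := inferInstance
    -- `h` is quadratic on `Z(O)`
    have hcomm : ∀ v ∈ ZO, Commute h ⁅h, v⁆ := by
      intro v hv
      have hv' : y⁻¹ * v * y ∈ ZO := by simpa using hZn.conj_mem v hv y⁻¹
      have h1 : ⁅⁅y⁻¹ * v * y, g'⁆, g'⁆ = 1 := mem_bot.mp (hquad ▸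
        commutator_mem_commutator (commutator_mem_commutator hv' (mem_zpowers g'))
          (mem_zpowers g'))
      have h2 : Commute ⁅y⁻¹ * v * y, g'⁆ g' := commutatorElement_eq_one_iff_mul_comm.mp h1
      have h3 := h2.symm.inv_right.map (MulAut.conj y).toMonoidHom
      have e1 : (MulAut.conj y).toMonoidHom g' = h := rfl
      have e2 : (MulAut.conj y).toMonoidHom (⁅y⁻¹ * v * y, g'⁆⁻¹) = ⁅h, v⁆ := by
        show y * (⁅y⁻¹ * v * y, g'⁆⁻¹) * y⁻¹ = _
        rw [commutatorElement_def, commutatorElement_def, hhdef]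
        group
      rwa [e1, e2] at h3
    set c := ⁅h, w⁆ with hc'
    have hcZ : c ∈ ZO := by
      rw [hc', commutatorElement_def]
      exact mul_mem (hZn.conj_mem w hwZ h) (inv_mem hwZ)
    have hhc : Commute h c := hcomm w hwZ
    have hhw : h * w * h⁻¹ = c * w := by rw [hc', commutatorElement_def]; group
    have hpow : ∀ i : ℕ, h ^ i * w * (h ^ i)⁻¹ = c ^ i * w := by
      intro i
      induction i with
      | zero => simp
      | succ i ih =>
        calc h ^ (i + 1) * w * (h ^ (i + 1))⁻¹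
            = h * (h ^ i * w * (h ^ i)⁻¹) * h⁻¹ := by rw [pow_succ' h i]; group
          _ = (h * c ^ i) * w * h⁻¹ := by rw [ih]; group
          _ = c ^ i * (h * w * h⁻¹) := by rw [(hhc.pow_right i).eq]; group
          _ = c ^ (i + 1) * w := by rw [hhw, pow_succ c i]; group
    have hhp : h ^ p ∈ O := by
      rw [hhdef, conj_pow]
      exact (inferInstance : O.Normal).conj_mem _ hgp y
    have hcp : c ^ p = 1 := by
      have h1 := hpow p
      rw [mem_centralizer_iff.mp hwZ.2 _ hhp, mul_inv_cancel_right, eq_comm, mul_eq_right] at h1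
      exact h1
    have hcw : Commute c w := (mem_centralizer_iff.mp hwZ.2 c hcZ.1)
    have hx' : h * w ^ p * h⁻¹ = w ^ p := by
      rw [← conj_pow, hhw, hcw.mul_pow, hcp, one_mul]
    exact (mul_inv_eq_iff_eq_mul.mp hx').symm
  exact ⟨K, inferInstance, hKV, fun h => hgO (Core.le_pCore (hN := h) (P.2.to_le inf_le_left)
    ⟨hgP, subset_normalClosure (Set.mem_singleton g)⟩)⟩

/-- In a constrained group `C(V)` and `N(W(P))` generate, for `V` made of `p`-th powers of
elements of `Z(P)`. -/
theorem agemo_generation [Fact p.Prime] {W : ∀ (Q : Type u) [Group Q], Subgroup Q}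
    (hW : PosFunctor p W) (hq : QuadCond p W) {G : Type u} [Group G] [Finite G]
    (hc : centralizer ((Cfsg.pCore p G : Subgroup G) : Set G) ≤ Cfsg.pCore p G) (P : Sylow p G)
    (V : Subgroup G) (hV : ∀ x ∈ V, ∃ w ∈ (P : Subgroup G) ⊓
      centralizer ((P : Subgroup G) : Set G), w ^ p = x)
    (H : Subgroup G) (hN : normalizer (wsub W (P : Subgroup G) : Set G) ≤ H)
    (hC : centralizer (V : Set G) ≤ H) : H = ⊤ := by
  induction hn : Nat.card G using Nat.strong_induction_on generalizing G with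
  | _ n IH =>
  subst hn
  by_cases hWn : (wsub W (P : Subgroup G)).Normal
  · rw [normalizer_eq_top] at hN
    exact top_le_iff.mp hN
  obtain ⟨K, hKnormal, hKV, hKn⟩ := exists_normal_centralizing hq hc P V hV hWn
  set O := Cfsg.pCore p G with hO
  have hOP : O ≤ (P : Subgroup G) := Core.pCore_le_sylow P
  -- the Frattini argument
  have hd : ¬ p ∣ (P : Subgroup G).relIndex K := fun h =>
    P.not_dvd_index (h.trans (relIndex_normal_dvd _ _))
  have hfr := Sylow.normalizer_sup_eq_top ((P.2.comap_subtype (K := K)).toSylow hd)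
  change normalizer ((((P : Subgroup G).subgroupOf K).map K.subtype : Subgroup G) : Set G) ⊔ K = ⊤
    at hfr
  rw [subgroupOf_map_subtype] at hfr
  set N := normalizer (((P : Subgroup G) ⊓ K : Subgroup G) : Set G) with hNdef
  have hPN : (P : Subgroup G) ≤ N := fun x hx => by
    rw [hNdef, mem_normalizer_iff]
    intro z
    rw [mem_inf, mem_inf, mem_normalizer_iff.mp (le_normalizer hx) z,
      (inferInstance : K.Normal).mem_comm_iff (a := x * z) (b := x⁻¹), inv_mul_cancel_left]
  have hNtop : N ≠ ⊤ := fun h => hKn (normalizer_eq_top_iff.mp h)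
  suffices hNH : N ≤ H by
    rw [eq_top_iff, ← hfr]
    exact sup_le hNH (hKV.trans hC)
  have hcN : centralizer ((Cfsg.pCore p N : Subgroup N) : Set N) ≤ Cfsg.pCore p N := by
    have hON : O.subgroupOf N ≤ Cfsg.pCore p N := by
      refine Core.le_pCore (hN := ?_) (Core.pCore_isPGroup.comap_subtype (K := N))
      exact (inferInstance : O.Normal).subgroupOf N
    intro x hx
    refine hON (mem_subgroupOf.mpr (hc (mem_centralizer_iff.mpr fun o ho => ?_)))
    exact congrArg Subtype.val (mem_centralizer_iff.mp hx ⟨o, hPN (hOP ho)⟩ (hON ho))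
  have hlt : Nat.card N < Nat.card G := lt_of_le_of_ne
    (Nat.le_of_dvd Nat.card_pos (card_subgroup_dvd_card N))
    fun e => hNtop (eq_top_of_card_eq N e)
  have hWmap : (wsub W ((P.subtype hPN : Sylow p N) : Subgroup N)).map N.subtype =
      wsub W (P : Subgroup G) := by
    have e := subgroupOfEquivOfLe hPN
    rw [wsub, wsub, Sylow.coe_subtype, ← hW.map_eq _ _ (P.2.comap_subtype (K := N))
      (subgroupOfEquivOfLe hPN), map_map, map_map]
    rfl
  have hVN : V ≤ N := fun x hx => by
    obtain ⟨w, hw, rfl⟩ := hV x hx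
    exact hPN (pow_mem hw.1 p)
  have h := IH _ hlt hcN (P.subtype hPN) (V.subgroupOf N) (fun x hx => by
      obtain ⟨w, hw, hwx⟩ := hV x hx
      refine ⟨⟨w, hPN hw.1⟩, ⟨?_, mem_centralizer_iff.mpr fun y hy => Subtype.ext ?_⟩,
        Subtype.ext hwx⟩
      · rw [Sylow.coe_subtype]; exact hw.1
      · rw [Sylow.coe_subtype] at hy
        exact mem_centralizer_iff.mp hw.2 _ hy)
    (H.subgroupOf N) (fun x hx => mem_subgroupOf.mpr (hN ?_))
    (fun x hx => mem_subgroupOf.mpr (hC (mem_centralizer_iff.mpr fun v hv =>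
      congrArg Subtype.val (mem_centralizer_iff.mp hx ⟨v, hVN hv⟩ hv)))) rfl
  · exact subgroupOf_eq_top.mp h
  · rw [← hWmap]
    exact le_normalizer_map N.subtype ⟨x, hx, rfl⟩

/-- In a `p`-group with normal subgroup `B` central in `O`, an abelian subgroup of largest order
outside `O` yields a quadratic element outside `O`. -/
theorem exists_quadratic_of_abMax [Fact p.Prime] {X : Type u} [Group X] [Finite X]
    (hX : IsPGroup p X) {B O : Subgroup X} [B.Normal] (hBO : B ≤ O)
    (hBc : O ≤ centralizer (B : Set X))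
    (h : ∃ A, Fusion.AbMax 0 (⊤ : Subgroup X) A ∧ ¬ A ≤ O) :
    ∃ g : X, g ∉ O ∧ ⁅⁅B, zpowers g⁆, zpowers g⁆ = ⊥ := by
  obtain ⟨A, ⟨hA, hAO⟩, hmax⟩ := Set.exists_max_image
    {A : Subgroup X | Fusion.AbMax 0 ⊤ A ∧ ¬ A ≤ O} (fun A => Nat.card (A ⊓ B : Subgroup X))
    (Set.toFinite _) h
  have hBcomm : IsMulCommutative B := Fusion.isMulCommutative_of_forall fun x hx y hy =>
    (mem_centralizer_iff.mp (hBc (hBO hx)) y hy).symm
  have hder : ⁅B, B⁆ = ⊥ := commutator_eq_bot_iff_le_centralizer.mpr (hBO.trans hBc)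
  have hnorm : B ≤ normalizer (A : Set X) := by
    by_contra hnot
    obtain ⟨b, hb, hbn, hbA⟩ :=
      Cfsg.Agent.S0649.result hX B (fun _ => hBcomm) A hA.comm (hder ▸ bot_le) hnot
    have hS : Fusion.Replacement.Setup p A B b :=
      ⟨hX.to_subgroup B, hA.comm, le_normalizer_of_normal, hder ▸ bot_le, fun _ => hBcomm, hb,
        hbn, hbA⟩
    have hmax' : Fusion.AbMax 0 (⊤ : Subgroup X) (Fusion.Replacement.star A b) :=
      ⟨⟨le_top, Fusion.Replacement.star_comm hS, fun a _ => pow_zero a⟩,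
        fun C hC => (hA.max C hC).trans (Fusion.Replacement.card_star hS).ge⟩
    have hO : ¬ Fusion.Replacement.star A b ≤ O := fun hle => hbA (Fusion.Replacement.star_le_normalizer hS
      (Fusion.mem_of_commute hmax' (mem_top b) (pow_zero b) fun a ha =>
        (mem_centralizer_iff.mp (hBc (hle ha)) b hb).symm))
    have h1 := hmax _ ⟨hmax', hO⟩
    exact absurd h1 (not_le.mpr (Core.card_lt_of_lt (Fusion.Replacement.inf_lt_star_inf hS)))
  obtain ⟨g, hg, hgO⟩ := SetLike.not_le_iff_exists.mp hAO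
  refine ⟨g, hgO, le_bot_iff.mp ?_⟩
  have h1 : ⁅B, A⁆ ≤ A := le_normalizer_iff_commutator_le_right.mp hnorm
  calc ⁅⁅B, zpowers g⁆, zpowers g⁆ ≤ ⁅⁅B, A⁆, A⁆ :=
        commutator_mono (commutator_mono le_rfl (zpowers_le.mpr hg)) (zpowers_le.mpr hg)
    _ ≤ ⁅A, A⁆ := commutator_mono h1 le_rfl
    _ = ⊥ := commutator_eq_bot_iff_le_centralizer.mpr fun x hx =>
      mem_centralizer_iff.mpr fun y hy => (Fusion.commute_of_isMulCommutative hA.comm hy hx).eq

/-- The abelian-version Thompson subgroup satisfies the quadratic condition. -/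
theorem quadCond_jW [Fact p.Prime] : QuadCond.{u} p jW := by
  intro G _ _ P _ hn
  rw [wsub_jW] at hn
  set O := Cfsg.pCore p G
  have hOP : O ≤ (P : Subgroup G) := Core.pCore_le_sylow P
  set B := O ⊓ centralizer (O : Set G) with hB
  haveI : (B.subgroupOf (P : Subgroup G)).Normal :=
    (inferInstance : B.Normal).subgroupOf _
  have key : ∃ A, Fusion.AbMax 0 (⊤ : Subgroup (P : Subgroup G)) A ∧
      ¬ A ≤ O.subgroupOf (P : Subgroup G) := by
    by_contra hno
    push Not at hno
    have h1 : thompsonSubgroupAOf (P : Subgroup G) = thompsonSubgroupAOf O := by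
      rw [Fusion.thompsonSubgroupAOf_eq, Fusion.thompsonSubgroupAOf_eq]
      have hno' : ∀ A, Fusion.AbMax 0 (P : Subgroup G) A → A ≤ O := fun A hA => by
        have e : (A.subgroupOf (P : Subgroup G)).map (P : Subgroup G).subtype = A :=
          map_subgroupOf_eq_of_le hA.le
        have h2 := hno (A.subgroupOf (P : Subgroup G)) ((Fusion.abMax_map_iff
          (P : Subgroup G).subtype_injective).mp (by rwa [map_top_subtype, e]))
        intro x hx
        exact h2 (show (⟨x, hA.le hx⟩ : (P : Subgroup G)) ∈ A.subgroupOf (P : Subgroup G) from hx)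
      obtain ⟨A₁, hA₁⟩ := Fusion.exists_abMax 0 (P : Subgroup G)
      congr 1
      ext A
      constructor
      · intro (hA : Fusion.AbMax 0 (P : Subgroup G) A)
        exact ⟨⟨hno' A hA, hA.comm, hA.exp⟩,
          fun C hC => hA.max C ⟨hC.le.trans hOP, hC.comm, hC.exp⟩⟩
      · intro (hA : Fusion.AbMax 0 O A)
        exact ⟨⟨hA.le.trans hOP, hA.comm, hA.exp⟩, fun C hC =>
          (hA₁.max C hC).trans (hA.max A₁ ⟨hno' A₁ hA₁, hA₁.comm, hA₁.exp⟩)⟩
    refine hn (normalizer_eq_top_iff.mp (eq_top_iff.mpr fun g _ => ?_))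
    rw [h1]
    exact mem_normalizer_thompsonSubgroupAOf ((normalizer_eq_top (H := O)).ge (mem_top g))
  obtain ⟨g, hgO, hq⟩ := exists_quadratic_of_abMax P.2 (B := B.subgroupOf (P : Subgroup G))
    (O := O.subgroupOf (P : Subgroup G)) (fun x hx => hx.1)
    (fun x hx => mem_centralizer_iff.mpr fun y hy =>
      Subtype.ext (mem_centralizer_iff.mp hy.2 _ hx).symm) key
  refine ⟨g, g.2, hgO, ?_⟩
  have h2 := congrArg (Subgroup.map (P : Subgroup G).subtype) hq
  rw [map_commutator, map_commutator, Subgroup.map_bot, MonoidHom.map_zpowers,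
    map_subgroupOf_eq_of_le (inf_le_left.trans hOP)] at h2
  exact h2

end Cfsg.Agent.FusSys
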