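import Mathlib

/-!
The algebraic core of the theorem on `Z(S)^(p^n)` in small class: if a Sylow `p`-subgroup `S` of a finite
group acts on an abelian group `V` with `(s - 1)^(n (p - 1) + 1) = 0` for all `s` in `S`, then every
`p`-element fixes `p^n v` for every `v` fixed by `S`.
-/

set_option autoImplicit false

namespace Cfsg.Agent.FusSys.Agemo

variable {R : Type*} [Ring R] {p : ℕ}

/-- An element `a` with `a ^ p = 1` whose difference from `1` vanishes in the power `k (p - 1) + 1`
differs from `1` by something killed by `p ^ k`. -/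
theorem natCast_pow_mul_sub_one (hp : p.Prime) {a : R} (ha : a ^ p = 1) {k c : ℕ} (hk : c ≤ k * (p - 1) + 1)
    (hc : (a - 1) ^ c = 0) : ((p : R) ^ k) * (a - 1) = 0 := by
  set d := a - 1 with hd
  have hd1 : (1 + d) ^ p = 1 := by rw [hd, add_sub_cancel, ha]
  obtain ⟨m, rfl⟩ : ∃ m, p = m + 2 := ⟨p - 2, by have := hp.two_le; omega⟩
  set r : R := ∑ j ∈ Finset.range m, d ^ j * (((m + 2).choose (j + 2) / (m + 2) : ℕ) : R) with hr
  have hexp : (1 + d) ^ (m + 2) = 1 + (((m + 2 : ℕ) : R) * d * (1 + d * r) + d ^ (m + 2)) := by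
    rw [add_comm (1 : R) d, (Commute.one_right d).add_pow]
    simp only [one_pow, mul_one]
    rw [Finset.sum_range_succ', Finset.sum_range_succ', Finset.sum_range_succ]
    simp only [Nat.choose_zero_right, Nat.cast_one, pow_zero, mul_one, zero_add, Nat.choose_one_right, pow_one,
      Nat.choose_self, one_mul, add_assoc, one_add_one_eq_two]
    have hs : ∑ i ∈ Finset.range m, d ^ (i + 2) * (((m + 2).choose (i + 2) : ℕ) : R) =
        ((m + 2 : ℕ) : R) * d * (d * r) := by
      rw [hr, Finset.mul_sum, Finset.mul_sum]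
      refine Finset.sum_congr rfl fun j hj => ?_
      obtain ⟨e, he⟩ := hp.dvd_choose_self (k := j + 2) (by omega) (by simp at hj; omega)
      rw [he, Nat.mul_div_cancel_left _ (by omega), Nat.cast_mul, ← mul_assoc,
        ← (Nat.cast_commute (m + 2) (d ^ (j + 2))).eq, mul_assoc, mul_assoc, ← mul_assoc d (d ^ j), ← pow_succ',
        ← mul_assoc d (d ^ (j + 1)), ← pow_succ']
    rw [hs, mul_add, mul_one, (Nat.commute_cast d (m + 2)).eq]
    abel
  rw [hexp] at hd1
  have hrel : d ^ (m + 2) = -(((m + 2 : ℕ) : R) * (1 + d * r) * d) := by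
    have h := add_eq_left.1 hd1
    have hcom : Commute d (1 + d * r) :=
      (Commute.one_right d).add_right ((Commute.refl d).mul_right (Commute.sum_right _ _ _ fun j _ =>
        ((Commute.refl d).pow_right j).mul_right (Nat.commute_cast d _)))
    rw [mul_assoc, ← hcom.eq, ← mul_assoc]
    exact eq_neg_of_add_eq_zero_right h
  have hdr : Commute d r := Commute.sum_right _ _ _ fun j _ =>
    ((Commute.refl d).pow_right j).mul_right (Nat.commute_cast d _)
  have hu : IsUnit (1 + d * r) := by
    refine IsNilpotent.isUnit_one_add ?_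
    exact hdr.isNilpotent_mul_right ⟨c, hc⟩
  set u : R := -(((m + 2 : ℕ) : R) * (1 + d * r)) with hu'
  have hpow : ∀ j : ℕ, d ^ (j * (m + 1) + 1) = u ^ j * d := by
    intro j
    induction j with
    | zero => simp
    | succ j ih =>
      rw [show (j + 1) * (m + 1) + 1 = (j * (m + 1) + 1) + (m + 1) by ring, pow_add, ih, mul_assoc, ← pow_succ',
        show m + 1 + 1 = m + 2 from rfl, hrel, pow_succ u, hu']
      simp only [neg_mul, mul_neg, mul_assoc]
  have h0 : u ^ k * d = 0 := by
    rw [← hpow]
    exact pow_eq_zero_of_le (by simpa using hk) hc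
  rw [hu', ← neg_one_mul, (Commute.neg_one_left _).mul_pow, (Nat.cast_commute _ (1 + d * r)).mul_pow,
    mul_assoc] at h0
  have h1 := (IsUnit.mul_right_eq_zero ((isUnit_one.neg).pow k)).1 h0
  rw [((Nat.cast_commute (m + 2) (1 + d * r)).pow_pow k k).eq, mul_assoc] at h1
  exact (hu.pow k).mul_right_eq_zero.1 h1

universe u v

variable [Fact p.Prime]

theorem smul_fixed_of_sylow (n : ℕ) {G : Type u} [Group G] [Finite G] {V : Type v} [AddCommGroup V]
    (ρ : G →* Module.End ℤ V) (S : Sylow p G) {c : ℕ} (hc : c ≤ n * (p - 1) + 1)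
    (hS : ∀ s ∈ (S : Subgroup G), (ρ s - 1) ^ c = 0) {v : V} (hv : ∀ s ∈ (S : Subgroup G), ρ s v = v)
    {a : G} {e : ℕ} (ha : a ^ p ^ e = 1) : ρ a (p ^ n • v) = p ^ n • v := by
  suffices H : ∀ N : ℕ, ∀ (G : Type u) [Group G] [Finite G] (V : Type v) [AddCommGroup V]
      (ρ : G →* Module.End ℤ V) (S : Sylow p G), Nat.card G ≤ N → (∀ s ∈ (S : Subgroup G), (ρ s - 1) ^ c = 0) →
      ∀ v : V, (∀ s ∈ (S : Subgroup G), ρ s v = v) → ∀ (a : G) (e : ℕ), a ^ p ^ e = 1 →
        ρ a (p ^ n • v) = p ^ n • v from
    H _ G V ρ S le_rfl hS v hv a e ha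
  intro N
  induction N with
  | zero =>
    intro G _ _ V _ ρ S hN
    exact absurd hN (Nat.not_le.2 Nat.card_pos)
  | succ N ih =>
    intro G _ _ V _ ρ S hN hS v hv a e ha
    -- every p-element is conjugate into `S`
    have hconj : ∀ (a : G) (e : ℕ), a ^ p ^ e = 1 → ∃ g : G, g⁻¹ * a * g ∈ (S : Subgroup G) := by
      intro a e ha
      have hP : IsPGroup p (Subgroup.zpowers a) := fun x => ⟨e, by
        obtain ⟨i, hi⟩ := x.2
        refine Subtype.ext ?_
        rw [Subgroup.coe_pow, ← show a ^ i = (x : G) from hi, ← zpow_natCast, ← zpow_mul, mul_comm, zpow_mul,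
          zpow_natCast, ha, one_zpow, Subgroup.coe_one]⟩
      obtain ⟨T, hT⟩ := hP.exists_le_sylow
      obtain ⟨g, hg⟩ := MulAction.exists_smul_eq G S T
      refine ⟨g, ?_⟩
      have h1 := hT (Subgroup.mem_zpowers a)
      rw [← hg] at h1
      obtain ⟨s, hs, rfl⟩ := h1
      simpa [mul_assoc] using SetLike.mem_coe.1 hs
    -- pointwise stabiliser of `p ^ n V`
    let K : Subgroup G :=
      { carrier := {g | ∀ x : V, ρ g (p ^ n • x) = p ^ n • x}
        one_mem' := fun x => by rw [map_one]; rfl
        mul_mem' := fun {g h} hg hh x => by rw [map_mul, Module.End.mul_apply, hh x, hg x]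
        inv_mem' := fun {g} hg x => by
          conv_lhs => rw [← hg x]
          rw [← Module.End.mul_apply, ← map_mul, inv_mul_cancel, map_one]; rfl }
    haveI hKn : K.Normal := ⟨fun g hg h x => by
      rw [map_mul, map_mul, Module.End.mul_apply, Module.End.mul_apply, map_nsmul (ρ h⁻¹), hg, ← map_nsmul (ρ h⁻¹),
        ← Module.End.mul_apply, ← map_mul, mul_inv_cancel, map_one]; rfl⟩
    have hK1 : ∀ s ∈ (S : Subgroup G), s ^ p = 1 → s ∈ K := by
      intro s hs hp1 x
      have h := natCast_pow_mul_sub_one (R := Module.End ℤ V) Fact.out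
        (show ρ s ^ p = 1 by rw [← map_pow, hp1, map_one]) hc (hS s hs)
      have h' := LinearMap.congr_fun h x
      rw [Module.End.mul_apply, ← Nat.cast_pow, Module.End.natCast_apply, LinearMap.zero_apply,
        LinearMap.sub_apply, Module.End.one_apply, smul_sub, sub_eq_zero] at h'
      rwa [map_nsmul]
    -- the group fixing `p ^ n v`
    let M : Subgroup G :=
      { carrier := {g | ρ g (p ^ n • v) = p ^ n • v}
        one_mem' := show ρ 1 _ = _ by rw [map_one]; rfl
        mul_mem' := fun {g h} hg hh => show ρ (g * h) _ = _ by rw [map_mul, Module.End.mul_apply, hh, hg]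
        inv_mem' := fun {g} hg => show ρ g⁻¹ _ = _ by
          conv_lhs => rw [← hg]
          rw [← Module.End.mul_apply, ← map_mul, inv_mul_cancel, map_one]; rfl }
    have hKM : K ≤ M := fun g hg => hg v
    show a ∈ M
    by_cases hS1 : (S : Subgroup G) = ⊥
    · obtain ⟨g, hg⟩ := hconj a e ha
      rw [hS1, Subgroup.mem_bot, mul_assoc, inv_mul_eq_one] at hg
      rw [show a = 1 from mul_eq_right.1 hg.symm]
      exact one_mem M
    -- an element of order p in `S`
    set S0 : Subgroup G := (S : Subgroup G) ⊓ K with hS0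
    have hS0ne : S0 ≠ ⊥ := by
      have hd : p ∣ Nat.card (S : Subgroup G) := by
        obtain ⟨m, hm⟩ := IsPGroup.iff_card.1 S.isPGroup'
        rcases Nat.eq_zero_or_pos m with rfl | hm0
        · exact absurd (Subgroup.eq_bot_of_card_eq (S : Subgroup G) (by simpa using hm)) hS1
        · rw [hm]; exact dvd_pow_self p hm0.ne'
      obtain ⟨⟨s, hs⟩, hso⟩ := exists_prime_orderOf_dvd_card' (G := (S : Subgroup G)) p hd
      intro hbot
      have hp1 : s ^ p = 1 := by
        have := congrArg Subtype.val (hso ▸ pow_orderOf_eq_one (⟨s, hs⟩ : (S : Subgroup G)))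
        simpa using this
      have hmem : s ∈ S0 := ⟨hs, hK1 s hs hp1⟩
      rw [hbot, Subgroup.mem_bot] at hmem
      subst hmem
      rw [show (⟨1, hs⟩ : (S : Subgroup G)) = 1 from rfl, orderOf_one] at hso
      exact (Fact.out : p.Prime).ne_one hso.symm
    by_cases hN0 : Subgroup.normalizer (S0 : Set G) = ⊤
    · -- pass to the quotient acting on the fixed points
      haveI : S0.Normal := Subgroup.normalizer_eq_top_iff.1 hN0
      let U : Submodule ℤ V :=
        { carrier := {x | ∀ s ∈ S0, ρ s x = x}
          add_mem' := fun {x y} hx hy s hs => by rw [map_add, hx s hs, hy s hs]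
          zero_mem' := fun s _ => map_zero _
          smul_mem' := fun r x hx s hs => by rw [map_smul, hx s hs] }
      have hU : ∀ g : G, ∀ x ∈ U, ρ g x ∈ U := by
        intro g x hx s hs
        rw [← Module.End.mul_apply, ← map_mul,
          show s * g = g * (g⁻¹ * s * g) by group, map_mul, Module.End.mul_apply,
          hx _ (by simpa using (‹S0.Normal›).conj_mem s hs g⁻¹)]
      let ρU : G →* Module.End ℤ U :=
        { toFun := fun g => (ρ g).restrict (hU g)
          map_one' := LinearMap.ext fun x => Subtype.ext (by rw [LinearMap.restrict_coe_apply, map_one]; rfl)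
          map_mul' := fun g h => LinearMap.ext fun x => Subtype.ext (by
            rw [LinearMap.restrict_coe_apply, map_mul]; rfl) }
      have hker : S0 ≤ ρU.ker := fun s hs => LinearMap.ext fun x => Subtype.ext (x.2 s hs)
      let ρQ : G ⧸ S0 →* Module.End ℤ U := QuotientGroup.lift S0 ρU hker
      have hlt : Nat.card (G ⧸ S0) ≤ N := by
        have h1 := Subgroup.card_eq_card_quotient_mul_card_subgroup S0
        have h2 : 1 < Nat.card S0 := Subgroup.one_lt_card_iff_ne_bot S0 |>.2 hS0ne
        have h3 : 0 < Nat.card (G ⧸ S0) := Nat.card_pos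
        nlinarith
      have hvU : v ∈ U := fun s hs => hv s hs.1
      have hpow : ∀ (g : G) (i : ℕ) (x : U), (((ρU g - 1) ^ i) x : V) = ((ρ g - 1) ^ i) (x : V) := by
        intro g i
        induction i with
        | zero => intro x; rfl
        | succ i ih =>
          intro x
          rw [pow_succ, pow_succ, Module.End.mul_apply, Module.End.mul_apply, ih]
          rfl
      have h := ih (G ⧸ S0) U ρQ (S.mapSurjective (QuotientGroup.mk'_surjective S0)) hlt
        (by
          rintro _ ⟨s, hs, rfl⟩
          refine LinearMap.ext fun x => Subtype.ext ?_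
          show (((ρU s - 1) ^ c) x : V) = 0
          rw [hpow, hS s hs]
          rfl)
        ⟨v, hvU⟩
        (by
          rintro _ ⟨s, hs, rfl⟩
          exact Subtype.ext (hv s hs))
        (QuotientGroup.mk a) e (by rw [← QuotientGroup.mk_pow, ha, QuotientGroup.mk_one])
      exact congrArg Subtype.val h
    · -- pass to the normaliser of `S0`
      set H : Subgroup G := Subgroup.normalizer (S0 : Set G) with hH
      have hSH : (S : Subgroup G) ≤ H := fun s hs => Subgroup.mem_normalizer_iff.2 fun x => by
        refine ⟨fun hx => ⟨Subgroup.mul_mem _ (Subgroup.mul_mem _ hs hx.1) (Subgroup.inv_mem _ hs), hKn.conj_mem x hx.2 s⟩, fun hx => ?_⟩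
        have h2 := hKn.conj_mem _ hx.2 s⁻¹
        have h1 := Subgroup.mul_mem (S : Subgroup G) (Subgroup.mul_mem _ (Subgroup.inv_mem _ hs) hx.1) hs
        have e1 : s⁻¹ * (s * x * s⁻¹) * s = x := by group
        rw [inv_inv, e1] at h2
        rw [e1] at h1
        exact ⟨h1, h2⟩
      have hlt : Nat.card H ≤ N := by
        have h1 : Nat.card H < Nat.card G := by
          refine lt_of_le_of_ne (Subgroup.card_le_card_group H) fun h => hN0 ?_
          exact Subgroup.eq_top_of_card_eq _ h
        omega
      have hHM : ∀ (b : G) (i : ℕ), b ∈ H → b ^ p ^ i = 1 → b ∈ M := fun b i hb hb1 => by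
        have h := ih H V (ρ.comp H.subtype) (S.subtype hSH) hlt
          (fun s hs => hS s (by simpa [Sylow.coe_subtype, Subgroup.mem_subgroupOf] using hs))
          v (fun s hs => hv s (by simpa [Sylow.coe_subtype, Subgroup.mem_subgroupOf] using hs))
          ⟨b, hb⟩ i (Subtype.ext (by simpa using hb1))
        exact h
      -- the Frattini argument
      have htop : H ⊔ K = ⊤ := by
        obtain ⟨P, hP⟩ := ((S.isPGroup'.to_le (inf_le_left : S0 ≤ _)).comap_of_injective K.subtype
          (Subgroup.subtype_injective K)).exists_le_sylow (G := K)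
        have hle : S0 ≤ (P : Subgroup K).map K.subtype := fun x hx => ⟨⟨x, hx.2⟩, hP hx, rfl⟩
        have hcard : Nat.card ((P : Subgroup K).map K.subtype) ≤ Nat.card S0 := by
          obtain ⟨T, hT⟩ := (P.isPGroup'.map K.subtype).exists_le_sylow
          obtain ⟨g, hg⟩ := MulAction.exists_smul_eq G S T
          have hle2 : (P : Subgroup K).map K.subtype ≤ S0.map (MulAut.conj g).toMonoidHom := by
            intro x hx
            have hxT := hT hx
            rw [← hg] at hxT
            obtain ⟨y, hy, rfl⟩ := hxT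
            obtain ⟨k, -, hk⟩ := hx
            refine ⟨y, ⟨hy, ?_⟩, rfl⟩
            have h3 := hKn.conj_mem _ k.2 g⁻¹
            simp only [Subgroup.subtype_apply] at hk
            rw [hk] at h3
            simpa [mul_assoc] using h3
          exact (Subgroup.card_le_of_le hle2).trans
            (Subgroup.card_map_of_injective (MulAut.conj g).injective).le
        have hPS : (P : Subgroup K).map K.subtype = S0 := (Subgroup.eq_of_le_of_card_ge hle hcard).symm
        have := Sylow.normalizer_sup_eq_top P
        rwa [hPS] at this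
      obtain ⟨g, hg⟩ := hconj a e ha
      have hgm : g ∈ H ⊔ K := htop ▸ Subgroup.mem_top g
      rw [sup_comm] at hgm
      obtain ⟨k, hk, m, hm, rfl⟩ := Subgroup.mem_sup_of_normal_left.1 hgm
      have hb := hHM (m * ((k * m)⁻¹ * a * (k * m)) * m⁻¹) e
        (mul_mem (mul_mem hm (hSH hg)) (inv_mem hm)) (by
          rw [show m * ((k * m)⁻¹ * a * (k * m)) * m⁻¹ = k⁻¹ * a * k⁻¹⁻¹ by group, conj_pow, ha, mul_one,
            mul_inv_cancel])
      have := mul_mem (mul_mem (hKM hk) hb) (inv_mem (hKM hk))
      rwa [show k * (m * ((k * m)⁻¹ * a * (k * m)) * m⁻¹) * k⁻¹ = a by group] at this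

end Cfsg.Agent.FusSys.Agemo
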