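import Cfsg.Agent.FusSys.Alperin
import Cfsg.Agent.FusSys.AgemoCore
import Cfsg.Prelude.Def_PLocal

/-!
If `S` has class at most `n (p - 1) + 1` then the subgroup of `p^n`-th powers of `Z(S)` is normal in every
saturated fusion system over `S`; exponent bound when moreover the core is trivial.
-/

set_option autoImplicit false

namespace Cfsg.Agent.FusSys.Agemo

open Cfsg Cfsg.FusionSystem
open scoped IsMulCommutative commutatorElement

variable {Ω : Type*} [Group Ω] {S : Subgroup Ω}
variable {F : FusionSystem S} {R : Subgroup Ω} {p : ℕ}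

theorem mem_powerClosure {n : ℕ} {w : Ω}
    (h : w ∈ powerClosure p n (S ⊓ Subgroup.centralizer (S : Set Ω))) :
    ∃ z, (z ∈ S ∧ ∀ s ∈ S, s * z = z * s) ∧ w = z ^ p ^ n := by
  refine Subgroup.closure_induction ?_ ⟨1, ⟨S.one_mem, fun s _ => by simp⟩, (one_pow _).symm⟩ ?_ ?_ h
  · rintro y ⟨x, hx, rfl⟩
    exact ⟨x, ⟨hx.1, fun s hs => Subgroup.mem_centralizer_iff.1 hx.2 s hs⟩, rfl⟩
  · rintro _ _ _ _ ⟨a, ha, rfl⟩ ⟨b, hb, rfl⟩
    refine ⟨a * b, ⟨S.mul_mem ha.1 hb.1, fun s hs => ?_⟩, ((Commute.mul_pow (hb.2 a ha.1)) _).symm⟩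
    rw [← mul_assoc, ha.2 s hs, mul_assoc, hb.2 s hs, mul_assoc]
  · rintro _ _ ⟨a, ha, rfl⟩
    exact ⟨a⁻¹, ⟨S.inv_mem ha.1, fun s hs => ((Commute.inv_right (show Commute s a from ha.2 s hs))).eq⟩,
      (inv_pow _ _).symm⟩

theorem pow_mem_powerClosure {n : ℕ} {z : Ω} (hz : z ∈ S) (hc : ∀ s ∈ S, s * z = z * s) :
    z ^ p ^ n ∈ powerClosure p n (S ⊓ Subgroup.centralizer (S : Set Ω)) :=
  Subgroup.subset_closure ⟨z, ⟨hz, Subgroup.mem_centralizer_iff.2 hc⟩, rfl⟩

/-- The action of the automorphisms of `R` on the centre of `R`. -/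
noncomputable def centerHom (R : Subgroup Ω) : MulAut R →* Module.End ℤ (Additive (Subgroup.center R)) where
  toFun α :=
    ({ toFun := fun x => Additive.ofMul ⟨α ((Additive.toMul x : Subgroup.center R) : R),
          Subgroup.mem_center_iff.2 fun y => by
            have := congrArg α (Subgroup.mem_center_iff.1 (Additive.toMul x).2 (α.symm y))
            simpa [map_mul] using this⟩
       map_zero' := congrArg Additive.ofMul (Subtype.ext (map_one α))
       map_add' := fun x y => congrArg Additive.ofMul (Subtype.ext (map_mul α _ _)) } :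
      Additive (Subgroup.center R) →+ Additive (Subgroup.center R)).toIntLinearMap
  map_one' := LinearMap.ext fun x => rfl
  map_mul' α β := LinearMap.ext fun x => rfl

theorem centerHom_apply (α : MulAut R) (x : Additive (Subgroup.center R)) :
    (((Additive.toMul (centerHom R α x) : Subgroup.center R) : R) : Ω) =
      apl α (((Additive.toMul x : Subgroup.center R) : R) : Ω) := (apl_coe α _).symm

theorem centerHom_sub_one_pow {α : MulAut R} {g : Ω} (hR : R ≤ S) (hg : g ∈ S)
    (hα : ∀ x ∈ R, apl α x = g * x * g⁻¹) :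
    ∀ (i : ℕ) (x : Additive (Subgroup.center R)),
      (((Additive.toMul (((centerHom R α - 1) ^ i) x) : Subgroup.center R) : R) : Ω) ∈
        Subgroup.lowerCentralSeries S i := by
  intro i
  induction i with
  | zero => intro x; exact hR (Additive.toMul x : Subgroup.center R).1.2
  | succ i ih =>
    intro x
    rw [pow_succ', Module.End.mul_apply, LinearMap.sub_apply, Module.End.one_apply]
    set y := ((centerHom R α - 1) ^ i) x with hy
    set v : Ω := (((Additive.toMul y : Subgroup.center R) : R) : Ω) with hv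
    have hvi : v ∈ Subgroup.lowerCentralSeries S i := ih x
    have hvR : v ∈ R := (Additive.toMul y : Subgroup.center R).1.2
    have e : (((Additive.toMul (centerHom R α y - y) : Subgroup.center R) : R) : Ω) = g * v * g⁻¹ * v⁻¹ := by
      rw [← hα v hvR, ← centerHom_apply, toMul_sub, div_eq_mul_inv]
      rfl
    rw [e, Subgroup.lowerCentralSeries_succ, show g * v * g⁻¹ * v⁻¹ = ⁅v, g⁆⁻¹ by
      rw [commutatorElement_def]; group]
    exact Subgroup.inv_mem _ (Subgroup.commutator_mem_commutator hvi hg)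

variable [hp : Fact p.Prime] [Finite S]

/-- A `p`-automorphism of a centric `R` fixes the `p^n`-th powers of the elements of `Z(S)`. -/
theorem fix_of_pElement (hS : IsPGroup p S) (hF : F.IsSaturated p) {n : ℕ}
    (hcl : Subgroup.lowerCentralSeries S (n * (p - 1) + 1) = ⊥) (hR : F.IsFullyNormalized R)
    (hc : centralizerIn S R ≤ R) {α : MulAut R} (hα : α ∈ F.autGroup R) {e : ℕ} (he : α ^ p ^ e = 1)
    {z : Ω} (hz : z ∈ S) (hzc : ∀ s ∈ S, s * z = z * s) : apl α (z ^ p ^ n) = z ^ p ^ n := by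
  haveI := finite_of_le hR.1
  obtain ⟨-, P, hP⟩ := fullyAutomized_of_fullyNormalized hS hF hR
  have hzR : z ∈ R := hc ⟨hz, Subgroup.mem_centralizer_iff.2 fun x hx => hzc x (hR.1 hx)⟩
  have hzZ : (⟨z, hzR⟩ : R) ∈ Subgroup.center R :=
    Subgroup.mem_center_iff.2 fun y => Subtype.ext (hzc y (hR.1 y.2))
  have h := smul_fixed_of_sylow n ((centerHom R).comp (F.autGroup R).subtype) P le_rfl
    (c := n * (p - 1) + 1) ?_ (v := Additive.ofMul ⟨⟨z, hzR⟩, hzZ⟩) ?_
    (a := ⟨α, hα⟩) (e := e) (Subtype.ext (by simpa using he))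
  · have h' := congrArg (fun x => (((Additive.toMul x : Subgroup.center R) : R) : Ω)) h
    simp only [MonoidHom.comp_apply, centerHom_apply] at h'
    simpa using h'
  · intro s hs
    obtain ⟨g, hg, -, hgx⟩ := mem_autInducedBy_iff.1 ((autInducedBy_subgroupOf_eq P hP).1 hs)
    refine LinearMap.ext fun x => ?_
    have h1 := centerHom_sub_one_pow hR.1 hg hgx (n * (p - 1) + 1) x
    rw [hcl, Subgroup.mem_bot] at h1
    exact congrArg Additive.ofMul (Subtype.ext (Subtype.ext h1))
  · intro s hs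
    obtain ⟨g, hg, -, hgx⟩ := mem_autInducedBy_iff.1 ((autInducedBy_subgroupOf_eq P hP).1 hs)
    refine congrArg Additive.ofMul (Subtype.ext (Subtype.ext ?_))
    refine ((apl_coe (s : MulAut R) (⟨z, hzR⟩ : R)).symm.trans ?_)
    rw [hgx z hzR, hzc g hg, mul_inv_cancel_right]

/-- Every automorphism of a fully normalized centric subgroup preserves the `p^n`-th powers of `Z(S)`
once all maps of larger subgroups do. -/
theorem aut_preserves (hS : IsPGroup p S) (hF : F.IsSaturated p) {n : ℕ}
    (hcl : Subgroup.lowerCentralSeries S (n * (p - 1) + 1) = ⊥) (hR : F.IsFullyNormalized R)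
    (hc : centralizerIn S R ≤ R) (hRS : R < S)
    (hbig : ∀ (M : Subgroup Ω) (g : Ω → Ω), Nat.card R < Nat.card M → Mor F M g →
      ∀ w ∈ powerClosure p n (S ⊓ Subgroup.centralizer (S : Set Ω)), w ∈ M →
        g w ∈ powerClosure p n (S ⊓ Subgroup.centralizer (S : Set Ω)))
    {α : MulAut R} (hα : α ∈ F.autGroup R) {w : Ω}
    (hw : w ∈ powerClosure p n (S ⊓ Subgroup.centralizer (S : Set Ω))) :
    apl α w ∈ powerClosure p n (S ⊓ Subgroup.centralizer (S : Set Ω)) := by
  classical
  haveI := finite_of_le hR.1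
  set W := powerClosure p n (S ⊓ Subgroup.centralizer (S : Set Ω)) with hW
  have hWR : ∀ w ∈ W, w ∈ R := fun w hw => by
    obtain ⟨z, ⟨hz, hzc⟩, rfl⟩ := mem_powerClosure hw
    exact R.pow_mem (hc ⟨hz, Subgroup.mem_centralizer_iff.2 fun x hx => hzc x (hR.1 hx)⟩) _
  obtain ⟨-, P, hP⟩ := fullyAutomized_of_fullyNormalized hS hF hR
  -- the automorphisms mapping `W` into itself
  let M : Subgroup (F.autGroup R) :=
    Subgroup.closure {a | ∀ w ∈ W, apl (a : MulAut R) w ∈ W}
  have hM : ∀ a ∈ M, ∀ w ∈ W, apl (a : MulAut R) w ∈ W := by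
    intro a ha
    induction ha using Subgroup.closure_induction with
    | mem x hx => exact hx
    | one => intro w hw; rwa [Subgroup.coe_one, apl_one (hWR w hw)]
    | mul x y _ _ hx hy =>
      intro w hw
      rw [Subgroup.coe_mul, apl_mul _ _ (hWR w hw)]
      exact hx _ (hy w hw)
    | inv x _ hx =>
      intro w hw
      have hk : ∀ k : ℕ, ∀ w ∈ W, apl ((x : MulAut R) ^ k) w ∈ W := fun k => by
        induction k with
        | zero => intro w hw; rwa [pow_zero, apl_one (hWR w hw)]
        | succ k ih =>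
          intro w hw
          rw [pow_succ', apl_mul _ _ (hWR w hw)]
          exact hx _ (ih w hw)
      rw [inv_eq_of_mul_eq_one_right (show x * x ^ (orderOf x - 1) = 1 by
        rw [← pow_succ', Nat.sub_add_cancel (orderOf_pos x), pow_orderOf_eq_one]), Subgroup.coe_pow]
      exact hk _ w hw
  -- the subgroup generated by the p-elements
  let E : Subgroup (F.autGroup R) := Subgroup.closure {a | ∃ e : ℕ, a ^ p ^ e = 1}
  haveI hEn : E.Normal := ⟨fun x hx b => by
    have h1 : E.map (MulAut.conj b).toMonoidHom ≤ E := by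
      rw [Subgroup.map_le_iff_le_comap, Subgroup.closure_le]
      rintro y ⟨e, he⟩
      exact Subgroup.subset_closure ⟨e, by rw [← map_pow, he, map_one]⟩
    exact h1 ⟨x, hx, rfl⟩⟩
  have hEM : E ≤ M := (Subgroup.closure_le _).2 fun a ⟨e, he⟩ => Subgroup.subset_closure fun w hw => by
    obtain ⟨z, ⟨hz, hzc⟩, rfl⟩ := mem_powerClosure hw
    rw [fix_of_pElement hS hF hcl hR hc a.2 (by rw [← Subgroup.coe_pow, he, Subgroup.coe_one]) hz hzc]
    exact hw
  have hPE : (P : Subgroup (F.autGroup R)) ≤ E := fun x hx => Subgroup.subset_closure (by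
    obtain ⟨k, hk⟩ := P.isPGroup' ⟨x, hx⟩
    exact ⟨k, congrArg Subtype.val hk⟩)
  have hNM : Subgroup.normalizer ((P : Subgroup (F.autGroup R)) : Set (F.autGroup R)) ≤ M := by
    intro b hb
    refine Subgroup.subset_closure fun w hw => ?_
    have hiso : Iso F R R (apl (b : MulAut R)) := iso_apl hR.1 b.2
    have hN : normalizerIn S R ≤ nPhi S R (apl (b : MulAut R)) := by
      intro a ha
      obtain ⟨γ, hγ, hγx⟩ := exists_mem_autInducedBy ha.1 ha.2
      have hγP : (⟨γ, autInducedBy_le_autGroup hR.1 hγ⟩ : F.autGroup R) ∈ (P : Subgroup (F.autGroup R)) :=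
        (autInducedBy_subgroupOf_eq P hP).2 hγ
      have h2 := (autInducedBy_subgroupOf_eq P hP).1 ((Subgroup.mem_normalizer_iff.1 hb _).1 hγP)
      obtain ⟨h, hh, -, hhx⟩ := mem_autInducedBy_iff.1 h2
      refine mem_nPhi.2 ⟨ha.1, ha.2, h, hh, fun x hx => ?_⟩
      rw [← hγx x hx, ← hhx _ (apl_mem _ hx)]
      simp only [Subgroup.coe_mul, Subgroup.coe_inv]
      rw [apl_mul _ _ (apl_mem _ hx), apl_mul _ _ (apl_mem _ (apl_mem _ hx)), apl_inv_apl _ hx]
    obtain ⟨g, hg, hgb⟩ := (isReceptive_iff.1 (receptive_of_fullyNormalized hS hF hR)).2 R _ hiso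
    have hlt : Nat.card R < Nat.card (normalizerIn S R) :=
      card_lt_of_lt' (normalizerIn_le S R) (lt_normalizerIn hS hRS)
    have := hbig (normalizerIn S R) g hlt (hg.mono hN) w hw (le_normalizerIn hR.1 (hWR w hw))
    rwa [hgb w (hWR w hw)] at this
  have htop : M = ⊤ := by
    rw [eq_top_iff, ← Sylow.normalizer_sup_eq_top' P hPE]
    exact sup_le hNM hEM
  exact hM ⟨α, hα⟩ (htop ▸ Subgroup.mem_top _) w hw

theorem normalizerIn_eq {n : ℕ} :
    normalizerIn S (powerClosure p n (S ⊓ Subgroup.centralizer (S : Set Ω))) = S := by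
  refine inf_eq_left.2 (Subgroup.le_normalizer_iff.2 fun s hs x hx => ?_)
  obtain ⟨z, ⟨hz, hzc⟩, rfl⟩ := mem_powerClosure hx
  rw [← conj_pow, hzc s hs, mul_inv_cancel_right]
  exact pow_mem_powerClosure hz hzc

/-- The theorem. -/
theorem isNormal_powerClosure_center (hS : IsPGroup p S) (hF : F.IsSaturated p) {n : ℕ}
    (hcl : Subgroup.lowerCentralSeries S (n * (p - 1) + 1) = ⊥) :
    F.IsNormal (powerClosure p n (S ⊓ Subgroup.centralizer (S : Set Ω))) := by
  set W := powerClosure p n (S ⊓ Subgroup.centralizer (S : Set Ω)) with hW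
  have hWS : W ≤ S := fun w hw => by
    obtain ⟨z, ⟨hz, -⟩, rfl⟩ := mem_powerClosure hw
    exact S.pow_mem hz _
  have hNS : normalizerIn S W = S := normalizerIn_eq
  have hsub : SubRel F S (NRel F W) := by
    have h := subRel_nRel (F := F) hWS
    rwa [hNS] at h
  have hmor : ∀ {M : Subgroup Ω} {g : Ω → Ω}, Mor (subSys hsub) M g → ∀ w ∈ W, w ∈ M → g w ∈ W := by
    intro M g hg w hw hwM
    obtain ⟨-, -, -, k, -, hkg, hkW⟩ := (mor_subSys hsub).1 hg
    rw [← hkg w hwM]
    exact (hkW _).2 ⟨w, hw, rfl⟩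
  have hle : F ≤ subSys hsub := le_of_aut_le' hS hF fun R hR hbig α hα => by
    have hRS : R ≤ S := hR.elim (fun e => e.le) fun e => e.1.1
    haveI := finite_of_le hRS
    have hkey : ∀ w ∈ W, w ∈ R ∧ apl α w ∈ W := by
      intro w hw
      rcases hR with rfl | hess
      · refine ⟨hWS hw, ?_⟩
        obtain ⟨z, ⟨hz, hzc⟩, rfl⟩ := mem_powerClosure hw
        have hiso := iso_apl le_rfl hα
        rw [hiso.1.map_pow hz]
        refine pow_mem_powerClosure (apl_mem α hz) fun s hs => ?_
        obtain ⟨x, hx, rfl⟩ := hiso.exists_eq hs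
        rw [← hiso.1.map_mul hx hz, ← hiso.1.map_mul hz hx, hzc x hx]
      · have hc := centric_self hess.1
        have hwR : w ∈ R := by
          obtain ⟨z, ⟨hz, hzc⟩, rfl⟩ := mem_powerClosure hw
          exact R.pow_mem (hc ⟨hz, Subgroup.mem_centralizer_iff.2 fun x hx => hzc x (hRS hx)⟩) _
        rcases eq_or_lt_of_le hRS with rfl | hlt
        · obtain ⟨z, ⟨hz, hzc⟩, rfl⟩ := mem_powerClosure hw
          have hiso := iso_apl le_rfl hα
          refine ⟨hwR, ?_⟩
          rw [hiso.1.map_pow hz]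
          refine pow_mem_powerClosure (apl_mem α hz) fun s hs => ?_
          obtain ⟨x, hx, rfl⟩ := hiso.exists_eq hs
          rw [← hiso.1.map_mul hx hz, ← hiso.1.map_mul hz hx, hzc x hx]
        exact ⟨hwR, aut_preserves hS hF hcl hess.2.1 hc hlt
          (fun M g hM hg w hw hwM => hmor (hbig M g hM hg) w hw hwM) hα hw⟩
    have hle' : R ⊔ W ≤ R := sup_le le_rfl fun w hw => (hkey w hw).1
    have hn : NRel F W R (apl α) := by
      refine ⟨hNS.symm ▸ hRS, fun x hx => hNS.symm ▸ hRS (apl_mem α hx), apl α,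
        (iso_apl hRS hα).1.mono hle', fun x _ => rfl, fun y => ⟨fun hy => ?_, ?_⟩⟩
      · haveI := finite_of_le hWS
        exact ((iso_apl hRS hα).1.mono (fun w hw => (hkey w hw).1)).surj_of_card hWS
          (fun w hw => (hkey w hw).2) le_rfl hy
      · rintro ⟨x, hx, rfl⟩
        exact (hkey x hx).2
    exact Subgroup.subset_closure
      (((mor_subSys hsub).2 ⟨(iso_apl hRS hα).1, hn⟩).hom_eq fun x => (apl_coe α x).symm)
  refine isNormal_iff.2 ⟨hWS, fun P f hf => ?_⟩
  obtain ⟨-, -, -, h⟩ := (mor_subSys hsub).1 (le_iff_mor.1 hle P f hf)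
  exact h

omit hp [Finite S] in
/-- If the centre has exponent dividing `m` then the `i`-th term of the upper central series has
exponent dividing `m ^ i`. -/
theorem pow_upperCentralSeries {m : ℕ} : ∀ (i : ℕ) {G : Type*} [Group G], (∀ z ∈ Subgroup.center G, z ^ m = 1) →
    ∀ x ∈ Subgroup.upperCentralSeries G i, x ^ m ^ i = 1 := by
  intro i
  induction i with
  | zero =>
    intro G _ _ x hx
    rw [Subgroup.upperCentralSeries_zero, Subgroup.mem_bot] at hx
    simp [hx]
  | succ i ih =>
    intro G _ hm x hx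
    rw [← Subgroup.comap_upperCentralSeries_quotient_center, Subgroup.mem_comap] at hx
    have hq : ∀ z ∈ Subgroup.center (G ⧸ Subgroup.center G), z ^ m = 1 := by
      intro z hz
      obtain ⟨a, rfl⟩ := QuotientGroup.mk_surjective z
      rw [← QuotientGroup.mk_pow, QuotientGroup.eq_one_iff, Subgroup.mem_center_iff]
      intro y
      have hc : a⁻¹ * y⁻¹ * a * y ∈ Subgroup.center G := by
        rw [← QuotientGroup.eq_one_iff]
        have h := Subgroup.mem_center_iff.1 hz (y : G ⧸ Subgroup.center G)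
        simp only [QuotientGroup.mk_mul, QuotientGroup.mk_inv]
        rw [mul_assoc, ← h]
        group
      set u := a⁻¹ * y⁻¹ * a * y with hu
      have hconj : y⁻¹ * a * y = a * u := by rw [hu]; group
      have h1 : (y⁻¹ * a * y) ^ m = y⁻¹ * a ^ m * y := by
        have := conj_pow (a := y⁻¹) (b := a) (i := m)
        rwa [inv_inv] at this
      rw [hconj, (show Commute a u from Subgroup.mem_center_iff.1 hc a).mul_pow, hm u hc, mul_one] at h1
      calc y * a ^ m = y * (y⁻¹ * a ^ m * y) := by rw [← h1]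
        _ = a ^ m * y := by group
    have h := ih hq _ hx
    rw [QuotientGroup.mk'_apply, ← QuotientGroup.mk_pow, QuotientGroup.eq_one_iff] at h
    rw [pow_succ, pow_mul]
    exact hm _ h

/-- The exponent bound. -/
theorem exponent_dvd (hS : IsPGroup p S) (hF : F.IsSaturated p) {n : ℕ}
    (hcl : Subgroup.lowerCentralSeries S (n * (p - 1) + 1) = ⊥) (hcore : F.core = ⊥) :
    Monoid.exponent S ∣ p ^ (n ^ 2 * (p - 1) + n) := by
  have hbot : powerClosure p n (S ⊓ Subgroup.centralizer (S : Set Ω)) = ⊥ :=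
    le_bot_iff.1 (hcore ▸ le_core (isNormal_powerClosure_center hS hF hcl))
  have hz : ∀ z ∈ Subgroup.center S, z ^ p ^ n = 1 := by
    intro z hz
    refine Subtype.ext ?_
    have h := pow_mem_powerClosure (S := S) (p := p) (n := n) z.2
      (fun s hs => congrArg Subtype.val (Subgroup.mem_center_iff.1 hz ⟨s, hs⟩))
    rw [hbot, Subgroup.mem_bot] at h
    simpa using h
  have htop : Subgroup.upperCentralSeries S (n * (p - 1) + 1) = ⊤ := by
    refine Subgroup.lowerCentralSeries_eq_bot_iff_upperCentralSeries_eq_top.1 ?_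
    rw [← Subgroup.map_subtype_inj, Subgroup.map_bot, Subgroup.top_subtype_lowerCentralSeries, hcl]
  refine Monoid.exponent_dvd_of_forall_pow_eq_one fun x => ?_
  have h := pow_upperCentralSeries _ hz x (htop ▸ Subgroup.mem_top x)
  rwa [← pow_mul, show n * (n * (p - 1) + 1) = n ^ 2 * (p - 1) + n by ring] at h

end Cfsg.Agent.FusSys.Agemo
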