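import Cfsg.Agent.FusSys.Mor
import Mathlib.GroupTheory.Subgroup.Centralizer

/-!
Automorphism groups in a fusion system: membership, `Aut_K(P)`, `Inn P`, transport along an isomorphism.
-/

set_option autoImplicit false

namespace Cfsg.Agent.FusSys

open Cfsg Cfsg.FusionSystem

variable {Ω : Type*} [Group Ω] {S : Subgroup Ω}
variable {F : FusionSystem S} {P Q R : Subgroup Ω} {f g : Ω → Ω}

/-- An automorphism of `P` as a total function on `Ω`. -/
noncomputable def apl (α : MulAut P) : Ω → Ω := extendFn (P.subtype.comp α.toMonoidHom)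

theorem apl_apply (α : MulAut P) {x : Ω} (hx : x ∈ P) : apl α x = ((α ⟨x, hx⟩ : P) : Ω) :=
  extendFn_apply _ hx

theorem apl_coe (α : MulAut P) (x : P) : apl α x = ((α x : P) : Ω) := apl_apply α x.2

theorem apl_mem (α : MulAut P) {x : Ω} (hx : x ∈ P) : apl α x ∈ P := by
  rw [apl_apply α hx]
  exact (α _).2

theorem apl_mul (α β : MulAut P) {x : Ω} (hx : x ∈ P) :
    apl (α * β) x = apl α (apl β x) := by
  rw [apl_apply _ hx, apl_apply β hx, apl_coe]
  rfl

theorem apl_one {x : Ω} (hx : x ∈ P) : apl (1 : MulAut P) x = x := apl_apply _ hx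

theorem apl_inv_apl (α : MulAut P) {x : Ω} (hx : x ∈ P) : apl α⁻¹ (apl α x) = x := by
  rw [← apl_mul _ _ hx, inv_mul_cancel, apl_one hx]

theorem apl_apl_inv (α : MulAut P) {x : Ω} (hx : x ∈ P) : apl α (apl α⁻¹ x) = x := by
  rw [← apl_mul _ _ hx, mul_inv_cancel, apl_one hx]

theorem apl_ext {α β : MulAut P} (h : ∀ x ∈ P, apl α x = apl β x) : α = β :=
  MulEquiv.ext fun x => Subtype.ext (by rw [← apl_coe, ← apl_coe]; exact h x x.2)

theorem Iso.exists_aut (hf : Iso F P P f) : ∃ α : MulAut P, ∀ x ∈ P, apl α x = f x :=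
  ⟨hf.toEquiv, fun _ hx => (apl_apply _ hx).trans rfl⟩

theorem autGen_iff {α : MulAut P} :
    P.subtype.comp α.toMonoidHom ∈ F.Hom P ↔ Iso F P P (apl α) := by
  refine ⟨fun h => ⟨mor_extendFn h, fun y => ⟨fun hy => ⟨apl α⁻¹ y, apl_mem _ hy, apl_apl_inv α hy⟩,
    fun ⟨x, hx, hxy⟩ => hxy ▸ apl_mem α hx⟩⟩, fun h => mem_hom_iff.2 h.1⟩

theorem mem_autGroup_iff (hP : P ≤ S) {α : MulAut P} :
    α ∈ F.autGroup P ↔ Iso F P P (apl α) := by
  refine ⟨fun h => ?_, fun h => Subgroup.subset_closure (autGen_iff.2 h)⟩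
  induction h using Subgroup.closure_induction with
  | mem x hx => exact autGen_iff.1 hx
  | one => exact (iso_id hP).congr fun x hx => apl_one hx
  | mul x y _ _ hx hy => exact (hy.comp hx).congr fun z hz => apl_mul x y hz
  | inv x _ hx =>
    obtain ⟨g, hg, hgx, -⟩ := hx.symm
    refine hg.congr fun y hy => ?_
    obtain ⟨z, hz, rfl⟩ := hx.exists_eq hy
    rw [hgx z hz, apl_inv_apl x hz]

theorem autGroup_eq_bot (hP : ¬ P ≤ S) : F.autGroup P = ⊥ := by
  refine (Subgroup.closure_eq_bot_iff).2 fun α h => absurd (F.le_of_mem h).1 hP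

theorem Iso.exists_mem_autGroup (hf : Iso F P P f) :
    ∃ α ∈ F.autGroup P, ∀ x ∈ P, apl α x = f x := by
  obtain ⟨α, hα⟩ := hf.exists_aut
  exact ⟨α, (mem_autGroup_iff hf.left_le).2 (hf.congr hα), hα⟩

theorem iso_apl (hP : P ≤ S) {α : MulAut P} (h : α ∈ F.autGroup P) : Iso F P P (apl α) :=
  (mem_autGroup_iff hP).1 h

/-! ### `Aut_K(P)` -/

theorem mem_autInducedBy_iff {K : Subgroup Ω} {α : MulAut P} :
    α ∈ autInducedBy K P ↔
      ∃ g ∈ K, g ∈ Subgroup.normalizer (P : Set Ω) ∧ ∀ x ∈ P, apl α x = g * x * g⁻¹ := by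
  constructor
  · intro h
    induction h using Subgroup.closure_induction with
    | mem x hx =>
      obtain ⟨g, hg, hgx⟩ := hx
      have happly : ∀ y ∈ P, apl x y = g * y * g⁻¹ := fun y hy =>
        (apl_apply x hy).trans (hgx ⟨y, hy⟩)
      refine ⟨g, hg, Subgroup.mem_normalizer_iff.2 fun y => ⟨fun hy => ?_, fun hy => ?_⟩, happly⟩
      · rw [← happly y hy]
        exact apl_mem x hy
      · have h1 := happly _ (apl_mem x⁻¹ hy)
        rw [apl_apl_inv x hy] at h1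
        have h2 : apl x⁻¹ (g * y * g⁻¹) = y := mul_left_cancel (mul_right_cancel h1.symm)
        exact h2 ▸ apl_mem x⁻¹ hy
    | one => exact ⟨1, K.one_mem, Subgroup.one_mem _, fun x hx => by simp [apl_one hx]⟩
    | mul x y _ _ hx hy =>
      obtain ⟨g, hg, hgn, hgx⟩ := hx
      obtain ⟨k, hk, hkn, hky⟩ := hy
      refine ⟨g * k, K.mul_mem hg hk, Subgroup.mul_mem _ hgn hkn, fun z hz => ?_⟩
      rw [apl_mul _ _ hz, hgx _ (apl_mem y hz), hky z hz]
      group
    | inv x _ hx =>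
      obtain ⟨g, hg, hgn, hgx⟩ := hx
      refine ⟨g⁻¹, K.inv_mem hg, Subgroup.inv_mem _ hgn, fun z hz => ?_⟩
      have h1 := hgx _ (apl_mem x⁻¹ hz)
      rw [apl_apl_inv x hz] at h1
      conv_rhs => rw [h1]
      group
  · rintro ⟨g, hg, -, hgx⟩
    exact Subgroup.subset_closure ⟨g, hg, fun x => (apl_coe α x).symm.trans (hgx x x.2)⟩

theorem apl_normalizerMonoidHom (g : Subgroup.normalizer (P : Set Ω)) {x : Ω} (hx : x ∈ P) :
    apl (P.normalizerMonoidHom g) x = g * x * (g : Ω)⁻¹ := by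
  rw [apl_apply _ hx]
  rfl

theorem exists_mem_autInducedBy {K : Subgroup Ω} {g : Ω} (hg : g ∈ K)
    (hn : g ∈ Subgroup.normalizer (P : Set Ω)) :
    ∃ α ∈ autInducedBy K P, ∀ x ∈ P, apl α x = g * x * g⁻¹ :=
  ⟨P.normalizerMonoidHom ⟨g, hn⟩,
    mem_autInducedBy_iff.2 ⟨g, hg, hn, fun _ hx => apl_normalizerMonoidHom ⟨g, hn⟩ hx⟩,
    fun _ hx => apl_normalizerMonoidHom ⟨g, hn⟩ hx⟩

theorem autInducedBy_mono {K K' : Subgroup Ω} (h : K ≤ K') :
    autInducedBy K P ≤ autInducedBy K' P := fun α hα => by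
  obtain ⟨g, hg, hn, hx⟩ := mem_autInducedBy_iff.1 hα
  exact mem_autInducedBy_iff.2 ⟨g, h hg, hn, hx⟩

theorem autInducedBy_eq_map (K : Subgroup Ω) :
    autInducedBy K P =
      (K.subgroupOf (Subgroup.normalizer (P : Set Ω))).map P.normalizerMonoidHom := by
  ext α
  rw [mem_autInducedBy_iff, Subgroup.mem_map]
  constructor
  · rintro ⟨g, hg, hn, hx⟩
    exact ⟨⟨g, hn⟩, hg, apl_ext fun x hxP =>
      (apl_normalizerMonoidHom ⟨g, hn⟩ hxP).trans (hx x hxP).symm⟩
  · rintro ⟨⟨g, hn⟩, hg, rfl⟩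
    exact ⟨g, hg, hn, fun x hx => apl_normalizerMonoidHom ⟨g, hn⟩ hx⟩

theorem autInducedBy_le_autGroup (hP : P ≤ S) : autInducedBy S P ≤ F.autGroup P := fun α hα => by
  obtain ⟨g, hg, hn, hx⟩ := mem_autInducedBy_iff.1 hα
  exact (mem_autGroup_iff hP).2 ((iso_conj_self hP hg hn).congr hx)

theorem apl_conj (g : P) {x : Ω} (hx : x ∈ P) :
    apl (MulAut.conj g) x = g * x * (g : Ω)⁻¹ := by
  rw [apl_apply _ hx]
  rfl

theorem inn_eq_autInducedBy : Inn P = autInducedBy P P := by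
  ext α
  rw [mem_autInducedBy_iff]
  constructor
  · rintro ⟨g, rfl⟩
    exact ⟨g, g.2, Subgroup.le_normalizer g.2, fun x hx => apl_conj g hx⟩
  · rintro ⟨g, hg, -, hx⟩
    exact ⟨⟨g, hg⟩, apl_ext fun x hxP => (apl_conj ⟨g, hg⟩ hxP).trans (hx x hxP).symm⟩

theorem inn_le_autInducedBy (hP : P ≤ S) : Inn P ≤ autInducedBy S P :=
  inn_eq_autInducedBy.le.trans (autInducedBy_mono hP)

theorem inn_le_autGroup (hP : P ≤ S) : Inn P ≤ F.autGroup P :=
  (inn_le_autInducedBy hP).trans (autInducedBy_le_autGroup hP)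

theorem isPGroup_autInducedBy {p : ℕ} {K : Subgroup Ω} (hK : IsPGroup p K) :
    IsPGroup p (autInducedBy K P) := by
  rw [autInducedBy_eq_map]
  exact (hK.comap_subtype).map _

theorem card_autInducedBy_mul {K : Subgroup Ω} :
    Nat.card (autInducedBy K P) * Nat.card ↥(centralizerIn K P) =
      Nat.card ↥(normalizerIn K P) := by
  have hC : centralizerIn K P ≤ normalizerIn K P :=
    inf_le_inf_left K (Subgroup.centralizer_le_normalizer (P : Set Ω))
  let f : ↥(normalizerIn K P) →* MulAut P :=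
    P.normalizerMonoidHom.comp (Subgroup.inclusion inf_le_right)
  have hr : f.range = autInducedBy K P := by
    ext α
    rw [mem_autInducedBy_iff]
    constructor
    · rintro ⟨⟨g, hg, hn⟩, rfl⟩
      exact ⟨g, hg, hn, fun x hx => apl_normalizerMonoidHom ⟨g, hn⟩ hx⟩
    · rintro ⟨g, hg, hn, hx⟩
      exact ⟨⟨g, hg, hn⟩, apl_ext fun x hxP =>
        (apl_normalizerMonoidHom ⟨g, hn⟩ hxP).trans (hx x hxP).symm⟩
  have hk : f.ker = (centralizerIn K P).subgroupOf (normalizerIn K P) := by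
    ext ⟨g, hg⟩
    rw [MonoidHom.mem_ker, Subgroup.mem_subgroupOf]
    show P.normalizerMonoidHom ⟨g, hg.2⟩ = 1 ↔ g ∈ K ∧ g ∈ Subgroup.centralizer (P : Set Ω)
    rw [← MonoidHom.mem_ker, Subgroup.normalizerMonoidHom_ker, Subgroup.mem_subgroupOf]
    exact ⟨fun h => ⟨hg.1, h⟩, And.right⟩
  have e := Subgroup.card_eq_card_quotient_mul_card_subgroup f.ker
  rw [Nat.card_congr (QuotientGroup.quotientKerEquivRange f).toEquiv, hr, hk,
    Nat.card_congr (Subgroup.subgroupOfEquivOfLe hC).toEquiv] at e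
  exact e.symm

/-! ### Transport along an isomorphism -/

/-- The isomorphism `Aut(P) ≃* Aut(Q)` coming from an isomorphism of the system from `P` to `Q`. -/
noncomputable def Iso.conjAut (hf : Iso F P Q f) : MulAut P ≃* MulAut Q := MulAut.congr hf.toEquiv

theorem Iso.conjAut_apl (hf : Iso F P Q f) (α : MulAut P) {x : Ω} (hx : x ∈ P) :
    apl (hf.conjAut α) (f x) = f (apl α x) := by
  rw [apl_apply _ (hf.mem hx), apl_apply _ hx]
  show ((hf.toEquiv (α (hf.toEquiv.symm ⟨f x, hf.mem hx⟩)) : Q) : Ω) = _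
  have : hf.toEquiv.symm ⟨f x, hf.mem hx⟩ = ⟨x, hx⟩ :=
    hf.toEquiv.symm_apply_eq.2 rfl
  rw [this]
  rfl

theorem Iso.conjAut_mem (hf : Iso F P Q f) {α : MulAut P} (hα : α ∈ F.autGroup P) :
    hf.conjAut α ∈ F.autGroup Q := by
  obtain ⟨g, hg, hgf, hfg⟩ := hf.symm
  refine (mem_autGroup_iff hf.right_le).2 (((hg.comp (iso_apl hf.left_le hα)).comp hf).congr ?_)
  intro y hy
  obtain ⟨x, hx, rfl⟩ := hf.exists_eq hy
  rw [hf.conjAut_apl α hx]
  simp [hgf x hx]

theorem Iso.map_autGroup (hf : Iso F P Q f) :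
    (F.autGroup P).map hf.conjAut.toMonoidHom = F.autGroup Q := by
  refine le_antisymm (fun β hβ => ?_) (fun β hβ => ?_)
  · obtain ⟨α, hα, rfl⟩ := Subgroup.mem_map.1 hβ
    exact hf.conjAut_mem hα
  · obtain ⟨g, hg, hgf, hfg⟩ := hf.symm
    refine Subgroup.mem_map.2 ⟨hg.conjAut β, hg.conjAut_mem hβ, apl_ext fun y hy => ?_⟩
    obtain ⟨x, hx, rfl⟩ := hf.exists_eq hy
    show apl (hf.conjAut (hg.conjAut β)) (f x) = _
    rw [hf.conjAut_apl _ hx]
    have h1 := hg.conjAut_apl β (hf.mem hx)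
    rw [hgf x hx] at h1
    rw [h1, hfg _ (apl_mem β (hf.mem hx))]

theorem Iso.card_autGroup (hf : Iso F P Q f) :
    Nat.card (F.autGroup P) = Nat.card (F.autGroup Q) := by
  rw [← hf.map_autGroup]
  exact (Subgroup.card_map_of_injective hf.conjAut.injective).symm

/-- An isomorphism transporting a group of automorphisms with the source's and target's
conjugation: `hf.conjAut` carries conjugation by `g` to conjugation by `h`. -/
theorem Iso.conjAut_eq_conj (hf : Iso F P Q f) {α : MulAut P} {h : Ω}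
    (hα : ∀ x ∈ P, f (apl α x) = h * f x * h⁻¹) :
    ∀ y ∈ Q, apl (hf.conjAut α) y = h * y * h⁻¹ := by
  intro y hy
  obtain ⟨x, hx, rfl⟩ := hf.exists_eq hy
  rw [hf.conjAut_apl α hx, hα x hx]

end Cfsg.Agent.FusSys
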