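import Cfsg.Agent.FusSys.CentFocal
import Cfsg.Agent.FusSys.WeaklyNormalAux
import Cfsg.Agent.FusSys.NormalSub
import Cfsg.Agent.FusSys.ModT
import Cfsg.Agent.FusSys.Criteria
import Cfsg.Agent.FusSys.SylowAux
import Cfsg.Agent.Fusion.Residual

/-!
The centralizer `C_S(E)` of a normal subsystem `E`: the largest subgroup of `C_S(T)` centralized by
`E`; it is strongly closed.
-/

set_option autoImplicit false

namespace Cfsg.Agent.FusSys.CentE

open Cfsg Cfsg.FusionSystem Cfsg.Agent.FusSys Cfsg.Agent.FusSys.CentFocal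

universe u

variable {Ω : Type u} [Group Ω] {S T P : Subgroup Ω} {F : FusionSystem S} {E : FusionSystem T}
variable {p : ℕ}

theorem mor_map_zpow {Q : Subgroup Ω} {f : Ω → Ω} (hf : Mor F Q f) {x : Ω} (hx : x ∈ Q) (j : ℤ) :
    f (x ^ j) = f x ^ j := by
  obtain ⟨φ, -, h⟩ := hf
  have h2 := map_zpow φ ⟨x, hx⟩ j
  rw [h, h] at h2
  exact h2

/-- The automorphisms of `P C_S(P)` stabilizing `P`, trivial modulo `P` on `C_S(P)` and inducing on `P`
an automorphism of `E`. -/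
def IsDelta (E : FusionSystem T) (F : FusionSystem S) (P : Subgroup Ω)
    (δ : MulAut ↥(P ⊔ centralizerIn S P)) : Prop :=
  δ ∈ F.autGroup (P ⊔ centralizerIn S P) ∧
    (∃ a ∈ E.autGroup P, ∀ x ∈ P, apl δ x = apl a x) ∧
    ∀ c ∈ centralizerIn S P, c⁻¹ * apl δ c ∈ P

theorem IsDelta.one : IsDelta E F P 1 :=
  ⟨one_mem _, ⟨1, one_mem _, fun x hx => by rw [apl_one hx, apl_one (Subgroup.mem_sup_left hx)]⟩,
    fun c hc => by rw [apl_one (Subgroup.mem_sup_right hc), inv_mul_cancel]; exact P.one_mem⟩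

theorem IsDelta.mul (hP : P ≤ S) {δ δ' : MulAut ↥(P ⊔ centralizerIn S P)} (h : IsDelta E F P δ)
    (h' : IsDelta E F P δ') : IsDelta E F P (δ * δ') := by
  obtain ⟨h1, ⟨a, ha, hax⟩, h3⟩ := h
  obtain ⟨h1', ⟨a', ha', ha'x⟩, h3'⟩ := h'
  refine ⟨mul_mem h1 h1', ⟨a * a', mul_mem ha ha', fun x hx => ?_⟩, fun c hc => ?_⟩
  · rw [apl_mul _ _ (Subgroup.mem_sup_left hx), ha'x x hx, hax _ (apl_mem a' hx), apl_mul _ _ hx]
  · rw [apl_mul _ _ (Subgroup.mem_sup_right hc), ← mul_inv_cancel_left c (apl δ' c),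
      (iso_apl (sup_le hP (centralizerIn_le S P)) h1).1.map_mul (Subgroup.mem_sup_right hc)
        (Subgroup.mem_sup_left (h3' c hc)), ← mul_assoc]
    refine P.mul_mem (h3 c hc) ?_
    rw [hax _ (h3' c hc)]
    exact apl_mem a (h3' c hc)

theorem IsDelta.pow (hP : P ≤ S) {δ : MulAut ↥(P ⊔ centralizerIn S P)} (h : IsDelta E F P δ) :
    ∀ n : ℕ, IsDelta E F P (δ ^ n)
  | 0 => by rw [pow_zero]; exact IsDelta.one
  | n + 1 => by rw [pow_succ']; exact h.mul hP (IsDelta.pow hP h n)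

theorem IsDelta.iso (hP : P ≤ S) (hEF : E.IsSubsystemOf F) (hPT : P ≤ T)
    {δ : MulAut ↥(P ⊔ centralizerIn S P)} (h : IsDelta E F P δ) : Iso F P P (apl δ) := by
  obtain ⟨-, ⟨a, ha, hax⟩, -⟩ := h
  refine (iso_apl hP (α := a) ?_).congr hax
  exact Subgroup.subset_closure ((hEF P) ((iso_apl hPT ha).1.hom_eq fun x => (apl_coe a x).symm))

theorem centralizerIn_anti {A B : Subgroup Ω} (h : A ≤ B) :
    centralizerIn S B ≤ centralizerIn S A :=
  fun _ hc => ⟨hc.1, Subgroup.centralizer_le h hc.2⟩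

/-- A map of order prime to `p` moving `u` by a fixed element fixes `u`. -/
theorem apl_eq_of_fixed_diff [Fact p.Prime] [Finite S] (hS : IsPGroup p S) {N : Subgroup Ω}
    (hN : N ≤ S) {γ : MulAut N} (hγ : (orderOf γ).Coprime p) {u : Ω} (hu : u ∈ N)
    (hz : apl γ (u⁻¹ * apl γ u) = u⁻¹ * apl γ u) : apl γ u = u := by
  haveI := finite_of_le hN
  exact eq_of_fixed_quot (hS.to_le hN) hγ hu hz

variable [Fact p.Prime] [Finite S] (hS : IsPGroup p S) (hF : F.IsSaturated p)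

/-- The elements of `C_S(T)` fixed by all these automorphisms of order prime to `p`. -/
def cFix (E : FusionSystem T) (F : FusionSystem S) (p : ℕ) : Subgroup Ω where
  carrier := {c | c ∈ centralizerIn S T ∧ ∀ P ≤ T, F.IsFullyCentralized P →
    ∀ δ, IsDelta E F P δ → (orderOf δ).Coprime p → apl δ c = c}
  one_mem' := ⟨Subgroup.one_mem _, fun P _ _ δ _ _ => by
    rw [apl_apply δ (Subgroup.one_mem _)]; exact congrArg Subtype.val (map_one δ)⟩
  mul_mem' := by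
    rintro a b ⟨ha, ha'⟩ ⟨hb, hb'⟩
    refine ⟨Subgroup.mul_mem _ ha hb, fun P hPT hPc δ hδ hord => ?_⟩
    rw [(iso_apl (sup_le hPc.1 (centralizerIn_le S P)) hδ.1).1.map_mul
      (Subgroup.mem_sup_right (centralizerIn_anti hPT ha))
      (Subgroup.mem_sup_right (centralizerIn_anti hPT hb)), ha' P hPT hPc δ hδ hord,
      hb' P hPT hPc δ hδ hord]
  inv_mem' := by
    rintro a ⟨ha, ha'⟩
    refine ⟨Subgroup.inv_mem _ ha, fun P hPT hPc δ hδ hord => ?_⟩
    rw [(iso_apl (sup_le hPc.1 (centralizerIn_le S P)) hδ.1).1.map_inv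
      (Subgroup.mem_sup_right (centralizerIn_anti hPT ha)), ha' P hPT hPc δ hδ hord]

/-- `C_S(E)`. -/
def cE (E : FusionSystem T) (F : FusionSystem S) (p : ℕ) (hTS : T ≤ S) : Subgroup Ω where
  carrier := {c | c ∈ centralizerIn S T ∧ ∀ a ∈ F.autGroup (T ⊔ centralizerIn S T),
    apl a c ∈ cFix E F p}
  one_mem' := ⟨Subgroup.one_mem _, fun a _ => by
    rw [apl_apply a (Subgroup.one_mem _), show (⟨1, _⟩ : ↥(T ⊔ centralizerIn S T)) = 1 from rfl,
      map_one]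
    exact Subgroup.one_mem _⟩
  mul_mem' := by
    rintro a b ⟨ha, ha'⟩ ⟨hb, hb'⟩
    refine ⟨Subgroup.mul_mem _ ha hb, fun g hg => ?_⟩
    rw [(iso_apl (sup_le hTS (centralizerIn_le S T)) hg).1.map_mul (Subgroup.mem_sup_right ha)
      (Subgroup.mem_sup_right hb)]
    exact Subgroup.mul_mem _ (ha' g hg) (hb' g hg)
  inv_mem' := by
    rintro a ⟨ha, ha'⟩
    refine ⟨Subgroup.inv_mem _ ha, fun g hg => ?_⟩
    rw [(iso_apl (sup_le hTS (centralizerIn_le S T)) hg).1.map_inv (Subgroup.mem_sup_right ha)]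
    exact Subgroup.inv_mem _ (ha' g hg)

theorem cE_le (hTS : T ≤ S) : cE E F p hTS ≤ centralizerIn S T := fun _ hc => hc.1

theorem cE_le_cFix (hTS : T ≤ S) {c : Ω} (hc : c ∈ cE E F p hTS) : c ∈ cFix E F p := by
  have h := hc.2 1 (one_mem _)
  rwa [apl_one (Subgroup.mem_sup_right hc.1)] at h

include hS hF

theorem apl_mem_cE (hT : F.StronglyClosed T) {a : MulAut ↥(T ⊔ centralizerIn S T)}
    (ha : a ∈ F.autGroup (T ⊔ centralizerIn S T)) {c : Ω} (hc : c ∈ cE E F p hT.1) :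
    apl a c ∈ cE E F p hT.1 := by
  have _ := hS
  have _ := hF
  have hN : T ⊔ centralizerIn S T ≤ S := sup_le hT.1 (centralizerIn_le S T)
  refine ⟨(iso_apl hN ha).1.mem_centralizerIn le_sup_left
    (StronglyClosed.iso_self hT (iso_apl hN ha).1 le_sup_left) (Subgroup.mem_sup_right hc.1) hc.1.2,
    fun b hb => ?_⟩
  rw [← apl_mul _ _ (Subgroup.mem_sup_right hc.1)]
  exact hc.2 _ (mul_mem hb ha)

theorem conj_mem_cE (hT : F.StronglyClosed T) {s : Ω} (hs : s ∈ S) {c : Ω}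
    (hc : c ∈ cE E F p hT.1) : s * c * s⁻¹ ∈ cE E F p hT.1 := by
  have hN : T ⊔ centralizerIn S T ≤ S := sup_le hT.1 (centralizerIn_le S T)
  have hn := StronglyClosed.le_normalizer (stronglyClosed_sup_centralizer hS hF hT) hs
  obtain ⟨a, ha, hax⟩ := (iso_conj_self (F := F) hN hs hn).exists_mem_autGroup
  rw [← hax c (Subgroup.mem_sup_right hc.1)]
  exact apl_mem_cE hS hF hT ha hc

theorem cFoc_le_cE (hE : E.IsNormalIn F p) (hT : F.StronglyClosed T) :
    cFoc F hT.1 ≤ cE E F p hT.1 := by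
  have hfix : cFoc F hT.1 ≤ cFix E F p := fun c hc =>
    ⟨cFoc_le_centralizerIn hT.1 hc, fun P hPT hPc δ hδ hord =>
      fix_cFoc hS hF hPc hδ.1 (hδ.iso hPc.1 hE.1.2.2.1 hPT) hδ.2.2 hord
        (cFoc_mono hT.1 hPc.1 hPT hc)⟩
  have hN : T ⊔ centralizerIn S T ≤ S := sup_le hT.1 (centralizerIn_le S T)
  exact fun c hc => ⟨cFoc_le_centralizerIn hT.1 hc, fun a ha =>
    hfix (apl_mem_cFoc hT.1 ha (StronglyClosed.iso_self hT (iso_apl hN ha).1 le_sup_left) hc)⟩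

theorem cE_centralized (hE : E.IsNormalIn F p) (hT : F.StronglyClosed T) :
    ∀ Q : Subgroup Ω, E.Hom Q ⊆ F.centralizerHom (cE E F p hT.1) Q :=
  subsystem_centralizes_of hS hF E hE hT.1 (cE_le hT.1)
    (fun P hPT hPc δ hδ _ ha hmod hord x hx =>
      (cE_le_cFix hT.1 hx).2 P hPT hPc δ ⟨hδ, ha, hmod⟩ hord)
    (fun δ hδ _ x hx => apl_mem_cE hS hF hT hδ hx)

/-- An automorphism extending one of `P` which fixes `y` forces an extension of order prime to `p`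
to fix `y`. -/
theorem fix_delta (hPc : F.IsFullyCentralized P) {δ : MulAut ↥(P ⊔ centralizerIn S P)}
    (hδ : δ ∈ F.autGroup (P ⊔ centralizerIn S P)) (hPP : Iso F P P (apl δ))
    (hmod : ∀ c ∈ centralizerIn S P, c⁻¹ * apl δ c ∈ P) (hord : (orderOf δ).Coprime p) {y : Ω}
    (hy : y ∈ centralizerIn S P) {m : Ω → Ω} (hm : Mor F (P ⊔ Subgroup.zpowers y) m)
    (hmP : ∀ x ∈ P, m x = apl δ x) (hmy : m y = y) : apl δ y = y := by
  have hle : P ⊔ Subgroup.zpowers y ≤ P ⊔ centralizerIn S P :=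
    sup_le_sup_left (Subgroup.zpowers_le.2 hy) P
  have hN : P ⊔ centralizerIn S P ≤ S := sup_le hPc.1 (centralizerIn_le S P)
  have hmy' : ∀ a ∈ Subgroup.zpowers y, m a ∈ Subgroup.zpowers y ∧ m a = a := by
    have hid : ∀ a ∈ Subgroup.zpowers y, m a = a := by
      intro a ha
      obtain ⟨j, rfl⟩ := Subgroup.mem_zpowers_iff.1 ha
      rw [mor_map_zpow hm (Subgroup.mem_sup_right (Subgroup.mem_zpowers y)), hmy]
    exact fun a ha => ⟨(hid a ha).symm ▸ ha, hid a ha⟩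
  obtain ⟨X, hX⟩ := hm.exists_iso
  have hXX : X ≤ P ⊔ Subgroup.zpowers y := fun z hz => by
    obtain ⟨x, hx, rfl⟩ := hX.exists_eq hz
    exact hm.mem_of_sup (fun a ha => Subgroup.mem_sup_left (hmP a ha ▸ hPP.mem ha))
      (fun a ha => Subgroup.mem_sup_right (hmy' a ha).1) hx
  obtain ⟨m', hm', hm'm, -⟩ := hX.symm
  have hyX : y ∈ X := hmy ▸ hX.mem (Subgroup.mem_sup_right (Subgroup.mem_zpowers y))
  have hPX : P ≤ X := fun z hz => by
    obtain ⟨x, hx, rfl⟩ := hPP.exists_eq hz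
    rw [← hmP x hx]
    exact hX.mem (Subgroup.mem_sup_left hx)
  have hfx : Mor F (P ⊔ Subgroup.zpowers y) (apl δ ∘ m') :=
    (hm'.1.comp (iso_apl hN hδ).1 fun z hz => hle (hm'.mem hz)).mono
      (sup_le hPX (Subgroup.zpowers_le.2 hyX))
  have hfP : ∀ z ∈ P, (apl δ ∘ m') z = z := fun z hz => by
    obtain ⟨x, hx, rfl⟩ := hPP.exists_eq hz
    show apl δ (m' (apl δ x)) = _
    rw [← hmP x hx, hm'm x (Subgroup.mem_sup_left hx), hmP x hx]
  have hfy : (apl δ ∘ m') y = apl δ y := by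
    show apl δ (m' y) = _
    congr 1
    have h := hm'm y (Subgroup.mem_sup_right (Subgroup.mem_zpowers y))
    rwa [hmy] at h
  have hz : y⁻¹ * apl δ y ∈ cFoc F hPc.1 := by
    rw [← hfy]
    refine quot_mem_focal (F := centralizerSys F hPc.1) (mor_cSys.2 ⟨hfx.mono le_sup_right,
      Subgroup.zpowers_le.2 hy, fun a ha => ?_, _, hfx.mono (sup_le le_sup_right le_sup_left),
      fun _ _ => rfl, hfP⟩) (Subgroup.mem_zpowers y)
    refine ⟨hfx.mem_S (Subgroup.mem_sup_right ha), ?_⟩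
    refine (hfx.mem_centralizerIn le_sup_left ⟨hfx.mono le_sup_left, fun w =>
      ⟨fun hw => ⟨w, hw, hfP w hw⟩, fun ⟨v, hv, hvw⟩ => hvw ▸ (hfP v hv).symm ▸ hv⟩⟩
      (Subgroup.mem_sup_right ha) (Subgroup.zpowers_le.2 hy ha).2).2
  refine apl_eq_of_fixed_diff hS hN hord (Subgroup.mem_sup_right hy) ?_
  exact fix_cFoc hS hF hPc hδ hPP hmod hord hz

/-- Every centralized subgroup of `C_S(T)` lies in `C_S(E)`. -/
theorem le_cE (hE : E.IsNormalIn F p) (hT : F.StronglyClosed T) {Y : Subgroup Ω}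
    (hY : Y ≤ centralizerIn S T) (hYE : ∀ Q : Subgroup Ω, E.Hom Q ⊆ F.centralizerHom Y Q) :
    Y ≤ cE E F p hT.1 := by
  intro y hy
  refine ⟨hY hy, fun a ha => ?_⟩
  have hN : (T ⊔ centralizerIn S T) ≤ S := sup_le hT.1 (centralizerIn_le S T)
  have hai := iso_apl hN ha
  have hTT : Iso F T T (apl a) := StronglyClosed.iso_self hT hai.1 (show T ≤ (T ⊔ centralizerIn S T) from le_sup_left)
  have hay : apl a y ∈ centralizerIn S T :=
    hai.1.mem_centralizerIn le_sup_left hTT (Subgroup.mem_sup_right (hY hy)) (hY hy).2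
  refine ⟨hay, fun P hPT hPc δ hδ hord => ?_⟩
  obtain ⟨α, hα, hδα⟩ := hδ.2.1
  obtain ⟨a₀, ha₀, ha₀x⟩ := hTT.exists_mem_autGroup
  obtain ⟨h, hh, hhx⟩ := exists_transport hE.1.2.2 (iso_apl hPT hα).1 (Subgroup.inv_mem _ ha₀)
  set R := (P.subgroupOf T).map (T.subtype.comp (a₀⁻¹).toMonoidHom)
  obtain ⟨φ, hφ, hφh⟩ := hh
  have hc := (mem_centralizerHom_iff.1 (hYE _ hφ)).2
  obtain ⟨-, -, g, hg, hgφ, hgY⟩ := hc
  have hinv : ∀ x ∈ T, apl a⁻¹ x = apl a₀⁻¹ x := fun x hx => by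
    conv_lhs => rw [← apl_apl_inv a₀ hx, ha₀x _ (apl_mem a₀⁻¹ hx)]
    exact apl_inv_apl a (Subgroup.mem_sup_left (apl_mem a₀⁻¹ hx))
  have hb := iso_apl hN (Subgroup.inv_mem _ ha)
  have hbay : apl a⁻¹ (apl a y) = y := apl_inv_apl a (Subgroup.mem_sup_right (hY hy))
  have hRN : R ≤ T := by rintro _ ⟨x, -, rfl⟩; exact (a₀⁻¹ x).2
  have hPR : ∀ x ∈ P, apl a⁻¹ x ∈ R := fun x hx => by
    rw [hinv x (hPT hx)]
    exact ⟨⟨x, hPT hx⟩, hx, (apl_apply _ (hPT hx)).symm⟩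
  have hyN : P ⊔ Subgroup.zpowers (apl a y) ≤ (T ⊔ centralizerIn S T) :=
    sup_le (hPT.trans le_sup_left) (Subgroup.zpowers_le.2 (Subgroup.mem_sup_right hay))
  have hdom : ∀ x ∈ P ⊔ Subgroup.zpowers (apl a y), apl a⁻¹ x ∈ R ⊔ Y := fun x hx => by
    refine (hb.1.mono hyN).mem_of_sup (fun w hw => Subgroup.mem_sup_left (hPR w hw))
      (fun w hw => ?_) hx
    obtain ⟨j, rfl⟩ := Subgroup.mem_zpowers_iff.1 hw
    rw [mor_map_zpow hb.1 (Subgroup.mem_sup_right hay), hbay]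
    exact Subgroup.zpow_mem _ (Subgroup.mem_sup_right hy) j
  have hgN : ∀ x ∈ R ⊔ Y, g x ∈ (T ⊔ centralizerIn S T) := fun x hx => hg.mem_of_sup
    (fun w hw => Subgroup.mem_sup_left (by
      rw [hgφ w hw, extendFn_apply φ hw]; exact (E.le_of_mem hφ).2 _))
    (fun w hw => Subgroup.mem_sup_right (by rw [hgY w hw]; exact hY hw)) hx
  refine fix_delta hS hF hPc hδ.1 (hδ.iso hPc.1 hE.1.2.2.1 hPT) hδ.2.2 hord
    (centralizerIn_anti hPT hay)
    (((hb.1.mono hyN).comp hg hdom).comp hai.1 fun x hx => hgN _ (hdom x hx))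
    (fun x hx => ?_) ?_
  · show apl a (g (apl a⁻¹ x)) = _
    rw [hgφ _ (hPR x hx), extendFn_apply φ (hPR x hx), hφh ⟨_, hPR x hx⟩]
    show apl a (h (apl a⁻¹ x)) = _
    rw [hinv x (hPT hx), hhx x hx, ← ha₀x _ (apl_mem _ ((hPT (apl_mem α hx)))),
      apl_apl_inv a₀ (hPT (apl_mem α hx)), hδα x hx]
  · show apl a (g (apl a⁻¹ (apl a y))) = _
    rw [hbay, hgY y hy]

/-- Conjugates of `Aut_T(P)` by automorphisms of `F` have extensions trivial modulo `P`. -/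
theorem exists_delta_conj (hE : E.IsNormalIn F p) (hT : F.StronglyClosed T)
    (hPc : F.IsFullyCentralized P) (hPT : P ≤ T) (hTP : centralizerIn T P ≤ P) {b : MulAut P}
    (hb : b ∈ F.autGroup P) {t : Ω} (ht : t ∈ T) (htn : t ∈ Subgroup.normalizer (P : Set Ω)) :
    ∃ δ, IsDelta E F P δ ∧ ∀ x ∈ P, apl δ x = apl b (t * apl b⁻¹ x * t⁻¹) := by
  obtain ⟨δ, hδ, hδP, hδx⟩ := exists_ext hS hF hPc hb
  have hN : P ⊔ centralizerIn S P ≤ S := sup_le hPc.1 (centralizerIn_le S P)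
  have htS := hT.1 ht
  have hmaps : ∀ x ∈ (P ⊔ centralizerIn S P), t * x * t⁻¹ ∈ (P ⊔ centralizerIn S P) := fun x hx =>
    (mor_conj (F := F) hN htS).mem_of_sup
      (fun y hy => Subgroup.mem_sup_left ((Subgroup.mem_normalizer_iff.1 htn y).1 hy))
      (fun y hy => Subgroup.mem_sup_right ((mor_conj (F := F) hN htS).mem_centralizerIn le_sup_left
        (iso_conj_self hPc.1 htS htn) (Subgroup.mem_sup_right hy) hy.2)) hx
  obtain ⟨σ, hσ, hσx⟩ := Iso.exists_mem_autGroup (show Iso F (P ⊔ centralizerIn S P)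
    (P ⊔ centralizerIn S P) (fun x => t * x * t⁻¹) from ⟨mor_conj hN htS, fun y =>
      ⟨fun hy => (mor_conj (F := F) hN htS).surj_of_card hN hmaps le_rfl hy,
        fun ⟨x, hx, hxy⟩ => hxy ▸ hmaps x hx⟩⟩)
  -- the restriction lies in `E`
  have hEaut : ∃ a ∈ E.autGroup P, ∀ x ∈ P, apl a x = apl b (t * apl b⁻¹ x * t⁻¹) := by
    obtain ⟨β, hβ, g, hg, hfg⟩ := exists_frattini hE.1.2.2 hPT (iso_apl hPc.1 hb).1
    obtain ⟨R, hR⟩ := hg.exists_iso
    obtain ⟨g', hg', hg'g, hgg'⟩ := hR.symm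
    have hm : Mor E R (g ∘ (fun x => t * x * t⁻¹) ∘ g') :=
      (hg'.1.comp (mor_conj hPT ht) fun x hx => hg'.mem hx).comp hg fun x hx =>
        (Subgroup.mem_normalizer_iff.1 htn _).1 (hg'.mem hx)
    obtain ⟨k, hk, hkx⟩ := exists_transport hE.1.2.2 hm hβ
    have hRT : R ≤ T := hR.right_le
    have himg : P ≤ (R.subgroupOf T).map (T.subtype.comp β.toMonoidHom) := fun x hx => by
      have hz := apl_mem b⁻¹ hx
      refine ⟨⟨g (apl b⁻¹ x), hRT (hR.mem hz)⟩, hR.mem hz, ?_⟩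
      show ((β _ : T) : Ω) = x
      rw [← apl_apply β (hRT (hR.mem hz)), ← hfg _ hz, apl_apl_inv b hx]
    have hval : ∀ x ∈ P, k x = apl b (t * apl b⁻¹ x * t⁻¹) := fun x hx => by
      have hz := apl_mem b⁻¹ hx
      have h1 := hkx _ (hR.mem hz)
      rw [← hfg _ hz, apl_apl_inv b hx] at h1
      rw [h1]
      show apl β (g (t * g' (g (apl b⁻¹ x)) * t⁻¹)) = _
      rw [hg'g _ hz, ← hfg _ ((Subgroup.mem_normalizer_iff.1 htn _).1 hz)]
    have hkP := (hk.mono himg).congr fun x hx => (hval x hx).symm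
    have hmap : ∀ x ∈ P, apl b (t * apl b⁻¹ x * t⁻¹) ∈ P := fun x hx =>
      apl_mem b ((Subgroup.mem_normalizer_iff.1 htn _).1 (apl_mem b⁻¹ hx))
    exact Iso.exists_mem_autGroup (show Iso E P P _ from ⟨hkP, fun y =>
      ⟨fun hy => by
        haveI := finite_of_le hT.1
        exact hkP.surj_of_card hPT hmap le_rfl hy,
        fun ⟨x, hx, hxy⟩ => hxy ▸ hmap x hx⟩⟩)
  have hinv : ∀ x ∈ P, apl δ⁻¹ x = apl b⁻¹ x := fun x hx => by
    conv_lhs => rw [← apl_apl_inv b hx, ← hδx _ (apl_mem _ hx),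
      apl_inv_apl δ (Subgroup.mem_sup_left (apl_mem _ hx))]
  have hres : ∀ x ∈ P, apl (δ * σ * δ⁻¹) x = apl b (t * apl b⁻¹ x * t⁻¹) := fun x hx => by
    rw [apl_mul _ _ (Subgroup.mem_sup_left hx),
      apl_mul _ _ (apl_mem _ (Subgroup.mem_sup_left hx)), hinv x hx,
      hσx _ (Subgroup.mem_sup_left (apl_mem _ hx)),
      hδx _ ((Subgroup.mem_normalizer_iff.1 htn _).1 (apl_mem _ hx))]
  obtain ⟨a, ha, hax⟩ := hEaut
  refine ⟨δ * σ * δ⁻¹, ⟨mul_mem (mul_mem hδ hσ) (inv_mem hδ),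
    ⟨a, ha, fun x hx => (hres x hx).trans (hax x hx).symm⟩, fun d hd => ?_⟩, hres⟩
  have hdN : d ∈ (P ⊔ centralizerIn S P) := Subgroup.mem_sup_right hd
  have hδi : Iso F P P (apl δ⁻¹) := by
    obtain ⟨k, hk, hkx, -⟩ := hδP.symm
    refine hk.congr fun y hy => ?_
    obtain ⟨x, hx, rfl⟩ := hδP.exists_eq hy
    rw [hkx x hx, apl_inv_apl δ (Subgroup.mem_sup_left hx)]
  have hd' : apl δ⁻¹ d ∈ centralizerIn S P :=
    (iso_apl hN (inv_mem hδ)).1.mem_centralizerIn le_sup_left hδi hdN hd.2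
  have hdt : t * apl δ⁻¹ d * t⁻¹ ∈ centralizerIn S P :=
    (mor_conj (F := F) hN htS).mem_centralizerIn le_sup_left (iso_conj_self hPc.1 htS htn)
      (Subgroup.mem_sup_right hd') hd'.2
  have hu : (apl δ⁻¹ d)⁻¹ * (t * apl δ⁻¹ d * t⁻¹) ∈ P := by
    refine hTP ⟨?_, Subgroup.mul_mem _ (Subgroup.inv_mem _ hd'.2) hdt.2⟩
    rw [show (apl δ⁻¹ d)⁻¹ * (t * apl δ⁻¹ d * t⁻¹) = (apl δ⁻¹ d)⁻¹ * t * apl δ⁻¹ d * t⁻¹ by group]
    exact T.mul_mem ((Subgroup.mem_normalizer_iff''.1 (StronglyClosed.le_normalizer hT hd'.1) t).1 ht)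
      (T.inv_mem ht)
  rw [apl_mul _ _ hdN, apl_mul _ _ (apl_mem _ hdN), hσx _ (apl_mem _ hdN),
    ← mul_inv_cancel_left (apl δ⁻¹ d) (t * apl δ⁻¹ d * t⁻¹),
    (iso_apl hN hδ).1.map_mul (Subgroup.mem_sup_right hd') (Subgroup.mem_sup_left hu),
    apl_apl_inv δ hdN, inv_mul_cancel_left]
  exact hδP.mem hu

/-- A map with all of `T` in its source preserves `C_S(E)`. -/
theorem mor_mem_cE (hE : E.IsNormalIn F p) (hT : F.StronglyClosed T) {R : Subgroup Ω} {f : Ω → Ω}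
    (hf : Mor F R f) (hTR : T ≤ R) {x : Ω} (hx : x ∈ R) (hxC : x ∈ cE E F p hT.1) :
    f x ∈ cE E F p hT.1 := by
  have hxcT : x ∈ centralizerIn S T := hxC.1
  have hTfn : F.IsFullyNormalized T := ⟨hT.1, fun Q _ => by
    rw [show normalizerIn S T = S from
      le_antisymm inf_le_left fun s hs => ⟨hs, StronglyClosed.le_normalizer hT hs⟩]
    exact Subgroup.card_le_of_le inf_le_left⟩
  have hTc := fullyCentralized_of_fullyNormalized hS hF hTfn
  obtain ⟨a, ha, hax⟩ := (StronglyClosed.iso_self hT hf hTR).exists_mem_autGroup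
  obtain ⟨δ, hδ, hδT, hδa⟩ := exists_ext hS hF hTc ha
  have hN : T ⊔ centralizerIn S T ≤ S := sup_le hT.1 (centralizerIn_le S T)
  have hle : T ⊔ Subgroup.zpowers x ≤ T ⊔ centralizerIn S T :=
    sup_le_sup_left (Subgroup.zpowers_le.2 hxcT) T
  have hleR : T ⊔ Subgroup.zpowers x ≤ R := sup_le hTR (Subgroup.zpowers_le.2 hx)
  obtain ⟨X, hX⟩ := ((iso_apl hN hδ).1.mono hle).exists_iso
  obtain ⟨δ', hδ', hδ'δ, -⟩ := hX.symm
  have hTX : T ≤ X := fun y hy => by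
    obtain ⟨z, hz, rfl⟩ := hδT.exists_eq hy
    exact hX.mem (Subgroup.mem_sup_left hz)
  set u := apl δ x with hu
  have huX : u ∈ X := hX.mem (Subgroup.mem_sup_right (Subgroup.mem_zpowers x))
  have huC : u ∈ cE E F p hT.1 := apl_mem_cE hS hF hT hδ hxC
  have hg := hδ'.1.comp (hf.mono hleR) fun y hy => hδ'.mem hy
  have hgT : ∀ y ∈ T, f (δ' y) = y := fun y hy => by
    obtain ⟨z, hz, rfl⟩ := hδT.exists_eq hy
    rw [hδ'δ z (Subgroup.mem_sup_left hz), hδa z hz, hax z hz]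
  have hgu : (f ∘ δ') u = f x :=
    congrArg f (hδ'δ x (Subgroup.mem_sup_right (Subgroup.mem_zpowers x)))
  have hsub : Subgroup.zpowers u ⊔ T ≤ X := sup_le (Subgroup.zpowers_le.2 huX) hTX
  have hq := quot_mem_focal (F := centralizerSys F hT.1) (mor_cSys.2 ⟨hg.mono (le_sup_left.trans hsub),
    Subgroup.zpowers_le.2 huC.1, fun y hy => (hg.mono hsub).mem_centralizerIn le_sup_right
      ⟨hg.mono hTX, fun z => ⟨fun hz => ⟨z, hz, hgT z hz⟩,
        fun ⟨v, hv, hvz⟩ => by rw [← hvz, Function.comp_apply, hgT v hv]; exact hv⟩⟩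
      (Subgroup.mem_sup_left hy) (Subgroup.zpowers_le.2 huC.1 hy).2,
    _, hg.mono hsub, fun _ _ => rfl, hgT⟩) (Subgroup.mem_zpowers u)
  rw [hgu] at hq
  have h := Subgroup.mul_mem _ huC (cFoc_le_cE hS hF hE hT hq)
  rwa [mul_inv_cancel_left] at h

omit [Fact p.Prime] [Finite S] hS hF in
/-- On subgroups of `C_S(E)` the map extends to a map of the product with `T`. -/
def ExtT (E : FusionSystem T) (F : FusionSystem S) (p : ℕ) (hTS : T ≤ S) (R : Subgroup Ω)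
    (f : Ω → Ω) : Prop :=
  ∀ W ≤ R, W ≤ cE E F p hTS → ∃ g, Mor F (W ⊔ T) g ∧ ∀ x ∈ W, g x = f x

theorem ExtT.mem (hE : E.IsNormalIn F p) (hT : F.StronglyClosed T) {R : Subgroup Ω} {f : Ω → Ω}
    (h : ExtT E F p hT.1 R f) {x : Ω} (hx : x ∈ R) (hxC : x ∈ cE E F p hT.1) :
    f x ∈ cE E F p hT.1 := by
  obtain ⟨g, hg, hgf⟩ := h (Subgroup.zpowers x) (Subgroup.zpowers_le.2 hx)
    (Subgroup.zpowers_le.2 hxC)
  rw [← hgf x (Subgroup.mem_zpowers x)]
  exact mor_mem_cE hS hF hE hT hg le_sup_right (Subgroup.mem_sup_left (Subgroup.mem_zpowers x)) hxC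

theorem ExtT.comp (hE : E.IsNormalIn F p) (hT : F.StronglyClosed T) {R Q : Subgroup Ω}
    {f g : Ω → Ω} (hfm : Mor F R f) (hf : ExtT E F p hT.1 R f) (hg : ExtT E F p hT.1 Q g)
    (hfQ : ∀ x ∈ R, f x ∈ Q) : ExtT E F p hT.1 R (g ∘ f) := by
  intro W hWR hWC
  obtain ⟨g₁, hg₁, hg₁f⟩ := hf W hWR hWC
  obtain ⟨W', hW'⟩ := (hfm.mono hWR).exists_iso
  have h1 : W' ≤ Q := fun y hy => by
    obtain ⟨x, hx, rfl⟩ := hW'.exists_eq hy
    exact hfQ x (hWR hx)
  have h2 : W' ≤ cE E F p hT.1 := fun y hy => by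
    obtain ⟨x, hx, rfl⟩ := hW'.exists_eq hy
    exact hf.mem hS hF hE hT (hWR hx) (hWC hx)
  obtain ⟨g₂, hg₂, hg₂g⟩ := hg W' h1 h2
  refine ⟨g₂ ∘ g₁, hg₁.comp hg₂ fun x hx => hg₁.mem_of_sup
    (fun a ha => Subgroup.mem_sup_left (by rw [hg₁f a ha]; exact hW'.mem ha))
    (fun a ha => Subgroup.mem_sup_right (StronglyClosed.mor_mem hT hg₁ (Subgroup.mem_sup_right ha) ha))
    hx, fun x hx => ?_⟩
  show g₂ (g₁ x) = g (f x)
  rw [hg₁f x hx, hg₂g _ (hW'.mem hx)]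

theorem extT_conj (hT : F.StronglyClosed T) {R : Subgroup Ω} (hR : R ≤ S) {s : Ω} (hs : s ∈ S) :
    ExtT E F p hT.1 R (fun x => s * x * s⁻¹) := fun _W hW _ =>
  have _ := hS
  have _ := hF
  ⟨_, mor_conj (sup_le (hW.trans hR) hT.1) hs, fun _ _ => rfl⟩

theorem ExtT.inv (hT : F.StronglyClosed T) {R Q : Subgroup Ω}
    {f g : Ω → Ω} (hfi : Iso F R Q f) (hf : ExtT E F p hT.1 R f) (hgi : Iso F Q R g)
    (hgf : ∀ x ∈ R, g (f x) = x)
    (hC : ∀ y ∈ Q, y ∈ cE E F p hT.1 → g y ∈ cE E F p hT.1) : ExtT E F p hT.1 Q g := by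
  have _ := hS
  have _ := hF
  intro W' hW'Q hW'C
  obtain ⟨W, hW⟩ := (hgi.1.mono hW'Q).exists_iso
  have h1 : W ≤ R := fun y hy => by
    obtain ⟨x, hx, rfl⟩ := hW.exists_eq hy
    exact hgi.mem (hW'Q hx)
  have h2 : W ≤ cE E F p hT.1 := fun y hy => by
    obtain ⟨x, hx, rfl⟩ := hW.exists_eq hy
    exact hC x (hW'Q hx) (hW'C hx)
  obtain ⟨g₁, hg₁, hg₁f⟩ := hf W h1 h2
  obtain ⟨X, hX⟩ := hg₁.exists_iso
  obtain ⟨k, hk, hkg, -⟩ := hX.symm
  have hfg : ∀ y ∈ W', f (g y) = y := fun y hy => by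
    obtain ⟨x, hx, rfl⟩ := hfi.exists_eq (hW'Q hy)
    rw [hgf x hx]
  have hW'X : W' ≤ X := fun y hy => by
    rw [← hfg y hy, ← hg₁f _ (hW.mem hy)]
    exact hX.mem (Subgroup.mem_sup_left (hW.mem hy))
  have hTX : T ≤ X := fun y hy => by
    obtain ⟨z, hz, rfl⟩ := (StronglyClosed.iso_self hT hg₁ le_sup_right).exists_eq hy
    exact hX.mem (Subgroup.mem_sup_right hz)
  refine ⟨k, hk.1.mono (sup_le hW'X hTX), fun y hy => ?_⟩
  have h3 := hkg (g y) (Subgroup.mem_sup_left (hW.mem hy))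
  rwa [hg₁f _ (hW.mem hy), hfg y hy] at h3

/-- The hypothesis of the downward induction. -/
def Up (E : FusionSystem T) (F : FusionSystem S) (p : ℕ) (hTS : T ≤ S) (V : Subgroup Ω) : Prop :=
  ∀ R f, Mor F R f → Nat.card V < Nat.card ↥(R ⊓ T) → ExtT E F p hTS R f

/-- An automorphism of order prime to `p` in the normal closure fixes `C_S(E) ∩ U`. -/
theorem fix_of_delta (hT : F.StronglyClosed T) {V U : Subgroup Ω}
    (hVc : F.IsFullyCentralized V) (hVT : V ≤ T) (hEF : E.IsSubsystemOf F) (hVU : V ≤ U)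
    (hU : U ≤ S) {n : MulAut U} (hn : n ∈ F.autGroup U) (hord : (orderOf n).Coprime p)
    (hmod : ∀ x ∈ U, x⁻¹ * apl n x ∈ V) {δ : MulAut ↥(V ⊔ centralizerIn S V)}
    (hδ : IsDelta E F V δ) (hδn : ∀ x ∈ V, apl δ x = apl n x) {u : Ω} (huU : u ∈ U)
    (hu : u ∈ cE E F p hT.1) : apl n u = u := by
  haveI := finite_of_le hU
  have hN : V ⊔ centralizerIn S V ≤ S := sup_le hVc.1 (centralizerIn_le S V)
  haveI := finite_of_le hN
  haveI : Finite (MulAut ↥(V ⊔ centralizerIn S V)) := Finite.of_injective _ MulEquiv.toEquiv_injective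
  have hp := (Fact.out : p.Prime)
  obtain ⟨a, m, hm, horder⟩ := Nat.exists_eq_pow_mul_and_not_dvd (orderOf_pos δ).ne' p hp.ne_one
  obtain ⟨k, hk0, hk1⟩ := Nat.chineseRemainder (Nat.Coprime.pow_left a hord.symm) 0 1
  set δ' := δ ^ k with hδ'def
  have hδ' : IsDelta E F V δ' := hδ.pow hVc.1 k
  have hord' : (orderOf δ').Coprime p := by
    refine Nat.Coprime.coprime_dvd_left (orderOf_dvd_of_pow_eq_one (x := δ') ?_)
      ((hp.coprime_iff_not_dvd).2 hm).symm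
    rw [hδ'def, ← pow_mul, ← orderOf_dvd_iff_pow_eq_one, horder]
    exact mul_dvd_mul_right (Nat.modEq_zero_iff_dvd.1 hk0) m
  have hres : ∀ x ∈ V, apl δ' x = apl n x := fun x hx => by
    haveI : Finite (MulAut U) := Finite.of_injective _ MulEquiv.toEquiv_injective
    have hnk : n ^ k = n := by
      conv_rhs => rw [← pow_one n]
      exact pow_eq_pow_iff_modEq.2 hk1
    have hnV : ∀ y ∈ V, apl n y ∈ V := fun y hy =>
      hδn y hy ▸ (hδ.iso hVc.1 hEF hVT).mem hy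
    have hit : ∀ j : ℕ, ∀ y ∈ V, apl (δ ^ j) y = apl (n ^ j) y ∧ apl (n ^ j) y ∈ V := by
      intro j
      induction j with
      | zero => intro y hy; rw [pow_zero, pow_zero, apl_one (Subgroup.mem_sup_left hy),
          apl_one (hVU hy)]; exact ⟨rfl, hy⟩
      | succ j ih =>
        intro y hy
        obtain ⟨h1, h2⟩ := ih y hy
        rw [pow_succ', pow_succ', apl_mul _ _ (Subgroup.mem_sup_left hy), apl_mul _ _ (hVU hy),
          h1, hδn _ h2]
        exact ⟨rfl, hnV _ h2⟩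
    rw [hδ'def, (hit k x hx).1, hnk]
  have hδu : apl δ' u = u := (cE_le_cFix hT.1 hu).2 V hVT hVc δ' hδ' hord'
  have hni := iso_apl hU hn
  have hnV' : Iso F V V (apl n) := (hδ'.iso hVc.1 hEF hVT).congr fun x hx => (hres x hx).symm
  have huV : u ∈ centralizerIn S V := centralizerIn_anti hVT hu.1
  have hz : u⁻¹ * apl n u ∈ cFoc F hVc.1 := by
    set b := δ'⁻¹
    have hb := iso_apl hN (Subgroup.inv_mem _ hδ'.1)
    have hbu : apl b u = u := by
      conv_lhs => rw [← hδu]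
      exact apl_inv_apl δ' (Subgroup.mem_sup_right huV)
    have hbV : ∀ x ∈ V, apl b x ∈ V ∧ apl n (apl b x) = x := fun x hx => by
      obtain ⟨y, hy, rfl⟩ := (hδ'.iso hVc.1 hEF hVT).exists_eq hx
      rw [apl_inv_apl δ' (Subgroup.mem_sup_left hy)]
      exact ⟨hy, (hres y hy).symm⟩
    have hle : V ⊔ Subgroup.zpowers u ≤ V ⊔ centralizerIn S V :=
      sup_le_sup_left (Subgroup.zpowers_le.2 huV) V
    have hmap : ∀ x ∈ V ⊔ Subgroup.zpowers u, apl b x ∈ U := fun x hx => by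
      refine (hb.1.mono hle).mem_of_sup (fun w hw => hVU (hbV w hw).1) (fun w hw => ?_) hx
      obtain ⟨j, rfl⟩ := Subgroup.mem_zpowers_iff.1 hw
      rw [mor_map_zpow hb.1 (Subgroup.mem_sup_right huV), hbu]
      exact U.zpow_mem huU j
    have hfx := (hb.1.mono hle).comp hni.1 hmap
    have hfu : (apl n ∘ apl b) u = apl n u := congrArg (apl n) hbu
    rw [← hfu]
    refine quot_mem_focal (F := centralizerSys F hVc.1) (mor_cSys.2 ⟨hfx.mono le_sup_right,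
      Subgroup.zpowers_le.2 huV, fun w hw => ?_, _, hfx.mono (sup_le le_sup_right le_sup_left),
      fun _ _ => rfl, fun w hw => (hbV w hw).2⟩) (Subgroup.mem_zpowers u)
    refine ⟨hfx.mem_S (Subgroup.mem_sup_right hw), ?_⟩
    exact (hfx.mem_centralizerIn le_sup_left ⟨hfx.mono le_sup_left, fun x =>
      ⟨fun hx => ⟨x, hx, (hbV x hx).2⟩, fun ⟨v, hv, hvx⟩ => by rw [← hvx, Function.comp_apply, (hbV v hv).2]; exact hv⟩⟩
      (Subgroup.mem_sup_right hw) (Subgroup.zpowers_le.2 huV hw).2).2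
  refine apl_eq_of_fixed_diff hS hU hord huU ?_
  rw [← hres _ (hmod u huU)]
  exact fix_cFoc hS hF hVc hδ'.1 (hδ'.iso hVc.1 hEF hVT) hδ'.2.2 hord' hz

/-- The step at a subgroup fully normalized in a normalizer system. -/
theorem step (hE : E.IsNormalIn F p) (hT : F.StronglyClosed T) {V : Subgroup Ω}
    (hVn : F.IsFullyNormalized V) (hVT : V < T) (hTV : centralizerIn T V ≤ V)
    {N : FusionSystem (normalizerIn S V)} (hN : F.IsNormalizerSystem V N)
    (hup : Up E F p hT.1 V) {U : Subgroup Ω} (hUn : N.IsFullyNormalized U) (hVU : V ≤ U)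
    (hUT : U ⊓ T ≤ V) {α : MulAut U} (hα : α ∈ N.autGroup U) :
    ExtT E F p hT.1 U (apl α) := by
  classical
  intro W hWU hWC
  have hSVS : (normalizerIn S V) ≤ S := normalizerIn_le S V
  haveI := finite_of_le hSVS
  have hSVp : IsPGroup p (normalizerIn S V) := hS.to_le hSVS
  have hNsat := normalizerSystem_saturated hS hF hVn hN
  have hVc := fullyCentralized_of_fullyNormalized hS hF hVn
  have hUSV : U ≤ (normalizerIn S V) := hUn.1
  have hUS : U ≤ S := hUSV.trans hSVS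
  haveI := finite_of_le hUS
  haveI : Finite (MulAut U) := Finite.of_injective _ MulEquiv.toEquiv_injective
  have hVU' : V = U ⊓ T := le_antisymm (le_inf hVU hVT.le) hUT
  set A := N.autGroup U with hA
  have hAF : ∀ a ∈ A, a ∈ F.autGroup U := fun a ha => (mem_autGroup_iff hUS).2
    ⟨((mor_normalizerSystem hN).1 (iso_apl hUSV ha).1).1, (iso_apl hUSV ha).2⟩
  have hAV : ∀ a ∈ A, ∀ x ∈ V, apl a x ∈ V := fun a ha x hx => hUT
    ⟨apl_mem a (hVU hx), StronglyClosed.mor_mem hT (iso_apl hUS (hAF a ha)).1 (hVU hx) (hVT.le hx)⟩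
  have hTn : ∀ t ∈ T, t ∈ Subgroup.normalizer (U : Set Ω) → t ∈ (normalizerIn S V) := fun t ht htn =>
    ⟨hT.1 ht, by
      rw [hVU']
      exact Subgroup.mem_normalizer_iff.2 fun y => and_congr (Subgroup.mem_normalizer_iff.1 htn y)
        (Subgroup.mem_normalizer_iff.1 (Subgroup.le_normalizer ht) y)⟩
  -- elements with extensions trivial modulo `V`
  let K : Subgroup (MulAut U) := A ⊓ chainStab.subgroupOfFiniteSubmonoid
    { carrier := {n | n ∈ A ∧ (∀ x ∈ U, x⁻¹ * apl n x ∈ V) ∧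
        ∃ δ, IsDelta E F V δ ∧ ∀ x ∈ V, apl δ x = apl n x}
      one_mem' := ⟨A.one_mem, fun x hx => by rw [apl_one hx, inv_mul_cancel]; exact V.one_mem,
        1, IsDelta.one, fun x hx => by rw [apl_one (hVU hx), apl_one (Subgroup.mem_sup_left hx)]⟩
      mul_mem' := by
        rintro a b ⟨ha, ha', δ, hδ, hδa⟩ ⟨hb, hb', δ', hδ', hδb⟩
        refine ⟨A.mul_mem ha hb, fun x hx => ?_, δ * δ', hδ.mul hVc.1 hδ', fun x hx => ?_⟩
        · rw [apl_mul _ _ hx]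
          have h1 := V.mul_mem (hb' x hx) (ha' _ (apl_mem b hx))
          rwa [mul_assoc, mul_inv_cancel_left] at h1
        · rw [apl_mul _ _ (Subgroup.mem_sup_left hx), hδb x hx, hδa _ (hAV b hb x hx),
            apl_mul _ _ (hVU hx)] }
  let L : Subgroup A := Subgroup.normalClosure ((autInducedBy T U).subgroupOf A : Set A)
  have hLK : L ≤ K.subgroupOf A := by
    refine (Subgroup.closure_le _).2 fun z hz => ?_
    obtain ⟨c, hc, hcz⟩ := Group.mem_conjugatesOfSet_iff.1 hz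
    obtain ⟨b, hb⟩ := _root_.isConj_iff.1 hcz
    subst hb
    obtain ⟨t, ht, htn, htx⟩ := mem_autInducedBy_iff.1 (Subgroup.mem_subgroupOf.1 hc)
    have hbF := hAF _ b.2
    have hbi := iso_apl hUS hbF
    obtain ⟨bV, hbV, hbVx⟩ := Iso.exists_mem_autGroup (show Iso F V V (apl (b : MulAut U)) from
      ⟨hbi.1.mono hVU, fun y => ⟨fun hy => (hbi.1.mono hVU).surj_of_card hVc.1
        (fun x hx => hAV _ b.2 x hx) le_rfl hy, fun ⟨x, hx, hxy⟩ => hxy ▸ hAV _ b.2 x hx⟩⟩)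
    have htV : t ∈ Subgroup.normalizer (V : Set Ω) := (hTn t ht htn).2
    obtain ⟨δ, hδ, hδx⟩ := exists_delta_conj hS hF hE hT hVc hVT.le hTV hbV ht htV
    have hval : ∀ x ∈ U, apl ((b * c * b⁻¹ : A) : MulAut U) x =
        apl (b : MulAut U) (t * apl (b : MulAut U)⁻¹ x * t⁻¹) := fun x hx => by
      rw [Subgroup.coe_mul, Subgroup.coe_mul, Subgroup.coe_inv, apl_mul _ _ hx,
        apl_mul _ _ (apl_mem _ hx), htx _ (apl_mem _ hx)]
    refine Subgroup.mem_subgroupOf.2 ⟨(b * c * b⁻¹).2, (b * c * b⁻¹).2, fun x hx => ?_, δ, hδ,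
      fun x hx => ?_⟩
    · rw [hval x hx]
      set y := apl (b : MulAut U)⁻¹ x with hy
      have hyU : y ∈ U := apl_mem _ hx
      have hty : t * y * t⁻¹ ∈ U := (Subgroup.mem_normalizer_iff.1 htn y).1 hyU
      have hd : y⁻¹ * (t * y * t⁻¹) ∈ V := by
        refine hUT ⟨U.mul_mem (U.inv_mem hyU) hty, ?_⟩
        have := T.mul_mem ((Subgroup.mem_normalizer_iff''.1
          (StronglyClosed.le_normalizer hT (hUS hyU)) t).1 ht) (T.inv_mem ht)
        simpa [mul_assoc] using this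
      have h := hAV _ b.2 _ hd
      rwa [hbi.1.map_mul (U.inv_mem hyU) hty, hbi.1.map_inv hyU, hy, apl_apl_inv _ hx] at h
    · rw [hval x (hVU hx), hδx x hx]
      have hinv : apl bV⁻¹ x = apl (b : MulAut U)⁻¹ x := by
        conv_rhs => rw [← apl_apl_inv bV hx, hbVx _ (apl_mem _ hx),
          apl_inv_apl _ (hVU (apl_mem _ hx))]
      rw [hinv, hbVx _ ((Subgroup.mem_normalizer_iff.1 htV _).1
        (by rw [← hinv]; exact apl_mem _ hx))]
  obtain ⟨-, Sy, hSy⟩ := fullyAutomized_of_fullyNormalized hSVp hNsat hUn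
  have hLp : IsPGroup p ((Sy : Subgroup A) ⊓ L : Subgroup A) := Sy.2.to_le inf_le_left
  obtain ⟨SL, hSL⟩ := (sylIn_iff hLp inf_le_right).1 (sylow_inter_normal Sy L)
  have hSLmap : (SL : Subgroup L).map L.subtype = (Sy : Subgroup A) ⊓ L := by
    rw [hSL, Subgroup.map_subgroupOf_eq_of_le inf_le_right]
  have hfix : ∀ k ∈ pResidual p L, ∀ u ∈ W, apl ((k : A) : MulAut U) u = u := by
    intro k hk u huW
    have huU := hWU huW
    have hu := hWC huW
    induction hk using Subgroup.closure_induction with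
    | mem g hg =>
      obtain ⟨hgA, -, hgmod, δ, hδ, hδg⟩ := Subgroup.mem_subgroupOf.1 (hLK g.2)
      refine fix_of_delta hS hF hT hVc hVT.le hE.1.2.2.1 hVU hUS (hAF _ hgA) ?_ hgmod hδ hδg huU hu
      rw [Subgroup.orderOf_coe, Subgroup.orderOf_coe]
      exact hg
    | one => exact apl_one huU
    | mul g g' _ _ hg hg' =>
      rw [Subgroup.coe_mul, Subgroup.coe_mul, apl_mul _ _ huU, hg', hg]
    | inv g _ hg =>
      rw [Subgroup.coe_inv, Subgroup.coe_inv]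
      conv_lhs => rw [← hg]
      exact apl_inv_apl _ huU
  -- Frattini
  have htop : (⟨α, hα⟩ : A) ∈ Subgroup.normalizer (((SL : Subgroup L).map L.subtype : Subgroup A) : Set A) ⊔ L := by
    rw [Sylow.normalizer_sup_eq_top SL]; exact Subgroup.mem_top _
  obtain ⟨n, hn, k, hk, hnk⟩ := Subgroup.mem_sup_of_normal_right.1 htop
  have hk' : (⟨k, hk⟩ : L) ∈ (SL : Subgroup L) ⊔ pResidual p L := by
    rw [Cfsg.Agent.Fusion.sylow_sup_pResidual SL]; exact Subgroup.mem_top _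
  haveI : (pResidual p L).Normal := by
    have := Cfsg.Agent.Fusion.pResidual_characteristic (p := p) (G := L)
    infer_instance
  obtain ⟨x, hx, k₁, hk₁, hxk⟩ := Subgroup.mem_sup_of_normal_right.1 hk'
  have hxS : (x : A) ∈ (Sy : Subgroup A) := by
    have h1 : (x : A) ∈ (SL : Subgroup L).map L.subtype := Subgroup.mem_map_of_mem _ hx
    rw [hSLmap] at h1
    exact h1.1
  rw [hSy, Subgroup.mem_subgroupOf] at hxS
  obtain ⟨s, hs, -, hsx⟩ := mem_autInducedBy_iff.1 hxS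
  obtain ⟨W₂, hW₂⟩ := (mor_conj (F := F) (hWU.trans hUS) hs.1).exists_iso
  have hW₂U : W₂ ≤ U := fun y hy => by
    obtain ⟨u, hu, rfl⟩ := hW₂.exists_eq hy
    rw [← hsx u (hWU hu)]
    exact apl_mem _ (hWU hu)
  have hW₂C : W₂ ≤ cE E F p hT.1 := fun y hy => by
    obtain ⟨u, hu, rfl⟩ := hW₂.exists_eq hy
    exact conj_mem_cE hS hF hT hs.1 (hWC hu)
  have hαu : ∀ u ∈ W, apl α u = apl (n : MulAut U) (s * u * s⁻¹) := fun u hu => by
    have e : α = (n : MulAut U) * (((x : A) : MulAut U) * ((k₁ : A) : MulAut U)) := by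
      rw [← Subgroup.coe_mul, ← Subgroup.coe_mul]
      have h2 : ((x : A) * (k₁ : A)) = k := by
        rw [← Subgroup.coe_mul, hxk]
      rw [h2, hnk]
    rw [e, apl_mul _ _ (hWU hu), apl_mul _ _ (hWU hu), hfix k₁ hk₁ u hu, hsx u (hWU hu)]
  -- `n` extends to a larger part of `T`
  have hni := iso_apl hUSV n.2
  obtain ⟨g, hg, hgn⟩ :=
    (isReceptive_iff.1 (receptive_of_fullyNormalized hSVp hNsat hUn)).2 U _ hni
  obtain ⟨t, ht, htn, htU⟩ : ∃ t ∈ T, t ∈ Subgroup.normalizer (U : Set Ω) ∧ t ∉ U := by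
    by_contra h
    push Not at h
    exact hVT.not_ge fun y hy => hUT ⟨le_of_normalizer_le hS hF hT hUS h hy, hy⟩
  have htnPhi : t ∈ nPhi (normalizerIn S V) U (apl (n : MulAut U)) := by
    obtain ⟨c, hc, hcx⟩ := exists_mem_autInducedBy (P := U) (K := T) ht htn
    obtain ⟨c', hc', hcx'⟩ := exists_mem_autInducedBy (P := U) (K := (normalizerIn S V)) (hTn t ht htn) htn
    obtain rfl : c = c' := apl_ext fun y hy => (hcx y hy).trans (hcx' y hy).symm
    have hcA : c ∈ A := autInducedBy_le_autGroup hUSV hc'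
    have hcS : (⟨c, hcA⟩ : A) ∈ (SL : Subgroup L).map L.subtype := by
      rw [hSLmap]
      exact ⟨(SetLike.ext_iff.1 hSy _).2 (Subgroup.mem_subgroupOf.2 hc'),
        Subgroup.subset_normalClosure (Subgroup.mem_subgroupOf.2 hc)⟩
    have h1 := (Subgroup.mem_normalizer_iff.1 hn _).1 hcS
    rw [hSLmap] at h1
    have h2 := Subgroup.mem_subgroupOf.1 ((SetLike.ext_iff.1 hSy _).1 h1.1)
    obtain ⟨r, hr, -, hrx⟩ := mem_autInducedBy_iff.1 h2
    refine ⟨hTn t ht htn, htn, r, hr, fun y hy => ?_⟩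
    rw [← hrx _ (apl_mem (n : MulAut U) hy), ← hcx y hy]
    show _ = apl (((n : A) : MulAut U) * c * ((n : A) : MulAut U)⁻¹) _
    rw [apl_mul _ _ (apl_mem _ hy), apl_inv_apl _ hy, apl_mul _ _ hy]
  obtain ⟨g₂, hg₂, hg₂g⟩ := hup _ g ((mor_normalizerSystem hN).1 hg).1
    (card_lt_of_lt' (inf_le_right.trans hT.1) (lt_of_le_of_ne
      (le_inf (hVU.trans hni.1.le_nPhi) hVT.le) fun e => htU (hVU (e ▸ ⟨htnPhi, ht⟩))))
    W₂ (hW₂U.trans hni.1.le_nPhi) hW₂C
  have hc : Mor F (W ⊔ T) (fun z => s * z * s⁻¹) := mor_conj (sup_le (hWU.trans hUS) hT.1) hs.1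
  refine ⟨_, hc.comp hg₂ fun z hz => hc.mem_of_sup
    (fun a ha => Subgroup.mem_sup_left (hW₂.mem ha))
    (fun a ha => Subgroup.mem_sup_right
      (StronglyClosed.mor_mem hT hc (Subgroup.mem_sup_right ha) ha)) hz, fun u hu => ?_⟩
  show g₂ (s * u * s⁻¹) = _
  rw [hg₂g _ (hW₂.mem hu), hgn _ (hW₂U (hW₂.mem hu)), hαu u hu]

/-- A map fixing a fully normalized `V` extends on subgroups of `C_S(E)` if all maps on larger parts of
`T` do. -/
theorem step_centralizer (hE : E.IsNormalIn F p) (hT : F.StronglyClosed T) {V : Subgroup Ω}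
    (hVn : F.IsFullyNormalized V) (hVT : V < T) (hup : Up E F p hT.1 V) {W : Subgroup Ω}
    {f : Ω → Ω} (hf : Mor (centralizerSys F hVn.1) W f) :
    ExtT E F p hT.1 W f := by
  classical
  have hVc := fullyCentralized_of_fullyNormalized hS hF hVn
  set S₀ := centralizerIn S V
  have hS₀S : S₀ ≤ S := centralizerIn_le S V
  haveI := finite_of_le hS₀S
  have hS₀p : IsPGroup p S₀ := hS.to_le hS₀S
  have hsat : (centralizerSys F hVn.1).IsSaturated p :=
    centralizerSystem_saturated hS hF hVc (isCentralizerSystem_centralizerSys hVn.1)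
  set C := cE E F p hT.1
  suffices h : ∀ P g, Mor (centralizerSys F hVn.1) P g →
      P ≤ S₀ ∧ (∀ x ∈ P, g x ∈ S₀) ∧ (∀ x ∈ P, (x ∈ C ↔ g x ∈ C)) ∧ ExtT E F p hT.1 P g from
    (h W f hf).2.2.2
  refine alperin_induction hS₀p hsat
    (M := fun P g => P ≤ S₀ ∧ (∀ x ∈ P, g x ∈ S₀) ∧ (∀ x ∈ P, (x ∈ C ↔ g x ∈ C)) ∧
      ExtT E F p hT.1 P g)
    ⟨fun {P g g'} h he => ⟨h.1, fun x hx => he x hx ▸ h.2.1 x hx,
        fun x hx => by rw [he x hx]; exact h.2.2.1 x hx, fun Z hZ hZC => ?_⟩,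
      fun h => ⟨h.1, h.2.1⟩, fun {P s} hP hs => ?_,
      fun {P Q g g'} hgm h _ h' hgQ => ⟨h.1, fun x hx => h'.2.1 _ (hgQ x hx),
        fun x hx => (h.2.2.1 x hx).trans (h'.2.2.1 _ (hgQ x hx)),
        h.2.2.2.comp hS hF hE hT (mor_cSys.1 hgm).1 h'.2.2.2 hgQ⟩,
      fun {P Q g g'} hg h hg' hgg => ⟨hg'.left_le, fun y hy => h.1 (hg'.mem hy), fun y hy => ?_,
        h.2.2.2.inv hS hF hT ⟨(mor_cSys.1 hg.1).1, hg.2⟩ ⟨(mor_cSys.1 hg'.1).1, hg'.2⟩ hgg
          fun y hy hyC => ?_⟩⟩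
    fun R hR α hα => ?_
  · obtain ⟨k, hk, hkg⟩ := h.2.2.2 Z hZ hZC
    exact ⟨k, hk, fun x hx => (hkg x hx).trans (he x (hZ hx)).symm⟩
  · refine ⟨mor_conj hP hs, hP, fun x hx => S₀.mul_mem (S₀.mul_mem hs (hP hx)) (S₀.inv_mem hs),
      fun x hx => ⟨fun h => conj_mem_cE hS hF hT (hS₀S hs) h, fun h => ?_⟩,
      extT_conj hS hF hT (hP.trans hS₀S) (hS₀S hs)⟩
    have := conj_mem_cE hS hF hT (S.inv_mem (hS₀S hs)) h
    rwa [show s⁻¹ * (s * x * s⁻¹) * s⁻¹⁻¹ = x by group] at this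
  · obtain ⟨x, hx, rfl⟩ := hg.exists_eq hy
    rw [hgg x hx]
    exact (h.2.2.1 x hx).symm
  · obtain ⟨x, hx, rfl⟩ := hg.exists_eq hy
    rw [hgg x hx]
    exact (h.2.2.1 x hx).2 hyC
  have hRS₀ : R ≤ S₀ := hR.elim (fun e => e.le) fun e => e.1.1
  suffices h : ∀ β ∈ (centralizerSys F hVn.1).autGroup R, ExtT E F p hT.1 R (apl β) from
    ⟨hRS₀, fun x hx => hRS₀ (apl_mem α hx), fun x hx => ⟨fun h' => (h α hα).mem hS hF hE hT hx h',
      fun h' => by
        have := (h α⁻¹ (Subgroup.inv_mem _ hα)).mem hS hF hE hT (apl_mem α hx) h'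
        rwa [apl_inv_apl α hx] at this⟩, h α hα⟩
  intro β hβ
  have hRS := hRS₀.trans hS₀S
  obtain ⟨hβF, -, -, j, hj, hjβ, hjV⟩ := mor_cSys.1 (iso_apl hRS₀ hβ).1
  set U := R ⊔ V with hU
  have hUS : U ≤ S := sup_le hRS hVn.1
  haveI := finite_of_le hUS
  suffices hj' : ExtT E F p hT.1 U j from fun Z hZ hZC => by
    obtain ⟨k, hk, hkj⟩ := hj' Z (hZ.trans le_sup_left) hZC
    exact ⟨k, hk, fun x hx => (hkj x hx).trans (hjβ x (hZ hx))⟩
  by_cases hUT : U ⊓ T ≤ V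
  swap
  · exact hup U j hj (card_lt_of_lt' (inf_le_right.trans hT.1) (lt_of_le_not_ge
      (le_inf le_sup_right hVT.le) hUT))
  -- `V` is centric in `T`
  have hTV : centralizerIn T V ≤ V := by
    have hle : centralizerIn T V ≤ R := by
      rcases hR with e | hess
      · rw [e]; exact fun z hz => ⟨hT.1 hz.1, hz.2⟩
      have hsc : (centralizerSys F hVn.1).StronglyClosed (centralizerIn T V) :=
        stronglyClosed_iff.2 ⟨fun z hz => ⟨hT.1 hz.1, hz.2⟩, fun X g hX hg x hx =>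
          ⟨StronglyClosed.mor_mem hT (mor_cSys.1 hg).1 hx (hX hx).1, (hg.mem_S hx).2⟩⟩
      refine le_of_normalizer_le hS₀p hsat hsc hRS₀ fun a ha han => ?_
      let D : ℕ → Subgroup Ω := fun i => if i = 0 then R ⊓ T else R
      refine mem_of_chain hS₀p hess.1 (essential_radical hS₀p hsat hess) (hsc.1 ha) han
        (C := D) (n := 1) (monotone_nat_of_le_succ fun i => ?_) le_rfl ?_ ?_ ?_
      · rcases i with - | i
        · exact inf_le_left
        · exact le_rfl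
      · intro γ hγ i _ x hx
        rcases i with - | i
        · exact and_congr (iff_of_true (apl_mem γ hx) hx)
            (apl_invariant_of_stronglyClosed hT hRS ((mem_autGroup_iff hRS).2
              ⟨(mor_cSys.1 (iso_apl hRS₀ hγ).1).1, (iso_apl hRS₀ hγ).2⟩) hx)
        · exact iff_of_true (apl_mem γ hx) hx
      · intro γ hγ _ x hx hx0
        obtain ⟨-, -, -, k, -, hkγ, hkV⟩ := mor_cSys.1 (iso_apl hRS₀ hγ).1
        rw [← hkγ x hx]
        exact hkV x (hUT ⟨Subgroup.mem_sup_left hx, (show x ∈ R ⊓ T from hx0).2⟩)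
      · intro i hi x hx _
        obtain rfl : i = 0 := by omega
        refine ⟨R.mul_mem (R.inv_mem hx) ((Subgroup.mem_normalizer_iff.1 han x).1 hx), ?_⟩
        have := T.mul_mem ((Subgroup.mem_normalizer_iff''.1
          (StronglyClosed.le_normalizer hT (hRS hx)) a).1 ha.1) (T.inv_mem ha.1)
        simpa [mul_assoc] using this
    exact fun z hz => hUT ⟨Subgroup.mem_sup_left (hle hz), hz.1⟩
  -- move `U` to a fully normalized conjugate inside `N_F(V)`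
  have hVS := hVn.1
  set S' := normalizerIn S V
  haveI : Finite S' := finite_of_le (normalizerIn_le S V)
  have hS'p : IsPGroup p S' := hS.to_le (normalizerIn_le S V)
  have hN := isNormalizerSystem_normalizerSys (F := F) hVS
  have hNsat := normalizerSystem_saturated hS hF hVn hN
  have hUS' : U ≤ S' := sup_le (hRS₀.trans (centralizerIn_le_normalizerIn S V))
    (le_normalizerIn hVS)
  obtain ⟨U₂, g, hU₂n, hg, hgU, -⟩ := exists_fullyNormalized_mor hS'p hNsat hUS'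
  obtain ⟨hgF, -, -, k, hk, hkg, hkV⟩ := (mor_normalizerSystem hN).1 hg
  have hUN : U ≤ normalizerIn S' U := le_normalizerIn hUS'
  have hgV : ∀ x ∈ V, g x ∈ V := fun x hx => by
    rw [← hkg x (hUN (Subgroup.mem_sup_right hx))]
    exact (hkV _).2 ⟨x, hx, rfl⟩
  have hgFU : Iso F U U₂ g := ⟨hgF.mono hUN, hgU.2⟩
  have hVU₂ : V ≤ U₂ := fun y hy => by
    obtain ⟨x, hx, rfl⟩ := (hgF.mono ((le_sup_right : V ≤ U).trans hUN)).surj_of_card hVS hgV le_rfl hy
    exact hgU.mem (Subgroup.mem_sup_right hx)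
  obtain ⟨g', hg', hg'g, hgg'⟩ := hgFU.symm
  have hU₂T : U₂ ⊓ T ≤ V := fun y hy => by
    obtain ⟨x, hx, rfl⟩ := hgU.exists_eq hy.1
    have hxT : x ∈ T := by
      rw [← hg'g x hx]
      exact StronglyClosed.mor_mem hT hg'.1 hy.1 hy.2
    exact hgV x (hUT ⟨hx, hxT⟩)
  -- the enlarged domain
  obtain ⟨t, ht, htn, htU⟩ : ∃ t ∈ T, t ∈ Subgroup.normalizer (U : Set Ω) ∧ t ∉ U := by
    by_contra h
    push Not at h
    exact hVT.not_ge fun y hy => hUT ⟨le_of_normalizer_le hS hF hT hUS h hy, hy⟩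
  have htS' : t ∈ normalizerIn S' U := by
    refine ⟨⟨hT.1 ht, ?_⟩, htn⟩
    rw [show V = U ⊓ T from le_antisymm (le_inf le_sup_right hVT.le) hUT]
    exact Subgroup.mem_normalizer_iff.2 fun y => and_congr (Subgroup.mem_normalizer_iff.1 htn y)
      (Subgroup.mem_normalizer_iff.1 (Subgroup.le_normalizer ht) y)
  obtain ⟨X, hX⟩ := hgF.exists_iso
  have hdom : Nat.card V < Nat.card ↥(normalizerIn S' U ⊓ T) :=
    card_lt_of_lt' (inf_le_right.trans hT.1) (lt_of_le_of_ne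
      (le_inf ((le_sup_right : V ≤ U).trans hUN) hVT.le)
      fun e => htU (Subgroup.mem_sup_right (e ▸ ⟨htS', ht⟩)))
  have hdom' : Nat.card V < Nat.card ↥(X ⊓ T) := by
    refine hdom.trans_le ?_
    haveI := finite_of_le (inf_le_left.trans hX.right_le : X ⊓ T ≤ S)
    exact (hgF.mono (inf_le_left : normalizerIn S' U ⊓ T ≤ _)).card_image_le
      (inf_le_right.trans hT.1) fun x hx =>
        ⟨hX.mem hx.1, StronglyClosed.mor_mem hT hgF hx.1 hx.2⟩
  -- transport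
  have hju : ∀ x ∈ U, j x ∈ U := fun x hx => hj.mem_of_sup
    (fun a ha => Subgroup.mem_sup_left (hjβ a ha ▸ apl_mem β ha))
    (fun a ha => Subgroup.mem_sup_right ((hjV a ha).symm ▸ ha)) hx
  have hjN : Iso (normalizerSys F hVS) U U j := by
    refine ⟨(mor_normalizerSystem hN).2 ⟨hj, hUS', fun x hx => hUS' (hju x hx), j,
      hj.mono (sup_le le_rfl le_sup_right), fun _ _ => rfl, fun y => ⟨fun hy => ⟨y, hy, hjV y hy⟩,
        fun ⟨x, hx, hxy⟩ => hxy ▸ (hjV x hx).symm ▸ hx⟩⟩, fun y =>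
      ⟨fun hy => hj.surj_of_card hUS hju le_rfl hy, fun ⟨x, hx, hxy⟩ => hxy ▸ hju x hx⟩⟩
  obtain ⟨g₁, hg₁, hg₁g, -⟩ := hgU.symm
  obtain ⟨α₂, hα₂, hα₂x⟩ := ((hg₁.comp hjN).comp hgU).exists_mem_autGroup
  have hgU' : Mor F U g := hgFU.1
  obtain ⟨g₂, hg₂, hg₂g, -⟩ := hX.symm
  have hU₂X : U₂ ≤ X := fun y hy => by
    obtain ⟨x, hx, rfl⟩ := hgU.exists_eq hy
    exact hX.mem (hUN hx)
  have h1 : ExtT E F p hT.1 U g := fun Z hZ hZC => hup _ g hgF hdom Z (hZ.trans hUN) hZC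
  have h2 : ExtT E F p hT.1 U₂ g₂ := fun Z hZ hZC => hup X g₂ hg₂.1 hdom' Z (hZ.trans hU₂X) hZC
  have h3 := step hS hF hE hT hVn hVT hTV hN hup hU₂n hVU₂ hU₂T hα₂
  have hα₂F : Mor F U₂ (apl α₂) := ((mor_normalizerSystem hN).1 (iso_apl hU₂n.1 hα₂).1).1
  have hcomp := h1.comp hS hF hE hT hgU' (h3.comp hS hF hE hT hα₂F h2 fun y hy => apl_mem α₂ hy)
    fun y hy => hgU.mem hy
  intro Z hZ hZC
  obtain ⟨k, hk, hkc⟩ := hcomp Z hZ hZC
  refine ⟨k, hk, fun w hw => ?_⟩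
  have hwU := hZ hw
  rw [hkc w hw]
  show g₂ (apl α₂ (g w)) = _
  rw [hα₂x _ (hgU.mem hwU)]
  show g₂ (g (j (g₁ (g w)))) = _
  rw [hg₁g w hwU, hg₂g _ (hUN (hju w hwU))]

/-- Every map extends, on subgroups of `C_S(E)`, to a map of the product with `T`. -/
theorem extT_all (hE : E.IsNormalIn F p) (hT : F.StronglyClosed T) {R₀ : Subgroup Ω} {f₀ : Ω → Ω}
    (hf₀ : Mor F R₀ f₀) : ExtT E F p hT.1 R₀ f₀ := by
  classical
  haveI := finite_of_le hT.1
  suffices main : ∀ (n : ℕ) (R : Subgroup Ω) (f : Ω → Ω), Mor F R f →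
      Nat.card T - Nat.card ↥(R ⊓ T) ≤ n → ExtT E F p hT.1 R f from
    main _ R₀ f₀ hf₀ le_rfl
  intro n
  induction n using Nat.strong_induction_on with
  | h n ih =>
  intro R f hf hn W hWR hWC
  set C := cE E F p hT.1
  set V := R ⊓ T with hV
  have hVS : V ≤ S := inf_le_right.trans hT.1
  have hWV : W ≤ centralizerIn S V := fun x hx => centralizerIn_anti inf_le_right (hWC hx).1
  have hdle : V ⊔ W ≤ R := sup_le inf_le_left hWR
  by_cases hTR : T ≤ R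
  · exact ⟨f, hf.mono (sup_le hWR hTR), fun _ _ => rfl⟩
  -- a proper part of `T`
  have hVlt : V < T := lt_of_le_of_ne inf_le_right fun e => hTR (e.ge.trans inf_le_left)
  have hcardlt : Nat.card V < Nat.card T := card_lt_of_lt' hT.1 hVlt
  have hup : ∀ {Z : Subgroup Ω}, Nat.card Z = Nat.card V → Up E F p hT.1 Z := fun {Z} hZ R' f' hf' hlt =>
    ih (Nat.card T - Nat.card ↥(R' ⊓ T)) (by
      rw [hZ] at hlt
      have := Subgroup.card_le_of_le (inf_le_right : R' ⊓ T ≤ T)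
      omega) R' f' hf' le_rfl
  obtain ⟨V₁, hV₁⟩ := (hf.mono (inf_le_left : V ≤ R)).exists_iso
  have hV₁T : V₁ ≤ T := fun y hy => by
    obtain ⟨z, hz, rfl⟩ := hV₁.exists_eq hy
    exact StronglyClosed.mor_mem hT hf hz.1 hz.2
  obtain ⟨V', h, hV'n, hh, hhi, -⟩ := exists_fullyNormalized_mor hS hF hV₁.right_le
  have hfW : ∀ z ∈ W, f z ∈ normalizerIn S V₁ := fun z hz => centralizerIn_le_normalizerIn _ _
    ((hf.mono hdle).mem_centralizerIn le_sup_left hV₁ (Subgroup.mem_sup_right hz) (hWV hz).2)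
  have hV'T : V' ≤ T := fun y hy => by
    obtain ⟨z, hz, rfl⟩ := hhi.exists_eq hy
    exact StronglyClosed.mor_mem hT hh (le_normalizerIn hV₁.right_le hz) (hV₁T hz)
  have hV'card : Nat.card V' = Nat.card V := by rw [← hhi.card_eq, ← hV₁.card_eq]
  have hV'lt : V' < T := lt_of_le_of_ne hV'T fun e => absurd (hV'card.symm.trans (by rw [e])) hcardlt.ne
  -- the source is moved into `N_S(V₁)`
  have hdomh : ∀ z ∈ V ⊔ W, f z ∈ normalizerIn S V₁ := fun z hz =>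
    (hf.mono hdle).mem_of_sup (fun a ha => le_normalizerIn hV₁.right_le (hV₁.mem ha))
      (fun a ha => hfW a ha) hz
  have hff := (hf.mono hdle).comp hh hdomh
  -- it is enough to treat the composite with `h`
  suffices hw : ExtT E F p hT.1 W (h ∘ f) by
    obtain ⟨X, hX⟩ := hh.exists_iso
    obtain ⟨h', hh', hh'h, -⟩ := hX.symm
    have h1 : Nat.card V < Nat.card ↥(X ⊓ T) := by
      have h1 : Nat.card V < Nat.card ↥(normalizerIn S V₁ ⊓ T) := by
        rw [hV₁.card_eq]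
        refine card_lt_of_lt' (inf_le_right.trans hT.1) (lt_of_le_of_ne
          (le_inf (le_normalizerIn hV₁.right_le) hV₁T) fun e => ?_)
        have hlt : V₁ < normalizerIn T V₁ := lt_normalizerIn (hS.to_le hT.1)
          (lt_of_le_of_ne hV₁T fun e' => by
            exact absurd (hV₁.card_eq.trans (by rw [e'])) hcardlt.ne)
        exact hlt.not_ge fun y hy => e ▸ ⟨⟨hT.1 hy.1, hy.2⟩, hy.1⟩
      refine h1.trans_le ?_
      haveI := finite_of_le (inf_le_left.trans hX.right_le : X ⊓ T ≤ S)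
      exact (hh.mono (inf_le_left : normalizerIn S V₁ ⊓ T ≤ _)).card_image_le
        (inf_le_right.trans hT.1) fun y hy => ⟨hX.mem hy.1, StronglyClosed.mor_mem hT hh hy.1 hy.2⟩
    have h2 : ExtT E F p hT.1 X h' := hup (Z := V) rfl X h' hh'.1 h1
    obtain ⟨k, hk, hkc⟩ := hw.comp hS hF hE hT (hff.mono le_sup_right) h2
      (fun z hz => hX.mem (hfW z hz)) W le_rfl hWC
    refine ⟨k, hk, fun z hz => ?_⟩
    rw [hkc z hz]
    exact hh'h _ (hfW z hz)
  intro W₀ hW₀ hW₀C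
  -- Frattini
  obtain ⟨β, hβ, e, he, hβe⟩ := exists_frattini hE.1.2.2 hVlt.le (hff.mono le_sup_left)
  obtain ⟨φ, hφ, hφe⟩ := he
  obtain ⟨-, -, ê, hê, hêe, hêC⟩ := (mem_centralizerHom_iff.1 (cE_centralized hS hF hE hT V hφ)).2
  have hTfn : F.IsFullyNormalized T := ⟨hT.1, fun Q _ => by
    rw [show normalizerIn S T = S from
      le_antisymm inf_le_left fun s hs => ⟨hs, StronglyClosed.le_normalizer hT hs⟩]
    exact Subgroup.card_le_of_le inf_le_left⟩
  obtain ⟨δ, hδ, -, hδβ⟩ := exists_ext hS hF (fullyCentralized_of_fullyNormalized hS hF hTfn) hβ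
  have hN : T ⊔ centralizerIn S T ≤ S := sup_le hT.1 (centralizerIn_le S T)
  have hle2 : V ⊔ W ≤ V ⊔ C := sup_le_sup_left hWC V
  have hêV : ∀ z ∈ V, ê z = e z ∧ e z ∈ T := fun z hz => by
    have h1 := hφe ⟨z, hz⟩
    rw [hêe z hz, extendFn_apply φ hz]
    exact ⟨h1, h1 ▸ (E.le_of_mem hφ).2 _⟩
  have hêN : ∀ z ∈ V ⊔ C, ê z ∈ T ⊔ centralizerIn S T := fun z hz => hê.mem_of_sup
    (fun a ha => Subgroup.mem_sup_left ((hêV a ha).1 ▸ (hêV a ha).2))
    (fun a ha => Subgroup.mem_sup_right (by rw [hêC a ha]; exact ha.1)) hz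
  have hk := (hê.mono hle2).comp (iso_apl hN hδ).1 fun z hz => hêN z (hle2 hz)
  have hkV : ∀ z ∈ V, (apl δ ∘ ê) z = h (f z) := fun z hz => by
    show apl δ (ê z) = _
    rw [(hêV z hz).1, hδβ _ (hêV z hz).2]
    exact (hβe z hz).symm
  have hkW : ∀ z ∈ W, (apl δ ∘ ê) z = apl δ z := fun z hz => congrArg (apl δ) (hêC z (hWC hz))
  obtain ⟨X, hX⟩ := hk.exists_iso
  obtain ⟨k', hk', hk'k, -⟩ := hX.symm
  have hWN : W ≤ T ⊔ centralizerIn S T := fun z hz => Subgroup.mem_sup_right (hWC hz).1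
  obtain ⟨W₁, hW₁⟩ := ((iso_apl hN hδ).1.mono hWN).exists_iso
  have hW₁C : W₁ ≤ C := fun y hy => by
    obtain ⟨z, hz, rfl⟩ := hW₁.exists_eq hy
    exact apl_mem_cE hS hF hT hδ (hWC hz)
  have hW₁X : W₁ ≤ X := fun y hy => by
    obtain ⟨z, hz, rfl⟩ := hW₁.exists_eq hy
    rw [← hkW z hz]
    exact hX.mem (Subgroup.mem_sup_right hz)
  have hV'X : V' ≤ X := fun y hy => by
    obtain ⟨z, hz, rfl⟩ := hhi.exists_eq hy
    obtain ⟨v, hv, rfl⟩ := hV₁.exists_eq hz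
    rw [← hkV v hv]
    exact hX.mem (Subgroup.mem_sup_left hv)
  have hg := hk'.1.comp hff fun y hy => hk'.mem hy
  have hgV : ∀ y ∈ V', h (f (k' y)) = y := fun y hy => by
    obtain ⟨z, hz, rfl⟩ := hhi.exists_eq hy
    obtain ⟨v, hv, rfl⟩ := hV₁.exists_eq hz
    rw [← hkV v hv, hk'k v (Subgroup.mem_sup_left hv), hkV v hv]
  have hsub : W₁ ⊔ V' ≤ X := sup_le hW₁X hV'X
  have hW₁V : W₁ ≤ centralizerIn S V' := fun y hy => centralizerIn_anti hV'T (hW₁C hy).1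
  have hγ : Mor (centralizerSys F hV'n.1) W₁ ((h ∘ f) ∘ k') :=
    mor_cSys.2 ⟨hg.mono (le_sup_left.trans hsub), hW₁V,
      fun y hy => (hg.mono hsub).mem_centralizerIn le_sup_right
        ⟨hg.mono hV'X, fun z => ⟨fun hz => ⟨z, hz, hgV z hz⟩,
          fun ⟨v, hv, hvz⟩ => by
            rw [← hvz, Function.comp_apply, Function.comp_apply, hgV v hv]; exact hv⟩⟩
        (Subgroup.mem_sup_left hy) (hW₁V hy).2,
      _, hg.mono hsub, fun _ _ => rfl, hgV⟩
  have hres := step_centralizer hS hF hE hT hV'n hV'lt (hup hV'card) hγ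
  have hδW : ExtT E F p hT.1 W (apl δ) := fun Z hZ hZC =>
    ⟨apl δ, (iso_apl hN hδ).1.mono (sup_le (hZ.trans hWN) le_sup_left), fun _ _ => rfl⟩
  obtain ⟨k₀, hk₀, hk₀c⟩ := hδW.comp hS hF hE hT ((iso_apl hN hδ).1.mono hWN) hres
    (fun z hz => hW₁.mem hz) W₀ hW₀ hW₀C
  refine ⟨k₀, hk₀, fun z hz => ?_⟩
  rw [hk₀c z hz]
  show h (f (k' (apl δ z))) = h (f z)
  rw [← hkW z (hW₀ hz), hk'k z (Subgroup.mem_sup_right (hW₀ hz))]

/-- `C_S(E)` is strongly closed. -/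
theorem stronglyClosed_cE (hE : E.IsNormalIn F p) (hT : F.StronglyClosed T) :
    F.StronglyClosed (cE E F p hT.1) :=
  stronglyClosed_iff.2 ⟨(cE_le hT.1).trans (centralizerIn_le S T), fun _ _ hR hf _ hx =>
    (extT_all hS hF hE hT hf).mem hS hF hE hT hx (hR hx)⟩

end Cfsg.Agent.FusSys.CentE
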