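import Cfsg.Agent.FusSys.AutTSteps
import Cfsg.Agent.FusSys.CentE
import Cfsg.Prelude.Def_Local

/-!
The normal envelope of a normal subsystem with `p`-solvable quotient of the automizers of `T`.
-/

set_option autoImplicit false
set_option linter.unusedSectionVars false

namespace Cfsg.Agent.FusSys.AutT

open Cfsg Cfsg.FusionSystem Cfsg.Agent.FusSys Cfsg.Agent.FusSys.CentE Cfsg.Agent.FusSys.CentFocal

universe u

variable {Ω : Type u} [Group Ω] {S T W : Subgroup Ω} {F : FusionSystem S} {E : FusionSystem T} {p : ℕ}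
variable [Fact p.Prime] [Finite S] (hS : IsPGroup p S) (hE : E.IsNormalIn F p)
include hS hE

/-- The descent along a chain in a `p`-soluble quotient. -/
theorem exists_step_bot [hn : ((E.autGroup T).subgroupOf (F.autGroup T)).Normal]
    (hsolv : Cfsg.IsPSolvable p (↥(F.autGroup T) ⧸ (E.autGroup T).subgroupOf (F.autGroup T))) :
    ∃ (W : Subgroup Ω) (F' : FusionSystem W), Step p E F F' (E.autGroup T) := by
  obtain ⟨n, H, h0, hlast, hmono, hnorm, hidx⟩ := hsolv
  set A := F.autGroup T with hA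
  set B := (E.autGroup T).subgroupOf A with hB
  have hBA : E.autGroup T ≤ A := autGroup_le_of_invariant hE.1.2.2
  let Δ : Fin (n + 1) → Subgroup (MulAut T) := fun i =>
    ((H i).comap (QuotientGroup.mk' B)).map A.subtype
  have hmem : ∀ i (a : A), (a : MulAut T) ∈ Δ i ↔ QuotientGroup.mk' B a ∈ H i := fun i a =>
    ⟨fun h => by
      obtain ⟨c, hc, hca⟩ := Subgroup.mem_map.1 h
      exact Subtype.ext hca ▸ hc, fun h => Subgroup.mem_map.2 ⟨a, h, rfl⟩⟩
  have hle : ∀ i, Δ i ≤ A := fun i => Subgroup.map_subtype_le _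
  have hEΔ : ∀ i, E.autGroup T ≤ Δ i := fun i α hα => by
    refine (hmem i ⟨α, hBA hα⟩).2 ?_
    rw [show QuotientGroup.mk' B ⟨α, hBA hα⟩ = 1 from (QuotientGroup.eq_one_iff _).2 hα]
    exact one_mem _
  have hΔ0 : Δ 0 = E.autGroup T := le_antisymm (fun α hα => by
    have h := (hmem 0 ⟨α, hle 0 hα⟩).1 hα
    rw [h0, Subgroup.mem_bot] at h
    exact (QuotientGroup.eq_one_iff (⟨α, hle 0 hα⟩ : A)).1 h) (hEΔ 0)
  have hΔn : Δ (Fin.last n) = A := le_antisymm (hle _) fun α hα =>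
    (hmem _ ⟨α, hα⟩).2 (hlast ▸ Subgroup.mem_top _)
  have hconj : ∀ i, ∀ a ∈ A, ∀ δ ∈ Δ i, a * δ * a⁻¹ ∈ Δ i := fun i a ha δ hδ => by
    have h := (hmem i ⟨δ, hle i hδ⟩).1 hδ
    refine (hmem i (⟨a, ha⟩ * ⟨δ, hle i hδ⟩ * ⟨a, ha⟩⁻¹)).2 ?_
    rw [map_mul, map_mul, map_inv]
    exact (hnorm i).conj_mem _ h _
  -- a relative index kills the larger group
  have hpow : ∀ (i : Fin n) (α : MulAut T), α ∈ Δ i.succ →
      α ^ (H i.castSucc).relIndex (H i.succ) ∈ Δ i.castSucc := fun i α hα => by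
    have h := (hmem _ ⟨α, hle _ hα⟩).1 hα
    refine (hmem _ (⟨α, hle _ hα⟩ ^ (H i.castSucc).relIndex (H i.succ))).2 ?_
    rw [map_pow]
    have : ((H i.castSucc).subgroupOf (H i.succ)).Normal := (hnorm i.castSucc).subgroupOf _
    exact (((H i.castSucc).subgroupOf (H i.succ)).pow_index_mem (⟨_, h⟩ : H i.succ) :)
  suffices h : ∀ i : Fin (n + 1), ∃ (W : Subgroup Ω) (F' : FusionSystem W), Step p E F F' (Δ i) by
    obtain ⟨W, F', h⟩ := h 0
    exact ⟨W, F', hΔ0 ▸ h⟩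
  intro i
  induction i using Fin.reverseInduction with
  | last => exact ⟨S, F, hΔn.symm ▸ step_refl hS hE⟩
  | cast i ih =>
    obtain ⟨W, F₁, h₁⟩ := ih
    haveI := finite_of_le h₁.base
    have hWp := hS.to_le h₁.base
    have hsub : Δ i.castSucc ≤ Δ i.succ :=
      Subgroup.map_mono (Subgroup.comap_mono (hmono (Fin.le_def.2 (by simp))))
    have hF₁ : Δ i.castSucc ≤ F₁.autGroup T := h₁.autT.symm ▸ hsub
    have hconj₁ : ∀ a ∈ F₁.autGroup T, ∀ δ ∈ Δ i.castSucc, a * δ * a⁻¹ ∈ Δ i.castSucc :=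
      fun a ha => hconj _ a (hle _ (h₁.autT ▸ ha))
    rcases hidx i with ⟨m, hm⟩ | hco
    · -- a quotient which is a `p`-group
      obtain ⟨W', F₂, h₂⟩ := exists_step_power hWp h₁.normal (hEΔ _) hF₁ hconj₁ (by
        rw [pResidual, MonoidHom.map_closure, Subgroup.closure_le]
        rintro _ ⟨α, hα, rfl⟩
        have hα' : (α : MulAut T) ∈ Δ i.succ := h₁.autT ▸ α.2
        have h1 := hpow i _ hα'
        rw [hm] at h1
        refine mem_of_coprime_pows ((Nat.Prime.coprime_iff_not_dvd Fact.out).1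
          (Nat.Coprime.symm hα)) h1 ?_
        show (α : MulAut T) ^ orderOf α ∈ _
        rw [← SubmonoidClass.coe_pow, pow_orderOf_eq_one]
        exact one_mem _)
      exact ⟨W', F₂, step_trans hS hE h₁ h₂ hsub⟩
    · -- a quotient of order prime to `p`
      have hK : CharKer E F₁ p (Δ i.castSucc) := by
        refine ⟨hF₁, hEΔ _, hconj₁, fun α hα k hk => ?_⟩
        exact mem_of_coprime_pows ((Nat.Prime.coprime_iff_not_dvd Fact.out).1 (Nat.Coprime.symm hco))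
          hk (hpow i α (h₁.autT ▸ hα))
      exact ⟨W, _, step_trans hS hE h₁ (step_prime hWp h₁.normal hK) hsub⟩

/-- At the bottom the subgroup is `T C_S(T)`. -/
theorem base_eq_bot {F' : FusionSystem W} (h : Step p E F F' (E.autGroup T)) :
    W = T ⊔ centralizerIn S T := by
  have hT := hE.1.2.2.2.1
  haveI := finite_of_le hT.1
  refine le_antisymm (fun s hs => ?_) h.top
  have hsS := h.base hs
  obtain ⟨σ, hσ, hσx⟩ := exists_mem_autInducedBy (K := W) (P := T) hs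
    (StronglyClosed.le_normalizer hT hsS)
  obtain ⟨k, hk⟩ := isPGroup_autInducedBy (P := T) (hS.to_le h.base) ⟨σ, hσ⟩
  obtain ⟨t, ht⟩ := mem_inn_of_pow (hS.to_le hT.1) hE.1.1
    (h.autT ▸ autInducedBy_le_autGroup (F := F') (le_sup_left.trans h.top) hσ)
    (congrArg Subtype.val hk : σ ^ p ^ k = 1)
  rw [← mul_inv_cancel_left (t : Ω) s]
  refine Subgroup.mul_mem _ (Subgroup.mem_sup_left t.2) (Subgroup.mem_sup_right
    ⟨S.mul_mem (S.inv_mem (hT.1 t.2)) hsS, Subgroup.mem_centralizer_iff.2 fun x hx => ?_⟩)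
  have h1 := hσx x hx
  have ht' : MulAut.conj t = σ := ht
  rw [← ht', apl_conj t hx] at h1
  calc x * ((t : Ω)⁻¹ * s) = (t : Ω)⁻¹ * ((t : Ω) * x * (t : Ω)⁻¹) * s := by group
    _ = (t : Ω)⁻¹ * (s * x * s⁻¹) * s := by rw [h1]
    _ = (t : Ω)⁻¹ * s * x := by group

omit hE in
/-- The maps of `F` inside a subgroup of `S`. -/
theorem subRel_inside {N : Subgroup Ω} (hN : N ≤ S) :
    SubRel F N (fun P f => P ≤ N ∧ ∀ x ∈ P, f x ∈ N) := by
  refine ⟨fun h he => ⟨h.1, fun x hx => he x hx ▸ h.2 x hx⟩, fun h => h,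
    fun hP hs => ⟨mor_conj (hP.trans hN) (hN hs), hP,
      fun x hx => N.mul_mem (N.mul_mem hs (hP hx)) (N.inv_mem hs)⟩,
    fun _ h _ h' hfR => ⟨h.1, fun x hx => h'.2 _ (hfR x hx)⟩, fun hf h hg hgf => ⟨fun y hy => ?_,
      fun y hy => ?_⟩⟩
  · obtain ⟨x, hx, rfl⟩ := hf.exists_eq hy
    exact h.2 x hx
  · obtain ⟨x, hx, rfl⟩ := hf.exists_eq hy
    rw [hgf x hx]
    exact h.1 hx

omit hS hE in
theorem transp_mor {N P : Subgroup Ω} {f : Ω → Ω} (hN : N ≤ S) {β : MulAut N}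
    (hβ : β ∈ F.autGroup N) (hf : Mor F P f) (hP : P ≤ N) (hfN : ∀ x ∈ P, f x ∈ N) :
    Mor F (tImg (apl β) P) (fun y => apl β (f (apl β⁻¹ y))) ∧ tImg (apl β) P ≤ N ∧
      ∀ y ∈ tImg (apl β) P, apl β (f (apl β⁻¹ y)) ∈ N := by
  have hmem : ∀ y ∈ tImg (apl β) P, y ∈ N ∧ apl β⁻¹ y ∈ P := fun y hy => by
    rw [← map_subgroupOf_apl hP β] at hy
    obtain ⟨x, hx, rfl⟩ := (map_apl_eq hP).1 hy
    exact ⟨apl_mem β (hP hx), (apl_inv_apl β (hP hx)).symm ▸ hx⟩
  refine ⟨(((iso_apl hN (inv_mem hβ)).1.mono fun y hy => (hmem y hy).1).comp hf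
    fun y hy => (hmem y hy).2).comp (iso_apl hN hβ).1 fun y hy => hfN _ (hmem y hy).2,
    fun y hy => (hmem y hy).1, fun y hy => apl_mem β (hfN _ (hmem y hy).2)⟩

/-- The subsystem at the bottom is normal. -/
theorem normal_bot {G : FusionSystem (T ⊔ centralizerIn S T)} (h : Step p E F G (E.autGroup T))
    [hn : ((E.autGroup T).subgroupOf (F.autGroup T)).Normal] : G.IsNormalIn F p := by
  have hF := hE.1.2.1
  have hT := hE.1.2.2.2.1
  haveI := finite_of_le hT.1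
  have hN : F.StronglyClosed (T ⊔ centralizerIn S T) := stronglyClosed_sup_centralizer hS hF hT
  have hTN : T ≤ (T ⊔ centralizerIn S T) := le_sup_left
  haveI := finite_of_le hN.1
  have subF : ∀ {X : Subgroup Ω} {f : Ω → Ω}, Mor G X f → Mor F X f :=
    fun {X f} hf => isSubsystemOf_iff_mor.1 h.sub X f hf
  have hR := subRel_inside (F := F) hS hN.1
  refine ⟨⟨h.sat, hF, invariant_of_mor h.sub hN ?_ fun P f hP hf => h.frattini P f hP hf⟩,
    fun α hα => ?_⟩
  · intro P f hf β hβ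
    have hTr : Transp (subSys hR) (subSys hR) (apl β) (apl β⁻¹) := by
      refine ⟨fun x hx => apl_mem β hx, fun x hx => apl_mem _ hx, fun x hx => apl_inv_apl β hx,
        fun x hx => apl_apl_inv β hx, fun x hx y hy => (iso_apl hN.1 hβ).1.map_mul hx hy,
        fun P f hf => ?_, fun P f hf => ?_⟩
      · obtain ⟨hfF, hP, hfN⟩ := (mor_subSys hR).1 hf
        exact (mor_subSys hR).2 (transp_mor hN.1 hβ hfF hP hfN)
      · obtain ⟨hfF, hP, hfN⟩ := (mor_subSys hR).1 hf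
        have h1 := transp_mor hN.1 (inv_mem hβ) hfF hP hfN
        rw [inv_inv] at h1
        exact (mor_subSys hR).2 h1
    have hGR : G.IsSubsystemOf (subSys hR) := isSubsystemOf_iff_mor.2 fun X g hg =>
      (mor_subSys hR).2 ⟨subF hg, hg.le, fun x hx => hg.mem_S hx⟩
    obtain ⟨D, hD⟩ := hTr.restrict G le_rfl
    have hDs : D.IsSaturated p := hD.saturated (hS.to_le hN.1) h.sat
    have hDF : D.IsSubsystemOf F := isSubsystemOf_iff_mor.2 fun X g hg =>
      ((mor_subSys hR).1 (isSubsystemOf_iff_mor.1 (hTr.isSubsystem hD le_rfl hGR) X g hg)).1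
    obtain ⟨σ, hσ, hσx⟩ :=
      (StronglyClosed.iso_self hT (iso_apl hN.1 hβ).1 hTN).exists_mem_autGroup
    have hσi : ∀ x ∈ T, apl β⁻¹ x = apl σ⁻¹ x := fun x hx => by
      conv_lhs => rw [← apl_apl_inv σ hx, hσx _ (apl_mem _ hx),
        apl_inv_apl β (hTN (apl_mem σ⁻¹ hx))]
    have hED : E.IsSubsystemOf D := isSubsystemOf_iff_mor.2 fun X g hg => by
      obtain ⟨k, hk, hkx⟩ := exists_transport hE.1.2.2 hg (inv_mem hσ)
      refine ((hD.mor _ _ (isSubsystemOf_iff_mor.1 h.normal.1.2.2.1 _ _ hk)).mono fun x hx => ?_).congr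
        fun x hx => ?_
      · rw [← apl_apl_inv β (hTN (hg.le hx)), hσi x (hg.le hx)]
        exact mem_tImg_of_mem ((map_apl_eq hg.le).2 ⟨x, hx, rfl⟩)
      · show g x = apl β (k (apl β⁻¹ x))
        rw [hσi x (hg.le hx), hkx x hx, ← hσi _ (hg.mem_S hx),
          apl_apl_inv β (hTN (hg.mem_S hx))]
    have hTW₀ : T ≤ tImg (apl β) (T ⊔ centralizerIn S T) := (isSubsystemOf_iff_mor.1 hED T id (mor_id le_rfl)).le
    have hDB : D.autGroup T ≤ E.autGroup T := fun α hα => by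
      have hαF : α ∈ F.autGroup T := autGroup_le_of_sub hDF hα
      have hm : Mor G T (fun x => apl β⁻¹ (apl α (apl β x))) :=
        (hD.mor' _ _ (iso_apl hTW₀ hα).1).mono fun x hx => by
          rw [← apl_inv_apl β (hTN hx), ← hσx x hx]
          exact mem_tImg_of_mem (apl_mem σ hx)
      have hc : σ⁻¹ * α * σ ∈ G.autGroup T := by
        refine (mem_autGroup_iff hTN).2 ⟨hm.congr fun x hx => ?_,
          (iso_apl (F := F) hT.1 (mul_mem (mul_mem (inv_mem hσ) hαF) hσ)).2⟩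
        rw [apl_mul _ _ hx, apl_mul _ _ (apl_mem σ hx), ← hσi _ (apl_mem α (apl_mem σ hx)), hσx x hx]
      rw [h.autT] at hc
      have h2 : (⟨σ, hσ⟩ : F.autGroup T) * ⟨σ⁻¹ * α * σ, autGroup_le_of_invariant hE.1.2.2 hc⟩ *
          (⟨σ, hσ⟩ : F.autGroup T)⁻¹ ∈ (E.autGroup T).subgroupOf (F.autGroup T) :=
        hn.conj_mem _ (Subgroup.mem_subgroupOf.2 hc) _
      have h3 : σ * (σ⁻¹ * α * σ) * σ⁻¹ ∈ E.autGroup T := Subgroup.mem_subgroupOf.1 h2
      rwa [show σ * (σ⁻¹ * α * σ) * σ⁻¹ = α by group] at h3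
    have hfG := isSubsystemOf_iff_mor.1 (h.max D hDs hDF hED hDB) _ _ (hD.mor P f hf)
    refine ⟨_, (map_subgroupOf_apl hf.le β).symm ▸ hfG, fun x hx => ?_⟩
    show apl β (f (apl β⁻¹ (apl β x))) = _
    rw [apl_inv_apl β (hf.le hx)]
  · have hαF : α ∈ F.autGroup (T ⊔ centralizerIn S T) := autGroup_le_of_sub h.sub hα
    have hC : centralizerIn S (T ⊔ centralizerIn S T) ≤ (T ⊔ centralizerIn S T) := fun c hc =>
      Subgroup.mem_sup_right ⟨hc.1, Subgroup.centralizer_le hTN hc.2⟩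
    obtain ⟨β, hβ, hβx⟩ := exists_aut_cast (sup_eq_left.2 hC).symm hαF
    refine ⟨β, hβ, fun x => ?_, fun c hc => ?_⟩
    · rw [← apl_coe β, hβx, ← apl_coe α]
      rfl
    · have hcN : (c : Ω) ∈ (T ⊔ centralizerIn S T) := hC hc
      rw [← apl_coe β c, hβx]
      refine ⟨(T ⊔ centralizerIn S T).mul_mem ((T ⊔ centralizerIn S T).inv_mem hcN) (apl_mem α hcN), ?_⟩
      refine Subgroup.mul_mem _ (Subgroup.inv_mem _ hc.2) (Subgroup.mem_centralizer_iff.2 fun y hy => ?_)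
      have hy' := apl_mem α⁻¹ hy
      have hm := (iso_apl (F := F) hN.1 hαF).1
      have h1 := congrArg (apl α) (Subgroup.mem_centralizer_iff.1 hc.2 _ hy')
      rwa [hm.map_mul hy' hcN, hm.map_mul hcN hy', apl_apl_inv α hy] at h1

/-- The normal envelope. -/
theorem exists_envelope [((E.autGroup T).subgroupOf (F.autGroup T)).Normal]
    (hsolv : Cfsg.IsPSolvable p (↥(F.autGroup T) ⧸ (E.autGroup T).subgroupOf (F.autGroup T))) :
    ∃ G : FusionSystem (T ⊔ centralizerIn S T),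
      G.IsNormalIn F p ∧ Step p E F G (E.autGroup T) := by
  obtain ⟨W, F', h⟩ := exists_step_bot hS hE hsolv
  obtain rfl := base_eq_bot hS hE h
  exact ⟨F', normal_bot hS hE h, h⟩

/-- When the centralizer of `E` lies in `T`, the envelope has `E` as a subsystem of `p`-power index. -/
theorem pPowerIndex_of_envelope (hT : F.StronglyClosed T) (hT1 : S ≤ T ⊔ centralizerIn S T)
    (haut : F.autGroup T = E.autGroup T) (hcE : cE E F p hT.1 ≤ T) :
    E.HasPPowerIndexIn F p := by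
  have hF := hE.1.2.1
  haveI := finite_of_le hT.1
  have hN : T ⊔ centralizerIn S T ≤ S := sup_le hT.1 (centralizerIn_le S T)
  have hdiff : ∀ P f, Mor F P f → ∀ x ∈ P, x⁻¹ * f x ∈ T := by
    intro P f hf x hx
    obtain ⟨g, hg, hgf⟩ := exists_extend_mod hS hF hT hf
    obtain ⟨α, hα, hαx⟩ :=
      (StronglyClosed.iso_self hT hg le_sup_right).exists_mem_autGroup
    rw [haut] at hα
    obtain ⟨β, hβ, hβT, hβC⟩ := hE.2 α hα
    have hQ : P ⊔ T ≤ T ⊔ centralizerIn S T := hg.le.trans hT1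
    set Q := (P ⊔ T) ⊓ centralizerIn S T with hQdef
    set m := apl β⁻¹ ∘ g with hm
    have hmm : Mor F (P ⊔ T) m :=
      hg.comp (iso_apl hN (inv_mem hβ)).1 fun y hy => hT1 (hg.mem_S hy)
    have hfix : ∀ t ∈ T, m t = t := fun t ht => by
      show apl β⁻¹ (g t) = t
      rw [← hαx t ht, apl_apply α ht, ← hβT ⟨t, ht⟩, ← apl_coe β]
      exact apl_inv_apl β (Subgroup.mem_sup_left ht)
    have hxn : x ∈ ((T ⊔ centralizerIn S T : Subgroup Ω) : Set Ω) := hQ (Subgroup.mem_sup_left hx)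
    rw [Subgroup.coe_mul_of_right_le_normalizer_left _ _
      ((centralizerIn_le S T).trans (StronglyClosed.le_normalizer hT))] at hxn
    obtain ⟨t, ht, c, hc, rfl⟩ := hxn
    have hcQ : c ∈ P ⊔ T := by
      have := (P ⊔ T).mul_mem (Subgroup.mem_sup_right (T.inv_mem ht)) (Subgroup.mem_sup_left hx)
      rwa [inv_mul_cancel_left] at this
    have hCm : ∀ y ∈ Q, m y ∈ centralizerIn S T := fun y hy =>
      hmm.mem_centralizerIn le_sup_right ⟨hmm.mono le_sup_right, fun z =>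
        ⟨fun hz => ⟨z, hz, hfix z hz⟩, fun ⟨z', hz', hzz⟩ => hzz ▸ (hfix z' hz').symm ▸ hz'⟩⟩
        hy.1 hy.2.2
    have h1 : c⁻¹ * m c ∈ T := hcE (cFoc_le_cE hS hF hE hT (quot_mem_focal
      (F := centralizerSys F hT.1) (mor_cSys.2 ⟨hmm.mono inf_le_left, inf_le_right, hCm,
        m, hmm.mono (sup_le inf_le_left le_sup_right), fun _ _ => rfl, hfix⟩)
      (show c ∈ Q from ⟨hcQ, hc⟩)))
    -- `β` is the identity modulo `T` on the centralizer
    have hmc : m c ∈ centralizerIn S T := hCm c ⟨hcQ, hc⟩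
    have h2 : (m c)⁻¹ * g c ∈ T := by
      have e1 : apl β (m c) = g c := apl_apl_inv β (hT1 (hg.mem_S hcQ))
      have h := (hβC ⟨m c, Subgroup.mem_sup_right hmc⟩ hmc).1
      rwa [← apl_coe β, e1] at h
    have h3 : c⁻¹ * g c ∈ T := by
      have := T.mul_mem h1 h2
      rwa [mul_assoc, mul_inv_cancel_left] at this
    have h4 : (t * c)⁻¹ * g (t * c) ∈ T := by
      rw [hg.map_mul (Subgroup.mem_sup_right ht) hcQ]
      have hgt : g t ∈ T := hαx t ht ▸ apl_mem α ht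
      have := (Subgroup.mem_normalizer_iff''.1 (StronglyClosed.le_normalizer hT hc.1) _).1
        (T.mul_mem (T.inv_mem ht) hgt)
      have h6 := T.mul_mem this h3
      convert h6 using 1
      group
    have h5 := T.mul_mem h4 (T.inv_mem (hgf (t * c) hx))
    convert h5 using 1
    group
  have hyp : F.hyperfocalSubgroup p ≤ T := hyperfocal_le_focal.trans ((Subgroup.closure_le _).2 (by
    rintro _ ⟨P, φ, x, hφ, rfl⟩
    rw [← extendFn_coe φ x]
    exact hdiff P _ (mor_extendFn hφ) x x.2))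
  refine ⟨hE.1.2.2.1, hyp, fun P hP => (Subgroup.map_subtype_le _).trans fun α hα => ?_⟩
  have hi := iso_apl (hP.trans hT.1) hα
  obtain ⟨β, hβ, e, he, hfe⟩ := exists_frattini hE.1.2.2 hP hi.1
  rw [haut] at hβ
  exact (mem_autGroup_iff hP).2
    ⟨(he.comp (iso_apl le_rfl hβ).1 fun x hx => he.mem_S hx).congr hfe, hi.2⟩

end Cfsg.Agent.FusSys.AutT
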