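import Cfsg.Agent.FusSys.GroupSys
import Cfsg.Prelude.Def_FusionComponents

/-!
Direct products of two fusion systems: existence and saturation.
-/

set_option autoImplicit false

namespace Cfsg.Agent.FusSys

open Cfsg Cfsg.FusionSystem

variable {Ω₁ Ω₂ : Type*} [Group Ω₁] [Group Ω₂] {S₁ : Subgroup Ω₁} {S₂ : Subgroup Ω₂}
variable {F₁ : FusionSystem S₁} {F₂ : FusionSystem S₂} {E : FusionSystem (S₁.prod S₂)}
variable {P Q : Subgroup (Ω₁ × Ω₂)} {p : ℕ}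

theorem fst_mem {x : Ω₁ × Ω₂} (hx : x ∈ P) : x.1 ∈ P.map (MonoidHom.fst Ω₁ Ω₂) :=
  Subgroup.mem_map.2 ⟨x, hx, rfl⟩

theorem snd_mem {x : Ω₁ × Ω₂} (hx : x ∈ P) : x.2 ∈ P.map (MonoidHom.snd Ω₁ Ω₂) :=
  Subgroup.mem_map.2 ⟨x, hx, rfl⟩

theorem mor_product (hE : IsProductSystem F₁ F₂ E) {f : Ω₁ × Ω₂ → Ω₁ × Ω₂} :
    Mor E P f ↔ P ≤ S₁.prod S₂ ∧ ∃ f₁ f₂, Mor F₁ (P.map (MonoidHom.fst Ω₁ Ω₂)) f₁ ∧
      Mor F₂ (P.map (MonoidHom.snd Ω₁ Ω₂)) f₂ ∧ ∀ x ∈ P, f x = (f₁ x.1, f₂ x.2) := by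
  constructor
  · rintro ⟨φ, hφ, hφf⟩
    obtain ⟨hP, φ₁, h₁, φ₂, h₂, heq⟩ := (hE P φ).1 hφ
    refine ⟨hP, _, _, mor_extendFn h₁, mor_extendFn h₂, fun x hx => ?_⟩
    rw [extendFn_apply φ₁ (fst_mem hx), extendFn_apply φ₂ (snd_mem hx), ← heq ⟨x, hx⟩]
    exact (hφf ⟨x, hx⟩).symm
  · rintro ⟨hP, f₁, f₂, hf₁, hf₂, heq⟩
    obtain ⟨φ₁, h₁, hφ₁⟩ := hf₁
    obtain ⟨φ₂, h₂, hφ₂⟩ := hf₂
    let π₁ : P →* P.map (MonoidHom.fst Ω₁ Ω₂) := (MonoidHom.fst Ω₁ Ω₂).subgroupMap P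
    let π₂ : P →* P.map (MonoidHom.snd Ω₁ Ω₂) := (MonoidHom.snd Ω₁ Ω₂).subgroupMap P
    refine ⟨(φ₁.comp π₁).prod (φ₂.comp π₂),
      (hE _ _).2 ⟨hP, φ₁, h₁, φ₂, h₂, fun x _ _ => rfl⟩, fun x => ?_⟩
    rw [heq x x.2]
    show (φ₁ (π₁ x), φ₂ (π₂ x)) = _
    rw [hφ₁, hφ₂]
    rfl

theorem exists_productSystem (F₁ : FusionSystem S₁) (F₂ : FusionSystem S₂) :
    ∃ E : FusionSystem (S₁.prod S₂), IsProductSystem F₁ F₂ E := by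
  refine ⟨⟨fun P => {φ | P ≤ S₁.prod S₂ ∧
      ∃ φ₁ ∈ F₁.Hom (P.map (MonoidHom.fst Ω₁ Ω₂)), ∃ φ₂ ∈ F₂.Hom (P.map (MonoidHom.snd Ω₁ Ω₂)),
        ∀ (x : P) (h₁ : (x : Ω₁ × Ω₂).1 ∈ P.map (MonoidHom.fst Ω₁ Ω₂))
          (h₂ : (x : Ω₁ × Ω₂).2 ∈ P.map (MonoidHom.snd Ω₁ Ω₂)),
          φ x = (φ₁ ⟨(x : Ω₁ × Ω₂).1, h₁⟩, φ₂ ⟨(x : Ω₁ × Ω₂).2, h₂⟩)}, ?_, ?_, ?_, ?_, ?_⟩,
    fun P φ => Iff.rfl⟩
  · rintro P φ ⟨hP, φ₁, h₁, φ₂, h₂, heq⟩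
    refine ⟨hP, fun x => ?_⟩
    rw [heq x (fst_mem x.2) (snd_mem x.2)]
    exact ⟨(F₁.le_of_mem h₁).2 _, (F₂.le_of_mem h₂).2 _⟩
  · rintro P φ ⟨hP, φ₁, h₁, φ₂, h₂, heq⟩ x y hxy
    rw [heq x (fst_mem x.2) (snd_mem x.2), heq y (fst_mem y.2) (snd_mem y.2)] at hxy
    obtain ⟨e1, e2⟩ := Prod.mk.inj hxy
    exact Subtype.ext (Prod.ext (congrArg Subtype.val (F₁.injective_of_mem h₁ e1))
      (congrArg Subtype.val (F₂.injective_of_mem h₂ e2)))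
  · intro P g hP hg
    refine ⟨hP, _, F₁.conj_mem ?_ hg.1, _, F₂.conj_mem ?_ hg.2, fun x _ _ => rfl⟩
    · rintro _ ⟨x, hx, rfl⟩
      exact (hP hx).1
    · rintro _ ⟨x, hx, rfl⟩
      exact (hP hx).2
  · rintro P Q φ ψ ⟨hP, φ₁, h₁, φ₂, h₂, heq⟩ ⟨hQ, ψ₁, k₁, ψ₂, k₂, keq⟩ h
    have m₁ : ∀ z, φ₁ z ∈ Q.map (MonoidHom.fst Ω₁ Ω₂) := by
      rintro ⟨_, x, hx, rfl⟩
      have := fst_mem (h ⟨x, hx⟩)
      rwa [heq ⟨x, hx⟩ (fst_mem hx) (snd_mem hx)] at this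
    have m₂ : ∀ z, φ₂ z ∈ Q.map (MonoidHom.snd Ω₁ Ω₂) := by
      rintro ⟨_, x, hx, rfl⟩
      have := snd_mem (h ⟨x, hx⟩)
      rwa [heq ⟨x, hx⟩ (fst_mem hx) (snd_mem hx)] at this
    refine ⟨hP, _, F₁.comp_mem h₁ k₁ m₁, _, F₂.comp_mem h₂ k₂ m₂, fun x e₁ e₂ => ?_⟩
    show ψ ⟨φ x, h x⟩ = _
    rw [keq ⟨φ x, h x⟩ (fst_mem (h x)) (snd_mem (h x))]
    refine Prod.ext (congrArg ψ₁ (Subtype.ext ?_)) (congrArg ψ₂ (Subtype.ext ?_))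
    · exact congrArg Prod.fst (heq x e₁ e₂)
    · exact congrArg Prod.snd (heq x e₁ e₂)
  · rintro P φ ⟨hP, φ₁, h₁, φ₂, h₂, heq⟩
    obtain ⟨ψ₁, k₁, kk₁⟩ := F₁.inv_mem h₁
    obtain ⟨ψ₂, k₂, kk₂⟩ := F₂.inv_mem h₂
    have l₁ : φ.range.map (MonoidHom.fst Ω₁ Ω₂) ≤ φ₁.range := by
      rintro _ ⟨_, ⟨x, rfl⟩, rfl⟩
      rw [heq x (fst_mem x.2) (snd_mem x.2)]
      exact ⟨_, rfl⟩
    have l₂ : φ.range.map (MonoidHom.snd Ω₁ Ω₂) ≤ φ₂.range := by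
      rintro _ ⟨_, ⟨x, rfl⟩, rfl⟩
      rw [heq x (fst_mem x.2) (snd_mem x.2)]
      exact ⟨_, rfl⟩
    let π₁ : φ.range →* φ₁.range :=
      (Subgroup.inclusion l₁).comp ((MonoidHom.fst Ω₁ Ω₂).subgroupMap φ.range)
    let π₂ : φ.range →* φ₂.range :=
      (Subgroup.inclusion l₂).comp ((MonoidHom.snd Ω₁ Ω₂).subgroupMap φ.range)
    refine ⟨(ψ₁.comp π₁).prod (ψ₂.comp π₂), ⟨?_,
      _, ((mor_extendFn k₁).mono l₁).hom_eq (ψ := ψ₁.comp (Subgroup.inclusion l₁))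
        (fun y => (extendFn_coe ψ₁ (Subgroup.inclusion l₁ y)).symm),
      _, ((mor_extendFn k₂).mono l₂).hom_eq (ψ := ψ₂.comp (Subgroup.inclusion l₂))
        (fun y => (extendFn_coe ψ₂ (Subgroup.inclusion l₂ y)).symm), fun y _ _ => rfl⟩, fun x => ?_⟩
    · rintro _ ⟨x, rfl⟩
      rw [heq x (fst_mem x.2) (snd_mem x.2)]
      exact ⟨(F₁.le_of_mem h₁).2 _, (F₂.le_of_mem h₂).2 _⟩
    · have e₁ := kk₁ ⟨_, fst_mem x.2⟩
      have e₂ := kk₂ ⟨_, snd_mem x.2⟩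
      refine Prod.ext ?_ ?_
      · show ψ₁ _ = _
        refine Eq.trans (congrArg ψ₁ (Subtype.ext ?_)) e₁
        exact congrArg Prod.fst (heq x (fst_mem x.2) (snd_mem x.2))
      · show ψ₂ _ = _
        refine Eq.trans (congrArg ψ₂ (Subtype.ext ?_)) e₂
        exact congrArg Prod.snd (heq x (fst_mem x.2) (snd_mem x.2))

/-! ### Saturation -/

theorem isPGroup_prod {G H : Type*} [Group G] [Group H] (hG : IsPGroup p G) (hH : IsPGroup p H) :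
    IsPGroup p (G × H) := fun x => by
  obtain ⟨a, ha⟩ := hG x.1
  obtain ⟨b, hb⟩ := hH x.2
  refine ⟨a + b, Prod.ext ?_ ?_⟩
  · show x.1 ^ p ^ (a + b) = 1
    rw [pow_add, pow_mul, ha, one_pow]
  · show x.2 ^ p ^ (a + b) = 1
    rw [pow_add, mul_comm, pow_mul, hb, one_pow]

section

variable {Q₁ : Subgroup Ω₁} {Q₂ : Subgroup Ω₂}

/-- A pair of automorphisms as a function on the product. -/
noncomputable def pairFn (a : MulAut Q₁ × MulAut Q₂) (x : Ω₁ × Ω₂) : Ω₁ × Ω₂ :=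
  (apl a.1 x.1, apl a.2 x.2)

theorem pairFn_mem (a : MulAut Q₁ × MulAut Q₂) {x : Ω₁ × Ω₂} (hx : x ∈ Q₁.prod Q₂) :
    pairFn a x ∈ Q₁.prod Q₂ := ⟨apl_mem _ hx.1, apl_mem _ hx.2⟩

theorem pairFn_mul (a b : MulAut Q₁ × MulAut Q₂) {x : Ω₁ × Ω₂} (hx : x ∈ Q₁.prod Q₂) :
    pairFn (a * b) x = pairFn a (pairFn b x) :=
  Prod.ext (apl_mul _ _ hx.1) (apl_mul _ _ hx.2)

theorem pairFn_one {x : Ω₁ × Ω₂} (hx : x ∈ Q₁.prod Q₂) :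
    pairFn (1 : MulAut Q₁ × MulAut Q₂) x = x := Prod.ext (apl_one hx.1) (apl_one hx.2)

theorem pairFn_inv_self (a : MulAut Q₁ × MulAut Q₂) {x : Ω₁ × Ω₂} (hx : x ∈ Q₁.prod Q₂) :
    pairFn a⁻¹ (pairFn a x) = x := by
  rw [← pairFn_mul _ _ hx, inv_mul_cancel, pairFn_one hx]

theorem pairFn_self_inv (a : MulAut Q₁ × MulAut Q₂) {x : Ω₁ × Ω₂} (hx : x ∈ Q₁.prod Q₂) :
    pairFn a (pairFn a⁻¹ x) = x := by
  rw [← pairFn_mul _ _ hx, mul_inv_cancel, pairFn_one hx]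

theorem pairFn_map_mul (a : MulAut Q₁ × MulAut Q₂) {x y : Ω₁ × Ω₂} (hx : x ∈ Q₁.prod Q₂)
    (hy : y ∈ Q₁.prod Q₂) : pairFn a (x * y) = pairFn a x * pairFn a y := by
  refine Prod.ext ?_ ?_
  · show apl a.1 (x.1 * y.1) = apl a.1 x.1 * apl a.1 y.1
    rw [apl_apply _ (Q₁.mul_mem hx.1 hy.1), apl_apply _ hx.1, apl_apply _ hy.1]
    exact congrArg Subtype.val (map_mul a.1 ⟨_, hx.1⟩ ⟨_, hy.1⟩)
  · show apl a.2 (x.2 * y.2) = apl a.2 x.2 * apl a.2 y.2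
    rw [apl_apply _ (Q₂.mul_mem hx.2 hy.2), apl_apply _ hx.2, apl_apply _ hy.2]
    exact congrArg Subtype.val (map_mul a.2 ⟨_, hx.2⟩ ⟨_, hy.2⟩)

/-- Pairs stabilizing `X`. -/
def prodStab (A : Subgroup (MulAut Q₁ × MulAut Q₂)) (X : Subgroup (Ω₁ × Ω₂)) :
    Subgroup (MulAut Q₁ × MulAut Q₂) where
  carrier := {a | a ∈ A ∧ ∀ x ∈ Q₁.prod Q₂, (pairFn a x ∈ X ↔ x ∈ X)}
  one_mem' := ⟨A.one_mem, fun x hx => by rw [pairFn_one hx]⟩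
  mul_mem' := fun {a b} ha hb => ⟨A.mul_mem ha.1 hb.1, fun x hx => by
    rw [pairFn_mul _ _ hx]
    exact (ha.2 _ (pairFn_mem _ hx)).trans (hb.2 x hx)⟩
  inv_mem' := fun {a} ha => ⟨A.inv_mem ha.1, fun x hx => by
    have := ha.2 _ (pairFn_mem a⁻¹ hx)
    rw [pairFn_self_inv _ hx] at this
    exact this.symm⟩

theorem map_fst_le {X : Subgroup (Ω₁ × Ω₂)} (h : X ≤ Q₁.prod Q₂) :
    X.map (MonoidHom.fst Ω₁ Ω₂) ≤ Q₁ := by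
  rintro _ ⟨x, hx, rfl⟩
  exact (h hx).1

theorem map_snd_le {X : Subgroup (Ω₁ × Ω₂)} (h : X ≤ Q₁.prod Q₂) :
    X.map (MonoidHom.snd Ω₁ Ω₂) ≤ Q₂ := by
  rintro _ ⟨x, hx, rfl⟩
  exact (h hx).2

variable [Finite S₁] [Finite S₂] [Fact p.Prime] (h₁ : IsPGroup p S₁) (h₂ : IsPGroup p S₂)
  (hF₁ : F₁.IsSaturated p) (hF₂ : F₂.IsSaturated p) (hE : IsProductSystem F₁ F₂ E)
include h₁ h₂ hF₁ hF₂ hE

theorem product_receptive (hX : P ≤ S₁.prod S₂)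
    (hn₁ : F₁.IsFullyNormalized (P.map (MonoidHom.fst Ω₁ Ω₂)))
    (hn₂ : F₂.IsFullyNormalized (P.map (MonoidHom.snd Ω₁ Ω₂))) : E.IsReceptive P := by
  rw [isReceptive_iff]
  refine ⟨hX, fun R f hf => ?_⟩
  obtain ⟨hR, f₁, f₂, hf₁, hf₂, heq⟩ := (mor_product hE).1 hf.1
  have i₁ : Iso F₁ (R.map (MonoidHom.fst Ω₁ Ω₂)) (P.map (MonoidHom.fst Ω₁ Ω₂)) f₁ := by
    refine ⟨hf₁, fun y => ⟨?_, ?_⟩⟩
    · rintro ⟨x, hx, rfl⟩
      obtain ⟨w, hw, rfl⟩ := hf.exists_eq hx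
      exact ⟨w.1, fst_mem hw, (congrArg Prod.fst (heq w hw)).symm⟩
    · rintro ⟨_, ⟨w, hw, rfl⟩, rfl⟩
      exact ⟨f w, hf.mem hw, congrArg Prod.fst (heq w hw)⟩
  have i₂ : Iso F₂ (R.map (MonoidHom.snd Ω₁ Ω₂)) (P.map (MonoidHom.snd Ω₁ Ω₂)) f₂ := by
    refine ⟨hf₂, fun y => ⟨?_, ?_⟩⟩
    · rintro ⟨x, hx, rfl⟩
      obtain ⟨w, hw, rfl⟩ := hf.exists_eq hx
      exact ⟨w.2, snd_mem hw, (congrArg Prod.snd (heq w hw)).symm⟩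
    · rintro ⟨_, ⟨w, hw, rfl⟩, rfl⟩
      exact ⟨f w, hf.mem hw, congrArg Prod.snd (heq w hw)⟩
  obtain ⟨g₁, hg₁, hgf₁⟩ :=
    (isReceptive_iff.1 (receptive_of_fullyNormalized h₁ hF₁ hn₁)).2 _ _ i₁
  obtain ⟨g₂, hg₂, hgf₂⟩ :=
    (isReceptive_iff.1 (receptive_of_fullyNormalized h₂ hF₂ hn₂)).2 _ _ i₂
  have m₁ : (nPhi (S₁.prod S₂) R f).map (MonoidHom.fst Ω₁ Ω₂) ≤
      nPhi S₁ (R.map (MonoidHom.fst Ω₁ Ω₂)) f₁ := by
    rintro _ ⟨n, ⟨hnS, hn, h, hh, hhx⟩, rfl⟩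
    refine ⟨hnS.1, ?_, h.1, hh.1, ?_⟩
    · refine Subgroup.mem_normalizer_iff.2 fun y => ⟨?_, ?_⟩
      · rintro ⟨w, hw, rfl⟩
        exact ⟨n * w * n⁻¹, (Subgroup.mem_normalizer_iff.1 hn w).1 hw, rfl⟩
      · rintro ⟨w, hw, hwy⟩
        refine ⟨n⁻¹ * w * n, (Subgroup.mem_normalizer_iff''.1 hn w).1 hw, ?_⟩
        change w.1 = n.1 * y * n.1⁻¹ at hwy
        show n.1⁻¹ * w.1 * n.1 = y
        rw [hwy]
        group
    · rintro _ ⟨w, hw, rfl⟩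
      have h3 := congrArg Prod.fst (hhx w hw)
      rw [heq _ ((Subgroup.mem_normalizer_iff.1 hn w).1 hw)] at h3
      refine h3.trans ?_
      show h.1 * (f w).1 * h.1⁻¹ = _
      rw [heq w hw]
      rfl
  have m₂ : (nPhi (S₁.prod S₂) R f).map (MonoidHom.snd Ω₁ Ω₂) ≤
      nPhi S₂ (R.map (MonoidHom.snd Ω₁ Ω₂)) f₂ := by
    rintro _ ⟨n, ⟨hnS, hn, h, hh, hhx⟩, rfl⟩
    refine ⟨hnS.2, ?_, h.2, hh.2, ?_⟩
    · refine Subgroup.mem_normalizer_iff.2 fun y => ⟨?_, ?_⟩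
      · rintro ⟨w, hw, rfl⟩
        exact ⟨n * w * n⁻¹, (Subgroup.mem_normalizer_iff.1 hn w).1 hw, rfl⟩
      · rintro ⟨w, hw, hwy⟩
        refine ⟨n⁻¹ * w * n, (Subgroup.mem_normalizer_iff''.1 hn w).1 hw, ?_⟩
        change w.2 = n.2 * y * n.2⁻¹ at hwy
        show n.2⁻¹ * w.2 * n.2 = y
        rw [hwy]
        group
    · rintro _ ⟨w, hw, rfl⟩
      have h3 := congrArg Prod.snd (hhx w hw)
      rw [heq _ ((Subgroup.mem_normalizer_iff.1 hn w).1 hw)] at h3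
      refine h3.trans ?_
      show h.2 * (f w).2 * h.2⁻¹ = _
      rw [heq w hw]
      rfl
  refine ⟨fun x => (g₁ x.1, g₂ x.2), (mor_product hE).2
    ⟨fun x hx => hx.1, g₁, g₂, hg₁.mono m₁, hg₂.mono m₂, fun x _ => rfl⟩, fun x hx => ?_⟩
  rw [heq x hx]
  exact Prod.ext (hgf₁ _ (fst_mem hx)) (hgf₂ _ (snd_mem hx))

theorem product_saturated : E.IsSaturated p := by
  classical
  intro P hP
  obtain ⟨Q₁, g₁, hn₁, -, i₁, -⟩ := exists_fullyNormalized_mor h₁ hF₁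
    (P := P.map (MonoidHom.fst Ω₁ Ω₂)) (map_fst_le hP)
  obtain ⟨Q₂, g₂, hn₂, -, i₂, -⟩ := exists_fullyNormalized_mor h₂ hF₂
    (P := P.map (MonoidHom.snd Ω₁ Ω₂)) (map_snd_le hP)
  have hg : Mor E P (fun x => (g₁ x.1, g₂ x.2)) :=
    (mor_product hE).2 ⟨hP, g₁, g₂, i₁.1, i₂.1, fun _ _ => rfl⟩
  obtain ⟨Q₀, hQ₀⟩ := hg.exists_iso
  have hQ₀le : Q₀ ≤ Q₁.prod Q₂ := fun y hy => by
    obtain ⟨x, hx, rfl⟩ := hQ₀.exists_eq hy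
    exact ⟨i₁.mem (fst_mem hx), i₂.mem (snd_mem hx)⟩
  have hpr₁ : ∀ y ∈ Q₁, ∃ z ∈ Q₀, z.1 = y := fun y hy => by
    obtain ⟨_, ⟨x, hx, rfl⟩, rfl⟩ := i₁.exists_eq hy
    exact ⟨_, hQ₀.mem hx, rfl⟩
  have hpr₂ : ∀ y ∈ Q₂, ∃ z ∈ Q₀, z.2 = y := fun y hy => by
    obtain ⟨_, ⟨x, hx, rfl⟩, rfl⟩ := i₂.exists_eq hy
    exact ⟨_, hQ₀.mem hx, rfl⟩
  haveI := finite_of_le hn₁.1
  haveI := finite_of_le hn₂.1
  haveI : Finite (MulAut Q₁) := Finite.of_injective _ MulEquiv.toEquiv_injective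
  haveI : Finite (MulAut Q₂) := Finite.of_injective _ MulEquiv.toEquiv_injective
  let A : Subgroup (MulAut Q₁ × MulAut Q₂) := (F₁.autGroup Q₁).prod (F₂.autGroup Q₂)
  let B : Subgroup (MulAut Q₁ × MulAut Q₂) := (autInducedBy S₁ Q₁).prod (autInducedBy S₂ Q₂)
  have hBA : B ≤ A := Subgroup.prod_mono (autInducedBy_le_autGroup hn₁.1)
    (autInducedBy_le_autGroup hn₂.1)
  have hBp : IsPGroup p B :=
    IsPGroup.of_equiv (isPGroup_prod (isPGroup_autInducedBy h₁) (isPGroup_autInducedBy h₂))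
      (Subgroup.prodEquiv _ _).symm
  have hBi : ¬ p ∣ (B.subgroupOf A).index := by
    obtain ⟨-, T₁, hT₁⟩ := fullyAutomized_of_fullyNormalized h₁ hF₁ hn₁
    obtain ⟨-, T₂, hT₂⟩ := fullyAutomized_of_fullyNormalized h₂ hF₂ hn₂
    let e : A ≃* F₁.autGroup Q₁ × F₂.autGroup Q₂ := Subgroup.prodEquiv _ _
    have he : (B.subgroupOf A).map e.toMonoidHom =
        (T₁ : Subgroup (F₁.autGroup Q₁)).prod (T₂ : Subgroup (F₂.autGroup Q₂)) := by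
      ext ⟨a, b⟩
      constructor
      · rintro ⟨x, hx, hxe⟩
        rw [← hxe, hT₁, hT₂]
        exact hx
      · intro hx
        rw [hT₁, hT₂] at hx
        exact ⟨e.symm (a, b), hx, e.apply_symm_apply (a, b)⟩
    rw [← Subgroup.index_map_equiv (B.subgroupOf A) e, ← MulEquiv.toMonoidHom_eq_coe, he,
      Subgroup.index_prod, (Fact.out : p.Prime).dvd_mul]
    exact fun h => h.elim T₁.not_dvd_index T₂.not_dvd_index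
  let T : Sylow p A := hBp.comap_subtype.toSylow hBi
  -- conjugate a Sylow subgroup of the stabilizer of `Q₀` into `B`
  let H₀ : Subgroup A := (prodStab A Q₀).subgroupOf A
  obtain ⟨R⟩ := (inferInstance : Nonempty (Sylow p H₀))
  obtain ⟨k, hk⟩ := exists_conj_mem_sylow (R.2.map H₀.subtype) T
  let kk : MulAut Q₁ × MulAut Q₂ := (k : MulAut Q₁ × MulAut Q₂)
  let Q : Subgroup (Ω₁ × Ω₂) :=
    { carrier := {y | y ∈ Q₁.prod Q₂ ∧ pairFn kk⁻¹ y ∈ Q₀}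
      one_mem' := ⟨Subgroup.one_mem _, by
        have h := pairFn_map_mul kk⁻¹ (Subgroup.one_mem (Q₁.prod Q₂)) (Subgroup.one_mem (Q₁.prod Q₂))
        rw [one_mul, left_eq_mul] at h
        rw [h]; exact Q₀.one_mem⟩
      mul_mem' := fun {a b} ha hb => ⟨Subgroup.mul_mem _ ha.1 hb.1, by
        rw [pairFn_map_mul _ ha.1 hb.1]; exact Q₀.mul_mem ha.2 hb.2⟩
      inv_mem' := fun {a} ha => ⟨Subgroup.inv_mem _ ha.1, by
        have h := pairFn_map_mul kk⁻¹ ha.1 (Subgroup.inv_mem _ ha.1)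
        have h1 := pairFn_map_mul kk⁻¹ (Subgroup.one_mem (Q₁.prod Q₂)) (Subgroup.one_mem (Q₁.prod Q₂))
        rw [one_mul, left_eq_mul] at h1
        rw [mul_inv_cancel, h1] at h
        rw [← inv_eq_of_mul_eq_one_right h.symm]
        exact Q₀.inv_mem ha.2⟩ }
  have hQle : Q ≤ Q₁.prod Q₂ := fun y hy => hy.1
  have hkmem : ∀ z ∈ Q₀, pairFn kk z ∈ Q := fun z hz =>
    ⟨pairFn_mem _ (hQ₀le hz), by rw [pairFn_inv_self _ (hQ₀le hz)]; exact hz⟩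
  have e₁ : Q.map (MonoidHom.fst Ω₁ Ω₂) = Q₁ := le_antisymm (map_fst_le hQle) fun y hy => by
    obtain ⟨z, hz, hzy⟩ := hpr₁ _ (apl_mem kk.1⁻¹ hy)
    refine ⟨_, hkmem z hz, ?_⟩
    show apl kk.1 z.1 = y
    rw [hzy, apl_apl_inv _ hy]
  have e₂ : Q.map (MonoidHom.snd Ω₁ Ω₂) = Q₂ := le_antisymm (map_snd_le hQle) fun y hy => by
    obtain ⟨z, hz, hzy⟩ := hpr₂ _ (apl_mem kk.2⁻¹ hy)
    refine ⟨_, hkmem z hz, ?_⟩
    show apl kk.2 z.2 = y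
    rw [hzy, apl_apl_inv _ hy]
  have hQS : Q ≤ S₁.prod S₂ := fun y hy => ⟨hn₁.1 hy.1.1, hn₂.1 hy.1.2⟩
  have hiso : Iso E P Q (fun x => pairFn kk (g₁ x.1, g₂ x.2)) := by
    refine ⟨(mor_product hE).2 ⟨hP, _, _, (i₁.comp (iso_apl hn₁.1 k.2.1)).1,
      (i₂.comp (iso_apl hn₂.1 k.2.2)).1, fun x _ => rfl⟩, fun y => ⟨fun hy => ?_, ?_⟩⟩
    · obtain ⟨x, hx, hxy⟩ := hQ₀.exists_eq hy.2
      refine ⟨x, hx, ?_⟩
      show pairFn kk (g₁ x.1, g₂ x.2) = y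
      rw [hxy]
      exact pairFn_self_inv _ hy.1
    · rintro ⟨x, hx, rfl⟩
      exact hkmem _ (hQ₀.mem hx)
  refine ⟨Q, hiso.isConj, ?_, product_receptive h₁ h₂ hF₁ hF₂ hE hQS (e₁.symm ▸ hn₁) (e₂.symm ▸ hn₂)⟩
  haveI : Finite (S₁.prod S₂ : Subgroup (Ω₁ × Ω₂)) :=
    Finite.of_equiv _ (Subgroup.prodEquiv S₁ S₂).symm.toEquiv
  have hS : IsPGroup p (S₁.prod S₂ : Subgroup (Ω₁ × Ω₂)) :=
    IsPGroup.of_equiv (isPGroup_prod h₁ h₂) (Subgroup.prodEquiv S₁ S₂).symm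
  rw [fullyAutomized_iff hS hQS]
  let H : Subgroup A := (prodStab A Q).subgroupOf A
  -- the action of the stabilizer on `Q`
  have hmor : ∀ a : H, Iso E Q Q (pairFn ((a : A) : MulAut Q₁ × MulAut Q₂)) := by
    intro a
    refine ⟨(mor_product hE).2 ⟨hQS, _, _,
      e₁.symm ▸ (iso_apl hn₁.1 (a : A).2.1).1, e₂.symm ▸ (iso_apl hn₂.1 (a : A).2.2).1,
      fun x _ => rfl⟩, fun y => ⟨fun hy => ?_, ?_⟩⟩
    · refine ⟨pairFn ((a : A) : MulAut Q₁ × MulAut Q₂)⁻¹ y,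
        ((H.inv_mem a.2 : ((a : A)⁻¹) ∈ H).2 y (hQle hy)).2 hy, pairFn_self_inv _ (hQle hy)⟩
    · rintro ⟨x, hx, rfl⟩
      exact (a.2.2 x (hQle hx)).2 hx
  choose res hres hresx using fun a : H => (hmor a).exists_mem_autGroup
  let π : H →* E.autGroup Q :=
    MonoidHom.mk' (fun a => ⟨res a, hres a⟩) fun a b => Subtype.ext <| apl_ext fun x hx => by
      show apl (res (a * b)) x = apl (res a * res b) x
      rw [hresx _ x hx, apl_mul _ _ hx, hresx b x hx,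
        hresx a _ ((hmor b).mem hx)]
      exact pairFn_mul _ _ (hQle hx)
  have hsurj : Function.Surjective π := by
    rintro ⟨β, hβ⟩
    have hi := iso_apl hQS hβ
    obtain ⟨-, f₁, f₂, hf₁, hf₂, heq⟩ := (mor_product hE).1 hi.1
    rw [e₁] at hf₁
    rw [e₂] at hf₂
    have j₁ : Iso F₁ Q₁ Q₁ f₁ := by
      refine ⟨hf₁, fun y => ⟨fun hy => ?_, ?_⟩⟩
      · obtain ⟨z, hz, rfl⟩ := e₁.ge hy
        obtain ⟨w, hw, rfl⟩ := hi.exists_eq hz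
        exact ⟨w.1, (hQle hw).1, (congrArg Prod.fst (heq w hw)).symm⟩
      · rintro ⟨x, hx, rfl⟩
        obtain ⟨w, hw, rfl⟩ := e₁.ge hx
        exact e₁.le ⟨_, hi.mem hw, congrArg Prod.fst (heq w hw)⟩
    have j₂ : Iso F₂ Q₂ Q₂ f₂ := by
      refine ⟨hf₂, fun y => ⟨fun hy => ?_, ?_⟩⟩
      · obtain ⟨z, hz, rfl⟩ := e₂.ge hy
        obtain ⟨w, hw, rfl⟩ := hi.exists_eq hz
        exact ⟨w.2, (hQle hw).2, (congrArg Prod.snd (heq w hw)).symm⟩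
      · rintro ⟨x, hx, rfl⟩
        obtain ⟨w, hw, rfl⟩ := e₂.ge hx
        exact e₂.le ⟨_, hi.mem hw, congrArg Prod.snd (heq w hw)⟩
    obtain ⟨a₁, ha₁, ha₁x⟩ := j₁.exists_mem_autGroup
    obtain ⟨a₂, ha₂, ha₂x⟩ := j₂.exists_mem_autGroup
    have hfn : ∀ x ∈ Q, pairFn (a₁, a₂) x = apl β x := fun x hx => by
      rw [heq x hx]
      exact Prod.ext (ha₁x _ (hQle hx).1) (ha₂x _ (hQle hx).2)
    have hmemA : (a₁, a₂) ∈ A := ⟨ha₁, ha₂⟩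
    refine ⟨⟨⟨(a₁, a₂), hmemA⟩, hmemA, fun x hx => ⟨fun h => ?_, fun h => ?_⟩⟩,
      Subtype.ext (apl_ext fun x hx => ?_)⟩
    · change pairFn (a₁, a₂) x ∈ Q at h
      obtain ⟨w, hw, hwx⟩ := hi.exists_eq h
      rw [← hfn w hw] at hwx
      have := congrArg (pairFn (a₁, a₂)⁻¹) hwx
      rw [pairFn_inv_self _ (hQle hw), pairFn_inv_self _ hx] at this
      exact this ▸ hw
    · show pairFn (a₁, a₂) x ∈ Q
      rw [hfn x h]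
      exact hi.mem h
    · show apl (res _) x = apl β x
      rw [hresx _ x hx]
      exact hfn x hx
  intro hd
  have h1 : p ∣ ((B.subgroupOf A).subgroupOf H).index := by
    refine hd.trans (dvd_trans ?_ (Subgroup.index_map_dvd _ hsurj))
    refine Subgroup.index_dvd_of_le ?_
    rintro _ ⟨a, ha, rfl⟩
    obtain ⟨s₁, hs₁, -, hx₁⟩ := mem_autInducedBy_iff.1 ha.1
    obtain ⟨s₂, hs₂, -, hx₂⟩ := mem_autInducedBy_iff.1 ha.2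
    have hc : ∀ x ∈ Q₁.prod Q₂, pairFn ((a : A) : MulAut Q₁ × MulAut Q₂) x =
        (s₁, s₂) * x * (s₁, s₂)⁻¹ := fun x hx => Prod.ext (hx₁ _ hx.1) (hx₂ _ hx.2)
    refine Subgroup.mem_subgroupOf.2 (mem_autInducedBy_iff.2 ⟨(s₁, s₂), ⟨hs₁, hs₂⟩, ?_, ?_⟩)
    · refine Subgroup.mem_normalizer_iff.2 fun x => ⟨fun hx => ?_, fun hx => ?_⟩
      · rw [← hc x (hQle hx)]
        exact (hmor a).mem hx
      · obtain ⟨w, hw, hwx⟩ := (hmor a).exists_eq hx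
        rw [hc w (hQle hw)] at hwx
        have : w = x := mul_left_cancel (mul_right_cancel hwx)
        exact this ▸ hw
    · intro x hx
      show apl (res a) x = _
      rw [hresx a x hx]
      exact hc x (hQle hx)
  -- the conjugate of `R` lies in `B ⊓ H` and has index prime to `p` in `H`
  have hH : H = H₀.map (MulAut.conj k).toMonoidHom := by
    ext a
    rw [Subgroup.mem_map_equiv, MulAut.conj_symm_apply]
    show ((a : MulAut Q₁ × MulAut Q₂) ∈ A ∧ ∀ x ∈ Q₁.prod Q₂, _) ↔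
      (((k⁻¹ * a * k : A) : MulAut Q₁ × MulAut Q₂) ∈ A ∧ ∀ x ∈ Q₁.prod Q₂, _)
    refine ⟨fun h => ⟨(k⁻¹ * a * k).2, fun x hx => ?_⟩, fun h => ⟨a.2, fun x hx => ?_⟩⟩
    · show pairFn (kk⁻¹ * (a : MulAut Q₁ × MulAut Q₂) * kk) x ∈ Q₀ ↔ x ∈ Q₀
      rw [pairFn_mul _ _ hx, pairFn_mul _ _ (pairFn_mem _ hx)]
      have h2 := h.2 _ (pairFn_mem kk hx)
      refine ⟨fun h3 => ?_, fun h3 => ?_⟩
      · have h4 : pairFn kk x ∈ Q :=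
          h2.1 ⟨pairFn_mem _ (pairFn_mem _ hx), h3⟩
        rw [← pairFn_inv_self kk hx]
        exact h4.2
      · exact (h2.2 (hkmem x h3)).2
    · have hy := pairFn_mem kk⁻¹ hx
      have h2 : pairFn (kk⁻¹ * (a : MulAut Q₁ × MulAut Q₂) * kk) (pairFn kk⁻¹ x) ∈ Q₀ ↔
          pairFn kk⁻¹ x ∈ Q₀ := h.2 _ hy
      rw [pairFn_mul _ _ hy, pairFn_mul _ _ (pairFn_mem _ hy), pairFn_self_inv _ hx] at h2
      exact ⟨fun h3 => ⟨hx, h2.1 h3.2⟩, fun h3 => ⟨pairFn_mem _ hx, h2.2 h3.2⟩⟩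
  let c : A ≃* A := MulAut.conj k
  let R' : Subgroup A := ((R : Subgroup H₀).map H₀.subtype).map c.toMonoidHom
  have hR'H : R' ≤ H := hH.symm ▸ Subgroup.map_mono (Subgroup.map_subtype_le _)
  have hR'B : R' ≤ B.subgroupOf A := by
    rintro _ ⟨x, hx, rfl⟩
    exact hk x hx
  refine R.not_dvd_index ?_
  have h2 : p ∣ R'.relIndex H := by
    refine h1.trans ?_
    exact Subgroup.relIndex_dvd_of_le_left H hR'B
  rw [hH, Subgroup.relIndex_map_map_of_injective _ _ c.injective] at h2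
  rwa [Subgroup.relIndex, subgroupOf_map_subtype_self] at h2
where
  subgroupOf_map_subtype_self {G : Type _} [Group G] {H : Subgroup G} (R : Subgroup H) :
      (R.map H.subtype).subgroupOf H = R :=
    Subgroup.comap_map_eq_self_of_injective H.subtype_injective R

end

end Cfsg.Agent.FusSys
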