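import Cfsg.Agent.FusSys.Stable
import Cfsg.Agent.FusSys.Product
import Cfsg.Agent.FusSys.Inner

/-!
Semicharacteristic bisets of fusion systems, as lists of point stabilizers in `S × S`.
-/

set_option autoImplicit false

namespace Cfsg.Agent.FusSys

open Cfsg Cfsg.FusionSystem

variable {Ω : Type*} [Group Ω] {S : Subgroup Ω} {F : FusionSystem S} {p : ℕ}

/-- `D` is the graph of a map of `F`. -/
def DiagP (F : FusionSystem S) (D : Subgroup (Ω × Ω)) : Prop :=
  ∃ P f, Mor F P f ∧ ∀ x : Ω × Ω, x ∈ D ↔ x.1 ∈ P ∧ x.2 = f x.1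

theorem DiagP.le {D : Subgroup (Ω × Ω)} (h : DiagP F D) : D ≤ S.prod S := by
  obtain ⟨P, f, hf, hD⟩ := h
  intro x hx
  obtain ⟨h1, h2⟩ := (hD x).1 hx
  exact ⟨hf.le h1, h2 ▸ hf.mem_S h1⟩

theorem DiagP.down {D R : Subgroup (Ω × Ω)} (h : DiagP F D) (hR : R ≤ D) : DiagP F R := by
  obtain ⟨P, f, hf, hD⟩ := h
  refine ⟨R.map (MonoidHom.fst Ω Ω), f, hf.mono ?_, fun x => ⟨fun hx => ?_, fun hx => ?_⟩⟩
  · rintro _ ⟨y, hy, rfl⟩
    exact ((hD y).1 (hR hy)).1
  · exact ⟨fst_mem hx, ((hD x).1 (hR hx)).2⟩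
  · obtain ⟨⟨y, hy, hyx⟩, hx2⟩ := hx
    have h2 := ((hD y).1 (hR hy)).2
    have : y = x := Prod.ext hyx (by rw [h2, hx2]; exact congrArg f hyx)
    exact this ▸ hy

theorem DiagP.conj {E : FusionSystem (S.prod S)} (hE : IsProductSystem F F E)
    {D D' : Subgroup (Ω × Ω)} {h : Ω × Ω → Ω × Ω} (hh : Iso E D D' h) (hD : DiagP F D) :
    DiagP F D' := by
  obtain ⟨P, f, hf, hDf⟩ := hD
  obtain ⟨-, f₁, f₂, h₁, h₂, heq⟩ := (mor_product hE).1 hh.1
  have hP1 : D.map (MonoidHom.fst Ω Ω) = P := by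
    refine le_antisymm ?_ fun a ha => ⟨(a, f a), (hDf _).2 ⟨ha, rfl⟩, rfl⟩
    rintro _ ⟨y, hy, rfl⟩
    exact ((hDf y).1 hy).1
  rw [hP1] at h₁
  obtain ⟨P', hi⟩ := h₁.exists_iso
  obtain ⟨g, hg, hgf, -⟩ := hi.symm
  have hm : ∀ a ∈ P', f (g a) ∈ D.map (MonoidHom.snd Ω Ω) := fun a ha =>
    ⟨(g a, f (g a)), (hDf _).2 ⟨hg.mem ha, rfl⟩, rfl⟩
  have hmor : Mor F P' (f₂ ∘ (f ∘ g)) := (hg.1.comp hf fun a ha => hg.mem ha).comp h₂ hm
  refine ⟨P', f₂ ∘ (f ∘ g), hmor, fun x => ⟨fun hx => ?_, fun hx => ?_⟩⟩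
  · obtain ⟨y, hy, rfl⟩ := hh.exists_eq hx
    obtain ⟨h1, h2⟩ := (hDf y).1 hy
    rw [heq y hy]
    refine ⟨hi.mem h1, ?_⟩
    show f₂ y.2 = f₂ (f (g (f₁ y.1)))
    rw [hgf _ h1, h2]
  · obtain ⟨hx1, hx2⟩ := hx
    obtain ⟨a, ha, hax⟩ := hi.exists_eq hx1
    have hy : (a, f a) ∈ D := (hDf _).2 ⟨ha, rfl⟩
    have : h (a, f a) = x := by
      rw [heq _ hy]
      refine Prod.ext hax ?_
      rw [hx2, ← hax]
      show f₂ (f a) = f₂ (f (g (f₁ a)))
      rw [hgf a ha]
    exact this ▸ hh.mem hy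

theorem closedFam_diag {E : FusionSystem (S.prod S)} (hE : IsProductSystem F F E) :
    ClosedFam E (DiagP F) :=
  ⟨fun h => h.le, fun hh h => DiagP.conj hE hh h, fun h hR => h.down hR⟩

theorem closedFam_diag_lt [Finite S] {E : FusionSystem (S.prod S)}
    (hE : IsProductSystem F F E) :
    ClosedFam E (fun D => DiagP F D ∧ Nat.card D < Nat.card S) := by
  refine ⟨fun h => h.1.le, fun hh h => ⟨DiagP.conj hE hh h.1, hh.card_eq ▸ h.2⟩,
    fun {P R} h hR => ⟨h.1.down hR, lt_of_le_of_lt ?_ h.2⟩⟩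
  haveI : Finite (S.prod S : Subgroup (Ω × Ω)) :=
    Finite.of_equiv _ (Subgroup.prodEquiv S S).symm.toEquiv
  haveI := finite_of_le h.1.le
  exact Subgroup.card_le_of_le hR

/-- The graph of an automorphism of `S` inside `S × S`. -/
def graphAut (α : MulAut S) : Subgroup (S.prod S) where
  carrier := {w | α ⟨(w : Ω × Ω).1, w.2.1⟩ = ⟨(w : Ω × Ω).2, w.2.2⟩}
  one_mem' := map_one α
  mul_mem' := fun {a b} ha hb => by
    have h := congrArg₂ (· * ·) (show _ = _ from ha) (show _ = _ from hb)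
    simp only [← map_mul] at h
    exact h
  inv_mem' := fun {a} ha => by
    have h := congrArg (·⁻¹) (show _ = _ from ha)
    simp only [← map_inv] at h
    exact h

theorem mem_graphAut {α : MulAut S} {w : S.prod S} :
    w ∈ graphAut α ↔ (w : Ω × Ω).2 = apl α (w : Ω × Ω).1 := by
  rw [apl_apply _ w.2.1]
  exact ⟨fun h => (congrArg Subtype.val h).symm, fun h => Subtype.ext h.symm⟩

/-- `(a, b) ↦ (a, α b)`. -/
def sndAut (α : MulAut S) : S.prod S ≃* S.prod S :=
  (Subgroup.prodEquiv S S).trans (((MulEquiv.refl S).prodCongr α).trans (Subgroup.prodEquiv S S).symm)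

theorem sndAut_apply (α : MulAut S) (w : S.prod S) :
    ((sndAut α w : S.prod S) : Ω × Ω) = ((w : Ω × Ω).1, apl α (w : Ω × Ω).2) :=
  Prod.ext rfl (apl_apply α w.2.2).symm

theorem map_sndAut_graph (α β : MulAut S) :
    (graphAut β).map (sndAut α).toMonoidHom = graphAut (α * β) := by
  ext w
  rw [Subgroup.mem_map_equiv, mem_graphAut, mem_graphAut]
  have h : ((sndAut α ((sndAut α).symm w) : S.prod S) : Ω × Ω) = w := by
    rw [MulEquiv.apply_symm_apply]
  rw [sndAut_apply] at h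
  have h1 := congrArg Prod.fst h
  have h2 := congrArg Prod.snd h
  simp only at h1 h2
  rw [apl_mul _ _ w.2.1, ← h2, ← h1]
  have hmem := ((sndAut α).symm w).2
  constructor
  · intro h3
    rw [h3]
  · intro h3
    have h4 := congrArg (apl α⁻¹) h3
    rwa [apl_inv_apl _ hmem.2, apl_inv_apl _ (apl_mem _ hmem.1)] at h4

theorem card_graphAut (α : MulAut S) : Nat.card (graphAut α) = Nat.card S :=
  Nat.card_congr
    { toFun := fun w => ⟨((w : S.prod S) : Ω × Ω).1, (w : S.prod S).2.1⟩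
      invFun := fun a => ⟨⟨((a : Ω), ((α a : S) : Ω)), a.2, (α a).2⟩, rfl⟩
      left_inv := fun w => Subtype.ext (Subtype.ext (Prod.ext rfl (congrArg Subtype.val w.2)))
      right_inv := fun _ => rfl }

theorem wIndex_graphAut [Finite S] (α : MulAut S) :
    wIndex (graphAut α) = wIndex (graphAut (1 : MulAut S)) := by
  haveI : Finite (S.prod S : Subgroup (Ω × Ω)) :=
    Finite.of_equiv _ (Subgroup.prodEquiv S S).symm.toEquiv
  refine Nat.eq_of_mul_eq_mul_left (Nat.card_pos (α := graphAut α)) ?_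
  rw [card_mul_wIndex]
  have h := Subgroup.map_equiv_normalizer_eq (graphAut (1 : MulAut S)) (sndAut α)
  rw [map_sndAut_graph, mul_one] at h
  rw [← h, Subgroup.card_map_of_injective (sndAut α).injective, ← card_mul_wIndex, card_graphAut,
    card_graphAut]

theorem diagP_graphAut {α : MulAut S} (hα : α ∈ F.autGroup S) :
    DiagP F ((graphAut α).map (S.prod S).subtype) := by
  refine ⟨S, apl α, (iso_apl le_rfl hα).1, fun x => ⟨?_, ?_⟩⟩
  · rintro ⟨w, hw, rfl⟩
    exact ⟨w.2.1, mem_graphAut.1 hw⟩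
  · rintro ⟨h1, h2⟩
    exact ⟨⟨x, h1, h2 ▸ apl_mem α h1⟩, mem_graphAut.2 h2, rfl⟩

section Saturated

variable [Fact p.Prime] [Finite S] (hS : IsPGroup p S) (hF : F.IsSaturated p)
include hS hF

/-- The marks of the graphs of a transversal of `Inn S` in `Aut_F(S)`. -/
theorem exists_top_list :
    ∃ L₀ : List (Subgroup (S.prod S)), (∀ D ∈ L₀, ∃ α ∈ F.autGroup S, D = graphAut α) ∧
      ¬ p ∣ L₀.length ∧
      ∀ β ∈ F.autGroup S, markL L₀ (graphAut β) = wIndex (graphAut (1 : MulAut S)) := by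
  classical
  haveI : Finite (MulAut S) := Finite.of_injective _ MulEquiv.toEquiv_injective
  haveI : Finite (S.prod S : Subgroup (Ω × Ω)) :=
    Finite.of_equiv _ (Subgroup.prodEquiv S S).symm.toEquiv
  haveI := Fintype.ofFinite (F.autGroup S ⧸ (autInducedBy S S).subgroupOf (F.autGroup S))
  refine ⟨(Finset.univ : Finset (F.autGroup S ⧸ (autInducedBy S S).subgroupOf (F.autGroup S))).toList.map
    fun q => graphAut ((q.out : F.autGroup S) : MulAut S), fun D hD => ?_, ?_, fun β hβ => ?_⟩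
  · obtain ⟨q, -, rfl⟩ := List.mem_map.1 hD
    exact ⟨_, (q.out : F.autGroup S).2, rfl⟩
  · rw [List.length_map, Finset.length_toList, Finset.card_univ, ← Nat.card_eq_fintype_card]
    obtain ⟨-, T, hT⟩ := top_fullyAutomized hS hF
    have h := T.not_dvd_index
    rw [hT] at h
    exact h
  rw [markL, List.map_map, ← List.sum_toFinset _ (Finset.nodup_toList _), Finset.toList_toFinset]
  obtain ⟨q₀, hq₀⟩ : ∃ q₀ : F.autGroup S ⧸ (autInducedBy S S).subgroupOf (F.autGroup S),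
      q₀ = QuotientGroup.mk ⟨β, hβ⟩ := ⟨_, rfl⟩
  rw [Finset.sum_eq_single q₀ (fun q _ hne => ?_) (fun h => absurd (Finset.mem_univ q₀) h)]
  · obtain ⟨γ, hγ⟩ := QuotientGroup.mk_out_eq_mul
      ((autInducedBy S S).subgroupOf (F.autGroup S)) (⟨β, hβ⟩ : F.autGroup S)
    rw [← hq₀] at hγ
    obtain ⟨s, hs, -, hsx⟩ := mem_autInducedBy_iff.1 (Subgroup.mem_subgroupOf.1 γ.2)
    have hαx : ∀ x ∈ S, apl ((q₀.out : F.autGroup S) : MulAut S) x =
        apl β s * apl β x * (apl β s)⁻¹ := by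
      intro x hx
      rw [hγ]
      show apl (β * ((γ : F.autGroup S) : MulAut S)) x = _
      rw [apl_mul _ _ hx, hsx x hx, (iso_apl le_rfl hβ).1.map_conj hs hx]
    have hgr : graphAut ((q₀.out : F.autGroup S) : MulAut S) = (graphAut β).map
        (MulAut.conj (⟨(1, apl β s), S.one_mem, apl_mem β hs⟩ : S.prod S)).toMonoidHom := by
      ext w
      rw [Subgroup.mem_map_equiv, MulAut.conj_symm_apply, mem_graphAut, mem_graphAut]
      show _ ↔ (apl β s)⁻¹ * (w : Ω × Ω).2 * apl β s = apl β (1⁻¹ * (w : Ω × Ω).1 * 1)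
      rw [hαx _ w.2.1, inv_one, one_mul, mul_one]
      constructor
      · intro h; rw [h]; group
      · intro h; rw [← h]; group
    show mark _ (graphAut β) = _
    rw [← mark_conj _ (⟨(1, apl β s), S.one_mem, apl_mem β hs⟩ : S.prod S) (graphAut β), ← hgr,
      mark_quot_self, ← wIndex, wIndex_graphAut]
  · by_contra hne'
    refine hne ?_
    obtain ⟨g, hg⟩ := mark_quot_ne_zero hne'
    rw [hq₀]
    conv_lhs => rw [← QuotientGroup.out_eq' q]
    refine QuotientGroup.eq.2 (Subgroup.mem_subgroupOf.2 (mem_autInducedBy_iff.2 ?_))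
    replace hg : ∀ k ∈ graphAut β, g⁻¹ * k * g ∈ graphAut ((q.out : F.autGroup S) : MulAut S) := hg
    generalize (q.out : F.autGroup S) = α at hg ⊢
    obtain ⟨ha, hb⟩ := g.2
    have hm := (iso_apl le_rfl α.2).1
    have hb' : apl (α : MulAut S)⁻¹ (g : Ω × Ω).2 ∈ S := apl_mem _ hb
    refine ⟨apl (α : MulAut S)⁻¹ (g : Ω × Ω).2 * (g : Ω × Ω).1⁻¹,
      S.mul_mem hb' (S.inv_mem ha), Subgroup.le_normalizer (S.mul_mem hb' (S.inv_mem ha)),
      fun x hx => ?_⟩
    show apl ((α : MulAut S)⁻¹ * β) x = _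
    have h1 := mem_graphAut.1 (hg ⟨(x, apl β x), hx, apl_mem β hx⟩ (mem_graphAut.2 rfl))
    change (g : Ω × Ω).2⁻¹ * apl β x * (g : Ω × Ω).2 =
      apl (α : MulAut S) ((g : Ω × Ω).1⁻¹ * x * (g : Ω × Ω).1) at h1
    have hy : (g : Ω × Ω).1⁻¹ * x * (g : Ω × Ω).1 ∈ S :=
      S.mul_mem (S.mul_mem (S.inv_mem ha) hx) ha
    have h2 : apl β x = apl (α : MulAut S) (apl (α : MulAut S)⁻¹ (g : Ω × Ω).2 *
        ((g : Ω × Ω).1⁻¹ * x * (g : Ω × Ω).1) * (apl (α : MulAut S)⁻¹ (g : Ω × Ω).2)⁻¹) := by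
      rw [hm.map_conj hb' hy, apl_apl_inv _ hb, ← h1]
      group
    rw [apl_mul _ _ hx, h2, apl_inv_apl _ (S.mul_mem (S.mul_mem hb' hy) (S.inv_mem hb'))]
    group

/-- Existence of a semicharacteristic biset: a list of graphs of maps of `F`, whose coset spaces
in `S × S` have marks constant on the classes of `F × F`, and of total size `|S| · d` with
`d` prime to `p`. -/
theorem exists_biset {E : FusionSystem (S.prod S)} (hE : IsProductSystem F F E) :
    ∃ L : List (Subgroup (S.prod S)), StableOff E (fun _ => False) L ∧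
      (∀ D ∈ L, DiagP F (D.map (S.prod S).subtype)) ∧
      ∃ d, ¬ p ∣ d ∧ markL L ⊥ = Nat.card S * d := by
  classical
  haveI : Finite (S.prod S : Subgroup (Ω × Ω)) :=
    Finite.of_equiv _ (Subgroup.prodEquiv S S).symm.toEquiv
  have hW : IsPGroup p (S.prod S : Subgroup (Ω × Ω)) :=
    IsPGroup.of_equiv (isPGroup_prod hS hS) (Subgroup.prodEquiv S S).symm
  obtain ⟨L₀, hL₀, hlen, hmk⟩ := exists_top_list hS hF
  have hdiag : ∀ D ∈ L₀, DiagP F (D.map (S.prod S).subtype) := fun D hD => by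
    obtain ⟨α, hα, rfl⟩ := hL₀ D hD
    exact diagP_graphAut hα
  have hcard : ∀ D ∈ L₀, Nat.card D = Nat.card S := fun D hD => by
    obtain ⟨α, hα, rfl⟩ := hL₀ D hD
    exact card_graphAut α
  have hconjD : ∀ (D : Subgroup (S.prod S)) g, DiagP F (D.map (S.prod S).subtype) →
      DiagP F ((D.map (MulAut.conj g).toMonoidHom).map (S.prod S).subtype) := by
    intro D g hD
    have := (closedFam_diag hE).of_conj (isConj_symm
      (map_conj_subgroupOf_isConj (isConj_refl (F := E) hD.le) g)) hD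
    rwa [subgroupOf_map_subtype_self'] at this
  -- value of the marks outside the proper graphs
  have hval : ∀ R ≤ S.prod S, ¬ (DiagP F R ∧ Nat.card R < Nat.card S) →
      markL L₀ (R.subgroupOf (S.prod S)) =
        if DiagP F R then wIndex (graphAut (1 : MulAut S)) else 0 := by
    intro R hR hC
    split_ifs with hd
    · obtain ⟨P, f, hf, hRf⟩ := hd
      have hRd : DiagP F R := ⟨P, f, hf, hRf⟩
      have hcardR : Nat.card R = Nat.card P := Nat.card_congr
        { toFun := fun x => ⟨(x : Ω × Ω).1, ((hRf _).1 x.2).1⟩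
          invFun := fun a => ⟨((a : Ω), f a), (hRf _).2 ⟨a.2, rfl⟩⟩
          left_inv := fun x => Subtype.ext (Prod.ext rfl ((hRf _).1 x.2).2.symm)
          right_inv := fun _ => rfl }
      have hPS : P = S := Subgroup.eq_of_le_of_card_ge hf.le
        (not_lt.1 fun h => hC ⟨hRd, hcardR ▸ h⟩)
      rw [hPS] at hf hRf
      have hiso : Iso F S S f := by
        refine ⟨hf, fun y => ⟨fun hy => ?_, ?_⟩⟩
        · obtain ⟨I, hI⟩ := hf.exists_iso
          have : I = S := Subgroup.eq_of_le_of_card_ge hI.right_le hI.card_eq.le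
          rw [this] at hI
          exact hI.exists_eq hy
        · rintro ⟨x, hx, rfl⟩
          exact hf.mem_S hx
      obtain ⟨β, hβ, hβf⟩ := hiso.exists_mem_autGroup
      rw [← hmk β hβ]
      congr 1
      ext w
      rw [Subgroup.mem_subgroupOf, hRf, mem_graphAut, hβf _ w.2.1]
      exact ⟨fun h => h.2, fun h => ⟨w.2.1, h⟩⟩
    · refine List.sum_eq_zero fun m hm => ?_
      obtain ⟨D, hD, rfl⟩ := List.mem_map.1 hm
      by_contra hne
      obtain ⟨g, hg⟩ := mark_quot_ne_zero hne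
      refine hd ((hconjD D g (hdiag D hD)).down fun x hx =>
        ⟨⟨x, hR hx⟩, ⟨g⁻¹ * ⟨x, hR hx⟩ * g, hg _ hx, by
          rw [MulEquiv.coe_toMonoidHom, MulAut.conj_apply]; group⟩, rfl⟩)
  have hst : StableOff E (fun D => DiagP F D ∧ Nat.card D < Nat.card S) L₀ := by
    intro R R' h hh hC
    have hC' : ¬ (DiagP F R' ∧ Nat.card R' < Nat.card S) := fun h' =>
      hC ((closedFam_diag_lt hE).of_conj hh.isConj h')
    rw [hval R hh.left_le hC, hval R' hh.right_le hC']
    have : DiagP F R ↔ DiagP F R' :=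
      ⟨DiagP.conj hE hh, (closedFam_diag hE).of_conj hh.isConj⟩
    simp only [this]
  obtain ⟨L, hL, -, hmem, A, hA, hAm⟩ :=
    exists_stable hW (product_saturated hS hS hF hF hE) (closedFam_diag_lt hE) L₀ hst
  refine ⟨L, hL, fun D hD => ?_, ?_⟩
  · rcases hmem D hD with h | h
    · exact hdiag D h
    · exact h.1
  have hidx : ∀ D : Subgroup (S.prod S),
      mark ((S.prod S : Subgroup (Ω × Ω)) ⧸ D) (⊥ : Subgroup (S.prod S)) * Nat.card D =
      Nat.card S * Nat.card S := fun D => by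
    rw [mark_bot, ← Subgroup.index, mul_comm, Subgroup.card_mul_index,
      Nat.card_congr (Subgroup.prodEquiv S S).toEquiv, Nat.card_prod]
  obtain ⟨k, hk⟩ : Nat.card S * p ∣ markL A ⊥ := by
    refine List.dvd_sum fun m hm => ?_
    obtain ⟨D, hD, rfl⟩ := List.mem_map.1 hm
    obtain ⟨b, hb⟩ := (IsPGroup.iff_card.1 (hW.to_subgroup D))
    obtain ⟨a, ha⟩ := (IsPGroup.iff_card.1 hS)
    have hlt := (hA D hD).2
    rw [Subgroup.card_map_of_injective (S.prod S).subtype_injective, hb, ha] at hlt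
    have hab : b < a := (Nat.pow_lt_pow_iff_right (Fact.out : p.Prime).one_lt).1 hlt
    refine ⟨p ^ (a - b - 1), Nat.eq_of_mul_eq_mul_right (Nat.pow_pos (Fact.out : p.Prime).pos (n := b)) ?_⟩
    have h := hidx D
    rw [hb, ha] at h
    rw [h, ha, ← pow_add, show a + a = a + 1 + (a - b - 1 + b) by omega]
    ring
  refine ⟨L₀.length + p * k, fun h => hlen ((Nat.dvd_add_left (dvd_mul_right p k)).1 h), ?_⟩
  rw [hAm, hk, mul_add, ← mul_assoc]
  congr 1
  rw [markL, List.sum_eq_card_nsmul (m := Nat.card S), smul_eq_mul, List.length_map, mul_comm]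
  intro m hm
  obtain ⟨D, hD, rfl⟩ := List.mem_map.1 hm
  refine Nat.eq_of_mul_eq_mul_right (Nat.card_pos (α := S)) ?_
  have h := hidx D
  rwa [hcard D hD] at h

end Saturated

/-- A scaled biset for an arbitrary system, with all the graphs present. -/
theorem exists_biset_scaled [Finite S] {E : FusionSystem (S.prod S)}
    (hE : IsProductSystem F F E) :
    ∃ L : List (Subgroup (S.prod S)), StableOff E (fun _ => False) L ∧
      (∀ D ∈ L, DiagP F (D.map (S.prod S).subtype)) ∧ markL L (graphAut (1 : MulAut S)) ≠ 0 ∧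
      ∃ d, 0 < d ∧ markL L ⊥ = Nat.card S * d := by
  haveI : Finite (S.prod S : Subgroup (Ω × Ω)) :=
    Finite.of_equiv _ (Subgroup.prodEquiv S S).symm.toEquiv
  have hst : StableOff E (DiagP F) [graphAut (1 : MulAut S)] := by
    intro R R' h hh hC
    have hz : ∀ R ≤ S.prod S, ¬ DiagP F R →
        markL [graphAut (1 : MulAut S)] (R.subgroupOf (S.prod S)) = 0 := by
      intro R hR hd
      refine List.sum_eq_zero fun m hm => ?_
      obtain ⟨D, hD, rfl⟩ := List.mem_map.1 hm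
      rw [List.mem_singleton.1 hD]
      by_contra hne
      obtain ⟨g, hg⟩ := mark_quot_ne_zero hne
      have hD1 : DiagP F ((graphAut (1 : MulAut S)).map (S.prod S).subtype) :=
        diagP_graphAut (F.autGroup S).one_mem
      have := (closedFam_diag hE).of_conj (isConj_symm
        (map_conj_subgroupOf_isConj (isConj_refl (F := E) hD1.le) g)) hD1
      rw [subgroupOf_map_subtype_self'] at this
      exact hd (this.down fun x hx => ⟨⟨x, hR hx⟩, ⟨g⁻¹ * ⟨x, hR hx⟩ * g, hg _ hx, by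
          rw [MulEquiv.coe_toMonoidHom, MulAut.conj_apply]; group⟩, rfl⟩)
    rw [hz R hh.left_le hC,
      hz R' hh.right_le fun h' => hC ((closedFam_diag hE).of_conj hh.isConj h')]
  obtain ⟨e, L, he, hL, -, hmem, A, hA, hAm⟩ :=
    exists_stable_scaled E (closedFam_diag hE) _ hst
  refine ⟨L, hL, fun D hD => ?_, ?_, ?_⟩
  · rcases hmem D hD with h | h
    · rw [List.mem_singleton.1 h]; exact diagP_graphAut (F.autGroup S).one_mem
    · exact h
  · have hne : mark ((S.prod S : Subgroup (Ω × Ω)) ⧸ graphAut (1 : MulAut S))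
        (graphAut (1 : MulAut S)) ≠ 0 :=
      Nat.card_ne_zero.2 ⟨⟨⟨((1 : S.prod S) : (S.prod S : Subgroup (Ω × Ω)) ⧸ graphAut (1 : MulAut S)),
        fun k hk => by
          rw [MulAction.Quotient.smul_mk, QuotientGroup.eq, smul_eq_mul, mul_one, mul_one]
          exact Subgroup.inv_mem _ hk⟩⟩, inferInstance⟩
    rw [hAm]
    simp only [markL, List.map_cons, List.map_nil, List.sum_cons, List.sum_nil, add_zero]
    intro h0
    exact hne ((Nat.eq_zero_of_add_eq_zero h0).1 |> fun h1 =>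
      (Nat.mul_eq_zero.1 h1).resolve_left he.ne')
  have hdvd : ∀ D : Subgroup (S.prod S), DiagP F (D.map (S.prod S).subtype) →
      Nat.card S ∣ mark ((S.prod S : Subgroup (Ω × Ω)) ⧸ D) (⊥ : Subgroup (S.prod S)) := by
    intro D hD
    obtain ⟨P, f, hf, hDf⟩ := hD
    have hcardD : Nat.card D = Nat.card P := by
      rw [← Subgroup.card_map_of_injective (S.prod S).subtype_injective]
      exact Nat.card_congr
        { toFun := fun x => ⟨(x : Ω × Ω).1, ((hDf _).1 x.2).1⟩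
          invFun := fun a => ⟨((a : Ω), f a), (hDf _).2 ⟨a.2, rfl⟩⟩
          left_inv := fun x => Subtype.ext (Prod.ext rfl ((hDf _).1 x.2).2.symm)
          right_inv := fun _ => rfl }
    obtain ⟨c, hc⟩ := Subgroup.card_dvd_of_le hf.le
    refine ⟨c, Nat.eq_of_mul_eq_mul_right (Nat.card_pos (α := D)) ?_⟩
    rw [mark_bot, ← Subgroup.index, mul_comm, Subgroup.card_mul_index,
      Nat.card_congr (Subgroup.prodEquiv S S).toEquiv, Nat.card_prod, hcardD]
    rw [hc]
    ring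
  obtain ⟨k, hk⟩ : Nat.card S ∣ markL A ⊥ := List.dvd_sum fun m hm => by
    obtain ⟨D, hD, rfl⟩ := List.mem_map.1 hm
    exact hdvd D (hA D hD)
  obtain ⟨k₀, hk₀⟩ := hdvd _ (diagP_graphAut (α := (1 : MulAut S)) (F.autGroup S).one_mem)
  have hk₀pos : 0 < k₀ := by
    refine Nat.pos_of_ne_zero fun h => ?_
    rw [h, mul_zero, mark_bot] at hk₀
    exact Nat.card_pos.ne' hk₀
  refine ⟨e * k₀ + k, Nat.add_pos_left (Nat.mul_pos he hk₀pos) _, ?_⟩
  rw [hAm, hk]
  simp only [markL, List.map_cons, List.map_nil, List.sum_cons, List.sum_nil, add_zero]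
  rw [hk₀]
  ring

end Cfsg.Agent.FusSys
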