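import Cfsg.Agent.FusSys.Saturation

/-!
The Camina–Herzog criterion for saturated fusion systems on finite 2-groups: if every element is
conjugate to a central one, the 2-group is abelian. The proof is elementary: at a noncentral
element with largest centralizer one gets a subgroup `Q` whose automorphism group moves it into
the centre, and a filtration of the centre of `Q` by roots shows that this cannot happen.
-/

set_option autoImplicit false
set_option linter.style.haveILetI false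

namespace Cfsg.Agent.FusSys.CamHerz

open Cfsg Cfsg.FusionSystem

variable {Ω : Type*} [Group Ω] {S : Subgroup Ω} {F : FusionSystem S}

/-- `x` lies in the centre of `P` (as an element of the ambient group). -/
def InCenter (P : Subgroup Ω) (x : Ω) : Prop := x ∈ P ∧ ∀ s ∈ P, s * x = x * s

/-- The centralizer of `x` in `S`. -/
def centIn (S : Subgroup Ω) (x : Ω) : Subgroup Ω := S ⊓ Subgroup.centralizer {x}

theorem mem_centIn {x s : Ω} : s ∈ centIn S x ↔ s ∈ S ∧ s * x = x * s := by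
  simp only [centIn, Subgroup.mem_inf, Subgroup.mem_centralizer_singleton_iff]

theorem InCenter.inv {P : Subgroup Ω} {x : Ω} (h : InCenter P x) : InCenter P x⁻¹ :=
  ⟨P.inv_mem h.1, fun s hs => (show Commute s x from h.2 s hs).inv_right⟩

theorem InCenter.pow {P : Subgroup Ω} {x : Ω} (h : InCenter P x) (n : ℕ) : InCenter P (x ^ n) :=
  ⟨P.pow_mem h.1 n, fun s hs => (show Commute s x from h.2 s hs).pow_right n⟩

theorem Iso.inCenter {P Q : Subgroup Ω} {f : Ω → Ω} (hf : Iso F P Q f) {x : Ω}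
    (hx : InCenter P x) : InCenter Q (f x) := by
  refine ⟨hf.mem hx.1, fun s hs => ?_⟩
  obtain ⟨r, hr, rfl⟩ := hf.exists_eq hs
  rw [← hf.1.map_mul hr hx.1, ← hf.1.map_mul hx.1 hr, hx.2 r hr]

theorem inCenter_apl {P : Subgroup Ω} (hP : P ≤ S) {β : MulAut P} (hβ : β ∈ F.autGroup P) {x : Ω}
    (hx : InCenter P x) : InCenter P (apl β x) :=
  Iso.inCenter (iso_apl hP hβ) hx

variable [Finite S]

theorem card_lt_normalizerIn (hS : IsPGroup 2 S) {Q : Subgroup Ω} (hQ : Q ≤ S) (hne : Q ≠ S) :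
    ∃ g ∈ normalizerIn S Q, g ∉ Q := by
  haveI := hS.isNilpotent
  have hlt : Q.subgroupOf S < ⊤ := lt_of_le_of_ne le_top fun h =>
    hne (le_antisymm hQ (Subgroup.subgroupOf_eq_top.1 h))
  obtain ⟨⟨g, hgS⟩, hg, hgQ⟩ := SetLike.exists_of_lt
    (Group.normalizerCondition_of_isNilpotent _ hlt)
  refine ⟨g, ⟨hgS, Subgroup.mem_normalizer_iff.2 fun x => ⟨fun hx => ?_, fun hx => ?_⟩⟩, hgQ⟩
  · exact (Subgroup.mem_normalizer_iff.1 hg ⟨x, hQ hx⟩).1 hx
  · have hxS : x ∈ S := by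
      have h1 := S.mul_mem (S.mul_mem (S.inv_mem hgS) (hQ hx)) hgS
      simpa [mul_assoc] using h1
    exact (Subgroup.mem_normalizer_iff.1 hg ⟨x, hxS⟩).2 hx

theorem card_lt_of_normalizerIn (hS : IsPGroup 2 S) {Q : Subgroup Ω} (hQ : Q ≤ S) (hne : Q ≠ S) :
    Nat.card Q < Nat.card ↥(normalizerIn S Q) := by
  obtain ⟨g, hg, hgQ⟩ := card_lt_normalizerIn hS hQ hne
  haveI := finite_of_le (normalizerIn_le S Q)
  refine lt_of_le_of_ne (Nat.le_of_dvd Nat.card_pos
    (Subgroup.card_dvd_of_le (le_normalizerIn hQ))) fun h => hgQ ?_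
  rw [eq_of_le_of_card (normalizerIn_le S Q) (le_normalizerIn hQ) h.ge]
  exact hg

section Sat

variable (hS : IsPGroup 2 S) (hF : F.IsSaturated 2)
include hS hF

/-- A map carrying `x` to a central element extends to the centralizer of `x`. -/
theorem extend_centIn {x : Ω} {f : Ω → Ω} (hf : Mor F (Subgroup.zpowers x) f)
    (hz : InCenter S (f x)) : ∃ g, Mor F (centIn S x) g ∧ g x = f x := by
  haveI : Fact (Nat.Prime 2) := ⟨Nat.prime_two⟩
  obtain ⟨Q, hQ⟩ := hf.exists_iso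
  have hcQ : centralizerIn S Q = S := by
    refine le_antisymm (centralizerIn_le S Q) fun s hs => ⟨hs, ?_⟩
    refine Subgroup.mem_centralizer_iff.2 ?_
    intro q hq
    obtain ⟨r, ⟨n, rfl⟩, rfl⟩ := hQ.exists_eq hq
    have hmap : f (x ^ n) = f x ^ n := by
      have hx := Subgroup.mem_zpowers x
      rcases Int.eq_nat_or_neg n with ⟨m, rfl | rfl⟩
      · rw [zpow_natCast, zpow_natCast, hf.map_pow hx]
      · rw [zpow_neg, zpow_neg, zpow_natCast, zpow_natCast, hf.map_inv (pow_mem hx m),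
          hf.map_pow hx]
    show f (x ^ n) * s = s * f (x ^ n)
    rw [hmap]
    exact ((show Commute s (f x) from hz.2 s hs).zpow_right n).symm.eq
  have hfc : F.IsFullyCentralized Q := ⟨hQ.right_le, fun R _ => by
    rw [hcQ]
    exact Nat.le_of_dvd Nat.card_pos (Subgroup.card_dvd_of_le (centralizerIn_le S R))⟩
  obtain ⟨g, hg, hgf⟩ :=
    (isReceptive_iff.1 (receptive_of_fullyCentralized hS hF hfc)).2 _ f hQ
  refine ⟨g, hg.mono fun s hs => centralizerIn_le_nPhi ?_, hgf x (Subgroup.mem_zpowers x)⟩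
  obtain ⟨hsS, hsx⟩ := mem_centIn.1 hs
  refine ⟨hsS, ?_⟩
  refine Subgroup.mem_centralizer_iff.2 ?_
  rintro _ ⟨n, rfl⟩
  exact ((show Commute s x from hsx).zpow_right n).symm.eq

/-- Two fused central elements are fused by an automorphism of `S`. -/
theorem central_fused {x : Ω} {f : Ω → Ω} (hf : Mor F (Subgroup.zpowers x) f)
    (hx : InCenter S x) (hz : InCenter S (f x)) :
    ∃ g, Iso F S S g ∧ g x = f x := by
  obtain ⟨g, hg, hgx⟩ := extend_centIn hS hF hf hz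
  have hcS : centIn S x = S := le_antisymm inf_le_left fun s hs => mem_centIn.2 ⟨hs, hx.2 s hs⟩
  rw [hcS] at hg
  exact ⟨g, ⟨hg, fun y => ⟨fun hy => hg.surj_of_card le_rfl (fun a ha => hg.mem_S ha) le_rfl hy,
    fun ⟨a, ha, hay⟩ => hay ▸ hg.mem_S ha⟩⟩, hgx⟩

variable (h : ∀ x ∈ S, ∃ f, Mor F (Subgroup.zpowers x) f ∧ InCenter S (f x))
include h

/-- A central element that is a `2^k`th power in `S` is one in the centre. -/
theorem central_root {x : Ω} (hx : x ∈ S) (k : ℕ) (hu : InCenter S (x ^ 2 ^ k)) :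
    ∃ y, InCenter S y ∧ y ^ 2 ^ k = x ^ 2 ^ k := by
  obtain ⟨f, hf, hz⟩ := h x hx
  have hm := hf.mono (Subgroup.zpowers_le.2 (pow_mem (Subgroup.mem_zpowers x) (2 ^ k)))
  have hfz : InCenter S (f (x ^ 2 ^ k)) := by
    rw [hf.map_pow (Subgroup.mem_zpowers x)]
    exact hz.pow _
  obtain ⟨g, hg, hgx⟩ := central_fused hS hF hm hu hfz
  obtain ⟨g', hg', hg'g, -⟩ := hg.symm
  refine ⟨g' (f x), Iso.inCenter hg' hz, ?_⟩
  rw [← hg'.1.map_pow hz.1, ← hf.map_pow (Subgroup.mem_zpowers x), ← hgx, hg'g _ hu.1]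

end Sat

/-- The data at a noncentral element of type `W` with largest centralizer. -/
theorem exists_moving (hS : IsPGroup 2 S) (hF : F.IsSaturated 2)
    (h : ∀ x ∈ S, ∃ f, Mor F (Subgroup.zpowers x) f ∧ InCenter S (f x)) (W : Ω → Prop)
    (hW : ∀ x f, Mor F (Subgroup.zpowers x) f → W x → W (f x))
    (hne : ∃ x ∈ S, W x ∧ ¬ InCenter S x) :
    ∃ Q : Subgroup Ω, Q ≤ S ∧ F.IsFullyAutomized 2 Q ∧ (∀ y, InCenter S y → InCenter Q y) ∧
      (∃ α ∈ F.autGroup Q, ∃ t, W t ∧ InCenter Q t ∧ ¬ InCenter S t ∧ InCenter S (apl α t) ∧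
        W (apl α t)) ∧
      (∀ v, InCenter Q v → W v → ¬ InCenter S v →
        ∀ g ∈ normalizerIn S Q, g * v = v * g → g ∈ Q) ∧
      ∃ g ∈ normalizerIn S Q, g ∉ Q ∧ g * g ∈ Q := by
  classical
  haveI : Fact (Nat.Prime 2) := ⟨Nat.prime_two⟩
  obtain ⟨u, ⟨huS, huW, huZ⟩, hmax⟩ := Set.exists_max_image
    {x | x ∈ S ∧ W x ∧ ¬ InCenter S x} (fun x => Nat.card ↥(centIn S x))
    ((Set.toFinite (S : Set Ω)).subset fun x hx => hx.1) hne
  obtain ⟨f0, hf0, hz0⟩ := h u huS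
  obtain ⟨f, hf, hfu⟩ := extend_centIn hS hF hf0 hz0
  have hz : InCenter S (f u) := hfu ▸ hz0
  have huR : u ∈ centIn S u := mem_centIn.2 ⟨huS, rfl⟩
  obtain ⟨R', hR'⟩ := hf.exists_iso
  obtain ⟨Q, g, hQn, hg, hgi, -⟩ := exists_fullyNormalized_mor hS hF hR'.right_le
  have hRQ : F.IsConj (centIn S u) Q := isConj_trans hR'.isConj hgi.isConj
  obtain ⟨σ, hσ, hσi, -⟩ := exists_mor_to_fullyNormalized hS hF hQn hRQ
  have hRne : centIn S u ≠ S := fun e =>
    huZ ⟨huS, fun s hs => (mem_centIn.1 (show s ∈ centIn S u from e.symm ▸ hs)).2⟩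
  have hcard : Nat.card Q = Nat.card ↥(centIn S u) := (isConj_card_eq hRQ).symm
  -- the image of the moved element is central
  have hWz : W (f u) := hW u f (hf.mono (Subgroup.zpowers_le.2 huR)) huW
  have hWz1 : W (g (f u)) :=
    hW _ g (hgi.1.mono (Subgroup.zpowers_le.2 (hR'.mem huR))) hWz
  have hz1 : InCenter S (g (f u)) := by
    by_contra hcon
    have h1 := hmax _ ⟨hg.mem_S (le_normalizerIn hR'.right_le (hR'.mem huR)), hWz1, hcon⟩
    have h2 : Nat.card ↥(normalizerIn S R') ≤ Nat.card ↥(centIn S (g (f u))) := by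
      refine hg.card_image_le inf_le_left fun r hr => mem_centIn.2 ⟨hg.mem_S hr, ?_⟩
      have hfm := le_normalizerIn hR'.right_le (hR'.mem huR)
      rw [← hg.map_mul hr hfm, ← hg.map_mul hfm hr, hz.2 r hr.1]
    have hR'ne : R' ≠ S := fun e => hRne (eq_of_le_of_card le_rfl inf_le_left
      (by rw [hR'.card_eq, e]))
    have h3 := card_lt_of_normalizerIn hS hR'.right_le hR'ne
    rw [← hR'.card_eq] at h3
    exact absurd (h3.trans_le h2) (not_lt.2 h1)
  have hRS : centIn S u ≤ normalizerIn S (centIn S u) := le_normalizerIn inf_le_left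
  -- the element itself stays noncentral
  have htZ : ¬ InCenter S (σ u) := fun hc => by
    refine absurd (card_lt_of_normalizerIn hS (Q := centIn S u) inf_le_left hRne) (not_lt.2 ?_)
    haveI : Finite ↥(centIn S u) := finite_of_le (S := S) inf_le_left
    refine Nat.le_of_dvd Nat.card_pos (Subgroup.card_dvd_of_le fun n hn => mem_centIn.2 ⟨hn.1, ?_⟩)
    have hu' := hRS huR
    refine hσ.injOn (Subgroup.mul_mem _ hn hu') (Subgroup.mul_mem _ hu' hn) ?_
    rw [hσ.map_mul hn hu', hσ.map_mul hu' hn]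
    exact hc.2 _ (hσ.mem_S hn)
  have hWt : W (σ u) := hW u σ (hσi.1.mono (Subgroup.zpowers_le.2 huR)) huW
  have huC : InCenter (centIn S u) u :=
    ⟨huR, fun s hs => (mem_centIn.1 hs).2⟩
  have htC : InCenter Q (σ u) := Iso.inCenter hσi huC
  have hQS : Q ≤ S := hQn.1
  have hQeq : centIn S (σ u) = Q := by
    refine (eq_of_le_of_card inf_le_left (fun q hq => mem_centIn.2 ⟨hQS hq, htC.2 q hq⟩) ?_).symm
    rw [hcard]
    exact hmax _ ⟨hQS htC.1, hWt, htZ⟩
  obtain ⟨σ', hσ', hσ'σ, -⟩ := hσi.symm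
  obtain ⟨α, hα, hαx⟩ := (hσ'.comp (hR'.comp hgi)).exists_mem_autGroup
  have hαt : apl α (σ u) = g (f u) := by
    rw [hαx _ htC.1]
    show g (f (σ' (σ u))) = g (f u)
    rw [hσ'σ u huR]
  have hQne : Q ≠ S := fun e => hRne (eq_of_le_of_card le_rfl inf_le_left
    (by rw [← hcard, e]))
  refine ⟨Q, hQS, fullyAutomized_of_fullyNormalized hS hF hQn,
    fun y hy => ⟨hQeq ▸ mem_centIn.2 ⟨hy.1, (hy.2 _ (hQS htC.1)).symm⟩,
      fun s hs => hy.2 s (hQS hs)⟩,
    ⟨α, hα, σ u, hWt, htC, htZ, hαt ▸ hz1, hαt ▸ hWz1⟩, fun v hv hWv hvZ n hn hnv => ?_, ?_⟩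
  · have hle : Q ≤ centIn S v := fun q hq => mem_centIn.2 ⟨hQS hq, hv.2 q hq⟩
    have heq : Q = centIn S v := eq_of_le_of_card inf_le_left hle
      (by rw [hcard]; exact hmax _ ⟨hQS hv.1, hWv, hvZ⟩)
    rw [heq]
    exact mem_centIn.2 ⟨hn.1, hnv⟩
  · obtain ⟨n, hn, hnQ⟩ := card_lt_normalizerIn hS hQS hQne
    obtain ⟨e, he⟩ := hS ⟨n, hn.1⟩
    have he' : n ^ 2 ^ e = 1 := congrArg Subtype.val he
    clear he
    induction e generalizing n with
    | zero => rw [pow_zero, pow_one] at he'; exact absurd (he' ▸ Q.one_mem) hnQ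
    | succ e ih =>
      by_cases h2 : n * n ∈ Q
      · exact ⟨n, hn, hnQ, h2⟩
      · refine ih (n * n) (Subgroup.mul_mem _ hn hn) h2 ?_
        rw [← he', pow_succ', pow_mul, pow_two]

/-- A normal subgroup with 2-group image acts like elements of a Sylow 2-subgroup. -/
theorem exists_sylow_same {A M : Type*} [Group A] [Finite A] [Group M] (π : A →* M)
    (P : Subgroup A) [P.Normal] (hP : ∀ β ∈ P, ∃ m : ℕ, π β ^ 2 ^ m = 1) (T : Sylow 2 A)
    {β : A} (hβ : β ∈ P) : ∃ τ ∈ (T : Subgroup A), π τ = π β := by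
  haveI : Fact (Nat.Prime 2) := ⟨Nat.prime_two⟩
  haveI : Finite π.range := Finite.of_surjective _ π.rangeRestrict_surjective
  let π' := π.rangeRestrict
  have hsurj : Function.Surjective π' := π.rangeRestrict_surjective
  haveI hN : (P.map π').Normal := Subgroup.Normal.map inferInstance π' hsurj
  have hpg : IsPGroup 2 ↥(P.map π') := by
    rintro ⟨_, γ, hγ, rfl⟩
    obtain ⟨m, hm⟩ := hP γ hγ
    exact ⟨m, Subtype.ext (Subtype.ext hm)⟩
  obtain ⟨g, hg⟩ := exists_conj_mem_sylow hpg (T.mapSurjective hsurj)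
  have h1 := hg (g⁻¹ * π' β * g⁻¹⁻¹) (hN.conj_mem _ (Subgroup.mem_map_of_mem π' hβ) g⁻¹)
  rw [show g * (g⁻¹ * π' β * g⁻¹⁻¹) * g⁻¹ = π' β by group, Sylow.coe_mapSurjective] at h1
  obtain ⟨τ, hτ, hτe⟩ := h1
  exact ⟨τ, hτ, congrArg Subtype.val hτe⟩

variable {Q : Subgroup Ω}

/-- Restriction of `Aut_F(Q)` to an invariant set. -/
def actSet (A : Subgroup (MulAut Q)) (L : Q → Prop)
    (hL : ∀ β ∈ A, ∀ v, L v → L ((β : MulAut Q) v)) : A →* Equiv.Perm {v : Q // L v} where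
  toFun β :=
    { toFun := fun v => ⟨(β : MulAut Q) v.1, hL _ β.2 _ v.2⟩
      invFun := fun v => ⟨(β : MulAut Q)⁻¹ v.1, hL _ (A.inv_mem β.2) _ v.2⟩
      left_inv := fun v => Subtype.ext ((β : MulAut Q).symm_apply_apply v.1)
      right_inv := fun v => Subtype.ext ((β : MulAut Q).apply_symm_apply v.1) }
  map_one' := rfl
  map_mul' _ _ := rfl

theorem actSet_apply (A : Subgroup (MulAut Q)) (L : Q → Prop)
    (hL : ∀ β ∈ A, ∀ v, L v → L ((β : MulAut Q) v)) (β : A) (v : {v : Q // L v}) :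
    ((actSet A L hL β v : {v : Q // L v}) : Q) = (β : MulAut Q) v.1 := rfl

omit [Finite S] in
/-- The fixed points of a Sylow 2-subgroup are kept by every automorphism, provided some normal
subgroup with 2-group image detects them. -/
theorem invariant_of_normal [Finite Q] (hA : F.IsFullyAutomized 2 Q)
    (L : Q → Prop) (hL : ∀ β ∈ F.autGroup Q, ∀ v, L v → L ((β : MulAut Q) v))
    (hfree : ∀ v : Q, L v → ¬ InCenter S v → ∀ g ∈ normalizerIn S Q, g * v = v * g → g ∈ Q)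
    (P : Subgroup ↥(F.autGroup Q)) [P.Normal]
    (hP : ∀ β ∈ P, ∃ m : ℕ, actSet (F.autGroup Q) L hL β ^ 2 ^ m = 1)
    {g : Ω} (hg : g ∈ normalizerIn S Q) (hgQ : g ∉ Q) {τ : ↥(F.autGroup Q)} (hτ : τ ∈ P)
    (hτg : ∀ x ∈ Q, apl (τ : MulAut Q) x = g * x * g⁻¹)
    {γ : ↥(F.autGroup Q)} {z : Q} (hz : L z) (hzS : InCenter S z) :
    InCenter S ((γ : MulAut Q) z : Q) := by
  by_contra hcon
  refine hgQ (hfree _ (hL _ γ.2 _ hz) hcon g hg ?_)
  obtain ⟨-, T, hT⟩ := hA
  haveI : Finite (MulAut Q) := Finite.of_injective _ MulEquiv.toEquiv_injective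
  obtain ⟨ρ, hρ, hρe⟩ := exists_sylow_same (actSet (F.autGroup Q) L hL) P hP T
    (Subgroup.Normal.conj_mem inferInstance τ hτ γ⁻¹)
  rw [autInducedBy_subgroupOf_eq T hT, mem_autInducedBy_iff] at hρ
  obtain ⟨s, hs, -, hsx⟩ := hρ
  have h1 := congrArg (fun e => ((e ⟨z, hz⟩ : {v : Q // L v}) : Q)) hρe
  simp only [actSet_apply] at h1
  have h2 : ((ρ : MulAut Q) z : Q) = z := Subtype.ext <| by
    rw [← apl_coe, hsx _ z.2, hzS.2 s hs, mul_inv_cancel_right]
  rw [h2, inv_inv] at h1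
  have h3 : (γ : MulAut Q) z = (τ : MulAut Q) ((γ : MulAut Q) z) := by
    conv_lhs => rw [h1]
    simp [MulAut.mul_apply]
  have h4 := congrArg Subtype.val h3
  rw [← apl_coe (τ : MulAut Q), hτg _ ((γ : MulAut Q) z).2] at h4
  conv_rhs => rw [h4]
  group

omit [Finite S] in
theorem apl_coe' (β : MulAut Q) (v : Q) : ((β v : Q) : Ω) = apl β v := (apl_coe β v).symm

theorem coe_mem_iff {v : Q} : InCenter Q v ↔ ∀ s : Q, s * v = v * s :=
  ⟨fun h s => Subtype.ext (h.2 s s.2), fun h => ⟨v.2, fun s hs =>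
    congrArg Subtype.val (h ⟨s, hs⟩)⟩⟩

/-- A power of 2 kills an element of a finite group up to an element of odd order. -/
theorem exists_two_part {A : Type*} [Group A] [Finite A] (β : A) :
    ∃ m n : ℕ, Odd n ∧ (β ^ 2 ^ m) ^ n = 1 := by
  obtain ⟨m, n, hn, hmn⟩ := Nat.exists_eq_pow_mul_and_not_dvd (orderOf_pos β).ne' 2 (by norm_num)
  exact ⟨m, n, by rwa [Nat.odd_iff, ← Nat.two_dvd_ne_zero], by
    rw [← pow_mul, ← hmn, pow_orderOf_eq_one]⟩

/-- An odd-order automorphism fixing the involutions of an abelian 2-group fixes it. -/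
theorem fix_of_fix_involutions {G : Type*} [Group G] (β : MulAut G) {n : ℕ} (hn : Odd n)
    (hβn : β ^ n = 1) (C : Set G) (hC : ∀ v ∈ C, β v ∈ C)
    (hmul : ∀ v ∈ C, ∀ w ∈ C, v⁻¹ * w ∈ C) (hcomm : ∀ v ∈ C, ∀ w ∈ C, v * w = w * v)
    (hinv : ∀ v ∈ C, v * v = 1 → β v = v) :
    ∀ (j : ℕ) (v : G), v ∈ C → v ^ 2 ^ j = 1 → β v = v := by
  intro j
  induction j with
  | zero => intro v _ hv; rw [pow_zero, pow_one] at hv; rw [hv, map_one]
  | succ j ih =>
    intro v hv hvj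
    have hsq : β (v * v) = v * v := by
      refine ih _ ?_ ?_
      · have h1 := hmul _ (hmul _ hv _ hv) _ hv
        have h2 : v⁻¹ ∈ C := by
          have := hmul _ hv _ (hmul _ hv _ hv)
          simpa using this
        simpa using hmul _ h2 _ hv
      · rw [← pow_two, ← pow_mul, ← pow_succ', hvj]
    set l := v⁻¹ * β v with hl
    have hlC : l ∈ C := hmul _ hv _ (hC _ hv)
    have hc : Commute v⁻¹ (β v) := (show Commute v (β v) from hcomm _ hv _ (hC _ hv)).inv_left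
    have hl2 : l * l = 1 := by
      rw [hl, ← pow_two, hc.mul_pow, ← map_pow, inv_pow, pow_two v, hsq, inv_mul_cancel]
    have hlfix : β l = l := hinv _ hlC hl2
    have hvl : β v = v * l := by rw [hl, mul_inv_cancel_left]
    have hpow : ∀ i : ℕ, (β ^ i) v = v * l ^ i := by
      intro i
      induction i with
      | zero => simp
      | succ i hi =>
        rw [pow_succ', MulAut.mul_apply, hi, map_mul, map_pow, hlfix, hvl, mul_assoc, pow_succ']
    have hln : l ^ n = 1 := by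
      have := hpow n
      rw [hβn, MulAut.one_apply, left_eq_mul] at this
      exact this
    obtain ⟨i, rfl⟩ := hn
    rw [pow_add, pow_mul, pow_two, hl2, one_pow, one_mul, pow_one] at hln
    rw [hvl, hln, mul_one]

variable (hS : IsPGroup 2 S) (hF : F.IsSaturated 2)
  (h : ∀ x ∈ S, ∃ f, Mor F (Subgroup.zpowers x) f ∧ InCenter S (f x))
include hS hF h

/-- An involution-like element of `S` conjugate to a `2^k`th power of a central element. -/
theorem involution_central : ∀ x ∈ S, x * x = 1 → InCenter S x := by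
  classical
  haveI : Fact (Nat.Prime 2) := ⟨Nat.prime_two⟩
  let W : ℕ → Ω → Prop := fun k x => x * x = 1 ∧
    ∃ f y, Mor F (Subgroup.zpowers x) f ∧ InCenter S y ∧ f x = y ^ 2 ^ k
  let X : ℕ → Prop := fun k => ∃ x ∈ S, W k x ∧ ¬ InCenter S x
  by_contra hcon
  push Not at hcon
  obtain ⟨x0, hx0, hx02, hx0Z⟩ := hcon
  obtain ⟨f0, hf0, hz0⟩ := h x0 hx0
  have hX0 : X 0 := ⟨x0, hx0, ⟨hx02, f0, f0 x0, hf0, hz0, by simp⟩, hx0Z⟩
  obtain ⟨N, hN⟩ := IsPGroup.iff_card.1 hS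
  have hbound : ∀ k, X k → k < N := by
    rintro k ⟨x, hx, ⟨-, f, y, hf, hy, hfx⟩, hxZ⟩
    by_contra hk
    apply hxZ
    have h1 : y ^ 2 ^ k = 1 := by
      have h2 : (⟨y, hy.1⟩ : S) ^ Nat.card S = 1 := pow_card_eq_one'
      have h3 : y ^ 2 ^ N = 1 := by
        have := congrArg Subtype.val h2
        rwa [hN] at this
      obtain ⟨d, rfl⟩ := Nat.exists_eq_add_of_le (not_lt.1 hk)
      rw [pow_add, pow_mul, h3, one_pow]
    have h4 : x = 1 := hf.injOn (Subgroup.mem_zpowers x) (Subgroup.one_mem _)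
      (by rw [hfx, h1, hf.map_one])
    exact h4 ▸ ⟨S.one_mem, fun s _ => by simp⟩
  set k := Nat.findGreatest X N with hk
  have hXk : X k := Nat.findGreatest_spec (Nat.zero_le N) hX0
  have hbig : ∀ j, k < j → ¬ X j := fun j hj hXj =>
    absurd (Nat.le_findGreatest (hbound j hXj).le hXj) (not_le.2 (hk ▸ hj))
  -- involutions with deep roots are central
  have hroot : ∀ j, k < j → ∀ x ∈ S, x ^ 2 ^ j * x ^ 2 ^ j = 1 → InCenter S (x ^ 2 ^ j) := by
    intro j hj x hx hx2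
    by_contra hc
    obtain ⟨f, hf, hz⟩ := h x hx
    exact hbig j hj ⟨x ^ 2 ^ j, S.pow_mem hx _, ⟨hx2, f, f x,
      hf.mono (Subgroup.zpowers_le.2 (pow_mem (Subgroup.mem_zpowers x) _)), hz,
      hf.map_pow (Subgroup.mem_zpowers x) _⟩, hc⟩
  have hWinv : ∀ x f, Mor F (Subgroup.zpowers x) f → W k x → W k (f x) := by
    rintro x f hf ⟨hx2, f', y, hf', hy, hfy⟩
    have hxm := Subgroup.mem_zpowers x
    refine ⟨by rw [← hf.map_mul hxm hxm, hx2, hf.map_one], ?_⟩
    obtain ⟨R, hR⟩ := hf.exists_iso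
    obtain ⟨i, hi, hif, -⟩ := hR.symm
    refine ⟨f' ∘ i, y, ((hi.1.comp hf' fun r hr => hi.mem hr)).mono
      (Subgroup.zpowers_le.2 (hR.mem hxm)), hy, ?_⟩
    show f' (i (f x)) = _
    rw [hif x hxm, hfy]
  obtain ⟨Q, hQS, hQA, hZQ, ⟨α, hα, t, hWt, htC, htZ, hzS, hWz⟩, hfree, g0, hg0, hg0Q, hg02⟩ :=
    exists_moving hS hF h (W k) hWinv hXk
  haveI := finite_of_le hQS
  -- choose `g` killed by `2 ^ (k + 1)`
  have hg : ∃ g ∈ normalizerIn S Q, g ∉ Q ∧ g * g ∈ Q ∧ g ^ 2 ^ (k + 1) = 1 := by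
    obtain ⟨e, he⟩ := hS ⟨g0, hg0.1⟩
    have he' : g0 ^ 2 ^ e = 1 := congrArg Subtype.val he
    clear he
    induction e generalizing g0 with
    | zero =>
      rw [pow_zero, pow_one] at he'
      exact absurd (he' ▸ Q.one_mem) hg0Q
    | succ e ih =>
      by_cases hek : e ≤ k
      · refine ⟨g0, hg0, hg0Q, hg02, ?_⟩
        obtain ⟨d, hd⟩ := Nat.exists_eq_add_of_le hek
        rw [hd, show e + d + 1 = e + 1 + d by ring, pow_add, pow_mul, he', one_pow]
      · have hi : InCenter S (g0 ^ 2 ^ e) := hroot e (not_le.1 hek) g0 hg0.1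
          (by rw [← pow_add, ← mul_two, ← pow_succ, he'])
        obtain ⟨y, hy, hye⟩ := central_root hS hF h hg0.1 e hi
        have hyQ := hZQ y hy
        have hc : Commute g0 y⁻¹ := (show Commute g0 y from hy.2 g0 hg0.1).inv_right
        refine ih (g0 * y⁻¹) (Subgroup.mul_mem _ hg0 (le_normalizerIn hQS (Q.inv_mem hyQ.1)))
          (fun hm => hg0Q ?_) ?_ ?_
        · simpa using Q.mul_mem hm hyQ.1
        · rw [← pow_two, hc.mul_pow, pow_two, pow_two]
          exact Q.mul_mem hg02 (Q.mul_mem (Q.inv_mem hyQ.1) (Q.inv_mem hyQ.1))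
        · rw [hc.mul_pow, inv_pow, hye, mul_inv_cancel]
  obtain ⟨g, hgN, hgQ, hg2, hgk⟩ := hg
  let L : ℕ → Q → Prop := fun j v => (∀ s : Q, s * v = v * s) ∧ v * v = 1 ∧
    ∃ a : Q, (∀ s : Q, s * a = a * s) ∧ a ^ 2 ^ j = v
  have hLinv : ∀ j, ∀ β ∈ F.autGroup Q, ∀ v, L j v → L j ((β : MulAut Q) v) := by
    rintro j β - v ⟨hv, hv2, a, ha, hav⟩
    have hc : ∀ (w : Q), (∀ s : Q, s * w = w * s) → ∀ s : Q, s * β w = β w * s := fun w hw s => by
      obtain ⟨s', rfl⟩ := β.surjective s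
      rw [← map_mul, ← map_mul, hw s']
    exact ⟨hc v hv, by rw [← map_mul, hv2, map_one], β a, hc a ha, by rw [← map_pow, hav]⟩
  have hfin : ∀ v : Q, L (k + 1) v → InCenter S v := by
    rintro v ⟨-, hv2, a, -, rfl⟩
    have := hroot (k + 1) (Nat.lt_succ_self k) a (hQS a.2) (congrArg Subtype.val hv2)
    simpa using this
  have hsucc : ∀ v : Q, L (k + 1) v → L k v := by
    rintro v ⟨hv, hv2, a, ha, hav⟩
    refine ⟨hv, hv2, a ^ 2, fun s => (show Commute s a from ha s).pow_right 2, ?_⟩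
    rw [← pow_mul, ← pow_succ', hav]
  obtain ⟨τ0, hτ0, hτg⟩ := exists_mem_autInducedBy (P := Q) (K := S) hgN.1 hgN.2
  let τ : ↥(F.autGroup Q) := ⟨τ0, autInducedBy_le_autGroup hQS hτ0⟩
  -- `g` shifts the layer `k` into the layer `k + 1`
  have hshift : ∀ v : Q, L k v → L (k + 1) (v⁻¹ * τ0 v) := by
    rintro v ⟨hv, hv2, a, ha, hav⟩
    have hcent : ∀ w : Q, (∀ s : Q, s * w = w * s) → InCenter Q (w : Ω) :=
      fun w hw => coe_mem_iff.2 hw
    have hvinv : v⁻¹ = v := inv_eq_of_mul_eq_one_right hv2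
    have hb : ((τ0 a : Q) : Ω) = g * a * g⁻¹ := by rw [← apl_coe, hτg _ a.2]
    have hbv : ((τ0 v : Q) : Ω) = g * v * g⁻¹ := by rw [← apl_coe, hτg _ v.2]
    -- the root
    have hxS : (a : Ω) * g ∈ S := S.mul_mem (hQS a.2) hgN.1
    have hx2 : ((a : Ω) * g) ^ 2 = ((a * τ0 a * ⟨g * g, hg2⟩ : Q) : Ω) := by
      simp only [Subgroup.coe_mul, hb]
      rw [pow_two]; group
    have hτc : ∀ w : Q, (∀ s : Q, s * w = w * s) → ∀ s : Q, s * τ0 w = τ0 w * s := fun w hw s => by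
      obtain ⟨s', rfl⟩ := τ0.surjective s
      rw [← map_mul, ← map_mul, hw s']
    have hxk : ((a : Ω) * g) ^ 2 ^ (k + 1) = ((v⁻¹ * τ0 v : Q) : Ω) := by
      rw [pow_succ', pow_mul, hx2, ← Subgroup.coe_pow]
      congr 1
      have h1 : Commute (a * τ0 a) (⟨g * g, hg2⟩ : Q) :=
        (show Commute a _ from (ha _).symm).mul_left (show Commute (τ0 a) _ from (hτc a ha _).symm)
      have h2 : (⟨g * g, hg2⟩ : Q) ^ 2 ^ k = 1 := Subtype.ext <| by
        simp only [Subgroup.coe_pow, Subgroup.coe_one]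
        rw [← pow_two, ← pow_mul, ← pow_succ', hgk]
      rw [h1.mul_pow, h2, mul_one, (show Commute a (τ0 a) from (ha _).symm).mul_pow, hav,
        ← map_pow, hav, hvinv]
    have hw2 : (v⁻¹ * τ0 v) * (v⁻¹ * τ0 v) = 1 := by
      rw [← pow_two, (show Commute v⁻¹ (τ0 v) from
        (show Commute v (τ0 v) from (hv _).symm).inv_left).mul_pow, inv_pow, pow_two, hv2,
        ← map_pow, pow_two, hv2, map_one, inv_one, one_mul]
    have hwS : InCenter S (((a : Ω) * g) ^ 2 ^ (k + 1)) :=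
      hroot (k + 1) (Nat.lt_succ_self k) _ hxS (by
        rw [hxk, ← Subgroup.coe_mul, hw2, Subgroup.coe_one])
    obtain ⟨y, hy, hye⟩ := central_root hS hF h hxS (k + 1) hwS
    refine ⟨fun s => ?_, hw2, ⟨y, (hZQ y hy).1⟩, coe_mem_iff.1 (hZQ y hy), Subtype.ext ?_⟩
    · exact ((show Commute s v from hv s).inv_right.mul_right (hτc v hv s)).eq
    · rw [Subgroup.coe_pow, hye, hxk]
  -- the automorphisms stabilizing the chain
  let A := F.autGroup Q
  let P : Subgroup A :=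
    { carrier := {β | (∀ v, L (k + 1) v → (β : MulAut Q) v = v) ∧
        ∀ v, L k v → L (k + 1) (v⁻¹ * (β : MulAut Q) v)}
      one_mem' := ⟨fun v _ => rfl, fun v hv => by
        simp only [OneMemClass.coe_one, MulAut.one_apply, inv_mul_cancel]
        exact ⟨fun s => by simp, by simp, 1, fun s => by simp, one_pow _⟩⟩
      mul_mem' := by
        rintro β γ ⟨hβ1, hβ2⟩ ⟨hγ1, hγ2⟩
        refine ⟨fun v hv => ?_, fun v hv => ?_⟩
        · rw [Subgroup.coe_mul, MulAut.mul_apply, hγ1 v hv, hβ1 v hv]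
        · rw [Subgroup.coe_mul, MulAut.mul_apply]
          obtain ⟨hbv, hb2, a, ha, hav⟩ := hβ2 v hv
          obtain ⟨hcv, hc2, c, hc, hcc⟩ := hγ2 v hv
          have hsplit : (γ : MulAut Q) v = v * (v⁻¹ * (γ : MulAut Q) v) := by rw [mul_inv_cancel_left]
          rw [hsplit, map_mul, hβ1 _ (hγ2 v hv), ← mul_assoc]
          refine ⟨fun s => ((show Commute s _ from hbv s).mul_right (hcv s)).eq, ?_, a * c,
            fun s => ((show Commute s a from ha s).mul_right (hc s)).eq, ?_⟩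
          · rw [← pow_two, (show Commute (v⁻¹ * (β : MulAut Q) v) _ from hcv _).mul_pow,
              pow_two, hb2, pow_two, hc2, one_mul]
          · rw [(show Commute a c from hc a).mul_pow, hav, hcc]
      inv_mem' := by
        rintro β ⟨hβ1, hβ2⟩
        have hfix : ∀ v, L (k + 1) v → ((β : MulAut Q)⁻¹) v = v := fun v hv => by
          conv_lhs => rw [← hβ1 v hv]
          exact (β : MulAut Q).symm_apply_apply v
        refine ⟨fun v hv => by rw [Subgroup.coe_inv]; exact hfix v hv, fun v hv => ?_⟩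
        rw [Subgroup.coe_inv]
        have hv' := hLinv k _ (A.inv_mem β.2) v hv
        obtain ⟨hc, hc2, c, hcc, hce⟩ := hβ2 _ hv'
        rw [MulAut.apply_inv_self] at hc hc2 hce
        have he : v⁻¹ * (β : MulAut Q)⁻¹ v = (((β : MulAut Q)⁻¹ v)⁻¹ * v)⁻¹ := by
          rw [mul_inv_rev, inv_inv]
        rw [he, inv_eq_of_mul_eq_one_right hc2]
        exact ⟨hc, hc2, c, hcc, hce⟩ }
  haveI : P.Normal := ⟨by
    rintro β ⟨hβ1, hβ2⟩ γ
    refine ⟨fun v hv => ?_, fun v hv => ?_⟩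
    · simp only [Subgroup.coe_mul, Subgroup.coe_inv, MulAut.mul_apply]
      rw [hβ1 _ (hLinv _ _ (A.inv_mem γ.2) v hv), MulAut.apply_inv_self]
    · simp only [Subgroup.coe_mul, Subgroup.coe_inv, MulAut.mul_apply]
      have h1 := hLinv (k + 1) _ γ.2 _ (hβ2 _ (hLinv k _ (A.inv_mem γ.2) v hv))
      rwa [map_mul, map_inv, MulAut.apply_inv_self] at h1⟩
  have hτP : τ ∈ P := ⟨fun v hv => Subtype.ext (by
      show ((τ0 v : Q) : Ω) = v
      rw [← apl_coe, hτg _ v.2, (hfin v hv).2 g hgN.1, mul_inv_cancel_right]), hshift⟩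
  have hP2 : ∀ β ∈ P, ∃ m : ℕ, actSet A (L k) (hLinv k) β ^ 2 ^ m = 1 := by
    rintro β ⟨hβ1, hβ2⟩
    refine ⟨1, ?_⟩
    rw [← map_pow]
    refine Equiv.ext fun v => Subtype.ext ?_
    rw [actSet_apply, pow_one, pow_two, Subgroup.coe_mul, MulAut.mul_apply,
      Equiv.Perm.one_apply]
    have hl := hβ2 _ v.2
    have he : (β : MulAut Q) v.1 = v.1 * (v.1⁻¹ * (β : MulAut Q) v.1) := by
      rw [mul_inv_cancel_left]
    calc (β : MulAut Q) ((β : MulAut Q) v.1)
        = (β : MulAut Q) (v.1 * (v.1⁻¹ * (β : MulAut Q) v.1)) := congrArg _ he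
      _ = (β : MulAut Q) v.1 * (v.1⁻¹ * (β : MulAut Q) v.1) := by rw [map_mul, hβ1 _ hl]
      _ = v.1 * (v.1⁻¹ * (β : MulAut Q) v.1) * (v.1⁻¹ * (β : MulAut Q) v.1) :=
          congrArg (fun w => w * (v.1⁻¹ * (β : MulAut Q) v.1)) he
      _ = v.1 := by rw [mul_assoc, hl.2.1, mul_one]
  have hfree' : ∀ v : Q, L k v → ¬ InCenter S v →
      ∀ n ∈ normalizerIn S Q, n * v = v * n → n ∈ Q := by
    rintro v ⟨hv, hv2, a, ha, hav⟩ hvZ
    refine hfree v (coe_mem_iff.2 hv) ⟨congrArg Subtype.val hv2, ?_⟩ hvZ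
    obtain ⟨f, hf, hz⟩ := h a (hQS a.2)
    refine ⟨f, f a, hf.mono (Subgroup.zpowers_le.2 ?_), hz, ?_⟩
    · rw [← hav, Subgroup.coe_pow]
      exact pow_mem (Subgroup.mem_zpowers _) _
    · rw [← hav, Subgroup.coe_pow, hf.map_pow (Subgroup.mem_zpowers _)]
  -- the central image of `t` is such an element
  obtain ⟨hz2, f, y, hf, hy, hfy⟩ := hWz
  obtain ⟨ψ, hψ, hψz⟩ := central_fused hS hF hf hzS (hfy ▸ hy.pow _)
  obtain ⟨ψ', hψ', hψ'ψ, -⟩ := hψ.symm
  have hy1 : InCenter S (ψ' y) := Iso.inCenter hψ' hy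
  have hy1e : ψ' y ^ 2 ^ k = apl α t := by
    rw [← hψ'.1.map_pow hy.1, ← hfy, ← hψz, hψ'ψ _ hzS.1]
  let z : Q := ⟨apl α t, apl_mem α htC.1⟩
  have hLz : L k z := by
    refine ⟨coe_mem_iff.1 (hZQ _ hzS), Subtype.ext hz2, ⟨ψ' y, (hZQ _ hy1).1⟩,
      coe_mem_iff.1 (hZQ _ hy1), Subtype.ext ?_⟩
    rw [Subgroup.coe_pow]
    exact hy1e
  have hend := invariant_of_normal hQA (L k) (hLinv k) hfree' P hP2 hgN hgQ hτP hτg
    (γ := (⟨α, hα⟩ : ↥(F.autGroup Q))⁻¹) (z := z) hLz hzS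
  rw [apl_coe', Subgroup.coe_inv] at hend
  exact htZ (by rwa [show ((z : Q) : Ω) = apl α t from rfl, apl_inv_apl _ htC.1] at hend)

/-- If every element of `S` is conjugate to a central one, then `S` is abelian. -/
theorem all_central : ∀ x ∈ S, InCenter S x := by
  classical
  haveI : Fact (Nat.Prime 2) := ⟨Nat.prime_two⟩
  have hinv := involution_central hS hF h
  by_contra hcon
  push Not at hcon
  obtain ⟨x0, hx0, hx0Z⟩ := hcon
  obtain ⟨Q, hQS, hQA, hZQ, ⟨α, hα, t, -, htC, htZ, hzS, -⟩, hfree, g, hgN, hgQ, -⟩ :=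
    exists_moving hS hF h (fun _ => True) (fun _ _ _ _ => trivial) ⟨x0, hx0, trivial, hx0Z⟩
  haveI := finite_of_le hQS
  haveI : Finite (MulAut Q) := Finite.of_injective _ MulEquiv.toEquiv_injective
  let A := F.autGroup Q
  let L : Q → Prop := fun v => ∀ s : Q, s * v = v * s
  have hL : ∀ β ∈ A, ∀ v, L v → L ((β : MulAut Q) v) := fun β _ v hv s => by
    obtain ⟨s', rfl⟩ := β.surjective s
    rw [← map_mul, ← map_mul, hv s']
  let P : Subgroup A :=
    { carrier := {β | ∀ v, L v → v * v = 1 → (β : MulAut Q) v = v}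
      one_mem' := fun _ _ _ => rfl
      mul_mem' := fun {β γ} hβ hγ v hv hv2 => by
        rw [Subgroup.coe_mul, MulAut.mul_apply, hγ v hv hv2, hβ v hv hv2]
      inv_mem' := fun {β} hβ v hv hv2 => by
        rw [Subgroup.coe_inv]
        conv_lhs => rw [← hβ v hv hv2]
        exact (β : MulAut Q).symm_apply_apply v }
  haveI : P.Normal := ⟨fun β hβ γ v hv hv2 => by
    simp only [Subgroup.coe_mul, Subgroup.coe_inv, MulAut.mul_apply]
    rw [hβ _ (hL _ (A.inv_mem γ.2) v hv) (by rw [← map_mul, hv2, map_one]),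
      MulAut.apply_inv_self]⟩
  have hP2 : ∀ β ∈ P, ∃ m : ℕ, actSet A L hL β ^ 2 ^ m = 1 := by
    intro β hβ
    obtain ⟨m, n, hn, hmn⟩ := exists_two_part β
    refine ⟨m, ?_⟩
    rw [← map_pow]
    refine Equiv.ext fun v => Subtype.ext ?_
    rw [actSet_apply, Equiv.Perm.one_apply]
    have hβm : β ^ 2 ^ m ∈ P := P.pow_mem hβ _
    obtain ⟨e, he⟩ := hS ⟨(v.1 : Ω), hQS v.1.2⟩
    refine fix_of_fix_involutions _ hn (by rw [← Subgroup.coe_pow, hmn]; rfl) {w : Q | L w}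
      (fun w hw => hL _ (β ^ 2 ^ m).2 w hw)
      (fun w hw u hu s => ((show Commute s w from hw s).inv_right.mul_right (hu s)).eq)
      (fun w hw u _ => (hw u).symm) (fun w hw hw2 => hβm w hw hw2) e v.1 v.2 (Subtype.ext ?_)
    simpa using congrArg Subtype.val he
  obtain ⟨τ0, hτ0, hτg⟩ := exists_mem_autInducedBy (P := Q) (K := S) hgN.1 hgN.2
  have hτP : (⟨τ0, autInducedBy_le_autGroup hQS hτ0⟩ : A) ∈ P := fun v _ hv2 => Subtype.ext <| by
    show ((τ0 v : Q) : Ω) = v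
    rw [← apl_coe, hτg _ v.2, (hinv v (hQS v.2) (congrArg Subtype.val hv2)).2 g hgN.1,
      mul_inv_cancel_right]
  have hend := invariant_of_normal hQA L hL
    (fun v hv hvZ => hfree v (coe_mem_iff.2 hv) trivial hvZ) P hP2 hgN hgQ hτP hτg
    (γ := (⟨α, hα⟩ : A)⁻¹) (z := ⟨apl α t, apl_mem α htC.1⟩)
    (coe_mem_iff.1 (hZQ _ hzS)) hzS
  rw [apl_coe', Subgroup.coe_inv, apl_inv_apl _ htC.1] at hend
  exact htZ hend

end Cfsg.Agent.FusSys.CamHerz
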