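import Cfsg.Agent.FusSys.DeltaCore

/-!
For odd `p`, a subgroup of `C_S(T)` fixed by the `IsDelta` automorphisms of order prime to `p` at `T`
and at `jA T` is centralized by the normal subsystem.
-/

set_option autoImplicit false

namespace Cfsg.Agent.FusSys.CentE

open Cfsg Cfsg.FusionSystem Cfsg.Agent.FusSys Cfsg.Agent.FusSys.CentFocal Cfsg.Agent.FusSys.ThompsonKey
open Cfsg.Agent.Fusion (AbMem AbMax abMax_map_iff)

universe u

variable {Ω : Type u} [Group Ω] {S T P R : Subgroup Ω} {F : FusionSystem S} {E : FusionSystem T}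
variable {p : ℕ} [Fact p.Prime] [Finite S]

omit [Fact p.Prime] in
/-- Elements normalizing a subgroup of `T` normalize its centralizer in `T`. -/
theorem conj_mem_centralizerIn (hT : F.StronglyClosed T) {W : Subgroup Ω} (hW : W ≤ S) {s : Ω}
    (hs : s ∈ S) (hn : s ∈ Subgroup.normalizer (W : Set Ω)) {c : Ω} (hc : c ∈ centralizerIn T W) :
    s * c * s⁻¹ ∈ centralizerIn T W :=
  ⟨(Subgroup.mem_normalizer_iff.1 (StronglyClosed.le_normalizer hT hs) c).1 hc.1,
    ((mor_conj (F := F) le_rfl hs).mem_centralizerIn hW (iso_conj_self hW hs hn) (hT.1 hc.1) hc.2).2⟩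

variable (hS : IsPGroup p S) (hF : F.IsSaturated p)
include hS hF

/-- A fully normalized conjugate whose `jA` is fully normalized too. -/
theorem exists_fullyNormalized_jA (hR : R ≤ S) :
    ∃ P g, F.IsFullyNormalized P ∧ F.IsFullyNormalized (jA P) ∧ Mor F (normalizerIn S R) g ∧
      Iso F R P g := by
  obtain ⟨P₁, g₁, hP₁, hg₁, hgP₁, hg₁N⟩ := exists_fullyNormalized_mor hS hF hR
  obtain ⟨W, h, hW, hh, hhW, -⟩ := exists_fullyNormalized_mor hS hF ((jA_le P₁).trans hP₁.1)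
  have hNle : normalizerIn S P₁ ≤ normalizerIn S (jA P₁) := fun s hs =>
    ⟨hs.1, mem_normalizer_jA hP₁.1 hs.1 hs.2⟩
  have hh₁ := hh.mono hNle
  obtain ⟨P, hP⟩ := (hh₁.mono (le_normalizerIn hP₁.1)).exists_iso
  have hjP : jA P = W :=
    (mor_key hP).1.eq_image (hhW)
  have hcard : Nat.card (normalizerIn S P₁) ≤ Nat.card (normalizerIn S P) := by
    haveI := finite_of_le (normalizerIn_le S P)
    exact hh₁.card_image_le (normalizerIn_le S P) fun s hs =>
      hh₁.mem_normalizerIn (le_normalizerIn hP₁.1) hP hs hs.2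
  refine ⟨P, h ∘ g₁, ⟨hP.right_le, fun Q hQ => ?_⟩, hjP ▸ hW, hg₁.comp hh₁ hg₁N, hgP₁.comp hP⟩
  exact (hP₁.2 Q (isConj_trans hP.isConj hQ)).trans hcard

/-- In an essential subgroup the centralizer of `jA` meets the normalizer inside it. -/
theorem mem_of_centralizes_jA (hE : E.IsNormalIn F p) (hT : F.StronglyClosed T)
    (hR : E.IsEssential p R) {b : Ω} (hb : b ∈ normalizerIn T R)
    (hbW : b ∈ Subgroup.centralizer (jA R : Set Ω)) : b ∈ R := by
  classical
  have _ := hF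
  haveI := finite_of_le hT.1
  have hTp : IsPGroup p T := hS.to_le hT.1
  have hRT := hR.1.1
  haveI := finite_of_le (hRT.trans hT.1)
  haveI : Finite (MulAut R) := Finite.of_injective _ MulEquiv.toEquiv_injective
  let Γ : Subgroup (MulAut R) := chainStab.subgroupOfFiniteSubmonoid
    { carrier := {γ | γ ∈ E.autGroup R ∧ ∀ w ∈ jA R, apl γ w = w}
      one_mem' := ⟨one_mem _, fun w hw => apl_one (jA_le R hw)⟩
      mul_mem' := fun {γ δ} hγ hδ => ⟨mul_mem hγ.1 hδ.1, fun w hw => by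
        rw [apl_mul _ _ (jA_le R hw), hδ.2 w hw, hγ.2 w hw]⟩ }
  refine mem_of_normal_pGroup hR.1 (essential_radical hTp hE.1.1 hR) hb.1 hb.2 (Γ := Γ)
    (fun γ hγ => hγ.1) (fun γ => ?_) (fun α hα γ hγ => ⟨mul_mem (mul_mem hα hγ.1) (inv_mem hα),
      fun w hw => ?_⟩) fun γ hγ hγx => ⟨hγ, fun w hw => ?_⟩
  · obtain ⟨a, m, hm, horder⟩ := Nat.exists_eq_pow_mul_and_not_dvd (orderOf_pos γ).ne' p
      (Fact.out : p.Prime).ne_one
    refine ⟨a, ?_⟩
    obtain ⟨A, hA⟩ := exists_max (D := R)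
    have hpow : γ ^ p ^ a ∈ (⊤ : Subgroup Γ) := Subgroup.mem_top _
    have hord : (orderOf ((γ ^ p ^ a : Γ) : MulAut R)).Coprime p := by
      rw [Subgroup.orderOf_coe, orderOf_pow' _ (pow_ne_zero _ (Fact.out : p.Prime).ne_zero), horder,
        Nat.gcd_eq_right (Dvd.intro _ rfl), Nat.mul_div_cancel_left _ (pow_pos (Fact.out : p.Prime).pos _)]
      exact ((Fact.out : p.Prime).coprime_iff_not_dvd.2 hm).symm
    exact Subtype.ext (eq_one_of_fix_abMax (hTp.to_le hRT) hA hord fun x hx =>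
      (γ ^ p ^ a : Γ).2.2 x (le_jA hA hx))
  · have hw' : apl α⁻¹ w ∈ jA R :=
      (mor_key (iso_apl hRT (inv_mem hα))).1.mem hw
    rw [apl_mul _ _ (jA_le R hw), apl_mul _ _ (apl_mem _ (jA_le R hw)), hγ.2 _ hw',
      apl_apl_inv _ (jA_le R hw)]
  · rw [hγx w (jA_le R hw), ← Subgroup.mem_centralizer_iff.1 hbW w hw]
    group

/-- The main theorem of this file. -/
theorem centralizes_of_fixAt (hE : E.IsNormalIn F p) (hT : F.StronglyClosed T) (hp : p ≠ 2)
    {X : Subgroup Ω} (hXT : X ≤ fixAt E F p (le_refl T) hT.1)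
    (hXJ : X ≤ fixAt E F p (jA_le T) hT.1)
    (hXinv : ∀ δ ∈ F.autGroup (T ⊔ centralizerIn S T), ∀ x ∈ X, apl δ x ∈ X) :
    ∀ Q f, Mor E Q f → CRel F X Q f := by
  classical
  have hEF := hE.1.2.2.1
  have hEs := hE.1.1
  have hTS := hT.1
  have hTn : S ≤ Subgroup.normalizer (T : Set Ω) := fun _ hs => StronglyClosed.le_normalizer hT hs
  haveI := finite_of_le hTS
  have hTp : IsPGroup p T := hS.to_le hTS
  have hX : X ≤ centralizerIn S T := fun x hx => (hXT hx).1
  have hXS : X ≤ S := hX.trans (centralizerIn_le S T)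
  have hTX : T ≤ centralizerIn S X := fun x hx => ⟨hTS hx, Subgroup.mem_centralizer_iff.2
    fun c hc => ((Subgroup.mem_centralizer_iff.1 (hX hc).2) x hx).symm⟩
  have hTfn : F.IsFullyNormalized T := ⟨hTS, fun Q _ => by
    rw [show normalizerIn S T = S from le_antisymm inf_le_left fun s hs => ⟨hs, hTn hs⟩]
    exact Subgroup.card_le_of_le inf_le_left⟩
  have hTc := fullyCentralized_of_fullyNormalized hS hF hTfn
  have hmorF : ∀ {Q f}, Mor E Q f → Mor F Q f := fun {Q f} h => by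
    obtain ⟨φ, hφ, hφf⟩ := h; exact ⟨φ, hEF Q hφ, hφf⟩
  have hisoF : ∀ {Q Q' f}, Iso E Q Q' f → Iso F Q Q' f := fun h => ⟨hmorF h.1, h.2⟩
  set B := key S T with hB
  suffices main : ∀ n Q f, Mor E Q f → B - key S Q ≤ n → CRel F X Q f from
    fun Q f h => main _ Q f h le_rfl
  intro n
  induction n using Nat.strong_induction_on with
  | h n ih =>
  let M : Subgroup Ω → (Ω → Ω) → Prop := fun Q f =>
    Q ≤ T ∧ (∀ x ∈ Q, f x ∈ T) ∧ (B - key S Q ≤ n → CRel F X Q f)
  have hM : SubRel E T M :=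
    { congr := fun {Q f g} h he => ⟨h.1, fun x hx => he x hx ▸ h.2.1 x hx,
        fun hk => CRel.congr (h.2.2 hk) he⟩
      le := fun h => ⟨h.1, h.2.1⟩
      conj := fun {Q s} hQ hs => ⟨mor_conj hQ hs, hQ,
        fun x hx => T.mul_mem (T.mul_mem hs (hQ hx)) (T.inv_mem hs),
        fun _ => ((subRel_cRel (F := F) hXS).conj (hQ.trans hTX) (hTX hs)).2⟩
      comp := fun {Q R f g} hf h1 hg h2 hfR => ⟨h1.1, fun x hx => h2.2.1 _ (hfR x hx), fun hk =>
        (subRel_cRel (F := F) hXS).comp (hmorF hf) (h1.2.2 hk) (hmorF hg) (h2.2.2 (by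
          obtain ⟨Q', hQ'⟩ := (hmorF hf).exists_iso
          have h3 : key S Q' ≤ key S R := key_mono (h2.1.trans hTS) fun y hy => by
            obtain ⟨x, hx, rfl⟩ := hQ'.exists_eq hy
            exact hfR x hx
          rw [(mor_key hQ').2] at h3
          omega)) hfR⟩
      inv := fun {Q R f g} hf h1 hg hgf => ⟨hg.left_le, fun x hx => h1.1 (hg.mem hx), fun hk =>
        (subRel_cRel (F := F) hXS).inv (hisoF hf)
          (h1.2.2 (by rw [← (mor_key (hisoF hf)).2]; exact hk)) (hisoF hg) hgf⟩ }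
  suffices h : E ≤ subSys hM from fun Q f hf hk =>
    (((mor_subSys hM).1 (le_iff_mor.1 h Q f hf)).2.2.2) hk
  refine le_of_aut_le' hTp hEs fun R hR hbig γ hγ => ?_
  have hRT : R ≤ T := hR.elim (fun e => e.le) fun e => e.1.1
  suffices h : B - key S R ≤ n → CRel F X R (apl γ) by
    exact Subgroup.subset_closure (((mor_subSys hM).2 ⟨(iso_apl hRT hγ).1, hRT,
      fun x hx => hRT (apl_mem γ hx), h⟩).hom_eq fun x => (apl_coe γ x).symm)
  intro hRk
  -- maps of larger key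
  have hlarge : ∀ Q f, Mor E Q f → key S R < key S Q → CRel F X Q f := fun Q f hf hlt => by
    have := key_mono hTS (hf.le : Q ≤ T)
    exact ih (B - key S Q) (by omega) Q f hf le_rfl
  by_cases hRT' : R = T
  · subst hRT'
    obtain ⟨δ, hδ, hδγ, hδc⟩ := hE.2 γ hγ
    refine cRel_of_ext hS hF hEF hTS hX le_rfl hTc
      (fun d hd _ ha hmod hord x hx => (hXT hx).2 d ⟨hd, ha, hmod⟩ hord)
      (fullyAutomized_of_fullyNormalized hTp hEs ⟨le_rfl, fun Q hQ => by
        rw [show Q = R from eq_of_le_of_card le_rfl (isConj_le_right hQ) (isConj_card_eq hQ).le]⟩)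
      (centralizerIn_le _ _) hTn hδ hγ (fun x hx => ?_) fun c hc => ?_
    · rw [apl_apply _ (Subgroup.mem_sup_left hx), apl_apply _ hx]
      exact hδγ ⟨x, hx⟩
    · rw [apl_apply _ (Subgroup.mem_sup_right hc)]
      exact (hδc ⟨c, Subgroup.mem_sup_right hc⟩ hc).1
  -- an essential subgroup: pass to a good conjugate
  replace hR := hR.resolve_left hRT'
  have hRlt : R < T := lt_of_le_of_ne hRT hRT'
  obtain ⟨P, g, hPn, hWn, hg, hgP⟩ := exists_fullyNormalized_jA hS hF (hRT.trans hTS)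
  have hPT : P ≤ T := fun y hy => by
    obtain ⟨x, hx, rfl⟩ := hgP.exists_eq hy
    exact StronglyClosed.mor_mem hT hgP.1 hx (hRT hx)
  have hPc := fullyCentralized_of_fullyNormalized hS hF hPn
  have hkP : key S P = key S R := (mor_key hgP).2
  set NR := normalizerIn T R with hNR
  have hNRle : NR ≤ normalizerIn S R := fun x hx => ⟨hTS hx.1, hx.2⟩
  have hNRT : NR ≤ T := normalizerIn_le T R
  have hRN : R ≤ NR := le_normalizerIn hRT
  have hcard : Nat.card R < Nat.card NR := card_lt_of_lt' hNRT (lt_normalizerIn hTp hRlt)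
  obtain ⟨a, ha, e, heM, hga⟩ := exists_frattini hE.1.2.2 hNRT (hg.mono hNRle)
  have heT : ∀ x ∈ NR, e x ∈ T := fun x hx => heM.mem_S hx
  have heC : CRel F X NR e := ((mor_subSys hM).1 (hbig NR e hcard heM)).2.2.2 (by
    have := key_mono (S := S) (hNRT.trans hTS) hRN
    omega)
  obtain ⟨R₀, hR₀⟩ := (heM.mono hRN).exists_iso
  have hR₀T : R₀ ≤ T := hR₀.right_le
  have haR₀ : Iso F R₀ P (apl a) := by
    refine ⟨(iso_apl hTS ha).1.mono hR₀T, fun y => ⟨fun hy => ?_, fun ⟨z, hz, hzy⟩ => ?_⟩⟩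
    · obtain ⟨x, hx, rfl⟩ := hgP.exists_eq hy
      exact ⟨e x, hR₀.mem hx, (hga x (hRN hx)).symm⟩
    · obtain ⟨x, hx, rfl⟩ := hR₀.exists_eq hz
      rw [← hzy, ← hga x (hRN hx)]
      exact hgP.mem hx
  obtain ⟨e', he', he'e, hee'⟩ := hR₀.symm
  obtain ⟨γ₀, hγ₀, hγ₀x⟩ := ((he'.comp (iso_apl hRT hγ)).comp hR₀).exists_mem_autGroup
  have hP0 : ∀ y ∈ P, apl a⁻¹ y ∈ R₀ := fun y hy => by
    obtain ⟨z, hz, rfl⟩ := haR₀.exists_eq hy
    rw [apl_inv_apl a (hR₀T hz)]; exact hz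
  obtain ⟨γ₁, hγ₁, hγ₁x⟩ : ∃ γ₁ ∈ E.autGroup P, ∀ y ∈ P, apl γ₁ y = apl a (apl γ₀ (apl a⁻¹ y)) := by
    obtain ⟨k, hk, hkx⟩ := exists_transport hE.1.2.2 (iso_apl hR₀T hγ₀).1 ha
    have himg : P ≤ (R₀.subgroupOf T).map (T.subtype.comp a.toMonoidHom) := fun y hy => by
      obtain ⟨z, hz, rfl⟩ := haR₀.exists_eq hy
      exact ⟨⟨z, hR₀T hz⟩, hz, (apl_apply a (hR₀T hz)).symm⟩
    have hval : ∀ y ∈ P, k y = apl a (apl γ₀ (apl a⁻¹ y)) := fun y hy => by
      rw [← hkx _ (hP0 y hy), apl_apl_inv a (hPT hy)]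
    have hmor := (hk.mono himg).congr fun y hy => (hval y hy).symm
    have hm : ∀ y ∈ P, apl a (apl γ₀ (apl a⁻¹ y)) ∈ P := fun y hy =>
      haR₀.mem (apl_mem γ₀ (hP0 y hy))
    exact Iso.exists_mem_autGroup (show Iso E P P _ from ⟨hmor, fun y =>
      ⟨fun hy => hmor.surj_of_card hPT hm le_rfl hy, fun ⟨x, hx, hxy⟩ => hxy ▸ hm x hx⟩⟩)
  have hPlt : P < T := lt_of_le_of_ne hPT fun h => hRlt.ne
    (eq_of_le_of_card le_rfl hRT (by rw [← h, hgP.card_eq]))
  have hPEn : E.IsFullyNormalized P := fullyNormalized_sub hS hF hT hEF hPT hPn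
  have hAut := fullyAutomized_of_fullyNormalized hTp hEs hPEn
  -- `g` maps `N_T(R)` onto `N_T(P)`
  have hgsurj : ∀ y ∈ normalizerIn T P, ∃ x ∈ NR, g x = y := by
    intro y hy
    have hmem : ∀ x ∈ NR, g x ∈ normalizerIn T P := fun x hx =>
      ⟨StronglyClosed.mor_mem hT hg (hNRle hx) hx.1,
        (hg.mem_normalizerIn (le_normalizerIn (hRT.trans hTS)) hgP (hNRle hx) hx.2).2⟩
    refine (hg.mono hNRle).surj_of_card ((normalizerIn_le T P).trans hTS) hmem ?_ hy
    obtain ⟨a', ha', ha'a⟩ : ∃ a' : Ω → Ω, Mor F T a' ∧ ∀ z ∈ T, a' (apl a z) = z :=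
      ⟨apl a⁻¹, (iso_apl hTS (inv_mem ha)).1, fun z hz => apl_inv_apl a hz⟩
    have h1 : Nat.card (normalizerIn T P) ≤ Nat.card (normalizerIn T R₀) := by
      haveI := finite_of_le ((normalizerIn_le T R₀).trans hTS)
      have hisoP : Iso F P R₀ a' := ⟨ha'.mono hPT, fun z => ⟨fun hz =>
        ⟨apl a z, haR₀.mem hz, ha'a z (hR₀T hz)⟩, fun ⟨w, hw, hwz⟩ => by
          obtain ⟨v, hv, rfl⟩ := haR₀.exists_eq hw
          rw [← hwz, ha'a v (hR₀T hv)]; exact hv⟩⟩
      exact (ha'.mono (normalizerIn_le T P)).card_image_le ((normalizerIn_le T R₀).trans hTS)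
        fun z hz => ⟨StronglyClosed.mor_mem hT ha' hz.1 hz.1,
          ((ha'.mono (normalizerIn_le T P)).mem_normalizerIn (le_normalizerIn hPT) hisoP hz hz.2).2⟩
    exact h1.trans (hR.2.1.2 R₀ hR₀.isConj)
  -- `C_T(jA P) ≤ P`
  set W := jA P with hWdef
  have hWP : W ≤ P := jA_le P
  have hCWP : centralizerIn T W ≤ P := by
    by_contra hne
    have hlt : P < P ⊔ centralizerIn T W := lt_of_le_of_ne le_sup_left fun h => hne (h ▸ le_sup_right)
    obtain ⟨c, ⟨hcPC, hcn⟩, hcP⟩ := SetLike.exists_of_lt (lt_inf_normalizer hS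
      (sup_le hPn.1 ((centralizerIn_le T W).trans hTS)) hlt)
    have hPnC : P ≤ Subgroup.normalizer (centralizerIn T W : Set Ω) := fun s hs => by
      have hn : ∀ s ∈ P, ∀ d ∈ centralizerIn T W, s * d * s⁻¹ ∈ centralizerIn T W := fun s hs d hd =>
        conj_mem_centralizerIn hT (hWP.trans hPn.1) (hPn.1 hs)
          (mem_normalizer_jA hPn.1 (hPn.1 hs) (Subgroup.le_normalizer hs)) hd
      refine Subgroup.mem_normalizer_iff.2 fun d => ⟨hn s hs d, fun h => ?_⟩
      have h' := hn s⁻¹ (P.inv_mem hs) _ h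
      rwa [show s⁻¹ * (s * d * s⁻¹) * s⁻¹⁻¹ = d by group] at h'
    have hcPC' : c ∈ ((P ⊔ centralizerIn T W : Subgroup Ω) : Set Ω) := hcPC
    rw [Subgroup.coe_mul_of_left_le_normalizer_right _ _ hPnC] at hcPC'
    obtain ⟨x, hx, q, hq, rfl⟩ := hcPC'
    have hqn : q ∈ Subgroup.normalizer (P : Set Ω) := by
      have := Subgroup.mul_mem _ (Subgroup.inv_mem _ (Subgroup.le_normalizer hx)) hcn
      rwa [inv_mul_cancel_left] at this
    obtain ⟨b, hb, rfl⟩ := hgsurj q ⟨hq.1, hqn⟩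
    have hbW : b ∈ Subgroup.centralizer (jA R : Set Ω) := (hg.mono hNRle).centralizes_of_image
      ((jA_le R).trans hRN) (mor_key hgP).1 hb hq.2
    exact hcP (P.mul_mem hx (hgP.mem (mem_of_centralizes_jA hS hF hE hT hR hb hbW)))
  have hTP : centralizerIn T P ≤ P := fun y hy =>
    hCWP ⟨hy.1, Subgroup.centralizer_le hWP hy.2⟩
  -- the subgroup `V = W C_T(W)`
  set V := W ⊔ centralizerIn T W with hVdef
  have hVP : V ≤ P := sup_le hWP hCWP
  have hVT : V ≤ T := hVP.trans hPT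
  have hjV : jA V = W := by
    haveI := finite_of_le hPn.1
    exact jA_between le_sup_left hVP
  have hkV : key S V = key S R := (key_jA hPn.1 le_sup_left hVP).trans hkP
  have hTV : centralizerIn T V ≤ V := fun y hy =>
    Subgroup.mem_sup_right ⟨hy.1, Subgroup.centralizer_le (le_sup_left : W ≤ V) hy.2⟩
  have hinvV : ∀ {k : Ω → Ω}, Mor F V k → Iso F W W k → ∀ z ∈ V, k z ∈ V := fun {k} hk hkW z hz =>
    hk.mem_of_sup (fun w hw => Subgroup.mem_sup_left (hkW.mem hw))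
      (fun c hc => Subgroup.mem_sup_right (show k c ∈ centralizerIn T W from
        ⟨StronglyClosed.mor_mem hT hk (Subgroup.mem_sup_right hc) hc.1,
          (hk.mem_centralizerIn le_sup_left hkW (Subgroup.mem_sup_right hc) hc.2).2⟩)) hz
  have hVn : F.IsFullyNormalized V := by
    refine ⟨hVT.trans hTS, fun Q hQ => ?_⟩
    obtain ⟨f, hf⟩ := isConj_iff.1 hQ
    have hfW : Iso F W (jA Q) f := hjV ▸ (mor_key hf).1
    obtain ⟨k, hk, hkW, -⟩ := exists_mor_to_fullyNormalized hS hF hWn (isConj_symm hfW.isConj)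
    have hQN : Q ≤ normalizerIn S (jA Q) := fun s hs =>
      ⟨hf.right_le hs, mem_normalizer_jA hf.right_le (hf.right_le hs) (Subgroup.le_normalizer hs)⟩
    have hNQ : normalizerIn S Q ≤ normalizerIn S (jA Q) := fun s hs =>
      ⟨hs.1, mem_normalizer_jA hf.right_le hs.1 hs.2⟩
    have hkf := hf.1.comp (hk.mono hQN) fun z hz => hf.mem hz
    have hkfV : ∀ z ∈ V, k (f z) ∈ V := hinvV hkf (hfW.comp hkW)
    have hQV : Iso F Q V k := ⟨hk.mono hQN, fun y => ⟨fun hy => by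
      obtain ⟨z, hz, hzy⟩ := hkf.surj_of_card (hVT.trans hTS) hkfV le_rfl hy
      exact ⟨f z, hf.mem hz, hzy⟩, fun ⟨z, hz, hzy⟩ => by
        obtain ⟨w, hw, rfl⟩ := hf.exists_eq hz
        exact hzy ▸ hkfV w hw⟩⟩
    haveI := finite_of_le (normalizerIn_le S V)
    exact (hk.mono hNQ).card_image_le (normalizerIn_le S V) fun s hs =>
      (hk.mono hNQ).mem_normalizerIn (le_normalizerIn hf.right_le) hQV hs hs.2
  have hVc := fullyCentralized_of_fullyNormalized hS hF hVn
  have hXV : X ≤ fixAt E F p hVT hT.1 := by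
    intro y hy
    by_cases hWJ : W = jA T
    · have hVJ : V = jA T := by
        rw [hVdef, hWJ]
        exact sup_eq_left.2 centralizerIn_jA_le
      have hgen : ∀ {A : Subgroup Ω} (hA : A ≤ T), A = jA T → y ∈ fixAt E F p hA hT.1 := by
        rintro A hA rfl; exact hXJ hy
      exact hgen hVT hVJ
    refine mem_fixAt_of_larger hS hF hE hT hp hVT hVn (hX hy) ?_ fun Q f hf hlt => ?_
    · rw [hkV, ← hkP]
      refine (key_lt_normalizer hS hTS hPT hWJ).trans_le
        (key_mono ((normalizerIn_le T V).trans hTS) fun t ht => ?_)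
      refine ⟨ht.1, ?_⟩
      have htS := hTS ht.1
      have hn : ∀ s ∈ S, s ∈ Subgroup.normalizer (W : Set Ω) → ∀ z ∈ V, s * z * s⁻¹ ∈ V :=
        fun s hs hsn => hinvV (mor_conj (hVT.trans hTS) hs)
          (iso_conj_self (hWP.trans hPn.1) hs hsn)
      refine Subgroup.mem_normalizer_iff.2 fun z => ⟨hn t htS ht.2 z, fun h => ?_⟩
      have h' := hn t⁻¹ (S.inv_mem htS) (Subgroup.inv_mem _ ht.2) _ h
      rwa [show t⁻¹ * (t * z * t⁻¹) * t⁻¹⁻¹ = z by group] at h'
    · exact cRel_mono (Subgroup.zpowers_le.2 hy) (hlarge Q f hf (hkV ▸ hlt))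
  -- the key step at `P`
  have hkey : CRel F X P (apl γ₁) := by
    haveI : Finite P := finite_of_le hPc.1
    haveI : Finite (MulAut P) := Finite.of_injective _ MulEquiv.toEquiv_injective
    set A := E.autGroup P
    let G : Subgroup A :=
      { carrier := {b | CRel F X P (apl (b : MulAut P))}
        mul_mem' := fun {b b'} h h' => CRel.congr ((subRel_cRel hXS).comp
          (hmorF (iso_apl hPT b'.2).1) h' (hmorF (iso_apl hPT b.2).1) h fun x hx => apl_mem _ hx)
          fun x hx => (apl_mul (b : MulAut P) b' hx)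
        one_mem' := ⟨hPT.trans hTX, fun x hx => by rw [Subgroup.coe_one, apl_one hx]; exact hTX (hPT hx),
          id, mor_id (sup_le hPc.1 hXS), fun x hx => (apl_one hx).symm, fun _ _ => rfl⟩
        inv_mem' := fun {b} h => (subRel_cRel hXS).inv (hisoF (iso_apl hPT b.2)) h
          (hisoF (iso_apl hPT (b⁻¹ : A).2)) fun x hx => apl_inv_apl (b : MulAut P) hx }
    suffices hG : G = ⊤ by
      have : (⟨γ₁, hγ₁⟩ : A) ∈ G := hG ▸ Subgroup.mem_top _
      exact this
    obtain ⟨-, Sy, hSy⟩ := hAut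
    -- automorphisms normalizing `Aut_T(P)` extend
    have hnorm : Subgroup.normalizer ((Sy : Subgroup A) : Set A) ≤ G := by
      intro b hb
      have hrec := receptive_of_fullyNormalized hTp hEs hPEn
      obtain ⟨k, hk, hkx⟩ := (isReceptive_iff.1 hrec).2 P _ (iso_apl hPT b.2)
      have hle : normalizerIn T P ≤ nPhi T P (apl (b : MulAut P)) := by
        intro t ht
        obtain ⟨c, hc⟩ := exists_mem_autInducedBy (P := P) ht.1 ht.2
        have hcA : c ∈ A := autInducedBy_le_autGroup hPT hc.1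
        have hcS : (⟨c, hcA⟩ : A) ∈ (Sy : Subgroup A) := by
          rw [hSy, Subgroup.mem_subgroupOf]; exact hc.1
        have h1 := (Subgroup.mem_normalizer_iff.1 hb _).1 hcS
        rw [hSy, Subgroup.mem_subgroupOf] at h1
        obtain ⟨s, hs, -, hsx⟩ := mem_autInducedBy_iff.1 h1
        refine ⟨ht.1, ht.2, s, hs, fun x hx => ?_⟩
        rw [← hsx _ (apl_mem (b : MulAut P) hx), ← hc.2 x hx]
        show _ = apl ((b : MulAut P) * c * (b : MulAut P)⁻¹) _
        rw [apl_mul _ _ (apl_mem _ hx), apl_inv_apl _ hx, apl_mul _ _ hx]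
      have hcard' : Nat.card R < Nat.card (normalizerIn T P) := by
        rw [hgP.card_eq]; exact card_lt_of_lt' (normalizerIn_le T P) (lt_normalizerIn hTp hPlt)
      have h2 := ((mor_subSys hM).1 (hbig _ k hcard' (hk.mono hle))).2.2.2 (by
        have := key_mono (S := S) ((normalizerIn_le T P).trans hTS) (le_normalizerIn hPT)
        omega)
      obtain ⟨-, -, j, hj, hjk, hjX⟩ := h2
      exact ⟨hPT.trans hTX, fun x hx => hTX (hPT (apl_mem _ hx)), j,
        hj.mono (sup_le_sup_right (le_normalizerIn hPT) _),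
        fun x hx => (hjk x (le_normalizerIn hPT hx)).trans (hkx x hx), hjX⟩
    -- the automorphisms with `IsDelta` extensions at `P` and at `V`
    let K₀ : Subgroup (MulAut P) := chainStab.subgroupOfFiniteSubmonoid
      { carrier := {b | (∃ δ, IsDelta E F P δ ∧ ∀ x ∈ P, apl δ x = apl b x) ∧
          ∃ δ, IsDelta E F V δ ∧ ∀ x ∈ V, apl δ x = apl b x}
        one_mem' := ⟨⟨1, IsDelta.one, fun x hx => by rw [apl_one hx, apl_one (Subgroup.mem_sup_left hx)]⟩,
          1, IsDelta.one, fun x hx => by rw [apl_one (hVP hx), apl_one (Subgroup.mem_sup_left hx)]⟩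
        mul_mem' := by
          rintro b b' ⟨⟨δ, hδ, hδb⟩, ε, hε, hεb⟩ ⟨⟨δ', hδ', hδb'⟩, ε', hε', hεb'⟩
          refine ⟨⟨δ * δ', hδ.mul hPc.1 hδ', fun x hx => ?_⟩, ε * ε', hε.mul hVc.1 hε', fun x hx => ?_⟩
          · rw [apl_mul _ _ (Subgroup.mem_sup_left hx), hδb' x hx, hδb _ (apl_mem _ hx),
              apl_mul _ _ hx]
          · have h1 : apl b' x ∈ V := by
              rw [← hεb' x hx]; exact (hε'.iso hVc.1 hEF hVT).mem hx
            rw [apl_mul _ _ (Subgroup.mem_sup_left hx), hεb' x hx, hεb _ h1,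
              apl_mul _ _ (hVP hx)] }
    let L : Subgroup A := Subgroup.normalClosure ((Sy : Subgroup A) : Set A)
    have hLK : L ≤ K₀.subgroupOf A := by
      refine (Subgroup.closure_le _).2 fun z hz => ?_
      obtain ⟨c, hc, hcz⟩ := Group.mem_conjugatesOfSet_iff.1 hz
      obtain ⟨b, hb⟩ := _root_.isConj_iff.1 hcz
      subst hb
      rw [hSy, SetLike.mem_coe, Subgroup.mem_subgroupOf] at hc
      obtain ⟨t, ht, htn, htx⟩ := mem_autInducedBy_iff.1 hc
      have hval : ∀ x ∈ P, apl ((b * c * b⁻¹ : A) : MulAut P) x =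
          apl (b : MulAut P) (t * apl (b : MulAut P)⁻¹ x * t⁻¹) := fun x hx => by
        rw [Subgroup.coe_mul, Subgroup.coe_mul, Subgroup.coe_inv, apl_mul _ _ hx,
          apl_mul _ _ (apl_mem _ hx), htx _ (apl_mem _ hx)]
      have hbi := hisoF (iso_apl hPT b.2)
      obtain ⟨δ, hδ, hδx⟩ := exists_delta_conj hS hF hE hT hPc hPT hTP
        ((mem_autGroup_iff hPc.1).2 hbi) ht htn
      have hbV : Iso F V V (apl (b : MulAut P)) := by
        have hm := hbi.1.mono hVP
        have hmem := hinvV hm (mor_key hbi).1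
        exact ⟨hm, fun y => ⟨fun hy => hm.surj_of_card hVc.1 hmem le_rfl hy,
          fun ⟨x, hx, hxy⟩ => hxy ▸ hmem x hx⟩⟩
      obtain ⟨bV, hbV', hbVx⟩ := hbV.exists_mem_autGroup
      have htV : t ∈ Subgroup.normalizer (V : Set Ω) := by
        have hn : ∀ s ∈ S, s ∈ Subgroup.normalizer (W : Set Ω) → ∀ z ∈ V, s * z * s⁻¹ ∈ V :=
          fun s hs hsn => hinvV (mor_conj hVc.1 hs) (iso_conj_self (hWP.trans hPn.1) hs hsn)
        have htW := mem_normalizer_jA hPn.1 (hTS ht) htn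
        refine Subgroup.mem_normalizer_iff.2 fun z => ⟨hn t (hTS ht) htW z, fun h => ?_⟩
        have h' := hn t⁻¹ (S.inv_mem (hTS ht)) (Subgroup.inv_mem _ htW) _ h
        rwa [show t⁻¹ * (t * z * t⁻¹) * t⁻¹⁻¹ = z by group] at h'
      obtain ⟨ε, hε, hεx⟩ := exists_delta_conj hS hF hE hT hVc hVT hTV hbV' ht htV
      refine Subgroup.mem_subgroupOf.2 ⟨⟨δ, hδ, fun x hx => (hδx x hx).trans (hval x hx).symm⟩,
        ε, hε, fun x hx => ?_⟩
      rw [hεx x hx, hval x (hVP hx)]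
      have hinv : apl bV⁻¹ x = apl (b : MulAut P)⁻¹ x := by
        conv_rhs => rw [← apl_apl_inv bV hx, hbVx _ (apl_mem _ hx),
          apl_inv_apl _ (hVP (apl_mem _ hx))]
      rw [hinv, hbVx _ ((Subgroup.mem_normalizer_iff.1 htV _).1
        (by rw [← hinv]; exact apl_mem _ hx))]
    haveI : Finite A := inferInstance
    have hLG : L ≤ G := by
      rw [← Subgroup.subgroupOf_eq_top]
      refine eq_top_of_coprime (p := p) (P := (Sy : Subgroup A).subgroupOf L)
        (fun l hl => hnorm (Subgroup.le_normalizer hl)) ?_ fun l hl => ?_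
      · rw [← Subgroup.inf_subgroupOf_right]
        exact (sylow_inter_normal Sy L).2
      -- elements of order prime to `p`
      obtain ⟨⟨δ, hδ, hδx⟩, ε, hε, hεx⟩ := Subgroup.mem_subgroupOf.1 (hLK l.2)
      set α : MulAut P := ((l : A) : MulAut P) with hαdef
      have hord : (orderOf α).Coprime p := by rwa [hαdef, Subgroup.orderOf_coe, Subgroup.orderOf_coe]
      have hNP : P ⊔ centralizerIn S P ≤ S := sup_le hPc.1 (centralizerIn_le S P)
      have hNV : V ⊔ centralizerIn S V ≤ S := sup_le hVc.1 (centralizerIn_le S V)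
      have hαV : ∀ x ∈ V, apl α x ∈ V := fun x hx => by
        rw [← hεx x hx]; exact (hε.iso hVc.1 hEF hVT).mem hx
      obtain ⟨i, hi, hix⟩ := exists_coprime_pow (p := p) hNP hPc.1 le_sup_left le_rfl hord hδx
        fun x hx => apl_mem α hx
      obtain ⟨j, hj, hjx⟩ := exists_coprime_pow (p := p) hNV hPc.1 le_sup_left hVP hord hεx hαV
      have hδ' := hδ.pow hPc.1 i
      have hε' := hε.pow hVc.1 j
      have hδi := iso_apl hNP hδ'.1
      have hPX : ∀ x ∈ X, x ∈ centralizerIn S P := fun x hx => centralizerIn_anti hPT (hX hx)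
      have hfixX : ∀ x ∈ X, apl (δ ^ i) x = x := by
        intro x hx
        have hxN : x ∈ P ⊔ centralizerIn S P := Subgroup.mem_sup_right (hPX x hx)
        have hxV : x ∈ centralizerIn S V := centralizerIn_anti hVP (hPX x hx)
        have hεfix : apl (ε ^ j) x = x := (hXV hx).2 _ hε' hj
        have hεi := iso_apl hNV (inv_mem hε'.1)
        have hεfix' : apl (ε ^ j)⁻¹ x = x := by
          conv_lhs => rw [← hεfix]
          exact apl_inv_apl _ (Subgroup.mem_sup_right hxV)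
        have hεV : ∀ z ∈ V, apl (ε ^ j)⁻¹ z ∈ V ∧ apl α (apl (ε ^ j)⁻¹ z) = z := fun z hz => by
          obtain ⟨v, hv, rfl⟩ := (hε'.iso hVc.1 hEF hVT).exists_eq hz
          rw [apl_inv_apl _ (Subgroup.mem_sup_left hv)]
          exact ⟨hv, (hjx v hv).symm⟩
        have hle : V ⊔ Subgroup.zpowers x ≤ V ⊔ centralizerIn S V :=
          sup_le_sup_left (Subgroup.zpowers_le.2 hxV) V
        have hdom : ∀ z ∈ V ⊔ Subgroup.zpowers x, apl (ε ^ j)⁻¹ z ∈ P ⊔ centralizerIn S P :=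
          fun z hz => (hεi.1.mono hle).mem_of_sup
            (fun w hw => Subgroup.mem_sup_left (hVP (hεV w hw).1)) (fun w hw => by
              obtain ⟨k, rfl⟩ := Subgroup.mem_zpowers_iff.1 hw
              rw [mor_map_zpow hεi.1 (Subgroup.mem_sup_right hxV), hεfix']
              exact Subgroup.zpow_mem _ hxN k) hz
        have hm := (hεi.1.mono hle).comp hδi.1 hdom
        have hmV : ∀ z ∈ V, (apl (δ ^ i) ∘ apl (ε ^ j)⁻¹) z = z := fun z hz => by
          show apl (δ ^ i) (apl (ε ^ j)⁻¹ z) = z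
          rw [hix _ (hVP (hεV z hz).1), (hεV z hz).2]
        have hwF : x⁻¹ * apl (δ ^ i) x ∈ cFoc F hVc.1 := by
          have h := quot_mem_focal (F := centralizerSys F hVc.1) (mor_cSys.2 ⟨hm.mono le_sup_right,
            Subgroup.zpowers_le.2 hxV, fun w hw => hm.mem_centralizerIn le_sup_left
              ⟨hm.mono le_sup_left, fun v => ⟨fun hv => ⟨v, hv, hmV v hv⟩,
                fun ⟨v', hv', hvv⟩ => hvv ▸ (hmV v' hv').symm ▸ hv'⟩⟩
              (Subgroup.mem_sup_right hw) (Subgroup.zpowers_le.2 hxV hw).2,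
            _, hm.mono (sup_le le_sup_right le_sup_left), fun _ _ => rfl, hmV⟩)
            (Subgroup.mem_zpowers x)
          rwa [Function.comp_apply, hεfix'] at h
        have hwP : x⁻¹ * apl (δ ^ i) x ∈ P := hδ'.2.2 x (hPX x hx)
        have hwC : x⁻¹ * apl (δ ^ i) x ∈ centralizerIn S P :=
          Subgroup.mul_mem _ (Subgroup.inv_mem _ (hPX x hx))
            (hδi.1.mem_centralizerIn le_sup_left (hδ'.iso hPc.1 hEF hPT) hxN (hPX x hx).2)
        have hwV : x⁻¹ * apl (δ ^ i) x ∈ V :=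
          Subgroup.mem_sup_right ⟨hPT hwP, (centralizerIn_anti hWP hwC).2⟩
        refine apl_eq_of_fixed_diff hS hNP hi hxN ?_
        rw [hix _ hwP, ← hjx _ hwV]
        exact fix_cFoc hS hF hVc hε'.1 (hε'.iso hVc.1 hEF hVT) hε'.2.2 hj hwF
      refine Subgroup.mem_subgroupOf.2 ⟨hPT.trans hTX, fun z hz => hTX (hPT (apl_mem _ hz)),
        apl (δ ^ i), hδi.1.mono (sup_le le_sup_left fun x hx => Subgroup.mem_sup_right (hPX x hx)),
        hix, hfixX⟩
    exact top_le_iff.1 ((Sy.normalizer_sup_eq_top' (N := L) Subgroup.le_normalClosure).ge.trans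
      (sup_le hnorm hLG))
  -- back to `R₀`
  obtain ⟨δ, hδ, hδT, hδa⟩ := exists_ext hS hF hTc ha
  have hNT : T ⊔ centralizerIn S T ≤ S := sup_le hTS (centralizerIn_le S T)
  have hN := iso_apl hNT hδ
  obtain ⟨k, hk, hkδ, hδk⟩ := hN.symm
  have hXN : X ≤ T ⊔ centralizerIn S T := hX.trans le_sup_right
  have hXX : ∀ x ∈ X, apl δ x ∈ X := fun x hx => hXinv δ hδ x hx
  obtain ⟨hγ1a, hγ1b, j, hj, hjγ, hjX⟩ := hkey
  have hδR : ∀ z ∈ R₀ ⊔ X, apl δ z ∈ P ⊔ X := fun z hz => (hN.1.mono (sup_le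
      (hR₀T.trans le_sup_left) hXN)).mem_of_sup
    (fun w hw => Subgroup.mem_sup_left (by rw [hδa w (hR₀T hw)]; exact haR₀.mem hw))
    (fun w hw => Subgroup.mem_sup_right (hXX w hw)) hz
  have hjN : ∀ z ∈ P ⊔ X, j z ∈ T ⊔ centralizerIn S T := fun z hz => hj.mem_of_sup
    (fun w hw => Subgroup.mem_sup_left (by rw [hjγ w hw]; exact hPT (apl_mem γ₁ hw)))
    (fun w hw => Subgroup.mem_sup_right (by rw [hjX w hw]; exact hX hw)) hz
  have hγ₀C : CRel F X R₀ (apl γ₀) := by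
    refine ⟨hR₀T.trans hTX, fun x hx => hTX (hR₀T (apl_mem γ₀ hx)), _,
      (((hN.1.mono (sup_le (hR₀T.trans le_sup_left) hXN)).comp hj hδR).comp hk.1
        fun z hz => hjN _ (hδR z hz)), fun x hx => ?_, fun x hx => ?_⟩
    · show k (j (apl δ x)) = _
      have hxP := haR₀.mem hx
      rw [hδa x (hR₀T hx), hjγ _ hxP, hγ₁x _ hxP, apl_inv_apl a (hR₀T hx),
        ← hδa _ (hR₀T (apl_mem γ₀ hx)), hkδ _ (Subgroup.mem_sup_left (hR₀T (apl_mem γ₀ hx)))]
    · show k (j (apl δ x)) = x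
      rw [hjX _ (hXX x hx), hkδ x (hXN hx)]
  have heR : CRel F X R e := by
    obtain ⟨h1, h2, j, hj, hje, hjX⟩ := heC
    exact ⟨hRN.trans h1, fun x hx => h2 x (hRN hx), j, hj.mono (sup_le_sup_right hRN _),
      fun x hx => hje x (hRN hx), hjX⟩
  have hS' := subRel_cRel (F := F) hXS
  have he'C : CRel F X R₀ e' := hS'.inv (hisoF hR₀) heR (hisoF he') he'e
  have h1 := hS'.comp (hmorF hR₀.1) heR (hmorF (iso_apl hR₀T hγ₀).1) hγ₀C fun x hx => hR₀.mem hx
  have h2 := hS'.comp ((hmorF hR₀.1).comp (hmorF (iso_apl hR₀T hγ₀).1) fun x hx => hR₀.mem hx) h1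
    (hmorF he'.1) he'C fun x hx => apl_mem γ₀ (hR₀.mem hx)
  refine CRel.congr h2 fun x hx => ?_
  show apl γ x = e' (apl γ₀ (e x))
  rw [hγ₀x _ (hR₀.mem hx)]
  show _ = e' (e (apl γ (e' (e x))))
  rw [he'e x hx, he'e _ (apl_mem γ hx)]

end Cfsg.Agent.FusSys.CentE
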