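import Cfsg.Agent.FusSys.InvariantOp

/-!
The `p'`-residual of a weakly normal subsystem lies in every weakly normal subsystem over the same
subgroup.
-/

set_option autoImplicit false
set_option linter.unusedSectionVars false

namespace Cfsg.Agent.FusSys

open Cfsg Cfsg.FusionSystem

universe u

variable {Ω : Type u} [Group Ω] {S T P Q R : Subgroup Ω} {F : FusionSystem S} {E D : FusionSystem T}
variable {f g : Ω → Ω} {p : ℕ}

theorem conj_mem_aut (hE : E.IsInvariantIn F) {b α : MulAut T} (hb : b ∈ F.autGroup T)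
    (hα : α ∈ E.autGroup T) : b * α * b⁻¹ ∈ E.autGroup T := by
  have hi := iso_apl hE.2.1.1 hb
  have e : hi.conjAut α = b * α * b⁻¹ := apl_ext fun y hy => by
    conv_lhs => rw [← apl_apl_inv b hy]
    rw [hi.conjAut_apl α (apl_mem _ hy), apl_mul _ _ hy, apl_mul _ _ (apl_mem _ hy)]
  exact e ▸ conjAut_mem_of_isInvariant hE le_rfl hi hα

variable [Finite S] [Fact p.Prime] (hS : IsPGroup p S)

include hS

/-- The `p`-elements of the automorphism groups of one weakly normal subsystem lie in every other. -/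
theorem aut_pElement_mem (hE : E.IsWeaklyNormalIn F p) (hD : D.IsWeaklyNormalIn F p) (hR : R ≤ T)
    {α : MulAut R} (hα : α ∈ E.autGroup R) {k : ℕ} (hk : α ^ p ^ k = 1) : α ∈ D.autGroup R := by
  have hF := hE.2.1
  have hTS := hE.2.2.2.1.1
  obtain ⟨Q, g, hQn, -, hg, -⟩ := exists_fullyNormalized_mor hS hF (hR.trans hTS)
  have hQT : Q ≤ T := fun y hy => by
    obtain ⟨x, hx, rfl⟩ := hg.exists_eq hy
    exact StronglyClosed.mor_mem hE.2.2.2.1 hg.1 hx (hR hx)
  obtain ⟨b, hb, t, ht, htx⟩ := exists_conj_pElement hS hF hE hQT hQn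
    (conjAut_mem_of_isInvariant hE.2.2 hR hg hα) (k := k) (by rw [← map_pow, hk, map_one])
  have h1 : b * hg.conjAut α * b⁻¹ ∈ D.autGroup Q :=
    (mem_autGroup_iff hQT).2 ((iso_conj_self hQT ht.1 ht.2).congr htx)
  have hi : Iso F Q Q (apl b⁻¹) :=
    iso_apl hQn.1 (Subgroup.inv_mem _ (autGroup_le_of_invariant hE.2.2 hb))
  have e : hi.conjAut (b * hg.conjAut α * b⁻¹) = hg.conjAut α := apl_ext fun y hy => by
    conv_lhs => rw [← apl_inv_apl b hy]
    rw [hi.conjAut_apl _ (apl_mem _ hy), ← apl_mul _ _ (apl_mem _ hy), ← apl_mul _ _ hy]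
    exact congrArg (fun c : MulAut Q => apl c y) (by group)
  have h2 : hg.conjAut α ∈ D.autGroup Q := e ▸ conjAut_mem_of_isInvariant hD.2.2 hQT hi h1
  obtain ⟨g', hg', hg'g, -⟩ := hg.symm
  have e2 : hg'.conjAut (hg.conjAut α) = α := apl_ext fun x hx => by
    conv_lhs => rw [← hg'g x hx]
    rw [hg'.conjAut_apl _ (hg.mem hx), hg.conjAut_apl α hx, hg'g _ (apl_mem α hx)]
  exact e2 ▸ conjAut_mem_of_isInvariant hD.2.2 hQT hg' h2

theorem minOp_le_weak (hE : E.IsWeaklyNormalIn F p) (hD : D.IsWeaklyNormalIn F p) :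
    minOp E p ≤ D := minOp_le_of fun R hR => by
  rw [opPrime, MonoidHom.map_closure, Subgroup.closure_le]
  rintro _ ⟨⟨α, hα⟩, ⟨k, hk⟩, rfl⟩
  rw [Subgroup.orderOf_mk] at hk
  exact aut_pElement_mem hS hE hD hR.1 hα (k := k) (show α ^ p ^ k = 1 by rw [← hk, pow_orderOf_eq_one])

/-- Two weakly normal subsystems over the same subgroup have the same least subsystem. -/
theorem minOp_le_minOp (hE : E.IsWeaklyNormalIn F p) (hD : D.IsWeaklyNormalIn F p) :
    minOp E p ≤ minOp D p := minOp_le_of fun R hR => by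
  rw [opPrime, MonoidHom.map_closure, Subgroup.closure_le]
  rintro _ ⟨⟨α, hα⟩, ⟨k, hk⟩, rfl⟩
  rw [Subgroup.orderOf_mk] at hk
  exact Subgroup.subset_closure ((mor_minOp_of_mem (centric_transfer hD.2.2 hE.2.2 hR)
    (mem_opPrime (aut_pElement_mem hS hE hD hR.1 hα (k := k) (show α ^ p ^ k = 1 by rw [← hk, pow_orderOf_eq_one]))
      (k := k) hk)).hom_eq fun x => (apl_coe α x).symm)

theorem pow_mem_inf (hE : E.IsWeaklyNormalIn F p) (hD : D.IsWeaklyNormalIn F p) {γ : MulAut T}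
    (hγ : γ ∈ E.autGroup T ⊔ D.autGroup T) {k : ℕ}
    (hk : γ ^ p ^ k ∈ E.autGroup T ⊓ D.autGroup T) : γ ∈ E.autGroup T ⊓ D.autGroup T := by
  have hTS := hE.2.2.2.1.1
  have := finite_of_le hTS
  have hTp : IsPGroup p T := hS.to_le hTS
  have hle : E.autGroup T ≤ Subgroup.normalizer (D.autGroup T : Set (MulAut T)) :=
    Subgroup.le_normalizer_iff.2 fun a ha d hd =>
      conj_mem_aut hD.2.2 (autGroup_le_of_invariant hE.2.2 ha) hd
  have hγ' : γ ∈ ((E.autGroup T ⊔ D.autGroup T : Subgroup (MulAut T)) : Set (MulAut T)) := hγ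
  rw [Subgroup.coe_mul_of_left_le_normalizer_right _ _ hle] at hγ'
  obtain ⟨a, ha, d, hd, rfl⟩ := hγ'
  have hdF := autGroup_le_of_invariant hD.2.2 hd
  have haF := autGroup_le_of_invariant hE.2.2 ha
  have hA : ∀ j : ℕ, (a * d) ^ j * (a ^ j)⁻¹ ∈ D.autGroup T := by
    intro j
    induction j with
    | zero => simp
    | succ j ih =>
      rw [show (a * d) ^ (j + 1) * (a ^ (j + 1))⁻¹ = a * (d * ((a * d) ^ j * (a ^ j)⁻¹)) * a⁻¹ by
        rw [pow_succ' (a * d), pow_succ' a]; group]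
      exact conj_mem_aut hD.2.2 haF (Subgroup.mul_mem _ hd ih)
  have hB : ∀ j : ℕ, (a * d) ^ j * (d ^ j)⁻¹ ∈ E.autGroup T := by
    intro j
    induction j with
    | zero => simp
    | succ j ih =>
      rw [show (a * d) ^ (j + 1) * (d ^ (j + 1))⁻¹ = a * (d * ((a * d) ^ j * (d ^ j)⁻¹) * d⁻¹) by
        rw [pow_succ' (a * d), pow_succ' d]; group]
      exact Subgroup.mul_mem _ ha (conj_mem_aut hE.2.2 hdF ih)
  obtain ⟨m, hm, hma⟩ := exists_pow_mem_inn hTp hE.1 ha
  obtain ⟨l, hl, hld⟩ := exists_pow_mem_inn hTp hD.1 hd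
  refine mem_of_coprime_pows (p := p) (m := m * l)
    (fun h => ((Nat.Prime.dvd_mul Fact.out).1 h).elim hm hl) hk ⟨?_, ?_⟩
  · have h1 := Subgroup.mul_mem _ (hB l) (inn_le_autGroup le_rfl hld)
    rw [inv_mul_cancel_right] at h1
    rw [mul_comm m l, pow_mul]
    exact Subgroup.pow_mem _ h1 m
  · have h1 := Subgroup.mul_mem _ (hA m) (inn_le_autGroup le_rfl hma)
    rw [inv_mul_cancel_right] at h1
    rw [pow_mul]
    exact Subgroup.pow_mem _ h1 l

theorem mem_left_step (hE : E.IsWeaklyNormalIn F p) (hD : D.IsWeaklyNormalIn F p)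
    (hR : E.IsCentric R) (hRN : R < normalizerIn T R) {γ : MulAut T}
    (hγ : γ ∈ E.autGroup T ⊔ D.autGroup T) (hm : Mor (minOp E p) R (apl γ))
    (hbig : ∀ M : Subgroup Ω, E.IsCentric M → Nat.card R < Nat.card M →
      ∀ w ∈ E.autGroup T ⊔ D.autGroup T, Mor (minOp E p) M (apl w) →
        w ∈ E.autGroup T ⊓ D.autGroup T) :
    γ ∈ E.autGroup T := by
  have hTS := hE.2.2.2.1.1
  have := finite_of_le hTS
  have hTp : IsPGroup p T := hS.to_le hTS
  have hW : E.autGroup T ⊔ D.autGroup T ≤ F.autGroup T :=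
    sup_le (autGroup_le_of_invariant hE.2.2) (autGroup_le_of_invariant hD.2.2)
  obtain ⟨ε, δ, n, hε, hδ, hδn, hγε⟩ :=
    exists_split hS hE hR hRN (hW hγ) (le_iff_mor.1 minOp_le R _ hm)
  have hNT : normalizerIn T R ≤ T := inf_le_left
  obtain ⟨a, ha, m, hm', hεm⟩ := frattini_minOp hTp hE.1 (normalizerIn T R) ε hε
  obtain ⟨M, hM⟩ := hm'.exists_iso
  obtain ⟨m', hm'i, hm'm, -⟩ := hM.symm
  have hw : a⁻¹ * γ ∈ E.autGroup T ⊔ D.autGroup T :=
    Subgroup.mul_mem _ (Subgroup.mem_sup_left (Subgroup.inv_mem _ ha)) hγ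
  have hI := minOp_isInvariantIn hS hE
  have hval : ∀ x ∈ (normalizerIn T R), apl (a⁻¹ * γ) x = m (apl δ x) := fun x hx => by
    rw [apl_mul _ _ (hNT hx), hγε x hx, hεm _ (apl_mem δ hx),
      apl_inv_apl a (hm'.mem_S (apl_mem δ hx))]
  have hδd : Dec (minOp E p) F (normalizerIn T R) (apl δ) (a⁻¹ * γ) := by
    have h := ((dec_apl hNT (hW hw)).comp hI (dec_mor hm'i.1) fun x hx =>
      (hval x hx).symm ▸ hM.mem (apl_mem δ hx)).congr (f' := apl δ) fun x hx => by
        show apl δ x = m' (apl (a⁻¹ * γ) x)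
        rw [hval x hx, hm'm _ (apl_mem δ hx)]
    rwa [one_mul] at h
  have hpow : ∀ j : ℕ, Dec (minOp E p) F (normalizerIn T R) (apl (δ ^ j)) ((a⁻¹ * γ) ^ j) := by
    intro j
    induction j with
    | zero =>
      rw [pow_zero, pow_zero]
      exact (dec_mor (mor_id hNT)).congr fun x hx => apl_one hx
    | succ j ih =>
      rw [pow_succ', pow_succ']
      exact (ih.comp hI hδd fun x hx => apl_mem _ hx).congr fun x hx => apl_mul δ _ hx
  obtain ⟨-, e, he, hid⟩ := hpow (p ^ n)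
  obtain ⟨M', hM'⟩ := he.exists_iso
  obtain ⟨e', he', he'e, -⟩ := hM'.symm
  have hm2 : Mor (minOp E p) M' (apl ((a⁻¹ * γ) ^ p ^ n)) := he'.1.congr fun y hy => by
    obtain ⟨x, hx, rfl⟩ := hM'.exists_eq hy
    rw [← hid x hx, hδn, apl_one hx, he'e x hx]
  have hcard : Nat.card R < Nat.card M' := hM'.card_eq ▸ card_lt_of_lt' (hNT.trans hTS) hRN
  have hcM : E.IsCentric M' := centric_of_isConj (centric_of_le hR hRN.le hNT)
    (show Iso E (normalizerIn T R) M' e from ⟨le_iff_mor.1 minOp_le (normalizerIn T R) e he, hM'.2⟩).isConj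
  have hwL := pow_mem_inf hS hE hD hw (hbig M' hcM hcard _ (Subgroup.pow_mem _ hw _) hm2)
  simpa using Subgroup.mul_mem _ ha hwL.1

theorem mem_inf_of_mor_minOp (hE : E.IsWeaklyNormalIn F p) (hD : D.IsWeaklyNormalIn F p)
    {γ : MulAut T} (hγ : γ ∈ E.autGroup T ⊔ D.autGroup T) (hR : E.IsCentric R)
    (hm : Mor (minOp E p) R (apl γ)) : γ ∈ E.autGroup T ⊓ D.autGroup T := by
  have hTS := hE.2.2.2.1.1
  have := finite_of_le hTS
  have hTp : IsPGroup p T := hS.to_le hTS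
  suffices H : ∀ d, ∀ R : Subgroup Ω, Nat.card T - Nat.card R = d → E.IsCentric R →
      ∀ γ ∈ E.autGroup T ⊔ D.autGroup T, Mor (minOp E p) R (apl γ) →
        γ ∈ E.autGroup T ⊓ D.autGroup T from H _ R rfl hR γ hγ hm
  intro d
  induction d using Nat.strong_induction_on with
  | _ d ih =>
  intro R hd hR γ hγ hm
  have hW : E.autGroup T ⊔ D.autGroup T ≤ F.autGroup T :=
    sup_le (autGroup_le_of_invariant hE.2.2) (autGroup_le_of_invariant hD.2.2)
  by_cases hRT : R = T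
  · subst hRT
    exact ⟨(mem_autGroup_iff le_rfl).2 ⟨le_iff_mor.1 minOp_le _ _ hm, (iso_apl hTS (hW hγ)).2⟩,
      (mem_autGroup_iff le_rfl).2 ⟨le_iff_mor.1 (minOp_le_weak hS hE hD) _ _ hm,
        (iso_apl hTS (hW hγ)).2⟩⟩
  have hRN : R < normalizerIn T R := lt_normalizerIn hTp (lt_of_le_of_ne hR.1 hRT)
  have hbig : ∀ M : Subgroup Ω, E.IsCentric M → Nat.card R < Nat.card M →
      ∀ w ∈ E.autGroup T ⊔ D.autGroup T, Mor (minOp E p) M (apl w) →
        w ∈ E.autGroup T ⊓ D.autGroup T := fun M hM hlt w hw hwm => by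
    have h2 : Nat.card ↥M ≤ Nat.card ↥T := Subgroup.card_le_of_le hM.1
    exact ih _ (by omega) M rfl hM w hw hwm
  refine ⟨mem_left_step hS hE hD hR hRN hγ hm hbig, mem_left_step hS hD hE
    (centric_transfer hD.2.2 hE.2.2 hR) hRN (sup_comm (E.autGroup T) _ ▸ hγ)
    (le_iff_mor.1 (minOp_le_minOp hS hE hD) _ _ hm) fun M hM hlt w hw hwm => ?_⟩
  rw [sup_comm] at hw
  rw [inf_comm]
  exact hbig M (centric_transfer hE.2.2 hD.2.2 hM) hlt w hw
    (le_iff_mor.1 (minOp_le_minOp hS hD hE) _ _ hwm)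

/-- The least subsystem of index prime to `p` lies in every weakly normal subsystem. -/
theorem clsSys_le_weak [Finite T] (hE : E.IsWeaklyNormalIn F p) (hD : D.IsWeaklyNormalIn F p) :
    (clsSys (goodGam_gamMin (F := E) (p := p))).IsSubsystemOf D := by
  have hgam : gamMin E p ≤ D.autGroup T := by
    refine (Subgroup.closure_le _).2 ?_
    rintro β ⟨hβ, R, hR, hm⟩
    exact (mem_inf_of_mor_minOp hS hE hD (Subgroup.mem_sup_left hβ) hR hm).2
  refine isSubsystemOf_iff_mor.2 fun P f h => ?_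
  obtain ⟨-, γ, hγ, e, he, hef⟩ := (mor_clsSys _).1 h
  exact ((le_iff_mor.1 (minOp_le_weak hS hE hD) P e he).comp (iso_apl le_rfl (hgam hγ)).1
    fun x hx => he.mem_S hx).congr fun x hx => by rw [hef x hx, one_mul]; rfl

end Cfsg.Agent.FusSys
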