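import Cfsg.Agent.FusSys.ResidualExt
import Cfsg.Agent.FusSys.ResidualWeak

/-!
The `p'`-residual of a weakly normal subsystem is normal.
-/

set_option autoImplicit false
set_option linter.unusedSectionVars false

namespace Cfsg.Agent.FusSys

open Cfsg Cfsg.FusionSystem

universe u

variable {Ω : Type u} [Group Ω] {S T P Q R : Subgroup Ω} {F : FusionSystem S} {E : FusionSystem T}
variable {f g : Ω → Ω} {p : ℕ}

variable [Finite S] [Finite T] [Fact p.Prime] (hS : IsPGroup p S) (hE : E.IsWeaklyNormalIn F p)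
include hS hE

theorem conj_mem_gamMin {b γ : MulAut T} (hb : b ∈ F.autGroup T) (hγ : γ ∈ gamMin E p) :
    b * γ * b⁻¹ ∈ gamMin E p := by
  have hle : gamMin E p ≤ (gamMin E p).comap (MulAut.conj b).toMonoidHom := by
    refine (Subgroup.closure_le _).2 ?_
    rintro β ⟨hβ, R, hR, hm⟩
    have hi : Iso F R ((R.subgroupOf T).map (T.subtype.comp b.toMonoidHom)) (apl b) :=
      ⟨(iso_apl hE.2.2.2.1.1 hb).1.mono hR.1, fun y => map_apl_eq hR.1⟩
    obtain ⟨h, hh, hhx⟩ := transInv_minOp' hE.2.2 hm hb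
    refine Subgroup.subset_closure ⟨conj_mem_aut hE.2.2 hb hβ, _, centric_of_mor hE.2.2 hR hi,
      hh.congr fun y hy => ?_⟩
    obtain ⟨x, hx, rfl⟩ := (map_apl_eq hR.1).1 hy
    show apl (b * β * b⁻¹) (apl b x) = _
    rw [apl_mul _ _ (apl_mem b (hR.1 hx)), apl_inv_apl b (hR.1 hx), apl_mul _ _ (hR.1 hx),
      hhx x hx]
  exact hle hγ

theorem pPrimeResidual_normal :
    (clsSys (goodGam_gamMin (F := E) (p := p))).IsNormalIn F p := by
  have hTp : IsPGroup p T := hS.to_le hE.2.2.2.1.1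
  have hI := hE.2.2
  have hG := goodGam_gamMin (F := E) (p := p)
  have hsub : (clsSys hG).IsSubsystemOf F := fun P φ hφ => hI.1 P (clsSys_le hG P hφ)
  refine ⟨⟨clsSys_saturated hG hTp hE.1, hE.2.1, hsub, hI.2.1, ?_, ?_⟩, fun α hα => ?_⟩
  · intro P hP φ hφ b hb
    obtain ⟨-, γ, hγ, e, he, hef⟩ := (mor_clsSys hG).1 (mor_extendFn hφ)
    obtain ⟨h, hh, hhx⟩ := transInv_minOp' hI he hb
    have hmor : Mor (clsSys hG) ((P.subgroupOf T).map (T.subtype.comp b.toMonoidHom))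
        (apl (b * γ * b⁻¹) ∘ h) := (mor_clsSys hG).2 ⟨Subgroup.one_mem _, b * γ * b⁻¹,
      conj_mem_gamMin hS hE hb hγ, h, hh, fun x _ => by rw [one_mul]; rfl⟩
    obtain ⟨χ, hχ, hχx⟩ := hmor
    refine ⟨χ, hχ, fun x hφx hαx => ?_⟩
    rw [hχx]
    show apl (b * γ * b⁻¹) (h ((b ⟨x, hP x.2⟩ : T) : Ω)) = _
    have hex : e x ∈ T := he.mem_S x.2
    rw [← apl_apply b (hP x.2), hhx x x.2, apl_mul _ _ (apl_mem b hex), apl_inv_apl b hex,
      apl_mul _ _ hex, ← apl_apply b hφx]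
    have h1 := hef x x.2
    rw [one_mul, extendFn_coe] at h1
    rw [← h1]
  · intro P hP φ hφ
    obtain ⟨a, ha, e, he, hfe⟩ := exists_frattini hI hP (mor_extendFn hφ)
    obtain ⟨a', ha', m, hm, hem⟩ := frattini_minOp hTp hE.1 P e he
    obtain ⟨χ, hχ, hχm⟩ := le_iff_mor.1 (minOp_le_clsSys hG) P m hm
    refine ⟨a * a', Subgroup.mul_mem _ ha (autGroup_le_of_invariant hI ha'), χ, hχ, fun x hx => ?_⟩
    rw [← apl_apply _ hx, hχm x, apl_mul _ _ (hm.mem_S x.2), ← hem x x.2, ← hfe x x.2, extendFn_coe]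
  · have hαE : α ∈ E.autGroup T := autGroup_mono_of_le (clsSys_le hG) hα
    have h1 := (mor_clsSys hG).1 (iso_apl le_rfl hα).1
    have h2 := h1.unique hG (cls_apl le_rfl hαE) (centric_top E)
    rw [inv_one, one_mul] at h2
    obtain ⟨-, -, hext⟩ := gamMin_le_extAut hS hE h2
    obtain ⟨k, hk, hkα, hkc⟩ := hext (centric_top E)
    have hTS := hI.2.1.1
    have hi : Iso F T T k := (iso_apl hTS (autGroup_le_of_invariant hI hαE)).congr hkα
    obtain ⟨β, hβ, hβk⟩ := (iso_core_of_mor hk le_rfl hi).exists_mem_autGroup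
    refine ⟨β, hβ, fun x => ?_, fun c hc => ?_⟩
    · rw [← apl_coe, ← apl_coe]
      show apl β x = apl α x
      rw [hβk x (Subgroup.mem_sup_left x.2), hkα x x.2]
    · rw [← apl_coe, hβk c c.2]
      refine ⟨hkc c hc, Subgroup.mul_mem _ (Subgroup.inv_mem _ hc.2) ?_⟩
      exact (hk.mem_centralizerIn le_sup_left hi c.2 hc.2).2

end Cfsg.Agent.FusSys
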