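import Cfsg.Agent.FusSys.CentE
import Cfsg.Agent.FusSys.PPowerNormal
import Cfsg.Agent.FusSys.ResidualNormal
import Cfsg.Agent.FusSys.PPowerIndex

/-!
The centralizer subsystem of a normal subsystem `E`: a normal subsystem over `C_S(E)` inside
`C_F(T)`.
-/

set_option autoImplicit false

namespace Cfsg.Agent.FusSys.CentE

open Cfsg Cfsg.FusionSystem Cfsg.Agent.FusSys Cfsg.Agent.FusSys.CentFocal

universe u

variable {Ω : Type u} [Group Ω] {S T : Subgroup Ω} {F : FusionSystem S} {E : FusionSystem T}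
variable {p : ℕ} [Fact p.Prime] [Finite S] (hS : IsPGroup p S) (hF : F.IsSaturated p)
include hS hF

/-- A saturated subsystem of `p`-power index of `C_F(T)` over `C_S(E)` is weakly normal in `F`. -/
theorem weaklyNormal_centSys (hE : E.IsNormalIn F p) (hT : F.StronglyClosed T)
    {D : FusionSystem (cE E F p hT.1)} (hDs : D.IsSaturated p)
    (hDi : D.HasPPowerIndexIn (centralizerSys F hT.1) p) : D.IsWeaklyNormalIn F p := by
  classical
  have hTfn : F.IsFullyNormalized T := ⟨hT.1, fun Q _ => by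
    rw [show normalizerIn S T = S from
      le_antisymm inf_le_left fun s hs => ⟨hs, StronglyClosed.le_normalizer hT hs⟩]
    exact Subgroup.card_le_of_le inf_le_left⟩
  have hTc := fullyCentralized_of_fullyNormalized hS hF hTfn
  have hG₀s : (centralizerSys F hT.1).IsSaturated p :=
    centralizerSystem_saturated hS hF hTc (isCentralizerSystem_centralizerSys hT.1)
  have hCS₀ : (cE E F p hT.1) ≤ centralizerIn S T := cE_le hT.1
  have hS₀S : centralizerIn S T ≤ S := centralizerIn_le S T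
  have hCS : (cE E F p hT.1) ≤ S := hCS₀.trans hS₀S
  haveI := finite_of_le hS₀S
  haveI := finite_of_le hCS
  have hS₀p : IsPGroup p (centralizerIn S T) := hS.to_le hS₀S
  have hCp : IsPGroup p (cE E F p hT.1) := hS.to_le hCS
  have hDn : D.IsInvariantIn (centralizerSys F hT.1) := (PPI.normal_of_pPowerIndex hS₀p hG₀s hCS₀
    (fun s hs x hx => conj_mem_cE hS hF hT (hS₀S hs) hx) hDs hDi).1.2.2
  have hDG : ∀ P f, Mor D P f → Mor (centralizerSys F hT.1) P f := isSubsystemOf_iff_mor.1 hDi.1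
  have hsc := stronglyClosed_cE hS hF hE hT
  refine ⟨hDs, hF, isSubsystemOf_iff_mor.2 fun P f hf => (mor_cSys.1 (hDG P f hf)).1, hsc, ?_, ?_⟩
  · intro P hP φ hφ α hα
    have hαi := iso_apl hCS hα
    obtain ⟨g, hg, hgα⟩ := extT_all hS hF hE hT hαi.1 (cE E F p hT.1) le_rfl le_rfl
    have hgN : ∀ x ∈ (cE E F p hT.1) ⊔ T, g x ∈ (cE E F p hT.1) ⊔ T := fun x hx => hg.mem_of_sup
      (fun a ha => Subgroup.mem_sup_left (by rw [hgα a ha]; exact apl_mem α ha))
      (fun a ha => Subgroup.mem_sup_right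
        (StronglyClosed.mor_mem hT hg (Subgroup.mem_sup_right ha) ha)) hx
    have hNS : (cE E F p hT.1) ⊔ T ≤ S := sup_le hCS hT.1
    have hgi : Iso F ((cE E F p hT.1) ⊔ T) ((cE E F p hT.1) ⊔ T) g := ⟨hg, fun y => ⟨fun hy => hg.surj_of_card hNS hgN le_rfl hy,
      fun ⟨x, hx, hxy⟩ => hxy ▸ hgN x hx⟩⟩
    obtain ⟨g', hg', hg'g, hgg'⟩ := hgi.symm
    have hgT : Iso F T T g := StronglyClosed.iso_self hT hg le_sup_right
    have hg'C : ∀ y ∈ (cE E F p hT.1), g' y = apl α⁻¹ y := fun y hy => by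
      have hz := apl_mem α⁻¹ hy
      have h := hg'g _ (Subgroup.mem_sup_left hz)
      rwa [hgα _ hz, apl_apl_inv α hy] at h
    set M : Subgroup Ω → (Ω → Ω) → Prop := fun P f => P ≤ (cE E F p hT.1) ∧ (∀ x ∈ P, f x ∈ (cE E F p hT.1)) ∧
      ∀ R, Iso F P R (apl α) → Mor D R (fun y => apl α (f (apl α⁻¹ y))) with hMdef
    have himg : ∀ {P R : Subgroup Ω}, P ≤ (cE E F p hT.1) → Iso F P R (apl α) → R ≤ (cE E F p hT.1) := fun hP hR y hy => by
      obtain ⟨x, hx, rfl⟩ := hR.exists_eq hy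
      exact apl_mem α (hP hx)
    have hback : ∀ {P R : Subgroup Ω}, P ≤ (cE E F p hT.1) → Iso F P R (apl α) → ∀ y ∈ R, apl α⁻¹ y ∈ P :=
      fun hP hR y hy => by
        obtain ⟨x, hx, rfl⟩ := hR.exists_eq hy
        rw [apl_inv_apl α (hP hx)]
        exact hx
    have hM : SubRel D (cE E F p hT.1) M := by
      refine ⟨fun {Q f f'} ⟨h1, h2, h3⟩ he => ⟨h1, fun x hx => he x hx ▸ h2 x hx,
        fun R hR => (h3 R hR).congr fun y hy => by rw [he _ (hback h1 hR y hy)]⟩,
        fun h => ⟨h.1, h.2.1⟩, ?_, ?_, ?_⟩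
      · intro Q t hQ ht
        refine ⟨mor_conj hQ ht, hQ, fun x hx => (cE E F p hT.1).mul_mem ((cE E F p hT.1).mul_mem ht (hQ hx)) ((cE E F p hT.1).inv_mem ht),
          fun R hR => (mor_conj (himg hQ hR) (apl_mem α ht)).congr fun y hy => ?_⟩
        rw [hαi.1.map_conj ht (hQ (hback hQ hR y hy)), apl_apl_inv α (himg hQ hR hy)]
      · rintro Q Q' f f' - ⟨h1, h2, h3⟩ - ⟨h1', h2', h3'⟩ hfQ
        refine ⟨h1, fun x hx => h2' _ (hfQ x hx), fun R hR => ?_⟩
        obtain ⟨R', hR'⟩ := (hαi.1.mono h1').exists_iso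
        refine ((h3 R hR).comp (h3' R' hR') fun y hy => hR'.mem (hfQ _ (hback h1 hR y hy))).congr
          fun y hy => ?_
        show _ = apl α (f' (apl α⁻¹ (apl α (f (apl α⁻¹ y)))))
        rw [apl_inv_apl α (h2 _ (hback h1 hR y hy))]
        rfl
      · rintro Q Q' f f' hf ⟨h1, h2, h3⟩ hf' hf'f
        refine ⟨hf'.left_le, fun x hx => h1 (hf'.mem hx), fun R hR => ?_⟩
        obtain ⟨R₁, hR₁⟩ := (hαi.1.mono h1).exists_iso
        obtain ⟨X, hX⟩ := (h3 R₁ hR₁).exists_iso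
        obtain ⟨k, hk, hkk, -⟩ := hX.symm
        have hle : R ≤ X := fun y hy => by
          obtain ⟨x, hx, rfl⟩ := hR.exists_eq hy
          obtain ⟨z, hz, rfl⟩ := hf.exists_eq hx
          have h := hX.mem (hR₁.mem hz)
          rwa [apl_inv_apl α (h1 hz)] at h
        refine (hk.1.mono hle).congr fun y hy => ?_
        obtain ⟨x, hx, rfl⟩ := hR.exists_eq hy
        obtain ⟨z, hz, rfl⟩ := hf.exists_eq hx
        rw [apl_inv_apl α (h2 z hz), hf'f z hz]
        have h := hkk (apl α z) (hR₁.mem hz)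
        rw [apl_inv_apl α (h1 hz)] at h
        exact h.symm
    have hall : ∀ Q f, Mor D Q f → M Q f := by
      refine alperin_induction hCp hDs hM fun R hR a ha => ?_
      have hRC : R ≤ (cE E F p hT.1) := hR.elim (fun e => e.le) fun e => e.1.1
      have hRn : D.IsFullyNormalized R := by
        rcases hR with rfl | h
        · haveI : Finite (normalizerIn (cE E F p hT.1) (cE E F p hT.1)) := finite_of_le (inf_le_left.trans hCS)
          exact ⟨le_rfl, fun Q _ => Subgroup.card_le_of_le (le_inf inf_le_left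
            (inf_le_left.trans Subgroup.le_normalizer))⟩
        · exact h.2.1
      haveI := finite_of_le (hRC.trans hCS)
      suffices h : D.autGroup R ≤ (subSys hM).autGroup R from
        ((mor_subSys hM).1 (iso_apl hRC (h ha)).1).2
      rw [autGroup_eq_residual_sup hCp hDs hRn]
      refine sup_le ?_ (autInducedBy_le_autGroup hRC)
      rw [pResidual, MonoidHom.map_closure, Subgroup.closure_le]
      rintro _ ⟨b, hb, rfl⟩
      rw [Set.mem_setOf_eq, ← Subgroup.orderOf_coe] at hb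
      have hbi := iso_apl hRC b.2
      refine (mem_autGroup_iff hRC).2 ⟨(mor_subSys hM).2 ⟨hbi.1, hRC,
        fun x hx => hRC (apl_mem _ hx), fun R₁ hR₁ => ?_⟩, hbi.2⟩
      obtain ⟨hbF, -, -, j, hj, hjb, hjT⟩ := mor_cSys.1 (hDG R _ hbi.1)
      have hR₁C := himg hRC hR₁
      haveI := finite_of_le (hR₁C.trans hCS)
      have hdom : ∀ x ∈ R₁ ⊔ T, g' x ∈ R ⊔ T := fun x hx => (hg'.1.mono (sup_le_sup_right hR₁C T)).mem_of_sup
        (fun w hw => Subgroup.mem_sup_left (by rw [hg'C w (hR₁C hw)]; exact hback hRC hR₁ w hw))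
        (fun w hw => Subgroup.mem_sup_right
          (StronglyClosed.mor_mem hT hg'.1 (Subgroup.mem_sup_right hw) hw)) hx
      have hjN : ∀ x ∈ R ⊔ T, j x ∈ (cE E F p hT.1) ⊔ T := fun x hx => hj.mem_of_sup
        (fun w hw => Subgroup.mem_sup_left (by rw [hjb w hw]; exact hRC (apl_mem _ hw)))
        (fun w hw => Subgroup.mem_sup_right (by rw [hjT w hw]; exact hw)) hx
      have hm := ((hg'.1.mono (sup_le_sup_right hR₁C T)).comp hj hdom).comp hg
        fun x hx => hjN _ (hdom x hx)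
      have hmR : ∀ y ∈ R₁, (g ∘ j ∘ g') y = apl α (apl (b : MulAut R) (apl α⁻¹ y)) := fun y hy => by
        show g (j (g' y)) = _
        rw [hg'C y (hR₁C hy), hjb _ (hback hRC hR₁ y hy),
          hgα _ (hRC (apl_mem _ (hback hRC hR₁ y hy)))]
      have hmT : ∀ t ∈ T, (g ∘ j ∘ g') t = t := fun t ht => by
        show g (j (g' t)) = t
        have h1 : g' t ∈ T := StronglyClosed.mor_mem hT hg'.1 (Subgroup.mem_sup_right ht) ht
        rw [hjT _ h1, hgg' t (Subgroup.mem_sup_right ht)]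
      have hmem : ∀ y ∈ R₁, apl α (apl (b : MulAut R) (apl α⁻¹ y)) ∈ R₁ := fun y hy =>
        hR₁.mem (apl_mem _ (hback hRC hR₁ y hy))
      have hG : Mor (centralizerSys F hT.1) R₁ (fun y => apl α (apl (b : MulAut R) (apl α⁻¹ y))) :=
        mor_cSys.2 ⟨(hm.mono le_sup_left).congr fun y hy => (hmR y hy).symm, hR₁C.trans hCS₀,
          fun y hy => hCS₀ (hR₁C (hmem y hy)), _, hm, hmR, hmT⟩
      obtain ⟨c, hc, hcx⟩ := Iso.exists_mem_autGroup (show Iso (centralizerSys F hT.1) R₁ R₁ _ from ⟨hG, fun y =>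
        ⟨fun hy => hG.surj_of_card (hR₁C.trans hCS₀) hmem le_rfl hy,
          fun ⟨x, hx, hxy⟩ => hxy ▸ hmem x hx⟩⟩)
      have hcpow : ∀ n : ℕ, ∀ y ∈ R₁,
          apl (c ^ n) y = apl α (apl ((b : MulAut R) ^ n) (apl α⁻¹ y)) := by
        intro n
        induction n with
        | zero =>
          intro y hy
          rw [pow_zero, pow_zero, apl_one hy, apl_one (hback hRC hR₁ y hy), apl_apl_inv α (hR₁C hy)]
        | succ n ih =>
          intro y hy
          have hz := apl_mem ((b : MulAut R) ^ n) (hback hRC hR₁ y hy)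
          rw [pow_succ', pow_succ', apl_mul _ _ hy, apl_mul _ _ (hback hRC hR₁ y hy),
            hcx _ (apl_mem _ hy), ih y hy, apl_inv_apl α (hRC hz)]
      have hord : (orderOf c).Coprime p := by
        refine Nat.Coprime.coprime_dvd_left (orderOf_dvd_of_pow_eq_one (apl_ext fun y hy => ?_)) hb
        rw [hcpow _ y hy, pow_orderOf_eq_one, apl_one (hback hRC hR₁ y hy),
          apl_apl_inv α (hR₁C hy), apl_one hy]
      have h1 : c ∈ D.autGroup R₁ := hDi.2.2 _ hR₁C (Subgroup.mem_map.2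
        ⟨⟨c, hc⟩, Cfsg.Agent.Fusion.mem_pResidual_of_coprime (by rwa [← Subgroup.orderOf_coe]), rfl⟩)
      exact (iso_apl hR₁C h1).1.congr fun y hy => (hcx y hy).symm
    obtain ⟨-, -, h3⟩ := hall P _ (mor_extendFn hφ)
    obtain ⟨R, hR⟩ := (hαi.1.mono hP).exists_iso
    have hRQ : (P.subgroupOf (cE E F p hT.1)).map ((cE E F p hT.1).subtype.comp α.toMonoidHom) = R :=
      Subgroup.ext fun y => (map_apl_eq hP).trans (hR.2 y).symm
    obtain ⟨χ, hχ, hχf⟩ := (h3 R hR).mono hRQ.le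
    refine ⟨χ, hχ, fun x hφx hαx => ?_⟩
    rw [hχf]
    show apl α (extendFn φ (apl α⁻¹ ((α ⟨x, hP x.2⟩ : (cE E F p hT.1)) : Ω))) = _
    rw [← apl_apply α (hP x.2), apl_inv_apl α (hP x.2), extendFn_coe]
    exact apl_apply α hφx
  · intro P hP φ hφ
    obtain ⟨g, hg, hgφ⟩ := extT_all hS hF hE hT (mor_extendFn hφ) P le_rfl hP
    obtain ⟨a, ha, hax⟩ := (StronglyClosed.iso_self hT hg le_sup_right).exists_mem_autGroup
    obtain ⟨δ, hδ, hδT, hδa⟩ := exists_ext hS hF hTc ha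
    have hN : T ⊔ centralizerIn S T ≤ S := sup_le hT.1 hS₀S
    have hδi := iso_apl hN (Subgroup.inv_mem _ hδ)
    have hgN : ∀ x ∈ P ⊔ T, g x ∈ T ⊔ centralizerIn S T := fun x hx => hg.mem_of_sup
      (fun w hw => Subgroup.mem_sup_right (hCS₀
        (mor_mem_cE hS hF hE hT hg le_sup_right (Subgroup.mem_sup_left hw) (hP hw))))
      (fun w hw => Subgroup.mem_sup_left
        (StronglyClosed.mor_mem hT hg (Subgroup.mem_sup_right hw) hw)) hx
    have hm := hg.comp hδi.1 hgN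
    have hmT : ∀ t ∈ T, (apl δ⁻¹ ∘ g) t = t := fun t ht => by
      show apl δ⁻¹ (g t) = t
      rw [← hax t ht, ← hδa t ht, apl_inv_apl δ (Subgroup.mem_sup_left ht)]
    have hmC : ∀ x ∈ P, (apl δ⁻¹ ∘ g) x ∈ (cE E F p hT.1) := fun x hx => apl_mem_cE hS hF hT
      (Subgroup.inv_mem _ hδ)
      (mor_mem_cE hS hF hE hT hg le_sup_right (Subgroup.mem_sup_left hx) (hP hx))
    have hmG : Mor (centralizerSys F hT.1) P (apl δ⁻¹ ∘ g) := mor_cSys.2 ⟨hm.mono le_sup_left, hP.trans hCS₀,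
      fun x hx => hCS₀ (hmC x hx), _, hm, fun _ _ => rfl, hmT⟩
    obtain ⟨b, hb, e, he, hbe⟩ := exists_frattini hDn hP hmG
    have hCN : (cE E F p hT.1) ≤ T ⊔ centralizerIn S T := hCS₀.trans le_sup_right
    have hδC : ∀ x ∈ (cE E F p hT.1), apl δ x ∈ (cE E F p hT.1) := fun x hx => apl_mem_cE hS hF hT hδ hx
    have hδm := (iso_apl hN hδ).1.mono hCN
    obtain ⟨d, hd, hdx⟩ := Iso.exists_mem_autGroup (show Iso F (cE E F p hT.1) (cE E F p hT.1) (apl δ) from ⟨hδm, fun y =>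
      ⟨fun hy => hδm.surj_of_card hCS hδC le_rfl hy, fun ⟨x, hx, hxy⟩ => hxy ▸ hδC x hx⟩⟩)
    have hbi := iso_apl hCS₀ hb
    have hbF : b ∈ F.autGroup (cE E F p hT.1) :=
      (mem_autGroup_iff hCS).2 ⟨(mor_cSys.1 hbi.1).1, hbi.2⟩
    obtain ⟨φ₀, hφ₀, hφ₀e⟩ := he
    refine ⟨d * b, Subgroup.mul_mem _ hd hbF, φ₀, hφ₀, fun x hx => ?_⟩
    rw [← apl_apply (d * b) hx, apl_mul _ _ hx, hdx _ (apl_mem b hx), hφ₀e x, ← hbe x x.2]
    show φ x = apl δ (apl δ⁻¹ (g x))
    rw [apl_apl_inv δ (hgN x (Subgroup.mem_sup_left x.2)), hgφ x x.2, extendFn_coe]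

/-- There is a normal subsystem over `C_S(E)` inside `C_F(T)`. -/
theorem exists_centralizer_subsystem (hE : E.IsNormalIn F p) (hT : F.StronglyClosed T) :
    ∃ D : FusionSystem (cE E F p hT.1), D.IsNormalIn F p ∧
      ∀ P : Subgroup Ω, D.Hom P ⊆ F.centralizerHom T P := by
  have hTfn : F.IsFullyNormalized T := ⟨hT.1, fun Q _ => by
    rw [show normalizerIn S T = S from
      le_antisymm inf_le_left fun s hs => ⟨hs, StronglyClosed.le_normalizer hT hs⟩]
    exact Subgroup.card_le_of_le inf_le_left⟩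
  have hTc := fullyCentralized_of_fullyNormalized hS hF hTfn
  have hG₀s : (centralizerSys F hT.1).IsSaturated p :=
    centralizerSystem_saturated hS hF hTc (isCentralizerSystem_centralizerSys hT.1)
  haveI := finite_of_le (centralizerIn_le S T)
  haveI := finite_of_le ((cE_le (E := E) (F := F) (p := p) hT.1).trans (centralizerIn_le S T))
  obtain ⟨D₀, ⟨hDs, hDi⟩, -⟩ := PPI.exists_unique_pPower (hS.to_le (centralizerIn_le S T)) hG₀s
    (cE_le hT.1) (hyperfocal_le_focal.trans (cFoc_le_cE hS hF hE hT))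
  have hw := weaklyNormal_centSys hS hF hE hT hDs hDi
  refine ⟨_, pPrimeResidual_normal hS hw, fun P φ hφ => mem_centralizerHom_iff.2 ?_⟩
  exact mor_cSys.1 (isSubsystemOf_iff_mor.1 hDi.1 P _ (mor_extendFn (clsSys_le (goodGam_gamMin) P hφ)))
    |>.imp (fun h => h.hom_eq fun x => (extendFn_coe φ x).symm) id

end Cfsg.Agent.FusSys.CentE
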