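import Cfsg.Agent.FusSys.WeakClosed

/-!
The centre of a saturated system is a direct factor of the centre of the underlying group whenever
it is controlled by the normalizer of the Thompson subgroup.
-/

set_option autoImplicit false

namespace Cfsg.Agent.FusSys

open Cfsg Cfsg.FusionSystem

/-- For an action on a commutative `p`-group, the fixed points of the whole group have a complement
in the fixed points of a subgroup of index prime to `p`. -/
theorem exists_fixed_complement {p : ℕ} [Fact p.Prime] {M : Type*} [CommGroup M] (hM : IsPGroup p M)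
    {G : Type*} [Group G] [Finite G] (act : G →* MulAut M) (P : Subgroup G) (hP : ¬ p ∣ P.index) :
    ∃ K : Subgroup M, (∀ x ∈ K, ∀ g ∈ P, act g x = x) ∧
      (∀ x ∈ K, (∀ g, act g x = x) → x = 1) ∧
      ∀ x, (∀ g ∈ P, act g x = x) → ∃ k ∈ K, ∃ b, (∀ g, act g b = b) ∧ x = b * k := by
  classical
  have : Fintype (G ⧸ P) := Fintype.ofFinite _
  let A : Subgroup M :=
    { carrier := {x | ∀ g ∈ P, act g x = x}
      mul_mem' := fun {a b} ha hb g hg => by rw [map_mul, ha g hg, hb g hg]
      one_mem' := fun g _ => map_one _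
      inv_mem' := fun {a} ha g hg => by rw [map_inv, ha g hg] }
  let f : G ⧸ P → A → M := fun q a => Quotient.liftOn' q (fun g => act g a) fun g h hgh => by
    have h1 := a.2 _ (QuotientGroup.leftRel_apply.1 hgh)
    show act g a = act h a
    conv_lhs => rw [← h1]
    rw [← MulAut.mul_apply, ← map_mul, mul_inv_cancel_left]
  have hf : ∀ (g : G) (a : A), f (QuotientGroup.mk g) a = act g a := fun _ _ => rfl
  let T : A →* M :=
    { toFun := fun a => ∏ q, f q a
      map_one' := Finset.prod_eq_one fun q _ => by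
        induction q using QuotientGroup.induction_on with
        | H g => rw [hf]; exact map_one _
      map_mul' := fun a b => by
        rw [← Finset.prod_mul_distrib]
        refine Finset.prod_congr rfl fun q _ => ?_
        induction q using QuotientGroup.induction_on with
        | H g => rw [hf, hf, hf]; exact map_mul _ _ _ }
  have hTfix : ∀ (a : A) (g : G), act g (T a) = T a := by
    intro a g
    show act g (∏ q, f q a) = ∏ q, f q a
    rw [map_prod]
    refine (Finset.prod_congr rfl fun q _ => ?_).trans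
      (Equiv.prod_comp (MulAction.toPerm g : Equiv.Perm (G ⧸ P)) fun q => f q a)
    induction q using QuotientGroup.induction_on with
    | H h =>
      show act g (f (QuotientGroup.mk h) a) = f (QuotientGroup.mk (g * h)) a
      rw [hf, hf, map_mul, MulAut.mul_apply]
  have hTpow : ∀ a : A, (∀ g, act g (a : M) = a) → T a = (a : M) ^ P.index := by
    intro a ha
    show ∏ q, f q a = _
    rw [Finset.prod_congr rfl (g := fun _ => (a : M)) fun q _ => ?_, Finset.prod_const,
      Finset.card_univ, Subgroup.index, Nat.card_eq_fintype_card]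
    induction q using QuotientGroup.induction_on with
    | H g => rw [hf]; exact ha g
  refine ⟨T.ker.map A.subtype, ?_, ?_, fun x hx => ?_⟩
  · rintro _ ⟨a, -, rfl⟩
    exact a.2
  · rintro _ ⟨a, ha, rfl⟩ hfix
    exact (hM.powEquiv' hP).injective (((hTpow a hfix).symm.trans ha).trans (one_pow _).symm)
  · obtain ⟨b, hb⟩ := (hM.powEquiv' hP).surjective (T ⟨x, hx⟩)
    change b ^ P.index = T ⟨x, hx⟩ at hb
    have hbfix : ∀ g, act g b = b := fun g => (hM.powEquiv' hP).injective (by
      show act g b ^ P.index = b ^ P.index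
      rw [← map_pow, hb, hTfix])
    refine ⟨b⁻¹ * x, ⟨⟨b, fun g _ => hbfix g⟩⁻¹ * ⟨x, hx⟩, ?_, rfl⟩, b, hbfix, by group⟩
    show T _ = 1
    rw [map_mul, map_inv, hTpow _ hbfix, hb, inv_mul_cancel]

/-- The centre is contained in the abelian-version Thompson subgroup. -/
theorem center_le_thompsonSubgroupA {P : Type*} [Group P] [Finite P] :
    Subgroup.center P ≤ thompsonSubgroupA P := by
  intro z hz
  have : Nonempty {B : Subgroup P // IsMulCommutative B} :=
    ⟨⟨⊥, ⟨⟨fun a b => Subsingleton.elim _ _⟩⟩⟩⟩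
  obtain ⟨⟨A, hA⟩, hmax⟩ :=
    Finite.exists_max fun B : {B : Subgroup P // IsMulCommutative B} => Nat.card B.1
  have hAmax : A ∈ maxAbelianSubgroups P := ⟨hA, fun B hB => hmax ⟨B, hB⟩⟩
  have hc : A ⊔ Subgroup.zpowers z ≤ Subgroup.centralizer (A ⊔ Subgroup.zpowers z : Subgroup P) := by
    have hzc : Subgroup.zpowers z ≤ Subgroup.center P := Subgroup.zpowers_le.2 hz
    have hAA : A ≤ Subgroup.centralizer (A : Set P) := Subgroup.le_centralizer_iff_isMulCommutative.2 hA
    have h1 : A ⊔ Subgroup.zpowers z ≤ Subgroup.centralizer (A : Set P) :=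
      sup_le hAA (hzc.trans (Subgroup.center_le_centralizer _))
    exact sup_le (Subgroup.le_centralizer_iff.1 h1) (hzc.trans (Subgroup.center_le_centralizer _))
  have he : A = A ⊔ Subgroup.zpowers z :=
    Subgroup.eq_of_le_of_card_ge le_sup_left
      (hAmax.2 _ (Subgroup.le_centralizer_iff_isMulCommutative.1 hc))
  exact le_sSup (α := Subgroup P) hAmax
    (he ▸ Subgroup.mem_sup_right (Subgroup.mem_zpowers z))

universe u

variable {Ω : Type u} [Group Ω] {S : Subgroup Ω} [Finite S] {p : ℕ} [Fact p.Prime]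
  {F : FusionSystem S}

/-- When the centre of the normalizer system of the Thompson subgroup is the centre of the system,
the latter is a direct factor of the centre of `S`. -/
theorem exists_center_complement (hS : IsPGroup p S) (hF : F.IsSaturated p)
    (hZ : ∀ N : FusionSystem (normalizerIn S (wsub jW S)),
      F.IsNormalizerSystem (wsub jW S) N → N.center = F.center) :
    ∃ K : Subgroup Ω, K ≤ S ⊓ Subgroup.centralizer (S : Set Ω) ∧ F.center ⊓ K = ⊥ ∧
      F.center ⊔ K = S ⊓ Subgroup.centralizer (S : Set Ω) := by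
  classical
  set W := wsub jW S with hW
  have hWS : W ≤ S := wsub_le _ _
  have : Finite W := finite_of_le hWS
  have hWp : IsPGroup p W := hS.to_le hWS
  have hSW : S ≤ Subgroup.normalizer (W : Set Ω) := fun s hs =>
    (normalizerIn_le_normalizerIn_wsub posFunctor_jW le_rfl hS (le_normalizerIn le_rfl hs)).2
  have hT := normalizerIn_eq_of_le hSW
  have hfn : F.IsFullyNormalized W := ⟨hWS, fun Q _ => by
    rw [hT]
    exact Subgroup.card_le_of_le inf_le_left⟩
  obtain ⟨-, R, hR⟩ := fullyAutomized_of_fullyNormalized hS hF hfn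
  have hP : ¬ p ∣ ((autInducedBy S W).subgroupOf (F.autGroup W)).index :=
    hR ▸ R.not_dvd_index
  have hzW : ∀ {z : Ω}, z ∈ S → z ∈ Subgroup.centralizer (S : Set Ω) → z ∈ W := by
    intro z hz hzc
    rw [hW, wsub_jW]
    exact ⟨⟨z, hz⟩, center_le_thompsonSubgroupA (Subgroup.mem_center_iff.2 fun g =>
      Subtype.ext (hzc g g.2)), rfl⟩
  let _ : CommGroup (Subgroup.center W) :=
    { (inferInstance : Group (Subgroup.center W)) with
      mul_comm := fun a b => Subtype.ext (Subgroup.mem_center_iff.1 b.2 a) }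
  have hmc : ∀ (α : MulAut W) (z : Subgroup.center W), α z ∈ Subgroup.center W := fun α z =>
    Subgroup.mem_center_iff.2 fun y => α.symm.injective (by
      rw [map_mul, map_mul, α.symm_apply_apply]; exact Subgroup.mem_center_iff.1 z.2 _)
  let act : F.autGroup W →* MulAut (Subgroup.center W) :=
    { toFun := fun α =>
        { toFun := fun z => ⟨(α : MulAut W) z, hmc α z⟩
          invFun := fun z => ⟨((α : MulAut W))⁻¹ z, hmc (α : MulAut W)⁻¹ z⟩
          left_inv := fun z => Subtype.ext (MulAut.inv_apply_self W (α : MulAut W) z)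
          right_inv := fun z => Subtype.ext (MulAut.apply_inv_self W (α : MulAut W) z)
          map_mul' := fun a b => Subtype.ext (map_mul (α : MulAut W) (a : W) b) }
      map_one' := MulEquiv.ext fun _ => rfl
      map_mul' := fun _ _ => MulEquiv.ext fun _ => rfl }
  have hact : ∀ (α : F.autGroup W) (z : Subgroup.center W),
      act α z = z ↔ apl (α : MulAut W) ((z : W) : Ω) = ((z : W) : Ω) := fun α z => by
    rw [apl_coe, Subtype.ext_iff, Subtype.ext_iff]
    rfl
  obtain ⟨K, hKP, hK1, hKd⟩ := exists_fixed_complement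
    (hWp.to_subgroup (Subgroup.center W)) act ((autInducedBy S W).subgroupOf (F.autGroup W)) hP
  let e : Subgroup.center W →* Ω := W.subtype.comp (Subgroup.center W).subtype
  -- fixed points of the automorphisms induced by `S` are central in `S`
  have hcen : ∀ z : Subgroup.center W,
      (∀ α ∈ (autInducedBy S W).subgroupOf (F.autGroup W), act α z = z) →
        e z ∈ S ⊓ Subgroup.centralizer (S : Set Ω) := fun z hz => by
    refine ⟨hWS (z : W).2, fun s hs => ?_⟩
    obtain ⟨α, hα, hαx⟩ := exists_mem_autInducedBy hs (hSW hs)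
    have h := (hact ⟨α, autInducedBy_le_autGroup hWS hα⟩ z).1 (hz _ hα)
    exact mul_inv_eq_iff_eq_mul.1 ((hαx _ (z : W).2).symm.trans h)
  have hKle : K.map e ≤ S ⊓ Subgroup.centralizer (S : Set Ω) := by
    rintro _ ⟨z, hz, rfl⟩
    exact hcen z (hKP z hz)
  -- the centre is fixed by the automorphisms of `W`
  have hfix : ∀ z : Subgroup.center W, e z ∈ F.center → ∀ α, act α z = z := fun z hz α => by
    obtain ⟨g, -, hg, hgZ⟩ := (isCentral_iff.1 (isCentral_center (F := F))).2 W _
      (iso_apl hWS α.2).1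
    exact (hact α z).2 ((hg _ (z : W).2).symm.trans (hgZ _ hz))
  refine ⟨K.map e, hKle, eq_bot_iff.2 ?_, le_antisymm
    (sup_le (isCentral_le_center isCentral_center) hKle) fun x hx => ?_⟩
  · rintro _ ⟨hx, z, hz, rfl⟩
    rw [hK1 z hz (hfix z hx)]
    exact one_mem _
  · have hxW := hzW hx.1 hx.2
    let z : Subgroup.center W := ⟨⟨x, hxW⟩, Subgroup.mem_center_iff.2 fun g =>
      Subtype.ext (hx.2 g (hWS g.2))⟩
    obtain ⟨k, hk, b, hb, hzbk⟩ := hKd z fun α hα => (hact α z).2 (by
      obtain ⟨g, hg, -, hgx⟩ := mem_autInducedBy_iff.1 hα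
      exact (hgx _ hxW).trans (mul_inv_eq_iff_eq_mul.2 (hx.2 g hg)))
    have hxe : x = e b * e k := by rw [← map_mul, ← hzbk]; rfl
    rw [hxe]
    refine mul_mem (Subgroup.mem_sup_left ?_) (Subgroup.mem_sup_right ⟨k, hk, rfl⟩)
    have hN := isNormalizerSystem_normalizerSys (F := F) hWS
    rw [← hZ _ hN]
    have hbW : Subgroup.zpowers (e b) ≤ W := Subgroup.zpowers_le.2 (b : W).2
    refine le_center (isCentral_iff.2 ⟨hbW.trans ((hWS.trans hT.ge)), fun P f hf => ?_⟩)
      (Subgroup.mem_zpowers _)
    obtain ⟨-, hPN, himg, k', hk', hkf, hkW⟩ := (mor_normalizerSystem hN).1 hf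
    have hk'W : Iso F W W k' := ⟨hk'.mono le_sup_right, hkW⟩
    obtain ⟨α, hα, hαk⟩ := hk'W.exists_mem_autGroup
    have hkb : k' (e b) = e b := (hαk _ (b : W).2).symm.trans ((hact ⟨α, hα⟩ b).1 (hb _))
    have hkz : ∀ y ∈ Subgroup.zpowers (e b), k' y = y := by
      rintro _ ⟨i, rfl⟩
      show k' (e b ^ i) = e b ^ i
      obtain ⟨φ, -, hφ⟩ := hk'.mono (R := W) le_sup_right
      have h1 : φ (b : W) = e b := (hφ (b : W)).trans hkb
      rw [show e b ^ i = (((b : W) ^ i : W) : Ω) by simp [e], ← hφ, map_zpow, h1]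
      simp [e]
    have hle : P ⊔ Subgroup.zpowers (e b) ≤ P ⊔ W := sup_le_sup_left hbW P
    refine ⟨k', (mor_normalizerSystem hN).2 ⟨hk'.mono hle, sup_le hPN (hbW.trans (hWS.trans hT.ge)),
      fun y hy => hT.ge ((hk'.mono hle).mem_S hy), k', hk'.mono (sup_le (hle) le_sup_right),
      fun _ _ => rfl, hkW⟩, hkf, hkz⟩

end Cfsg.Agent.FusSys
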