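import Cfsg.Agent.FusSys.Factor
import Cfsg.Agent.FusSys.Criteria
import Cfsg.Agent.FusSys.ModT
import Cfsg.Agent.Fusion.PGroup

/-!
Strongly closed abelian subgroups and solvable systems.
-/

set_option autoImplicit false

namespace Cfsg.Agent.FusSys

open Cfsg Cfsg.FusionSystem
open scoped commutatorElement

universe u

variable {Ω : Type u} [Group Ω] {S Q T : Subgroup Ω} {F : FusionSystem S} {p : ℕ}
variable [Fact p.Prime] [Finite S] (hS : IsPGroup p S) (hF : F.IsSaturated p)

include hS hF

/-- A strongly closed abelian subgroup is normal. -/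
theorem isNormal_of_stronglyClosed_comm (hQ : F.StronglyClosed Q)
    (hab : ∀ x ∈ Q, ∀ y ∈ Q, x * y = y * x) : F.IsNormal Q := by
  refine isNormal_of_series hS hF hQ (C := fun i => if i = 0 then ⊥ else Q) (n := 1) ?_ (by simp)
    (fun P hc _ => ⟨fun α hα i _ x hx => ?_, fun δ _ _ x hx hx0 => ?_⟩) fun i hi a ha x hx => ?_
  · intro i j hij
    by_cases hi : i = 0
    · simp [hi]
    · simp [hi, show j ≠ 0 by omega]
  · by_cases hi : i = 0
    · simp only [hi, if_pos, Subgroup.mem_bot]
      refine ⟨fun h => ?_, fun h => by subst h; rw [apl_apply α hx]; exact congrArg Subtype.val (map_one α)⟩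
      rw [← apl_inv_apl α hx, h, apl_apply α⁻¹ P.one_mem]
      exact congrArg Subtype.val (map_one α⁻¹)
    · simp only [hi, if_false]
      exact apl_invariant_of_stronglyClosed hQ hc.1 hα hx
  · have h1 : x = 1 := by simpa using hx0
    subst h1
    rw [apl_apply δ hx]
    exact congrArg Subtype.val (map_one δ)
  · obtain rfl : i = 0 := by omega
    have hxQ : x ∈ Q := by simpa using hx
    simp [hab a ha x hxQ]

variable {Ω' : Type*} [Group Ω'] {S' Q' : Subgroup Ω'} {θ : S →* Ω'} {E : FusionSystem S'}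

/-- The preimage of a strongly closed subgroup of a factor system is strongly closed. -/
theorem stronglyClosed_preimage (hE : F.IsFactorSystem T θ E) (hT : F.StronglyClosed T)
    (hQ : E.StronglyClosed Q') : F.StronglyClosed (preimageAlong θ Q') := by
  have hker := hE.2.1
  refine stronglyClosed_iff.2 ⟨pre_le, fun R f hR hf x hx => ?_⟩
  obtain ⟨g, hg, hgf⟩ := exists_extend_mod hS hF hT hf
  obtain ⟨Q₁, hQ₁⟩ := hg.exists_iso
  obtain ⟨g', hg', hgg⟩ := exists_iso_image hE hT hQ₁ le_sup_right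
  have hRS : R ≤ S := hR.trans pre_le
  have hle : R ⊔ T ≤ S := sup_le hRS hT.1
  have hgS : g x ∈ S := hg.mem_S (Subgroup.mem_sup_left hx)
  have h1 : thFn θ (g x) ∈ Q' := by
    rw [← hgg x (Subgroup.mem_sup_left hx)]
    exact StronglyClosed.mor_mem hQ hg'.1 ((mem_imageAlong hle).2 ⟨x, Subgroup.mem_sup_left hx, rfl⟩)
      (mem_pre.1 (hR hx)).2
  refine mem_pre.2 ⟨hf.mem_S hx, ?_⟩
  rwa [(thFn_eq_iff hker (hf.mem_S hx) hgS).2 (hgf x hx)]

/-- The image of a strongly closed subgroup in a factor system is strongly closed. -/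
theorem stronglyClosed_image (hE : F.IsFactorSystem T θ E) (hT : F.StronglyClosed T)
    (hQ : F.StronglyClosed Q) : E.StronglyClosed (imageAlong θ Q) := by
  have hker := hE.2.1
  have hrange := hE.2.2.1
  refine stronglyClosed_iff.2 ⟨hrange ▸ imageAlong_le_range θ Q, fun R f hR hf z hz => ?_⟩
  obtain ⟨hRS, g, hg, hgf⟩ := (mor_factor hE hT).1 hf
  obtain ⟨t, ht, htz⟩ := (mem_imageAlong hQ.1).1 (hR hz)
  subst htz
  have htP : t ∈ preimageAlong θ R := mem_pre.2 ⟨hQ.1 ht, hz⟩
  rw [hgf t htP]
  exact (mem_imageAlong hQ.1).2 ⟨g t, StronglyClosed.mor_mem hQ hg htP ht, rfl⟩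

/-- A solvable system has a series of strongly closed subgroups with abelian quotients. -/
theorem exists_step_of_solvable (h : F.IsSolvableSystem) {R : Subgroup Ω}
    (hR : F.StronglyClosed R) (hne : R ≠ S) :
    ∃ R', F.StronglyClosed R' ∧ R < R' ∧ ⁅R', R'⁆ ≤ R := by
  haveI hn : (R.subgroupOf S).Normal :=
    (Subgroup.normal_subgroupOf_iff_le_normalizer hR.1).2 (StronglyClosed.le_normalizer hR)
  let θ : S →* S ⧸ R.subgroupOf S := QuotientGroup.mk' (R.subgroupOf S)
  have hker : ∀ s : S, θ s = 1 ↔ (s : Ω) ∈ R := fun s =>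
    (QuotientGroup.eq_one_iff s).trans Subgroup.mem_subgroupOf
  obtain ⟨E, hE⟩ := exists_factorSystem hR hker
    (show θ.range = (⊤ : Subgroup (S ⧸ R.subgroupOf S)) from QuotientGroup.range_mk' _)
  have hQ : E.IsNormal E.core := isNormal_core
  have hQne : E.core ≠ ⊥ := h R hR hne E hE
  set Z := (Subgroup.center ↥(E.core)).map E.core.subtype with hZ
  have hZn : E.IsNormal Z := isNormal_of_characteristic hQ (Subgroup.map_subtype_le _) (by
    rw [show Z.subgroupOf E.core = Subgroup.center ↥(E.core) from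
      Subgroup.comap_map_eq_self_of_injective E.core.subtype_injective _]
    infer_instance)
  have hZne : Z ≠ ⊥ := by
    rw [hZ, Ne, Subgroup.map_eq_bot_iff_of_injective _ E.core.subtype_injective]
    haveI : Nontrivial ↥(E.core) := (Subgroup.nontrivial_iff_ne_bot _).2 hQne
    have hp : IsPGroup p ↥(E.core) := (hS.to_quotient _).to_subgroup _
    haveI := hp.center_nontrivial
    exact (Subgroup.nontrivial_iff_ne_bot _).1 inferInstance
  refine ⟨preimageAlong θ Z,
    stronglyClosed_preimage hS hF hE hR (stronglyClosed_of_isNormal hZn), ?_, ?_⟩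
  · refine lt_of_le_of_ne (le_preimageAlong hker hR.1 Z) fun e => hZne ?_
    refine (Subgroup.eq_bot_iff_forall _).2 fun y hy => ?_
    obtain ⟨x, hx, rfl⟩ := exists_pre (hE.2.2.1.symm ▸ le_top : Z ≤ θ.range) hy
    rw [← e] at hx
    exact (thFn_eq_one_iff hker (hR.1 hx)).2 hx
  · rw [Subgroup.commutator_le]
    intro a ha b hb
    obtain ⟨haS, haZ⟩ := mem_pre.1 ha
    obtain ⟨hbS, hbZ⟩ := mem_pre.1 hb
    refine (hker (⁅(⟨a, haS⟩ : S), ⟨b, hbS⟩⁆)).1 ?_
    rw [map_commutatorElement, commutatorElement_eq_one_iff_mul_comm]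
    rw [thFn_apply haS] at haZ
    rw [thFn_apply hbS] at hbZ
    obtain ⟨u, hu, hua⟩ := haZ
    obtain ⟨v, -, hvb⟩ := hbZ
    rw [← hua, ← hvb]
    exact congrArg Subtype.val (Subgroup.mem_center_iff.1 hu v).symm

/-- A system with a series of strongly closed subgroups with abelian quotients is solvable. -/
theorem solvable_of_series {n : ℕ} (C : Fin (n + 1) → Subgroup Ω) (h0 : C 0 = ⊥)
    (hn : C (Fin.last n) = S) (hC : ∀ i, F.StronglyClosed (C i))
    (hab : ∀ i : Fin n, ⁅C i.succ, C i.succ⁆ ≤ C i.castSucc) : F.IsSolvableSystem := by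
  classical
  intro R hR hne hnorm E hE
  have hex : ∃ i : Fin (n + 1), ¬ C i ≤ R := ⟨Fin.last n, fun h => hne (le_antisymm hR.1 (hn ▸ h))⟩
  obtain ⟨i, hi, hmin⟩ := (inferInstance : WellFoundedLT (Fin (n + 1))).wf.has_min
    {i | ¬ C i ≤ R} hex
  cases i using Fin.cases with
  | zero => exact absurd (h0 ▸ bot_le) hi
  | succ j =>
    have hj : C j.castSucc ≤ R := by
      by_contra h
      exact hmin _ h j.castSucc_lt_succ
    have hsc := stronglyClosed_image hS hF hE hR (hC j.succ)
    have hE' : E.IsSaturated p := factor_saturated hS hF hE hR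
    haveI : Finite ↥(⊤ : Subgroup (S ⧸ R.subgroupOf S)) := inferInstance
    have hn' := isNormal_of_stronglyClosed_comm ((hS.to_quotient _).to_subgroup _) hE' hsc
      fun x hx y hy => by
      obtain ⟨a, ha, rfl⟩ := (mem_imageAlong (hC j.succ).1).1 hx
      obtain ⟨b, hb, rfl⟩ := (mem_imageAlong (hC j.succ).1).1 hy
      rw [thFn_apply ((hC j.succ).1 ha), thFn_apply ((hC j.succ).1 hb)]
      rw [← commutatorElement_eq_one_iff_mul_comm, ← map_commutatorElement, hE.2.1]
      exact hj (hab j (Subgroup.commutator_mem_commutator ha hb))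
    intro hbot
    have hle : imageAlong (QuotientGroup.mk' (R.subgroupOf S)) (C j.succ) ≤ ⊥ :=
      hbot ▸ le_core hn'
    refine hi fun x hx => ?_
    have hxS := (hC j.succ).1 hx
    have := Subgroup.mem_bot.1 (hle ((mem_imageAlong (hC j.succ).1).2 ⟨x, hx, rfl⟩))
    exact (thFn_eq_one_iff hE.2.1 hxS).1 this

/-- A solvable system has a series of strongly closed subgroups with abelian quotients. -/
theorem exists_series_of_solvable (h : F.IsSolvableSystem) :
    ∃ (n : ℕ) (C : Fin (n + 1) → Subgroup Ω), C 0 = ⊥ ∧ C (Fin.last n) = S ∧ Monotone C ∧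
      (∀ i, F.StronglyClosed (C i)) ∧ ∀ i : Fin n, ⁅C i.succ, C i.succ⁆ ≤ C i.castSucc := by
  suffices H : ∀ d, ∀ R, F.StronglyClosed R → Nat.card S - Nat.card R ≤ d →
      ∃ (n : ℕ) (C : Fin (n + 1) → Subgroup Ω), C 0 = R ∧ C (Fin.last n) = S ∧ Monotone C ∧
        (∀ i, F.StronglyClosed (C i)) ∧ ∀ i : Fin n, ⁅C i.succ, C i.succ⁆ ≤ C i.castSucc from
    H _ ⊥ (stronglyClosed_of_isNormal isNormal_bot) le_rfl
  intro d
  induction d with
  | zero =>
    intro R hR hd
    refine ⟨0, fun _ => R, rfl, ?_, monotone_const, fun _ => hR, fun i => i.elim0⟩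
    exact eq_of_le_of_card le_rfl hR.1 (show Nat.card S ≤ Nat.card R by omega)
  | succ d ih =>
    intro R hR hd
    by_cases hne : R = S
    · exact ⟨0, fun _ => R, rfl, hne, monotone_const, fun _ => hR, fun i => i.elim0⟩
    obtain ⟨R', hR', hlt, hcomm⟩ := exists_step_of_solvable hS hF h hR hne
    haveI := finite_of_le hR'.1
    have hlt' : Nat.card R < Nat.card R' := lt_of_not_ge fun hle =>
      hlt.ne (Subgroup.eq_of_le_of_card_ge hlt.le hle)
    obtain ⟨n, C, h0, hn, hmono, hC, hab⟩ := ih R' hR' (by omega)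
    refine ⟨n + 1, Fin.cons R C, by simp, ?_, ?_, fun i => ?_, fun i => ?_⟩
    · rw [← Fin.succ_last, Fin.cons_succ, hn]
    · refine Fin.monotone_iff_le_succ.2 fun i => ?_
      cases i using Fin.cases with
      | zero => simp [h0, hlt.le]
      | succ k =>
        rw [Fin.cons_succ, ← Fin.succ_castSucc, Fin.cons_succ]
        exact hmono k.castSucc_le_succ
    · cases i using Fin.cases with
      | zero => simpa using hR
      | succ k => simpa using hC k
    · cases i using Fin.cases with
      | zero => simpa [h0] using hcomm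
      | succ k =>
        rw [Fin.cons_succ, ← Fin.succ_castSucc, Fin.cons_succ]
        exact hab k

/-- The centralizer of a normal subgroup is strongly closed. -/
theorem stronglyClosed_centralizer_of_normal (hQ : F.IsNormal Q) :
    F.StronglyClosed (centralizerIn S Q) := by
  obtain ⟨hQS, h⟩ := isNormal_iff.1 hQ
  refine stronglyClosed_iff.2 ⟨centralizerIn_le S Q, fun R f hR hf x hx => ?_⟩
  obtain ⟨g, hg, hgf, hgQ⟩ := h R f hf
  refine ⟨hf.mem_S hx, Subgroup.mem_centralizer_iff.2 fun y hy => ?_⟩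
  obtain ⟨z, hz, rfl⟩ := (hgQ y).1 hy
  rw [← hgf x hx, ← hg.map_mul (Subgroup.mem_sup_right hz) (Subgroup.mem_sup_left hx),
    ← hg.map_mul (Subgroup.mem_sup_left hx) (Subgroup.mem_sup_right hz),
    Subgroup.mem_centralizer_iff.1 (hR hx).2 z hz]

/-- A solvable system is constrained. -/
theorem constrained_of_series {n : ℕ} (C : Fin (n + 1) → Subgroup Ω) (h0 : C 0 = ⊥)
    (hn : C (Fin.last n) = S) (hC : ∀ i, F.StronglyClosed (C i))
    (hab : ∀ i : Fin n, ⁅C i.succ, C i.succ⁆ ≤ C i.castSucc) : F.IsConstrained p := by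
  classical
  have hQ : F.IsNormal F.core := isNormal_core
  refine ⟨hF, F.core, hQ, hQ.1, fun P hP => ?_⟩
  obtain ⟨φ, hφ⟩ := isConj_iff.1 hP
  have hQP : P = F.core := by
    have := (StronglyClosed.iso_self (stronglyClosed_of_isNormal hQ) hφ.1 le_rfl)
    exact hφ.eq_image this
  subst hQP
  by_contra hne
  set D := centralizerIn S F.core with hD
  have hDc : F.StronglyClosed D := stronglyClosed_centralizer_of_normal hS hF hQ
  have hex : ∃ i : Fin (n + 1), ¬ C i ⊓ D ≤ F.core :=
    ⟨Fin.last n, fun h => hne (le_trans (le_inf (hn.symm ▸ inf_le_left) le_rfl) h)⟩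
  obtain ⟨i, hi, hmin⟩ := (inferInstance : WellFoundedLT (Fin (n + 1))).wf.has_min
    {i | ¬ C i ⊓ D ≤ F.core} hex
  cases i using Fin.cases with
  | zero => exact absurd (inf_le_left.trans (h0 ▸ bot_le)) hi
  | succ j =>
    have hj : C j.castSucc ⊓ D ≤ F.core := by
      by_contra h
      exact hmin _ h j.castSucc_lt_succ
    set Z := F.core ⊓ D with hZdef
    have hinf : ∀ A B : Subgroup Ω, F.StronglyClosed A → F.StronglyClosed B →
        F.StronglyClosed (A ⊓ B) := fun A B hA hB => stronglyClosed_iff.2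
      ⟨inf_le_left.trans hA.1, fun R f hR hf x hx =>
        ⟨StronglyClosed.mor_mem hA hf hx (hR hx).1, StronglyClosed.mor_mem hB hf hx (hR hx).2⟩⟩
    have hA := hinf _ _ (hC j.succ) hDc
    have hZc : F.StronglyClosed Z := hinf _ _ (stronglyClosed_of_isNormal hQ) hDc
    have hA' := stronglyClosed_sup hS hF hA hZc
    set A := C j.succ ⊓ D ⊔ Z with hAdef
    have hcen : ∀ a ∈ D, ∀ x ∈ Z, a * x = x * a := fun a ha x hx =>
      (Subgroup.mem_centralizer_iff.1 ha.2 x hx.1).symm
    have hAD : A ≤ D := sup_le inf_le_right inf_le_right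
    have hcomm : ∀ a ∈ A, ∀ x ∈ A, x⁻¹ * (a * x * a⁻¹) ∈ Z := by
      have key : ⁅A, A⁆ ≤ Z := by
        haveI : (Z.subgroupOf D).Normal := ⟨fun z hz d => by
          rw [Subgroup.mem_subgroupOf] at hz ⊢
          have e : ((d * z * d⁻¹ : D) : Ω) = z := by
            show (d : Ω) * z * (d : Ω)⁻¹ = z
            rw [hcen d d.2 z hz, mul_inv_cancel_right]
          rw [e]; exact hz⟩
        rw [Subgroup.commutator_le]
        intro a ha b hb
        refine (QuotientGroup.eq_one_iff (N := Z.subgroupOf D) (⁅(⟨a, hAD ha⟩ : D), (⟨b, hAD hb⟩ : D)⁆)).1 ?_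
        rw [← QuotientGroup.mk'_apply, map_commutatorElement, commutatorElement_eq_one_iff_mul_comm]
        have hmem : ∀ c, ∀ hc : c ∈ A, QuotientGroup.mk' (Z.subgroupOf D) ⟨c, hAD hc⟩ ∈
            ((C j.succ ⊓ D).subgroupOf D).map (QuotientGroup.mk' (Z.subgroupOf D)) := by
          intro c hc
          have h1 : (⟨c, hAD hc⟩ : D) ∈ (C j.succ ⊓ D).subgroupOf D ⊔ Z.subgroupOf D := by
            rw [← Subgroup.subgroupOf_sup inf_le_right inf_le_right, Subgroup.mem_subgroupOf]
            exact hc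
          obtain ⟨u, hu, w, hw, huw⟩ := Subgroup.mem_sup_of_normal_right.1 h1
          refine ⟨u, hu, ?_⟩
          rw [← huw, map_mul, QuotientGroup.mk'_apply (Z.subgroupOf D) w,
            (QuotientGroup.eq_one_iff w).2 hw, mul_one]
        obtain ⟨u, hu, hua⟩ := hmem a ha
        obtain ⟨v, hv, hvb⟩ := hmem b hb
        rw [← hua, ← hvb, ← commutatorElement_eq_one_iff_mul_comm, ← map_commutatorElement]
        refine (QuotientGroup.eq_one_iff _).2 ?_
        have h3 : (⁅(u : Ω), (v : Ω)⁆) ∈ C j.castSucc :=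
          hab j (Subgroup.commutator_mem_commutator (hu : (u : Ω) ∈ C j.succ ⊓ D).1
            (hv : (v : Ω) ∈ C j.succ ⊓ D).1)
        have h4 : (⁅(u : Ω), (v : Ω)⁆) ∈ D := SetLike.coe_mem (⁅u, v⁆ : D)
        exact Subgroup.mem_subgroupOf.2 ⟨hj ⟨h3, h4⟩, h4⟩
      intro a ha x hx
      have := key (Subgroup.commutator_mem_commutator (A.inv_mem hx) ha)
      simpa [commutatorElement_def, mul_assoc] using this
    let C' : ℕ → Subgroup Ω := fun i => if i = 0 then ⊥ else if i = 1 then Z else A
    have hC' : ∀ i, F.StronglyClosed (C' i) := fun i => by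
      show F.StronglyClosed (if i = 0 then ⊥ else if i = 1 then Z else A)
      split_ifs
      exacts [stronglyClosed_of_isNormal isNormal_bot, hZc, hA']
    have hn' : F.IsNormal A := by
      refine isNormal_of_series hS hF hA' (C := C') (n := 2) ?_ (by simp [C'])
        (fun P hc _ => ⟨fun α hα i _ x hx =>
          apl_invariant_of_stronglyClosed (hC' i) hc.1 hα hx, fun δ _ _ x hx hx0 => ?_⟩)
        fun i hi a ha x hx => ?_
      · refine monotone_nat_of_le_succ fun i => ?_
        show (if i = 0 then ⊥ else if i = 1 then Z else A) ≤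
          if i + 1 = 0 then ⊥ else if i + 1 = 1 then Z else A
        rcases i with - | - | i <;> simp [hAdef]
      · have h1 : x = 1 := by simpa [C'] using hx0
        subst h1
        rw [apl_apply δ hx]
        exact congrArg Subtype.val (map_one δ)
      · obtain rfl | rfl : i = 0 ∨ i = 1 := by omega
        · have hxZ : x ∈ Z := by simpa [C'] using hx
          simp [C', hcen a (hAD ha) x hxZ]
        · simpa [C'] using hcomm a ha x (by simpa [C'] using hx)
    exact hi ((le_sup_left : C j.succ ⊓ D ≤ A).trans (le_core hn'))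

end Cfsg.Agent.FusSys
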