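import Cfsg.Agent.FusSys.ThompsonCtl

/-!
A system whose automizers of the characteristic subgroups of `S` are `p`-groups is inner, for odd
`p` or without a section isomorphic to the symmetric group of degree 4.
-/

set_option autoImplicit false

namespace Cfsg.Agent.FusSys

open Cfsg Cfsg.FusionSystem

universe u

variable {Ω : Type u} [Group Ω] {S : Subgroup Ω} {F : FusionSystem S} {p : ℕ} {Q : Subgroup Ω}

/-- A system with a normal centric subgroup having a `p`-group of automorphisms is inner. -/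
theorem allInner_of_normal_centric [Fact p.Prime] [Finite S] (hS : IsPGroup p S)
    (hF : F.IsSaturated p) (hQn : F.IsNormal Q) (hQc : F.IsCentric Q)
    (h : IsPGroup p (F.autGroup Q)) : AllInner F := by
  obtain ⟨L, hL, ι, hι, -⟩ := exists_model hS hF hQn hQc
  haveI : Finite L := hι.1
  have hSN : S ≤ Subgroup.normalizer (Q : Set Ω) :=
    StronglyClosed.le_normalizer (stronglyClosed_of_isNormal hQn)
  obtain ⟨pr, hpr, -, -⟩ := exists_autHom hι hQn hSN
  have hker : pr.ker ≤ (Q.subgroupOf S).map ι := fun g hg => by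
    refine model_centralizer hι hQn hQc (Subgroup.mem_centralizer_iff.2 ?_)
    rintro _ ⟨x, hx, rfl⟩
    have h1 : g * ι x * g⁻¹ = ι x := (hpr g x hx).trans (congrArg ι (Subtype.ext (by
      show apl (pr g : MulAut Q) x = x
      rw [MonoidHom.mem_ker.1 hg]
      exact apl_one hx)))
    exact (mul_inv_eq_iff_eq_mul.1 h1).symm
  have hp : IsPGroup p (⊤ : Subgroup L) := by
    have := (h.to_subgroup ⊤).comap_of_ker_isPGroup pr
      (((hS.to_subgroup (Q.subgroupOf S)).map ι).to_le hker)
    rwa [Subgroup.comap_top] at this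
  obtain ⟨P, hP⟩ := hι.2.2.1
  refine allInner_of_model_range hι.2.1 fun l => ?_
  rw [← hP, ← P.3 hp le_top]
  exact Subgroup.mem_top l

/-- The automizers of the nontrivial characteristic subgroups are `p`-groups. -/
def CharAut (p : ℕ) {Ω : Type u} [Group Ω] {S : Subgroup Ω} (F : FusionSystem S) : Prop :=
  ∀ V : Subgroup Ω, V ≤ S → V ≠ ⊥ → (V.subgroupOf S).Characteristic → IsPGroup p (F.autGroup V)

theorem charAut_of_subsystem {T : Subgroup Ω} {D : FusionSystem T} (hT : T = S)
    (hD : D.IsSubsystemOf F) (h : CharAut p F) : CharAut p D := by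
  subst hT
  intro V hV hV0 hVc
  refine (h V hV hV0 hVc).to_le fun α hα => ?_
  exact (mem_autGroup_iff hV).2
    ⟨isSubsystemOf_iff_mor.1 hD _ _ (iso_apl hV hα).1, (iso_apl hV hα).2⟩

/-- A strengthened Frobenius criterion. -/
theorem allInner_of_charAut [Fact p.Prime] [Finite S] (hS : IsPGroup p S) (hF : F.IsSaturated p)
    (hp : p ≠ 2 ∨ F.IsSectionFree p (Equiv.Perm (Fin 4))) (h : CharAut p F) : AllInner F := by
  refine smaller_induction (Φ := fun {Ω} _ {S} F => Finite S → IsPGroup p S → F.IsSaturated p →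
    (p ≠ 2 ∨ F.IsSectionFree p (Equiv.Perm (Fin 4))) → CharAut p F → AllInner F) ?_ F
    inferInstance hS hF hp h
  intro Ω _ S F ih _ hS hF hp h
  by_cases hS0 : S = ⊥
  · exact allInner_of_bot hS0
  have hchar : ∀ V, V ≤ S → (V.subgroupOf S).Characteristic →
      S ≤ Subgroup.normalizer (V : Set Ω) := fun V hV hVc s hs =>
    (normalizerIn_le_of_characteristic (S := S) hV hVc (le_normalizerIn le_rfl hs)).2
  have hfn : ∀ V, V ≤ S → S ≤ Subgroup.normalizer (V : Set Ω) → F.IsFullyNormalized V :=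
    fun V hV hSV => ⟨hV, fun R _ => by
      rw [normalizerIn_eq_of_le hSV]
      exact Subgroup.card_le_of_le inf_le_left⟩
  have hnorm : ∀ V, V ≤ S → ¬ F.IsNormal V → (V.subgroupOf S).Characteristic → InnerAt F V :=
    fun V hV hVn hVc => innerAt_of_allInner_normalizer hV fun N hN => by
      haveI : Finite (normalizerIn S V) := finite_of_le inf_le_left
      have hVfn := hfn V hV (hchar V hV hVc)
      exact ih N (smaller_normalizer hV hVn hN) inferInstance (hS.to_le inf_le_left)
        (normalizerSystem_saturated hS hF hVfn hN)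
        ((hereditary_free _).norm F hS hF hp V hVfn N hN)
        (charAut_of_subsystem (normalizerIn_eq_of_le (hchar V hV hVc))
          (normalizerSystem_subsystem hS hF hN) h)
  have hSc : (S.subgroupOf S).Characteristic := by
    rw [Subgroup.subgroupOf_self]; infer_instance
  have hStop : F.IsNormal S → AllInner F := fun hn =>
    allInner_of_normal_centric hS hF hn (centric_top F) (h S le_rfl hS0 hSc)
  set Z := S ⊓ Subgroup.centralizer (S : Set Ω) with hZdef
  have hZS : Z ≤ S := inf_le_left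
  have hZ0 : Z ≠ ⊥ := by
    rw [hZdef, ← wsub_zW]; exact wsub_ne_bot posFunctor_zW hS hS0
  have hZc : (Z.subgroupOf S).Characteristic := by
    rw [hZdef, ← wsub_zW]; exact wsub_characteristic posFunctor_zW hS
  have hJc : ((thompsonSubgroupAOf S).subgroupOf S).Characteristic := by
    rw [← wsub_jW]; exact wsub_characteristic posFunctor_jW hS
  have hJ0 : thompsonSubgroupAOf S ≠ ⊥ := by
    rw [← wsub_jW]; exact wsub_ne_bot posFunctor_jW hS hS0
  have hJS := thompsonSubgroupAOf_le S
  by_cases hJn : F.IsNormal (thompsonSubgroupAOf S)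
  · refine allInner_of_normal_centric hS hF hJn (centric_of_normal hJn ?_) (h _ hJS hJ0 hJc)
    -- the centralizer of `J(S)` lies in it
    intro z hz
    have hzc : ∀ a ∈ thompsonSubgroupAOf S, a * z = z * a :=
      fun a ha => Subgroup.mem_centralizer_iff.1 hz.2 a ha
    obtain ⟨A, hA⟩ := Fusion.exists_abMax 0 (⊤ : Subgroup S)
    have hA' : A.map S.subtype ≤ thompsonSubgroupAOf S := by
      rw [← wsub_jW, wsub, jW, Fusion.thompsonSubgroupAOf_eq]
      exact Subgroup.map_mono (le_sSup (a := A) hA)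
    exact hA' ⟨⟨z, hz.1⟩, Fusion.mem_of_commute hA (Subgroup.mem_top _) (pow_zero _)
      (fun a ha => Subtype.ext (hzc a (hA' ⟨a, ha, rfl⟩))), rfl⟩
  have hJi := hnorm _ hJS hJn hJc
  by_cases hZn : F.IsNormal Z
  swap
  · exact allInner_of_thompson hS hF hp hJi (hnorm Z hZS hZn hZc).cInnerAt
  -- `Z` is central
  have hZtriv : ∀ α ∈ F.autGroup Z, ∀ z ∈ Z, apl α z = z := by
    intro α hα z hz
    haveI := finite_of_le hZS
    obtain ⟨-, T, hT⟩ :=
      fullyAutomized_of_fullyNormalized hS hF (hfn Z hZS (hchar Z hZS hZc))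
    have htop : (⊤ : Subgroup (F.autGroup Z)) ≤ T :=
      (T.3 ((h Z hZS hZ0 hZc).of_equiv Subgroup.topEquiv.symm) le_top).le
    have := htop (Subgroup.mem_top ⟨α, hα⟩)
    rw [hT] at this
    obtain ⟨s, hs, -, hsx⟩ := mem_autInducedBy_iff.1 (Subgroup.mem_subgroupOf.1 this)
    rw [hsx z hz, Subgroup.mem_centralizer_iff.1 hz.2 s hs, mul_inv_cancel_right]
  have hact : ∀ P f, Mor F P f → KRel F (autInducedBy S Z) P f := fun P f hf => by
    obtain ⟨g, hg, hgf, hgZ⟩ := (isNormal_iff.1 hZn).2 P f hf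
    obtain ⟨α, hα, hαx⟩ := Iso.exists_mem_autGroup (F := F) (P := Z) (f := g) ⟨hg.mono le_sup_right, hgZ⟩
    refine ⟨hf.le, fun x hx => hf.mem_S hx, g, hg, hgf, 1, Subgroup.one_mem _, fun z hz => ?_⟩
    rw [apl_one hz, ← hαx z hz, hZtriv α hα z hz]
  by_cases hZtop : Z = S
  · exact hStop (by have h' := hZn; rwa [hZtop] at h')
  obtain ⟨Ω', _, S', E, θ, _, hS', hE, hEs, hlt, hne, hpre⟩ :=
    exists_factor hS hF hZn hZ0 hZtop
  have hsc := stronglyClosed_of_isNormal hZn
  have hrange := hE.2.2.1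
  have hEi : AllInner E := by
    refine ih E (Or.inl hlt) inferInstance hS' hEs ((hereditary_free _).factor F hS hF hp E θ Z hZn hE)
      fun V' hV' hV'0 hV'c => ?_
    set V := preimageAlong θ V' with hVdef
    have hVS : V ≤ S := pre_le
    have hV0 : V ≠ ⊥ := fun e => hZ0 (le_bot_iff.1 (e ▸ (hpre V' hV' hV'0).le))
    have hVc : (V.subgroupOf S).Characteristic := by
      refine Subgroup.characteristic_iff_le_comap.2 fun φ x hx => ?_
      have hker := hE.2.1
      have hrr : ∀ s : S, θ s ∈ S' := fun s => hrange ▸ ⟨s, rfl⟩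
      let θ' : S →* S' := θ.codRestrict S' hrr
      have hθ' : Function.Surjective θ' := fun y => by
        obtain ⟨s, hs⟩ := hrange.ge y.2
        exact ⟨s, Subtype.ext hs⟩
      have hφZ : ∀ s : S, (s : Ω) ∈ Z → ((φ s : S) : Ω) ∈ Z := fun s hs =>
        ⟨(φ s).2, Subgroup.mem_centralizer_iff.2 fun y hy => congrArg Subtype.val
          (show (⟨y, hy⟩ : S) * φ s = φ s * ⟨y, hy⟩ by
            obtain ⟨w, hw⟩ := φ.surjective ⟨y, hy⟩
            rw [← hw, ← map_mul, ← map_mul]
            exact congrArg φ (Subtype.ext (Subgroup.mem_centralizer_iff.1 hs.2 w w.2)))⟩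
      have hφZ' : ∀ s : S, (s : Ω) ∈ Z → ((φ.symm s : S) : Ω) ∈ Z := fun s hs =>
        ⟨(φ.symm s).2, Subgroup.mem_centralizer_iff.2 fun y hy => congrArg Subtype.val
          (show (⟨y, hy⟩ : S) * φ.symm s = φ.symm s * ⟨y, hy⟩ from φ.injective (by
            rw [map_mul, map_mul, φ.apply_symm_apply]
            exact Subtype.ext (Subgroup.mem_centralizer_iff.1 hs.2 _ (φ ⟨y, hy⟩).2)))⟩
      have hk : ∀ s : S, θ' s = 1 ↔ θ' (φ s) = 1 := fun s => by
        have hθ : ∀ t : S, θ' t = 1 ↔ (t : Ω) ∈ Z := fun t =>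
          Subtype.ext_iff.trans (hker t)
        rw [hθ, hθ]
        exact ⟨hφZ s, fun hs => by simpa using hφZ' _ hs⟩
      let q : S' →* S' := θ'.liftOfSurjective hθ'
        ⟨θ'.comp φ.toMonoidHom, fun s hs => MonoidHom.mem_ker.2 ((hk s).1 hs)⟩
      have hq : ∀ s, q (θ' s) = θ' (φ s) := fun s =>
        MonoidHom.liftOfRightInverse_comp_apply _ _ _ _ s
      have hqsurj : Function.Surjective q := fun y => by
        obtain ⟨s, rfl⟩ := hθ' y
        exact ⟨θ' (φ.symm s), by rw [hq, φ.apply_symm_apply]⟩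
      let e : S' ≃* S' := MulEquiv.ofBijective q
        ⟨Finite.injective_iff_surjective.2 hqsurj, hqsurj⟩
      obtain ⟨hx1, hx2⟩ := mem_pre.1 (Subgroup.mem_subgroupOf.1 hx)
      rw [thFn_apply hx1] at hx2
      have h1 : e (θ' x) ∈ (V'.subgroupOf S').map e.toMonoidHom :=
        ⟨θ' x, Subgroup.mem_subgroupOf.2 hx2, rfl⟩
      rw [Subgroup.characteristic_iff_map_eq.1 hV'c e] at h1
      refine Subgroup.mem_subgroupOf.2 (mem_pre.2 ⟨(φ x).2, ?_⟩)
      rw [thFn_coe]
      have h2 : ((q (θ' x) : S') : Ω') ∈ V' := h1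
      rw [hq] at h2
      exact h2
    obtain ⟨π, hπ⟩ :=
      exists_autMap_of_morphism (isSurjectiveMorphism_of_factor hS hF hsc hE).1 hVS
    have hsurj := autMap_surjective hE hsc hVS (hpre V' hV' hV'0).le π hπ
    have hp' : IsPGroup p (E.autGroup (imageAlong θ V)) :=
      (h _ hVS hV0 hVc).of_surjective π hsurj
    rwa [hVdef, imageAlong_preimageAlong (hrange ▸ hV')] at hp'
  exact hStop (by
    have hn := isNormal_preimage_of_act hS hF hZn hE hact hEi.isNormal
    rwa [show preimageAlong θ S' = S from le_antisymm pre_le fun s hs =>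
      mem_pre.2 ⟨hs, hrange ▸ thFn_mem_range _ hs⟩] at hn)

end Cfsg.Agent.FusSys
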