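import Cfsg.Agent.FusSys.Biset

/-!
The cocycle of a semicharacteristic biset with sections adapted to a normal subgroup, and the
transfer it defines.
-/

set_option autoImplicit false

namespace Cfsg.Agent.FusSys

open Cfsg Cfsg.FusionSystem

universe u v

variable {Ω : Type u} [Group Ω] {S : Subgroup Ω} {F : FusionSystem S} {p : ℕ}

/-- The action of `S` on the right orbits of a biset, with the cocycle of an adapted section. -/
structure BisetData (F : FusionSystem S) (K : Subgroup S) where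
  /-- The set of right orbits. -/
  O : Type u
  [fin : Fintype O]
  [act : MulAction S O]
  /-- The cocycle. -/
  s : S → O → S
  cocycle : ∀ (u v : S) (o : O), s (u * v) o = s u (v • o) * s v o
  adapted : ∀ (u : S) (o : O), u⁻¹ * s u o ∈ K
  fixed : ∀ (u : S) (o : O), u • o = o → ∃ P f, Mor F P f ∧ (u : Ω) ∈ P ∧ ((s u o : S) : Ω) = f (u : Ω)
  fixedMap : ∀ o : O, ∃ P f, Mor F P f ∧
    ∀ u : S, u • o = o → (u : Ω) ∈ P ∧ ((s u o : S) : Ω) = f (u : Ω)
  stable : ∀ (R : Subgroup Ω) (f : Ω → Ω), Mor F R f →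
    ∃ (π : O ≃ O) (t : O → S), ∀ (u w : S), (u : Ω) ∈ R → (w : Ω) = f u →
      ∀ o, π (u • o) = w • π o ∧ s w (π o) = t (u • o) * s u o * (t o)⁻¹

attribute [instance] BisetData.fin BisetData.act

/-- An action pulled back along a homomorphism. -/
def Twist {G H : Type*} [Group G] [Group H] (_φ : H →* G) (X : Type v) : Type v := X

instance instTwistAction {G H : Type*} [Group G] [Group H] (φ : H →* G) (X : Type v)
    [MulAction G X] : MulAction H (Twist φ X) := MulAction.compHom X φ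

theorem twist_smul {G H : Type*} [Group G] [Group H] (φ : H →* G) (X : Type v) [MulAction G X]
    (h : H) (x : X) : (show X from (h • (show Twist φ X from x))) = φ h • x := rfl

/-- Left translation. -/
def lw (u : S) : S.prod S := ⟨((u : Ω), 1), u.2, S.one_mem⟩

/-- Right translation. -/
def rw' (b : S) : S.prod S := ⟨(1, (b : Ω)), S.one_mem, b.2⟩

theorem lw_mul (u v : S) : lw (u * v) = lw u * lw v :=
  Subtype.ext (Prod.ext rfl (one_mul _).symm)

theorem lw_one : lw (1 : S) = 1 := rfl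

theorem rw'_mul (u v : S) : rw' (u * v) = rw' u * rw' v :=
  Subtype.ext (Prod.ext (one_mul _).symm rfl)

theorem rw'_one : rw' (1 : S) = 1 := rfl

theorem rw'_inv (u : S) : rw' u⁻¹ = (rw' u)⁻¹ :=
  Subtype.ext (Prod.ext inv_one.symm rfl)

theorem lw_rw'_comm (u b : S) : lw u * rw' b = rw' b * lw u :=
  Subtype.ext (Prod.ext ((mul_one _).trans (one_mul _).symm) ((one_mul _).trans (mul_one _).symm))

theorem exists_bisetData [Finite S] {E : FusionSystem (S.prod S)} (hE : IsProductSystem F F E)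
    (K : Subgroup S) [K.Normal]
    (hK : ∀ P f, Mor F P f → ∃ t : S, ∀ x y : S, (x : Ω) ∈ P → (y : Ω) = f x →
      (t * x * t⁻¹)⁻¹ * y ∈ K)
    (L : List (Subgroup (S.prod S))) (hst : StableOff E (fun _ => False) L)
    (hdiag : ∀ D ∈ L, DiagP F (D.map (S.prod S).subtype)) :
    ∃ B : BisetData F K, markL L ⊥ = Nat.card S * Nat.card B.O := by
  classical
  haveI : Finite (S.prod S : Subgroup (Ω × Ω)) :=
    Finite.of_equiv _ (Subgroup.prodEquiv S S).symm.toEquiv
  -- stabilizers are graphs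
  have hstab : ∀ x : LSet L, ∃ P f, Mor F P f ∧ ∀ a : S.prod S, a • x = x ↔
      ((a : Ω × Ω).1 ∈ P ∧ (a : Ω × Ω).2 = f (a : Ω × Ω).1) := by
    intro x
    obtain ⟨Q, hQ, g, hg⟩ := lset_stabilizer x
    have hd := hdiag Q hQ
    have hc := (closedFam_diag hE).of_conj (isConj_symm
      (map_conj_subgroupOf_isConj (isConj_refl (F := E) hd.le) g)) hd
    rw [subgroupOf_map_subtype_self'] at hc
    obtain ⟨P, f, hf, hD⟩ := hc
    refine ⟨P, f, hf, fun a => ?_⟩
    rw [hg a, ← hD]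
    constructor
    · intro h
      refine ⟨a, ⟨_, h, ?_⟩, rfl⟩
      rw [MulEquiv.coe_toMonoidHom, MulAut.conj_apply]
      group
    · rintro ⟨b, ⟨c, hc, hcb⟩, hba⟩
      rw [MulEquiv.coe_toMonoidHom, MulAut.conj_apply] at hcb
      have : b = a := Subtype.ext hba
      rw [← this, ← hcb]
      have e : g⁻¹ * (g * c * g⁻¹) * g = c := by group
      rwa [e]
  have hfree : ∀ (x : LSet L) (b : S), rw' b • x = x → b = 1 := by
    intro x b hb
    obtain ⟨P, f, hf, hx⟩ := hstab x
    exact Subtype.ext (((hx _).1 hb).2.trans hf.map_one)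
  -- adapted base points
  have hbase : ∀ i : Fin L.length, ∃ y : LSet L, (∃ w : S.prod S,
      w • (⟨i, ((1 : S.prod S) : (S.prod S : Subgroup (Ω × Ω)) ⧸ L.get i)⟩ : LSet L) = y) ∧
      ∀ a b : S, lw a • rw' b • y = y → a⁻¹ * b ∈ K := by
    intro i
    obtain ⟨P, f, hf, hx⟩ :=
      hstab (⟨i, ((1 : S.prod S) : (S.prod S : Subgroup (Ω × Ω)) ⧸ L.get i)⟩ : LSet L)
    obtain ⟨t, ht⟩ := hK P f hf
    refine ⟨rw' t⁻¹ • (⟨i, ((1 : S.prod S) : (S.prod S : Subgroup (Ω × Ω)) ⧸ L.get i)⟩ : LSet L),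
      ⟨_, rfl⟩, fun a b hab => ?_⟩
    have h1 : (lw a * rw' (t * b * t⁻¹)) •
        (⟨i, ((1 : S.prod S) : (S.prod S : Subgroup (Ω × Ω)) ⧸ L.get i)⟩ : LSet L) =
        ⟨i, ((1 : S.prod S) : (S.prod S : Subgroup (Ω × Ω)) ⧸ L.get i)⟩ := by
      have h2 := congrArg (rw' t • ·) hab
      simp only [← mul_smul, ← rw'_mul, mul_inv_cancel, rw'_one, one_smul] at h2
      have e : lw a * rw' (t * b * t⁻¹) = rw' t * lw a * (rw' b * rw' t⁻¹) := by
        rw [rw'_mul, rw'_mul, ← mul_assoc, ← mul_assoc, lw_rw'_comm, mul_assoc (rw' t * lw a)]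
      rw [e]
      simpa only [mul_smul, rw'_mul] using h2
    obtain ⟨haP, hfa⟩ := (hx _).1 h1
    have h3 := ht a (t * b * t⁻¹) (by simpa [lw, rw'] using haP) (by simpa [lw, rw'] using hfa)
    have e2 : (t * a * t⁻¹)⁻¹ * (t * b * t⁻¹) = t * (a⁻¹ * b) * t⁻¹ := by group
    rw [e2] at h3
    have := Subgroup.Normal.conj_mem inferInstance _ h3 t⁻¹
    simpa [mul_assoc] using this
  choose base hbase hadapt using hbase
  -- the right orbits
  let r : Setoid (LSet L) :=
    { r := fun x y => ∃ b : S, rw' b • x = y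
      iseqv := ⟨fun x => ⟨1, by rw [rw'_one, one_smul]⟩,
        fun {x y} ⟨b, hb⟩ => ⟨b⁻¹, by rw [← hb, rw'_inv, inv_smul_smul]⟩,
        fun {x y z} ⟨b, hb⟩ ⟨c, hc⟩ => ⟨c * b, by rw [rw'_mul, mul_smul, hb, hc]⟩⟩ }
  let act : MulAction S (Quotient r) :=
    { smul := fun u => Quotient.map (lw u • ·) fun x y ⟨b, hb⟩ => ⟨b, by
        show rw' b • lw u • x = lw u • y
        rw [← hb, ← mul_smul, ← mul_smul, lw_rw'_comm]⟩
      one_smul := fun o => by
        induction o using Quotient.inductionOn with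
        | h x => exact congrArg (Quotient.mk r) (by show lw 1 • x = x; rw [lw_one, one_smul])
      mul_smul := fun u v o => by
        induction o using Quotient.inductionOn with
        | h x => exact congrArg (Quotient.mk r) (by show lw (u * v) • x = lw u • lw v • x; rw [lw_mul, mul_smul]) }
  have hrep : ∀ o : Quotient r, ∃ (i : Fin L.length) (g : S),
      Quotient.mk r (lw g • rw' g • base i) = o := by
    intro o
    induction o using Quotient.inductionOn with
    | h x =>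
      obtain ⟨i, q⟩ := x
      obtain ⟨w, rfl⟩ := QuotientGroup.mk_surjective q
      obtain ⟨w₀, hw₀⟩ := hbase i
      have hw : (w * w₀⁻¹) • base i = (⟨i, (w : (S.prod S : Subgroup (Ω × Ω)) ⧸ L.get i)⟩ : LSet L) := by
        rw [← hw₀, smul_smul, inv_mul_cancel_right, Sigma.smul_mk, MulAction.Quotient.smul_mk,
          smul_eq_mul, mul_one]
      obtain ⟨a, ha⟩ : ∃ a : S, (a : Ω) = ((w * w₀⁻¹ : S.prod S) : Ω × Ω).1 :=
        ⟨⟨_, (w * w₀⁻¹).2.1⟩, rfl⟩
      obtain ⟨b, hb⟩ : ∃ b : S, (b : Ω) = ((w * w₀⁻¹ : S.prod S) : Ω × Ω).2 :=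
        ⟨⟨_, (w * w₀⁻¹).2.2⟩, rfl⟩
      refine ⟨i, a, Quotient.sound ⟨b * a⁻¹, ?_⟩⟩
      rw [← hw, ← mul_smul, ← mul_smul]
      congr 1
      refine Subtype.ext (Prod.ext ?_ ?_)
      · show (1 : Ω) * (a : Ω) * 1 = _
        rw [one_mul, mul_one, ha]
      · show ((b * a⁻¹ : S) : Ω) * 1 * (a : Ω) = _
        rw [Subgroup.coe_mul, Subgroup.coe_inv, mul_one, inv_mul_cancel_right, hb]
  choose ι gg hgg using hrep
  let σ : Quotient r → LSet L := fun o => lw (gg o) • rw' (gg o) • base (ι o)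
  have hσ : ∀ o, Quotient.mk r (σ o) = o := hgg
  have huniq : ∀ (x : LSet L) (b c : S), rw' b • x = rw' c • x → b = c := by
    intro x b c h
    have h2 := congrArg ((rw' c)⁻¹ • ·) h
    simp only [inv_smul_smul, ← rw'_inv, ← mul_smul, ← rw'_mul] at h2
    rw [inv_mul_cancel, rw'_one, one_smul] at h2
    exact (inv_mul_eq_one.1 (hfree x _ h2)).symm
  have hex : ∀ (u : S) (o : Quotient r), ∃ b : S, rw' b • σ (u • o) = lw u • σ o := by
    intro u o
    refine Quotient.exact (s := r) ((hσ (u • o)).trans ?_)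
    conv_lhs => rw [← hσ o]
    rfl
  choose bb hbb using hex
  haveI : Fintype (Quotient r) := Fintype.ofFinite _
  refine ⟨
    { O := Quotient r
      act := act
      s := fun u o => (bb u o)⁻¹
      cocycle := fun u v o => ?_
      adapted := fun u o => ?_
      fixed := fun u o ho => ?_
      fixedMap := fun o => ?_
      stable := fun R f hf => ?_ }, ?_⟩
  · rw [← mul_inv_rev, inv_inj]
    refine huniq (σ ((u * v) • o)) _ _ ?_
    rw [hbb, lw_mul, mul_smul, ← hbb v o, ← mul_smul (lw u), lw_rw'_comm, mul_smul, ← hbb u (v • o),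
      ← mul_smul, ← rw'_mul, mul_smul u v o]
  · have hi : ι (u • o) = ι o := by
      have h1 := congrArg Sigma.fst (hbb u o)
      obtain ⟨w1, hw1⟩ := hbase (ι (u • o))
      obtain ⟨w2, hw2⟩ := hbase (ι o)
      simp only [σ, ← hw1, ← hw2] at h1
      exact h1
    have h := hbb u o
    simp only [σ, hi] at h
    have h2 := congrArg ((rw' (bb u o) * (lw (gg (u • o)) * rw' (gg (u • o))))⁻¹ • ·) h
    simp only [← mul_smul, inv_mul_cancel, one_smul] at h2
    have h3 := hadapt (ι o) ((gg (u • o))⁻¹ * u * gg o)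
      ((gg (u • o))⁻¹ * (bb u o)⁻¹ * gg o) (by
        conv_rhs => rw [h2]
        rw [← mul_smul]
        congr 1
        refine Subtype.ext (Prod.ext ?_ ?_)
        · simp [lw, rw', mul_assoc]
        · simp [lw, rw', mul_assoc])
    have e : ((gg (u • o))⁻¹ * u * gg o)⁻¹ * ((gg (u • o))⁻¹ * (bb u o)⁻¹ * gg o) =
        (gg o)⁻¹ * (u⁻¹ * (bb u o)⁻¹) * gg o := by group
    rw [e] at h3
    have h4 := Subgroup.Normal.conj_mem inferInstance _ h3 (gg o)
    simpa [mul_assoc] using h4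
  · have h := hbb u o
    rw [ho] at h
    obtain ⟨P, f, hf, hx⟩ := hstab (σ o)
    have h2 : (lw u * rw' (bb u o)⁻¹) • σ o = σ o := by
      rw [lw_rw'_comm, mul_smul, ← h, ← mul_smul, ← rw'_mul, inv_mul_cancel, rw'_one, one_smul]
    obtain ⟨h3, h4⟩ := (hx _).1 h2
    refine ⟨P, f, hf, ?_, ?_⟩
    · simpa [lw, rw'] using h3
    · simpa [lw, rw'] using h4
  · obtain ⟨P, f, hf, hx⟩ := hstab (σ o)
    refine ⟨P, f, hf, fun u ho => ?_⟩
    have h := hbb u o
    rw [ho] at h
    have h2 : (lw u * rw' (bb u o)⁻¹) • σ o = σ o := by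
      rw [lw_rw'_comm, mul_smul, ← h, ← mul_smul, ← rw'_mul, inv_mul_cancel, rw'_one, one_smul]
    obtain ⟨h3, h4⟩ := (hx _).1 h2
    exact ⟨by simpa [lw, rw'] using h3, by simpa [lw, rw'] using h4⟩
  · have hR := hf.le
    obtain ⟨R', hi⟩ := hf.exists_iso
    let φ₁ : (R.prod S : Subgroup (Ω × Ω)) →* (S.prod S : Subgroup (Ω × Ω)) :=
      Subgroup.inclusion (Subgroup.prod_mono hR le_rfl)
    let φ₂ : (R.prod S : Subgroup (Ω × Ω)) →* (S.prod S : Subgroup (Ω × Ω)) :=
      MonoidHom.mk' (fun w => ⟨(f (w : Ω × Ω).1, (w : Ω × Ω).2), hf.mem_S w.2.1, w.2.2⟩)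
        fun a b => Subtype.ext (Prod.ext (hf.map_mul a.2.1 b.2.1) rfl)
    haveI : Finite (R.prod S : Subgroup (Ω × Ω)) := finite_of_le (Subgroup.prod_mono hR le_rfl)
    haveI : Finite (Twist φ₁ (LSet L)) := inferInstanceAs (Finite (LSet L))
    haveI : Finite (Twist φ₂ (LSet L)) := inferInstanceAs (Finite (LSet L))
    have hmarks : ∀ H : Subgroup (R.prod S : Subgroup (Ω × Ω)),
        mark (Twist φ₁ (LSet L)) H = mark (Twist φ₂ (LSet L)) H := by
      intro H
      have e : ∀ φ : (R.prod S : Subgroup (Ω × Ω)) →* (S.prod S : Subgroup (Ω × Ω)),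
          mark (Twist φ (LSet L)) H = mark (LSet L) (H.map φ) := fun φ =>
        Nat.card_congr ((Equiv.refl (LSet L)).subtypeEquiv fun x =>
          ⟨fun h k hk => by obtain ⟨a, ha, rfl⟩ := hk; exact h a ha,
            fun h a ha => h _ (Subgroup.mem_map_of_mem _ ha)⟩)
      rw [e, e, mark_lset, mark_lset]
      obtain ⟨H₁, hH₁⟩ : ∃ H₁, H₁ = (H.map φ₁).map (S.prod S).subtype := ⟨_, rfl⟩
      obtain ⟨H₂, hH₂⟩ : ∃ H₂, H₂ = (H.map φ₂).map (S.prod S).subtype := ⟨_, rfl⟩
      have hiso : Iso E H₁ H₂ (fun x => (f x.1, x.2)) := by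
        refine ⟨(mor_product hE).2 ⟨hH₁ ▸ Subgroup.map_subtype_le _, f, id, hf.mono ?_,
          mor_id ?_, fun x _ => rfl⟩, fun y => ⟨?_, ?_⟩⟩
        · subst hH₁
          rintro _ ⟨_, ⟨_, ⟨w, -, rfl⟩, rfl⟩, rfl⟩
          exact w.2.1
        · subst hH₁
          rintro _ ⟨_, ⟨_, ⟨w, -, rfl⟩, rfl⟩, rfl⟩
          exact w.2.2
        · subst hH₂
          rintro ⟨_, ⟨w, hw, rfl⟩, rfl⟩
          exact ⟨(w : Ω × Ω), hH₁ ▸ ⟨φ₁ w, ⟨w, hw, rfl⟩, rfl⟩, rfl⟩
        · subst hH₁ hH₂
          rintro ⟨_, ⟨_, ⟨w, hw, rfl⟩, rfl⟩, rfl⟩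
          exact ⟨φ₂ w, ⟨w, hw, rfl⟩, rfl⟩
      have h := hst _ _ _ hiso (fun h => h)
      rwa [hH₁, hH₂, subgroupOf_map_subtype_self', subgroupOf_map_subtype_self'] at h
    obtain ⟨e, he⟩ := exists_iso_of_marks (G := (R.prod S : Subgroup (Ω × Ω))) _ le_rfl hmarks
    let ee : LSet L ≃ LSet L := e
    have hee : ∀ (w : (R.prod S : Subgroup (Ω × Ω))) (x : LSet L),
        ee (φ₁ w • x) = φ₂ w • ee x := he
    have heR : ∀ (b : S) (x : LSet L), ee (rw' b • x) = rw' b • ee x := by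
      intro b x
      have h := hee ⟨(1, (b : Ω)), R.one_mem, b.2⟩ x
      have e1 : φ₂ ⟨(1, (b : Ω)), R.one_mem, b.2⟩ = rw' b :=
        Subtype.ext (Prod.ext hf.map_one rfl)
      rw [e1] at h
      exact h
    have heL : ∀ (u w : S), (u : Ω) ∈ R → (w : Ω) = f u → ∀ x : LSet L,
        ee (lw u • x) = lw w • ee x := by
      intro u w hu hw x
      have h := hee ⟨((u : Ω), 1), hu, S.one_mem⟩ x
      have e1 : φ₂ ⟨((u : Ω), 1), hu, S.one_mem⟩ = lw w := Subtype.ext (Prod.ext hw.symm rfl)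
      rw [e1] at h
      exact h
    let π : Quotient r ≃ Quotient r := Quotient.congr ee fun x y => by
      constructor
      · rintro ⟨b, hb⟩
        exact ⟨b, by rw [← hb, heR]⟩
      · rintro ⟨b, hb⟩
        exact ⟨b, ee.injective (by rw [heR, hb])⟩
    have hπ : ∀ o, ∃ t : S, rw' t⁻¹ • σ (π o) = ee (σ o) := by
      intro o
      have h : (Quotient.mk r (σ (π o))) = Quotient.mk r (ee (σ o)) := by
        rw [hσ]
        conv_lhs => rw [← hσ o]
        rfl
      obtain ⟨b, hb⟩ := Quotient.exact h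
      exact ⟨b⁻¹, by rw [inv_inv]; exact hb⟩
    choose t ht using hπ
    refine ⟨π, t, fun u w hu hw o => ?_⟩
    have hpi : π (u • o) = w • π o := by
      induction o using Quotient.inductionOn with
      | h x => exact congrArg (Quotient.mk r) (heL u w hu hw x)
    refine ⟨hpi, ?_⟩
    have h1 : rw' ((bb u o) * (t (u • o))⁻¹) • σ (π (u • o)) = lw w • ee (σ o) := by
      rw [rw'_mul, mul_smul, ht, ← heR, hbb, heL u w hu hw]
    rw [← ht o, ← mul_smul (lw w), lw_rw'_comm, mul_smul, ← hbb w (π o), hpi, ← mul_smul (rw' (t o)⁻¹),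
      ← rw'_mul] at h1
    have h2 := huniq _ _ _ h1
    show (bb w (π o))⁻¹ = t (u • o) * (bb u o)⁻¹ * (t o)⁻¹
    have : bb w (π o) = t o * (bb u o * (t (u • o))⁻¹) := by rw [h2, mul_inv_cancel_left]
    rw [this]
    group
  · rw [← mark_lset, mark_bot, ← Nat.card_prod]
    refine (Nat.card_congr (Equiv.ofBijective (fun q : S × Quotient r => rw' q.1 • σ q.2)
      ⟨?_, ?_⟩)).symm
    · rintro ⟨b, o⟩ ⟨c, o'⟩ h
      have ho : o = o' := by
        rw [← hσ o, ← hσ o']
        exact Quotient.sound (show r.r _ _ from ⟨c⁻¹ * b, by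
          have h2 := congrArg (rw' c⁻¹ • ·) h
          simp only [← mul_smul, ← rw'_mul, inv_mul_cancel, rw'_one, one_smul] at h2
          exact h2⟩)
      subst ho
      exact Prod.ext (huniq _ _ _ h) rfl
    · intro x
      obtain ⟨b, hb⟩ := Quotient.exact (hσ (Quotient.mk r x))
      exact ⟨(b, _), hb⟩

/-! ### Transfer -/

section Transfer

variable {K : Subgroup S} [K.Normal] (B : BisetData F K) {A : Type v} [CommGroup A] {c : S → A}

/-- The transfer of `c`. -/
noncomputable def BisetData.tr (c : S → A) (u : S) : A := ∏ o : B.O, c (B.s u o)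

theorem BisetData.s_mem {u : S} (hu : u ∈ K) (o : B.O) : B.s u o ∈ K := by
  have := K.mul_mem hu (B.adapted u o)
  rwa [mul_inv_cancel_left] at this

variable (hc : ∀ k ∈ K, ∀ x, c (k * x) = c k * c x) (hinv : ∀ k ∈ K, ∀ x, c (x * k * x⁻¹) = c k)

include hc hinv in
theorem BisetData.tr_mul (u v : S) :
    B.tr c (u * v) = B.tr c u * B.tr c v * (c (u * v) / (c u * c v)) ^ Fintype.card B.O := by
  have hδ : ∀ x y x' y' : S, x⁻¹ * x' ∈ K → y⁻¹ * y' ∈ K →
      c (x' * y') = c x' * c y' * (c (x * y) / (c x * c y)) := by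
    intro x y x' y' hx hy
    have hk : x' * x⁻¹ ∈ K := by
      have := Subgroup.Normal.conj_mem inferInstance _ hx x
      rwa [mul_assoc, mul_assoc, ← mul_assoc x x⁻¹, mul_inv_cancel, one_mul] at this
    have hl : y' * y⁻¹ ∈ K := by
      have := Subgroup.Normal.conj_mem inferInstance _ hy y
      rwa [mul_assoc, mul_assoc, ← mul_assoc y y⁻¹, mul_inv_cancel, one_mul] at this
    have hcx : c x' = c (x' * x⁻¹) * c x := by rw [← hc _ hk, inv_mul_cancel_right]
    have hcy : c y' = c (y' * y⁻¹) * c y := by rw [← hc _ hl, inv_mul_cancel_right]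
    have hxl : x * (y' * y⁻¹) * x⁻¹ ∈ K := Subgroup.Normal.conj_mem inferInstance _ hl x
    have e : x' * y' = x' * x⁻¹ * ((x * (y' * y⁻¹) * x⁻¹) * (x * y)) := by group
    rw [e, hc _ hk, hc _ hxl, hinv _ hl x, hcx, hcy]
    rw [div_eq_mul_inv, mul_inv]
    calc c (x' * x⁻¹) * (c (y' * y⁻¹) * c (x * y))
        = c (x' * x⁻¹) * (c (y' * y⁻¹) * c (x * y)) * ((c x * (c x)⁻¹) * (c y * (c y)⁻¹)) := by
          rw [mul_inv_cancel, mul_inv_cancel, mul_one, mul_one]
      _ = _ := by ac_rfl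
  calc B.tr c (u * v)
      = ∏ o : B.O, c (B.s u (v • o)) * c (B.s v o) * (c (u * v) / (c u * c v)) :=
        Finset.prod_congr rfl fun o _ => by
          rw [B.cocycle, hδ u v _ _ (B.adapted u _) (B.adapted v o)]
    _ = (∏ o : B.O, c (B.s u (v • o))) * B.tr c v * (c (u * v) / (c u * c v)) ^ Fintype.card B.O := by
        rw [Finset.prod_mul_distrib, Finset.prod_mul_distrib, Finset.prod_const, Finset.card_univ]
        rfl
    _ = _ := by
        congr 2
        exact Equiv.prod_comp (MulAction.toPerm v : Equiv.Perm B.O) fun o => c (B.s u o)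

include hc hinv in
/-- The transfer differs from a power of `c` by a homomorphism. -/
theorem BisetData.exists_hom :
    ∃ ψ : S →* A, ∀ u, B.tr c u = ψ u * c u ^ Fintype.card B.O := by
  refine ⟨MonoidHom.mk' (fun u => B.tr c u / c u ^ Fintype.card B.O) fun u v => ?_,
    fun u => (div_mul_cancel _ _).symm⟩
  rw [B.tr_mul hc hinv, div_pow, mul_pow]
  rw [div_eq_mul_inv, div_eq_mul_inv, div_eq_mul_inv, div_eq_mul_inv, mul_inv]
  calc B.tr c u * B.tr c v * (c (u * v) ^ Fintype.card B.O *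
        ((c u ^ Fintype.card B.O)⁻¹ * (c v ^ Fintype.card B.O)⁻¹)) * (c (u * v) ^ Fintype.card B.O)⁻¹
      = B.tr c u * (c u ^ Fintype.card B.O)⁻¹ * (B.tr c v * (c v ^ Fintype.card B.O)⁻¹) *
        (c (u * v) ^ Fintype.card B.O * (c (u * v) ^ Fintype.card B.O)⁻¹) := by ac_rfl
    _ = _ := by rw [mul_inv_cancel, mul_one]

include hc hinv in
/-- The transfer is constant on the classes inside `K`. -/
theorem BisetData.tr_stable {R : Subgroup Ω} {f : Ω → Ω} (hf : Mor F R f) {u w : S}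
    (hu : (u : Ω) ∈ R) (hw : (w : Ω) = f u) (huK : u ∈ K) (hwK : w ∈ K) :
    B.tr c w = B.tr c u := by
  obtain ⟨π, t, ht⟩ := B.stable R f hf
  have key : ∀ o, c (B.s w (π o)) * c (t o) = c (t (u • o)) * c (B.s u o) := by
    intro o
    have hs := B.s_mem huK o
    have hs' := B.s_mem hwK (π o)
    rw [← hc _ hs', (ht u w hu hw o).2, inv_mul_cancel_right]
    have e : t (u • o) * B.s u o = (t (u • o) * B.s u o * (t (u • o))⁻¹) * t (u • o) := by group
    rw [e, hc _ (Subgroup.Normal.conj_mem inferInstance _ hs _), hinv _ hs, mul_comm]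
  have h := Finset.prod_congr (rfl : (Finset.univ : Finset B.O) = _) fun o _ => key o
  rw [Finset.prod_mul_distrib, Finset.prod_mul_distrib, Equiv.prod_comp π fun o => c (B.s w o),
    show (∏ o : B.O, c (t (u • o))) = ∏ o : B.O, c (t o) from
      Equiv.prod_comp (MulAction.toPerm u : Equiv.Perm B.O) fun o => c (t o), mul_comm] at h
  exact mul_left_cancel h

include hc in
/-- Evaluation of the transfer on a subgroup of `K` whose point stabilizers see `c` itself. -/
theorem BisetData.tr_eq_pow {R : Subgroup S} (hR : R ≤ K)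
    (hfix : ∀ u ∈ R, ∀ o, u • o = o → c (B.s u o) = c u) {u : S} (hu : u ∈ R) :
    B.tr c u = c u ^ Fintype.card B.O := by
  classical
  let β : S → B.O → A := fun v o => c (B.s v o) / c v
  have hco : ∀ v ∈ R, ∀ w ∈ R, ∀ o, β (v * w) o = β v (w • o) * β w o := by
    intro v hv w hw o
    show c (B.s (v * w) o) / c (v * w) = c (B.s v _) / c v * (c (B.s w o) / c w)
    rw [B.cocycle, hc _ (B.s_mem (hR hv) _), hc _ (hR hv), div_mul_div_comm]
  have hout : ∀ o, ∃ g : R, g • (Quotient.mk (MulAction.orbitRel R B.O) o).out = o := fun o => by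
    obtain ⟨g, hg⟩ := Quotient.mk_out (s := MulAction.orbitRel R B.O) o
    exact ⟨g⁻¹, by rw [inv_smul_eq_iff]; exact hg.symm⟩
  choose g hg using hout
  let h : B.O → A := fun o => β (g o) (Quotient.mk (MulAction.orbitRel R B.O) o).out
  have hcob : ∀ o, β u o * h o = h (u • o) := by
    intro o
    have hq : Quotient.mk (MulAction.orbitRel R B.O) (u • o) =
        Quotient.mk (MulAction.orbitRel R B.O) o := Quotient.sound ⟨⟨u, hu⟩, rfl⟩
    have hb : ∀ o', h o' = β (g o') (Quotient.mk (MulAction.orbitRel R B.O) o').out := fun _ => rfl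
    rw [hb, hb, hq]
    generalize hbo : (Quotient.mk (MulAction.orbitRel R B.O) o).out = b
    have h1 : (g o : S) • b = o := hbo ▸ hg o
    have h2 : (g (u • o) : S) • b = u • o := by
      have := hg (u • o)
      rwa [hq, hbo] at this
    rw [show β u o = β u ((g o : S) • b) by rw [h1]]
    rw [← hco u hu _ (g o).2 b]
    have hm : (g (u • o) : S)⁻¹ * (u * (g o : S)) ∈ R :=
      R.mul_mem (R.inv_mem (g (u • o)).2) (R.mul_mem hu (g o).2)
    have hfixb : ((g (u • o) : S)⁻¹ * (u * (g o : S))) • b = b := by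
      rw [mul_smul, mul_smul, h1, inv_smul_eq_iff, h2]
    have h3 := hco _ (g (u • o)).2 _ hm b
    rw [mul_inv_cancel_left, hfixb] at h3
    rw [h3]
    have h4 : β ((g (u • o) : S)⁻¹ * (u * (g o : S))) b = 1 := by
      show _ / _ = (1 : A)
      rw [hfix _ hm b hfixb, div_self']
    rw [h4, mul_one]
  have hprod := Finset.prod_congr (rfl : (Finset.univ : Finset B.O) = _) fun o _ => hcob o
  rw [Finset.prod_mul_distrib, show (∏ o : B.O, h (u • o)) = ∏ o : B.O, h o from
    Equiv.prod_comp (MulAction.toPerm u : Equiv.Perm B.O) h, mul_eq_right] at hprod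
  show (∏ o : B.O, c (B.s u o)) = _
  rw [Finset.prod_div_distrib, Finset.prod_const, Finset.card_univ, div_eq_one] at hprod
  exact hprod

end Transfer

end Cfsg.Agent.FusSys
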