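import Cfsg.Agent.FusSys.IndexPrimeSat

/-!
The subsystems of index prime to `p` given by subgroups of `Aut_F(S)`, and the least one.
-/

set_option autoImplicit false
set_option linter.unusedSectionVars false

namespace Cfsg.Agent.FusSys

open Cfsg Cfsg.FusionSystem

universe u

variable {Ω : Type u} [Group Ω] {S P Q : Subgroup Ω} {F : FusionSystem S} {f : Ω → Ω} {p : ℕ}
variable {Γ : Subgroup (MulAut S)} [Finite S]

theorem subRel_cls (hG : GoodGam F p Γ) :
    SubRel F S (fun P f => Mor F P f ∧ Cls F p Γ P f 1) where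
  congr h he := ⟨h.1.congr he, h.2.congr he⟩
  le h := ⟨h.1.le, fun _ hx => h.1.mem_S hx⟩
  conj hP hs := ⟨mor_conj hP hs, mor_conj hP hs, cls_conj hP hs⟩
  comp _ h _ h' hfR := ⟨h.1.comp h'.1 hfR, by
    have h2 := h.2.comp hG.toGamNormal h'.2 hfR
    rwa [mul_one] at h2⟩
  inv hf h hg hgf := ⟨hg.1, by
    have h2 := h.2.inv hG.toGamNormal hf hgf
    rwa [inv_one] at h2⟩

/-- The maps with trivial class. -/
def clsSys (hG : GoodGam F p Γ) : FusionSystem S := subSys (subRel_cls hG)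

variable (hG : GoodGam F p Γ)

theorem mor_clsSys : Mor (clsSys hG) P f ↔ Cls F p Γ P f 1 :=
  ⟨fun h => ((mor_subSys _).1 h).2.2, fun h => (mor_subSys _).2 ⟨h.mor hG.toGamNormal, h.mor hG.toGamNormal, h⟩⟩

theorem clsSys_le : clsSys hG ≤ F := le_iff_mor.2 fun _ _ h => (mor_clsSys hG).1 h |>.mor hG.toGamNormal

theorem minOp_le_clsSys : minOp F p ≤ clsSys hG :=
  le_iff_mor.2 fun _ _ h => (mor_clsSys hG).2 (cls_minOp h)

theorem mem_autGroup_clsSys {β : MulAut S} (hβ : β ∈ Γ) : β ∈ (clsSys hG).autGroup S :=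
  (mem_autGroup_iff le_rfl).2 ⟨(mor_clsSys hG).2 ⟨Subgroup.one_mem _, β, hβ, id, mor_id le_rfl,
    fun x _ => by rw [one_mul]; rfl⟩, (iso_apl le_rfl (hG.le hβ)).2⟩

variable [Fact p.Prime] (hS : IsPGroup p S) (hF : F.IsSaturated p)
include hS hF

theorem clsSys_hasPrimeIndex : (clsSys hG).HasPrimeToPIndexIn F p :=
  ⟨fun P => clsSys_le hG P, fun _ hP => (opPrime_le_minOp hS hF hP).trans
    (Subgroup.closure_mono fun _ hα => minOp_le_clsSys hG _ hα)⟩

theorem clsSys_saturated : (clsSys hG).IsSaturated p := by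
  intro P hP
  obtain ⟨Q, g, hQn, hg, hgi, -⟩ := exists_fullyNormalized_mor hS hF hP
  obtain ⟨c, hc⟩ := exists_cls hG.toGamNormal hS hF hg
  have hb := iso_apl (F := F) le_rfl (Subgroup.inv_mem _ hc.mem)
  -- a fully normalized subgroup conjugate to `P` in the subsystem
  obtain ⟨M, hMi⟩ := exists_iso_restrict hb.1 hQn.1
  have he : Cls F p Γ P (apl c⁻¹ ∘ g) 1 := by
    have h := (hc.mono (le_normalizerIn hP)).comp hG.toGamNormal
      (cls_apl (p := p) (Γ := Γ) hQn.1 (Subgroup.inv_mem _ hc.mem)) fun x hx => hgi.mem hx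
    rwa [inv_mul_cancel] at h
  have hei : Iso (clsSys hG) P M (apl c⁻¹ ∘ g) :=
    ⟨(mor_clsSys hG).2 he, (hgi.comp hMi).2⟩
  have hPM : F.IsConj P M := (hgi.comp hMi).isConj
  have hMn : F.IsFullyNormalized M := by
    refine ⟨hMi.right_le, fun R hR => (hQn.2 R (isConj_trans hMi.isConj hR)).trans ?_⟩
    exact (hb.1.mono inf_le_left).card_image_le inf_le_left fun x hx =>
      hb.1.mem_normalizerIn_image hMi hQn.1 hx.1 hx.2
  refine ⟨M, hei.isConj, ?_, ?_⟩
  · -- fully automized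
    have := finite_of_le hMn.1
    have : Finite (MulAut M) := Finite.of_injective _ MulEquiv.toEquiv_injective
    refine (fullyAutomized_iff hS hMn.1).2 ?_
    have h := (fullyAutomized_iff hS hMn.1).1 (fullyAutomized_of_fullyNormalized hS hF hMn)
    refine fun hd => h (hd.trans ?_)
    exact ⟨_, (Subgroup.relIndex_mul_relIndex _ _ _
      (autInducedBy_le_autGroup (F := clsSys hG) hMn.1)
      (Subgroup.closure_mono fun α hα => clsSys_le hG M hα)).symm⟩
  · -- receptive
    refine isReceptive_iff.2 ⟨hMn.1, fun X f hf => ?_⟩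
    have hf1 : Cls F p Γ X f 1 := (mor_clsSys hG).1 hf.1
    have hfF : Iso F X M f := ⟨hf1.mor hG.toGamNormal, hf.2⟩
    obtain ⟨ψ, hψ, hψf⟩ :=
      (isReceptive_iff.1 (receptive_of_fullyNormalized hS hF hMn)).2 X f hfF
    obtain ⟨η, hη⟩ := exists_cls hG.toGamNormal hS hF hψ
    have hXN : X ≤ nPhi S X f := hfF.1.le_nPhi
    obtain ⟨f', hf'i, hf'f, -⟩ := hfF.symm
    have hid : Cls F p Γ M id η := by
      have h := ((hf1.inv hG.toGamNormal hfF hf'f).comp hG.toGamNormal (hη.mono hXN) fun y hy => hf'i.mem hy).congr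
        (f' := id) fun y hy => by
          obtain ⟨x, hx, rfl⟩ := hfF.exists_eq hy
          show f x = ψ (f' (f x))
          rw [hf'f x hx, hψf x hx]
      rwa [inv_one, mul_one] at h
    obtain ⟨a, ha, hafix, hac⟩ :=
      exists_fix_of_lam hS hF hG hMn (mainAt hS hF hG hMn η hid)
    obtain ⟨J, hJ⟩ := ha.exists_iso
    obtain ⟨a', ha', ha'a, -⟩ := hJ.symm
    have hψM : Iso F X M ψ := hfF.congr hψf
    have hψmem : ∀ x ∈ nPhi S X f, ψ x ∈ normalizerIn S M := fun x hx =>
      hψ.mem_normalizerIn_image hψM hXN hx hx.2.1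
    have hMT : M ≤ normalizerIn S M := le_normalizerIn hMn.1
    have hmem : ∀ x ∈ nPhi S X f, ψ x ∈ J := fun x hx => by
      obtain ⟨y, hy, hyx⟩ : ∃ y ∈ normalizerIn S M, a y = ψ x := ha.surj_of_card inf_le_left
        (fun y hy => ha.mem_normalizerIn_image ((iso_id hMn.1).congr hafix) hMT hy hy.2)
        le_rfl (hψmem x hx)
      exact hyx ▸ hJ.mem hy
    refine ⟨a' ∘ ψ, (mor_clsSys hG).2 ?_, fun x hx => ?_⟩
    · have h := hη.comp hG.toGamNormal (hac.inv hG.toGamNormal hJ ha'a) hmem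
      rwa [inv_mul_cancel] at h
    · show a' (ψ x) = f x
      rw [hψf x hx]
      have hfx : f x ∈ M := hfF.mem hx
      conv_lhs => rw [← hafix _ hfx]
      exact ha'a _ (hMT hfx)

omit hG in
/-- Every saturated subsystem of index prime to `p` contains the least one. -/
theorem clsSys_le_of_primeIndex {D : FusionSystem S} (hD : D.IsSaturated p)
    (hDi : D.HasPrimeToPIndexIn F p) :
    (clsSys (goodGam_gamMin (F := F) (p := p))).IsSubsystemOf D := by
  have hmin : minOp F p ≤ D := minOp_le_of fun R hR => hDi.2 R hR.1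
  have hgam : gamMin F p ≤ D.autGroup S := by
    refine (Subgroup.closure_le _).2 ?_
    rintro β ⟨hβ, R, hR, hm⟩
    have hmD : Mor D R (apl β) := le_iff_mor.1 hmin R _ hm
    have hβF := (iso_apl (F := F) le_rfl hβ).1
    -- climb to `S`
    suffices h : ∀ d, ∀ X : Subgroup Ω, Nat.card S - Nat.card X = d → F.IsCentric X →
        Mor D X (apl β) → Mor D S (apl β) from
      (mem_autGroup_iff le_rfl).2 ⟨h _ R rfl hR hmD, (iso_apl (F := F) le_rfl hβ).2⟩
    intro d
    induction d using Nat.strong_induction_on with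
    | _ d ih =>
    intro X hd hX hmX
    by_cases hXS : X = S
    · exact hXS ▸ hmX
    obtain ⟨X', hX'⟩ := hmX.exists_iso
    have hXc : D.IsCentric X := centric_of_sub (fun P => hDi.1 P) hX
    obtain ⟨φ, hφ, hφβ⟩ :=
      (isReceptive_iff.1 (centric_receptive hS hD (centric_of_isConj hXc hX'.isConj))).2 X _ hX'
    have hXN : S ⊓ Subgroup.normalizer (X : Set Ω) ≤ nPhi S X (apl β) := fun s hs =>
      ⟨hs.1, hs.2, apl β s, apl_mem β hs.1, fun x hx => hβF.map_conj hs.1 (hX.1 hx)⟩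
    obtain ⟨w, hw, hwy⟩ := eq_on_centric hS hF hX'.1.le_nPhi hX
      (le_iff_mor.1 (fun P => hDi.1 P : D ≤ F) _ _ hφ)
      (hβF.mono (nPhi_le.trans inf_le_left)) hφβ
    have hwN := hX'.1.le_nPhi (centric_self hX hw)
    have hnew : Mor D (nPhi S X (apl β)) (apl β) :=
      ((mor_conj hφ.le hw.1).comp hφ fun y hy => Subgroup.mul_mem _
        (Subgroup.mul_mem _ hwN hy) (Subgroup.inv_mem _ hwN)).congr fun y hy => hwy y hy
    have hlt : X < S ⊓ Subgroup.normalizer (X : Set Ω) :=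
      lt_inf_normalizer hS le_rfl (lt_of_le_of_ne hX.1 hXS)
    have h1 : Nat.card ↥X < Nat.card ↥(S ⊓ Subgroup.normalizer (X : Set Ω)) :=
      card_lt_of_lt' inf_le_left hlt
    have h2 : Nat.card ↥(S ⊓ Subgroup.normalizer (X : Set Ω)) ≤ Nat.card ↥S :=
      Subgroup.card_le_of_le inf_le_left
    exact ih _ (by omega) _ rfl (centric_of_le hX hlt.le inf_le_left) (hnew.mono hXN)
  refine isSubsystemOf_iff_mor.2 fun P f h => ?_
  obtain ⟨-, γ, hγ, e, he, hef⟩ := (mor_clsSys _).1 h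
  exact ((le_iff_mor.1 hmin P e he).comp (iso_apl le_rfl (hgam hγ)).1
    fun x hx => he.mem_S hx).congr fun x hx => by rw [hef x hx, one_mul]; rfl

omit hG in
/-- Saturated systems have a least saturated subsystem of index prime to `p`. -/
theorem exists_pPrimeResidual : ∃ E : FusionSystem S, F.IsPPrimeResidual p E :=
  ⟨_, clsSys_saturated goodGam_gamMin hS hF, clsSys_hasPrimeIndex goodGam_gamMin hS hF,
    fun _ hD hDi => clsSys_le_of_primeIndex hS hF hD hDi⟩

end Cfsg.Agent.FusSys
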