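import Cfsg.Agent.FusSys.ResidualLimit
import Cfsg.Agent.FusSys.InvariantOp
import Cfsg.Agent.FusSys.IndexPrimeSys
import Cfsg.Agent.FusSys.PPowerNormal

/-!
Residual limits exist and are unchanged on passing to a saturated subsystem of index prime to `p`.
-/

set_option autoImplicit false
set_option linter.unusedSectionVars false

namespace Cfsg.Agent.FusSys.PrimeLimit

open Cfsg Cfsg.FusionSystem Cfsg.Agent.FusSys

universe u

variable {Ω : Type u} [Group Ω] {S T H P : Subgroup Ω} {F G : FusionSystem S} {p : ℕ}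

theorem mem_of_index [Fact p.Prime] (hi : G.HasPrimeToPIndexIn F p) (hP : P ≤ S) {α : MulAut P}
    (hα : α ∈ F.autGroup P) {k : ℕ} (hk : α ^ p ^ k = 1) : α ∈ G.autGroup P := by
  obtain ⟨j, -, hj⟩ := (Nat.dvd_prime_pow Fact.out).1 (orderOf_dvd_of_pow_eq_one hk)
  exact hi.2 P hP (mem_opPrime hα hj)

theorem primeIndex_of (hGF : G.IsSubsystemOf F)
    (h : ∀ P ≤ S, ∀ α ∈ F.autGroup P, ∀ k : ℕ, orderOf α = p ^ k → α ∈ G.autGroup P) :
    G.HasPrimeToPIndexIn F p := by
  refine ⟨hGF, fun P hP => ?_⟩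
  rw [MonoidHom.map_closure, Subgroup.closure_le]
  rintro _ ⟨α, ⟨k, hk⟩, rfl⟩
  exact h P hP α α.2 k (by rwa [Subgroup.orderOf_coe])

theorem opPrime_trans {D X : FusionSystem S} (h : D.HasPrimeToPIndexIn F p)
    (h' : X.HasPrimeToPIndexIn D p) : X.HasPrimeToPIndexIn F p := by
  refine primeIndex_of (fun P φ hφ => h.1 P (h'.1 P hφ)) fun P hP α hα k hk => ?_
  exact h'.2 P hP (mem_opPrime (h.2 P hP (mem_opPrime hα hk)) hk)

/-- A limit is a subsystem. -/
theorem limit_le {U : Subgroup Ω} {L : FusionSystem U} {V : Subgroup Ω} {X : FusionSystem V}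
    (hL : L.IsResidualLimitOf X p) : L.IsSubsystemOf X := by
  induction hL with
  | stable => exact fun _ _ h => h
  | step _ _ _ _ hD hD' _ ih => exact fun P _ h => hD.2.1 P (hD'.2.1.1 P (ih P h))

theorem residual_idem {D D' : FusionSystem S} (h : D.IsPPrimeResidual p D') :
    D'.IsPPrimeResidual p D' :=
  ⟨h.1, ⟨fun _ _ hx => hx, fun P _ => Subgroup.map_subtype_le _⟩,
    fun X hX hXi => h.2.2 X hX (opPrime_trans h.2.1 hXi)⟩

variable [Fact p.Prime]

/-- The `p`-residual of a saturated system exists. -/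
theorem exists_pResidual [Finite S] (hS : IsPGroup p S) (hF : F.IsSaturated p) :
    ∃ D, F.IsPResidual p D :=
  PPI.exists_pPower (p := p) (Nat.card S) F _ le_rfl hS hF (hyperfocal_le F p) le_rfl

/-- Residual limits exist. -/
theorem exists_limit [Finite S] (hS : IsPGroup p S) (hF : F.IsSaturated p) :
    ∃ (U : Subgroup Ω) (L : FusionSystem U), L.IsResidualLimitOf F p := by
  suffices H : ∀ n, ∀ {S : Subgroup Ω} [Finite S] (F : FusionSystem S), Nat.card S = n →
      IsPGroup p S → F.IsSaturated p → ∃ (U : Subgroup Ω) (L : FusionSystem U),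
        L.IsResidualLimitOf F p from H _ F rfl hS hF
  intro n
  induction n using Nat.strong_induction_on with
  | _ n ih =>
  intro S _ F hn hS hF
  have small : ∀ {A : Subgroup Ω} (_ : A ≤ S) (X : FusionSystem A), X.IsSaturated p →
      X.hyperfocalSubgroup p < S → ∃ (U : Subgroup Ω) (L : FusionSystem U),
        L.IsResidualLimitOf X p := by
    intro A hA X hX hlt
    haveI := finite_of_le hA
    have hAp := hS.to_le hA
    obtain ⟨D, hD⟩ := exists_pResidual hAp hX
    have hH := hyperfocal_le X p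
    haveI := finite_of_le hH
    obtain ⟨D', hD'⟩ := exists_pPrimeResidual (hAp.to_le hH) hD.1
    obtain ⟨U, L, hL⟩ := ih _ (hn ▸ card_lt_of_lt' le_rfl hlt) D' rfl (hAp.to_le hH) hD'.1
    exact ⟨U, L, .step X p D D' hD hD' hL⟩
  rcases lt_or_eq_of_le (hyperfocal_le F p) with hlt | heq
  · exact small le_rfl F hF hlt
  obtain ⟨D, hD⟩ := exists_pResidual hS hF
  have hH := hyperfocal_le F p
  haveI := finite_of_le hH
  obtain ⟨D', hD'⟩ := exists_pPrimeResidual (hS.to_le hH) hD.1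
  obtain ⟨U, L, hL⟩ : ∃ (U : Subgroup Ω) (L : FusionSystem U), L.IsResidualLimitOf D' p := by
    rcases lt_or_eq_of_le ((hyperfocal_le D' p).trans hH) with h | h
    · exact small hH D' hD'.1 h
    · exact ⟨_, D', .stable D' p (h.trans heq.symm) (residual_idem hD')⟩
  exact ⟨U, L, .step F p D D' hD hD' hL⟩

/-- When the system is its own `p`-residual, its limit is the limit of its `p'`-residual. -/
theorem limit_residual [Finite S] (hS : IsPGroup p S) (hF : F.IsSaturated p)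
    (hyp : F.hyperfocalSubgroup p = S) {R : FusionSystem S} (hR : F.IsPPrimeResidual p R)
    {U : Subgroup Ω} {L : FusionSystem U} (hL : L.IsResidualLimitOf F p) :
    L.IsResidualLimitOf R p := by
  cases hL with
  | stable _ _ h h' =>
    obtain rfl := pPrimeResidual_eq hR h'
    exact .stable R p h h'
  | step _ _ D D' hD hD' hsub =>
    exact limit_congr (pPrimeResidual_congr
      (residual_same hS le_rfl hyp rfl hD.1 hF hD.2 (self_pPower hyp.le)) hD' hR) hsub

section Climb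

variable [Finite S] (hS : IsPGroup p S) (hG : G.IsSaturated p) (hi : G.HasPrimeToPIndexIn F p)
  (hH : F.StronglyClosed H)
include hS hG hi hH

/-- An automorphism of a strongly closed subgroup which is a map of a subsystem of index prime to `p`
on a subgroup containing its centralizer (with its conjugates) lies in that subsystem. -/
theorem climb {R : Subgroup Ω} (hR : ∀ R', F.IsConj R R' → centralizerIn H R' ≤ R') (hRH : R ≤ H)
    {β : MulAut H} (hβ : β ∈ F.autGroup H) (hm : Mor G R (apl β)) : β ∈ G.autGroup H := by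
  have hHS := hH.1
  haveI := finite_of_le hHS
  have hHp := hS.to_le hHS
  have sub : ∀ {X : Subgroup Ω} {f : Ω → Ω}, Mor G X f → Mor F X f :=
    fun {X f} h => isSubsystemOf_iff_mor.1 hi.1 X f h
  suffices main : ∀ d, ∀ R : Subgroup Ω, Nat.card H - Nat.card R = d →
      (∀ R', F.IsConj R R' → centralizerIn H R' ≤ R') → R ≤ H → Mor G R (apl β) → Mor G H (apl β)
    from (mem_autGroup_iff hHS).2 ⟨main _ R rfl hR hRH hm, (iso_apl hHS hβ).2⟩
  intro d
  induction d using Nat.strong_induction_on with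
  | _ d ih =>
  intro R hd hR hRH hm
  by_cases hRH' : R = H
  · exact hRH' ▸ hm
  set N := normalizerIn H R with hNdef
  have hRN : R < N := lt_normalizerIn hHp (lt_of_le_of_ne hRH hRH')
  have hNH : N ≤ H := inf_le_left
  have hRS : R ≤ S := hRH.trans hHS
  haveI := finite_of_le hRS
  have hβF : Mor F H (apl β) := (iso_apl hHS hβ).1
  obtain ⟨R', hR'⟩ := hm.exists_iso
  have hR'F : Iso F R R' (apl β) := ⟨sub hm, hR'.2⟩
  have hR'S : R' ≤ S := hR'.right_le
  obtain ⟨Q, g, hQn, hg, hgi, -⟩ := exists_fullyNormalized_mor hS hG hR'S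
  have hcomp : Iso G R Q (g ∘ apl β) := hR'.comp hgi
  obtain ⟨ê, hê, hêφ⟩ :=
    (isReceptive_iff.1 (receptive_of_fullyNormalized hS hG hQn)).2 R _ hcomp
  have hβN : ∀ n ∈ N, apl β n ∈ normalizerIn S R' := fun n hn =>
    hβF.mem_normalizerIn hRH hR'F hn.1 hn.2
  have hR'N : R' ≤ normalizerIn S R' := le_normalizerIn hR'S
  have hNn : N ≤ nPhi S R (g ∘ apl β) := fun n hn => by
    refine mem_nPhi.2 ⟨hHS hn.1, hn.2, g (apl β n), hg.mem_S (hβN n hn), fun x hx => ?_⟩
    show g (apl β (n * x * n⁻¹)) = g (apl β n) * g (apl β x) * (g (apl β n))⁻¹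
    rw [hβF.map_conj hn.1 (hRH hx), hg.map_conj (hβN n hn) (hR'N (hR'.mem hx))]
  have hêN : Mor G N ê := hê.mono hNn
  obtain ⟨N', hN'⟩ := (hβF.mono hNH).exists_iso
  have hN'le : N' ≤ normalizerIn S R' := fun y hy => by
    obtain ⟨n, hn, rfl⟩ := hN'.exists_eq hy
    exact hβN n hn
  have hgN : Mor G N' g := hg.mono hN'le
  have hR'N' : R' ≤ N' := fun y hy => by
    obtain ⟨x, hx, rfl⟩ := hR'.exists_eq hy
    exact hN'.mem (hRN.le hx)
  have hQc : centralizerIn H Q ≤ Q :=
    hR Q (show Iso F R Q (g ∘ apl β) from ⟨sub hcomp.1, hcomp.2⟩).isConj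
  -- the extension differs from `g ∘ β` by elements of `Q`
  have hdiff : ∀ n ∈ N, ∃ r' ∈ R', ê n = g (apl β n * r') := by
    intro n hn
    have h1 : g (apl β n) ∈ H :=
      StronglyClosed.mor_mem hH (sub hg) (hβN n hn) (apl_mem β hn.1)
    have h2 : ê n ∈ H := StronglyClosed.mor_mem hH (sub hêN) hn hn.1
    obtain ⟨r', hr', hzr⟩ := hgi.exists_eq (hQc (show (g (apl β n))⁻¹ * ê n ∈ centralizerIn H Q by
      refine ⟨H.mul_mem (H.inv_mem h1) h2, Subgroup.mem_centralizer_iff.2 fun q hq => ?_⟩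
      obtain ⟨x, hx, rfl⟩ := hcomp.exists_eq hq
      have hxn : n * x * n⁻¹ ∈ R := (Subgroup.mem_normalizer_iff.1 hn.2 x).1 hx
      have e1 := hêN.map_conj hn (hRN.le hx)
      rw [hêφ _ hxn, hêφ x hx] at e1
      simp only [Function.comp_apply] at e1
      rw [hβF.map_conj hn.1 (hRH hx),
        hg.map_conj (hβN n hn) (hR'N (hR'.mem hx))] at e1
      show g (apl β x) * ((g (apl β n))⁻¹ * ê n) = (g (apl β n))⁻¹ * ê n * g (apl β x)
      calc g (apl β x) * ((g (apl β n))⁻¹ * ê n)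
          = (g (apl β n))⁻¹ * (g (apl β n) * g (apl β x) * (g (apl β n))⁻¹) * ê n := by group
        _ = (g (apl β n))⁻¹ * (ê n * g (apl β x) * (ê n)⁻¹) * ê n := by rw [e1]
        _ = (g (apl β n))⁻¹ * ê n * g (apl β x) := by group))
    exact ⟨r', hr', by rw [hg.map_mul (hβN n hn) (hR'N hr'), hzr, mul_inv_cancel_left]⟩
  obtain ⟨M, hM⟩ := hgN.exists_iso
  obtain ⟨g', hg', hg'g, -⟩ := hM.symm
  have hêM : ∀ n ∈ N, ê n ∈ M := fun n hn => by
    obtain ⟨r', hr', he⟩ := hdiff n hn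
    exact he ▸ hM.mem (N'.mul_mem (hN'.mem hn) (hR'N' hr'))
  have hmN : Mor G N (g' ∘ ê) := hêN.comp hg'.1 hêM
  have hval : ∀ n ∈ N, ∃ r' ∈ R', (g' ∘ ê) n = apl β n * r' := fun n hn => by
    obtain ⟨r', hr', he⟩ := hdiff n hn
    exact ⟨r', hr', by
      show g' (ê n) = _
      rw [he, hg'g _ (N'.mul_mem (hN'.mem hn) (hR'N' hr'))]⟩
  have hβi : Mor F H (apl β⁻¹) := (iso_apl hHS (inv_mem hβ)).1
  have hmH : ∀ n ∈ N, (g' ∘ ê) n ∈ H := fun n hn =>
    StronglyClosed.mor_mem hH (sub hmN) hn hn.1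
  -- `d = β⁻¹ g' ê` fixes `R` and is trivial modulo `R`
  have hd : Mor F N (apl β⁻¹ ∘ (g' ∘ ê)) := (sub hmN).comp hβi hmH
  have hfix : ∀ x ∈ R, (apl β⁻¹ ∘ (g' ∘ ê)) x = x := fun x hx => by
    show apl β⁻¹ (g' (ê x)) = x
    rw [hêφ x hx, Function.comp_apply, hg'g _ (hR'N' (hR'.mem hx)), apl_inv_apl β (hRH hx)]
  have hdd : ∀ n ∈ N, n⁻¹ * (apl β⁻¹ ∘ (g' ∘ ê)) n ∈ R := fun n hn => by
    obtain ⟨r', hr', he⟩ := hval n hn
    obtain ⟨r, hr, rfl⟩ := hR'.exists_eq hr'
    show n⁻¹ * apl β⁻¹ ((g' ∘ ê) n) ∈ R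
    rw [he, ← hβF.map_mul hn.1 (hRH hr), apl_inv_apl β (H.mul_mem hn.1 (hRH hr)),
      inv_mul_cancel_left]
    exact hr
  obtain ⟨k, hk⟩ := pow_fix (hS.to_le hRS) hd hRN.le hfix hdd
  have hdN : ∀ n ∈ N, (apl β⁻¹ ∘ (g' ∘ ê)) n ∈ N := fun n hn => by
    have := N.mul_mem hn (hRN.le (hdd n hn))
    rwa [mul_inv_cancel_left] at this
  obtain ⟨δ, hδ, hδd⟩ := (show Iso F N N _ from ⟨hd, fun y =>
    ⟨fun hy => hd.surj_of_card (hNH.trans hHS) hdN le_rfl hy,
      fun ⟨x, hx, hxy⟩ => hxy ▸ hdN x hx⟩⟩).exists_mem_autGroup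
  have hδG : δ ∈ G.autGroup N := mem_of_index hi (hNH.trans hHS) hδ (k := k)
    (apl_ext fun x hx => by rw [autGroup_iterate hδd _ x hx, hk x hx, apl_one hx])
  have hnew : Mor G N (apl β) := by
    refine ((iso_apl (hNH.trans hHS) (inv_mem hδG)).1.comp hmN fun x hx => apl_mem _ hx).congr
      fun n hn => ?_
    have h1 := hδd _ (apl_mem δ⁻¹ hn)
    rw [apl_apl_inv δ hn] at h1
    show apl β n = (g' ∘ ê) (apl δ⁻¹ n)
    conv_lhs => rw [h1]
    exact apl_apl_inv β (hmH _ (apl_mem _ hn))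
  refine ih _ ?_ N rfl (fun N₁ hN₁ => ?_) hNH hnew
  · have h1 := card_lt_of_lt' hNH hRN
    have h2 : Nat.card ↥N ≤ Nat.card ↥H := Subgroup.card_le_of_le hNH
    omega
  · obtain ⟨f, hf⟩ := isConj_iff.1 hN₁
    obtain ⟨R₁, hR₁⟩ := (hf.1.mono hRN.le).exists_iso
    have hle : R₁ ≤ N₁ := fun y hy => by
      obtain ⟨x, hx, rfl⟩ := hR₁.exists_eq hy
      exact hf.mem (hRN.le hx)
    exact fun c hc => hle (hR R₁ hR₁.isConj ⟨hc.1, Subgroup.centralizer_le hle hc.2⟩)

/-- The `p'`-residual of an invariant saturated subsystem lies in every saturated subsystem of index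
prime to `p`. -/
theorem residual_le {D D' : FusionSystem H} (hD : D.IsSaturated p) (hinv : D.IsInvariantIn F)
    (hD' : D.IsPPrimeResidual p D') : D'.IsSubsystemOf G := by
  have hHS := hH.1
  haveI := finite_of_le hHS
  have hHp := hS.to_le hHS
  have hM : SubRel D H (fun P f => Mor G P f ∧ Mor D P f) := by
    refine ⟨fun h he => ⟨h.1.congr he, h.2.congr he⟩, fun h => ⟨h.2.le, fun _ hx => h.2.mem_S hx⟩,
      fun hP hs => ⟨mor_conj hP hs, mor_conj (hP.trans hHS) (hHS hs), mor_conj hP hs⟩,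
      fun _ h _ h' hfR => ⟨h.1.comp h'.1 hfR, h.2.comp h'.2 hfR⟩, fun hf h hg hgf => ⟨?_, hg.1⟩⟩
    obtain ⟨k, hk, hkl, -⟩ := (show Iso G _ _ _ from ⟨h.1, hf.2⟩).symm
    refine hk.1.congr fun y hy => ?_
    obtain ⟨x, hx, rfl⟩ := hf.exists_eq hy
    rw [hgf x hx, hkl x hx]
  have hX : ContainsCentricOp (subSys hM) D p := by
    intro R hR
    rw [opPrime, MonoidHom.map_closure, Subgroup.closure_le]
    rintro _ ⟨⟨α, hα⟩, ⟨k, hk⟩, rfl⟩
    rw [Subgroup.orderOf_mk] at hk
    have hαG : α ∈ G.autGroup R := mem_of_index hi (hR.1.trans hHS)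
      (autGroup_le_of_invariant hinv hα) (k := k) (by rw [← hk, pow_orderOf_eq_one])
    exact Subgroup.subset_closure (((mor_subSys hM).2 ⟨(iso_apl hR.1 hα).1,
      (iso_apl (hR.1.trans hHS) hαG).1, (iso_apl hR.1 hα).1⟩).hom_eq fun x => (apl_coe α x).symm)
  have hmin : ∀ {P : Subgroup Ω} {f : Ω → Ω}, Mor (minOp D p) P f → Mor G P f := fun {P f} h =>
    (((mor_subSys hM).1 (le_iff_mor.1 (minOp_le_of hX) P f h)).2).1
  have hgam : gamMin D p ≤ G.autGroup H := by
    refine (Subgroup.closure_le _).2 ?_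
    rintro β ⟨hβ, R, hR, hm⟩
    refine climb hS hG hi hH (R := R) (fun R' hR' => ?_) hR.1
      (autGroup_le_of_invariant hinv hβ) (hmin hm)
    obtain ⟨f, hf⟩ := isConj_iff.1 hR'
    exact centric_self (centric_of_mor hinv hR hf)
  have h1 := hD'.2.2 _ (clsSys_saturated (goodGam_gamMin (F := D) (p := p)) hHp hD)
    (clsSys_hasPrimeIndex (goodGam_gamMin (F := D) (p := p)) hHp hD)
  refine isSubsystemOf_iff_mor.2 fun P f hf => ?_
  obtain ⟨-, γ, hγ, e, he, hef⟩ := (mor_clsSys _).1 (isSubsystemOf_iff_mor.1 h1 P f hf)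
  refine ((hmin he).comp (iso_apl hHS (hgam hγ)).1 fun x hx => he.mem_S hx).congr fun x hx => ?_
  rw [hef x hx, one_mul]
  rfl

end Climb

/-- Saturated subsystems of index prime to `p` have the same residual limit. -/
theorem limit_eq_of_primeIndex [Finite S] (hS : IsPGroup p S) (hF : F.IsSaturated p)
    (hG : G.IsSaturated p) (hi : G.HasPrimeToPIndexIn F p) {U W : Subgroup Ω}
    {L : FusionSystem U} (hL : L.IsResidualLimitOf F p) {L' : FusionSystem W}
    (hL' : L'.IsResidualLimitOf G p) : SameHom L L' := by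
  suffices H : ∀ n, ∀ {S : Subgroup Ω} [Finite S] (F G : FusionSystem S), Nat.card S = n →
      IsPGroup p S → F.IsSaturated p → G.IsSaturated p → G.HasPrimeToPIndexIn F p →
      ∀ {U W : Subgroup Ω} {L : FusionSystem U}, L.IsResidualLimitOf F p →
      ∀ {L' : FusionSystem W}, L'.IsResidualLimitOf G p → SameHom L L' from
    H _ F G rfl hS hF hG hi hL hL'
  intro n
  induction n using Nat.strong_induction_on with
  | _ n ih =>
  intro S _ F G hn hS hF hG hi
  -- the case of a proper hyperfocal subgroup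
  have case1 : ∀ {A B : FusionSystem S}, A.IsSaturated p → B.IsSaturated p →
      B.HasPrimeToPIndexIn A p → A.hyperfocalSubgroup p < S → ∀ {U W : Subgroup Ω}
      {L : FusionSystem U}, L.IsResidualLimitOf A p →
      ∀ {L' : FusionSystem W}, L'.IsResidualLimitOf B p → SameHom L L' := by
    intro A B hA hB hAB hlt U W L hL L' hL'
    cases hL with
    | stable _ _ h _ => exact absurd h hlt.ne
    | step _ _ D D' hD hD' hsub =>
      have hH := hyperfocal_le A p
      have hsc := stronglyClosed_hyperfocal hS hA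
      haveI := finite_of_le hH
      have hHp := hS.to_le hH
      obtain ⟨GH, ⟨hGs, hGi⟩, -⟩ := PPI.exists_unique_pPower hS hB hH
        (hyperfocal_mono_sub le_rfl hAB.1)
      have hinv := PPI.invariant_of_pPowerIndex hS hA hH
        (fun s hs x hx => isStronglyClosed_normal hsc hs hx) hD.1 hD.2
      have hD'B := residual_le hS hB hAB hsc hD.1 hinv hD'
      have hle : D' ≤ GH := le_of_contains_residuals hHp hD'.1 hD'B hGi.2.2
      have hGD : GH ≤ D := le_of_contains_residuals hHp hGs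
        (fun P φ hφ => hAB.1 P (hGi.1 P hφ)) hD.2.2.2
      have hidx : D'.HasPrimeToPIndexIn GH p := primeIndex_of (fun P φ hφ => hle P hφ)
        fun P hP α hα k hk => hD'.2.1.2 P hP (mem_opPrime (autGroup_mono_of_le hGD hα) hk)
      obtain ⟨V, L₁, hL₁⟩ := exists_limit hHp hGs
      exact fun P => ((ih _ (hn ▸ card_lt_of_lt' le_rfl hlt) GH D' rfl hHp hGs hD'.1 hidx hL₁
        hsub P).symm.trans (limit_eq_of_pPower hS hB hH hGs hGi hL' hL₁ P).symm)
  intro U W L hL L' hL'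
  rcases lt_or_eq_of_le (hyperfocal_le F p) with hlt | heq
  · exact case1 hF hG hi hlt hL hL'
  obtain ⟨R, hR⟩ := exists_pPrimeResidual hS hF
  have hLR := limit_residual hS hF heq hR hL
  have hRG : R.IsSubsystemOf G := hR.2.2 G hG hi
  have hRi : R.HasPrimeToPIndexIn G p := primeIndex_of hRG fun P hP α hα k hk =>
    hR.2.1.2 P hP (mem_opPrime (autGroup_mono_of_le (fun Q φ h => hi.1 Q h) hα) hk)
  rcases lt_or_eq_of_le (hyperfocal_le G p) with hlt' | heq'
  · exact fun P => (case1 hG hR.1 hRi hlt' hL' hLR P).symm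
  · refine limit_unique hLR hS hR.1 (limit_residual hS hG heq' ⟨hR.1, hRi, fun X hX hXi => ?_⟩ hL')
    exact hR.2.2 X hX (opPrime_trans hi hXi)

end Cfsg.Agent.FusSys.PrimeLimit
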