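import Cfsg.Agent.FusSys.TransportNormal

/-!
Maps of a saturated system carry components to components; automorphisms of the system fix the layer.
-/

set_option autoImplicit false
set_option linter.unusedSectionVars false

namespace Cfsg.Agent.FusSys

open Cfsg Cfsg.FusionSystem

variable {Ω : Type*} [Group Ω] {S : Subgroup Ω} {Ω' : Type*} [Group Ω'] {S' : Subgroup Ω'}
variable {Ω'' : Type*} [Group Ω''] {S'' : Subgroup Ω''}
variable {F : FusionSystem S} {F' : FusionSystem S'} {F'' : FusionSystem S''} {e : Ω → Ω'} {d : Ω' → Ω}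
variable {P Q R T : Subgroup Ω} {f : Ω → Ω} {p : ℕ}

theorem Transp.comp {e₂ : Ω' → Ω''} {d₂ : Ω'' → Ω'} (h : Transp F F' e d) (h₂ : Transp F' F'' e₂ d₂) :
    Transp F F'' (fun x => e₂ (e x)) (fun z => d (d₂ z)) := by
  have himg : ∀ P, P ≤ S → tImg (fun x => e₂ (e x)) P = tImg e₂ (tImg e P) := fun P hP => by
    refine le_antisymm ((Subgroup.closure_le _).2 ?_) fun z hz => ?_
    · rintro _ ⟨x, hx, rfl⟩
      exact mem_tImg_of_mem (mem_tImg_of_mem hx)
    · obtain ⟨y, hy, rfl⟩ := (h₂.mem_tImg (h.tImg_le hP)).1 hz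
      obtain ⟨x, hx, rfl⟩ := (h.mem_tImg hP).1 hy
      exact mem_tImg_of_mem (e := fun x => e₂ (e x)) hx
  have himg' : ∀ P, P ≤ S'' → tImg (fun z => d (d₂ z)) P = tImg d (tImg d₂ P) := fun P hP => by
    refine le_antisymm ((Subgroup.closure_le _).2 ?_) fun z hz => ?_
    · rintro _ ⟨x, hx, rfl⟩
      exact mem_tImg_of_mem (mem_tImg_of_mem hx)
    · obtain ⟨y, hy, rfl⟩ := (h.symm.mem_tImg (h₂.symm.tImg_le hP)).1 hz
      obtain ⟨x, hx, rfl⟩ := (h₂.symm.mem_tImg hP).1 hy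
      exact mem_tImg_of_mem (e := fun z => d (d₂ z)) hx
  refine ⟨fun x hx => h₂.map_mem _ (h.map_mem x hx), fun z hz => h.inv_mem _ (h₂.inv_mem z hz),
    fun x hx => by rw [h₂.left _ (h.map_mem x hx), h.left x hx],
    fun z hz => by rw [h.right _ (h₂.inv_mem z hz), h₂.right z hz],
    fun x hx y hy => by rw [h.map_mul x hx y hy, h₂.map_mul _ (h.map_mem x hx) _ (h.map_mem y hy)],
    fun P f hf => ?_, fun P f hf => ?_⟩
  · rw [himg P hf.le]
    exact h₂.mor _ _ (h.mor P f hf)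
  · rw [himg' P hf.le]
    exact h.mor' _ _ (h₂.mor' P f hf)

theorem Transp.congr {e' : Ω → Ω'} (h : Transp F F' e d) (he : ∀ x ∈ S, e' x = e x) : Transp F F' e' d := by
  refine ⟨fun x hx => he x hx ▸ h.map_mem x hx, h.inv_mem, fun x hx => by rw [he x hx, h.left x hx],
    fun y hy => by rw [he _ (h.inv_mem y hy), h.right y hy],
    fun x hx y hy => by rw [he _ (S.mul_mem hx hy), he x hx, he y hy, h.map_mul x hx y hy],
    fun P f hf => ?_, fun P f hf => ?_⟩
  · have h1 := h.mor P f hf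
    rw [tImg_congr fun x hx => (he x (hf.le hx)).symm] at h1
    refine h1.congr fun y hy => ?_
    obtain ⟨x, hx, rfl⟩ : ∃ x ∈ P, e x = y := by
      rw [tImg_congr fun x hx => he x (hf.le hx)] at hy
      exact (h.mem_tImg hf.le).1 hy
    show e' (f (d (e x))) = e (f (d (e x)))
    rw [h.left x (hf.le hx), he _ (hf.mem_S hx)]
  · have h1 := h.mor' P f hf
    refine h1.congr fun x hx => ?_
    obtain ⟨y, hy, rfl⟩ := (h.symm.mem_tImg hf.le).1 hx
    show d (f (e' (d y))) = d (f (e (d y)))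
    rw [he _ (h.inv_mem y (hf.le hy))]

theorem transp_of_iso_top {δ g : Ω → Ω} (hg : Iso F S S g) (hδ : Iso F S S δ) (h1 : ∀ x ∈ S, δ (g x) = x)
    (h2 : ∀ x ∈ S, g (δ x) = x) : Transp F F g δ := by
  have key : ∀ (g δ : Ω → Ω), Iso F S S g → Iso F S S δ → (∀ x ∈ S, δ (g x) = x) →
      ∀ P f, Mor F P f → Mor F (tImg g P) (fun y => g (f (δ y))) := by
    intro g δ hg hδ h1 P f hf
    have hle : tImg g P ≤ S := (Subgroup.closure_le _).2 (by rintro _ ⟨x, hx, rfl⟩; exact hg.mem (hf.le hx))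
    have hback : ∀ y ∈ tImg g P, δ y ∈ P := fun y hy => by
      induction hy using Subgroup.closure_induction with
      | mem y hy => obtain ⟨x, hx, rfl⟩ := hy; exact (h1 x (hf.le hx)).symm ▸ hx
      | one => rw [hδ.1.map_one]; exact P.one_mem
      | mul a b ha hb iha ihb => rw [hδ.1.map_mul (hle ha) (hle hb)]; exact P.mul_mem iha ihb
      | inv a ha iha => rw [hδ.1.map_inv (hle ha)]; exact P.inv_mem iha
    exact ((hδ.1.mono hle).comp hf hback).comp hg.1 fun y hy => hf.mem_S (hback y hy)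
  exact ⟨fun x hx => hg.mem hx, fun x hx => hδ.mem hx, h1, h2, fun x hx y hy => hg.1.map_mul hx hy,
    key g δ hg hδ h1, key δ g hδ hg h2⟩

theorem subnormal_le {T U : Subgroup Ω} {C : FusionSystem T} {D : FusionSystem U} (h : C.IsSubnormalIn D p) :
    T ≤ U := by
  induction h with
  | refl => exact le_rfl
  | step _ hDF ih => exact ih.trans hDF.1.2.2.2.1.1

theorem subnormal_map [hp : Fact p.Prime] [hfin : Finite S] (hS : IsPGroup p S) {T : Subgroup Ω}
    {C : FusionSystem T} (hC : C.IsSubnormalIn F p) {γ : Ω → Ω} (hγ : Mor F T γ) :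
    T ≤ S ∧ ∃ T₁, ∃ C₁ : FusionSystem T₁, ∃ δ, Transp C C₁ γ δ ∧ C₁.IsSubnormalIn F p := by
  revert hS hfin hp γ
  induction hC with
  | refl =>
    intro hp hfin hS γ hγ
    obtain ⟨T₁, hiso⟩ := hγ.exists_iso
    have hT := eq_of_le_of_card le_rfl hiso.right_le hiso.card_eq.le
    rw [hT] at hiso
    obtain ⟨δ, hδ, h1, h2⟩ := hiso.symm
    exact ⟨le_rfl, _, _, δ, transp_of_iso_top hiso hδ h1 h2, IsSubnormalIn.refl _ _⟩
  | step hED hDF ih =>
    intro hp hfin hS γ hγ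
    have hUS := hDF.1.2.2.2.1.1
    haveI := finite_of_le hUS
    have hTU := subnormal_le hED
    obtain ⟨β, hβ, g, hg, hgx⟩ := exists_frattini hDF.1.2.2 hTU hγ
    obtain ⟨-, T₁, C₁, δ, hC₁, hsub⟩ := ih (hS.to_le hUS) hg
    obtain ⟨-, T₂, C₂, hC₂, hsub₂⟩ := (transp_of_invariant hDF.1.2.2 hβ).subnormal (hS.to_le hUS) hsub
    exact ⟨hTU.trans hUS, T₂, C₂, _, (hC₁.comp hC₂).congr hgx, IsSubnormalIn.step hsub₂ hDF⟩

theorem component_map [Fact p.Prime] [Finite S] (hS : IsPGroup p S) {T : Subgroup Ω} {C : FusionSystem T}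
    (hC : C.IsComponentIn F p) {γ : Ω → Ω} (hγ : Mor F T γ) :
    T ≤ S ∧ ∃ T₁, ∃ C₁ : FusionSystem T₁, ∃ δ, Transp C C₁ γ δ ∧ C₁.IsComponentIn F p := by
  obtain ⟨hTS, T₁, C₁, δ, hC₁, hsub⟩ := subnormal_map hS hC.1 hγ
  haveI := finite_of_le hTS
  exact ⟨hTS, T₁, C₁, δ, hC₁, hsub, hC₁.quasisimple (hS.to_le hTS) hC.2⟩

theorem tImg_eq_imageAlong {θ : S →* Ω'} (hP : P ≤ S) : imageAlong θ P = tImg (thFn θ) P := by
  refine le_antisymm (fun y hy => ?_) ((Subgroup.closure_le _).2 ?_)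
  · obtain ⟨x, hx, rfl⟩ := (mem_imageAlong hP).1 hy
    exact mem_tImg_of_mem hx
  · rintro _ ⟨x, hx, rfl⟩
    exact (mem_imageAlong hP).2 ⟨x, hx, rfl⟩

theorem transp_of_morphism (α : S ≃* S') (hα : F.IsMorphism F' (S'.subtype.comp α.toMonoidHom))
    (hα' : F'.IsMorphism F (S.subtype.comp α.symm.toMonoidHom)) :
    Transp F F' (thFn (S'.subtype.comp α.toMonoidHom)) (thFn (S.subtype.comp α.symm.toMonoidHom)) := by
  have hl : ∀ x ∈ S, thFn (S.subtype.comp α.symm.toMonoidHom) (thFn (S'.subtype.comp α.toMonoidHom) x) = x :=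
    fun x hx => by
      rw [thFn_apply hx]
      show thFn (S.subtype.comp α.symm.toMonoidHom) ((α ⟨x, hx⟩ : S') : Ω') = x
      rw [thFn_coe]
      show ((α.symm (α ⟨x, hx⟩) : S) : Ω) = x
      rw [α.symm_apply_apply]
  have hr : ∀ x ∈ S', thFn (S'.subtype.comp α.toMonoidHom) (thFn (S.subtype.comp α.symm.toMonoidHom) x) = x :=
    fun x hx => by
      rw [thFn_apply hx]
      show thFn (S'.subtype.comp α.toMonoidHom) ((α.symm ⟨x, hx⟩ : S) : Ω) = x
      rw [thFn_coe]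
      show ((α (α.symm ⟨x, hx⟩) : S') : Ω') = x
      rw [α.apply_symm_apply]
  have hm : ∀ x ∈ S, thFn (S'.subtype.comp α.toMonoidHom) x ∈ S' := fun x hx => by
    rw [thFn_apply hx]; exact (α ⟨x, hx⟩).2
  have hm' : ∀ x ∈ S', thFn (S.subtype.comp α.symm.toMonoidHom) x ∈ S := fun x hx => by
    rw [thFn_apply hx]; exact (α.symm ⟨x, hx⟩).2
  refine ⟨hm, hm', hl, hr, fun x hx y hy => thFn_mul hx hy, fun P f hf => ?_, fun P f hf => ?_⟩
  · obtain ⟨φ, hφ, hφf⟩ := hf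
    obtain ⟨φ', hφ', hP, hv, hP', heq⟩ := hα.2 P φ hφ
    have hm'' := (mor_extendFn hφ').mono (tImg_eq_imageAlong hP).ge
    refine hm''.congr fun y hy => ?_
    rw [← tImg_eq_imageAlong hP] at hy
    obtain ⟨x, hx, rfl⟩ := (mem_imageAlong hP).1 hy
    show thFn _ (f (thFn (S.subtype.comp α.symm.toMonoidHom) (thFn _ x))) = extendFn φ' (thFn _ x)
    rw [hl x (hP hx), thFn_apply (hP hx), extendFn_apply φ' (hP' ⟨x, hx⟩), heq ⟨x, hx⟩, ← thFn_apply, hφf]
  · obtain ⟨φ, hφ, hφf⟩ := hf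
    obtain ⟨φ', hφ', hP, hv, hP', heq⟩ := hα'.2 P φ hφ
    have hm'' := (mor_extendFn hφ').mono (tImg_eq_imageAlong hP).ge
    refine hm''.congr fun y hy => ?_
    rw [← tImg_eq_imageAlong hP] at hy
    obtain ⟨x, hx, rfl⟩ := (mem_imageAlong hP).1 hy
    show thFn _ (f (thFn (S'.subtype.comp α.toMonoidHom) (thFn _ x))) = extendFn φ' (thFn _ x)
    rw [hr x (hP hx), thFn_apply (hP hx), extendFn_apply φ' (hP' ⟨x, hx⟩), heq ⟨x, hx⟩, ← thFn_apply, hφf]

/-- An automorphism of the system stabilises its layer. -/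
theorem layer_transp [Fact p.Prime] [Finite S] (hS : IsPGroup p S) {e d : Ω → Ω} (h : Transp F F e d)
    {E : FusionSystem T} (hE : E.IsLayerOf F p) : tImg e T = T ∧ Transp E E e d := by
  have hTS : T ≤ S := hE.1.1.2.2.2.1.1
  haveI := finite_of_le hTS
  have key : ∀ {e d : Ω → Ω}, Transp F F e d →
      ∃ E' : FusionSystem (tImg e T), Transp E E' e d ∧ E.IsSubsystemOf E' := by
    intro e d h
    obtain ⟨E', hE'⟩ := h.restrict E hTS
    refine ⟨E', hE', hE.2.2 _ E' (h.normal hS hE' hE.1) fun U C hC => ?_⟩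
    obtain ⟨hUS, U', C', hC', hcomp⟩ := h.symm.component hS hC
    have hU'S : U' ≤ S := hC'.tImg_top ▸ h.symm.tImg_le hUS
    refine isSubsystemOf_iff_mor.2 fun P f hf => ?_
    have h1 := hE'.mor _ _ (isSubsystemOf_iff_mor.1 (hE.2.1 U' C' hcomp) _ _ (hC'.mor P f hf))
    rw [h.symm.tImg_tImg (hf.le.trans hUS)] at h1
    exact h1.congr fun y hy => by
      rw [h.right y (hUS (hf.le hy)), h.right _ (hUS (hf.mem_S hy))]
  obtain ⟨E', hE', hsub⟩ := key h
  obtain ⟨E'', hE'', hsub'⟩ := key h.symm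
  have hle : T ≤ tImg e T := by
    have h1 := isSubsystemOf_iff_mor.1 hsub T id (mor_id le_rfl)
    exact h1.le
  have hle' : T ≤ tImg d T := by
    have h1 := isSubsystemOf_iff_mor.1 hsub' T id (mor_id le_rfl)
    exact h1.le
  have hT : tImg e T = T := le_antisymm
    ((tImg_mono hle').trans (h.symm.tImg_tImg hTS).le) hle
  have hT' : tImg d T = T := le_antisymm ((tImg_mono hle).trans (h.tImg_tImg hTS).le) hle'
  refine ⟨hT, fun x hx => hT.le (mem_tImg_of_mem hx), fun x hx => hT'.le (mem_tImg_of_mem hx),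
    fun x hx => h.left x (hTS hx), fun x hx => h.right x (hTS hx),
    fun x hx y hy => h.map_mul x (hTS hx) y (hTS hy), fun P f hf => ?_, fun P f hf => ?_⟩
  · have h1 := hE''.mor' P f (isSubsystemOf_iff_mor.1 hsub' P f hf)
    exact h1
  · exact hE'.mor' P f (isSubsystemOf_iff_mor.1 hsub P f hf)

end Cfsg.Agent.FusSys
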