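import Cfsg.Agent.FusSys.WeaklyNormalAux
import Cfsg.Agent.FusSys.SolvableSys

/-!
Weakly normal subsystems of constrained systems are constrained.
-/

set_option autoImplicit false

namespace Cfsg.Agent.FusSys

open Cfsg Cfsg.FusionSystem

universe u

variable {Ω : Type u} [Group Ω] {S T Q : Subgroup Ω} {F : FusionSystem S} {E : FusionSystem T}
variable {p : ℕ}

/-- The part in `T` of a normal subgroup is normal in a weakly normal subsystem over `T`. -/
theorem isNormal_inter [Fact p.Prime] [Finite S] (hS : IsPGroup p S)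
    (hE : E.IsWeaklyNormalIn F p) (hQ : F.IsNormal Q) : E.IsNormal (Q ⊓ T) := by
  have hT := hE.2.2.2.1
  haveI := finite_of_le hT.1
  have hQc := stronglyClosed_of_isNormal hQ
  have hsub := isSubsystemOf_iff_mor.1 hE.2.2.1
  have hTp : IsPGroup p T := hS.to_le hT.1
  have hsc : E.StronglyClosed (Q ⊓ T) := stronglyClosed_iff.2 ⟨inf_le_right, fun X f hX hf x hx =>
    ⟨StronglyClosed.mor_mem hQc (hsub _ _ hf) hx (hX hx).1, hf.mem_S hx⟩⟩
  refine isNormal_of_stronglyClosed_le hTp hE.1 hsc fun P hc hr => ?_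
  refine le_of_normalizer_le hTp hE.1 hsc hc.1 fun a ha han => ?_
  haveI := finite_of_le hc.1
  refine mem_of_normal_pGroup hc hr ha.2 han (Γ := E.autGroup P ⊓ autInducedBy (Q ⊓ T) P)
    inf_le_left ?_ ?_ ?_
  · intro g
    obtain ⟨b, hb, hbn, hbx⟩ := mem_autInducedBy_iff.1 g.2.2
    obtain ⟨k, hk⟩ := hTp ⟨b, hb.2⟩
    have hpow : ∀ n : ℕ, ∀ y ∈ P, apl ((g : MulAut P) ^ n) y = b ^ n * y * (b ^ n)⁻¹ := by
      intro n
      induction n with
      | zero => intro y hy; rw [pow_zero, apl_one hy]; group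
      | succ n ih =>
        intro y hy
        rw [pow_succ' (g : MulAut P), apl_mul _ _ hy, hbx _ (apl_mem _ hy), ih y hy, pow_succ']
        group
    refine ⟨k, Subtype.ext (apl_ext fun y hy => ?_)⟩
    show apl ((g : MulAut P) ^ p ^ k) y = apl (1 : MulAut P) y
    rw [hpow _ y hy, show b ^ p ^ k = 1 from congrArg Subtype.val hk, apl_one hy]
    group
  · rintro α hα γ ⟨hγE, hγ⟩
    refine ⟨Subgroup.mul_mem _ (Subgroup.mul_mem _ hα hγE) (Subgroup.inv_mem _ hα), ?_⟩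
    obtain ⟨b, hb, hbn, hbx⟩ := mem_autInducedBy_iff.1 hγ
    have hαF := hsub _ _ (iso_apl hc.1 hα).1
    obtain ⟨g, hg, hgα, hgQ⟩ := (isNormal_iff.1 hQ).2 P _ hαF
    have hb' : g b ∈ Q ⊓ T := ⟨(hgQ _).2 ⟨b, hb.1, rfl⟩,
      StronglyClosed.mor_mem hT hg (Subgroup.mem_sup_right hb.1) hb.2⟩
    have key : ∀ y ∈ P, apl (α * γ * α⁻¹) y = g b * y * (g b)⁻¹ := fun y hy => by
      have hz := apl_mem α⁻¹ hy
      rw [mul_assoc, apl_mul _ _ hy, apl_mul _ _ hy]
      rw [← hgα _ (apl_mem γ hz), hbx _ hz,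
        hg.map_conj (Subgroup.mem_sup_right hb.1) (Subgroup.mem_sup_left hz), hgα _ hz,
        apl_apl_inv α hy]
    refine mem_autInducedBy_iff.2 ⟨g b, hb', mem_normalizer_of_conj_mem fun y hy => ?_, key⟩
    rw [← key y hy]
    exact apl_mem _ hy
  · intro γ hγ hγx
    exact ⟨hγ, mem_autInducedBy_iff.2 ⟨a, ha, han, hγx⟩⟩

/-- A weakly normal subsystem of a constrained system is constrained. -/
theorem constrained_of_weaklyNormal [Fact p.Prime] [Finite S] (hS : IsPGroup p S)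
    (hc : F.IsConstrained p) (hE : E.IsWeaklyNormalIn F p) : E.IsConstrained p := by
  obtain ⟨hF, Q, hQ, hQc⟩ := hc
  have hT := hE.2.2.2.1
  haveI := finite_of_le hT.1
  have hTp : IsPGroup p T := hS.to_le hT.1
  have hR : E.IsNormal E.core := isNormal_core
  have hDR : Q ⊓ T ≤ E.core := le_core (isNormal_inter hS hE hQ)
  refine ⟨hE.1, E.core, hR, hR.1, fun P hP => ?_⟩
  obtain ⟨φ, hφ⟩ := isConj_iff.1 hP
  obtain rfl : P = E.core :=
    hφ.eq_image (StronglyClosed.iso_self (stronglyClosed_of_isNormal hR) hφ.1 le_rfl)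
  set C := centralizerIn T E.core with hC
  have hCc : E.StronglyClosed C := stronglyClosed_centralizer_of_normal hTp hE.1 hR
  have hdiff : ∀ q ∈ Q, ∀ c ∈ C, q⁻¹ * (c * q * c⁻¹) ∈ Q ⊓ T := fun q hq c hc => by
    refine ⟨Q.mul_mem (Q.inv_mem hq)
      (isStronglyClosed_normal (stronglyClosed_of_isNormal hQ) (hT.1 hc.1) hq), ?_⟩
    have h := T.mul_mem (isStronglyClosed_normal hT (S.inv_mem (hQ.1 hq)) hc.1) (T.inv_mem hc.1)
    simpa [mul_assoc] using h
  have hfix : ∀ d ∈ Q ⊓ T, ∀ c ∈ C, c * d * c⁻¹ = d := fun d hd c hc => by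
    rw [← (Subgroup.mem_centralizer_iff.1 hc.2 d (hDR hd)), mul_inv_cancel_right]
  have hswap : ∀ a ∈ C, ∀ x ∈ C, ∀ q ∈ Q, a * x * q * (a * x)⁻¹ = x * a * q * (x * a)⁻¹ := by
    intro a ha x hx q hq
    set da := q⁻¹ * (a * q * a⁻¹) with hdadef
    set dx := q⁻¹ * (x * q * x⁻¹) with hdxdef
    have hda : da ∈ Q ⊓ T := hdiff q hq a ha
    have hdx : dx ∈ Q ⊓ T := hdiff q hq x hx
    have hq' : q * dx * q⁻¹ ∈ Q ⊓ T := ⟨Q.mul_mem (Q.mul_mem hq hdx.1) (Q.inv_mem hq),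
      isStronglyClosed_normal hT (hQ.1 hq) hdx.2⟩
    have ea : a * q * a⁻¹ = q * da := by rw [hdadef]; group
    have ex : x * q * x⁻¹ = q * dx := by rw [hdxdef]; group
    have hcom : da * dx = dx * da := by
      have h2 : a * (q * dx * q⁻¹) * a⁻¹ = q * da * dx * (q * da)⁻¹ := by
        calc a * (q * dx * q⁻¹) * a⁻¹ = (a * q * a⁻¹) * (a * dx * a⁻¹) * (a * q * a⁻¹)⁻¹ := by group
          _ = q * da * dx * (q * da)⁻¹ := by rw [ea, hfix dx hdx a ha]
      rw [hfix _ hq' a ha] at h2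
      calc da * dx = q⁻¹ * (q * da * dx * (q * da)⁻¹) * q * da := by group
        _ = q⁻¹ * (q * dx * q⁻¹) * q * da := by rw [h2]
        _ = dx * da := by group
    calc a * x * q * (a * x)⁻¹ = a * (x * q * x⁻¹) * a⁻¹ := by group
      _ = (a * q * a⁻¹) * (a * dx * a⁻¹) := by rw [ex]; group
      _ = q * (da * dx) := by rw [ea, hfix dx hdx a ha, mul_assoc]
      _ = q * dx * (x * da * x⁻¹) := by rw [hfix da hda x hx, mul_assoc q dx da, hcom]
      _ = x * (a * q * a⁻¹) * x⁻¹ := by rw [← ex, ea]; group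
      _ = x * a * q * (x * a)⁻¹ := by group
  have hcomm : ∀ a ∈ C, ∀ x ∈ C, x⁻¹ * (a * x * a⁻¹) ∈ Q ⊓ T := by
    intro a ha x hx
    have hzT : x⁻¹ * (a * x * a⁻¹) ∈ T :=
      T.mul_mem (T.inv_mem hx.1) (T.mul_mem (T.mul_mem ha.1 hx.1) (T.inv_mem ha.1))
    refine ⟨centric_self hQc ⟨hT.1 hzT, Subgroup.mem_centralizer_iff.2 fun q hq => ?_⟩, hzT⟩
    have hq' : a⁻¹ * q * a ∈ Q := by
      simpa using isStronglyClosed_normal (stronglyClosed_of_isNormal hQ)
        (S.inv_mem (hT.1 ha.1)) hq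
    have h := hswap a ha x hx _ hq'
    calc q * (x⁻¹ * (a * x * a⁻¹))
        = a * (x * a)⁻¹ * (x * a * (a⁻¹ * q * a) * (x * a)⁻¹) * (a * x) * a⁻¹ := by group
      _ = a * (x * a)⁻¹ * (a * x * (a⁻¹ * q * a) * (a * x)⁻¹) * (a * x) * a⁻¹ := by rw [h]
      _ = x⁻¹ * (a * x * a⁻¹) * q := by group
  have hinf : E.StronglyClosed (C ⊓ (Q ⊓ T)) := stronglyClosed_iff.2
    ⟨inf_le_left.trans hCc.1, fun X f hX hf x hx =>
      ⟨StronglyClosed.mor_mem hCc hf hx (hX hx).1,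
        StronglyClosed.mor_mem (stronglyClosed_of_isNormal (isNormal_inter hS hE hQ)) hf hx (hX hx).2⟩⟩
  let C' : ℕ → Subgroup Ω := fun i => if i = 0 then ⊥ else if i = 1 then C ⊓ (Q ⊓ T) else C
  have hC' : ∀ i, E.StronglyClosed (C' i) := fun i => by
    show E.StronglyClosed (if i = 0 then ⊥ else if i = 1 then C ⊓ (Q ⊓ T) else C)
    split_ifs
    exacts [stronglyClosed_of_isNormal isNormal_bot, hinf, hCc]
  refine le_core (isNormal_of_series hTp hE.1 hCc (C := C') (n := 2) ?_ (by simp [C'])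
    (fun P hc _ => ⟨fun α hα i _ x hx =>
      apl_invariant_of_stronglyClosed (hC' i) hc.1 hα hx, fun δ _ _ x hx hx0 => ?_⟩)
    fun i hi a ha x hx => ?_)
  · refine monotone_nat_of_le_succ fun i => ?_
    show (if i = 0 then ⊥ else if i = 1 then C ⊓ (Q ⊓ T) else C) ≤
      if i + 1 = 0 then ⊥ else if i + 1 = 1 then C ⊓ (Q ⊓ T) else C
    rcases i with - | - | i <;> simp
  · have h1 : x = 1 := by simpa [C'] using hx0
    subst h1
    rw [apl_apply δ hx]
    exact congrArg Subtype.val (map_one δ)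
  · obtain rfl | rfl : i = 0 ∨ i = 1 := by omega
    · have hxD : x ∈ C ⊓ (Q ⊓ T) := by simpa [C'] using hx
      show x⁻¹ * (a * x * a⁻¹) ∈ (⊥ : Subgroup Ω)
      rw [hfix x hxD.2 a ha, inv_mul_cancel]
      exact one_mem _
    · have hxC : x ∈ C := by simpa [C'] using hx
      show x⁻¹ * (a * x * a⁻¹) ∈ C ⊓ (Q ⊓ T)
      exact ⟨C.mul_mem (C.inv_mem hxC) (C.mul_mem (C.mul_mem ha hxC) (C.inv_mem ha)), hcomm a ha x hxC⟩

end Cfsg.Agent.FusSys
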