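import Cfsg.Agent.FusSys.PPowerIndex
import Cfsg.Agent.FusSys.ElemCrit
import Cfsg.Prelude.Def_FusionReduction

/-!
Hyperfocal subgroups of subsystems of `p`-power index; uniqueness of residual limits.
-/

set_option autoImplicit false
set_option linter.unusedSectionVars false

namespace Cfsg.Agent.FusSys

open Cfsg Cfsg.FusionSystem

universe u

variable {Ω : Type u} [Group Ω] {S T P : Subgroup Ω} {F : FusionSystem S} {E : FusionSystem T} {p : ℕ}

/-- Two systems with the same maps. -/
def SameHom {S T : Subgroup Ω} (F : FusionSystem S) (E : FusionSystem T) : Prop := ∀ P, F.Hom P = E.Hom P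

theorem SameHom.base_eq {S T : Subgroup Ω} {F : FusionSystem S} {E : FusionSystem T} (h : SameHom F E) : S = T := by
  refine le_antisymm ?_ ?_
  · obtain ⟨φ, hφ, -⟩ := mor_id (F := F) (le_refl S)
    exact (E.le_of_mem ((h S) ▸ hφ)).1
  · obtain ⟨φ, hφ, -⟩ := mor_id (F := E) (le_refl T)
    exact (F.le_of_mem ((h T).symm ▸ hφ)).1

theorem autGroup_le_of_sub (h : E.IsSubsystemOf F) : E.autGroup P ≤ F.autGroup P :=
  Subgroup.closure_mono fun _ hα => h P hα

theorem pResidual_le_of_sub (h : E.IsSubsystemOf F) :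
    (pResidual p (E.autGroup P)).map (E.autGroup P).subtype ≤
      (pResidual p (F.autGroup P)).map (F.autGroup P).subtype := by
  rintro _ ⟨α, hα, rfl⟩
  exact Subgroup.mem_map.2 ⟨Subgroup.inclusion (autGroup_le_of_sub h) α,
    Cfsg.Agent.Fusion.map_pResidual_le _ (Subgroup.mem_map_of_mem _ hα), rfl⟩

/-- `O^p` of the automorphism group is reached in one step. -/
theorem pResidual_le_residual (h : (pResidual p (F.autGroup P)).map (F.autGroup P).subtype ≤ E.autGroup P) :
    (pResidual p (F.autGroup P)).map (F.autGroup P).subtype ≤ (pResidual p (E.autGroup P)).map (E.autGroup P).subtype := by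
  rw [pResidual, MonoidHom.map_closure, Subgroup.closure_le]
  rintro _ ⟨α, hα, rfl⟩
  have h1 : (α : MulAut P) ∈ E.autGroup P := h (Subgroup.mem_map.2 ⟨α, Subgroup.subset_closure hα, rfl⟩)
  refine Subgroup.mem_map.2 ⟨⟨α, h1⟩, Subgroup.subset_closure ?_, rfl⟩
  show (orderOf (⟨α, h1⟩ : E.autGroup P)).Coprime p
  rw [← Subgroup.orderOf_coe]
  rwa [Set.mem_setOf_eq, ← Subgroup.orderOf_coe] at hα

theorem hyperfocal_mono_sub (hTS : T ≤ S) (h : E.IsSubsystemOf F) :
    E.hyperfocalSubgroup p ≤ F.hyperfocalSubgroup p := by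
  refine (Subgroup.closure_le _).2 ?_
  rintro _ ⟨P, α, x, hP, hα, rfl⟩
  rw [← apl_coe]
  exact residual_quot_mem_hyperfocal (hP.trans hTS) (pResidual_le_of_sub h (Subgroup.mem_map_of_mem _ hα)) x.2

section Saturated

variable [Fact p.Prime] [Finite S] (hS : IsPGroup p S) (hF : F.IsSaturated p)
include hS hF

theorem hyperfocal_eq_of_pPower (hTS : T ≤ S) (hE : E.IsSaturated p) (hi : E.HasPPowerIndexIn F p) :
    E.hyperfocalSubgroup p = F.hyperfocalSubgroup p := by
  haveI := finite_of_le hTS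
  refine le_antisymm (hyperfocal_mono_sub hTS hi.1) ?_
  set H := F.hyperfocalSubgroup p
  set H' := E.hyperfocalSubgroup p with hH'
  have hHsc := stronglyClosed_hyperfocal hS hF
  have hH'sc := stronglyClosed_hyperfocal (hS.to_le hTS) hE
  -- the automorphisms acting trivially modulo `H'`
  have key : ∀ R ≤ S, ∀ δ ∈ F.autGroup R, (orderOf δ).Coprime p → ∀ x ∈ R, x⁻¹ * apl δ x ∈ H' := by
    intro R hR δ hδ hc x hx
    have hm := (iso_apl hR hδ).1
    set M := R ⊓ H
    have hMT : M ≤ T := inf_le_right.trans hi.2.1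
    have hinv : ∀ y ∈ M, apl δ y ∈ M := fun y hy =>
      ⟨apl_mem δ hy.1, StronglyClosed.mor_mem hHsc hm hy.1 hy.2⟩
    haveI := finite_of_le hR
    obtain ⟨β, hβx, hd⟩ := exists_restrict δ (inf_le_left : M ≤ R) hinv
    have hMS : M ≤ S := inf_le_left.trans hR
    have hβF : β ∈ F.autGroup M := by
      refine (mem_autGroup_iff hMS).2 ⟨(hm.mono inf_le_left).congr fun y hy => hβx y hy, fun z => ⟨fun hz =>
        ⟨apl β⁻¹ z, apl_mem _ hz, apl_apl_inv β hz⟩, fun ⟨y, hy, hyz⟩ => hyz ▸ apl_mem β hy⟩⟩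
    have hM : ∀ y ∈ M, y⁻¹ * apl δ y ∈ H' := fun y hy => by
      rw [← hβx y hy]
      exact residual_quot_mem_hyperfocal hMT (pResidual_le_residual (hi.2.2 M hMT)
        (Cfsg.Agent.Fusion.mem_pResidual_subgroup hβF (Nat.Coprime.coprime_dvd_left hd hc))) hy
    -- the difference at `x`
    set m := x⁻¹ * apl δ x with hm'
    have hmM : m ∈ M := ⟨R.mul_mem (R.inv_mem hx) (apl_mem δ hx), quot_mem_hyperfocal_of_coprime hR hδ hc hx⟩
    have hnorm : ∀ n ∈ H', ∀ j : ℕ, (m ^ j)⁻¹ * n * m ^ j ∈ H' := fun n hn j => by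
      have := isStronglyClosed_normal hH'sc (T.inv_mem (T.pow_mem (hMT hmM) j)) hn
      rwa [inv_inv] at this
    have hit : ∀ j : ℕ, ∃ n ∈ H', apl (δ ^ j) x = x * (m ^ j * n) ∧ apl (δ ^ j) x ∈ R := by
      intro j
      induction j with
      | zero => exact ⟨1, one_mem _, by rw [pow_zero, pow_zero, apl_one hx, one_mul, mul_one], by rw [pow_zero, apl_one hx]; exact hx⟩
      | succ j ih =>
        obtain ⟨n, hn, he, hmem⟩ := ih
        have hmn : m ^ j * n ∈ R := by
          have := R.mul_mem (R.inv_mem hx) (he ▸ hmem : x * (m ^ j * n) ∈ R)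
          rwa [inv_mul_cancel_left] at this
        have hnH : n ∈ H := hyperfocal_mono_sub hTS hi.1 hn
        have hmnM : m ^ j * n ∈ M := ⟨hmn, H.mul_mem (H.pow_mem hmM.2 j) hnH⟩
        refine ⟨n * ((m ^ j * n)⁻¹ * apl δ (m ^ j * n)), mul_mem hn (hM _ hmnM), ?_, ?_⟩
        · rw [pow_succ', apl_mul _ _ hx, he, hm.map_mul hx hmn, pow_succ' m, hm']
          group
        · rw [pow_succ', apl_mul _ _ hx]; exact apl_mem δ hmem
    obtain ⟨n, hn, he, -⟩ := hit (orderOf δ)
    rw [pow_orderOf_eq_one, apl_one hx, left_eq_mul] at he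
    have h1 : m ^ orderOf δ ∈ H' := by rw [eq_inv_of_mul_eq_one_left he]; exact inv_mem hn
    obtain ⟨k, hk⟩ := hS ⟨m, hMS hmM⟩
    have hk' : m ^ p ^ k = 1 := congrArg Subtype.val hk
    obtain ⟨a, b, hab⟩ : ∃ a b : ℤ, a * (orderOf δ : ℤ) + b * (p ^ k : ℕ) = 1 :=
      Int.isCoprime_iff_gcd_eq_one.2 (by
        rw [Int.gcd_natCast_natCast]; exact Nat.Coprime.pow_right k hc)
    show m ∈ H'
    have h2 : m = (m ^ orderOf δ) ^ a * (m ^ p ^ k) ^ b := by
      rw [← zpow_natCast, ← zpow_natCast m (p ^ k), ← zpow_mul, ← zpow_mul, ← zpow_add, mul_comm _ a, mul_comm _ b, hab,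
        zpow_one]
    rw [h2, hk', one_zpow, mul_one]
    exact zpow_mem h1 a
  refine (Subgroup.closure_le _).2 ?_
  rintro _ ⟨R, α, x, hR, hα, rfl⟩
  rw [← apl_coe]
  suffices h : ∀ y ∈ R, y⁻¹ * apl (α : MulAut R) y ∈ H' from h x x.2
  haveI := finite_of_le hR
  haveI : Finite (MulAut R) := Finite.of_injective _ MulEquiv.toEquiv_injective
  induction hα using Subgroup.closure_induction with
  | mem β hβ =>
    exact key R hR β β.2 (by rwa [Set.mem_setOf_eq, ← Subgroup.orderOf_coe] at hβ)
  | one => intro y hy; rw [Subgroup.coe_one, apl_one hy, inv_mul_cancel]; exact one_mem _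
  | mul a b _ _ iha ihb =>
    intro y hy
    rw [Subgroup.coe_mul, apl_mul _ _ hy]
    have := mul_mem (ihb y hy) (iha _ (apl_mem (b : MulAut R) hy))
    rwa [mul_assoc, mul_inv_cancel_left] at this
  | inv a _ iha =>
    intro y hy
    rw [Subgroup.coe_inv]
    have := inv_mem (iha _ (apl_mem (a : MulAut R)⁻¹ hy))
    rwa [apl_apl_inv _ hy, mul_inv_rev, inv_inv] at this

end Saturated

theorem pPrimeResidual_eq {F D D' : FusionSystem S} (h : F.IsPPrimeResidual p D) (h' : F.IsPPrimeResidual p D') :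
    D = D' :=
  hom_ext_iff.2 fun P => Set.Subset.antisymm (h.2.2 D' h'.1 h'.2.1 P) (h'.2.2 D h.1 h.2.1 P)

theorem residual_same [Fact p.Prime] {S U : Subgroup Ω} {F : FusionSystem S} [Finite S] (hS : IsPGroup p S)
    (hU : U ≤ S) {A B : Subgroup Ω} (hA : A = U) (hB : B = U) {D : FusionSystem A} {D' : FusionSystem B}
    (hD : D.IsSaturated p) (hD' : D'.IsSaturated p) (hi : D.HasPPowerIndexIn F p)
    (hi' : D'.HasPPowerIndexIn F p) : SameHom D D' := by
  subst hA hB
  haveI := finite_of_le hU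
  exact fun P => eq_of_pPowerIndex (hS.to_le hU) hD hD' hi hi' P

theorem self_pPower (hS' : F.hyperfocalSubgroup p ≤ S) : F.HasPPowerIndexIn F p :=
  ⟨fun _ _ h => h, hS', fun _ _ => Subgroup.map_subtype_le _⟩

theorem pPrimeResidual_congr {A B : Subgroup Ω} {D D₁ : FusionSystem A} {E E₁ : FusionSystem B}
    (h : SameHom D E) (hD : D.IsPPrimeResidual p D₁) (hE : E.IsPPrimeResidual p E₁) : SameHom D₁ E₁ := by
  obtain rfl := h.base_eq
  obtain rfl : D = E := hom_ext_iff.2 h
  rw [pPrimeResidual_eq hD hE]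
  exact fun _ => rfl

theorem limit_congr {A B U : Subgroup Ω} {D : FusionSystem A} {E : FusionSystem B} {L : FusionSystem U}
    (h : SameHom D E) (hL : L.IsResidualLimitOf D p) : L.IsResidualLimitOf E p := by
  obtain rfl := h.base_eq
  obtain rfl : D = E := hom_ext_iff.2 h
  exact hL

theorem stable_congr {A B : Subgroup Ω} {D : FusionSystem A} {E : FusionSystem B} (h : SameHom D E)
    (hh : E.hyperfocalSubgroup p = B) (hp : E.IsPPrimeResidual p E) :
    D.hyperfocalSubgroup p = A ∧ D.IsPPrimeResidual p D := by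
  obtain rfl := h.base_eq
  obtain rfl : D = E := hom_ext_iff.2 h
  exact ⟨hh, hp⟩

/-- A stable system is its only residual limit. -/
theorem limit_of_stable {U : Subgroup Ω} {L : FusionSystem U} {V : Subgroup Ω} {G : FusionSystem V}
    (hL : L.IsResidualLimitOf G p) :
    ∀ [Fact p.Prime] [Finite V], IsPGroup p V → G.IsSaturated p → G.hyperfocalSubgroup p = V → G.IsPPrimeResidual p G →
      SameHom L G := by
  induction hL with
  | stable => exact fun {_ _} _ _ _ _ => fun _ => rfl
  | step G p D D' hD hD' _ ih =>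
    intro hfact hfin hV hG hhyp hprime
    have h1 : SameHom D G := residual_same hV le_rfl hhyp rfl hD.1 hG hD.2 (self_pPower hhyp.le)
    have h2 : SameHom D' G := pPrimeResidual_congr h1 hD' hprime
    haveI : Finite (G.hyperfocalSubgroup p) := by rw [hhyp]; exact hfin
    have h3 := stable_congr h2 hhyp hprime
    exact fun P => (ih (by rw [hhyp]; exact hV) hD'.1 h3.1 h3.2 P).trans (h2 P)

theorem limit_unique {U : Subgroup Ω} {L : FusionSystem U} {V : Subgroup Ω} {G : FusionSystem V}
    (hL : L.IsResidualLimitOf G p) :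
    ∀ [Fact p.Prime] [Finite V], IsPGroup p V → G.IsSaturated p → ∀ {W : Subgroup Ω} {L' : FusionSystem W},
      L'.IsResidualLimitOf G p → SameHom L L' := by
  induction hL with
  | stable G p hhyp hprime => exact fun {_ _} hV hG _ _ hL' => fun P => (limit_of_stable hL' hV hG hhyp hprime P).symm
  | step G p D D' hD hD' hsub ih =>
    intro hfact hfin hV hG W L' hL'
    cases hL' with
    | stable _ _ hhyp hprime =>
      exact limit_of_stable (IsResidualLimitOf.step G p D D' hD hD' hsub) hV hG hhyp hprime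
    | step _ _ E E' hE hE' hL' =>
      haveI := finite_of_le (hyperfocal_le G p)
      have h1 : SameHom D E := residual_same hV (hyperfocal_le G p) rfl rfl hD.1 hE.1 hD.2 hE.2
      exact ih (hV.to_le (hyperfocal_le G p)) hD'.1
        (limit_congr (fun P => (pPrimeResidual_congr h1 hD' hE' P).symm) hL')

theorem limit_eq_of_pPower [Fact p.Prime] [Finite S] (hS : IsPGroup p S) (hF : F.IsSaturated p) (hTS : T ≤ S) (hE : E.IsSaturated p) (hi : E.HasPPowerIndexIn F p)
    {U W : Subgroup Ω} {L : FusionSystem U} (hL : L.IsResidualLimitOf F p) {L' : FusionSystem W}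
    (hL' : L'.IsResidualLimitOf E p) : SameHom L L' := by
  haveI := finite_of_le hTS
  have hh := hyperfocal_eq_of_pPower hS hF hTS hE hi
  cases hL with
  | stable _ _ hhyp hprime =>
    have hT : T = S := le_antisymm hTS (hhyp.ge.trans hi.2.1)
    have h1 : SameHom E F := residual_same hS le_rfl hT rfl hE hF hi (self_pPower hhyp.le)
    exact limit_unique (IsResidualLimitOf.stable F p hhyp hprime) hS hF (limit_congr h1 hL')
  | step _ _ D D' hD hD' hsub =>
    cases hL' with
    | stable _ _ hhyp hprime =>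
      have hT : T = F.hyperfocalSubgroup p := hhyp.symm.trans hh
      have h1 : SameHom D E := residual_same hS (hyperfocal_le F p) rfl hT hD.1 hE hD.2 hi
      have h2 := pPrimeResidual_congr h1 hD' hprime
      haveI := finite_of_le (hyperfocal_le F p)
      exact fun P => (limit_of_stable (limit_congr h2 hsub) (hS.to_le hTS) hE hhyp hprime P)
    | step _ _ D₂ D₂' hD₂ hD₂' hsub₂ =>
      haveI := finite_of_le (hyperfocal_le F p)
      have hi₂ : D₂.HasPPowerIndexIn F p := by
        refine ⟨fun P φ hφ => hi.1 P (hD₂.2.1 P hφ), hh.ge, fun P hP => ?_⟩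
        have hPT : P ≤ T := hP.trans (hyperfocal_le E p)
        exact (pResidual_le_residual (hi.2.2 P hPT)).trans (hD₂.2.2.2 P hP)
      have h1 : SameHom D D₂ := residual_same hS (hyperfocal_le F p) rfl hh hD.1 hD₂.1 hD.2 hi₂
      exact limit_unique hsub (hS.to_le (hyperfocal_le F p)) hD'.1
        (limit_congr (fun P => (pPrimeResidual_congr h1 hD' hD₂' P).symm) hsub₂)

end Cfsg.Agent.FusSys
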