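import Cfsg.Agent.FusSys.ConstrainedWeakly
import Cfsg.Agent.FusSys.NormalSub

/-!
Constrained fusion systems of subnormal subgroups.
-/

set_option autoImplicit false

namespace Cfsg.Agent.FusSys

open Cfsg Cfsg.FusionSystem

universe u v

variable {A : Type u} [Group A] {B : Type v} [Group B] {p : ℕ} {ψ : A →* B}

/-- The map of the group `B` corresponding to a map of `A`. -/
theorem mor_sub_map (hψ : Function.Injective ψ) {T : Subgroup A} {hT : T.map ψ ≤ ψ.range}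
    {P : Subgroup A} {f : A → A} {f' : B → B} (he : ∀ x ∈ P, f' (ψ x) = ψ (f x)) :
    Mor (fusionSystemOfSubgroup ψ.range (T.map ψ) hT) (P.map ψ) f' ↔
      Mor (groupFusionSystem T) P f := by
  rw [mor_sub, mor_gfs]
  constructor
  · rintro ⟨hP, hv, _, ⟨g, rfl⟩, hg⟩
    refine ⟨fun x hx => (Subgroup.mem_map_iff_mem hψ).1 (hP ⟨x, hx, rfl⟩), fun x hx => ?_, g,
      fun x hx => hψ ?_⟩
    · have := hv _ ⟨x, hx, rfl⟩
      rw [he x hx] at this
      exact (Subgroup.mem_map_iff_mem hψ).1 this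
    · rw [← he x hx, hg _ ⟨x, hx, rfl⟩, map_mul, map_mul, map_inv]
  · rintro ⟨hP, hv, g, hg⟩
    refine ⟨Subgroup.map_mono hP, ?_, ψ g, ⟨g, rfl⟩, ?_⟩
    · rintro _ ⟨x, hx, rfl⟩
      exact he x hx ▸ ⟨_, hv x hx, rfl⟩
    · rintro _ ⟨x, hx, rfl⟩
      rw [he x hx, hg x hx, map_mul, map_mul, map_inv]

/-- Constraint pulls back along an injective homomorphism. -/
theorem gfs_constrained_of_map [Finite A] [Fact p.Prime] (hψ : Function.Injective ψ)
    (T : Sylow p A) {hT : (T : Subgroup A).map ψ ≤ ψ.range}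
    (h : (fusionSystemOfSubgroup ψ.range ((T : Subgroup A).map ψ) hT).IsConstrained p) :
    (groupFusionSystem (T : Subgroup A)).IsConstrained p := by
  classical
  obtain ⟨-, Q', hQ', hQc⟩ := h
  obtain ⟨hQT, hext⟩ := isNormal_iff.1 hQ'
  set Q := Q'.comap ψ with hQdef
  have hQmap : Q.map ψ = Q' := Subgroup.map_comap_eq_self (hQT.trans hT)
  have hQle : Q ≤ (T : Subgroup A) := fun x hx => (Subgroup.mem_map_iff_mem hψ).1 (hQT hx)
  let inv : B → A := Function.invFun ψ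
  have hinv : ∀ x, inv (ψ x) = x := Function.leftInverse_invFun hψ
  refine ⟨gfs_saturated T, Q, isNormal_iff.2 ⟨hQle, fun P f hf => ?_⟩, hQle, fun P hP => ?_⟩
  · obtain ⟨g, hg, hgf, hgQ⟩ := hext (P.map ψ) (fun y => ψ (f (inv y)))
      ((mor_sub_map hψ fun x _ => by rw [hinv]).2 hf)
    have hle : (P ⊔ Q).map ψ = P.map ψ ⊔ Q' := by rw [Subgroup.map_sup, hQmap]
    have hrange : ∀ x ∈ P ⊔ Q, ψ (inv (g (ψ x))) = g (ψ x) := fun x hx => by
      obtain ⟨z, hz⟩ := hT (hg.mem_S (x := ψ x) (hle.le ⟨x, hx, rfl⟩))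
      rw [← hz, hinv]
    refine ⟨fun x => inv (g (ψ x)),
      (mor_sub_map hψ fun x hx => (hrange x hx).symm).1 (hle ▸ hg), fun x hx => ?_, fun y => ?_⟩
    · show inv (g (ψ x)) = f x
      rw [hgf _ ⟨x, hx, rfl⟩, hinv, hinv]
    constructor
    · intro hy
      obtain ⟨z, hz, hzy⟩ := (hgQ (ψ y)).1 hy
      obtain ⟨x, rfl⟩ := hT (hQT hz)
      exact ⟨x, hz, (congrArg inv hzy).trans (hinv y)⟩
    · rintro ⟨x, hx, rfl⟩
      show ψ (inv (g (ψ x))) ∈ Q'
      rw [hrange x (Subgroup.mem_sup_right hx)]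
      exact (hgQ _).2 ⟨_, hx, rfl⟩
  · obtain ⟨f, hf⟩ := isConj_iff.1 hP
    obtain ⟨f', hf'⟩ : ∃ f' : B → B, ∀ x, f' (ψ x) = ψ (f x) :=
      ⟨fun y => ψ (f (inv y)), fun x => congrArg (fun z => ψ (f z)) (hinv x)⟩
    have hi : Iso (fusionSystemOfSubgroup ψ.range ((T : Subgroup A).map ψ) hT) (Q.map ψ) (P.map ψ) f' := by
      refine ⟨(mor_sub_map hψ fun x _ => hf' x).2 hf.1, fun y => ⟨?_, ?_⟩⟩
      · rintro ⟨z, hz, rfl⟩
        obtain ⟨x, hx, rfl⟩ := hf.exists_eq hz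
        exact ⟨ψ x, ⟨x, hx, rfl⟩, hf' x⟩
      · rintro ⟨_, ⟨x, hx, rfl⟩, rfl⟩
        exact ⟨f x, hf.mem hx, (hf' x).symm⟩
    have hc := hQc.2 (P.map ψ) (hQmap ▸ hi.isConj)
    intro x hx
    refine (Subgroup.mem_map_iff_mem hψ).1 (hc ⟨⟨x, hx.1, rfl⟩, Subgroup.mem_centralizer_iff.2 ?_⟩)
    rintro _ ⟨y, hy, rfl⟩
    rw [← map_mul, ← map_mul, Subgroup.mem_centralizer_iff.1 hx.2 y hy]

/-- A normal subgroup inherits constraint. -/
theorem gfs_constrained_normal [Finite B] [Fact p.Prime] (hψ : Function.Injective ψ)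
    [hN : ψ.range.Normal] (R : Sylow p B) (T : Sylow p A)
    (hT : (T : Subgroup A).map ψ = (R : Subgroup B) ⊓ ψ.range)
    (h : (groupFusionSystem (R : Subgroup B)).IsConstrained p) :
    (groupFusionSystem (T : Subgroup A)).IsConstrained p := by
  haveI : Finite A := Finite.of_injective ψ hψ
  refine gfs_constrained_of_map hψ T (hT := hT ▸ inf_le_right) ?_
  have h2 := constrained_of_weaklyNormal R.2 h (normalSub_isNormalIn R ψ.range).1
  have key : ∀ (U : Subgroup B) (hU : U ≤ ψ.range), (T : Subgroup A).map ψ = U →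
      (fusionSystemOfSubgroup ψ.range U hU).IsConstrained p →
      (fusionSystemOfSubgroup ψ.range ((T : Subgroup A).map ψ) (hT ▸ inf_le_right)).IsConstrained p := by
    intro U hU e h
    subst e
    exact h
  exact key _ inf_le_right hT h2

end Cfsg.Agent.FusSys
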