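import Cfsg.Agent.FusSys.GT

/-!
For odd `p` a system that is not inner contains a constrained system on the same group that is
not inner.
-/

set_option autoImplicit false

namespace Cfsg.Agent.FusSys

open Cfsg Cfsg.FusionSystem

universe u

variable {Ω : Type u} [Group Ω] {S : Subgroup Ω} {F : FusionSystem S} {p : ℕ}

theorem exists_constrained_of_sub {T : Subgroup Ω} (hT : T = S) (D : FusionSystem T)
    (hD : D.IsSubsystemOf F)
    (h : ∃ E : FusionSystem T, E ≤ D ∧ E.IsConstrained p ∧ ¬ AllInner E) :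
    ∃ E : FusionSystem S, E ≤ F ∧ E.IsConstrained p ∧ ¬ AllInner E := by
  subst hT
  obtain ⟨E, hE, hEc, hEi⟩ := h
  exact ⟨E, le_iff_mor.2 fun P f hf => isSubsystemOf_iff_mor.1 hD P f (le_iff_mor.1 hE P f hf),
    hEc, hEi⟩

theorem exists_constrained_not_inner [Fact p.Prime] (hp : p ≠ 2) [Finite S] (hS : IsPGroup p S)
    (hF : F.IsSaturated p) (hne : ¬ AllInner F) :
    ∃ E : FusionSystem S, E ≤ F ∧ E.IsConstrained p ∧ ¬ AllInner E := by
  refine smaller_induction (Φ := fun {Ω} _ {S} F => Finite S → IsPGroup p S → F.IsSaturated p →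
    ¬ AllInner F → ∃ E : FusionSystem S, E ≤ F ∧ E.IsConstrained p ∧ ¬ AllInner E) ?_ F
    inferInstance hS hF hne
  intro Ω _ S F ih _ hS hF hne
  have hS0 : S ≠ ⊥ := fun h => hne (allInner_of_bot h)
  have hrec : ∀ V, V ≤ S → S ≤ Subgroup.normalizer (V : Set Ω) → ¬ F.IsNormal V →
      ¬ InnerAt F V → ∃ E : FusionSystem S, E ≤ F ∧ E.IsConstrained p ∧ ¬ AllInner E := by
    intro V hV hSV hVn hVi
    haveI : Finite (normalizerIn S V) := finite_of_le inf_le_left
    have hN := isNormalizerSystem_normalizerSys (F := F) hV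
    have hVfn : F.IsFullyNormalized V := ⟨hV, fun R _ => by
      rw [normalizerIn_eq_of_le hSV]
      exact Subgroup.card_le_of_le inf_le_left⟩
    refine exists_constrained_of_sub (normalizerIn_eq_of_le hSV) _
      (normalizerSystem_subsystem hS hF hN)
      (ih _ (smaller_normalizer hV hVn hN) inferInstance (hS.to_le inf_le_left)
        (normalizerSystem_saturated hS hF hVfn hN) fun hN' => hVi ?_)
    intro X f hf hNf
    obtain ⟨-, s, hs, hsf⟩ := mor_inner.1 (hN' X f ((mor_normalizerSystem hN).2 ⟨hf, hNf⟩))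
    exact mor_inner.2 ⟨hf.le, s, hs.1, hsf⟩
  have hzj : ∀ {Ω' : Type u} [Group Ω'] {S' : Subgroup Ω'} [Finite S'], IsPGroup p S' →
      centerThompsonAOf S' ≤ S' ∧ S' ≤ Subgroup.normalizer (centerThompsonAOf S' : Set Ω') :=
    fun {Ω'} _ {S'} _ hS' => by
      rw [← wsub_zjW S']
      exact ⟨wsub_le _ _, fun s hs =>
        (normalizerIn_le_normalizerIn_wsub posFunctor_zjW le_rfl hS' (le_normalizerIn le_rfl hs)).2⟩
  have hVi : ¬ InnerAt F (centerThompsonAOf S) := fun h => hne (allInner_of_zj hp hS hF h)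
  obtain ⟨hV, hSV⟩ := hzj hS
  by_cases hVn : F.IsNormal (centerThompsonAOf S)
  swap
  · exact hrec _ hV hSV hVn hVi
  set Q := F.core with hQdef
  have hQn : F.IsNormal Q := isNormal_core
  have hQ0 : Q ≠ ⊥ := fun h => centerThompsonAOf_ne_bot hS hS0 (le_bot_iff.1 (h ▸ le_core hVn))
  have hQS : Q ≤ S := hQn.1
  have hSN : S ≤ Subgroup.normalizer (Q : Set Ω) :=
    StronglyClosed.le_normalizer (stronglyClosed_of_isNormal hQn)
  by_cases hQc : F.IsCentric Q
  · exact ⟨F, le_iff_mor.2 fun _ _ h => h, ⟨hF, Q, hQn, hQc⟩, hne⟩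
  have hQR := lt_sup_centralizer hQn hQc
  by_cases hRi : InnerAt F (Q ⊔ centralizerIn S Q)
  swap
  · exact hrec _ (sup_le hQS inf_le_left) (fun x hx => split_maps.normalizes hSN hx)
      (fun h => hQR.not_ge (le_core h)) hRi
  by_cases hact : ∀ P f, Mor F P f → KRel F (autInducedBy S Q) P f
  · obtain ⟨Ω', _, S', E, θ, _, hS', hE, hEs, hlt, hne', hpre⟩ :=
      exists_factor hS hF hQn hQ0 (core_ne_top hQc)
    have hEi : ¬ AllInner E := fun h => (hpre S' le_rfl hne').not_ge
      (le_core (isNormal_preimage_of_act hS hF hQn hE hact h.isNormal))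
    obtain ⟨hV', hV'n⟩ := hzj hS'
    have hsc := stronglyClosed_of_isNormal hQn
    have hlt' := hpre _ hV' (centerThompsonAOf_ne_bot hS' hne')
    refine hrec (preimageAlong θ (centerThompsonAOf S')) pre_le (fun s hs => ?_)
      (fun h => hlt'.not_ge (le_core h))
      fun h => hEi (allInner_of_zj hp hS' hEs (innerAt_factor hQn hE hV' hV'n h))
    have hs' : thFn θ s ∈ Subgroup.normalizer (centerThompsonAOf S' : Set Ω') :=
      hV'n (hE.2.2.1 ▸ thFn_mem_range _ hs)
    haveI : Finite (preimageAlong θ (centerThompsonAOf S')) := finite_of_le pre_le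
    refine mem_normalizer_of_maps fun x hx => ?_
    obtain ⟨hxS, hx'⟩ := mem_pre.1 hx
    refine mem_pre.2 ⟨S.mul_mem (S.mul_mem hs hxS) (S.inv_mem hs), ?_⟩
    rw [thFn_conj hs hxS]
    exact (Subgroup.mem_normalizer_iff.1 hs' _).1 hx'
  push Not at hact
  obtain ⟨P₀, f₀, hf₀, hno⟩ := hact
  refine exists_constrained_of_sub rfl (actSys F hQS hSN) actSys_le
    (ih _ (smaller_subsystem actSys_le hf₀ fun h => hno (mor_actSys.1 h).2) inferInstance hS
      (actSys_saturated hS hF hQn) fun hD => hne ?_)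
  have hM : SubRel F S (Mor (innerFusionSystem S)) :=
    { congr := fun h he => h.congr he
      le := fun h => ⟨h.le, fun x hx => h.mem_S hx⟩
      conj := fun hP hs => ⟨mor_conj hP hs, mor_conj hP hs⟩
      comp := fun _ hf _ hg h => hf.comp hg h
      inv := fun hfi hf hgi hgf => by
        obtain ⟨g', hg', hg'f, -⟩ := (Iso.symm ⟨hf, hfi.2⟩)
        refine hg'.1.congr fun y hy => ?_
        obtain ⟨x, hx, rfl⟩ := hfi.exists_eq hy
        rw [hg'f x hx, hgf x hx] }
  refine split_step hS hF hQn (hQS := hQS) (hSN := hSN) hM (fun N hN X f hf => ?_) hD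
  obtain ⟨hfF, hNf⟩ := (mor_normalizerSystem hN).1 hf
  exact hRi X f hfF hNf

end Cfsg.Agent.FusSys
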