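import Cfsg.Agent.FusSys.Free
import Cfsg.Agent.FusSys.Centric
import Cfsg.Prelude.Def_FusionReduction

/-!
Freeness of fusion systems from a group: reduction to radical subgroups and inheritance by
normalizer systems.
-/

set_option autoImplicit false

namespace Cfsg.Agent.FusSys

open Cfsg Cfsg.FusionSystem

universe u

theorem involves_of_injective {H L L' : Type*} [Group H] [Group L] [Group L'] {θ : L →* L'}
    (hθ : Function.Injective θ) (h : Involves H L) : Involves H L' := by
  obtain ⟨K, R, hR, ⟨e⟩⟩ := h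
  let eK : K ≃* K.map θ := K.equivMapOfInjective θ hθ
  have hmap : (R.subgroupOf K).map eK.toMonoidHom = (R.map θ).subgroupOf (K.map θ) := by
    ext ⟨y, hy⟩
    rw [Subgroup.mem_subgroupOf]
    constructor
    · rintro ⟨x, hx, hxy⟩
      exact ⟨x, hx, congrArg Subtype.val hxy⟩
    · rintro ⟨x, hx, hxy⟩
      obtain ⟨x', hx', hxy'⟩ := hy
      obtain rfl : x' = x := hθ (hxy'.trans hxy.symm)
      exact ⟨⟨x', hx'⟩, hx, Subtype.ext hxy⟩
  haveI hn : ((R.map θ).subgroupOf (K.map θ)).Normal := by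
    rw [← hmap]
    exact hR.map _ eK.surjective
  exact ⟨K.map θ, R.map θ, hn, ⟨(QuotientGroup.congr _ _ eK hmap).symm.trans e⟩⟩

variable {Ω : Type u} [Group Ω] {S : Subgroup Ω} {F : FusionSystem S} {p : ℕ}

/-- The preimage of `O_p` of a model. -/
def modelCore {T : Subgroup Ω} {L : Type*} [Group L] (p : ℕ) (ι : T →* L) : Subgroup Ω :=
  ((pCore p L).comap ι).map T.subtype

theorem le_modelCore [Fact p.Prime] {T : Subgroup Ω} {D : FusionSystem T} {L : Type*} [Group L]
    {ι : T →* L} (hT : IsPGroup p T) (hM : D.IsModel p L ι) {V : Subgroup Ω} (hV : D.IsNormal V) :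
    V ≤ modelCore p ι := by
  haveI : Finite L := hM.1
  haveI := model_normal_image hM hV
  intro v hv
  exact ⟨⟨v, hV.1 hv⟩, Cfsg.Agent.Core.le_pCore ((hT.to_subgroup _).map ι)
    (show ι ⟨v, hV.1 hv⟩ ∈ (V.subgroupOf T).map ι from ⟨⟨v, hV.1 hv⟩, hv, rfl⟩), rfl⟩

section Saturated

variable [Fact p.Prime] [Finite S] (hS : IsPGroup p S) (hF : F.IsSaturated p)
include hS hF

/-- The normalizer system of a fully normalized centric subgroup has a model. -/
theorem exists_normalizer_model {Q : Subgroup Ω} (hQn : F.IsFullyNormalized Q)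
    (hQc : F.IsCentric Q) :
    ∃ (N : FusionSystem (normalizerIn S Q)) (L : Type u) (_ : Group L)
      (ι : normalizerIn S Q →* L), F.IsNormalizerSystem Q N ∧ N.IsModel p L ι := by
  have hN := isNormalizerSystem_normalizerSys (F := F) hQn.1
  haveI : Finite (normalizerIn S Q) := finite_of_le inf_le_left
  have hn := normalizerSystem_isNormal hN hQn.1
  have hc := centric_of_normal hn fun z hz => centric_self hQc ⟨hz.1.1, hz.2⟩
  obtain ⟨L, hL, ι, hι, -⟩ := exists_model (hS.to_le inf_le_left : IsPGroup p (normalizerIn S Q))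
    (normalizerSystem_saturated hS hF hQn hN) hn hc
  exact ⟨_, L, hL, ι, hN, hι⟩

/-- A model of a subsystem with a normal centric subgroup embeds into the model at a fully
normalized centric subgroup. -/
theorem exists_embedding_fn {T : Subgroup Ω} {D : FusionSystem T} (hDF : D.IsSubsystemOf F)
    {P : Subgroup Ω} (hPc : F.IsCentric P) (hDn : D.IsNormal P) (hTS : T ≤ S)
    {L : Type*} [Group L] {ι : T →* L} (hM : D.IsModel p L ι) :
    ∃ (P' : Subgroup Ω) (_ : F.IsFullyNormalized P') (_ : F.IsCentric P')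
      (_ : Nat.card P' = Nat.card P)
      (N' : FusionSystem (normalizerIn S P')) (_ : F.IsNormalizerSystem P' N')
      (L' : Type u) (_ : Group L') (ι' : normalizerIn S P' →* L') (_ : N'.IsModel p L' ι')
      (θ : L →* L'), Function.Injective θ := by
  obtain ⟨P', g, hn, hg, hgi, -⟩ := exists_fullyNormalized_mor hS hF hPc.1
  have hc := centric_of_isConj hPc hgi.isConj
  obtain ⟨N', L', hL', ι', hN', hι'⟩ := exists_normalizer_model hS hF hn hc
  have hT : T ≤ normalizerIn S P :=
    le_inf hTS (StronglyClosed.le_normalizer (stronglyClosed_of_isNormal hDn))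
  obtain ⟨θ, hθ⟩ := model_embeds hS hF hDF hPc hDn (hg.mono hT) hgi hN' hM hι'
  exact ⟨P', hn, hc, hgi.card_eq.symm, N', hN', L', hL', ι', hι', θ, hθ⟩

theorem normalizerSystem_subsystem {Q : Subgroup Ω} {N : FusionSystem (normalizerIn S Q)}
    (hN : F.IsNormalizerSystem Q N) : N.IsSubsystemOf F := by
  intro P φ hφ
  rw [hN P] at hφ
  exact hφ.1

theorem normalizerSystem_autGroup {Q : Subgroup Ω} {N : FusionSystem (normalizerIn S Q)}
    (hN : F.IsNormalizerSystem Q N) (hQ : Q ≤ S) : N.autGroup Q = F.autGroup Q := by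
  have hQN : Q ≤ normalizerIn S Q := le_inf hQ Subgroup.le_normalizer
  ext α
  rw [mem_autGroup_iff hQ, mem_autGroup_iff hQN]
  refine ⟨fun h => ⟨((mor_normalizerSystem hN).1 h.1).1, h.2⟩, fun h => ⟨?_, h.2⟩⟩
  exact (mor_normalizerSystem hN).2 ⟨h.1, hQN, fun z hz => hQN (h.mem hz), _,
    h.1.mono (sup_le le_rfl le_rfl), fun _ _ => rfl, h.2⟩

/-- If `O_p` of the model at `Q` is the image of `Q` then `Q` is radical. -/
theorem radical_of_modelCore {Q : Subgroup Ω} {N : FusionSystem (normalizerIn S Q)}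
    (hN : F.IsNormalizerSystem Q N) (hQc : F.IsCentric Q) {L : Type*} [Group L]
    {ι : normalizerIn S Q →* L} (hM : N.IsModel p L ι) (hle : modelCore p ι ≤ Q) :
    F.IsRadical p Q := by
  classical
  haveI : Finite (normalizerIn S Q) := finite_of_le inf_le_left
  haveI := finite_of_le hQc.1
  haveI : Finite L := hM.1
  have hp : IsPGroup p (normalizerIn S Q) := hS.to_le inf_le_left
  have hn := normalizerSystem_isNormal hN hQc.1
  have hc := centric_of_normal hn fun z hz => centric_self hQc ⟨hz.1.1, hz.2⟩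
  have hTP : normalizerIn S Q ≤ Subgroup.normalizer (Q : Set Ω) := inf_le_right
  obtain ⟨pr, hpr, hprι, hsurj⟩ := exists_autHom hM hn hTP
  refine ⟨hQc.1, ?_⟩
  rw [← normalizerSystem_autGroup hS hF hN hQc.1]
  refine le_antisymm ?_ ?_
  · rintro _ ⟨α, hα, rfl⟩
    obtain ⟨l, rfl⟩ := hsurj α
    have hk : IsPGroup p pr.ker := by
      refine ((hp.to_subgroup (Q.subgroupOf _)).map ι).to_le fun g hg =>
        model_centralizer hM hn hc (Subgroup.mem_centralizer_iff.2 ?_)
      rintro _ ⟨x, hx, rfl⟩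
      have h1 : g * ι x * g⁻¹ = ι x := (hpr g x hx).trans (congrArg ι (Subtype.ext (by
        show apl (pr g : MulAut Q) x = x
        rw [show pr g = 1 from hg]
        exact apl_one hx)))
      calc ι x * g = g * ι x * g⁻¹ * g := by rw [h1]
        _ = g * ι x := by group
    have hle' : (pCore p (N.autGroup Q)).comap pr ≤ pCore p L :=
      Cfsg.Agent.Core.le_pCore (Cfsg.Agent.Core.pCore_isPGroup.comap_of_ker_isPGroup pr hk)
    obtain ⟨x, rfl⟩ := pCore_le_range (ι := ι) hM.2.2.1 (hle' (Subgroup.mem_comap.2 hα))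
    rw [inn_eq_autInducedBy, hprι]
    refine mem_autInducedBy_iff.2 ⟨x, hle ⟨x, hle' (Subgroup.mem_comap.2 hα), rfl⟩, x.2.2,
      fun z hz => apl_toAut (F := N) (hQS := hn.1) (hSN := hTP) x hz⟩
  · rintro α hα
    have hQN : Q ≤ normalizerIn S Q := le_inf hQc.1 Subgroup.le_normalizer
    have hαF : α ∈ N.autGroup Q := inn_le_autGroup hQN hα
    refine ⟨⟨α, hαF⟩, ?_, rfl⟩
    have hnI : ((Inn Q).subgroupOf (N.autGroup Q)).Normal := by
      refine ⟨fun β hβ γ => ?_⟩
      obtain ⟨q, hq⟩ := (Subgroup.mem_subgroupOf.1 hβ : (β : MulAut Q) ∈ Inn Q)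
      refine Subgroup.mem_subgroupOf.2 ⟨(γ : MulAut Q) q, ?_⟩
      rw [Subgroup.coe_mul, Subgroup.coe_mul, Subgroup.coe_inv, ← hq]
      refine MulEquiv.ext fun z => ?_
      simp [MulAut.conj_apply]
    refine Cfsg.Agent.Core.le_pCore (N := (Inn Q).subgroupOf (N.autGroup Q)) (hN := hnI) ?_ hα
    rw [inn_eq_autInducedBy]
    exact (isPGroup_autInducedBy (hS.to_le hQc.1)).comap_subtype

/-- Freeness at fully normalized centric radical subgroups gives freeness. -/
theorem free_of_radical {H : Type*} [Group H]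
    (h : ∀ Q : Subgroup Ω, F.IsFullyNormalized Q → F.IsCentric Q → F.IsRadical p Q →
      ∀ N : FusionSystem (normalizerIn S Q), F.IsNormalizerSystem Q N →
      ∀ (L : Type u) [Group L] (ι : normalizerIn S Q →* L),
        N.IsModel p L ι → ¬ Involves H L) :
    F.IsSectionFree p H := by
  suffices main : ∀ (n : ℕ) (Q : Subgroup Ω), Nat.card S - Nat.card Q ≤ n →
      F.IsFullyNormalized Q → F.IsCentric Q → ∀ N : FusionSystem (normalizerIn S Q),
      F.IsNormalizerSystem Q N → ∀ (L : Type u) [Group L] (ι : normalizerIn S Q →* L),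
        N.IsModel p L ι → ¬ Involves H L from
    fun Q => main _ Q le_rfl
  intro n
  induction n using Nat.strong_induction_on with
  | h n ih =>
    intro Q hn hQn hQc N hN L _ ι hM hinv
    have hp : IsPGroup p (normalizerIn S Q) := hS.to_le inf_le_left
    haveI : Finite (normalizerIn S Q) := finite_of_le inf_le_left
    by_cases hle : modelCore p ι ≤ Q
    · exact h Q hQn hQc (radical_of_modelCore hS hF hN hQc hM hle) N hN L ι hM hinv
    · have hQR : Q ≤ modelCore p ι :=
        le_modelCore hp hM (normalizerSystem_isNormal hN hQc.1)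
      obtain ⟨hRn, -⟩ := model_core_centric hM
      have hRS : modelCore p ι ≤ S := hRn.1.trans inf_le_left
      obtain ⟨P', hPn, hPc, hcard, N', hN', L', hL', ι', hι', θ, hθ⟩ :=
        exists_embedding_fn hS hF (normalizerSystem_subsystem hS hF hN)
          (centric_of_le hQc hQR hRS) hRn inf_le_left hM
      have h1 : Nat.card Q < Nat.card (modelCore p ι) :=
        card_lt_of_lt' hRS (lt_of_le_of_ne hQR fun e => hle e.ge)
      have h2 := Subgroup.card_le_of_le hRS
      exact ih (Nat.card S - Nat.card P') (by omega) P' le_rfl hPn hPc N' hN' L' ι' hι'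
        (involves_of_injective hθ hinv)

/-- A centric subgroup of the normalizer system of `Q` containing `Q` is centric in the system. -/
theorem centric_of_normalizer_centric {Q P : Subgroup Ω} (hQn : F.IsFullyNormalized Q)
    {N : FusionSystem (normalizerIn S Q)} (hN : F.IsNormalizerSystem Q N) (hPc : N.IsCentric P)
    (hQP : Q ≤ P) : F.IsCentric P := by
  have hPS : P ≤ S := hPc.1.trans inf_le_left
  obtain ⟨P', g, hP'n, hg, hgi, -⟩ := exists_fullyNormalized_mor hS hF hPS
  obtain ⟨Q', hQ', hQ'P'⟩ := hgi.restrict hQP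
  obtain ⟨χ, hχ, hχi, hχN⟩ := exists_mor_to_fullyNormalized hS hF hQn
    (P := Q') (isConj_symm hQ'.isConj)
  have hP'N : P' ≤ normalizerIn S Q' := fun y hy => by
    obtain ⟨x, hx, rfl⟩ := hgi.exists_eq hy
    exact hgi.1.mem_normalizerIn hQP hQ' hx (hPc.1 hx).2
  have hcomp : Mor F P (χ ∘ g) := hgi.1.comp hχ fun x hx => hP'N (hgi.mem hx)
  have hmor : Mor N P (χ ∘ g) := by
    refine (mor_normalizerSystem hN).2 ⟨hcomp, hPc.1, fun x hx => hχN _ (hP'N (hgi.mem hx)),
      _, hcomp.mono (sup_le le_rfl hQP), fun _ _ => rfl, fun y => ?_⟩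
    constructor
    · intro hy
      obtain ⟨y', hy', rfl⟩ := hχi.exists_eq hy
      obtain ⟨x, hx, rfl⟩ := hQ'.exists_eq hy'
      exact ⟨x, hx, rfl⟩
    · rintro ⟨x, hx, rfl⟩
      exact hχi.mem (hQ'.mem hx)
  obtain ⟨P'', hP''⟩ := hmor.exists_iso
  obtain ⟨R, hR⟩ := (hχ.mono hP'N).exists_iso
  have hRP'' : ∀ y, y ∈ R → y ∈ P'' := fun y hy => by
    obtain ⟨z, hz, rfl⟩ := hR.exists_eq hy
    obtain ⟨x, hx, rfl⟩ := hgi.exists_eq hz
    exact hP''.mem hx
  have hP''R : ∀ y, y ∈ P'' → y ∈ R := fun y hy => by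
    obtain ⟨x, hx, rfl⟩ := hP''.exists_eq hy
    exact hR.mem (hgi.mem hx)
  have hfc := fullyCentralized_of_fullyNormalized hS hF hP'n
  refine centric_of_isConj (centric_of_fullyCentralized hfc fun z hz => ?_)
    (isConj_symm hgi.isConj)
  have hzN : z ∈ normalizerIn S Q' := ⟨hz.1, Subgroup.centralizer_le_normalizer _
    (Subgroup.centralizer_le hQ'P' hz.2)⟩
  have h1 := hχ.mem_centralizerIn hP'N hR hzN hz.2
  have h2 : χ z ∈ P'' := hPc.2 P'' hP''.isConj ⟨hχN z hzN, Subgroup.mem_centralizer_iff.2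
    fun y hy => Subgroup.mem_centralizer_iff.1 h1.2 y (hP''R y hy)⟩
  obtain ⟨w, hw, hwz⟩ := hR.exists_eq (hP''R _ h2)
  exact hχ.injOn (hP'N hw) hzN hwz ▸ hw

/-- A saturated subsystem with a normal subgroup `Q`, whose centric subgroups above `Q` are
centric in the whole system, inherits freeness. -/
theorem free_of_centric_above {H : Type*} [Group H] (hfree : F.IsSectionFree p H)
    {T₀ : Subgroup Ω} (hT₀ : T₀ ≤ S) {N : FusionSystem T₀} (hNs : N.IsSaturated p)
    (hsub : N.IsSubsystemOf F) {Q : Subgroup Ω} (hNQ : N.IsNormal Q)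
    (hcen : ∀ P, N.IsCentric P → Q ≤ P → F.IsCentric P) : N.IsSectionFree p H := by
  haveI : Finite T₀ := finite_of_le hT₀
  have hp : IsPGroup p T₀ := hS.to_le hT₀
  suffices main : ∀ (n : ℕ) (P : Subgroup Ω), Nat.card T₀ - Nat.card P ≤ n →
      N.IsFullyNormalized P → N.IsCentric P →
      ∀ D : FusionSystem (normalizerIn T₀ P),
      N.IsNormalizerSystem P D → ∀ (L : Type u) [Group L]
        (ι : normalizerIn T₀ P →* L), D.IsModel p L ι → ¬ Involves H L from
    fun P => main _ P le_rfl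
  intro n
  induction n using Nat.strong_induction_on with
  | h n ih =>
    intro P hn hPn hPc D hD L _ ι hM hinv
    haveI : Finite (normalizerIn T₀ P) := finite_of_le inf_le_left
    have hTp : IsPGroup p (normalizerIn T₀ P) := hp.to_le inf_le_left
    have hPT : P ≤ (normalizerIn T₀ P) := le_inf hPc.1 Subgroup.le_normalizer
    have hDP := normalizerSystem_isNormal hD hPc.1
    by_cases hQP : Q ≤ P
    · obtain ⟨P', hn', hc', -, N', hN', L', hL', ι', hι', θ, hθ⟩ :=
        exists_embedding_fn hS hF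
          (fun R φ hφ => hsub R (normalizerSystem_subsystem hp hNs hD R hφ))
          (hcen P hPc hQP) hDP
          (inf_le_left.trans hT₀) hM
      exact hfree P' hn' hc' N' hN' L' ι' hι' (involves_of_injective hθ hinv)
    · have hQN : Q ≤ T₀ := hNQ.1
      have hVn : D.IsNormal (Q ⊓ (normalizerIn T₀ P)) := by
        refine isNormal_iff.2 ⟨inf_le_right, fun X f hf => ?_⟩
        obtain ⟨k, hk, hkf, hkP⟩ := (isNormal_iff.1 hDP).2 X f hf
        obtain ⟨hkN, hXT, hkT, -⟩ := (mor_normalizerSystem hD).1 hk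
        obtain ⟨l, hl, hlk, hlQ⟩ :=
          (isNormal_iff.1 hNQ).2 (X ⊔ P) k hkN
        have hPs : P ≤ X ⊔ P ⊔ Q := le_sup_of_le_left le_sup_right
        have hlP : Iso N P P l := ⟨hl.mono hPs, fun y => by
          rw [hkP y]
          exact ⟨fun ⟨x, hx, hxy⟩ => ⟨x, hx, (hlk x (Subgroup.mem_sup_right hx)).trans hxy⟩,
            fun ⟨x, hx, hxy⟩ => ⟨x, hx,
              (hlk x (Subgroup.mem_sup_right hx)).symm.trans hxy⟩⟩⟩
        have hXS : X ≤ (normalizerIn T₀ P) := le_sup_left.trans hXT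
        have hle : X ⊔ (Q ⊓ (normalizerIn T₀ P)) ≤ X ⊔ P ⊔ Q :=
          sup_le (le_sup_of_le_left le_sup_left) (inf_le_left.trans le_sup_right)
        have himg : ∀ x ∈ X ⊔ P ⊔ Q, x ∈ (normalizerIn T₀ P) → l x ∈ (normalizerIn T₀ P) := fun x hx hxT =>
          hl.mem_normalizerIn hPs hlP hx hxT.2
        have hlV : ∀ x ∈ Q ⊓ (normalizerIn T₀ P), l x ∈ Q ⊓ (normalizerIn T₀ P) := fun x hx =>
          ⟨(hlQ _).2 ⟨x, hx.1, rfl⟩, himg x (Subgroup.mem_sup_right hx.1) hx.2⟩
        refine ⟨l, (mor_normalizerSystem hD).2 ⟨hl.mono hle, sup_le hXS inf_le_right,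
          fun x hx => himg x (hle hx) (sup_le hXS inf_le_right hx), l,
          hl.mono (sup_le hle hPs), fun _ _ => rfl, hlP.2⟩,
          fun x hx => (hlk x (Subgroup.mem_sup_left hx)).trans (hkf x hx), fun y => ?_⟩
        refine ⟨fun hy => ?_, fun ⟨x, hx, hxy⟩ => hxy ▸ hlV x hx⟩
        exact (hl.mono (inf_le_left.trans le_sup_right : Q ⊓ (normalizerIn T₀ P) ≤ X ⊔ P ⊔ Q)).surj_of_card
          (inf_le_left.trans hQN) hlV le_rfl hy
      have hVR := le_modelCore hTp hM hVn
      have hPR := le_modelCore hTp hM hDP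
      obtain ⟨hRn, -⟩ := model_core_centric hM
      have hRS : modelCore p ι ≤ T₀ := hRn.1.trans inf_le_left
      have hlt : P < modelCore p ι := by
        refine lt_of_le_of_ne hPR fun e => hQP ?_
        by_contra hne
        have hsup : P < P ⊔ Q := lt_of_le_of_ne le_sup_left fun e' => hne (e' ▸ le_sup_right)
        have h1 := lt_inf_normalizer hp (sup_le hPc.1 hQN) hsup
        refine h1.not_ge fun x hx => ?_
        obtain ⟨hxPQ, hxn⟩ := hx
        have hxmul : x ∈ (↑(P ⊔ Q) : Set Ω) := hxPQ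
        rw [Subgroup.coe_mul_of_left_le_normalizer_right P Q
          (fun a ha => StronglyClosed.le_normalizer (stronglyClosed_of_isNormal hNQ) (hPc.1 ha))] at hxmul
        obtain ⟨a, ha, b, hb, rfl⟩ := hxmul
        refine P.mul_mem ha (e.ge (hVR ⟨hb, ⟨hQN hb, ?_⟩⟩))
        have h2 := Subgroup.mul_mem _ (Subgroup.inv_mem _ (Subgroup.le_normalizer ha)) hxn
        rwa [inv_mul_cancel_left] at h2
      obtain ⟨P', hPn', hPc', hcard, N', hN', L', hL', ι', hι', θ, hθ⟩ :=
        exists_embedding_fn hp hNs (normalizerSystem_subsystem hp hNs hD)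
          (centric_of_le hPc hlt.le hRS) hRn inf_le_left hM
      have h1 := card_lt_of_lt' hRS hlt
      have h2 := Subgroup.card_le_of_le hRS
      exact ih (Nat.card T₀ - Nat.card P') (by omega) P' le_rfl hPn' hPc' N' hN'
        L' ι' hι' (involves_of_injective hθ hinv)

/-- Normalizer systems inherit freeness. -/
theorem free_normalizerSystem {H : Type*} [Group H] (hfree : F.IsSectionFree p H)
    {Q : Subgroup Ω} (hQn : F.IsFullyNormalized Q) {N : FusionSystem (normalizerIn S Q)}
    (hN : F.IsNormalizerSystem Q N) : N.IsSectionFree p H :=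
  free_of_centric_above hS hF hfree inf_le_left (normalizerSystem_saturated hS hF hQn hN)
    (normalizerSystem_subsystem hS hF hN) (normalizerSystem_isNormal hN hQn.1)
    fun _ hPc hQP => centric_of_normalizer_centric hS hF hQn hN hPc hQP

end Saturated

end Cfsg.Agent.FusSys
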