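import Cfsg.Agent.FusSys.Criteria

/-!
Normality from central series of closed subgroups, and consequences.
-/

set_option autoImplicit false

namespace Cfsg.Agent.FusSys

open Cfsg Cfsg.FusionSystem

universe u

variable {Ω : Type u} [Group Ω] {S : Subgroup Ω}
variable {F : FusionSystem S} {P Q R : Subgroup Ω} {f g : Ω → Ω} {p : ℕ}

/-- A chain indexed by `Fin (n + 1)`, continued as a chain indexed by `ℕ`. -/
def natChain {n : ℕ} (C : Fin (n + 1) → Subgroup Ω) (i : ℕ) : Subgroup Ω :=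
  C ⟨min i n, Nat.lt_succ_of_le (Nat.min_le_right i n)⟩

theorem natChain_castSucc {n : ℕ} (C : Fin (n + 1) → Subgroup Ω) (i : Fin n) :
    natChain C (i : ℕ) = C i.castSucc := congrArg C (Fin.ext (Nat.min_eq_left i.2.le))

theorem natChain_succ {n : ℕ} (C : Fin (n + 1) → Subgroup Ω) (i : Fin n) :
    natChain C ((i : ℕ) + 1) = C i.succ := congrArg C (Fin.ext (Nat.min_eq_left i.2))

theorem natChain_zero {n : ℕ} (C : Fin (n + 1) → Subgroup Ω) : natChain C 0 = C 0 :=
  congrArg C (Fin.ext (Nat.zero_min n))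

theorem natChain_last {n : ℕ} (C : Fin (n + 1) → Subgroup Ω) : natChain C n = C (Fin.last n) :=
  congrArg C (Fin.ext (Nat.min_self n))

theorem natChain_mono {n : ℕ} {C : Fin (n + 1) → Subgroup Ω} (hC : Monotone C) :
    Monotone (natChain C) := fun _ _ h => hC (min_le_min_right n h)

theorem conj_commutator_mem {A B C : Subgroup Ω} (h : ⁅A, B⁆ ≤ C) {a x : Ω} (ha : a ∈ A)
    (hx : x ∈ B) : x⁻¹ * (a * x * a⁻¹) ∈ C := by
  have h1 := h (Subgroup.commutator_mem_commutator ha (B.inv_mem hx))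
  have h2 := C.inv_mem h1
  rw [commutatorElement_def] at h2
  have e : (a * x⁻¹ * a⁻¹ * x⁻¹⁻¹)⁻¹ = x⁻¹ * (a * x * a⁻¹) := by group
  rwa [e] at h2

theorem lcs_subgroupOf_characteristic (Q : Subgroup Ω) (k : ℕ) :
    ((Q.lowerCentralSeries k).subgroupOf Q).Characteristic := by
  rw [← Subgroup.top_subtype_lowerCentralSeries, Subgroup.subgroupOf,
    Subgroup.comap_map_eq_self_of_injective Q.subtype_injective]
  infer_instance

theorem exists_closed_series [Fact p.Prime] [Finite S] (hS : IsPGroup p S) (hQ : Q ≤ S)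
    (h : ∀ k, F.StronglyClosed (Q.lowerCentralSeries k)) :
    ∃ (n : ℕ) (C : Fin (n + 1) → Subgroup Ω), C 0 = ⊥ ∧ C (Fin.last n) = Q ∧ Monotone C ∧
      ∀ i : Fin n, F.StronglyClosed (C i.succ) ∧ ⁅Q, C i.succ⁆ ≤ C i.castSucc := by
  haveI := finite_of_le hQ
  haveI : Group.IsNilpotent Q := (hS.to_le hQ).isNilpotent
  obtain ⟨n, hn⟩ := (Subgroup.isNilpotent_iff_lowerCentralSeries Q).1 inferInstance
  refine ⟨n, fun i => Q.lowerCentralSeries (n - (i : ℕ)), by simpa using hn, by simp, ?_,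
    fun i => ⟨h _, ?_⟩⟩
  · intro i j hij
    exact Q.lowerCentralSeries_antitone (Nat.sub_le_sub_left (Fin.le_def.1 hij) n)
  · have hi := i.2
    have e : n - ((i.castSucc : Fin (n + 1)) : ℕ) = n - ((i.succ : Fin (n + 1)) : ℕ) + 1 := by
      simp only [Fin.val_castSucc, Fin.val_succ]
      omega
    rw [Subgroup.commutator_comm]
    show ⁅Q.lowerCentralSeries (n - ((i.succ : Fin (n + 1)) : ℕ)), Q⁆ ≤
      Q.lowerCentralSeries (n - ((i.castSucc : Fin (n + 1)) : ℕ))
    rw [e]
    exact le_refl _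

section Saturated

variable [Fact p.Prime] [Finite S] (hS : IsPGroup p S) (hF : F.IsSaturated p)
include hS hF

theorem isNormal_of_closed_series {n : ℕ} {C : Fin (n + 1) → Subgroup Ω} (h0 : C 0 = ⊥)
    (hn : C (Fin.last n) = Q) (hmono : Monotone C)
    (h : ∀ i : Fin n, F.StronglyClosed (C i.succ) ∧ ⁅Q, C i.succ⁆ ≤ C i.castSucc) :
    F.IsNormal Q := by
  have hcl : ∀ i, i ≤ n → F.StronglyClosed (natChain C i) := by
    intro i hi
    rcases Nat.eq_zero_or_pos i with rfl | hpos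
    · rw [natChain_zero, h0]
      exact stronglyClosed_of_isNormal isNormal_bot
    · have e := natChain_succ C ⟨i - 1, by omega⟩
      rw [show i - 1 + 1 = i from Nat.sub_add_cancel hpos] at e
      rw [e]
      exact (h _).1
  refine isNormal_of_series hS hF (hn ▸ natChain_last C ▸ hcl n le_rfl) (natChain_mono hmono)
    ((natChain_last C).trans hn) (fun P hc hr => ⟨fun α hα i hi x hx =>
      apl_invariant_of_stronglyClosed (hcl i hi) hc.1 hα hx, fun δ _ _ x hx hx0 => ?_⟩)
    fun i hi a ha x hx => ?_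
  · rw [natChain_zero, h0, Subgroup.mem_bot] at hx0
    subst hx0
    exact Mor.map_one (mor_extendFn (autGen_iff.2 ((mem_autGroup_iff hc.1).1 ‹δ ∈ _›)))
  · rw [natChain_succ C ⟨i, hi⟩] at hx
    rw [natChain_castSucc C ⟨i, hi⟩]
    exact conj_commutator_mem (h ⟨i, hi⟩).2 ha hx

theorem isNormal_iff_series :
    F.IsNormal Q ↔ ∃ (n : ℕ) (Qs : Fin (n + 1) → Subgroup Ω), Qs 0 = ⊥ ∧ Qs (Fin.last n) = Q ∧
      Monotone Qs ∧ ∀ i : Fin n, F.StronglyClosed (Qs i.succ) ∧
        ⁅Q, Qs i.succ⁆ ≤ Qs (Fin.castSucc i) := by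
  refine ⟨fun hQ => exists_closed_series hS hQ.1 fun k => ?_, ?_⟩
  · refine stronglyClosed_of_isNormal (isNormal_of_characteristic hQ
      ((Q.lowerCentralSeries_antitone (Nat.zero_le k)).trans (le_refl _))
      (lcs_subgroupOf_characteristic Q k))
  · rintro ⟨n, C, h0, hn, hmono, h⟩
    exact isNormal_of_closed_series hS hF h0 hn hmono h

theorem isNormal_iff_extends {R : Subgroup Ω} (hRS : R ≤ S) :
    F.IsNormal R ↔ ∀ P f, P ≤ R → Mor F P f →
      ∃ α ∈ F.autGroup R, ∀ x ∈ P, apl α x = f x := by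
  constructor
  · intro hR P f hPR hf
    obtain ⟨g, hg, hgf, hgR⟩ := (isNormal_iff.1 hR).2 P f hf
    rw [sup_eq_right.2 hPR] at hg
    obtain ⟨α, hα, hαg⟩ := (show Iso F R R g from ⟨hg, hgR⟩).exists_mem_autGroup
    exact ⟨α, hα, fun x hx => (hαg x (hPR hx)).trans (hgf x hx)⟩
  · intro h
    refine (isNormal_iff_series hS hF).2 (exists_closed_series hS hRS fun k => ?_)
    have hkR : R.lowerCentralSeries k ≤ R := R.lowerCentralSeries_antitone (Nat.zero_le k)
    refine stronglyClosed_iff.2 ⟨hkR.trans hRS, fun W f hW hf x hx => ?_⟩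
    obtain ⟨α, hα, hαf⟩ := h W f (hW.trans hkR) hf
    rw [← hαf x hx]
    refine (apl_mem_iff_of_invariant ?_ (hkR (hW hx))).2 (hW hx)
    exact Subgroup.characteristic_iff_map_eq.1 (lcs_subgroupOf_characteristic R k) α

theorem isNormal_iff_stronglyClosed_le :
    F.IsNormal Q ↔ F.StronglyClosed Q ∧
      ∀ P, F.IsCentric P → F.IsRadical p P → Q ≤ P :=
  ⟨fun h => ⟨stronglyClosed_of_isNormal h, fun _ hc hr => le_of_normal_centric_radical hS h hc hr⟩,
    fun h => isNormal_of_stronglyClosed_le hS hF h.1 h.2⟩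

theorem core_ne_bot_iff :
    F.core ≠ ⊥ ↔ ∃ Q : Subgroup Ω, Q ≠ ⊥ ∧ IsMulCommutative Q ∧ F.StronglyClosed Q := by
  constructor
  · intro h
    have hc := isNormal_core (F := F)
    haveI := finite_of_le hc.1
    haveI : Nontrivial F.core := (Subgroup.nontrivial_iff_ne_bot _).2 h
    haveI := (hS.to_le hc.1).center_nontrivial
    refine ⟨(Subgroup.center F.core).map F.core.subtype, ?_, ?_, ?_⟩
    · rw [Ne, Subgroup.map_eq_bot_iff_of_injective _ F.core.subtype_injective]
      exact (Subgroup.nontrivial_iff_ne_bot _).1 inferInstance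
    · exact inferInstance
    · refine stronglyClosed_of_isNormal (isNormal_of_characteristic hc
        (Subgroup.map_subtype_le _) ?_)
      rw [Subgroup.subgroupOf, Subgroup.comap_map_eq_self_of_injective F.core.subtype_injective]
      infer_instance
  · rintro ⟨Q, hQ, hcomm, hcl⟩ h
    refine hQ (le_bot_iff.1 (h ▸ le_core ?_))
    refine isNormal_of_closed_series hS hF (n := 1) (C := ![⊥, Q]) rfl rfl ?_ fun i => ?_
    · intro i j hij
      fin_cases i <;> fin_cases j <;> simp_all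
    · fin_cases i
      refine ⟨hcl, ?_⟩
      show ⁅Q, Q⁆ ≤ ⊥
      rw [Subgroup.commutator_le]
      intro a ha b hb
      rw [Subgroup.mem_bot, commutatorElement_eq_one_iff_mul_comm]
      exact congrArg Subtype.val (hcomm.is_comm.comm ⟨a, ha⟩ ⟨b, hb⟩)

end Saturated

end Cfsg.Agent.FusSys
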