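import Cfsg.Agent.FusSys.Realized

/-!
Uniqueness of models.
-/

set_option autoImplicit false

namespace Cfsg.Agent.FusSys

open Cfsg Cfsg.FusionSystem

universe u

variable {Ω : Type u} [Group Ω] {S : Subgroup Ω} {F : FusionSystem S}
variable {G : Type*} [Group G] {ι : S →* G} {Q : Subgroup Ω} {p : ℕ}

/-- An element commuting with all its commutators with a `p`-group, and of order prime to `p`,
centralizes it. -/
theorem commute_of_coprime [Fact p.Prime] {x y : G} (m : ℕ) (hm : x ^ m = 1) (hpm : ¬ p ∣ m)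
    (hc : Commute x (x * y * x⁻¹ * y⁻¹)) {e : ℕ} (he : (x * y * x⁻¹ * y⁻¹) ^ p ^ e = 1) :
    x * y = y * x := by
  set c := x * y * x⁻¹ * y⁻¹ with hcdef
  have hk : ∀ n : ℕ, x ^ n * y * (x ^ n)⁻¹ = c ^ n * y := by
    intro n
    induction n with
    | zero => simp
    | succ n ih =>
      calc x ^ (n + 1) * y * (x ^ (n + 1))⁻¹ = x * (x ^ n * y * (x ^ n)⁻¹) * x⁻¹ := by
            rw [pow_succ']; group
        _ = x * c ^ n * y * x⁻¹ := by rw [ih]; group
        _ = c ^ n * x * y * x⁻¹ := by rw [(hc.pow_right n).eq]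
        _ = c ^ n * (x * y * x⁻¹ * y⁻¹) * y := by group
        _ = c ^ (n + 1) * y := by rw [← hcdef, pow_succ]
  have hcm : c ^ m = 1 := by
    have h := hk m
    rw [hm, one_mul, inv_one, mul_one] at h
    exact mul_eq_right.1 h.symm
  have hc1 : c = 1 := by
    have h1 := (pow_gcd_eq_one (a := c) (m := m) (n := p ^ e)).2 ⟨hcm, he⟩
    rwa [Nat.Coprime.gcd_eq_one (Nat.Coprime.pow_right _
      (((Fact.out : p.Prime).coprime_iff_not_dvd.2 hpm).symm)), pow_one] at h1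
  calc x * y = c * (y * x) := by rw [hcdef]; group
    _ = y * x := by rw [hc1, one_mul]

/-- A finite group element is a `p`-element once its `p'`-part is trivial. -/
theorem isPGroup_of_no_coprime [Fact p.Prime] [Finite G] {C : Subgroup G}
    (h : ∀ x ∈ C, ¬ p ∣ orderOf x → x = 1) : IsPGroup p C := by
  refine IsPGroup.iff_orderOf.2 fun x => ?_
  have ho : 0 < orderOf x := orderOf_pos x
  refine ⟨(orderOf x).factorization p, ?_⟩
  set d := p ^ (orderOf x).factorization p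
  have hd : d ∣ orderOf x := Nat.ordProj_dvd _ p
  have h1 : orderOf ((x : G) ^ d) = orderOf x / d := by
    rw [← Subgroup.orderOf_coe x] at hd ⊢
    exact orderOf_pow_of_dvd (pow_ne_zero _ (Fact.out : p.Prime).ne_zero) hd
  have h2 := h _ (C.pow_mem x.2 d)
    (by rw [h1]; exact Nat.not_dvd_ordCompl (Fact.out : p.Prime) ho.ne')
  have h3 : x ^ d = 1 := Subtype.ext (by rw [SubmonoidClass.coe_pow, h2]; rfl)
  exact Nat.dvd_antisymm (orderOf_dvd_of_pow_eq_one h3) hd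

/-- In a model the centralizer of the image of a normal centric subgroup lies in that image. -/
theorem model_centralizer [Fact p.Prime] (h : F.IsModel p G ι) (hQn : F.IsNormal Q)
    (hQc : F.IsCentric Q) :
    Subgroup.centralizer ((Q.subgroupOf S).map ι : Set G) ≤ (Q.subgroupOf S).map ι := by
  haveI := model_normal_image h hQn
  obtain ⟨hfin, hr, hT, hC⟩ := h
  haveI := hfin
  haveI : Finite S := Finite.of_injective _ hr.1
  set N := (Q.subgroupOf S).map ι
  set C := Subgroup.centralizer (N : Set G)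
  have hCS : ∀ s : S, ι s ∈ C → (s : Ω) ∈ Q := fun s hs => by
    refine centric_self hQc ⟨s.2, Subgroup.mem_centralizer_iff.2 fun z hz => ?_⟩
    have h1 := Subgroup.mem_centralizer_iff.1 hs _ ⟨⟨z, hQn.1 hz⟩, hz, rfl⟩
    rw [← map_mul, ← map_mul] at h1
    exact congrArg Subtype.val (hr.1 h1)
  have hCp : IsPGroup p C := isPGroup_of_no_coprime fun x hx hxp => by
    have hxO : x ∈ pCore p G := hC (Subgroup.mem_centralizer_iff.2 fun y hy => ?_)
    · obtain ⟨e, he⟩ := IsPGroup.iff_orderOf.1 Cfsg.Agent.Core.pCore_isPGroup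
        (⟨x, hxO⟩ : pCore p G)
      rw [← Subgroup.orderOf_coe] at he
      rw [← orderOf_eq_one_iff]
      rcases Nat.eq_zero_or_pos e with rfl | he0
      · exact he
      · exact absurd (he ▸ dvd_pow_self p he0.ne') hxp
    · have h1 : x * y * x⁻¹ * y⁻¹ ∈ pCore p G :=
        Subgroup.mul_mem _ ((inferInstance : (pCore p G).Normal).conj_mem _ hy x)
          (Subgroup.inv_mem _ hy)
      have h2 : x * y * x⁻¹ * y⁻¹ ∈ C := by
        rw [show x * y * x⁻¹ * y⁻¹ = x * (y * x⁻¹ * y⁻¹) by group]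
        exact C.mul_mem hx ((inferInstance : C.Normal).conj_mem _ (C.inv_mem hx) y)
      obtain ⟨s, hs⟩ := pCore_le_range (ι := ι) hT h1
      obtain ⟨e, he⟩ := IsPGroup.iff_orderOf.1 Cfsg.Agent.Core.pCore_isPGroup
        (⟨_, h1⟩ : pCore p G)
      rw [Subgroup.orderOf_mk] at he
      refine (commute_of_coprime (p := p) (orderOf x) (pow_orderOf_eq_one x) hxp ?_
        (e := e) (he ▸ pow_orderOf_eq_one _)).symm
      exact (Subgroup.mem_centralizer_iff.1 hx _ ⟨s, hCS s (hs ▸ h2), hs⟩).symm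
  intro x hx
  obtain ⟨s, rfl⟩ := pCore_le_range (ι := ι) hT (Cfsg.Agent.Core.le_pCore hCp hx)
  exact ⟨s, hCS s hx, rfl⟩

/-- The action of a model on a normal subgroup of the system. -/
theorem exists_autHom [Fact p.Prime] (h : F.IsModel p G ι) (hQn : F.IsNormal Q)
    (hSN : S ≤ Subgroup.normalizer (Q : Set Ω)) :
    ∃ pr : G →* F.autGroup Q,
      (∀ (g : G) (x : S) (hx : (x : Ω) ∈ Q),
        g * ι x * g⁻¹ = ι ⟨apl (pr g : MulAut Q) x, hQn.1 (apl_mem _ hx)⟩) ∧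
      (∀ s, pr (ι s) = toAut F hQn.1 hSN s) ∧ Function.Surjective pr := by
  classical
  haveI hNn := model_normal_image h hQn
  obtain ⟨hfin, hr, hT, hC⟩ := h
  haveI := hfin
  haveI : Finite S := Finite.of_injective _ hr.1
  haveI := finite_of_le hQn.1
  have hex : ∀ g : G, ∃ α : F.autGroup Q, ∀ (x : S) (hx : (x : Ω) ∈ Q),
      g * ι x * g⁻¹ = ι ⟨apl (α : MulAut Q) x, hQn.1 (apl_mem _ hx)⟩ := by
    intro g
    have hx0 : ∀ x : S, (x : Ω) ∈ Q → ∃ w : S, (w : Ω) ∈ Q ∧ g * ι x * g⁻¹ = ι w := fun x hx => by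
      obtain ⟨w, hw, hwx⟩ := hNn.conj_mem _ ⟨x, hx, rfl⟩ g
      exact ⟨w, hw, hwx.symm⟩
    have hm : Mor F Q (pullConj ι g) := by
      refine (mor_realized hr).2 ⟨hQn.1, fun z hz => ?_, g, fun z hz => ?_⟩
      · obtain ⟨w, -, hw⟩ := hx0 ⟨z, hQn.1 hz⟩ hz
        exact pullConj_eq hr.1 hw ▸ w.2
      · obtain ⟨w, -, hw⟩ := hx0 z hz
        rw [pullConj_eq hr.1 hw, thFn_coe, hw]
    have hmem : ∀ z ∈ Q, pullConj ι g z ∈ Q := fun z hz => by
      obtain ⟨w, hwQ, hw⟩ := hx0 ⟨z, hQn.1 hz⟩ hz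
      exact pullConj_eq hr.1 hw ▸ hwQ
    have hi : Iso F Q Q (pullConj ι g) := ⟨hm, fun y =>
      ⟨fun hy => hm.surj_of_card hQn.1 hmem le_rfl hy,
        fun ⟨z, hz, hzy⟩ => hzy ▸ hmem z hz⟩⟩
    obtain ⟨α, hα, hαx⟩ := hi.exists_mem_autGroup
    refine ⟨⟨α, hα⟩, fun x hx => ?_⟩
    obtain ⟨w, -, hw⟩ := hx0 x hx
    rw [hw]
    congr 1
    exact Subtype.ext ((hαx x hx).trans (pullConj_eq hr.1 hw)).symm
  choose f hf using hex
  have huniq : ∀ (g : G) (β : F.autGroup Q), (∀ (x : S) (hx : (x : Ω) ∈ Q),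
      g * ι x * g⁻¹ = ι ⟨apl (β : MulAut Q) x, hQn.1 (apl_mem _ hx)⟩) → f g = β := fun g β hβ =>
    Subtype.ext (apl_ext fun z hz => congrArg Subtype.val
      (hr.1 ((hf g ⟨z, hQn.1 hz⟩ hz).symm.trans (hβ ⟨z, hQn.1 hz⟩ hz))))
  let pr : G →* F.autGroup Q := MonoidHom.mk' f fun g g' => huniq _ _ fun x hx => by
    have h1 := hf g' x hx
    have h2 := hf g ⟨_, hQn.1 (apl_mem (f g' : MulAut Q) hx)⟩ (apl_mem _ hx)
    rw [show g * g' * ι x * (g * g')⁻¹ = g * (g' * ι x * g'⁻¹) * g⁻¹ by group, h1, h2]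
    congr 1
    exact Subtype.ext (apl_mul _ _ hx).symm
  refine ⟨pr, hf, fun s => huniq _ _ fun x hx => ?_, fun α => ?_⟩
  · rw [← map_inv, ← map_mul, ← map_mul]
    congr 1
    exact Subtype.ext ((apl_toAut (F := F) (hQS := hQn.1) (hSN := hSN) s hx).trans (by simp)).symm
  · obtain ⟨-, -, g, hg⟩ := (mor_realized hr).1 (iso_apl (F := F) hQn.1 α.2).1
    refine ⟨g, huniq _ _ fun x hx => ?_⟩
    rw [← hg x hx, thFn_apply]

variable {hQS : Q ≤ S} {hSN : S ≤ Subgroup.normalizer (Q : Set Ω)}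

/-- Every model maps to the monomial group of glueing data, compatibly with `S`. -/
theorem model_to_mono [Fact p.Prime] (h : F.IsModel p G ι) (hQn : F.IsNormal Q)
    (hQc : F.IsCentric Q) (D : GlueData F hQS hSN) :
    ∃ θ : G →* Mono (toAut F hQS hSN) D.t, (∀ x, θ (ι x) = D.j x) ∧
      (∀ α, ∃ g, (θ g).g = α) ∧
      ∀ g, (θ g).g = 1 → ∃ z ∈ (toAut F hQS hSN).ker, ι z = g := by
  classical
  obtain ⟨pr, hpr, hprι, hsurj⟩ := exists_autHom h hQn hSN
  have hcen := model_centralizer h hQn hQc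
  obtain ⟨hfin, hr, hT, hC⟩ := h
  have hker : ∀ g, pr g = 1 → ∃ z ∈ (toAut F hQS hSN).ker, ι z = g := fun g hg => by
    obtain ⟨z, -, rfl⟩ := hcen (x := g) (Subgroup.mem_centralizer_iff.2 (by
      rintro _ ⟨x, hx, rfl⟩
      have h1 := hpr g x hx
      have h2 : g * ι x * g⁻¹ = ι x := h1.trans (congrArg ι (Subtype.ext (by
        show apl (pr g : MulAut Q) x = x
        rw [hg]
        exact apl_one hx)))
      calc ι x * g = g * ι x * g⁻¹ * g := by rw [h2]
        _ = g * ι x := by group))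
    exact ⟨z, by rw [MonoidHom.mem_ker, ← hprι, hg], rfl⟩
  have hex : ∀ a : F.autGroup Q, ∃ g : G, pr g = a ∧
      ∀ (w : S) (hw : (w : Ω) ∈ nPhi S Q (apl ((a⁻¹ : F.autGroup Q) : MulAut Q))),
        g⁻¹ * ι w * g = ι ⟨D.k a w, (D.hk a).mem_S hw⟩ := by
    intro a
    obtain ⟨-, -, g, hg⟩ := (mor_realized hr).1 (D.hk a)
    have h1 : pr g = a⁻¹ := Subtype.ext (apl_ext fun z hz => by
      have hz' := (iso_apl (F := F) hQS (a⁻¹).2).1.le_nPhi hz
      have h2 := (hpr g ⟨z, hQS hz⟩ hz).symm.trans (hg ⟨z, hQS hz⟩ hz').symm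
      rw [thFn_apply ((D.hk a).mem_S hz')] at h2
      exact (congrArg Subtype.val (hr.1 h2)).trans (D.hkQ a z hz))
    refine ⟨g⁻¹, by rw [map_inv, h1, inv_inv], fun w hw => ?_⟩
    rw [inv_inv, ← hg w hw, thFn_apply ((D.hk a).mem_S hw)]
  choose G0 hG0 hG0w using hex
  let T : F.autGroup Q ⧸ (toAut F hQS hSN).range → G := fun q => ι (D.σ q) * G0 (D.a q)
  have hTt : ∀ q, pr (T q) = D.t q := fun q => by
    rw [map_mul, hprι, hG0]
    rfl
  have hsex : ∀ (g : G) q, ∃ u : S, ι u = (T (pr g • q))⁻¹ * g * T q := fun g q => by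
    have h1 : (D.t (pr g • q))⁻¹ * pr g * D.t q ∈ (toAut F hQS hSN).range := by
      rw [mul_assoc, ← QuotientGroup.eq, D.ht]
      conv_lhs => rw [← D.ht q]
      rfl
    obtain ⟨u, hu⟩ := h1
    obtain ⟨z, -, hz⟩ := hker ((ι u)⁻¹ * ((T (pr g • q))⁻¹ * g * T q)) (by
      rw [map_mul, map_mul, map_mul, map_inv, map_inv, hprι, hTt, hTt, hu]
      group)
    exact ⟨u * z, by rw [map_mul, hz, mul_inv_cancel_left]⟩
  choose sg hsg using hsex
  let θ : G →* Mono (toAut F hQS hSN) D.t := MonoidHom.mk'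
    (fun g => ⟨pr g, sg g, fun q => by
      rw [← hprι, hsg, map_mul, map_mul, map_inv, hTt, hTt]⟩)
    fun g g' => Mono.ext (map_mul pr g g') (funext fun q => hr.1 (by
      show ι (sg (g * g') q) = ι (sg g (pr g' • q) * sg g' q)
      rw [map_mul, hsg, hsg, hsg, map_mul, mul_smul]
      group))
  refine ⟨θ, fun x => Mono.ext (hprι x) (funext fun q => hr.1 ?_), fun α => hsurj α, hker⟩
  show ι (sg (ι x) q) = ι (D.s x q)
  rw [hsg, hprι]
  show (ι (D.σ _) * G0 (D.b _).out)⁻¹ * ι x * (ι (D.σ q) * G0 (D.b q).out) = _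
  rw [D.hb]
  refine Eq.trans ?_ (hG0w (D.b q).out _ (D.hD q _ (D.hw x q)).choose)
  rw [map_mul, map_mul, map_inv]
  group

theorem equiv_of_mono {H : Type*} [Group H] {η : S →* H} {hQS : Q ≤ S}
    {hSN : S ≤ Subgroup.normalizer (Q : Set Ω)} {D : GlueData F hQS hSN}
    {G₀ : Type u} [Group G₀] {ν : Mono (toAut F hQS hSN) D.t →* G₀}
    {pr : G₀ →* F.autGroup Q}
    (θ : H →* Mono (toAut F hQS hSN) D.t) (hθj : ∀ x, θ (η x) = D.j x)
    (hθs : ∀ α, ∃ g, (θ g).g = α)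
    (hθk : ∀ g, (θ g).g = 1 → ∃ z ∈ (toAut F hQS hSN).ker, η z = g)
    (hM : F.IsModel p G₀ (ν.comp D.j)) (hpr : ∀ m, pr (ν m) = m.g)
    (hker : pr.ker = (toAut F hQS hSN).ker.map (ν.comp D.j)) :
    ∃ φ : H ≃* G₀, ∀ x, φ (η x) = ν (D.j x) := by
  have hinj : Function.Injective (ν.comp θ) := by
    rw [injective_iff_map_eq_one]
    intro g hg
    have h1 : (θ g).g = 1 := by rw [← hpr, show ν (θ g) = 1 from hg, map_one]
    obtain ⟨z, -, rfl⟩ := hθk g h1
    have h2 : (ν.comp D.j) z = (ν.comp D.j) 1 := by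
      rw [map_one]
      exact (congrArg ν (hθj z)).symm.trans hg
    rw [hM.2.1.1 h2, map_one]
  have hsurj : Function.Surjective (ν.comp θ) := fun y => by
    obtain ⟨g, hg⟩ := hθs (pr y)
    have h1 : y * (ν (θ g))⁻¹ ∈ pr.ker := by
      rw [MonoidHom.mem_ker, map_mul, map_inv, hpr, hg, mul_inv_cancel]
    rw [hker] at h1
    obtain ⟨z, -, hz⟩ := h1
    refine ⟨η z * g, ?_⟩
    show ν (θ (η z * g)) = y
    rw [map_mul, hθj, map_mul, show ν (D.j z) = _ from hz, inv_mul_cancel_right]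
  exact ⟨MulEquiv.ofBijective (ν.comp θ) ⟨hinj, hsurj⟩, fun x => congrArg ν (hθj x)⟩

/-- Two models of a constrained system are isomorphic compatibly with `S`. -/
theorem model_unique [Fact p.Prime] [Finite S] (hS : IsPGroup p S) (hF : F.IsConstrained p)
    {G' : Type*} [Group G'] {ι' : S →* G'} (h : F.IsModel p G ι) (h' : F.IsModel p G' ι') :
    ∃ φ : G ≃* G', ∀ x, φ (ι x) = ι' x := by
  obtain ⟨hsat, Q, hQn, hQc⟩ := hF
  obtain ⟨D⟩ := exists_glueData hS hsat hQc hQn.1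
    (StronglyClosed.le_normalizer (stronglyClosed_of_isNormal hQn))
  obtain ⟨G₀, hG₀, ν, pr, hM, -, hpr, -, hker⟩ := exists_model_of_glueData hS hsat hQn hQc D
  obtain ⟨θ, hθj, hθs, hθk⟩ := model_to_mono h hQn hQc D
  obtain ⟨θ', hθj', hθs', hθk'⟩ := model_to_mono h' hQn hQc D
  obtain ⟨φ, hφ⟩ := equiv_of_mono θ hθj hθs hθk hM hpr hker
  obtain ⟨φ', hφ'⟩ := equiv_of_mono θ' hθj' hθs' hθk' hM hpr hker
  exact ⟨φ.trans φ'.symm, fun x => by
    rw [MulEquiv.trans_apply, hφ, MulEquiv.symm_apply_eq, hφ']⟩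

/-- An automorphism of a model fixing the image of `S` pointwise is conjugation by a central
element of `S`. -/
theorem model_rigid [Fact p.Prime] [Finite S] (hS : IsPGroup p S) (hF : F.IsConstrained p)
    (hG : F.IsModel p G ι) (ψ : G ≃* G) (hψ : ∀ x, ψ (ι x) = ι x) :
    ∃ z : S, z ∈ Subgroup.center S ∧ ∀ g : G, ψ g = ι z * g * (ι z)⁻¹ := by
  classical
  obtain ⟨-, Q, hQn, hQc⟩ := hF
  haveI hNn := model_normal_image hG hQn
  have hcen := model_centralizer hG hQn hQc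
  haveI : Finite G := hG.1
  set N := (Q.subgroupOf S).map ι
  set C := Subgroup.centralizer (N : Set G)
  haveI hCn : C.Normal := inferInstance
  have hNψ : ∀ y ∈ N, ψ y = y := by
    rintro _ ⟨x, -, rfl⟩
    exact hψ x
  have hd : ∀ g, ψ g * g⁻¹ ∈ C := fun g => Subgroup.mem_centralizer_iff.2 fun y hy => by
    have h1 : ψ g * (g⁻¹ * y * g) * (ψ g)⁻¹ = y := by
      have h2 : g⁻¹ * y * g ∈ N := by simpa using hNn.conj_mem y hy g⁻¹
      rw [← hNψ _ h2, ← map_inv, ← map_mul, ← map_mul]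
      rw [show g * (g⁻¹ * y * g) * g⁻¹ = y by group, hNψ y hy]
    calc y * (ψ g * g⁻¹) = ψ g * (g⁻¹ * y * g) * (ψ g)⁻¹ * (ψ g * g⁻¹) := by rw [h1]
      _ = ψ g * g⁻¹ * y := by group
  letI : CommGroup C :=
    { (inferInstance : Group C) with
      mul_comm := fun a b => Subtype.ext
        (Subgroup.mem_centralizer_iff.1 b.2 a (hcen a.2)) }
  let d : G → C := fun g => ⟨_, hd g⟩
  have hdr : ∀ g r, r ∈ ι.range → d (g * r) = d g := by
    rintro g _ ⟨x, rfl⟩
    refine Subtype.ext ?_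
    show ψ (g * ι x) * (g * ι x)⁻¹ = ψ g * g⁻¹
    rw [map_mul, hψ]
    group
  let cj : G →* MulAut C := MulAut.conjNormal
  have hdmul : ∀ g h, d (g * h) = d g * cj g (d h) := fun g h => by
    refine Subtype.ext ?_
    show ψ (g * h) * (g * h)⁻¹ = ψ g * g⁻¹ * ((cj g (d h) : C) : G)
    rw [show ((cj g (d h) : C) : G) = g * (ψ h * h⁻¹) * g⁻¹ from MulAut.conjNormal_apply g _,
      map_mul]
    group
  haveI : Fintype (G ⧸ ι.range) := Fintype.ofFinite _
  let P : C := ∏ q : G ⧸ ι.range, d q.out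
  have hP : ∀ g, P = d g ^ Fintype.card (G ⧸ ι.range) * cj g P := fun g => by
    show P = d g ^ Fintype.card (G ⧸ ι.range) * cj g (∏ q : G ⧸ ι.range, d q.out)
    rw [map_prod, ← Finset.card_univ, ← Finset.prod_const, ← Finset.prod_mul_distrib]
    refine (Fintype.prod_equiv (MulAction.toPerm g) _ _ fun q => ?_).symm
    show d g * cj g (d q.out) = d (g • q).out
    rw [← hdmul]
    have h1 : ((g * q.out : G) : G ⧸ ι.range) = g • q := by
      conv_rhs => rw [← QuotientGroup.out_eq' q]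
      rfl
    obtain ⟨r, hr⟩ := QuotientGroup.mk_out_eq_mul ι.range (g * q.out)
    rw [← h1, hr, hdr _ _ r.2]
  obtain ⟨T, hT⟩ := hG.2.2.1
  have hCp : IsPGroup p C :=
    (((hS.to_subgroup _).map ι).to_le hcen)
  have hn : (Nat.card C).Coprime (Fintype.card (G ⧸ ι.range)) := by
    obtain ⟨e, he⟩ := IsPGroup.iff_card.1 hCp
    rw [he, ← Nat.card_eq_fintype_card, ← hT]
    exact Nat.Coprime.pow_left _ ((Fact.out : p.Prime).coprime_iff_not_dvd.2 T.not_dvd_index)
  obtain ⟨z, hz⟩ := (powCoprime hn).surjective P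
  replace hz : z ^ Fintype.card (G ⧸ ι.range) = P := hz
  have hdz : ∀ g, d g = z * (cj g z)⁻¹ := fun g => (powCoprime hn).injective (by
    show d g ^ Fintype.card (G ⧸ ι.range) = (z * (cj g z)⁻¹) ^ Fintype.card (G ⧸ ι.range)
    rw [mul_pow, inv_pow, ← map_pow, hz, eq_mul_inv_iff_mul_eq]
    exact (hP g).symm)
  have hg : ∀ g, ψ g = z * g * (z : G)⁻¹ := fun g => by
    have h1 := congrArg (Subtype.val) (hdz g)
    rw [Subgroup.coe_mul, Subgroup.coe_inv, MulAut.conjNormal_apply] at h1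
    rw [← inv_mul_cancel_right (ψ g) g, show ψ g * g⁻¹ = _ from h1]
    group
  obtain ⟨s, -, hs⟩ := hcen z.2
  refine ⟨s, Subgroup.mem_center_iff.2 fun x => hG.2.1.1 ?_, fun g => hs.symm ▸ hg g⟩
  have h1 := hg (ι x)
  rw [hψ, ← hs, ← map_inv, ← map_mul, ← map_mul] at h1
  have h2 := congrArg (fun w => w * ι s) h1
  simp only [← map_mul, inv_mul_cancel_right] at h2
  exact h2

end Cfsg.Agent.FusSys
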