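import Cfsg.Agent.FusSys.KNorm
import Cfsg.Agent.FusSys.Series
import Cfsg.Agent.FusSys.Unique
import Cfsg.Agent.FusSys.InnerCrit

/-!
A system with a normal subgroup `Q`: the maps acting on `Q` as elements of `S`, the splitting
through `N_F(Q C_S(Q))`, and lifting normal subgroups from the factor system when every map acts
on `Q` as an element of `S`.
-/

set_option autoImplicit false

namespace Cfsg.Agent.FusSys

open Cfsg Cfsg.FusionSystem

universe u

variable {Ω : Type u} [Group Ω] {S : Subgroup Ω} {F : FusionSystem S} {p : ℕ} {Q : Subgroup Ω}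

/-- The maps acting on `Q` as elements of `K`. -/
def KRel (F : FusionSystem S) (K : Subgroup (MulAut Q)) (P : Subgroup Ω) (f : Ω → Ω) : Prop :=
  P ≤ S ∧ (∀ x ∈ P, f x ∈ S) ∧ ∃ g, Mor F (P ⊔ Q) g ∧ (∀ x ∈ P, g x = f x) ∧ InK K g

theorem subRel_kRel (hQS : Q ≤ S) (hSN : S ≤ Subgroup.normalizer (Q : Set Ω))
    {K : Subgroup (MulAut Q)} (hK : autInducedBy S Q ≤ K) : SubRel F S (KRel F K) where
  congr := by
    rintro P f g ⟨h1, h2, k, hk, hkf, hkK⟩ he
    exact ⟨h1, fun x hx => he x hx ▸ h2 x hx, k, hk, fun x hx => (hkf x hx).trans (he x hx).symm,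
      hkK⟩
  le h := ⟨h.1, h.2.1⟩
  conj := by
    intro P s hP hs
    refine ⟨mor_conj hP hs, hP, fun x hx => S.mul_mem (S.mul_mem hs (hP hx)) (S.inv_mem hs), _,
      mor_conj (sup_le hP hQS) hs, fun _ _ => rfl, ?_⟩
    obtain ⟨α, hα, hαx⟩ := exists_mem_autInducedBy (P := Q) hs (hSN hs)
    exact ⟨α, hK hα, fun x hx => (hαx x hx).symm⟩
  comp := by
    rintro P R f g - ⟨h1, h2, k, hk, hkf, hkK⟩ - ⟨-, h2', l, hl, hlg, hlK⟩ hfR
    have hm : ∀ x ∈ P ⊔ Q, k x ∈ R ⊔ Q := fun x hx => hk.mem_of_sup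
      (fun a ha => Subgroup.mem_sup_left ((hkf a ha).symm ▸ hfR a ha))
      (fun a ha => Subgroup.mem_sup_right (hkK.mem ha)) hx
    refine ⟨h1, fun x hx => h2' _ (hfR x hx), l ∘ k, hk.comp hl hm, fun x hx => ?_, hkK.comp hlK⟩
    show l (k x) = g (f x)
    rw [hkf x hx, hlg _ (hfR x hx)]
  inv := by
    rintro P R f g hf ⟨h1, h2, k, hk, hkf, hkK⟩ hg hgf
    obtain ⟨I, hI⟩ := hk.exists_iso
    obtain ⟨k', hk', hk'k, -⟩ := hI.symm
    have hle : R ⊔ Q ≤ I := sup_le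
      (fun y hy => by
        obtain ⟨x, hx, rfl⟩ := hf.exists_eq hy
        rw [← hkf x hx]
        exact hI.mem (le_sup_left (b := Q) hx))
      fun y hy => by
        obtain ⟨x, hx, rfl⟩ := hkK.surj hy
        exact hI.mem (le_sup_right (a := P) hx)
    refine ⟨hf.right_le, fun y hy => h1 (hg.mem hy), k', hk'.1.mono hle, fun y hy => ?_,
      hkK.inv fun x hx => hk'k x (le_sup_right (a := P) hx)⟩
    obtain ⟨x, hx, rfl⟩ := hf.exists_eq hy
    rw [hgf x hx, ← hkf x hx]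
    exact hk'k x (le_sup_left (b := Q) hx)

/-- The system of maps acting on `Q` as elements of `S`. -/
def actSys (F : FusionSystem S) (hQS : Q ≤ S) (hSN : S ≤ Subgroup.normalizer (Q : Set Ω)) :
    FusionSystem S :=
  subSys (subRel_kRel (F := F) (K := autInducedBy S Q) hQS hSN le_rfl)

variable {hQS : Q ≤ S} {hSN : S ≤ Subgroup.normalizer (Q : Set Ω)}

theorem mor_actSys {P : Subgroup Ω} {f : Ω → Ω} :
    Mor (actSys F hQS hSN) P f ↔ Mor F P f ∧ KRel F (autInducedBy S Q) P f :=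
  mor_subSys _

theorem actSys_le : (actSys F hQS hSN).IsSubsystemOf F := fun _ _ hφ => hφ.1

theorem actSys_isNormal : (actSys F hQS hSN).IsNormal Q := by
  refine isNormal_iff.2 ⟨hQS, fun P f hf => ?_⟩
  obtain ⟨-, hP, himg, g, hg, hgf, hgK⟩ := mor_actSys.1 hf
  refine ⟨g, mor_actSys.2 ⟨hg, sup_le hP hQS, fun x hx => hg.mem_S hx, g,
    hg.mono (sup_le le_rfl le_sup_right), fun _ _ => rfl, hgK⟩, hgf, fun y => ⟨hgK.surj, ?_⟩⟩
  rintro ⟨x, hx, rfl⟩
  exact hgK.mem hx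

variable [Fact p.Prime] [Finite S] (hS : IsPGroup p S) (hF : F.IsSaturated p)
include hS hF

theorem actSys_saturated (hQn : F.IsNormal Q) : (actSys F hQS hSN).IsSaturated p := by
  have hsc := stronglyClosed_of_isNormal hQn
  haveI : Finite (normalizerIn S Q) := finite_of_le inf_le_left
  have hQfn : F.IsFullyNormalized Q := ⟨hQS, fun R _ =>
    Nat.card_le_card_of_injective _ (Subgroup.inclusion_injective
      (le_inf inf_le_left (inf_le_left.trans hSN) :
        normalizerIn S R ≤ normalizerIn S Q))⟩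
  refine kSys_saturated hS hF (K := autInducedBy S Q)
    ⟨hQS, fun s => ⟨fun hs => ⟨hs, hSN hs, ?_⟩, fun h => h.1⟩, fun P f => mor_actSys⟩ ?_
  · obtain ⟨α, hα, hαx⟩ := exists_mem_autInducedBy (P := Q) hs (hSN hs)
    exact ⟨α, hα, fun x hx => (hαx x hx).symm⟩
  · intro Q' g hg
    have hgI := StronglyClosed.iso_self hsc hg.1 le_rfl
    obtain rfl : Q = Q' := hgI.eq_image hg
    obtain ⟨g', hg', hgg', -⟩ := hgI.symm
    obtain ⟨h, hh, hhf⟩ := (isReceptive_iff.1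
      (receptive_of_fullyNormalized hS hF hQfn)).2 Q g' hg'
    refine ⟨_, h, hg'.1.le_nPhi, hh, ⟨1, Subgroup.one_mem _, fun x hx => ?_⟩, fun s hs hsK => ?_⟩
    · show h (g x) = _
      rw [hhf _ (hgI.mem hx), hgg' x hx, apl_one hx]
    · obtain ⟨κ, hκ, hκx⟩ := hsK
      obtain ⟨e, he, -, hex⟩ := mem_autInducedBy_iff.1 hκ
      refine ⟨hs, hSN hs, e, he, fun y hy => ?_⟩
      obtain ⟨x, hx, rfl⟩ := hgI.exists_eq hy
      rw [hκx x hx, hgg' _ (apl_mem κ hx), hgg' x hx, hex x hx]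

/-- The splitting: every map is composed from a map of `N_F(Q C_S(Q))` and one acting on `Q` as
an element of `S`. -/
theorem split_maps (hQn : F.IsNormal Q) {M : Subgroup Ω → (Ω → Ω) → Prop} (hM : SubRel F S M)
    (hR : ∀ X f, Mor F X f → NRel F (Q ⊔ centralizerIn S Q) X f → M X f)
    (hD : ∀ X f, Mor (actSys F hQS hSN) X f → M X f) :
    ∀ P f, Mor F P f → M P f := by
  intro P f hf
  have hsc := stronglyClosed_of_isNormal hQn
  haveI : Finite (normalizerIn S Q) := finite_of_le inf_le_left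
  have hQfn : F.IsFullyNormalized Q := ⟨hQS, fun R _ =>
    Nat.card_le_card_of_injective _ (Subgroup.inclusion_injective
      (le_inf inf_le_left (inf_le_left.trans hSN) :
        normalizerIn S R ≤ normalizerIn S Q))⟩
  obtain ⟨k, hk, hkf, hkQ⟩ := (isNormal_iff.1 hQn).2 P f hf
  have hkI : Iso F Q Q k := ⟨hk.mono le_sup_right, hkQ⟩
  obtain ⟨ψ, hψ, hψk⟩ := (isReceptive_iff.1
    (receptive_of_fullyNormalized hS hF hQfn)).2 Q k hkI
  set R := Q ⊔ centralizerIn S Q with hRdef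
  have hRle : R ≤ nPhi S Q k := sup_le hkI.1.le_nPhi centralizerIn_le_nPhi
  have hPle : P ⊔ Q ≤ nPhi S Q k := fun x hx => ⟨hk.le hx, hSN (hk.le hx), k x, hk.mem_S hx,
    fun y hy => hk.map_conj hx (Subgroup.mem_sup_right hy)⟩
  have hψQ : Iso F Q Q ψ := ⟨hψ.mono hkI.1.le_nPhi, (hkI.congr hψk).2⟩
  have hψC : ∀ c ∈ centralizerIn S Q, ψ c ∈ centralizerIn S Q := fun c hc =>
    hψ.mem_centralizerIn hkI.1.le_nPhi hψQ (centralizerIn_le_nPhi hc) hc.2
  have hψCs : ∀ c ∈ centralizerIn S Q, ∃ c' ∈ centralizerIn S Q, ψ c' = c := fun c hc =>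
    (hψ.mono (centralizerIn_le_nPhi (P := Q) (f := k))).surj_of_card inf_le_left hψC le_rfl hc
  have hsrc : P ⊔ Q ⊔ R ≤ nPhi S Q k := sup_le hPle hRle
  have hψm : Mor F (P ⊔ Q ⊔ R) ψ := hψ.mono hsrc
  obtain ⟨I, hI⟩ := hψm.exists_iso
  obtain ⟨ψ', hψ', hψ'ψ, hψψ'⟩ := hI.symm
  -- the image of `P` lies in the image of `ψ`
  have himg : ∀ x ∈ P ⊔ Q, k x ∈ I := by
    intro x hx
    have hc : (ψ x)⁻¹ * k x ∈ centralizerIn S Q := by
      refine ⟨S.mul_mem (S.inv_mem (hψ.mem_S (hPle hx))) (hk.mem_S hx),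
        Subgroup.mem_centralizer_iff.2 fun y hy => ?_⟩
      obtain ⟨z, hz, rfl⟩ := hkI.exists_eq hy
      have hxz : x * z * x⁻¹ ∈ Q := (Subgroup.mem_normalizer_iff.1 (hSN (hk.le hx)) z).1 hz
      have h1 := hψ.map_conj (hPle hx) (hkI.1.le_nPhi hz)
      rw [hψk _ hxz, hψk z hz, hk.map_conj hx (Subgroup.mem_sup_right hz)] at h1
      calc k z * ((ψ x)⁻¹ * k x) = (ψ x)⁻¹ * (ψ x * k z * (ψ x)⁻¹) * k x := by group
        _ = (ψ x)⁻¹ * (k x * k z * (k x)⁻¹) * k x := by rw [h1]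
        _ = (ψ x)⁻¹ * k x * k z := by group
    obtain ⟨c', hc', hcc⟩ := hψCs _ hc
    have hxmem : x ∈ P ⊔ Q ⊔ R := Subgroup.mem_sup_left hx
    have hcmem : c' ∈ P ⊔ Q ⊔ R :=
      Subgroup.mem_sup_right (Subgroup.mem_sup_right hc')
    have h2 := hI.mem (Subgroup.mul_mem _ hxmem hcmem)
    rwa [hψm.map_mul hxmem hcmem, hcc, mul_inv_cancel_left] at h2
  have hδ : Mor F (P ⊔ Q) (ψ' ∘ k) := hk.comp hψ'.1 himg
  have hδM : M P (ψ' ∘ k) := by
    refine hD P _ (mor_actSys.2 ⟨hδ.mono le_sup_left, le_sup_left.trans hk.le,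
      fun x hx => hδ.mem_S (Subgroup.mem_sup_left hx), _, hδ, fun _ _ => rfl,
      1, Subgroup.one_mem _, fun y hy => ?_⟩)
    show ψ' (k y) = _
    rw [apl_one hy, ← hψk y hy, hψ'ψ y (Subgroup.mem_sup_left (Subgroup.mem_sup_right hy))]
  have hψM : M (P ⊔ Q ⊔ R) ψ := by
    refine hR _ _ hψm ⟨?_, ?_, ψ, hψm.mono (sup_le le_rfl le_sup_right), fun _ _ => rfl,
      fun y => ?_⟩
    · intro x hx
      exact ⟨hψm.le hx, normalizes hSN (hψm.le hx)⟩
    · intro x hx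
      exact ⟨hψm.mem_S hx, normalizes hSN (hψm.mem_S hx)⟩
    · have hψR : ∀ x ∈ R, ψ x ∈ R := fun x hx => (hψ.mono hRle).mem_of_sup
        (fun a ha => Subgroup.mem_sup_left (hψQ.mem ha))
        (fun a ha => Subgroup.mem_sup_right (hψC a ha)) hx
      exact ⟨fun hy => (hψ.mono hRle).surj_of_card (sup_le hQS inf_le_left) hψR le_rfl hy,
        fun ⟨x, hx, hxy⟩ => hxy ▸ hψR x hx⟩
  have hmem : ∀ x ∈ P, (ψ' ∘ k) x ∈ P ⊔ Q ⊔ R := fun x hx =>
    hψ'.mem (himg x (Subgroup.mem_sup_left hx))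
  refine hM.congr (hM.comp (hδ.mono le_sup_left) hδM hψm hψM hmem) fun x hx => ?_
  show f x = ψ (ψ' (k x))
  rw [hψψ' _ (himg x (Subgroup.mem_sup_left hx)), hkf x hx]
where
  normalizes (hSN : S ≤ Subgroup.normalizer (Q : Set Ω)) {x : Ω} (hx : x ∈ S) :
      x ∈ Subgroup.normalizer ((Q ⊔ centralizerIn S Q : Subgroup Ω) : Set Ω) :=
    mem_normalizer_sup (hSN hx) (Subgroup.mem_normalizer_iff.2 fun y => by
      have key : ∀ s ∈ S, ∀ y ∈ centralizerIn S Q, s * y * s⁻¹ ∈ centralizerIn S Q := by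
        rintro s hs y ⟨hyS, hyc⟩
        refine ⟨S.mul_mem (S.mul_mem hs hyS) (S.inv_mem hs),
          Subgroup.mem_centralizer_iff.2 fun z hz => ?_⟩
        have hz' : s⁻¹ * z * s ∈ Q := by
          have h := (Subgroup.mem_normalizer_iff.1 (hSN (S.inv_mem hs)) z).1 hz
          simpa using h
        have h1 := Subgroup.mem_centralizer_iff.1 hyc _ hz'
        calc z * (s * y * s⁻¹) = s * (s⁻¹ * z * s * y) * s⁻¹ := by group
          _ = s * (y * (s⁻¹ * z * s)) * s⁻¹ := by rw [h1]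
          _ = s * y * s⁻¹ * z := by group
      refine ⟨key x hx y, fun h => ?_⟩
      have h2 := key x⁻¹ (S.inv_mem hx) _ h
      simpa [mul_assoc] using h2)

omit [Fact p.Prime] [Finite S] hS hF in
/-- When every map acts on `Q` as an element of `S`, subgroups normalized by `S` inside `Q` are
strongly closed. -/
theorem stronglyClosed_of_act (hact : ∀ P f, Mor F P f → KRel F (autInducedBy S Q) P f)
    {V : Subgroup Ω} (hVQ : V ≤ Q) (hQS : Q ≤ S) (hV : S ≤ Subgroup.normalizer (V : Set Ω)) :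
    F.StronglyClosed V := by
  refine stronglyClosed_iff.2 ⟨hVQ.trans hQS, fun R f hR hf x hx => ?_⟩
  obtain ⟨-, -, g, -, hgf, κ, hκ, hκx⟩ := hact R f hf
  obtain ⟨s, hs, -, hsx⟩ := mem_autInducedBy_iff.1 hκ
  rw [← hgf x hx, hκx x (hVQ (hR hx)), hsx x (hVQ (hR hx))]
  exact (Subgroup.mem_normalizer_iff.1 (hV hs) x).1 (hR hx)

/-- When every map acts on `Q` as an element of `S`, the automorphisms of a subgroup above `Q`
inducing the identity modulo `Q` form a `p`-group. -/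
theorem isPGroup_ker_of_act {Ω' : Type*} [Group Ω'] {S' : Subgroup Ω'} {E : FusionSystem S'}
    {θ : S →* Ω'} (hE : F.IsFactorSystem Q θ E)
    (hact : ∀ P f, Mor F P f → KRel F (autInducedBy S Q) P f) {P : Subgroup Ω} (hPS : P ≤ S)
    (hQP : Q ≤ P) (π : F.autGroup P →* E.autGroup (imageAlong θ P))
    (hπ : ∀ (α : F.autGroup P) (x : Ω), x ∈ P →
      apl (π α : MulAut (imageAlong θ P)) (thFn θ x) = thFn θ (apl (α : MulAut P) x)) :
    IsPGroup p π.ker := by
  have hker := hE.2.1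
  have hQS : Q ≤ S := hE.1
  haveI := finite_of_le hPS
  haveI : Finite (MulAut P) := Finite.of_injective _ MulEquiv.toEquiv_injective
  refine isPGroup_of_no_coprime fun δ hδ hδp => ?_
  have hmodQ : ∀ x ∈ P, x⁻¹ * apl (δ : MulAut P) x ∈ Q := fun x hx => by
    have h1 := hπ δ x hx
    rw [show π δ = 1 from hδ] at h1
    rw [Subgroup.coe_one, apl_one ((mem_imageAlong hPS).2 ⟨x, hx, rfl⟩)] at h1
    exact (thFn_eq_iff hker (hPS hx) (hPS (apl_mem _ hx))).1 h1
  obtain ⟨-, -, g, -, hgf, κ, hκ, hκx⟩ := hact P _ (iso_apl hPS δ.2).1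
  have hδQ : ∀ x ∈ Q, apl (δ : MulAut P) x = apl κ x := fun x hx => by
    rw [← hgf x (hQP hx), hκx x hx]
  have hpow : ∀ k : ℕ, ∀ x ∈ Q, apl ((δ : MulAut P) ^ k) x = apl (κ ^ k) x := by
    intro k
    induction k with
    | zero => intro x hx; rw [pow_zero, pow_zero, apl_one (hQP hx), apl_one hx]
    | succ k ih =>
      intro x hx
      rw [pow_succ', pow_succ', apl_mul _ _ (hQP hx), apl_mul _ _ hx, ih x hx,
        hδQ _ (apl_mem _ hx)]
  have hm : (δ : MulAut P) ^ orderOf δ = 1 := by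
    rw [← Subgroup.orderOf_coe]; exact pow_orderOf_eq_one _
  have hκ1 : κ = 1 := by
    obtain ⟨e, he⟩ := isPGroup_autInducedBy (P := Q) hS ⟨κ, hκ⟩
    have he' : κ ^ p ^ e = 1 := congrArg Subtype.val he
    have hκm : κ ^ orderOf δ = 1 := apl_ext fun x hx => by
      rw [← hpow _ x hx, hm, apl_one (hQP hx), apl_one hx]
    have h1 := (pow_gcd_eq_one (a := κ) (m := orderOf δ) (n := p ^ e)).2 ⟨hκm, he'⟩
    rwa [Nat.Coprime.gcd_eq_one (Nat.Coprime.pow_right _
      (((Fact.out : p.Prime).coprime_iff_not_dvd.2 hδp).symm)), pow_one] at h1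
  refine Subtype.ext (apl_ext fun x hx => ?_)
  have hfix : ∀ y ∈ Q, apl (δ : MulAut P) y = y := fun y hy => by
    rw [hδQ y hy, hκ1, apl_one hy]
  have hmor := (iso_apl hPS δ.2).1
  have hiter : ∀ k : ℕ,
      apl ((δ : MulAut P) ^ k) x = x * (x⁻¹ * apl (δ : MulAut P) x) ^ k := by
    intro k
    induction k with
    | zero => rw [pow_zero, pow_zero, mul_one, apl_one hx]
    | succ k ih =>
      have hq := Q.pow_mem (hmodQ x hx) k
      rw [pow_succ', apl_mul _ _ hx, ih, hmor.map_mul hx (hQP hq), hfix _ hq, pow_succ',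
        ← mul_assoc, ← mul_assoc, mul_inv_cancel, one_mul]
  have hq1 : (x⁻¹ * apl (δ : MulAut P) x) ^ orderOf δ = 1 := by
    have h1 := hiter (orderOf δ)
    rw [hm, apl_one hx] at h1
    exact mul_eq_left.1 h1.symm
  obtain ⟨e, he⟩ := (hS.to_le hQS) ⟨_, hmodQ x hx⟩
  have he' : (x⁻¹ * apl (δ : MulAut P) x) ^ p ^ e = 1 := congrArg Subtype.val he
  have h1 := (pow_gcd_eq_one (a := x⁻¹ * apl (δ : MulAut P) x)
    (m := orderOf δ) (n := p ^ e)).2 ⟨hq1, he'⟩
  rw [Nat.Coprime.gcd_eq_one (Nat.Coprime.pow_right _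
    (((Fact.out : p.Prime).coprime_iff_not_dvd.2 hδp).symm)), pow_one, inv_mul_eq_one] at h1
  rw [Subgroup.coe_one, apl_one hx]
  exact h1.symm

/-- When every map acts on `Q` as an element of `S`, preimages of normal subgroups of the factor
system are normal. -/
theorem isNormal_preimage_of_act {Ω' : Type*} [Group Ω'] {S' : Subgroup Ω'} {E : FusionSystem S'}
    {θ : S →* Ω'} (hQn : F.IsNormal Q) (hE : F.IsFactorSystem Q θ E)
    (hact : ∀ P f, Mor F P f → KRel F (autInducedBy S Q) P f) {V' : Subgroup Ω'}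
    (hV' : E.IsNormal V') : F.IsNormal (preimageAlong θ V') := by
  have hsc := stronglyClosed_of_isNormal hQn
  have hker := hE.2.1
  have hQS := hQn.1
  have hQV : Q ≤ preimageAlong θ V' := le_preimageAlong hker hQS V'
  have hV'r : V' ≤ θ.range := hE.2.2.1.symm ▸ hV'.1
  have hVS : preimageAlong θ V' ≤ S := pre_le
  have hclosed : F.StronglyClosed (preimageAlong θ V') := by
    refine stronglyClosed_iff.2 ⟨hVS, fun X f hX hf x hx => mem_pre.2 ⟨hf.mem_S hx, ?_⟩⟩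
    obtain ⟨k, hk, hkf, -⟩ := (isNormal_iff.1 hQn).2 X f hf
    obtain ⟨I, hI⟩ := hk.exists_iso
    obtain ⟨k', hk', hk'k⟩ := exists_iso_image hE hsc hI le_sup_right
    rw [← hkf x hx, ← hk'k x (Subgroup.mem_sup_left hx)]
    refine (stronglyClosed_iff.1 (stronglyClosed_of_isNormal hV')).2 _ _ ?_ hk'.1 _
      ((mem_imageAlong hk.le).2 ⟨x, Subgroup.mem_sup_left hx, rfl⟩)
    intro z hz
    obtain ⟨y, hy, rfl⟩ := (mem_imageAlong hk.le).1 hz
    exact (mem_pre.1 (sup_le hX hQV hy)).2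
  refine (isNormal_iff_stronglyClosed_le hS hF).2 ⟨hclosed, fun P hc hr => ?_⟩
  have hPS := hc.1
  have hQP : Q ≤ P := le_of_normal_centric_radical hS hQn hc hr
  haveI := finite_of_le hPS
  haveI : Finite (MulAut P) := Finite.of_injective _ MulEquiv.toEquiv_injective
  obtain ⟨π, hπ⟩ :=
    exists_autMap_of_morphism (isSurjectiveMorphism_of_factor hS hF hsc hE).1 hPS
  have hkerp : IsPGroup p π.ker := isPGroup_ker_of_act hS hF hE hact hPS hQP π hπ
  set Γ := ((autInducedBy V' (imageAlong θ P)).subgroupOf (E.autGroup (imageAlong θ P))).comap π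
  have hΓp : IsPGroup p Γ := by
    refine IsPGroup.comap_of_ker_isPGroup ?_ π hkerp
    haveI : Finite θ.range := Finite.of_surjective _ θ.rangeRestrict_surjective
    have hθp : IsPGroup p θ.range := hS.of_surjective _ θ.rangeRestrict_surjective
    exact (isPGroup_autInducedBy (hθp.to_le hV'r)).comap_subtype
  have hP'S : imageAlong θ P ≤ S' := hE.2.2.1 ▸ imageAlong_le_range θ P
  have hΓn : ∀ α : F.autGroup P, ∀ γ ∈ Γ, α * γ * α⁻¹ ∈ Γ := by
    intro α γ hγ
    obtain ⟨a, ha, han, hax⟩ := mem_autInducedBy_iff.1 (Subgroup.mem_subgroupOf.1 hγ)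
    have hai := iso_apl hP'S (π α).2
    obtain ⟨l, hl, hlf, hlV⟩ := (isNormal_iff.1 hV').2 _ _ hai.1
    have hla : l a ∈ V' := (hlV _).2 ⟨a, ha, rfl⟩
    have hlP : Iso E (imageAlong θ P) (imageAlong θ P) l :=
      ⟨hl.mono le_sup_left, (hai.congr hlf).2⟩
    have hlan : l a ∈ Subgroup.normalizer (imageAlong θ P : Set Ω') :=
      (hl.mem_normalizerIn le_sup_left hlP (Subgroup.mem_sup_right ha) han).2
    refine Subgroup.mem_subgroupOf.2 (mem_autInducedBy_iff.2 ⟨l a, hla, hlan, fun z hz => ?_⟩)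
    have hz' := apl_mem ((π α)⁻¹ : E.autGroup (imageAlong θ P)).1 hz
    rw [map_mul, map_mul, map_inv, Subgroup.coe_mul, Subgroup.coe_mul, apl_mul _ _ hz,
      apl_mul _ _ hz', hax _ hz', ← hlf _ ((Subgroup.mem_normalizer_iff.1 han _).1 hz'),
      hl.map_conj (Subgroup.mem_sup_right ha) (Subgroup.mem_sup_left hz'), hlf _ hz',
      Subgroup.coe_inv, apl_apl_inv _ hz]
  by_contra hle
  have hlt : P < P ⊔ preimageAlong θ V' :=
    lt_of_le_of_ne le_sup_left fun e => hle (e ▸ le_sup_right)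
  refine (lt_inf_normalizer hS (sup_le hPS hVS) hlt).not_ge fun x hx => ?_
  obtain ⟨hxPV, hxn⟩ := hx
  have hxmul : x ∈ (↑(P ⊔ preimageAlong θ V') : Set Ω) := hxPV
  rw [Subgroup.coe_mul_of_left_le_normalizer_right P _
    (fun c hc' => StronglyClosed.le_normalizer hclosed (hPS hc'))] at hxmul
  obtain ⟨c, hc', a, ha, rfl⟩ := hxmul
  refine P.mul_mem hc' ?_
  have han : a ∈ Subgroup.normalizer (P : Set Ω) := by
    have h2 := Subgroup.mul_mem _ (Subgroup.inv_mem _ (Subgroup.le_normalizer hc')) hxn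
    rwa [inv_mul_cancel_left] at h2
  refine mem_of_normal_pGroup hc hr (hVS ha) han (Γ := Γ.map (F.autGroup P).subtype)
    (Subgroup.map_subtype_le _) (hΓp.map _) ?_ ?_
  · rintro α hα _ ⟨γ, hγ, rfl⟩
    exact ⟨_, hΓn ⟨α, hα⟩ γ hγ, rfl⟩
  · intro γ hγ hγx
    refine ⟨⟨γ, hγ⟩, Subgroup.mem_subgroupOf.2 (mem_autInducedBy_iff.2
      ⟨thFn θ a, (mem_pre.1 ha).2, ?_, fun z hz => ?_⟩), rfl⟩
    · haveI : Finite θ.range := Finite.of_surjective _ θ.rangeRestrict_surjective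
      haveI : Finite (imageAlong θ P) := finite_of_le (imageAlong_le_range θ P)
      refine mem_normalizer_of_maps fun z hz => ?_
      obtain ⟨y, hy, rfl⟩ := (mem_imageAlong hPS).1 hz
      exact (mem_imageAlong hPS).2 ⟨_, (Subgroup.mem_normalizer_iff.1 han y).1 hy,
        thFn_conj (hVS ha) (hPS hy)⟩
    · obtain ⟨y, hy, rfl⟩ := (mem_imageAlong hPS).1 hz
      rw [hπ ⟨γ, hγ⟩ y hy, hγx y hy, thFn_conj (hVS ha) (hPS hy)]

end Cfsg.Agent.FusSys
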