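import Cfsg.Agent.FusSys.Reduce
import Cfsg.Agent.FusSys.Split
import Cfsg.Agent.FusSys.Model
import Cfsg.Agent.FusSys.Realized
import Cfsg.Agent.FusSys.FreeBase
import Cfsg.Agent.FusSys.FactorFree

/-!
A functor whose values are normal in the constrained groups of a section-closed class controls
the saturated systems with local models in that class.
-/

set_option autoImplicit false

namespace Cfsg.Agent.FusSys

open Cfsg Cfsg.FusionSystem

universe u

variable {Ω : Type u} [Group Ω] {S : Subgroup Ω} {F : FusionSystem S} {p : ℕ} {Q : Subgroup Ω}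

/-- The graphs of the maps of a system. -/
def morSet (F : FusionSystem S) : Set (Set (Ω × Ω)) :=
  {s | ∃ P f, Mor F P f ∧ s = (fun x => (x, f x)) '' (P : Set Ω)}

theorem morSet_finite [Finite S] (F : FusionSystem S) : (morSet F).Finite := by
  have hS : (S : Set Ω).Finite := Set.toFinite _
  refine ((hS.prod hS).finite_subsets).subset ?_
  rintro _ ⟨P, f, hf, rfl⟩ ⟨x, y⟩ ⟨z, hz, hzxy⟩
  rw [← hzxy]
  exact ⟨hf.le hz, hf.mem_S hz⟩

/-- A subsystem missing a map has fewer maps. -/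
theorem morSet_lt [Finite S] {T : Subgroup Ω} {D : FusionSystem T} (hD : D.IsSubsystemOf F)
    {P : Subgroup Ω} {f : Ω → Ω} (hf : Mor F P f) (hn : ¬ Mor D P f) :
    (morSet D).ncard < (morSet F).ncard := by
  refine Set.ncard_lt_ncard (Set.ssubset_iff_of_subset ?_ |>.2 ⟨_, ⟨P, f, hf, rfl⟩, ?_⟩)
    (morSet_finite F)
  · rintro _ ⟨X, g, hg, rfl⟩
    exact ⟨X, g, isSubsystemOf_iff_mor.1 hD X g hg, rfl⟩
  · rintro ⟨X, g, hg, he⟩
    have hXP : X = P := by
      ext x
      constructor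
      · intro hx
        obtain ⟨z, hz, hze⟩ := (Set.ext_iff.1 he (x, g x)).2 ⟨x, hx, rfl⟩
        obtain rfl : z = x := congrArg Prod.fst hze
        exact hz
      · intro hx
        obtain ⟨z, hz, hze⟩ := (Set.ext_iff.1 he (x, f x)).1 ⟨x, hx, rfl⟩
        obtain rfl : z = x := congrArg Prod.fst hze
        exact hz
    subst hXP
    refine hn (hg.congr fun x hx => ?_)
    obtain ⟨z, hz, hze⟩ := (Set.ext_iff.1 he (x, f x)).1 ⟨x, hx, rfl⟩
    obtain rfl : z = x := congrArg Prod.fst hze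
    exact (congrArg Prod.snd hze).symm

/-- A system is smaller when it is over a smaller group, or over an equally large group with fewer
maps. -/
def Smaller {Ω' : Type u} [Group Ω'] {S' : Subgroup Ω'} (F' : FusionSystem S')
    (F : FusionSystem S) : Prop :=
  Nat.card S' < Nat.card S ∨
    Nat.card S' = Nat.card S ∧ (morSet F').ncard < (morSet F).ncard

/-- Induction on the size of a system. -/
theorem smaller_induction
    {Φ : ∀ {Ω : Type u} [Group Ω] {S : Subgroup Ω}, FusionSystem S → Prop}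
    (h : ∀ {Ω : Type u} [Group Ω] {S : Subgroup Ω} (F : FusionSystem S),
      (∀ {Ω' : Type u} [Group Ω'] {S' : Subgroup Ω'} (F' : FusionSystem S'), Smaller F' F → Φ F') →
      Φ F)
    {Ω : Type u} [Group Ω] {S : Subgroup Ω} (F : FusionSystem S) : Φ F := by
  suffices main : ∀ (n m : ℕ) {Ω : Type u} [Group Ω] {S : Subgroup Ω} (F : FusionSystem S),
      Nat.card S = n → (morSet F).ncard = m → Φ F from main _ _ F rfl rfl
  intro n
  induction n using Nat.strong_induction_on with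
  | _ n ihn =>
    intro m
    induction m using Nat.strong_induction_on with
    | _ m ihm =>
      intro Ω _ S F hn hm
      refine h F fun {Ω'} _ {S'} F' hlt => ?_
      rcases hlt with hlt | ⟨heq, hlt⟩
      · exact ihn _ (hn ▸ hlt) _ F' rfl rfl
      · exact ihm _ (hm ▸ hlt) F' (heq.trans hn) rfl

section Saturated

variable [Finite S]

/-- The normalizer system of a subgroup that is not normal is smaller. -/
theorem smaller_normalizer (hQS : Q ≤ S) (hQ : ¬ F.IsNormal Q)
    {N : FusionSystem (normalizerIn S Q)} (hN : F.IsNormalizerSystem Q N) : Smaller N F := by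
  have hsub : N.IsSubsystemOf F := fun P φ hφ => by
    rw [hN P] at hφ
    exact hφ.1
  by_cases hT : normalizerIn S Q = S
  · refine Or.inr ⟨by rw [hT], ?_⟩
    by_contra hle
    refine hQ (isNormal_iff.2 ⟨hQS, fun P f hf => ?_⟩)
    by_contra hno
    refine hle (morSet_lt hsub hf fun hNf => hno ?_)
    obtain ⟨-, -, -, g, hg, hgf, hgQ⟩ := (mor_normalizerSystem hN).1 hNf
    exact ⟨g, hg, hgf, hgQ⟩
  · exact Or.inl (card_lt_of_lt' le_rfl (lt_of_le_of_ne inf_le_left hT))

theorem smaller_subsystem {D : FusionSystem S} (hD : D.IsSubsystemOf F) {P : Subgroup Ω}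
    {f : Ω → Ω} (hf : Mor F P f) (hn : ¬ Mor D P f) : Smaller D F :=
  Or.inr ⟨rfl, morSet_lt hD hf hn⟩

theorem normalizerIn_eq_of_le (h : S ≤ Subgroup.normalizer (Q : Set Ω)) :
    normalizerIn S Q = S :=
  le_antisymm inf_le_left (le_inf le_rfl h)

theorem isNormal_iff_nRel (h : S ≤ Subgroup.normalizer (Q : Set Ω)) (hQS : Q ≤ S) :
    F.IsNormal Q ↔ ∀ P f, Mor F P f → NRel F Q P f := by
  rw [isNormal_iff]
  refine ⟨fun hn P f hf => ⟨fun x hx => ⟨hf.le hx, h (hf.le hx)⟩,
    fun x hx => ⟨hf.mem_S hx, h (hf.mem_S hx)⟩, hn.2 P f hf⟩,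
    fun hn => ⟨hQS, fun P f hf => (hn P f hf).2.2⟩⟩

set_option maxHeartbeats 1600000 in
/-- Centric subgroups of the system of maps acting on `Q` as elements of `S` that contain `Q` are
centric. -/
theorem centric_of_actSys [Fact p.Prime] (hS : IsPGroup p S) (hF : F.IsSaturated p) {hQS : Q ≤ S}
    {hSN : S ≤ Subgroup.normalizer (Q : Set Ω)} (hQn : F.IsNormal Q) {P : Subgroup Ω}
    (hPc : (actSys F hQS hSN).IsCentric P) (hQP : Q ≤ P) : F.IsCentric P := by
  have hPS : P ≤ S := hPc.1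
  obtain ⟨P', g, hn', hg, hgi, -⟩ := exists_fullyNormalized_mor hS hF hPS
  refine centric_of_isConj (centric_of_fullyCentralized
    (fullyCentralized_of_fullyNormalized hS hF hn') fun z hz => ?_) (isConj_symm hgi.isConj)
  have hsc := stronglyClosed_of_isNormal hQn
  haveI : Finite (normalizerIn S Q) := finite_of_le inf_le_left
  have hQfn : F.IsFullyNormalized Q := ⟨hQS, fun R _ =>
    Nat.card_le_card_of_injective _ (Subgroup.inclusion_injective
      (le_inf inf_le_left (inf_le_left.trans hSN) :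
        normalizerIn S R ≤ normalizerIn S Q))⟩
  have hgQ : Iso F Q Q g := StronglyClosed.iso_self hsc (hgi.1.mono hQP) le_rfl
  obtain ⟨ψ, hψ, hψg⟩ := (isReceptive_iff.1
    (receptive_of_fullyNormalized hS hF hQfn)).2 Q g hgQ
  have hψQ : Iso F Q Q ψ := ⟨hψ.mono hgQ.1.le_nPhi, (hgQ.congr hψg).2⟩
  have hψC : ∀ c ∈ centralizerIn S Q, ψ c ∈ centralizerIn S Q := fun c hc =>
    hψ.mem_centralizerIn hgQ.1.le_nPhi hψQ (centralizerIn_le_nPhi hc) hc.2
  have hψCs : ∀ c ∈ centralizerIn S Q, ∃ c' ∈ centralizerIn S Q, ψ c' = c := fun c hc =>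
    (hψ.mono (centralizerIn_le_nPhi (P := Q) (f := g))).surj_of_card inf_le_left hψC le_rfl hc
  have hPle : P ≤ nPhi S Q g := fun x hx => ⟨hPS hx, hSN (hPS hx), g x, hgi.1.mem_S hx,
    fun y hy => hgi.1.map_conj hx (hQP hy)⟩
  have hsrc : P ⊔ centralizerIn S Q ≤ nPhi S Q g := sup_le hPle centralizerIn_le_nPhi
  have hψm : Mor F (P ⊔ centralizerIn S Q) ψ := hψ.mono hsrc
  obtain ⟨I, hI⟩ := hψm.exists_iso
  obtain ⟨ψ', hψ', hψ'ψ, hψψ'⟩ := hI.symm
  have himg : ∀ x ∈ P, g x ∈ I := by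
    intro x hx
    have hc : (ψ x)⁻¹ * g x ∈ centralizerIn S Q := by
      refine ⟨S.mul_mem (S.inv_mem (hψ.mem_S (hPle hx))) (hgi.1.mem_S hx),
        Subgroup.mem_centralizer_iff.2 fun y hy => ?_⟩
      obtain ⟨w, hw, rfl⟩ := hgQ.exists_eq hy
      have hxw : x * w * x⁻¹ ∈ Q := (Subgroup.mem_normalizer_iff.1 (hSN (hPS hx)) w).1 hw
      have h1 := hψ.map_conj (hPle hx) (hgQ.1.le_nPhi hw)
      rw [hψg _ hxw, hψg w hw, hgi.1.map_conj hx (hQP hw)] at h1
      calc g w * ((ψ x)⁻¹ * g x) = (ψ x)⁻¹ * (ψ x * g w * (ψ x)⁻¹) * g x := by group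
        _ = (ψ x)⁻¹ * (g x * g w * (g x)⁻¹) * g x := by rw [h1]
        _ = (ψ x)⁻¹ * g x * g w := by group
    obtain ⟨c', hc', hcc⟩ := hψCs _ hc
    have hxm : x ∈ P ⊔ centralizerIn S Q := Subgroup.mem_sup_left hx
    have hcm : c' ∈ P ⊔ centralizerIn S Q := Subgroup.mem_sup_right hc'
    have h2 := hI.mem (Subgroup.mul_mem _ hxm hcm)
    rwa [hψm.map_mul hxm hcm, hcc, mul_inv_cancel_left] at h2
  have hδ : Mor F P (ψ' ∘ g) := hgi.1.comp hψ'.1 himg
  have hδD : Mor (actSys F hQS hSN) P (ψ' ∘ g) := by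
    refine mor_actSys.2 ⟨hδ, hPS, fun x hx => hδ.mem_S hx, ψ' ∘ g, hδ.mono (sup_le le_rfl hQP),
      fun _ _ => rfl, 1, Subgroup.one_mem _, fun y hy => ?_⟩
    show ψ' (g y) = _
    rw [apl_one hy, ← hψg y hy, hψ'ψ y (Subgroup.mem_sup_left (hQP hy))]
  obtain ⟨P'', hP''⟩ := hδD.exists_iso
  have hzC : z ∈ centralizerIn S Q := ⟨hz.1, Subgroup.mem_centralizer_iff.2 fun y hy =>
    Subgroup.mem_centralizer_iff.1 hz.2 y (by
      obtain ⟨w, hw, rfl⟩ := hgQ.exists_eq hy
      exact hgi.mem (hQP hw))⟩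
  obtain ⟨c, hc, rfl⟩ := hψCs z hzC
  have hcm : c ∈ P ⊔ centralizerIn S Q := Subgroup.mem_sup_right hc
  have hcP : c ∈ P'' := by
    refine hPc.2 P'' hP''.isConj ⟨hc.1, Subgroup.mem_centralizer_iff.2 fun y hy => ?_⟩
    obtain ⟨x, hx, rfl⟩ := hP''.exists_eq hy
    have hym : ψ' (g x) ∈ P ⊔ centralizerIn S Q := hψ'.mem (himg x hx)
    refine hψm.injOn (Subgroup.mul_mem _ hym hcm) (Subgroup.mul_mem _ hcm hym) ?_
    show ψ (ψ' (g x) * c) = ψ (c * ψ' (g x))
    rw [hψm.map_mul hym hcm, hψm.map_mul hcm hym, hψψ' _ (himg x hx)]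
    exact Subgroup.mem_centralizer_iff.1 hz.2 _ (hgi.mem hx)
  obtain ⟨x, hx, hxc⟩ := hP''.exists_eq hcP
  have hzx : ψ c = g x := by rw [← hxc]; exact hψψ' _ (himg x hx)
  exact hzx ▸ hgi.mem hx

/-- A normal noncentric subgroup is properly contained in `Q C_S(Q)`. -/
theorem lt_sup_centralizer (hQn : F.IsNormal Q) (hQc : ¬ F.IsCentric Q) :
    Q < Q ⊔ centralizerIn S Q := by
  refine lt_of_le_of_ne le_sup_left fun e => hQc ⟨hQn.1, fun R hR => ?_⟩
  obtain ⟨f, hf⟩ := isConj_iff.1 hR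
  obtain rfl : Q = R :=
    (StronglyClosed.iso_self (stronglyClosed_of_isNormal hQn) hf.1 le_rfl).eq_image hf
  exact le_sup_right.trans e.ge

/-- A non-centric core is a proper subgroup. -/
theorem core_ne_top (hQc : ¬ F.IsCentric F.core) : F.core ≠ S := fun e =>
  hQc (e.symm ▸ centric_top F)

/-- The factor system modulo the core, with the preimage of a nontrivial normal subgroup. -/
theorem exists_factor [Fact p.Prime] (hS : IsPGroup p S) (hF : F.IsSaturated p)
    (hQn : F.IsNormal Q) (hQ : Q ≠ ⊥) (hQS : Q ≠ S) :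
    ∃ (Ω' : Type u) (_ : Group Ω') (S' : Subgroup Ω') (E : FusionSystem S') (θ : S →* Ω'),
      Finite S' ∧ IsPGroup p S' ∧ F.IsFactorSystem Q θ E ∧ E.IsSaturated p ∧
        Nat.card S' < Nat.card S ∧ S' ≠ ⊥ ∧
        ∀ V' ≤ S', V' ≠ ⊥ → Q < preimageAlong θ V' := by
  have hsc := stronglyClosed_of_isNormal hQn
  haveI hn : (Q.subgroupOf S).Normal :=
    (Subgroup.normal_subgroupOf_iff_le_normalizer hQn.1).2 (StronglyClosed.le_normalizer hsc)
  let θ : S →* S ⧸ Q.subgroupOf S := QuotientGroup.mk' (Q.subgroupOf S)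
  have hker : ∀ s : S, θ s = 1 ↔ (s : Ω) ∈ Q := fun s =>
    (QuotientGroup.eq_one_iff s).trans Subgroup.mem_subgroupOf
  obtain ⟨E, hE⟩ := exists_factorSystem hsc hker (rfl : θ.range = θ.range)
  have hne : θ.range ≠ ⊥ := fun h => hQS (le_antisymm hQn.1 fun s hs => (hker ⟨s, hs⟩).1
    (Subgroup.mem_bot.1 (h ▸ ⟨⟨s, hs⟩, rfl⟩ : θ ⟨s, hs⟩ ∈ (⊥ : Subgroup _))))
  refine ⟨_, inferInstance, θ.range, E, θ, inferInstance,
    hS.of_surjective _ θ.rangeRestrict_surjective, hE, factor_saturated hS hF hE hsc, ?_, hne, ?_⟩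
  · refine lt_of_le_of_ne (Nat.card_le_card_of_surjective _ θ.rangeRestrict_surjective) fun e => hQ ?_
    have hinj : Function.Injective θ.rangeRestrict :=
      ((Nat.bijective_iff_surjective_and_card _).2 ⟨θ.rangeRestrict_surjective, e.symm⟩).1
    refine (Subgroup.eq_bot_iff_forall _).2 fun x hx => ?_
    have h1 : (⟨x, hQn.1 hx⟩ : S) = 1 :=
      hinj (Subtype.ext (((hker _).2 hx).trans (map_one θ).symm))
    exact congrArg Subtype.val h1
  · intro V' hV' hVne
    refine lt_of_le_of_ne (le_preimageAlong hker hQn.1 V') fun e => hVne ?_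
    refine (Subgroup.eq_bot_iff_forall _).2 fun y hy => ?_
    obtain ⟨x, hx, rfl⟩ := exists_pre hV' hy
    rw [← e] at hx
    exact (thFn_eq_one_iff hker (hQn.1 hx)).2 hx

/-- The splitting step: the normalizer system of `Q C_S(Q)` and the system acting on `Q` as
elements of `S` carry every map. -/
theorem split_step [Fact p.Prime] (hS : IsPGroup p S) (hF : F.IsSaturated p)
    (hQn : F.IsNormal Q) {hQS : Q ≤ S} {hSN : S ≤ Subgroup.normalizer (Q : Set Ω)}
    {M : Subgroup Ω → (Ω → Ω) → Prop} (hM : SubRel F S M)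
    (hR : ∀ N : FusionSystem (normalizerIn S (Q ⊔ centralizerIn S Q)),
      F.IsNormalizerSystem (Q ⊔ centralizerIn S Q) N → ∀ X f, Mor N X f → M X f)
    (hD : ∀ X f, Mor (actSys F hQS hSN) X f → M X f) :
    ∀ P f, Mor F P f → M P f :=
  split_maps hS hF hQn hM (fun X f hf hNf =>
    hR _ (isNormalizerSystem_normalizerSys (sup_le hQS inf_le_left)) X f
      ((mor_normalizerSystem (isNormalizerSystem_normalizerSys (sup_le hQS inf_le_left))).2
        ⟨hf, hNf⟩)) hD

end Saturated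

/-- Control by a functor in systems free of `H`. -/
theorem control_normal {H : Type*} [Group H] [Fact p.Prime]
    {W : ∀ (Q : Type u) [Group Q], Subgroup Q} (hW : PosFunctor p W)
    (hloc : ∀ (L : Type u) [Group L] [Finite L] (P : Sylow p L),
      Subgroup.centralizer ((pCore p L : Subgroup L) : Set L) ≤ pCore p L → ¬ Involves H L →
        (((W ↥(P : Subgroup L)).map (P : Subgroup L).subtype : Subgroup L)).Normal)
    [Finite S] (hS : IsPGroup p S) (hF : F.IsSaturated p) (hfree : F.IsSectionFree p H) :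
    F.IsNormal (wsub W S) := by
  refine smaller_induction (Φ := fun {Ω} _ {S} F => Finite S → IsPGroup p S → F.IsSaturated p →
    F.IsSectionFree p H → F.IsNormal (wsub W S)) ?_ F inferInstance hS hF hfree
  intro Ω _ S F ih _ hS hF hfree
  have hWS : wsub W S ≤ S := wsub_le W S
  have hSW : S ≤ Subgroup.normalizer (wsub W S : Set Ω) := fun s hs =>
    (normalizerIn_le_normalizerIn_wsub hW le_rfl hS (le_normalizerIn le_rfl hs)).2
  have hM : SubRel F S (NRel F (wsub W S)) := by
    have h := subRel_nRel (F := F) hWS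
    rwa [normalizerIn_eq_of_le hSW] at h
  rw [isNormal_iff_nRel hSW hWS]
  set Q := F.core with hQdef
  have hQn : F.IsNormal Q := isNormal_core
  by_cases hQ0 : Q = ⊥
  · refine reduce_to_normalizers hS hF hW hM (fun X f _ hN => hN) fun U hU hUn N hN hgood => ?_
    haveI : Finite (normalizerIn S U) := finite_of_le inf_le_left
    have hWn := ih N (smaller_normalizer hUn.1 (fun h => hU (le_bot_iff.1 (hQ0 ▸ le_core h))) hN)
      inferInstance (hS.to_le inf_le_left) (normalizerSystem_saturated hS hF hUn hN)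
      (free_normalizerSystem hS hF hfree hUn hN)
    intro X f hf
    exact hgood X f hf ((isNormal_iff_nRel
      (StronglyClosed.le_normalizer (stronglyClosed_of_isNormal hWn)) hWn.1).1 hWn X f hf)
  have hQS : Q ≤ S := hQn.1
  have hSN : S ≤ Subgroup.normalizer (Q : Set Ω) :=
    StronglyClosed.le_normalizer (stronglyClosed_of_isNormal hQn)
  by_cases hQc : F.IsCentric Q
  · haveI : Finite (normalizerIn S Q) := finite_of_le inf_le_left
    have hQfn : F.IsFullyNormalized Q := ⟨hQS, fun R _ =>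
      Nat.card_le_card_of_injective _ (Subgroup.inclusion_injective
        (le_inf inf_le_left (inf_le_left.trans hSN) :
          normalizerIn S R ≤ normalizerIn S Q))⟩
    obtain ⟨N, L, hL, ι, hN, hι⟩ := exists_normalizer_model hS hF hQfn hQc
    haveI : Finite L := hι.1
    obtain ⟨T, hT⟩ := hι.2.2.1
    have hWn := hloc L T hι.2.2.2 (hfree Q hQfn hQc N hN L ι hι)
    have hinj := hι.2.1.1
    have heq : ((W ↥(T : Subgroup L)).map (T : Subgroup L).subtype).comap ι
        = W (normalizerIn S Q) := by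
      let e : normalizerIn S Q ≃* (T : Subgroup L) :=
        (MonoidHom.ofInjective hinj).trans (MulEquiv.subgroupCongr hT.symm)
      rw [← hW.map_eq (normalizerIn S Q) _ (hS.to_le inf_le_left) e, Subgroup.map_map,
        show (T : Subgroup L).subtype.comp e.toMonoidHom = ι from rfl,
        Subgroup.comap_map_eq_self_of_injective hinj]
    have hWle : (W ↥(T : Subgroup L)).map (T : Subgroup L).subtype ≤ ι.range :=
      (Subgroup.map_subtype_le _).trans hT.le
    have hNn := isNormal_of_normal (hN := hWn) hι.2.1 hWle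
    rw [heq] at hNn
    change N.IsNormal (wsub W (normalizerIn S Q)) at hNn
    rw [congrArg (wsub W) (normalizerIn_eq_of_le hSN)] at hNn
    intro P f hf
    have hNf : Mor N P f := (mor_normalizerSystem hN).2
      ⟨hf, (isNormal_iff_nRel hSN hQS).1 hQn P f hf⟩
    obtain ⟨g, hg, hgf, hgW⟩ := (isNormal_iff.1 hNn).2 P f hNf
    exact ⟨fun x hx => ⟨hf.le hx, hSW (hf.le hx)⟩, fun x hx => ⟨hf.mem_S hx, hSW (hf.mem_S hx)⟩,
      g, ((mor_normalizerSystem hN).1 hg).1, hgf, hgW⟩
  have hQR := lt_sup_centralizer hQn hQc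
  have hsat := actSys_saturated (hQS := hQS) (hSN := hSN) hS hF hQn
  have hfreeD := free_of_centric_above hS hF hfree le_rfl hsat actSys_le actSys_isNormal
    fun P hPc hQP => centric_of_actSys hS hF hQn hPc hQP
  by_cases hact : ∀ P f, Mor F P f → KRel F (autInducedBy S Q) P f
  · exfalso
    obtain ⟨Ω', _, S', E, θ, _, hS', hE, hEs, hlt, hne, hbig⟩ :=
      exists_factor hS hF hQn hQ0 (core_ne_top hQc)
    have hEn := ih E (Or.inl hlt) inferInstance hS' hEs (free_factor hS hF hQn hE hfree)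
    exact (hbig _ (wsub_le W S') (wsub_ne_bot hW hS' hne)).not_ge
      (le_core (isNormal_preimage_of_act hS hF hQn hE hact hEn))
  push Not at hact
  obtain ⟨P₀, f₀, hf₀, hno⟩ := hact
  have hDn := ih (actSys F hQS hSN)
    (smaller_subsystem actSys_le hf₀ fun h => hno (mor_actSys.1 h).2) inferInstance hS hsat hfreeD
  refine split_step hS hF hQn (hQS := hQS) (hSN := hSN) hM (fun N hN X f hf => ?_) fun X f hf => ?_
  · have hRS : Q ⊔ centralizerIn S Q ≤ S := sup_le hQS inf_le_left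
    have hRN : normalizerIn S (Q ⊔ centralizerIn S Q) = S :=
      normalizerIn_eq_of_le fun x hx => split_maps.normalizes hSN hx
    haveI : Finite (normalizerIn S (Q ⊔ centralizerIn S Q)) := finite_of_le inf_le_left
    have hRfn : F.IsFullyNormalized (Q ⊔ centralizerIn S Q) := ⟨hRS, fun R _ => by
      rw [hRN]
      exact Subgroup.card_le_of_le inf_le_left⟩
    have hWn := ih N (smaller_normalizer hRS (fun h => hQR.not_ge (le_core h)) hN)
      inferInstance (hS.to_le inf_le_left) (normalizerSystem_saturated hS hF hRfn hN)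
      (free_normalizerSystem hS hF hfree hRfn hN)
    rw [congrArg (wsub W) hRN] at hWn
    obtain ⟨hfF, -⟩ := (mor_normalizerSystem hN).1 hf
    obtain ⟨g, hg, hgf, hgW⟩ := (isNormal_iff.1 hWn).2 X f hf
    exact ⟨fun x hx => ⟨hfF.le hx, hSW (hfF.le hx)⟩,
      fun x hx => ⟨hfF.mem_S hx, hSW (hfF.mem_S hx)⟩, g, ((mor_normalizerSystem hN).1 hg).1, hgf, hgW⟩
  · have hfF := (mor_actSys.1 hf).1
    obtain ⟨g, hg, hgf, hgW⟩ := (isNormal_iff.1 hDn).2 X f hf
    exact ⟨fun x hx => ⟨hfF.le hx, hSW (hfF.le hx)⟩,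
      fun x hx => ⟨hfF.mem_S hx, hSW (hfF.mem_S hx)⟩, g, (mor_actSys.1 hg).1, hgf, hgW⟩

end Cfsg.Agent.FusSys
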