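import Cfsg.Agent.FusSys.Criteria
import Cfsg.Agent.FusSys.GroupSys
import Cfsg.Agent.Core.PCore

/-!
The Glauberman–Solomon subgroup `D*` in subgroup form, and the proof that it is normal in a
p-stable fusion system of a group.

`InD T A`: `A` is an abelian subgroup of `T` normalized by `T` and centralized by every `x ∈ T` with
`[A, x, x] = 1`.  `dSub T` is generated by all of them.
-/

set_option autoImplicit false

namespace Cfsg.Agent.FusSys.DSub

open Cfsg Cfsg.FusionSystem Cfsg.Agent.FusSys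

universe u

variable {G : Type u} [Group G] {p : ℕ}

/-- `[A, x, x] = 1`. -/
def Sm (A : Subgroup G) (x : G) : Prop := ∀ a ∈ A, Commute x (x * a * x⁻¹ * a⁻¹)

/-- The quadratic identity of p-stable fusion systems, for conjugation by `x`. -/
def Quad (A : Subgroup G) (x : G) : Prop :=
  ∀ a ∈ A, x * a⁻¹ * x⁻¹ * a * (x * a⁻¹ * x⁻¹) * (x * (x * a * x⁻¹) * x⁻¹) = 1

theorem quad_of_sm {A : Subgroup G} {x : G} (h : Sm A x) : Quad A x := by
  intro a ha
  have hc : x * (x * a * x⁻¹ * a⁻¹) = (x * a * x⁻¹ * a⁻¹) * x := h a ha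
  have e2 : x * a⁻¹ * x⁻¹ = a⁻¹ * (x * a * x⁻¹ * a⁻¹)⁻¹ := by group
  have e3 : x * (x * a * x⁻¹) * x⁻¹ =
      (x * a * x⁻¹ * a⁻¹) * (x * a * x⁻¹ * a⁻¹) * a := by
    calc x * (x * a * x⁻¹) * x⁻¹ = x * (x * a * x⁻¹ * a⁻¹) * a * x⁻¹ := by group
      _ = (x * a * x⁻¹ * a⁻¹) * x * a * x⁻¹ := by rw [hc]
      _ = _ := by group
  rw [e2, e3]
  group

theorem Sm.mono {A B : Subgroup G} {x : G} (h : Sm B x) (hAB : A ≤ B) : Sm A x :=
  fun a ha => h a (hAB ha)

/-- `A` is abelian, normalized by `T`, and centralized by the `x ∈ T` with `[A, x, x] = 1`. -/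
structure InD (T A : Subgroup G) : Prop where
  le : A ≤ T
  conj : ∀ x ∈ T, ∀ a ∈ A, x * a * x⁻¹ ∈ A
  comm : ∀ a ∈ A, ∀ b ∈ A, Commute a b
  cent : ∀ x ∈ T, Sm A x → ∀ a ∈ A, Commute x a

/-- The subgroup generated by the members of the family. -/
def dSub (T : Subgroup G) : Subgroup G := sSup {A | InD T A}

theorem le_normalizer_of_conj {T A : Subgroup G} (h : ∀ x ∈ T, ∀ a ∈ A, x * a * x⁻¹ ∈ A) :
    T ≤ Subgroup.normalizer (A : Set G) := by
  intro x hx
  refine Subgroup.mem_normalizer_iff.2 fun a => ⟨h x hx a, fun ha => ?_⟩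
  simpa [mul_assoc] using h x⁻¹ (InvMemClass.inv_mem hx) _ ha

/-- An element normalizing an abelian `A`, whose commutators with `z` lie in a subgroup centralizing `z`. -/
theorem sm_of_normal {A B : Subgroup G} {z : G} (hz : z ∈ B) (hB : ∀ a ∈ A, a * z⁻¹ * a⁻¹ ∈ B)
    (hBc : ∀ b ∈ B, ∀ c ∈ B, Commute b c) : Sm A z := by
  intro a ha
  refine hBc z hz _ ?_
  rw [show z * a * z⁻¹ * a⁻¹ = z * (a * z⁻¹ * a⁻¹) by group]
  exact mul_mem hz (hB a ha)

theorem InD.commute {T A B : Subgroup G} (hA : InD T A) (hB : InD T B) {a b : G} (ha : a ∈ A)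
    (hb : b ∈ B) : Commute a b :=
  (hA.cent b (hB.le hb) (sm_of_normal hb (fun c hc => hB.conj c (hA.le hc) _ (InvMemClass.inv_mem hb)) hB.comm)
    a ha).symm

theorem inD_dSub (T : Subgroup G) : InD T (dSub T) := by
  refine ⟨sSup_le fun A hA => hA.le, ?_, ?_, ?_⟩
  · intro x hx a ha
    have h : dSub T ≤ (dSub T).comap (MulAut.conj x).toMonoidHom :=
      sSup_le fun A hA b hb => le_sSup (α := Subgroup G) hA (hA.conj x hx b hb)
    exact h ha
  · have h1 : ∀ B, InD T B → dSub T ≤ Subgroup.centralizer (B : Set G) := fun B hB =>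
      sSup_le fun A hA a ha => Subgroup.mem_centralizer_iff.2 fun b hb => (hA.commute hB ha hb).symm
    have h2 : dSub T ≤ Subgroup.centralizer (dSub T : Set G) :=
      sSup_le fun A hA => Subgroup.le_centralizer_iff.1 (h1 A hA)
    intro a ha b hb
    exact (Subgroup.mem_centralizer_iff.1 (h2 ha) b hb).symm
  · intro x hx hsm a ha
    have h : dSub T ≤ Subgroup.centralizer {x} := sSup_le fun A hA b hb =>
      Subgroup.mem_centralizer_singleton_iff.2
        (hA.cent x hx (hsm.mono (le_sSup hA)) b hb).eq.symm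
    exact (Subgroup.mem_centralizer_singleton_iff.1 (h ha)).symm

theorem le_dSub {T A : Subgroup G} (h : InD T A) : A ≤ dSub T := le_sSup h

theorem InD.down {S T A : Subgroup G} (h : InD S A) (hA : A ≤ T) (hT : T ≤ S) : InD T A :=
  ⟨hA, fun x hx => h.conj x (hT hx), h.comm, fun x hx => h.cent x (hT hx)⟩

theorem inD_center (T : Subgroup G) : InD T (T ⊓ Subgroup.centralizer (T : Set G)) := by
  have hc : ∀ x ∈ T, ∀ a ∈ T ⊓ Subgroup.centralizer (T : Set G), Commute x a := fun x hx a ha =>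
    Subgroup.mem_centralizer_iff.1 ha.2 x hx
  refine ⟨inf_le_left, fun x hx a ha => ?_, fun a ha b hb => hc a ha.1 b hb, fun x hx _ => hc x hx⟩
  rw [(hc x hx a ha).eq, mul_inv_cancel_right]
  exact ha

theorem InD.map_conj {T A : Subgroup G} (h : InD T A) (g : G) :
    InD (T.map (MulAut.conj g).toMonoidHom) (A.map (MulAut.conj g).toMonoidHom) := by
  refine ⟨Subgroup.map_mono h.le, ?_, ?_, ?_⟩
  · rintro _ ⟨x, hx, rfl⟩ _ ⟨a, ha, rfl⟩
    exact ⟨_, h.conj x hx a ha, by simp [mul_assoc]⟩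
  · rintro _ ⟨a, ha, rfl⟩ _ ⟨b, hb, rfl⟩
    exact (h.comm a ha b hb).map _
  · rintro _ ⟨x, hx, rfl⟩ hsm _ ⟨a, ha, rfl⟩
    refine (h.cent x hx (fun c hc => ?_) a ha).map _
    have h1 := hsm _ (Subgroup.mem_map_of_mem _ hc)
    rw [← map_inv, ← map_mul, ← map_mul, ← map_inv, ← map_mul] at h1
    exact Commute.of_map (MulAut.conj g).injective h1

theorem map_dSub_conj {T : Subgroup G} {g : G} :
    (dSub T).map (MulAut.conj g).toMonoidHom ≤ dSub (T.map (MulAut.conj g).toMonoidHom) :=
  le_dSub ((inD_dSub T).map_conj g)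

theorem normalizer_le_dSub (T : Subgroup G) :
    Subgroup.normalizer (T : Set G) ≤ Subgroup.normalizer (dSub T : Set G) := by
  refine le_normalizer_of_conj fun g hg a ha => ?_
  have e : T.map (MulAut.conj g).toMonoidHom = T := by
    ext y
    constructor
    · rintro ⟨x, hx, rfl⟩
      exact (Subgroup.mem_normalizer_iff.1 hg x).1 hx
    · intro hy
      exact ⟨g⁻¹ * y * g, (Subgroup.mem_normalizer_iff.1 hg _).2
        (by rwa [show g * (g⁻¹ * y * g) * g⁻¹ = y by group]), by simp [mul_assoc]⟩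
  have h := map_dSub_conj (T := T) (g := g) (Subgroup.mem_map_of_mem _ ha)
  rwa [e] at h

/-! ### The normal closure step -/

/-- The subgroup generated by the `N`-conjugates of `X`. -/
def conjSup (N X : Subgroup G) : Subgroup G :=
  sSup {Y | ∃ n ∈ N, Y = X.map (MulAut.conj n).toMonoidHom}

theorem le_conjSup {N X : Subgroup G} {n : G} (hn : n ∈ N) :
    X.map (MulAut.conj n).toMonoidHom ≤ conjSup N X :=
  le_sSup ⟨n, hn, rfl⟩

theorem self_le_conjSup (N X : Subgroup G) : X ≤ conjSup N X := fun x hx =>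
  le_conjSup (one_mem N) ⟨x, hx, by simp⟩

theorem conjSup_le {N X R : Subgroup G} (hXR : X ≤ R) (hNR : N ≤ Subgroup.normalizer (R : Set G)) :
    conjSup N X ≤ R := by
  refine sSup_le ?_
  rintro _ ⟨n, hn, rfl⟩ _ ⟨x, hx, rfl⟩
  exact (Subgroup.mem_normalizer_iff.1 (hNR hn) x).1 (hXR hx)

theorem le_normalizer_conjSup (N X : Subgroup G) :
    N ≤ Subgroup.normalizer (conjSup N X : Set G) := by
  refine le_normalizer_of_conj fun m hm a ha => ?_
  have h : conjSup N X ≤ (conjSup N X).comap (MulAut.conj m).toMonoidHom := by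
    refine sSup_le ?_
    rintro _ ⟨n, hn, rfl⟩ _ ⟨x, hx, rfl⟩
    refine le_conjSup (mul_mem hm hn) ⟨x, hx, ?_⟩
    simp [mul_assoc]
  exact h ha

/-- `N` has a Sylow subgroup `T`, `X` is in the family of `T`, the conjugates of `X` lie in a subgroup
`R ≤ T` normalized by `N`, and `K` is a normal subgroup of `N`, a p-group modulo the centralizer of the
normal closure `W` of `X`, containing all `x ∈ T` with `[W, x, x] = 1`. Then `W` is in the family of `T`
and `N = C_N(W) N_N(T ⊓ K)`. -/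
theorem gs [Finite G] [Fact p.Prime] {N T X R K : Subgroup G} (hT : IsPGroup p T) (hTN : SylIn p T N)
    (hX : InD T X) (hRT : R ≤ T) (hXR : X ≤ R) (hNR : N ≤ Subgroup.normalizer (R : Set G))
    (hKN : K ≤ N) (hNK : N ≤ Subgroup.normalizer (K : Set G))
    (hKp : ∃ k, (Subgroup.centralizer (conjSup N X : Set G)).relIndex K = p ^ k)
    (hK : ∀ x ∈ T, Sm (conjSup N X) x → x ∈ K) :
    InD T (conjSup N X) ∧
      ∀ n ∈ N, ∃ c ∈ Subgroup.centralizer (conjSup N X : Set G),
        ∃ m ∈ N ⊓ Subgroup.normalizer ((T ⊓ K : Subgroup G) : Set G), n = c * m := by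
  classical
  set W := conjSup N X with hW
  have hWR : W ≤ R := conjSup_le hXR hNR
  have hWN := le_normalizer_conjSup N X
  -- `W` is abelian
  have hcomm : ∀ a ∈ W, ∀ b ∈ W, Commute a b := by
    have h1 : ∀ n ∈ N, X ≤ Subgroup.centralizer ((X.map (MulAut.conj n).toMonoidHom : Subgroup G) : Set G) := by
      intro n hn x hx
      refine Subgroup.mem_centralizer_iff.2 ?_
      rintro z ⟨y, hy, rfl⟩
      have hzR : n * y * n⁻¹ ∈ R := (Subgroup.mem_normalizer_iff.1 (hNR hn) y).1 (hXR hy)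
      refine (hX.cent _ (hRT hzR) (sm_of_normal (B := X.map (MulAut.conj n).toMonoidHom)
        ⟨y, hy, rfl⟩ (fun a ha => ?_) ?_) x hx).eq
      · -- `X` normalizes each conjugate of `X` inside `R`
        have haR : n⁻¹ * a * n ∈ R := by
          have := (Subgroup.mem_normalizer_iff.1 (hNR (InvMemClass.inv_mem hn)) a).1 (hXR ha)
          simpa using this
        exact ⟨_, hX.conj _ (hRT haR) _ (InvMemClass.inv_mem hy), by simp [mul_assoc]⟩
      · rintro _ ⟨b, hb, rfl⟩ _ ⟨c, hc, rfl⟩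
        exact (hX.comm b hb c hc).map _
    have h2 : W ≤ Subgroup.centralizer (X : Set G) := by
      refine sSup_le ?_
      rintro _ ⟨n, hn, rfl⟩
      exact Subgroup.le_centralizer_iff.1 (h1 n hn)
    have h3 : W ≤ Subgroup.centralizer (W : Set G) := by
      refine sSup_le ?_
      rintro _ ⟨n, hn, rfl⟩ _ ⟨x, hx, rfl⟩
      refine Subgroup.mem_centralizer_iff.2 fun w hw => ?_
      have hw' : n⁻¹ * w * n ∈ W := by
        have := (Subgroup.mem_normalizer_iff.1 (hWN (InvMemClass.inv_mem hn)) w).1 hw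
        simpa using this
      have h4 : Commute x (n⁻¹ * w * n) := Subgroup.mem_centralizer_iff.1 (h2 hw') x hx
      have h5 := h4.map (MulAut.conj n).toMonoidHom
      have e : n * (n⁻¹ * w * n) * n⁻¹ = w := by group
      simp only [MulEquiv.coe_toMonoidHom, MulAut.conj_apply, e] at h5
      exact h5.eq.symm
    exact fun a ha b hb => (Subgroup.mem_centralizer_iff.1 (h3 ha) b hb).symm
  -- `T ⊓ K` is a Sylow subgroup of `K` and covers `K` modulo the centralizer
  set C := Subgroup.centralizer (W : Set G) ⊓ K with hC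
  have hsyl : SylIn p (T ⊓ K) K := sylIn_inter_normal hTN hKN (Subgroup.normal_subgroupOf_of_le_normalizer hNK)
  have hKn : K ≤ Subgroup.normalizer (C : Set G) := by
    refine le_normalizer_of_conj fun k hk a ha => ⟨?_, mul_mem (mul_mem hk ha.2) (Subgroup.inv_mem _ hk)⟩
    refine Subgroup.mem_centralizer_iff.2 fun w hw => ?_
    have hw' : k⁻¹ * w * k ∈ W := by
      have := (Subgroup.mem_normalizer_iff.1 (hWN (InvMemClass.inv_mem (hKN hk))) w).1 hw
      simpa using this
    have h4 : Commute (k⁻¹ * w * k) a := Subgroup.mem_centralizer_iff.1 ha.1 _ hw'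
    have h5 := h4.map (MulAut.conj k).toMonoidHom
    have e : k * (k⁻¹ * w * k) * k⁻¹ = w := by group
    simp only [MulEquiv.coe_toMonoidHom, MulAut.conj_apply, e] at h5
    exact h5
  have hcover : ∀ k ∈ K, ∃ c ∈ C, ∃ r ∈ T ⊓ K, k = c * r := by
    intro k hk
    have hle : C ⊔ (T ⊓ K) ≤ K := sup_le inf_le_right inf_le_right
    have h1 : (C ⊔ (T ⊓ K)).relIndex K = 1 := by
      obtain ⟨i, hi⟩ := hKp
      have hd1 : (C ⊔ (T ⊓ K)).relIndex K ∣ p ^ i := by
        rw [← hi, ← Subgroup.inf_relIndex_right (Subgroup.centralizer (W : Set G)) K]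
        exact Subgroup.relIndex_dvd_of_le_left _ le_sup_left
      have hd2 : (C ⊔ (T ⊓ K)).relIndex K ∣ (T ⊓ K).relIndex K :=
        Subgroup.relIndex_dvd_of_le_left _ le_sup_right
      obtain ⟨j, -, hj⟩ := (Nat.dvd_prime_pow (Fact.out : p.Prime)).1 hd1
      rcases Nat.eq_zero_or_pos j with rfl | hjp
      · simpa using hj
      · exact absurd ((dvd_pow_self p hjp.ne').trans (hj ▸ hd2)) hsyl.2
    have h2 : k ∈ ((C ⊔ (T ⊓ K) : Subgroup G) : Set G) := Subgroup.relIndex_eq_one.1 h1 hk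
    rw [Subgroup.coe_mul_of_right_le_normalizer_left _ _ (le_trans inf_le_right hKn)] at h2
    obtain ⟨c, hc, r, hr, rfl⟩ := h2
    exact ⟨c, hc, r, hr, rfl⟩
  have hfr : ∀ n ∈ N, ∃ c ∈ Subgroup.centralizer (W : Set G),
      ∃ m ∈ N ⊓ Subgroup.normalizer ((T ⊓ K : Subgroup G) : Set G), n = c * m := by
    intro n hn
    have hA : (T ⊓ K).map (MulAut.conj n).toMonoidHom ≤ K := by
      rintro _ ⟨x, hx, rfl⟩
      exact (Subgroup.mem_normalizer_iff.1 (hNK hn) x).1 hx.2
    obtain ⟨k, hk, hkm⟩ := exists_conj_mem_of_sylIn (hT.to_le inf_le_left) hsyl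
      ((hT.to_le inf_le_left).map _) hA
    have hkn : k * n ∈ Subgroup.normalizer ((T ⊓ K : Subgroup G) : Set G) := by
      refine Subgroup.mem_normalizer_fintype fun x hx => ?_
      have := hkm _ (Subgroup.mem_map_of_mem (MulAut.conj n).toMonoidHom hx)
      simp only [MulEquiv.coe_toMonoidHom, MulAut.conj_apply] at this
      show k * n * x * (k * n)⁻¹ ∈ T ⊓ K
      convert this using 1
      group
    obtain ⟨c, hc, r, hr, hkc⟩ := hcover k⁻¹ (InvMemClass.inv_mem hk)
    refine ⟨c, hc.1, r * (k * n), ⟨mul_mem (hTN.1 hr.1) (mul_mem (hKN hk) hn),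
      mul_mem (Subgroup.le_normalizer hr) hkn⟩, ?_⟩
    rw [← mul_assoc c, ← hkc]
    group
  refine ⟨⟨hWR.trans hRT, fun x hx a ha => (Subgroup.mem_normalizer_iff.1 (hWN (hTN.1 hx)) a).1 ha,
    hcomm, fun x hx hsm a ha => ?_⟩, hfr⟩
  have h : W ≤ Subgroup.centralizer {x} := by
    refine sSup_le ?_
    rintro _ ⟨n, hn, rfl⟩ _ ⟨y, hy, rfl⟩
    obtain ⟨c, hc, m, hm, rfl⟩ := hfr n hn
    have hmy : m * y * m⁻¹ ∈ W := le_conjSup hm.1 ⟨y, hy, rfl⟩
    have ecy : c * m * y * (c * m)⁻¹ = m * y * m⁻¹ := by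
      have h5 : c * (m * y * m⁻¹) = m * y * m⁻¹ * c := (Subgroup.mem_centralizer_iff.1 hc _ hmy).symm
      calc c * m * y * (c * m)⁻¹ = c * (m * y * m⁻¹) * c⁻¹ := by group
        _ = m * y * m⁻¹ * c * c⁻¹ := by rw [h5]
        _ = _ := by group
    show c * m * y * (c * m)⁻¹ ∈ Subgroup.centralizer {x}
    rw [ecy, Subgroup.mem_centralizer_singleton_iff]
    -- move `x` back by `m`
    have hx' : m⁻¹ * x * m ∈ T ⊓ K := by
      have := (Subgroup.mem_normalizer_iff.1 (InvMemClass.inv_mem hm.2) x).1 ⟨hx, hK x hx hsm⟩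
      simpa using this
    have hsm' : Sm X (m⁻¹ * x * m) := by
      intro a ha
      have h1 := (hsm _ (le_conjSup hm.1 (Subgroup.mem_map_of_mem _ ha))).map
        (MulAut.conj m⁻¹).toMonoidHom
      simp only [MulEquiv.coe_toMonoidHom, MulAut.conj_apply, inv_inv] at h1
      convert h1 using 1
      group
    have h6 := (hX.cent _ hx'.1 hsm' y hy).map (MulAut.conj m).toMonoidHom
    have e : m * (m⁻¹ * x * m) * m⁻¹ = x := by group
    simp only [MulEquiv.coe_toMonoidHom, MulAut.conj_apply, e] at h6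
    exact h6.eq.symm
  exact (Subgroup.mem_centralizer_singleton_iff.1 (h ha)).symm

/-! ### The p-core of the automizer, pulled back -/

/-- The preimage in `N(W)` of `O_p(N(W)/C(W))`. -/
noncomputable def opMod (p : ℕ) (W : Subgroup G) : Subgroup G :=
  ((pCore p W.normalizerMonoidHom.range).comap W.normalizerMonoidHom.rangeRestrict).map
    (Subgroup.normalizer (W : Set G)).subtype

theorem opMod_le (W : Subgroup G) : opMod p W ≤ Subgroup.normalizer (W : Set G) :=
  Subgroup.map_subtype_le _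

theorem mem_opMod {W : Subgroup G} {x : G} (hx : x ∈ Subgroup.normalizer (W : Set G)) :
    x ∈ opMod p W ↔ W.normalizerMonoidHom.rangeRestrict ⟨x, hx⟩ ∈
      pCore p W.normalizerMonoidHom.range :=
  ⟨fun ⟨_, hy, he⟩ => (Subtype.ext he.symm : (⟨x, hx⟩ : Subgroup.normalizer (W : Set G)) = _) ▸ hy,
    fun h => ⟨⟨x, hx⟩, h, rfl⟩⟩

theorem normalizer_le_opMod (W : Subgroup G) :
    Subgroup.normalizer (W : Set G) ≤ Subgroup.normalizer (opMod p W : Set G) := by
  refine le_normalizer_of_conj fun g hg a ha => ?_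
  obtain ⟨b, hb, rfl⟩ := ha
  haveI : (pCore p W.normalizerMonoidHom.range).Normal := inferInstance
  exact ⟨⟨g, hg⟩ * b * ⟨g, hg⟩⁻¹, Subgroup.Normal.conj_mem (inferInstance :
    ((pCore p W.normalizerMonoidHom.range).comap W.normalizerMonoidHom.rangeRestrict).Normal) b hb _,
    by simp⟩

theorem relIndex_opMod [Finite G] [Fact p.Prime] (W : Subgroup G) {K : Subgroup G}
    (hK : K ≤ opMod p W) : ∃ k, (Subgroup.centralizer (W : Set G)).relIndex K = p ^ k := by
  set f := W.normalizerMonoidHom.rangeRestrict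
  set N := Subgroup.normalizer (W : Set G)
  have hKN : K ≤ N := hK.trans (opMod_le W)
  set g : K →* W.normalizerMonoidHom.range := f.comp (Subgroup.inclusion hKN)
  have hp : IsPGroup p g.range := by
    refine (Cfsg.Agent.Core.pCore_isPGroup (p := p) (G := W.normalizerMonoidHom.range)).to_le ?_
    rintro _ ⟨x, rfl⟩
    exact (mem_opMod (hKN x.2)).1 (hK x.2)
  obtain ⟨k, hk⟩ := IsPGroup.iff_card.1 hp
  refine ⟨k, ?_⟩
  rw [← hk, ← Subgroup.index_ker, Subgroup.relIndex]
  congr 1
  ext x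
  rw [MonoidHom.mem_ker, Subgroup.mem_subgroupOf]
  show _ ↔ f _ = 1
  rw [← MonoidHom.mem_ker, MonoidHom.ker_rangeRestrict, Subgroup.normalizerMonoidHom_ker,
    Subgroup.mem_subgroupOf]
  rfl

theorem le_opMod [Finite G] [Fact p.Prime] {W K : Subgroup G}
    (hKN : K ≤ Subgroup.normalizer (W : Set G))
    (hNK : Subgroup.normalizer (W : Set G) ≤ Subgroup.normalizer (K : Set G))
    (hp : ∃ k, (Subgroup.centralizer (W : Set G)).relIndex K = p ^ k) : K ≤ opMod p W := by
  set f := W.normalizerMonoidHom.rangeRestrict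
  set N := Subgroup.normalizer (W : Set G)
  haveI : (K.subgroupOf N).Normal := Subgroup.normal_subgroupOf_of_le_normalizer hNK
  haveI : ((K.subgroupOf N).map f).Normal :=
    Subgroup.Normal.map inferInstance f W.normalizerMonoidHom.rangeRestrict_surjective
  obtain ⟨k, hk⟩ := hp
  have hpg : IsPGroup p ((K.subgroupOf N).map f) := by
    refine IsPGroup.of_card (n := k) ?_
    rw [← hk]
    set g : K →* W.normalizerMonoidHom.range := f.comp (Subgroup.inclusion hKN)
    have e : (K.subgroupOf N).map f = g.range := by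
      ext y
      constructor
      · rintro ⟨x, hx, rfl⟩
        exact ⟨⟨x, hx⟩, rfl⟩
      · rintro ⟨x, rfl⟩
        exact ⟨Subgroup.inclusion hKN x, x.2, rfl⟩
    rw [e, ← Subgroup.index_ker, Subgroup.relIndex]
    congr 1
    ext x
    rw [MonoidHom.mem_ker, Subgroup.mem_subgroupOf]
    show f _ = 1 ↔ _
    rw [← MonoidHom.mem_ker, MonoidHom.ker_rangeRestrict, Subgroup.normalizerMonoidHom_ker,
      Subgroup.mem_subgroupOf]
    rfl
  intro x hx
  exact (mem_opMod (hKN hx)).2 (Cfsg.Agent.Core.le_pCore hpg ⟨⟨x, hKN hx⟩, hx, rfl⟩)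

/-! ### Stable group fusion systems -/

variable [Finite G] [Fact p.Prime]

/-- The p-stability hypothesis of the statements on group fusion systems. -/
def FStable (S : Sylow p G) : Prop :=
  ∀ Q : Subgroup G, (Cfsg.groupFusionSystem (S : Subgroup G)).IsFullyNormalized Q →
    ∀ χ : MulAut ↥Q, χ ∈ (Cfsg.groupFusionSystem (S : Subgroup G)).autGroup Q →
      (∀ a : ↥Q, (χ a⁻¹) * a * (χ a⁻¹) * (χ (χ a)) = 1) →
      χ ∈ ((Cfsg.pCore p ↥((Cfsg.groupFusionSystem (S : Subgroup G)).autGroup Q)).map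
        ((Cfsg.groupFusionSystem (S : Subgroup G)).autGroup Q).subtype : Subgroup (MulAut ↥Q))

theorem normalizerMonoidHom_quad {Q : Subgroup G} {x : Subgroup.normalizer (Q : Set G)}
    (h : Quad Q x) (a : Q) :
    (Q.normalizerMonoidHom x a⁻¹) * a * (Q.normalizerMonoidHom x a⁻¹) *
      (Q.normalizerMonoidHom x (Q.normalizerMonoidHom x a)) = 1 := by
  apply Subtype.ext
  exact h a a.2

theorem autGroup_eq_range (S : Sylow p G) {Q : Subgroup G} (hQ : Q ≤ S) :
    (Cfsg.groupFusionSystem (S : Subgroup G)).autGroup Q = Q.normalizerMonoidHom.range := by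
  rw [autGroup_gfs hQ, autInducedBy_eq_map, Subgroup.top_subgroupOf, MonoidHom.range_eq_map]

theorem mem_opMod_of_fullyNormalized (S : Sylow p G) (hst : FStable S) {Q : Subgroup G}
    (hQ : (Cfsg.groupFusionSystem (S : Subgroup G)).IsFullyNormalized Q) {x : G}
    (hx : x ∈ Subgroup.normalizer (Q : Set G)) (h : Quad Q x) : x ∈ opMod p Q := by
  have hA := autGroup_eq_range S hQ.1
  have hχ : Q.normalizerMonoidHom ⟨x, hx⟩ ∈
      (Cfsg.groupFusionSystem (S : Subgroup G)).autGroup Q := by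
    rw [hA]
    exact ⟨_, rfl⟩
  have h1 := hst Q hQ _ hχ (normalizerMonoidHom_quad h)
  rw [hA] at h1
  obtain ⟨y, hy, he⟩ := h1
  exact (mem_opMod hx).2 ((Subtype.ext he.symm :
    Q.normalizerMonoidHom.rangeRestrict ⟨x, hx⟩ = y) ▸ hy)

/-- p-stability passes to every p-subgroup. -/
theorem mem_opMod_of_quad (S : Sylow p G) (hst : FStable S) {W : Subgroup G} (hW : IsPGroup p W)
    {x : G} (hx : x ∈ Subgroup.normalizer (W : Set G)) (h : Quad W x) : x ∈ opMod p W := by
  obtain ⟨g, hg⟩ := exists_conj_mem_sylow hW S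
  set W₁ := W.map (MulAut.conj g).toMonoidHom
  have hW₁ : W₁ ≤ S := by rintro _ ⟨w, hw, rfl⟩; exact hg w hw
  obtain ⟨g', hg'S, hsyl⟩ := exists_conj_sylIn_normalizer S hW₁
  have he : W₁.map (MulAut.conj g').toMonoidHom = W.map (MulAut.conj (g' * g)).toMonoidHom := by
    rw [Subgroup.map_map]
    congr 1
    ext y
    simp [mul_assoc]
  rw [he] at hg'S hsyl
  set c := MulAut.conj (g' * g) with hc
  set W' := W.map c.toMonoidHom
  have hfn := (isFullyNormalized_gfs_iff S hg'S).2 hsyl
  have hN : Subgroup.normalizer (W' : Set G) = (Subgroup.normalizer (W : Set G)).map c.toMonoidHom :=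
    (Subgroup.map_equiv_normalizer_eq W c).symm
  have hx' : c x ∈ Subgroup.normalizer (W' : Set G) := hN ▸ Subgroup.mem_map_of_mem _ hx
  have hq' : Quad W' (c x) := by
    rintro _ ⟨a, ha, rfl⟩
    have := congrArg c.toMonoidHom (h a ha)
    simpa only [map_mul, map_inv, map_one, MulEquiv.coe_toMonoidHom] using this
  have h1 := mem_opMod_of_fullyNormalized S hst hfn hx' hq'
  -- pull back
  set K := (opMod p W').comap c.toMonoidHom
  have hKN : K ≤ Subgroup.normalizer (W : Set G) := fun y hy => by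
    have := opMod_le W' (show c y ∈ opMod p W' from hy)
    rw [hN] at this
    obtain ⟨z, hz, hzy⟩ := this
    exact c.injective hzy ▸ hz
  have hNK : Subgroup.normalizer (W : Set G) ≤ Subgroup.normalizer (K : Set G) :=
    le_normalizer_of_conj fun y hy a ha => by
      show c (y * a * y⁻¹) ∈ opMod p W'
      rw [map_mul, map_mul, map_inv]
      exact (Subgroup.mem_normalizer_iff.1 (normalizer_le_opMod W'
        (hN ▸ Subgroup.mem_map_of_mem _ hy)) _).1 ha
  refine le_opMod hKN hNK ?_ h1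
  obtain ⟨k, hk⟩ := relIndex_opMod (p := p) W' (le_refl (opMod p W'))
  refine ⟨k, ?_⟩
  rw [← hk, ← Subgroup.relIndex_map_map_of_injective _ _ (f := c.toMonoidHom) c.injective]
  rw [Subgroup.map_comap_eq_self_of_surjective c.surjective]
  congr 1
  rw [Subgroup.map_equiv_eq_comap_symm']
  ext y
  simp only [Subgroup.mem_comap, MulEquiv.coe_toMonoidHom, Subgroup.mem_centralizer_iff]
  constructor
  · rintro hy _ ⟨w, hw, rfl⟩
    have := congrArg c (hy w hw)
    simpa using this
  · intro hy w hw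
    apply c.injective
    simpa using hy (c w) ⟨w, hw, rfl⟩

/-! ### `D*(S)` is normal -/

theorem dSub_le_centric_radical (S : Sylow p G) (hst : FStable S) {A Q : Subgroup G}
    (hA : InD (S : Subgroup G) A)
    (hc : (Cfsg.groupFusionSystem (S : Subgroup G)).IsCentric Q)
    (hn : (Cfsg.groupFusionSystem (S : Subgroup G)).IsFullyNormalized Q)
    (hr : (Cfsg.groupFusionSystem (S : Subgroup G)).IsRadical p Q) : A ≤ Q := by
  have hQn : Q ≤ Subgroup.normalizer (A : Set G) := hc.1.trans (le_normalizer_of_conj hA.conj)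
  by_contra hne
  have hlt : Q < Q ⊔ A := lt_of_le_of_ne le_sup_left fun h => hne (h ▸ le_sup_right)
  obtain ⟨z, ⟨hz, hzn⟩, hzQ⟩ :=
    SetLike.exists_of_lt (lt_inf_normalizer S.2 (sup_le hc.1 hA.le) hlt)
  have hz' : z ∈ ((Q ⊔ A : Subgroup G) : Set G) := hz
  rw [Subgroup.coe_mul_of_left_le_normalizer_right _ _ hQn] at hz'
  obtain ⟨q, hq, a, ha, rfl⟩ := hz'
  have han : a ∈ Subgroup.normalizer (Q : Set G) := by
    have := mul_mem (InvMemClass.inv_mem (Subgroup.le_normalizer hq : q ∈ _)) hzn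
    rwa [inv_mul_cancel_left] at this
  refine hzQ (mul_mem hq ?_)
  have hsm : Sm Q a := sm_of_normal ha (fun r hr' => hA.conj r (hc.1 hr') _ (InvMemClass.inv_mem ha)) hA.comm
  have hχ : Q.normalizerMonoidHom ⟨a, han⟩ ∈
      (Cfsg.groupFusionSystem (S : Subgroup G)).autGroup Q := by
    rw [autGroup_eq_range S hc.1]
    exact ⟨_, rfl⟩
  have h1 := hst Q hn _ hχ (normalizerMonoidHom_quad (x := ⟨a, han⟩) (quad_of_sm hsm))
  rw [hr.2] at h1
  exact mem_of_conj_mem_inn (centric_self hc) hc.1 (hA.le ha)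
    (fun y hy => apl_normalizerMonoidHom ⟨a, han⟩ hy) h1

/-- Above the order `n` every map of the system fixes membership in `A`. -/
def FixRel (S : Sylow p G) (A : Subgroup G) (n : ℕ) (P : Subgroup G) (f : G → G) : Prop :=
  P ≤ (S : Subgroup G) ∧ (∀ x ∈ P, f x ∈ (S : Subgroup G)) ∧
    (n ≤ Nat.card P → ∀ x ∈ P, (f x ∈ A ↔ x ∈ A))

theorem subRel_fixRel (S : Sylow p G) {A : Subgroup G}
    (hA : (S : Subgroup G) ≤ Subgroup.normalizer (A : Set G)) (n : ℕ) :
    SubRel (Cfsg.groupFusionSystem (S : Subgroup G)) (S : Subgroup G) (FixRel S A n) where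
  congr := fun {P f g} h he => ⟨h.1, fun x hx => he x hx ▸ h.2.1 x hx,
    fun hn x hx => he x hx ▸ h.2.2 hn x hx⟩
  le := fun h => ⟨h.1, h.2.1⟩
  conj := fun {P s} hP hs => ⟨mor_conj hP hs, hP,
    fun x hx => mul_mem (mul_mem hs (hP hx)) (InvMemClass.inv_mem hs),
    fun _ x _ => (Subgroup.mem_normalizer_iff.1 (hA hs) x).symm⟩
  comp := fun {P Q f g} hf hM hg hN hPQ => ⟨hM.1, fun x hx => hN.2.1 _ (hPQ x hx), fun hn x hx => by
    have hc : Nat.card P ≤ Nat.card Q :=
      Nat.card_le_card_of_injective (fun y : P => (⟨f y, hPQ y y.2⟩ : Q))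
        fun a b hab => Subtype.ext (hf.injOn a.2 b.2 (congrArg Subtype.val hab))
    exact (hN.2.2 (hn.trans hc) _ (hPQ x hx)).trans (hM.2.2 hn x hx)⟩
  inv := fun {P Q f g} hf hM hg hgf => ⟨hg.left_le, fun y hy => hg.1.mem_S hy, fun hn y hy => by
    obtain ⟨x, hx, rfl⟩ := hf.exists_eq hy
    rw [hgf x hx]
    exact (hM.2.2 (hf.card_eq ▸ hn) x hx).symm⟩

/-- The inductive step: normalizers of fully normalized subgroups above `dSub S` normalize it. -/
theorem normalizer_le_of_fullyNormalized (S : Sylow p G) (hst : FStable S) :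
    ∀ (n : ℕ) (V : Subgroup G), Nat.card (S : Subgroup G) -
        Nat.card (normalizerIn (S : Subgroup G) V) ≤ n → dSub (S : Subgroup G) ≤ V →
      (Cfsg.groupFusionSystem (S : Subgroup G)).IsFullyNormalized V →
      Subgroup.normalizer (V : Set G) ≤ Subgroup.normalizer (dSub (S : Subgroup G) : Set G) := by
  intro n
  induction n using Nat.strong_induction_on with
  | h n ih =>
  intro V hn hAV hV
  set A := dSub (S : Subgroup G) with hAdef
  set T := normalizerIn (S : Subgroup G) V with hTdef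
  set H := Subgroup.normalizer (V : Set G) with hHdef
  have hT : IsPGroup p T := isPGroup_normalizerIn S V
  have hTH : SylIn p T H := (isFullyNormalized_gfs_iff S hV.1).1 hV
  have hTS : T ≤ (S : Subgroup G) := inf_le_left
  have hVT : V ≤ T := le_inf hV.1 Subgroup.le_normalizer
  have hAT : InD T A := (inD_dSub _).down (hAV.trans hVT) hTS
  set X := dSub T with hXdef
  have hX : InD T X := inD_dSub T
  have hAX : A ≤ X := le_dSub hAT
  -- first closure: conjugates of `A` in `H`
  set U := conjSup H A with hUdef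
  have hUT : U ≤ T := (conjSup_le hAV le_rfl).trans hVT
  set K := opMod p U ⊓ H with hKdef
  have hHU : H ≤ Subgroup.normalizer (U : Set G) := le_normalizer_conjSup H A
  have hK : ∀ x ∈ T, Sm U x → x ∈ K := fun x hx hsm =>
    ⟨mem_opMod_of_quad S hst (hT.to_le hUT) (hHU (hTH.1 hx)) (quad_of_sm hsm), hTH.1 hx⟩
  have hHK : H ≤ Subgroup.normalizer (K : Set G) := le_normalizer_of_conj fun x hx a ha =>
    ⟨(Subgroup.mem_normalizer_iff.1 (normalizer_le_opMod U (hHU hx)) a).1 ha.1,
      mul_mem (mul_mem hx ha.2) (Subgroup.inv_mem _ hx)⟩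
  obtain ⟨hU, hfrU⟩ := gs hT hTH hAT hVT hAV le_rfl inf_le_right hHK
    (relIndex_opMod U inf_le_left) hK
  set R := T ⊓ K with hRdef
  have hXR : X ≤ R := fun y hy => ⟨hX.le hy, hK y (hX.le hy)
    (sm_of_normal hy (fun u hu => hX.conj u (hUT hu) _ (InvMemClass.inv_mem hy)) hX.comm)⟩
  -- second closure: conjugates of `X` in `N_H(R)`
  set N := H ⊓ Subgroup.normalizer (R : Set G) with hNdef
  have hTN : T ≤ N := le_inf hTH.1 (le_normalizer_of_conj fun x hx a ha =>
    ⟨mul_mem (mul_mem hx ha.1) (Subgroup.inv_mem _ hx), (Subgroup.mem_normalizer_iff.1 (hHK (hTH.1 hx)) a).1 ha.2⟩)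
  have hNsyl : SylIn p T N := sylIn_mono hTH hTN inf_le_left
  set W := conjSup N X with hWdef
  have hNW : N ≤ Subgroup.normalizer (W : Set G) := le_normalizer_conjSup N X
  have hWT : W ≤ T := (conjSup_le hXR inf_le_right).trans inf_le_left
  set L := opMod p W ⊓ N with hLdef
  obtain ⟨hW, -⟩ := gs (K := L) hT hNsyl hX inf_le_left hXR inf_le_right inf_le_right
    (le_normalizer_of_conj fun x hx a ha =>
      ⟨(Subgroup.mem_normalizer_iff.1 (normalizer_le_opMod W (hNW hx)) a).1 ha.1,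
        mul_mem (mul_mem hx ha.2) (Subgroup.inv_mem _ hx)⟩)
    (relIndex_opMod W inf_le_left)
    (fun x hx hsm => ⟨mem_opMod_of_quad S hst (hT.to_le hWT) (hNW (hTN hx)) (quad_of_sm hsm),
      hTN hx⟩)
  have hWX : W = X := le_antisymm (le_dSub hW) (self_le_conjSup N X)
  -- the normalizer of `X` normalizes `A`
  have hXA : Subgroup.normalizer (X : Set G) ≤ Subgroup.normalizer (A : Set G) := by
    rcases eq_or_ne T (S : Subgroup G) with hTS' | hne
    · rw [hXdef, hTS']
    have hlt : T < (S : Subgroup G) := lt_of_le_of_ne hTS hne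
    set T₂ := normalizerIn (S : Subgroup G) X with hT₂
    have hlt₂ : T < T₂ := by
      refine lt_of_lt_of_le (lt_normalizerIn S.2 hlt) ?_
      exact inf_le_inf_left _ (normalizer_le_dSub T)
    have hXS : X ≤ (S : Subgroup G) := hX.le.trans hTS
    obtain ⟨U₀, hU₀, hU₀N⟩ := exists_sylIn p (Subgroup.normalizer (X : Set G))
    obtain ⟨m, hmN, hm⟩ := exists_conj_mem_of_sylIn hU₀ hU₀N (isPGroup_normalizerIn S X) inf_le_right
    obtain ⟨g, hg⟩ := exists_conj_mem_sylow hU₀ S
    set a := g * m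
    have haT : ∀ x ∈ T₂, a * x * a⁻¹ ∈ (S : Subgroup G) := fun x hx => by
      have := hg _ (hm x hx)
      simpa [a, mul_assoc] using this
    set N₀ := Nat.card T₂ with hN₀
    have hA_S : (S : Subgroup G) ≤ Subgroup.normalizer (A : Set G) :=
      le_normalizer_of_conj (inD_dSub _).conj
    have hmor : Mor (Cfsg.groupFusionSystem (S : Subgroup G)) T₂ (fun x => a * x * a⁻¹) :=
      mor_gfs.2 ⟨inf_le_left, haT, a, fun _ _ => rfl⟩
    have hcard : Nat.card T < N₀ := card_lt_of_lt' inf_le_left hlt₂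
    have hfix := (alperin_induction S.2 (gfs_saturated S) (subRel_fixRel S hA_S N₀)
      (fun R₀ hR₀ α hα => by
        have hR₀S : R₀ ≤ (S : Subgroup G) := hR₀.elim (fun e => e.le) fun e => e.1.1
        refine ⟨hR₀S, fun x hx => hR₀S (apl_mem α hx), fun hbig x hx => ?_⟩
        rw [autGroup_gfs hR₀S, mem_autInducedBy_iff] at hα
        obtain ⟨h, -, hh, hhx⟩ := hα
        have hnA : h ∈ Subgroup.normalizer (A : Set G) := by
          rcases hR₀ with rfl | hess
          · exact normalizer_le_dSub _ hh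
          · have hAR : A ≤ R₀ := dSub_le_centric_radical S hst (inD_dSub _) hess.1 hess.2.1
              (essential_radical S.2 (gfs_saturated S) hess)
            have hc2 : Nat.card R₀ ≤ Nat.card (normalizerIn (S : Subgroup G) R₀) :=
              Subgroup.card_le_of_le (le_inf hR₀S Subgroup.le_normalizer)
            have hc3 : Nat.card T < Nat.card (normalizerIn (S : Subgroup G) R₀) := by omega
            have hc4 : Nat.card (normalizerIn (S : Subgroup G) R₀) ≤ Nat.card (S : Subgroup G) :=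
              Subgroup.card_le_of_le inf_le_left
            exact ih (Nat.card (S : Subgroup G) - Nat.card (normalizerIn (S : Subgroup G) R₀))
              (by omega) R₀ le_rfl hAR hess.2.1 hh
        rw [hhx x hx]
        exact (Subgroup.mem_normalizer_iff.1 hnA x).symm) T₂ _ hmor).2.2 le_rfl
    have hAT₂ : A ≤ T₂ := hAX.trans (le_inf hXS Subgroup.le_normalizer)
    have haA : a ∈ Subgroup.normalizer (A : Set G) :=
      Subgroup.mem_normalizer_fintype fun x hx => (hfix x (hAT₂ hx)).2 hx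
    -- move `X` to a fully normalized subgroup
    set X' := X.map (MulAut.conj a).toMonoidHom with hX'
    have hX'S : X' ≤ (S : Subgroup G) := by
      rintro _ ⟨x, hx, rfl⟩
      exact haT x ⟨hXS hx, Subgroup.le_normalizer hx⟩
    have hAX' : A ≤ X' := fun x hx =>
      ⟨a⁻¹ * x * a, hAX ((Subgroup.mem_normalizer_iff''.1 haA x).1 hx),
        by simp [mul_assoc]⟩
    have hN' : Subgroup.normalizer (X' : Set G) =
        (Subgroup.normalizer (X : Set G)).map (MulAut.conj a).toMonoidHom :=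
      (Subgroup.map_equiv_normalizer_eq X (MulAut.conj a)).symm
    have hle : U₀.map (MulAut.conj a).toMonoidHom ≤ Subgroup.normalizer (X' : Set G) :=
      hN' ▸ Subgroup.map_mono hU₀N.1
    set U₁ := U₀.map (MulAut.conj g).toMonoidHom with hU₁
    have hmX : ∀ x, x ∈ X ↔ m * x * m⁻¹ ∈ X := fun x => Subgroup.mem_normalizer_iff.1 hmN x
    have hU₁le : U₁ ≤ normalizerIn (S : Subgroup G) X' := by
      rintro _ ⟨u, hu, rfl⟩
      refine ⟨hg u hu, ?_⟩
      rw [SetLike.mem_coe, hN']
      refine ⟨m⁻¹ * u * m, mul_mem (mul_mem (InvMemClass.inv_mem hmN) (hU₀N.1 hu)) hmN, ?_⟩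
      simp [a, mul_assoc]
    have hfn : (Cfsg.groupFusionSystem (S : Subgroup G)).IsFullyNormalized X' := by
      refine (isFullyNormalized_gfs_iff S hX'S).2 ⟨inf_le_right, fun hd => ?_⟩
      have h1 := hd.trans (Subgroup.relIndex_dvd_of_le_left _ hU₁le)
      have e : Subgroup.normalizer (X' : Set G) =
          (Subgroup.normalizer (X : Set G)).map (MulAut.conj g).toMonoidHom := by
        rw [hN']
        refine le_antisymm ?_ ?_ <;> rintro _ ⟨u, hu, rfl⟩
        · exact ⟨m * u * m⁻¹, mul_mem (mul_mem hmN hu) (InvMemClass.inv_mem hmN), by simp [a, mul_assoc]⟩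
        · exact ⟨m⁻¹ * u * m, mul_mem (mul_mem (InvMemClass.inv_mem hmN) hu) hmN, by simp [a, mul_assoc]⟩
      rw [e, hU₁, Subgroup.relIndex_map_map_of_injective _ _ (MulAut.conj g).injective] at h1
      exact hU₀N.2 h1
    have hbig : N₀ ≤ Nat.card (normalizerIn (S : Subgroup G) X') := by
      refine le_trans ?_ (Subgroup.card_le_of_le hU₁le)
      rw [hU₁, Subgroup.card_map_of_injective (MulAut.conj g).injective]
      exact card_le_of_sylIn hU₀ hU₀N (isPGroup_normalizerIn S X) inf_le_right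
    have hc4 : Nat.card (normalizerIn (S : Subgroup G) X') ≤ Nat.card (S : Subgroup G) :=
      Subgroup.card_le_of_le inf_le_left
    have hnor := ih (Nat.card (S : Subgroup G) - Nat.card (normalizerIn (S : Subgroup G) X'))
      (by omega) X' le_rfl hAX' hfn
    intro x hx
    have h1 : a * x * a⁻¹ ∈ Subgroup.normalizer (A : Set G) :=
      hnor (hN' ▸ ⟨x, hx, rfl⟩)
    have := mul_mem (mul_mem (InvMemClass.inv_mem haA) h1) haA
    simpa [mul_assoc] using this
  intro h hh
  obtain ⟨c, hc, m, hm, rfl⟩ := hfrU h hh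
  refine mul_mem ?_ (hXA (hWX ▸ hNW hm))
  refine Subgroup.centralizer_le_normalizer _ (Subgroup.centralizer_le (self_le_conjSup H A) hc)

/-- **`D*(S)` is normal in a p-stable group fusion system.** -/
theorem isNormal_dSub (S : Sylow p G) (hst : FStable S) :
    (Cfsg.groupFusionSystem (S : Subgroup G)).IsNormal (dSub (S : Subgroup G)) := by
  refine (isNormal_iff_essential S.2 (gfs_saturated S)).2 fun R hR => ?_
  have hA := inD_dSub (S : Subgroup G)
  have hAR : dSub (S : Subgroup G) ≤ R := by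
    rcases hR with rfl | hess
    · exact hA.le
    · exact dSub_le_centric_radical S hst hA hess.1 hess.2.1
        (essential_radical S.2 (gfs_saturated S) hess)
  have hRS : R ≤ (S : Subgroup G) := hR.elim (fun e => e.le) fun e => e.1.1
  refine ⟨hAR, fun α hα => invariant_of_apl fun x hx => ?_⟩
  rw [autGroup_gfs hRS, mem_autInducedBy_iff] at hα
  obtain ⟨h, -, hh, hhx⟩ := hα
  have hnA : h ∈ Subgroup.normalizer (dSub (S : Subgroup G) : Set G) := by
    rcases hR with rfl | hess
    · exact normalizer_le_dSub _ hh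
    · exact normalizer_le_of_fullyNormalized S hst _ R le_rfl hAR hess.2.1 hh
  rw [hhx x hx]
  exact (Subgroup.mem_normalizer_iff.1 hnA x).symm

theorem dSub_ne_bot (S : Sylow p G) (hS : (S : Subgroup G) ≠ ⊥) : dSub (S : Subgroup G) ≠ ⊥ := by
  haveI : Nontrivial (S : Subgroup G) := (Subgroup.nontrivial_iff_ne_bot _).2 hS
  haveI := S.2.center_nontrivial
  obtain ⟨z, hz⟩ := exists_ne (1 : Subgroup.center (S : Subgroup G))
  intro h
  have hmem : ((z : (S : Subgroup G)) : G) ∈ dSub (S : Subgroup G) :=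
    le_dSub (inD_center (S : Subgroup G)) ⟨(z : (S : Subgroup G)).2, fun y hy =>
      congrArg Subtype.val (Subgroup.mem_center_iff.1 z.2 ⟨y, hy⟩)⟩
  rw [h, Subgroup.mem_bot] at hmem
  exact hz (Subtype.ext (Subtype.ext hmem))

end Cfsg.Agent.FusSys.DSub
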