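import Cfsg.Agent.FusSys.DSubLift

/-!
A p-stable group fusion system is constrained for `p > 3`.
-/

set_option autoImplicit false

namespace Cfsg.Agent.FusSys.DSub

open Cfsg Cfsg.FusionSystem Cfsg.Agent.FusSys

universe u v

variable {G : Type u} [Group G]

theorem InD.map_equiv {H : Type v} [Group H] {T A : Subgroup G} (h : InD T A) (e : G ≃* H) :
    InD (T.map e.toMonoidHom) (A.map e.toMonoidHom) := by
  refine ⟨Subgroup.map_mono h.le, ?_, ?_, ?_⟩
  · rintro _ ⟨x, hx, rfl⟩ _ ⟨a, ha, rfl⟩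
    exact ⟨_, h.conj x hx a ha, by simp⟩
  · rintro _ ⟨a, ha, rfl⟩ _ ⟨b, hb, rfl⟩
    exact (h.comm a ha b hb).map _
  · rintro _ ⟨x, hx, rfl⟩ hsm _ ⟨a, ha, rfl⟩
    refine (h.cent x hx (fun c hc => ?_) a ha).map _
    have h1 := hsm _ (Subgroup.mem_map_of_mem _ hc)
    rw [← map_inv, ← map_mul, ← map_mul, ← map_inv, ← map_mul] at h1
    exact Commute.of_map e.injective h1

theorem normalizer_le_normalizer_centralizer (R : Subgroup G) :
    Subgroup.normalizer (R : Set G) ≤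
      Subgroup.normalizer (Subgroup.centralizer (R : Set G) : Set G) :=
  le_normalizer_of_conj fun g hg c hc => Subgroup.mem_centralizer_iff.2 fun w hw => by
    have h1 := Subgroup.mem_centralizer_iff.1 hc (g⁻¹ * w * g)
      ((Subgroup.mem_normalizer_iff''.1 hg w).1 hw)
    calc w * (g * c * g⁻¹) = g * (g⁻¹ * w * g * c) * g⁻¹ := by group
      _ = g * (c * (g⁻¹ * w * g)) * g⁻¹ := by rw [h1]
      _ = _ := by group

variable [Finite G] {p : ℕ} [Fact p.Prime]

theorem isConstrained_of_qStable (hp : 3 < p) (S : Sylow p G) (hq : QStable p G) :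
    (Cfsg.groupFusionSystem (S : Subgroup G)).IsConstrained p := by
  classical
  set F := Cfsg.groupFusionSystem (S : Subgroup G) with hF
  set R := F.core with hR
  have hRn : F.IsNormal R := isNormal_core
  have hRS : R ≤ (S : Subgroup G) := hRn.1
  have hsc := stronglyClosed_of_isNormal hRn
  have hSR : (S : Subgroup G) ≤ Subgroup.normalizer (R : Set G) := StronglyClosed.le_normalizer hsc
  have hconj : ∀ Q, F.IsConj R Q → Q = R := fun Q hQ => by
    obtain ⟨f, hf⟩ := isConj_iff.1 hQ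
    refine le_antisymm (fun y hy => ?_) fun y hy => ?_
    · obtain ⟨x, hx, rfl⟩ := hf.exists_eq hy
      exact StronglyClosed.mor_mem hsc hf.1 hx hx
    · have hc : Nat.card R ≤ Nat.card Q := le_of_eq hf.card_eq
      have hQR : Q ≤ R := fun z hz => by
        obtain ⟨x, hx, rfl⟩ := hf.exists_eq hz
        exact StronglyClosed.mor_mem hsc hf.1 hx hx
      exact (eq_of_le_of_card hRS hQR hc : Q = R).symm ▸ hy
  refine ⟨gfs_saturated S, R, hRn, hRS, fun Q hQ => ?_⟩
  rw [hconj Q hQ]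
  by_contra hnot
  set C := Subgroup.centralizer (R : Set G) with hC
  set P₁ := centralizerIn (S : Subgroup G) R with hP₁
  have hfn : F.IsFullyNormalized R := ⟨hRS, fun Q hQ => by rw [hconj Q hQ]⟩
  have hsyl : SylIn p P₁ C :=
    sylIn_centralizer_of_normalizer S ((isFullyNormalized_gfs_iff S hRS).1 hfn)
  have hP₁p : IsPGroup p P₁ := isPGroup_centralizerIn S R
  obtain ⟨T, hT⟩ := (sylIn_iff hP₁p hsyl.1).1 hsyl
  set Z := R.subgroupOf C with hZ
  have hZc : Z ≤ Subgroup.center C := fun z hz => Subgroup.mem_center_iff.2 fun c => Subtype.ext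
    (Subgroup.mem_centralizer_iff.1 c.2 z hz).symm
  haveI hZn : Z.Normal := ⟨fun z hz c => by
    rw [(Subgroup.mem_center_iff.1 (hZc hz) c), mul_inv_cancel_right]; exact hz⟩
  have hZp : IsPGroup p Z := (S.2.to_le hRS).comap_subtype
  set π := QuotientGroup.mk' Z with hπ
  have hπs : Function.Surjective π := QuotientGroup.mk'_surjective Z
  set T₁ : Sylow p (C ⧸ Z) := T.mapSurjective hπs with hT₁
  have hT₁eq : (T₁ : Subgroup (C ⧸ Z)) = (P₁.subgroupOf C).map π := by
    rw [hT₁, Sylow.coe_mapSurjective, hT]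
  have hst := fStable_of_qStable (qStable_quotient hp (qStable_subgroup hq C) Z hZp hZc) T₁
  set B₀ := dSub (T₁ : Subgroup (C ⧸ Z)) with hB₀
  have hB₀D : InD (T₁ : Subgroup (C ⧸ Z)) B₀ := inD_dSub _
  have hB₀sc := stronglyClosed_of_isNormal (isNormal_dSub T₁ hst)
  set B := (B₀.comap π).map C.subtype with hB
  have hmemP₁ : ∀ c : C, π c ∈ (T₁ : Subgroup (C ⧸ Z)) → (c : G) ∈ P₁ := by
    intro c hc
    have h1 : c ∈ ((P₁.subgroupOf C).map π).comap π := hT₁eq ▸ hc
    rw [Subgroup.comap_map_eq, QuotientGroup.ker_mk', sup_eq_left.2 (fun (z : C) hz =>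
      (⟨hRS hz, z.2⟩ : (z : G) ∈ P₁))] at h1
    exact h1
  have hBP : B ≤ P₁ := by
    rintro _ ⟨c, hc, rfl⟩
    exact hmemP₁ c (hB₀D.le hc)
  have hBR : ¬ B ≤ R := by
    intro hle
    apply dSub_ne_bot T₁ ?_
    · refine (Subgroup.eq_bot_iff_forall _).2 fun y hy => ?_
      obtain ⟨c, rfl⟩ := hπs y
      exact (QuotientGroup.eq_one_iff c).2 (hle ⟨c, hy, rfl⟩)
    · intro hbot
      apply hnot
      intro x hx
      have h1 : π ⟨x, hx.2⟩ ∈ (T₁ : Subgroup (C ⧸ Z)) := hT₁eq ▸ ⟨⟨x, hx.2⟩, hx, rfl⟩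
      rw [hbot, Subgroup.mem_bot] at h1
      exact (QuotientGroup.eq_one_iff (N := Z) _).1 h1
  -- elements normalizing `R` and `P₁` preserve `B`
  have hequiv : ∀ m ∈ Subgroup.normalizer (R : Set G),
      m ∈ Subgroup.normalizer (P₁ : Set G) → ∀ b ∈ B, m * b * m⁻¹ ∈ B := by
    intro m hmR hmP b hb
    have hmC := normalizer_le_normalizer_centralizer R hmR
    set e : MulAut C := C.normalizerMonoidHom ⟨m, hmC⟩ with he
    have hec : ∀ c : C, ((e c : C) : G) = m * c * m⁻¹ := fun c => rfl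
    have hmap : ∀ (H : Subgroup G), (∀ x, x ∈ H ↔ m * x * m⁻¹ ∈ H) →
        (H.subgroupOf C).map e.toMonoidHom = H.subgroupOf C := by
      intro H hH
      ext c
      constructor
      · rintro ⟨d, hd, rfl⟩
        show ((e d : C) : G) ∈ H
        rw [hec]
        exact (hH d).1 hd
      · intro hc
        refine ⟨e.symm c, ?_, e.apply_symm_apply c⟩
        show ((e.symm c : C) : G) ∈ H
        rw [hH, ← hec, e.apply_symm_apply]
        exact hc
    have hZe := hmap R fun x => Subgroup.mem_normalizer_iff.1 hmR x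
    have hPe := hmap P₁ fun x => Subgroup.mem_normalizer_iff.1 hmP x
    set e' : C ⧸ Z ≃* C ⧸ Z := QuotientGroup.congr Z Z e hZe with he'
    have hT₁e : (T₁ : Subgroup (C ⧸ Z)).map e'.toMonoidHom = T₁ := by
      rw [hT₁eq, Subgroup.map_map]
      conv_rhs => rw [← hPe, Subgroup.map_map]
      rfl
    have hD := hB₀D.map_equiv e'
    rw [hT₁e] at hD
    obtain ⟨c, hc, rfl⟩ := hb
    refine ⟨e c, ?_, hec c⟩
    exact le_dSub hD ⟨π c, hc, rfl⟩
  -- inside `P₁` they stay in `B`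
  have hkey : ∀ h ∈ Subgroup.normalizer (R : Set G), ∀ b ∈ B, h * b * h⁻¹ ∈ P₁ →
      h * b * h⁻¹ ∈ B := by
    intro h hh b hb hb'
    have hhC := normalizer_le_normalizer_centralizer R hh
    have hA : P₁.map (MulAut.conj h).toMonoidHom ≤ C := by
      rintro _ ⟨x, hx, rfl⟩
      exact (Subgroup.mem_normalizer_iff.1 hhC x).1 hx.2
    obtain ⟨c, hc, hcm⟩ := exists_conj_mem_of_sylIn hP₁p hsyl (hP₁p.map _) hA
    have hm : c * h ∈ Subgroup.normalizer (P₁ : Set G) := by
      refine Subgroup.mem_normalizer_fintype fun x hx => ?_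
      have := hcm _ (Subgroup.mem_map_of_mem (MulAut.conj h).toMonoidHom hx)
      simp only [MulEquiv.coe_toMonoidHom, MulAut.conj_apply] at this
      show c * h * x * (c * h)⁻¹ ∈ P₁
      convert this using 1
      group
    have hmR : c * h ∈ Subgroup.normalizer (R : Set G) :=
      mul_mem (Subgroup.centralizer_le_normalizer (R : Set G) hc) hh
    obtain ⟨b₁, hb₁, hb₁e⟩ := hequiv _ hmR hm b hb
    have hb₁e' : (b₁ : G) = c * h * b * (c * h)⁻¹ := hb₁e
    set d : C := ⟨c, hc⟩⁻¹ * b₁ * ⟨c, hc⟩ with hd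
    have hdG : (d : G) = h * b * h⁻¹ := by
      rw [hd, Subgroup.coe_mul, Subgroup.coe_mul, Subgroup.coe_inv, hb₁e']
      group
    refine ⟨d, ?_, hdG⟩
    have hdT : π d ∈ (T₁ : Subgroup (C ⧸ Z)) := by
      rw [hT₁eq]
      exact ⟨d, show (d : G) ∈ P₁ by rw [hdG]; exact hb', rfl⟩
    have hb₁T : π b₁ ∈ (T₁ : Subgroup (C ⧸ Z)) := hB₀D.le hb₁
    have hmor : Mor (Cfsg.groupFusionSystem (T₁ : Subgroup (C ⧸ Z))) (Subgroup.zpowers (π b₁))
        (fun x => (π ⟨c, hc⟩)⁻¹ * x * π ⟨c, hc⟩) := by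
      refine mor_gfs.2 ⟨Subgroup.zpowers_le.2 hb₁T, ?_, (π ⟨c, hc⟩)⁻¹, fun x _ => by rw [inv_inv]⟩
      intro x hx
      have hle : Subgroup.zpowers (π b₁) ≤
          (T₁ : Subgroup (C ⧸ Z)).comap (MulAut.conj (π ⟨c, hc⟩)⁻¹).toMonoidHom := by
        refine Subgroup.zpowers_le.2 ?_
        show (π ⟨c, hc⟩)⁻¹ * π b₁ * ((π ⟨c, hc⟩)⁻¹)⁻¹ ∈ (T₁ : Subgroup (C ⧸ Z))
        rw [inv_inv, ← map_inv, ← map_mul, ← map_mul]
        exact hdT
      have := hle hx
      simpa using this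
    have h2 := StronglyClosed.mor_mem hB₀sc hmor (Subgroup.mem_zpowers _) hb₁
    show π d ∈ B₀
    rw [hd, map_mul, map_mul, map_inv]
    exact h2
  have hSn : ∀ s ∈ (S : Subgroup G), s ∈ Subgroup.normalizer (P₁ : Set G) := fun s hs =>
    le_normalizer_of_conj (T := (S : Subgroup G)) (A := P₁) (fun t ht a ha =>
      ⟨mul_mem (mul_mem ht ha.1) (Subgroup.inv_mem _ ht),
        (Subgroup.mem_normalizer_iff.1 (normalizer_le_normalizer_centralizer R (hSR ht)) a).1 ha.2⟩) hs
  -- `B` is normal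
  apply hBR
  refine le_core ((isNormal_iff_essential S.2 (gfs_saturated S)).2 fun E hE => ?_)
  have hES : E ≤ (S : Subgroup G) := hE.elim (fun e => e.le) fun e => e.1.1
  have hRE : R ≤ E := ((isNormal_iff_essential S.2 (gfs_saturated S)).1 hRn E hE).1
  have hNE : Subgroup.normalizer (E : Set G) ≤ Subgroup.normalizer (R : Set G) :=
    le_normalizer_of_conj fun h hh r hr => by
      have hmor : Mor F E (fun x => h * x * h⁻¹) := mor_gfs.2
        ⟨hES, fun x hx => hES ((Subgroup.mem_normalizer_iff.1 hh x).1 hx), h, fun _ _ => rfl⟩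
      exact StronglyClosed.mor_mem hsc hmor (hRE hr) hr
  have hBE : B ≤ E := by
    rcases hE with rfl | hess
    · exact hBP.trans inf_le_left
    have hEB : E ≤ Subgroup.normalizer (B : Set G) := le_normalizer_of_conj fun a ha b hb =>
      hequiv a (hSR (hES ha)) (hSn a (hES ha)) b hb
    by_contra hne
    have hlt : E < E ⊔ B := lt_of_le_of_ne le_sup_left fun h => hne (h ▸ le_sup_right)
    obtain ⟨z, ⟨hz, hzn⟩, hzE⟩ :=
      SetLike.exists_of_lt (lt_inf_normalizer S.2 (sup_le hES (hBP.trans inf_le_left)) hlt)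
    have hz' : z ∈ ((E ⊔ B : Subgroup G) : Set G) := hz
    rw [Subgroup.coe_mul_of_left_le_normalizer_right _ _ hEB] at hz'
    obtain ⟨q, hq', b, hb, rfl⟩ := hz'
    have hbn : b ∈ Subgroup.normalizer (E : Set G) := by
      have := mul_mem (Subgroup.inv_mem _ (Subgroup.le_normalizer hq' : q ∈ _)) hzn
      rwa [inv_mul_cancel_left] at this
    refine hzE (mul_mem hq' ?_)
    have hbS : b ∈ (S : Subgroup G) := (hBP hb).1
    have hmem : b ∈ opMod p E := by
      refine mem_opMod_of_smMod (Z := R ⊓ C) (C := C) hp hq (S.2.to_le hES) hbn (hBP hb).2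
        (hNE.trans (normalizer_le_normalizer_centralizer R))
        (fun g hg => le_normalizer_of_conj (T := Subgroup.normalizer (E : Set G)) (A := R ⊓ C) (fun m hm a ha =>
          ⟨(Subgroup.mem_normalizer_iff.1 (hNE hm) a).1 ha.1,
            (Subgroup.mem_normalizer_iff.1 (normalizer_le_normalizer_centralizer R (hNE hm)) a).1
              ha.2⟩) hg)
        (Subgroup.le_centralizer_iff.1 (inf_le_left.trans (Subgroup.le_centralizer_iff.1 le_rfl)))
        fun a ha => ?_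
      have hc1 : cm b a ∈ B := by
        have h1 := (Subgroup.mem_normalizer_iff.1 (hEB ha) b⁻¹).1 (Subgroup.inv_mem _ hb)
        have e : cm b a = b * (a * b⁻¹ * a⁻¹) := by rw [cm]; group
        rw [e]
        exact mul_mem hb h1
      obtain ⟨b₀, hb₀, rfl⟩ := hb
      obtain ⟨c₀, hc₀, hc₀e⟩ := hc1
      rw [← hc₀e]
      show cm (b₀ : G) (c₀ : G) ∈ R ⊓ C
      have h2 : π (b₀ * c₀ * b₀⁻¹ * c₀⁻¹) = 1 := by
        rw [map_mul, map_mul, map_mul, map_inv, map_inv, (hB₀D.comm _ hb₀ _ hc₀).eq,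
          mul_inv_cancel_right, mul_inv_cancel]
      exact ⟨(QuotientGroup.eq_one_iff (N := Z) _).1 h2, (b₀ * c₀ * b₀⁻¹ * c₀⁻¹).2⟩
    have hrad := essential_radical S.2 (gfs_saturated S) hess
    have h1 := (mem_opMod hbn).1 hmem
    have h2 : E.normalizerMonoidHom ⟨b, hbn⟩ ∈ Inn E := by
      rw [← hrad.2, autGroup_eq_range S hES]
      exact ⟨_, h1, rfl⟩
    exact mem_of_conj_mem_inn (centric_self hess.1) hES hbS
      (fun y hy => apl_normalizerMonoidHom ⟨b, hbn⟩ hy) h2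
  refine ⟨hBE, fun α hα => invariant_of_apl fun x hx => ?_⟩
  rw [autGroup_gfs hES, mem_autInducedBy_iff] at hα
  obtain ⟨h, -, hh, hhx⟩ := hα
  rw [hhx x hx]
  have hfwd : ∀ g ∈ Subgroup.normalizer (E : Set G), ∀ b ∈ B, g * b * g⁻¹ ∈ B := fun g hg b hb =>
    hkey g (hNE hg) b hb ⟨hES ((Subgroup.mem_normalizer_iff.1 hg b).1 (hBE hb)),
      (Subgroup.mem_normalizer_iff.1 (normalizer_le_normalizer_centralizer R (hNE hg)) b).1 (hBP hb).2⟩
  exact (Subgroup.mem_normalizer_iff.1 (le_normalizer_of_conj hfwd hh) x).symm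

end Cfsg.Agent.FusSys.DSub
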