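import Cfsg.Agent.QdFree.Section
import Cfsg.Agent.Fusion.Residual

/-!
Two quadratic elements generating an irreducible linear group that is not a `p`-group, `p > 3`:
the group acts as `SL₂(F)` on a two-dimensional space, so it has an element acting as `-1` and a
quadratic element outside every normal subgroup with `p`-group image, both in the `p`-residual.
-/

set_option autoImplicit false

namespace Cfsg.Agent.FusSys.DSub

open Matrix
open Cfsg.Agent.RootSub.Dickson

universe u v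

variable {p : ℕ} [Fact p.Prime]

theorem exists_pResidual_lift {K : Type u} [Group K] [Finite K] {M : Type v} [Monoid M] (ρ : K →* M)
    (k : K) {m : M} (hm : ρ k = m) (hfix : m ^ p = m) :
    ∃ d ∈ Cfsg.pResidual p K, ρ d = m := by
  obtain ⟨i, n, hn, hin⟩ := Nat.exists_eq_pow_mul_and_not_dvd (orderOf_pos k).ne' p
    (Fact.out : p.Prime).ne_one
  refine ⟨k ^ p ^ i, Cfsg.Agent.Fusion.mem_pResidual_of_coprime ?_, ?_⟩
  · rw [orderOf_pow, hin, Nat.gcd_mul_right_left,
      Nat.mul_div_cancel_left _ (pow_pos (Fact.out : p.Prime).pos i)]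
    exact ((Fact.out : p.Prime).coprime_iff_not_dvd.2 hn).symm
  · rw [map_pow, hm]
    clear hin
    induction i with
    | zero => rw [pow_zero, pow_one]
    | succ i ih => rw [pow_succ, pow_mul, ih, hfix]

theorem exists_elements (hp : 3 < p) {W : Type u} [AddCommGroup W] [Finite W] [Nontrivial W]
    (hpW : ∀ w : W, p • w = 0) {K : Type v} [Group K] [Finite K] (ρ : K →* AddMonoid.End W) {x y : K}
    (hgen : Subgroup.closure ({x, y} : Set K) = ⊤) (hx : (ρ x - 1) * (ρ x - 1) = 0)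
    (hy : (ρ y - 1) * (ρ y - 1) = 0)
    (hirr : ∀ U : AddSubgroup W, (∀ w ∈ U, ρ x w ∈ U) → (∀ w ∈ U, ρ y w ∈ U) → U = ⊥ ∨ U = ⊤)
    (hnp : ¬ ∀ g : K, ∃ j, ρ (g ^ p ^ j) = 1) :
    ∃ t u : K, t ∈ Cfsg.pResidual p K ∧ u ∈ Cfsg.pResidual p K ∧ ρ t = -1 ∧
      (ρ u - 1) * (ρ u - 1) = 0 ∧
      ∀ N : Subgroup K, N.Normal → ∀ u' ∈ N, ρ u' = ρ u → ∃ g ∈ N, ∀ j, ρ (g ^ p ^ j) ≠ 1 := by
  classical
  haveI : Finite (AddMonoid.End W) :=
    Finite.of_injective (fun f : AddMonoid.End W => (f : W → W)) DFunLike.coe_injective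
  set a := ρ x - 1 with ha_def
  set b := ρ y - 1 with hb_def
  have hxa : ρ x = 1 + a := by rw [ha_def, add_sub_cancel]
  have hyb : ρ y = 1 + b := by rw [hb_def, add_sub_cancel]
  have h0 : ((p : ℕ) : AddMonoid.End W) = 0 := by
    refine DFunLike.ext _ _ fun w => ?_
    rw [AddMonoid.End.natCast_apply, hpW]
    rfl
  set c := a * b + b * a with hc_def
  have hac : a * c = c * a := by
    rw [hc_def, mul_add, add_mul, ← mul_assoc, hx, zero_mul, zero_add, mul_assoc b a a, hx,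
      mul_zero, add_zero, mul_assoc]
  have hbc : b * c = c * b := by
    rw [hc_def, mul_add, add_mul, ← mul_assoc b b a, hy, zero_mul, add_zero, mul_assoc a b b, hy,
      mul_zero, zero_add, mul_assoc]
  -- Schur
  have hker : ∀ z : AddMonoid.End W, a * z = z * a → b * z = z * b → z = 0 ∨ ∀ w, z w = 0 → w = 0 := by
    intro z hza hzb
    have hxU : ∀ w, z w = 0 → z (ρ x w) = 0 := fun w hw => by
      have hw' : z w = 0 := hw
      have h1 : (a * z) w = (z * a) w := by rw [hza]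
      change a (z w) = z (a w) at h1
      rw [hxa, show (1 + a : AddMonoid.End W) w = w + a w from rfl, map_add, hw', ← h1, hw',
        map_zero, add_zero]
    have hyU : ∀ w, z w = 0 → z (ρ y w) = 0 := fun w hw => by
      have hw' : z w = 0 := hw
      have h1 : (b * z) w = (z * b) w := by rw [hzb]
      change b (z w) = z (b w) at h1
      rw [hyb, show (1 + b : AddMonoid.End W) w = w + b w from rfl, map_add, hw', ← h1, hw',
        map_zero, add_zero]
    rcases hirr (AddMonoidHom.ker (z : W →+ W)) hxU hyU with h | h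
    · exact Or.inr fun w hw => by
        have : w ∈ AddMonoidHom.ker (z : W →+ W) := hw
        rwa [h, AddSubgroup.mem_bot] at this
    · refine Or.inl (DFunLike.ext _ _ fun w => ?_)
      have : w ∈ AddMonoidHom.ker (z : W →+ W) := h ▸ AddSubgroup.mem_top w
      exact this
  have hc0 : c ≠ 0 := by
    intro hc
    have hba : b * a = -(a * b) := by
      rw [eq_neg_iff_add_eq_zero, add_comm]
      exact hc
    have hnil : IsNilpotent (a * b) := ⟨2, by
      rw [pow_two, mul_assoc, ← mul_assoc b a b, hba, neg_mul, mul_assoc a b b, hy, mul_zero, neg_zero,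
        mul_zero]⟩
    set σ := ρ.toHomUnits
    set x' : σ.range := ⟨σ x, x, rfl⟩
    set y' : σ.range := ⟨σ y, y, rfl⟩
    have hg' : Subgroup.closure ({x', y'} : Set σ.range) = ⊤ := by
      have h1 := congrArg (Subgroup.map σ.rangeRestrict) hgen
      rwa [MonoidHom.map_closure, Set.image_pair,
        Subgroup.map_top_of_surjective _ σ.rangeRestrict_surjective] at h1
    have hP := QdFree.isPGroup_of_pair h0 ((Units.coeHom _).comp σ.range.subtype)
      (Units.val_injective.comp Subtype.val_injective) hg' (x := x') (y := y') hxa hyb hx hy hnil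
    refine hnp fun g => ?_
    obtain ⟨j, hj⟩ := hP (σ.rangeRestrict g)
    refine ⟨j, ?_⟩
    rw [map_pow]
    exact congrArg (fun z : σ.range => ((z : (AddMonoid.End W)ˣ) : AddMonoid.End W)) hj
  have hcinj : ∀ w, c w = 0 → w = 0 := (hker c hac hbc).resolve_left hc0
  -- the field of scalars
  set C := Subring.closure ({c} : Set (AddMonoid.End W)) with hC
  have hcC : c ∈ C := Subring.subset_closure rfl
  have hcent : ∀ z ∈ C, a * z = z * a ∧ b * z = z * b := by
    intro z hz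
    have hle : C ≤ Subring.centralizer ({a, b} : Set (AddMonoid.End W)) := by
      refine Subring.closure_le.2 ?_
      rintro _ rfl
      rw [SetLike.mem_coe, Subring.mem_centralizer_iff]
      rintro g (rfl | rfl)
      · exact hac
      · exact hbc
    exact ⟨(Subring.mem_centralizer_iff.1 (hle hz)) a (Or.inl rfl),
      (Subring.mem_centralizer_iff.1 (hle hz)) b (Or.inr rfl)⟩
  have hcomm : ∀ u ∈ ({c} : Set (AddMonoid.End W)), ∀ w ∈ ({c} : Set (AddMonoid.End W)),
      u * w = w * u := by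
    rintro u rfl w rfl; rfl
  have := Subring.isMulCommutative_closure hcomm
  letI : CommRing C := { (inferInstance : Ring C) with
    mul_comm := fun u w => IsMulCommutative.is_comm.comm u w }
  have hinj : ∀ z : C, z ≠ 0 → ∀ w, (z : AddMonoid.End W) w = 0 → w = 0 := fun z hz =>
    (hker z (hcent z z.2).1 (hcent z z.2).2).resolve_left fun h => hz (Subtype.ext h)
  haveI : Nontrivial C := by
    refine ⟨⟨0, 1, fun h => ?_⟩⟩
    obtain ⟨w, hw⟩ := exists_ne (0 : W)
    exact hw (show (1 : AddMonoid.End W) w = 0 from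
      (congrArg (fun z : C => (z : AddMonoid.End W) w) h).symm)
  haveI : NoZeroDivisors C := ⟨fun {u w} h => by
    by_contra hcon
    push Not at hcon
    apply hcon.2
    refine Subtype.ext (DFunLike.ext _ _ fun m => hinj u hcon.1 _ ?_)
    exact congrArg (fun z : C => (z : AddMonoid.End W) m) h⟩
  haveI : IsDomain C := NoZeroDivisors.to_isDomain C
  letI : Field C := (Finite.isField_of_domain C).toField
  haveI : CharP C p := (CharP.charP_iff_prime_eq_zero (Fact.out : p.Prime)).2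
    (Subtype.ext (by simpa using h0))
  set lam : C := ⟨c, hcC⟩ with hlam_def
  have hlam : lam ≠ 0 := fun h => hc0 (congrArg Subtype.val h)
  have hlamgen : Subring.closure ({lam} : Set C) = ⊤ := by
    rw [eq_top_iff]
    rintro ⟨z, hz⟩ -
    induction hz using Subring.closure_induction with
    | mem u hu =>
      rw [Set.mem_singleton_iff] at hu
      subst hu
      exact Subring.subset_closure rfl
    | zero => exact zero_mem _
    | one => exact one_mem _
    | add u w hu hw ihu ihw => exact add_mem ihu ihw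
    | neg u hu ihu => exact neg_mem ihu
    | mul u w hu hw ihu ihw => exact mul_mem ihu ihw
  -- the coordinates
  have ha0 : a ≠ 0 := fun h => hc0 (by rw [hc_def, h, zero_mul, mul_zero, add_zero])
  obtain ⟨m₀, hm₀⟩ : ∃ m, a m ≠ 0 := by
    by_contra hcon
    push Not at hcon
    exact ha0 (DFunLike.ext _ _ hcon)
  set w₀ := a m₀ with hw₀
  have haw : a w₀ = 0 := show (a * a) m₀ = 0 by rw [hx]; rfl
  have habw : a (b w₀) = c w₀ := by
    show a (b w₀) = a (b w₀) + b (a w₀)
    rw [haw, map_zero, add_zero]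
  let Φ : (Fin 2 → C) → W := fun v =>
    (v 0 : AddMonoid.End W) (b w₀) + (v 1 : AddMonoid.End W) w₀
  have hΦsub : ∀ v w, Φ (v - w) = Φ v - Φ w := fun v w => by
    show ((v 0 - w 0 : C) : AddMonoid.End W) (b w₀) + ((v 1 - w 1 : C) : AddMonoid.End W) w₀ = _
    rw [AddSubgroupClass.coe_sub, AddSubgroupClass.coe_sub]
    show (v 0 : AddMonoid.End W) (b w₀) - (w 0 : AddMonoid.End W) (b w₀) +
      ((v 1 : AddMonoid.End W) w₀ - (w 1 : AddMonoid.End W) w₀) = _
    simp only [Φ]
    abel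
  have hap : ∀ (z : C) (m : W), a ((z : AddMonoid.End W) m) = (z : AddMonoid.End W) (a m) :=
    fun z m => congrArg (fun f : AddMonoid.End W => f m) (hcent z z.2).1
  have hbp : ∀ (z : C) (m : W), b ((z : AddMonoid.End W) m) = (z : AddMonoid.End W) (b m) :=
    fun z m => congrArg (fun f : AddMonoid.End W => f m) (hcent z z.2).2
  have hX : ∀ v, ρ x (Φ v) = Φ ((lowR lam : SpecialLinearGroup (Fin 2) C).1.mulVec v) := by
    intro v
    have e : (lowR lam : SpecialLinearGroup (Fin 2) C).1.mulVec v = ![v 0, lam * v 0 + v 1] := by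
      funext i
      fin_cases i <;> simp [coe_lowR, Matrix.mulVec, dotProduct, Fin.sum_univ_two]
    rw [e, hxa]
    show Φ v + a (Φ v) = (v 0 : AddMonoid.End W) (b w₀) + ((lam * v 0 + v 1 : C) : AddMonoid.End W) w₀
    have e2 : ((lam * v 0 + v 1 : C) : AddMonoid.End W) w₀ =
        (v 0 : AddMonoid.End W) (c w₀) + (v 1 : AddMonoid.End W) w₀ := by
      rw [mul_comm lam]; rfl
    rw [e2]
    simp only [Φ, map_add, hap, haw, habw, map_zero, add_zero]
    abel
  have hY : ∀ v, ρ y (Φ v) = Φ ((upR 1 : SpecialLinearGroup (Fin 2) C).1.mulVec v) := by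
    intro v
    have e : (upR 1 : SpecialLinearGroup (Fin 2) C).1.mulVec v = ![v 0 + v 1, v 1] := by
      funext i
      fin_cases i <;> simp [coe_upR, Matrix.mulVec, dotProduct, Fin.sum_univ_two]
    rw [e, hyb]
    show Φ v + b (Φ v) = ((v 0 + v 1 : C) : AddMonoid.End W) (b w₀) + (v 1 : AddMonoid.End W) w₀
    have hbb : b (b w₀) = 0 := show (b * b) w₀ = 0 by rw [hy]; rfl
    have e2 : ((v 0 + v 1 : C) : AddMonoid.End W) (b w₀) =
        (v 0 : AddMonoid.End W) (b w₀) + (v 1 : AddMonoid.End W) (b w₀) := rfl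
    rw [e2]
    simp only [Φ, map_add, hbp, hbb, map_zero]
    abel
  have hΦinj : ∀ v, Φ v = 0 → v = 0 := by
    intro v hv
    have h1 := congrArg a hv
    simp only [Φ, map_add, hap, haw, habw, map_zero, add_zero] at h1
    have hv0 : v 0 = 0 := by
      by_contra hne
      have := hcinj _ (hinj _ hne _ h1)
      exact hm₀ this
    simp only [Φ, hv0, ZeroMemClass.coe_zero] at hv
    have hv' : (v 1 : AddMonoid.End W) w₀ = 0 := by
      rwa [show (0 : AddMonoid.End W) (b w₀) = 0 from rfl, zero_add] at hv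
    have hv1 : v 1 = 0 := by
      by_contra hne
      exact hm₀ (hinj _ hne _ hv')
    funext i
    fin_cases i
    · exact hv0
    · exact hv1
  have hΦ0 : Φ 0 = 0 := by simpa using hΦsub 0 0
  have hΦneg : ∀ v, Φ (-v) = -Φ v := fun v => by
    rw [← zero_sub, hΦsub, hΦ0, zero_sub]
  have hΦadd : ∀ v w, Φ (v + w) = Φ v + Φ w := fun v w => by
    have := hΦsub (v + w) w
    rw [add_sub_cancel_right] at this
    exact (sub_eq_iff_eq_add.mp this.symm)
  have hΦsurj : ∀ m, ∃ v, Φ v = m := by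
    let U : AddSubgroup W :=
      { carrier := Set.range Φ
        zero_mem' := ⟨0, hΦ0⟩
        add_mem' := by rintro _ _ ⟨v, rfl⟩ ⟨w, rfl⟩; exact ⟨v + w, hΦadd v w⟩
        neg_mem' := by rintro _ ⟨v, rfl⟩; exact ⟨-v, hΦneg v⟩ }
    rcases hirr U (by rintro _ ⟨v, rfl⟩; exact ⟨_, (hX v).symm⟩)
        (by rintro _ ⟨v, rfl⟩; exact ⟨_, (hY v).symm⟩) with h | h
    · refine absurd ?_ hm₀
      have h1 : Φ ![0, 1] ∈ U := ⟨_, rfl⟩
      rw [h, AddSubgroup.mem_bot] at h1
      have : Φ ![0, 1] = w₀ := by simp [Φ]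
      rw [this] at h1
      exact h1
    · intro m
      have : m ∈ U := h ▸ AddSubgroup.mem_top m
      exact this
  -- every matrix is realized
  have hreal : ∀ M : SpecialLinearGroup (Fin 2) C, ∃ k : K, ∀ v, ρ k (Φ v) = Φ (M.1 *ᵥ v) := by
    intro M
    have hM : M ∈ Subgroup.closure ({lowR lam, upR 1} : Set (SpecialLinearGroup (Fin 2) C)) := by
      rw [QdFree.closure_pair_eq_top (by
        have := (Fact.out : p.Prime)
        rcases Nat.lt_or_ge p 5 with h | h
        · interval_cases p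
          exact absurd this (by norm_num)
        · exact h) hlam hlamgen]
      trivial
    induction hM using Subgroup.closure_induction with
    | mem u hu =>
      rcases hu with rfl | hu
      · exact ⟨x, hX⟩
      · rw [Set.mem_singleton_iff] at hu; subst hu; exact ⟨y, hY⟩
    | one => exact ⟨1, fun v => by simp⟩
    | mul u w _ _ hu hw =>
      obtain ⟨k, hk⟩ := hu
      obtain ⟨l, hl⟩ := hw
      refine ⟨k * l, fun v => ?_⟩
      rw [map_mul, Matrix.SpecialLinearGroup.coe_mul, ← Matrix.mulVec_mulVec, ← hk, ← hl]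
      rfl
    | inv u _ hu =>
      obtain ⟨k, hk⟩ := hu
      refine ⟨k⁻¹, fun v => ?_⟩
      have h := hk (u⁻¹.1.mulVec v)
      rw [Matrix.mulVec_mulVec, ← Matrix.SpecialLinearGroup.coe_mul, mul_inv_cancel,
        Matrix.SpecialLinearGroup.coe_one, Matrix.one_mulVec] at h
      rw [← h]
      show (ρ k⁻¹ * ρ k) _ = _
      rw [← map_mul, inv_mul_cancel, map_one]
      rfl
  have hext : ∀ (f g : AddMonoid.End W), (∀ v, f (Φ v) = g (Φ v)) → f = g := fun f g h =>
    DFunLike.ext _ _ fun m => by obtain ⟨v, rfl⟩ := hΦsurj m; exact h v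
  have hone : ∀ (k : K) (M : SpecialLinearGroup (Fin 2) C), (∀ v, ρ k (Φ v) = Φ (M.1 *ᵥ v)) →
      ρ k = 1 → M.1 = 1 := fun k M hk h1 => by
    refine Matrix.ext_iff_mulVec.2 fun v => sub_eq_zero.1 (hΦinj _ ?_)
    rw [hΦsub, ← hk, h1, Matrix.one_mulVec]
    exact sub_self _
  have hpow : ∀ (k : K) (M : SpecialLinearGroup (Fin 2) C), (∀ v, ρ k (Φ v) = Φ (M.1 *ᵥ v)) →
      ∀ (n : ℕ) v, ρ (k ^ n) (Φ v) = Φ ((M ^ n).1 *ᵥ v) := fun k M hk n => by
    induction n with
    | zero => intro v; simp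
    | succ n ih =>
      intro v
      rw [pow_succ, pow_succ, map_mul, Matrix.SpecialLinearGroup.coe_mul, ← Matrix.mulVec_mulVec,
        ← ih, ← hk]
      rfl
  have hfrob : ∀ r : ℕ, ((r : C)) ^ p = (r : C) := fun r => by
    rw [← frobenius_def, map_natCast]
  have h2ne : (2 : C) ≠ 0 := fun h => by
    have h' : ((2 : ℕ) : C) = 0 := by exact_mod_cast h
    have := Nat.le_of_dvd two_pos ((CharP.cast_eq_zero_iff C p 2).1 h')
    omega
  -- `-1`
  obtain ⟨k₁, hk₁⟩ := hreal (-1)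
  have hk₁' : ρ k₁ = -1 := hext _ _ fun v => by
    rw [hk₁]
    show Φ ((-(1 : Matrix (Fin 2) (Fin 2) C)) *ᵥ v) = -(Φ v)
    rw [Matrix.neg_mulVec, Matrix.one_mulVec, hΦneg]
  have hp2 : Odd p := (Fact.out : p.Prime).odd_of_ne_two (by omega)
  obtain ⟨t, ht, htρ⟩ := exists_pResidual_lift ρ k₁ hk₁' hp2.neg_one_pow
  -- the commutator of a diagonal element and a transvection
  let D2 : SpecialLinearGroup (Fin 2) C := ⟨!![2, 0; 0, 2⁻¹], by simp [Matrix.det_fin_two, h2ne]⟩
  have hD2 : D2 ^ p = D2 := by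
    have hd : D2.1 = Matrix.diagonal ![(2 : C), 2⁻¹] := by
      refine Matrix.ext fun i j => ?_
      fin_cases i <;> fin_cases j <;> simp [D2]
    apply Subtype.ext
    rw [Matrix.SpecialLinearGroup.coe_pow, hd, Matrix.diagonal_pow]
    congr 1
    funext i
    have h2 := hfrob 2
    push_cast at h2
    fin_cases i <;> simp [h2, inv_pow]
  obtain ⟨k₂, hk₂⟩ := hreal D2
  obtain ⟨d, hd, hdρ⟩ := exists_pResidual_lift ρ k₂ rfl (hext _ _ fun v => by
    rw [← map_pow, hpow k₂ D2 hk₂ p, hD2, ← hk₂])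
  have hdM : ∀ v, ρ d (Φ v) = Φ (D2.1 *ᵥ v) := fun v => by rw [hdρ, hk₂]
  obtain ⟨k₃, hk₃⟩ := hreal (upR 1)
  obtain ⟨k₅, hk₅⟩ := hreal D2⁻¹
  obtain ⟨k₆, hk₆⟩ := hreal (upR 1)⁻¹
  have hinv : ∀ (k l : K) (M : SpecialLinearGroup (Fin 2) C), (∀ v, ρ k (Φ v) = Φ (M.1 *ᵥ v)) →
      (∀ v, ρ l (Φ v) = Φ (M⁻¹.1 *ᵥ v)) → ρ k⁻¹ = ρ l := fun k l M hk hl => hext _ _ fun v => by
    rw [hl]
    have h1 : Φ v = ρ k (Φ (M⁻¹.1 *ᵥ v)) := by
      rw [hk, Matrix.mulVec_mulVec, ← Matrix.SpecialLinearGroup.coe_mul, mul_inv_cancel,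
        Matrix.SpecialLinearGroup.coe_one, Matrix.one_mulVec]
    conv_lhs => rw [h1]
    show (ρ k⁻¹ * ρ k) _ = _
    rw [← map_mul, inv_mul_cancel, map_one]
    rfl
  set u := d * k₃ * d⁻¹ * k₃⁻¹ with hu_def
  have hu : u ∈ Cfsg.pResidual p K := by
    rw [hu_def, mul_assoc, mul_assoc, ← mul_assoc k₃]
    exact mul_mem hd (Cfsg.Agent.Fusion.pResidualNormal.conj_mem _ (inv_mem hd) k₃)
  have huM : ∀ v, ρ u (Φ v) = Φ ((upR 3 : SpecialLinearGroup (Fin 2) C).1 *ᵥ v) := fun v => by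
    have e : D2 * upR 1 * D2⁻¹ * (upR 1)⁻¹ = upR (3 : C) := by
      rw [mul_inv_eq_iff_eq_mul, ← upR_add, mul_inv_eq_iff_eq_mul]
      apply Subtype.ext
      show D2.1 * (upR (1 : C) : SpecialLinearGroup (Fin 2) C).1 =
        (upR ((3 : C) + 1) : SpecialLinearGroup (Fin 2) C).1 * D2.1
      refine Matrix.ext fun i j => ?_
      fin_cases i <;> fin_cases j <;>
        simp [D2, coe_upR, Matrix.mul_apply, Fin.sum_univ_two, h2ne] <;> field_simp <;> ring
    rw [hu_def, map_mul, map_mul, map_mul, hinv d k₅ D2 hdM hk₅, hinv k₃ k₆ _ hk₃ hk₆, ← e]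
    show ρ d (ρ k₃ (ρ k₅ (ρ k₆ (Φ v)))) = _
    rw [hk₆, hk₅, hk₃, hdM, Matrix.mulVec_mulVec, Matrix.mulVec_mulVec, Matrix.mulVec_mulVec,
      ← Matrix.SpecialLinearGroup.coe_mul, ← Matrix.SpecialLinearGroup.coe_mul,
      ← Matrix.SpecialLinearGroup.coe_mul]
  have huq : (ρ u - 1) * (ρ u - 1) = 0 := hext _ _ fun v => by
    have h1 : ∀ v, (ρ u - 1) (Φ v) = Φ (((upR 3 : SpecialLinearGroup (Fin 2) C).1 - 1) *ᵥ v) :=
      fun v => by
        show ρ u (Φ v) - Φ v = _
        rw [huM, Matrix.sub_mulVec, Matrix.one_mulVec, hΦsub]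
    show (ρ u - 1) ((ρ u - 1) (Φ v)) = 0
    rw [h1, h1, Matrix.mulVec_mulVec]
    have : ((upR 3 : SpecialLinearGroup (Fin 2) C).1 - 1) * ((upR 3 : SpecialLinearGroup (Fin 2) C).1 - 1) = 0 := by
      refine Matrix.ext fun i j => ?_
      fin_cases i <;> fin_cases j <;> simp [coe_upR, Matrix.mul_apply, Fin.sum_univ_two]
    rw [this, Matrix.zero_mulVec, hΦ0]
  refine ⟨t, u, ht, hu, htρ, huq, fun N hN u' hu' he => ?_⟩
  let Wm : SpecialLinearGroup (Fin 2) C := ⟨!![0, 1; -1, 0], by simp [Matrix.det_fin_two]⟩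
  obtain ⟨k₄, hk₄⟩ := hreal Wm
  obtain ⟨k₇, hk₇⟩ := hreal Wm⁻¹
  have he' : Wm * upR 3 * Wm⁻¹ = lowR (-3 : C) := by
    rw [mul_inv_eq_iff_eq_mul]
    apply Subtype.ext
    show Wm.1 * (upR (3 : C) : SpecialLinearGroup (Fin 2) C).1 =
      (lowR (-3 : C) : SpecialLinearGroup (Fin 2) C).1 * Wm.1
    refine Matrix.ext fun i j => ?_
    fin_cases i <;> fin_cases j <;> simp [Wm, coe_upR, coe_lowR, Matrix.SpecialLinearGroup.coe_mul, Matrix.mul_apply, Fin.sum_univ_two]
  have hg : ∀ v, ρ (u' * (k₄ * u' * k₄⁻¹)) (Φ v) =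
      Φ ((upR 3 * lowR (-3) : SpecialLinearGroup (Fin 2) C).1 *ᵥ v) := fun v => by
    rw [map_mul, map_mul, map_mul, hinv k₄ k₇ Wm hk₄ hk₇, he, ← he']
    show ρ u (ρ k₄ (ρ u (ρ k₇ (Φ v)))) = _
    rw [hk₇, huM, hk₄, huM, Matrix.mulVec_mulVec, Matrix.mulVec_mulVec, Matrix.mulVec_mulVec,
      ← Matrix.SpecialLinearGroup.coe_mul, ← Matrix.SpecialLinearGroup.coe_mul,
      ← Matrix.SpecialLinearGroup.coe_mul]
    simp only [mul_assoc]
  refine ⟨_, mul_mem hu' (hN.conj_mem _ hu' k₄), fun j hj => ?_⟩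
  set M := (upR 3 * lowR (-3) : SpecialLinearGroup (Fin 2) C) with hM
  have h1 := hone _ _ (hpow _ M hg (p ^ j)) hj
  have hnil : IsNilpotent (M.1 - 1) := ⟨p ^ j, by
    rw [sub_pow_char_pow_of_commute _ _ (Commute.one_right _), one_pow,
      ← Matrix.SpecialLinearGroup.coe_pow, h1, sub_self]⟩
  have h9 := (Matrix.isNilpotent_trace_of_isNilpotent hnil).eq_zero
  have hM9 : Matrix.trace (M.1 - 1) = -(9 : C) := by
    simp [hM, Matrix.trace_fin_two, coe_upR, coe_lowR, Matrix.mul_apply, Fin.sum_univ_two]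
    ring
  rw [hM9, neg_eq_zero] at h9
  have h9' : ((3 ^ 2 : ℕ) : C) = 0 := by norm_num; exact h9
  have h3 := Nat.le_of_dvd (by norm_num)
    ((Fact.out : p.Prime).dvd_of_dvd_pow ((CharP.cast_eq_zero_iff C p (3 ^ 2)).1 h9'))
  omega

end Cfsg.Agent.FusSys.DSub
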