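import Cfsg.Agent.FusSys.DSub
import Cfsg.Agent.FusSys.DSubPair
import Cfsg.Agent.Invol.BaerSuzuki
import Cfsg.Agent.Fusion.Residual

/-!
p-stability modulo a central p-subgroup, `p > 3`: an element whose double commutator with a p-subgroup
lies in a centralized subgroup `Z` is in the p-core of the automizer.
-/

set_option autoImplicit false

namespace Cfsg.Agent.FusSys.DSub

open Cfsg Cfsg.Agent.FusSys
open scoped commutatorElement

universe u

variable {G : Type u} [Group G] [Finite G] {p : ℕ} [Fact p.Prime]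

/-- `[a, x]`, in the convention `x a x⁻¹ a⁻¹`. -/
def cm (x a : G) : G := x * a * x⁻¹ * a⁻¹

/-- Stability of the quadratic elements of all p-subgroups. -/
def QStable (p : ℕ) (G : Type u) [Group G] : Prop :=
  ∀ W : Subgroup G, IsPGroup p W → ∀ x ∈ Subgroup.normalizer (W : Set G), Sm W x → x ∈ opMod p W

theorem qStable_of_fStable (S : Sylow p G) (hst : FStable S) : QStable p G :=
  fun _ hW _ hx h => mem_opMod_of_quad S hst hW hx (quad_of_sm h)

theorem sm_of_quad {A : Subgroup G} {x : G} (h : Quad A x) : Sm A x := by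
  intro a ha
  have e2 : x * a⁻¹ * x⁻¹ = a⁻¹ * (x * a * x⁻¹ * a⁻¹)⁻¹ := by group
  have e3 : x * (x * a * x⁻¹) * x⁻¹ =
      x * (x * a * x⁻¹ * a⁻¹) * x⁻¹ * (x * a * x⁻¹ * a⁻¹) * a := by group
  have h1 := h a ha
  rw [e2, e3] at h1
  have h2 : x * (x * a * x⁻¹ * a⁻¹) * x⁻¹ = x * a * x⁻¹ * a⁻¹ := by
    generalize x * a * x⁻¹ * a⁻¹ = c at h1 ⊢
    calc x * c * x⁻¹ = c * c * a * (a⁻¹ * c⁻¹ * a * (a⁻¹ * c⁻¹) * (x * c * x⁻¹ * c * a)) * a⁻¹ * c⁻¹ := by
          group
      _ = c := by rw [h1]; group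
  calc x * (x * a * x⁻¹ * a⁻¹) = x * (x * a * x⁻¹ * a⁻¹) * x⁻¹ * x := by group
    _ = _ := by rw [h2]

theorem fStable_of_qStable (h : QStable p G) (S : Sylow p G) : FStable S := by
  intro Q hQ χ hχ hq
  have hA := autGroup_eq_range S hQ.1
  rw [hA] at hχ ⊢
  obtain ⟨⟨x, hx⟩, rfl⟩ := hχ
  have hq' : Quad Q x := fun a ha => congrArg Subtype.val (hq ⟨a, ha⟩)
  exact ⟨_, (mem_opMod hx).1 (h Q (S.2.to_le hQ.1) x hx (sm_of_quad hq')), rfl⟩

theorem exists_pow_mem_of_opMod {W : Subgroup G} {x : G} (hx : x ∈ opMod p W) :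
    ∃ j, x ^ p ^ j ∈ Subgroup.centralizer (W : Set G) := by
  have hxN := opMod_le W hx
  obtain ⟨j, hj⟩ := Cfsg.Agent.Core.pCore_isPGroup (p := p) (G := W.normalizerMonoidHom.range)
    ⟨_, (mem_opMod hxN).1 hx⟩
  refine ⟨j, ?_⟩
  have h1 : W.normalizerMonoidHom.rangeRestrict (⟨x, hxN⟩ ^ p ^ j) = 1 := by
    rw [map_pow]; exact congrArg Subtype.val hj
  rw [← MonoidHom.mem_ker, MonoidHom.ker_rangeRestrict, Subgroup.normalizerMonoidHom_ker,
    Subgroup.mem_subgroupOf] at h1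
  exact h1

theorem le_opMod' {W K : Subgroup G} (hKN : K ≤ Subgroup.normalizer (W : Set G))
    (hNK : Subgroup.normalizer (W : Set G) ≤ Subgroup.normalizer (K : Set G))
    (hp : ∀ k ∈ K, ∃ j, k ^ p ^ j ∈ Subgroup.centralizer (W : Set G)) : K ≤ opMod p W := by
  refine le_opMod hKN hNK ?_
  haveI : ((Subgroup.centralizer (W : Set G)).subgroupOf K).Normal := by
    refine Subgroup.normal_subgroupOf_of_le_normalizer ?_
    exact hKN.trans (le_normalizer_of_conj fun g hg c hc => Subgroup.mem_centralizer_iff.2 fun w hw => by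
      have h1 := Subgroup.mem_centralizer_iff.1 hc (g⁻¹ * w * g)
        ((Subgroup.mem_normalizer_iff''.1 hg w).1 hw)
      calc w * (g * c * g⁻¹) = g * (g⁻¹ * w * g * c) * g⁻¹ := by group
        _ = g * (c * (g⁻¹ * w * g)) * g⁻¹ := by rw [h1]
        _ = _ := by group)
  have h1 : IsPGroup p (K ⧸ (Subgroup.centralizer (W : Set G)).subgroupOf K) := by
    intro q
    obtain ⟨k, rfl⟩ := QuotientGroup.mk_surjective q
    obtain ⟨j, hj⟩ := hp k k.2
    refine ⟨j, ?_⟩
    rw [← QuotientGroup.mk_pow, QuotientGroup.eq_one_iff, Subgroup.mem_subgroupOf]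
    exact hj
  exact IsPGroup.iff_card.1 h1

theorem qStable_subgroup (h : QStable p G) (C : Subgroup G) : QStable p C := by
  intro W hW x hx hsm
  set W' := W.map C.subtype with hW'
  have hN : ∀ y : C, y ∈ Subgroup.normalizer (W : Set C) →
      (y : G) ∈ Subgroup.normalizer (W' : Set G) := fun y hy =>
    Subgroup.le_normalizer_map C.subtype (Subgroup.mem_map_of_mem C.subtype hy)
  have hsm' : Sm W' (x : G) := by
    rintro _ ⟨a, ha, rfl⟩
    exact (hsm a ha).map C.subtype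
  have h1 := h W' (hW.map _) x (hN x hx) hsm'
  set K := (opMod p W').comap C.subtype ⊓ Subgroup.normalizer (W : Set C) with hK
  refine le_opMod' (K := K) inf_le_right ?_ ?_ ⟨h1, hx⟩
  · refine le_normalizer_of_conj fun g hg a ha => ⟨?_, mul_mem (mul_mem hg ha.2) (Subgroup.inv_mem _ hg)⟩
    exact (Subgroup.mem_normalizer_iff.1 (normalizer_le_opMod W' (hN g hg)) _).1 ha.1
  · intro k hk
    obtain ⟨j, hj⟩ := exists_pow_mem_of_opMod hk.1
    refine ⟨j, Subgroup.mem_centralizer_iff.2 fun w hw => Subtype.ext ?_⟩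
    simpa using Subgroup.mem_centralizer_iff.1 hj _ (Subgroup.mem_map_of_mem C.subtype hw)

/-! ### Lifting through a centralized subgroup -/

theorem conj_iter {k a f : G} (h : k * a * k⁻¹ = f * a) (hf : k * f * k⁻¹ = f) :
    ∀ n : ℕ, k ^ n * a * (k ^ n)⁻¹ = f ^ n * a := by
  intro n
  induction n with
  | zero => simp
  | succ n ih =>
    have hfn : k ^ n * f * (k ^ n)⁻¹ = f := by
      have hc : Commute k f := by
        show k * f = f * k
        calc k * f = k * f * k⁻¹ * k := by group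
          _ = f * k := by rw [hf]
      rw [(hc.pow_left n).eq, mul_inv_cancel_right]
    calc k ^ (n + 1) * a * (k ^ (n + 1))⁻¹ = k ^ n * (k * a * k⁻¹) * (k ^ n)⁻¹ := by
          rw [pow_succ]; group
      _ = (k ^ n * f * (k ^ n)⁻¹) * (k ^ n * a * (k ^ n)⁻¹) := by rw [h]; group
      _ = f * (f ^ n * a) := by rw [hfn, ih]
      _ = f ^ (n + 1) * a := by rw [← mul_assoc, ← pow_succ']

theorem coprime_fix {U : Subgroup G} (hU : IsPGroup p U) {g : G} (hg : (orderOf g).Coprime p) {a : G}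
    (hc : cm g a ∈ U) (hfix : Commute g (cm g a)) : Commute g a := by
  have h1 : g * a * g⁻¹ = cm g a * a := by rw [cm]; group
  have h2 : g * cm g a * g⁻¹ = cm g a := by rw [hfix.eq, mul_inv_cancel_right]
  have h3 := conj_iter h1 h2 (orderOf g)
  rw [pow_orderOf_eq_one, one_mul, inv_one, mul_one, right_eq_mul] at h3
  have h4 : (⟨cm g a, hc⟩ : U) = 1 := by
    obtain ⟨k, hk⟩ := IsPGroup.iff_orderOf.1 hU ⟨cm g a, hc⟩
    have h5 : orderOf (⟨cm g a, hc⟩ : U) ∣ orderOf g :=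
      orderOf_dvd_of_pow_eq_one (Subtype.ext (by simpa using h3))
    rw [← orderOf_eq_one_iff]
    refine Nat.eq_one_of_dvd_coprimes (Nat.Coprime.pow_right k hg) h5 ?_
    rw [hk]
  have h6 : cm g a = 1 := congrArg Subtype.val h4
  rw [h6, one_mul] at h1
  show g * a = a * g
  calc g * a = g * a * g⁻¹ * g := by group
    _ = a * g := by rw [h1]

/-- The key lifting lemma. -/
theorem mem_opMod_of_smMod (hp : 3 < p) (hq : QStable p G) {Z C V : Subgroup G} (hV : IsPGroup p V)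
    {x : G} (hx : x ∈ Subgroup.normalizer (V : Set G)) (hxC : x ∈ C)
    (hNC : Subgroup.normalizer (V : Set G) ≤ Subgroup.normalizer (C : Set G))
    (hNZ : Subgroup.normalizer (V : Set G) ≤ Subgroup.normalizer (Z : Set G))
    (hCZ : C ≤ Subgroup.centralizer (Z : Set G))
    (h : ∀ a ∈ V, cm x (cm x a) ∈ Z) : x ∈ opMod p V := by
  classical
  by_contra hnot
  set NV := Subgroup.normalizer (V : Set G)
  set f := V.normalizerMonoidHom.rangeRestrict with hf
  set α := f ⟨x, hx⟩ with hα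
  -- Baer–Suzuki
  obtain ⟨g, hg⟩ : ∃ g, ¬ IsPGroup p
      ↥(Subgroup.zpowers α ⊔ (Subgroup.zpowers α).map (MulAut.conj g).toMonoidHom) := by
    by_contra hcon
    push Not at hcon
    have hX : IsPGroup p (Subgroup.zpowers α) := (hcon 1).to_le le_sup_left
    obtain ⟨M, hM, hMp, hαM⟩ := Invol.baerSuzuki (p := p) _ hX hcon
    exact hnot ((mem_opMod hx).2 (Cfsg.Agent.Core.le_pCore hMp (hαM (Subgroup.mem_zpowers α))))
  obtain ⟨⟨g₀, hg₀⟩, hgeq⟩ := V.normalizerMonoidHom.rangeRestrict_surjective g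
  set y := g₀ * x * g₀⁻¹ with hy_def
  have hy : y ∈ NV := mul_mem (mul_mem hg₀ hx) (Subgroup.inv_mem _ hg₀)
  have hyC : y ∈ C := (Subgroup.mem_normalizer_iff.1 (hNC hg₀) x).1 hxC
  have h' : ∀ a ∈ V, cm y (cm y a) ∈ Z := by
    intro a ha
    have e : cm y (cm y a) = g₀ * cm x (cm x (g₀⁻¹ * a * g₀)) * g₀⁻¹ := by
      simp only [cm, hy_def]; group
    rw [e]
    exact (Subgroup.mem_normalizer_iff.1 (hNZ hg₀) _).1
      (h _ ((Subgroup.mem_normalizer_iff''.1 hg₀ a).1 ha))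
  set Y := Subgroup.closure ({x, y} : Set G) with hY_def
  have hYN : Y ≤ NV := (Subgroup.closure_le _).2 (by rintro z (rfl | rfl) <;> assumption)
  have hYC : Y ≤ C := (Subgroup.closure_le _).2 (by rintro z (rfl | rfl) <;> assumption)
  set D := (Cfsg.pResidual p Y).map Y.subtype with hD_def
  have hDY : D ≤ Y := Subgroup.map_subtype_le _
  have hYD : Y ≤ Subgroup.normalizer (D : Set G) := le_normalizer_of_conj fun w hw d hd => by
    obtain ⟨d', hd', rfl⟩ := hd
    exact ⟨_, Cfsg.Agent.Fusion.pResidualNormal.conj_mem d' hd' ⟨w, hw⟩, rfl⟩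
  have hgenD : ∀ U : Subgroup G, (∀ g : G, g ∈ D → (orderOf g).Coprime p →
      g ∈ Subgroup.centralizer (U : Set G)) → D ≤ Subgroup.centralizer (U : Set G) := by
    intro U hU
    refine Subgroup.map_le_iff_le_comap.2 ((Subgroup.closure_le _).2 fun d hd => ?_)
    have hd' : (orderOf (d : G)).Coprime p := by rw [Subgroup.orderOf_coe]; exact hd
    exact hU _ ⟨d, Cfsg.Agent.Fusion.mem_pResidual_of_coprime hd, rfl⟩ hd'
  -- `Y` does not act as a p-group on `V`
  have hbadV : ¬ D ≤ Subgroup.centralizer (V : Set G) := by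
    intro hle
    apply hg
    have hYp : IsPGroup p ((Y.subgroupOf NV).map f) := by
      rintro ⟨_, ⟨⟨w, hwN⟩, hw, rfl⟩⟩
      obtain ⟨j, hj⟩ := Cfsg.Agent.Fusion.isPGroup_quotient_pResidual (p := p) (G := Y)
        (QuotientGroup.mk ⟨w, hw⟩)
      refine ⟨j, Subtype.ext ?_⟩
      show f ⟨w, hwN⟩ ^ p ^ j = 1
      rw [← map_pow, ← MonoidHom.mem_ker, MonoidHom.ker_rangeRestrict,
        Subgroup.normalizerMonoidHom_ker, Subgroup.mem_subgroupOf]
      rw [← QuotientGroup.mk_pow, QuotientGroup.eq_one_iff] at hj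
      exact hle ⟨_, hj, rfl⟩
    refine hYp.to_le (sup_le ?_ ?_)
    · rw [Subgroup.zpowers_le]
      exact ⟨⟨x, hx⟩, Subgroup.subset_closure (Or.inl rfl), rfl⟩
    · rw [MonoidHom.map_zpowers, Subgroup.zpowers_le]
      refine ⟨⟨y, hy⟩, Subgroup.subset_closure (Or.inr rfl), ?_⟩
      show f ⟨y, hy⟩ = g * α * g⁻¹
      rw [← hgeq, hα, ← map_inv, ← map_mul, ← map_mul]
      rfl
  -- a minimal subgroup with this property
  obtain ⟨U, ⟨hUV, hYU, hbadU⟩, hmin⟩ := wellFounded_lt.has_min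
    {U : Subgroup G | U ≤ V ∧ Y ≤ Subgroup.normalizer (U : Set G) ∧
      ¬ D ≤ Subgroup.centralizer (U : Set G)} ⟨V, le_rfl, hYN, hbadV⟩
  have hprop : ∀ U' : Subgroup G, U' < U → Y ≤ Subgroup.normalizer (U' : Set G) →
      D ≤ Subgroup.centralizer (U' : Set G) := fun U' hlt hn => by
    by_contra hbad
    exact hmin U' ⟨hlt.le.trans hUV, hn, hbad⟩ hlt
  have hUp : IsPGroup p U := hV.to_le hUV
  -- `U = [U, D]`
  set E := Subgroup.closure {z : G | ∃ d ∈ D, ∃ a ∈ U, z = cm d a} with hE_def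
  have hEU : E ≤ U := (Subgroup.closure_le _).2 (by
    rintro _ ⟨d, hd, a, ha, rfl⟩
    exact mul_mem ((Subgroup.mem_normalizer_iff.1 (hYU (hDY hd)) a).1 ha) (U.inv_mem ha))
  have hYE : Y ≤ Subgroup.normalizer (E : Set G) := le_normalizer_of_conj fun w hw z hz => by
    have hle : E ≤ E.comap (MulAut.conj w).toMonoidHom := (Subgroup.closure_le _).2 (by
      rintro _ ⟨d, hd, a, ha, rfl⟩
      refine Subgroup.subset_closure ⟨w * d * w⁻¹, (Subgroup.mem_normalizer_iff.1 (hYD hw) d).1 hd,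
        w * a * w⁻¹, (Subgroup.mem_normalizer_iff.1 (hYU hw) a).1 ha, ?_⟩
      show w * cm d a * w⁻¹ = _
      simp only [cm]
      group)
    exact hle hz
  have hEeq : E = U := by
    by_contra hne
    apply hbadU
    have hcen := hprop E (lt_of_le_of_ne hEU hne) hYE
    refine hgenD U fun d hd hdo => Subgroup.mem_centralizer_iff.2 fun a ha => ?_
    refine (coprime_fix hUp hdo (hEU (Subgroup.subset_closure ⟨d, hd, a, ha, rfl⟩)) ?_).eq.symm
    exact (Subgroup.mem_centralizer_iff.1 (hcen hd) _ (Subgroup.subset_closure ⟨d, hd, a, ha, rfl⟩)).symm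
  -- the fixed points
  set Fx := U ⊓ Subgroup.centralizer (D : Set G) with hFx_def
  have hFxle : ∀ U' : Subgroup G, U' ≤ U → D ≤ Subgroup.centralizer (U' : Set G) → U' ≤ Fx :=
    fun U' h1 h2 => le_inf h1 (Subgroup.le_centralizer_iff.1 h2)
  have hYFx : Y ≤ Subgroup.normalizer (Fx : Set G) := le_normalizer_of_conj fun w hw a ha =>
    ⟨(Subgroup.mem_normalizer_iff.1 (hYU hw) a).1 ha.1, Subgroup.mem_centralizer_iff.2 fun d hd => by
      have h1 := Subgroup.mem_centralizer_iff.1 ha.2 (w⁻¹ * d * w)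
        ((Subgroup.mem_normalizer_iff''.1 (hYD hw) d).1 hd)
      calc d * (w * a * w⁻¹) = w * (w⁻¹ * d * w * a) * w⁻¹ := by group
        _ = w * (a * (w⁻¹ * d * w)) * w⁻¹ := by rw [h1]
        _ = _ := by group⟩
  have hfixD : ∀ d ∈ D, ∀ a ∈ Fx, d * a * d⁻¹ = a := fun d hd a ha => by
    rw [Subgroup.mem_centralizer_iff.1 ha.2 d hd, mul_inv_cancel_right]
  haveI : Nontrivial U := by
    rw [Subgroup.nontrivial_iff_ne_bot]
    rintro rfl
    exact hbadU fun d _ => Subgroup.mem_centralizer_iff.2 fun a ha => by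
      rw [Subgroup.mem_bot.1 ha, one_mul, mul_one]
  have hder : ∀ a ∈ U, ∀ b ∈ U, a * b * a⁻¹ * b⁻¹ ∈ Fx := by
    set U' := (commutator U).map U.subtype with hU'
    haveI : Group.IsNilpotent U := hUp.isNilpotent
    have hlt : U' < U := by
      conv_rhs => rw [← U.range_subtype, MonoidHom.range_eq_map]
      exact (Subgroup.map_lt_map_iff_of_injective U.subtype_injective).2
        (IsSolvable.commutator_lt_top_of_nontrivial U)
    have hn : Y ≤ Subgroup.normalizer (U' : Set G) := le_normalizer_of_conj fun w hw a ha => by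
      have e : U' = ⁅U, U⁆ := by rw [hU', Subgroup.map_subtype_commutator]
      rw [e] at ha ⊢
      have hle : ⁅U, U⁆ ≤ (⁅U, U⁆).comap (MulAut.conj w).toMonoidHom := by
        refine Subgroup.commutator_le.2 fun s hs t ht => ?_
        show w * ⁅s, t⁆ * w⁻¹ ∈ ⁅U, U⁆
        rw [show w * ⁅s, t⁆ * w⁻¹ = ⁅w * s * w⁻¹, w * t * w⁻¹⁆ by
          simp only [commutatorElement_def]; group]
        exact Subgroup.commutator_mem_commutator ((Subgroup.mem_normalizer_iff.1 (hYU hw) s).1 hs)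
          ((Subgroup.mem_normalizer_iff.1 (hYU hw) t).1 ht)
      exact hle ha
    intro a ha b hb
    refine hFxle U' hlt.le (hprop U' hlt hn) ?_
    exact ⟨⁅(⟨a, ha⟩ : U), ⟨b, hb⟩⁆,
      Subgroup.commutator_mem_commutator (Subgroup.mem_top _) (Subgroup.mem_top _),
      by simp [commutatorElement_def]⟩
  have hcen : ∀ a ∈ U, ∀ z ∈ Fx, Commute a z := by
    have hle : E ≤ Subgroup.centralizer (Fx : Set G) := (Subgroup.closure_le _).2 (by
      rintro _ ⟨d, hd, a, ha, rfl⟩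
      refine Subgroup.mem_centralizer_iff.2 fun z hz => ?_
      have hz' : a * z * a⁻¹ ∈ Fx := by
        have := mul_mem (hder a ha z hz.1) hz
        rwa [inv_mul_cancel_right] at this
      have e5 : a⁻¹ * z * a * z⁻¹ ∈ Fx := by
        simpa using hder a⁻¹ (U.inv_mem ha) z hz.1
      have hzz : a⁻¹ * z * a ∈ Fx := by
        have := mul_mem e5 hz
        rwa [inv_mul_cancel_right] at this
      have f1 : d * (a⁻¹ * z * a) * d⁻¹ = a⁻¹ * z * a := hfixD d hd _ hzz
      have f2 : d * z * d⁻¹ = z := hfixD d hd z hz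
      have g1 : d * a * d⁻¹ * (a⁻¹ * z * a) = z * (d * a * d⁻¹) := by
        calc _ = d * a * d⁻¹ * (d * (a⁻¹ * z * a) * d⁻¹) := by rw [f1]
          _ = d * z * d⁻¹ * (d * a * d⁻¹) := by group
          _ = _ := by rw [f2]
      show z * cm d a = cm d a * z
      calc z * cm d a = z * (d * a * d⁻¹) * a⁻¹ := by rw [cm]; group
        _ = d * a * d⁻¹ * (a⁻¹ * z * a) * a⁻¹ := by rw [g1]
        _ = cm d a * z := by rw [cm]; group)
    rw [hEeq] at hle
    exact fun a ha z hz => (Subgroup.mem_centralizer_iff.1 (hle ha) z hz).symm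
  set Fx' := Fx.subgroupOf U with hFx'
  haveI hFxn : Fx'.Normal := ⟨fun z hz a => by
    show ((a * z * a⁻¹ : U) : G) ∈ Fx
    have : ((a * z * a⁻¹ : U) : G) = z := by
      simp only [Subgroup.coe_mul, Subgroup.coe_inv]
      rw [(hcen a a.2 z hz).eq, mul_inv_cancel_right]
    rw [this]; exact hz⟩
  letI : CommGroup (U ⧸ Fx') :=
    { (inferInstance : Group (U ⧸ Fx')) with
      mul_comm := fun s t => by
        obtain ⟨a, rfl⟩ := QuotientGroup.mk_surjective s
        obtain ⟨b, rfl⟩ := QuotientGroup.mk_surjective t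
        rw [← QuotientGroup.mk_mul, ← QuotientGroup.mk_mul, eq_comm, QuotientGroup.eq]
        show (((b * a)⁻¹ * (a * b) : U) : G) ∈ Fx
        have := hder (a⁻¹ : G) (U.inv_mem a.2) (b⁻¹ : G) (U.inv_mem b.2)
        simpa [mul_assoc] using this }
  -- the representation
  let cU : ∀ w : Y, U →* U := fun w => (U.normalizerMonoidHom ⟨w, hYU w.2⟩).toMonoidHom
  have hcU : ∀ (w : Y) (a : U), ((cU w a : U) : G) = w * a * (w : G)⁻¹ := fun w a => rfl
  have hcU' : ∀ w : Y, Fx' ≤ Fx'.comap (cU w) := fun w a ha => by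
    show ((cU w a : U) : G) ∈ Fx
    rw [hcU]
    exact (Subgroup.mem_normalizer_iff.1 (hYFx w.2) _).1 ha
  let mq : ∀ w : Y, (U ⧸ Fx') →* (U ⧸ Fx') := fun w => QuotientGroup.map _ _ (cU w) (hcU' w)
  let ρ : Y →* AddMonoid.End (Additive (U ⧸ Fx')) :=
    { toFun := fun w => MonoidHom.toAdditive (mq w)
      map_one' := DFunLike.ext _ _ fun m => by
        obtain ⟨a, ha⟩ := QuotientGroup.mk_surjective (Additive.toMul m)
        apply Additive.toMul.injective
        show mq 1 (Additive.toMul m) = Additive.toMul m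
        rw [← ha]
        show ((cU 1 a : U) : U ⧸ Fx') = _
        rw [show cU 1 a = a from Subtype.ext (by simp [hcU])]
      map_mul' := fun v w => DFunLike.ext _ _ fun m => by
        obtain ⟨a, ha⟩ := QuotientGroup.mk_surjective (Additive.toMul m)
        apply Additive.toMul.injective
        show mq (v * w) (Additive.toMul m) = mq v (mq w (Additive.toMul m))
        rw [← ha]
        show ((cU (v * w) a : U) : U ⧸ Fx') = ((cU v (cU w a) : U) : U ⧸ Fx')
        rw [show cU (v * w) a = cU v (cU w a) from Subtype.ext (by simp [hcU, mul_assoc])] }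
  have hρ : ∀ (w : Y) (a : U), ρ w (Additive.ofMul (a : U ⧸ Fx')) =
      Additive.ofMul ((cU w a : U) : U ⧸ Fx') := fun w a => rfl
  have hρeq : ∀ v w : Y, ρ v = ρ w → ∀ a ∈ U, ∀ a', a' = v * a * (v : G)⁻¹ →
      a'⁻¹ * (w * a * (w : G)⁻¹) ∈ Fx := by
    rintro v w hvw a ha _ rfl
    have h1 := DFunLike.congr_fun hvw (Additive.ofMul ((⟨a, ha⟩ : U) : U ⧸ Fx'))
    rw [hρ, hρ] at h1
    have h2 := QuotientGroup.eq.1 (Additive.ofMul.injective h1)
    exact h2
  have hρone : ∀ w : Y, ρ w = 1 → ∀ a ∈ U, cm (w : G) a ∈ Fx := fun w hw a ha => by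
    have h1 := hρeq 1 w (by rw [map_one, hw]) a ha _ rfl
    have h2 : a * (a⁻¹ * (w * a * (w : G)⁻¹)) * a⁻¹ = cm (w : G) a := by rw [cm]; group
    have h1' : a⁻¹ * (w * a * (w : G)⁻¹) ∈ Fx := by simpa using h1
    rw [← h2, (hcen a ha _ h1').eq, mul_inv_cancel_right]
    exact h1'
  -- quadratic generators
  have hquad : ∀ w : Y, (∀ a ∈ V, cm (w : G) (cm (w : G) a) ∈ Z) → (ρ w - 1) * (ρ w - 1) = 0 := by
    intro w hw
    refine DFunLike.ext _ _ fun m => ?_
    obtain ⟨a, ha⟩ := QuotientGroup.mk_surjective (Additive.toMul m)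
    obtain rfl : m = Additive.ofMul ((a : U ⧸ Fx')) := by rw [ha]; rfl
    have hd : ∀ b : U, (ρ w - 1) (Additive.ofMul (b : U ⧸ Fx')) =
        Additive.ofMul ((cU w b * b⁻¹ : U) : U ⧸ Fx') := fun b => by
      show ρ w _ - _ = _
      rw [hρ, sub_eq_add_neg]; rfl
    show (ρ w - 1) ((ρ w - 1) _) = 0
    rw [hd, hd]
    show Additive.ofMul _ = Additive.ofMul (1 : U ⧸ Fx')
    rw [Additive.ofMul.injective.eq_iff, QuotientGroup.eq_one_iff]
    show ((cU w (cU w a * a⁻¹) * (cU w a * a⁻¹)⁻¹ : U) : G) ∈ Fx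
    have hmem : ((cU w (cU w a * a⁻¹) * (cU w a * a⁻¹)⁻¹ : U) : G) = cm (w : G) (cm (w : G) a) := rfl
    refine ⟨(cU w (cU w a * a⁻¹) * (cU w a * a⁻¹)⁻¹ : U).2, Subgroup.mem_centralizer_iff.2 fun d hd' => ?_⟩
    rw [hmem]
    exact (Subgroup.mem_centralizer_iff.1 (hCZ (hYC (hDY hd'))) _ (hw a (hUV a.2))).symm
  set x' : Y := ⟨x, Subgroup.subset_closure (Or.inl rfl)⟩
  set y' : Y := ⟨y, Subgroup.subset_closure (Or.inr rfl)⟩
  have hgen : Subgroup.closure ({x', y'} : Set Y) = ⊤ := by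
    refine Subgroup.map_injective Y.subtype_injective ?_
    rw [MonoidHom.map_closure, Set.image_pair, ← MonoidHom.range_eq_map, Subgroup.range_subtype]
    rfl
  have hnt : Nontrivial (Additive (U ⧸ Fx')) := by
    by_contra hcon
    rw [not_nontrivial_iff_subsingleton] at hcon
    apply hbadU
    refine Subgroup.le_centralizer_iff.1 (fun a ha => ?_)
    have h1 : ((⟨a, ha⟩ : U) : U ⧸ Fx') = 1 := Additive.ofMul.injective (Subsingleton.elim _ _)
    exact ((QuotientGroup.eq_one_iff _).1 h1).2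
  have hirr : ∀ A : AddSubgroup (Additive (U ⧸ Fx')),
      (∀ m ∈ A, ρ x' m ∈ A) → (∀ m ∈ A, ρ y' m ∈ A) → A = ⊥ ∨ A = ⊤ := by
    intro A hAx hAy
    let P : Subgroup U :=
      { carrier := {a : U | Additive.ofMul (a : U ⧸ Fx') ∈ A}
        one_mem' := A.zero_mem
        mul_mem' := fun {a b} ha hb => A.add_mem ha hb
        inv_mem' := fun {a} ha => A.neg_mem ha }
    set P' := P.map U.subtype with hP'
    have hPU : P' ≤ U := Subgroup.map_subtype_le _
    have hnorm : Y ≤ Subgroup.normalizer (P' : Set G) := (Subgroup.closure_le _).2 (by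
      intro z hz
      refine Subgroup.mem_normalizer_fintype ?_
      rintro _ ⟨a, ha, rfl⟩
      rcases hz with rfl | hz
      · have h1 := hAx _ ha
        rw [hρ] at h1
        exact ⟨cU x' a, h1, hcU x' a⟩
      · rw [Set.mem_singleton_iff] at hz
        subst hz
        have h1 := hAy _ ha
        rw [hρ] at h1
        exact ⟨cU y' a, h1, hcU y' a⟩)
    rcases lt_or_eq_of_le hPU with hlt | he
    · refine Or.inl ((AddSubgroup.eq_bot_iff_forall _).2 fun m hm => ?_)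
      obtain ⟨a, ha⟩ := QuotientGroup.mk_surjective (Additive.toMul m)
      obtain rfl : m = Additive.ofMul ((a : U ⧸ Fx')) := by rw [ha]; rfl
      have h1 : (a : G) ∈ Fx := hFxle P' hPU (hprop P' hlt hnorm) ⟨a, hm, rfl⟩
      show Additive.ofMul _ = Additive.ofMul (1 : U ⧸ Fx')
      rw [Additive.ofMul.injective.eq_iff, QuotientGroup.eq_one_iff]
      exact h1
    · refine Or.inr ((AddSubgroup.eq_top_iff' A).2 fun m => ?_)
      obtain ⟨a, ha⟩ := QuotientGroup.mk_surjective (Additive.toMul m)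
      obtain rfl : m = Additive.ofMul ((a : U ⧸ Fx')) := by rw [ha]; rfl
      obtain ⟨b, hb, hba⟩ := (he.symm ▸ a.2 : (a : G) ∈ P')
      rw [← (Subtype.ext hba : b = a)]
      exact hb
  have hpW : ∀ m : Additive (U ⧸ Fx'), p • m = 0 := by
    let A : AddSubgroup (Additive (U ⧸ Fx')) :=
      (nsmulAddMonoidHom p : Additive (U ⧸ Fx') →+ Additive (U ⧸ Fx')).ker
    have hinv : ∀ w : Y, ∀ m ∈ A, ρ w m ∈ A := fun w m hm => by
      have hm' : p • m = 0 := hm
      show p • ρ w m = 0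
      rw [← map_nsmul, hm', map_zero]
    have hq : IsPGroup p (U ⧸ Fx') := hUp.to_quotient _
    rcases hirr A (hinv x') (hinv y') with hA | hA
    · exfalso
      haveI : Nontrivial (U ⧸ Fx') := hnt
      obtain ⟨k, hk0, hk⟩ := (IsPGroup.nontrivial_iff_card hq).1 hnt
      obtain ⟨z, hz⟩ := exists_prime_orderOf_dvd_card' (G := U ⧸ Fx') p (hk ▸ dvd_pow_self p hk0.ne')
      have hzA : Additive.ofMul z ∈ A := by
        show p • Additive.ofMul z = 0
        rw [← ofMul_pow, ← hz, pow_orderOf_eq_one]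
        rfl
      rw [hA, AddSubgroup.mem_bot] at hzA
      rw [show z = 1 from hzA, orderOf_one] at hz
      exact (Fact.out : p.Prime).ne_one hz.symm
    · intro m
      have : m ∈ A := hA ▸ AddSubgroup.mem_top m
      exact this
  have hnp : ¬ ∀ w : Y, ∃ j, ρ (w ^ p ^ j) = 1 := by
    intro hall
    apply hbadU
    refine hgenD U fun d hd hdo => Subgroup.mem_centralizer_iff.2 fun a ha => ?_
    obtain ⟨⟨d, hdY⟩, hd', rfl⟩ := hd
    obtain ⟨j, hj⟩ := hall ⟨d, hdY⟩
    have hd1 : ρ ⟨d, hdY⟩ = 1 := by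
      have hcop : (p ^ j).Coprime (orderOf (⟨d, hdY⟩ : Y)) := by
        rw [← Subgroup.orderOf_coe]
        exact (Nat.Coprime.pow_right j hdo).symm
      obtain ⟨n, hn⟩ := exists_pow_eq_self_of_coprime hcop
      rw [← hn, map_pow, hj, one_pow]
    have hc := hρone _ hd1 a ha
    refine (coprime_fix hUp hdo hc.1 ?_).eq.symm
    exact Subgroup.mem_centralizer_iff.1 hc.2 d ⟨⟨d, hdY⟩, hd', rfl⟩
  obtain ⟨t, u, ht, hu, htρ, huρ, hN⟩ := exists_elements hp hpW ρ hgen (hquad x' h) (hquad y' h')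
    hirr hnp
  have htD : (t : G) ∈ D := ⟨t, ht, rfl⟩
  -- make `u` commute with `t` on `U`
  set k : Y := u * t * u⁻¹ * t⁻¹ with hk_def
  have hk : k ∈ Cfsg.pResidual p Y :=
    mul_mem (Cfsg.Agent.Fusion.pResidualNormal.conj_mem t ht u) (InvMemClass.inv_mem ht)
  have hkρ : ρ k = 1 := by
    have h1 : ρ t * ρ t⁻¹ = 1 := by rw [← map_mul, mul_inv_cancel, map_one]
    have h2 : ρ u * ρ u⁻¹ = 1 := by rw [← map_mul, mul_inv_cancel, map_one]
    have h3 : ρ t⁻¹ = -1 := DFunLike.ext _ _ fun m => by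
      have h4 : ρ t (ρ t⁻¹ m) = m := DFunLike.congr_fun h1 m
      rw [htρ] at h4
      exact neg_eq_iff_eq_neg.1 h4
    rw [hk_def, map_mul, map_mul, map_mul, htρ, h3]
    refine DFunLike.ext _ _ fun m => ?_
    show ρ u (-(ρ u⁻¹ (-m))) = m
    rw [map_neg, map_neg, map_neg, neg_neg]
    exact DFunLike.congr_fun h2 m
  have hkD : (k : G) ∈ D := ⟨k, hk, rfl⟩
  have hkf : ∀ a ∈ U, ∀ n : ℕ, (k : G) ^ n * a * ((k : G) ^ n)⁻¹ = cm (k : G) a ^ n * a := by
    intro a ha
    refine conj_iter (by rw [cm]; group) (hfixD _ hkD _ (hρone k hkρ a ha))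
  -- the order of the fixed points is odd
  obtain ⟨m, hm⟩ : Odd (Nat.card Fx) := by
    obtain ⟨n, hn⟩ := IsPGroup.iff_card.1 (hUp.to_le (inf_le_left : Fx ≤ U))
    rw [hn]
    exact ((Fact.out : p.Prime).odd_of_ne_two (by omega)).pow
  have hpowFx : ∀ z ∈ Fx, z ^ (2 * m + 1) = 1 := fun z hz => by
    rw [← hm]
    exact congrArg Subtype.val (pow_card_eq_one' (x := (⟨z, hz⟩ : Fx)))
  have hinvt : ∀ a ∈ U, ∃ z ∈ Fx, (t : G)⁻¹ * a * t = a⁻¹ * z := by
    intro a ha
    have h3 : ρ t⁻¹ = -1 := by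
      have h1 : ρ t * ρ t⁻¹ = 1 := by rw [← map_mul, mul_inv_cancel, map_one]
      refine DFunLike.ext _ _ fun m => ?_
      have h4 : ρ t (ρ t⁻¹ m) = m := DFunLike.congr_fun h1 m
      rw [htρ] at h4
      exact neg_eq_iff_eq_neg.1 h4
    have h1 := DFunLike.congr_fun h3 (Additive.ofMul ((⟨a, ha⟩ : U) : U ⧸ Fx'))
    rw [hρ] at h1
    have h2 : ((cU t⁻¹ ⟨a, ha⟩ : U) : U ⧸ Fx') = ((⟨a, ha⟩⁻¹ : U) : U ⧸ Fx') :=
      Additive.ofMul.injective h1
    refine ⟨_, (QuotientGroup.eq (s := Fx')).1 h2.symm, ?_⟩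
    simp [hcU, mul_assoc]
  -- `t k t⁻¹` acts as `k⁻¹`
  have htk : ∀ a ∈ U, cm ((t : G) * k * (t : G)⁻¹) a = (cm (k : G) a)⁻¹ := by
    intro a ha
    obtain ⟨z, hz, hza⟩ := hinvt a ha
    have hf := hρone k hkρ a ha
    have e1 : (k : G) * a⁻¹ * (k : G)⁻¹ = (cm (k : G) a)⁻¹ * a⁻¹ := by
      have : (k : G) * a⁻¹ * (k : G)⁻¹ = a⁻¹ * (cm (k : G) a)⁻¹ := by rw [cm]; group
      rw [this, (hcen a⁻¹ (U.inv_mem ha) _ (Subgroup.inv_mem _ hf)).eq]
    calc cm ((t : G) * k * (t : G)⁻¹) a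
        = (t : G) * ((k : G) * ((t : G)⁻¹ * a * t) * (k : G)⁻¹) * (t : G)⁻¹ * a⁻¹ := by rw [cm]; group
      _ = (t : G) * ((k : G) * a⁻¹ * (k : G)⁻¹ * ((k : G) * z * (k : G)⁻¹)) * (t : G)⁻¹ * a⁻¹ := by
          rw [hza]; group
      _ = (t : G) * ((cm (k : G) a)⁻¹ * (a⁻¹ * z)) * (t : G)⁻¹ * a⁻¹ := by
          rw [e1, hfixD _ hkD z hz]; group
      _ = ((t : G) * (cm (k : G) a)⁻¹ * (t : G)⁻¹) * a * a⁻¹ := by rw [← hza]; group
      _ = (cm (k : G) a)⁻¹ := by rw [hfixD _ htD _ (Subgroup.inv_mem _ hf), mul_inv_cancel_right]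
  set u' : Y := k ^ m * u with hu'_def
  have hu'D : (u' : G) ∈ D := ⟨u', mul_mem (pow_mem hk m) hu, rfl⟩
  have hcomm : ∀ a ∈ U, (u' : G) * ((t : G) * a * (t : G)⁻¹) * (u' : G)⁻¹ =
      (t : G) * ((u' : G) * a * (u' : G)⁻¹) * (t : G)⁻¹ := by
    intro a ha
    set b := (t : G) * ((u : G) * a * (u : G)⁻¹) * (t : G)⁻¹ with hb_def
    have hb : b ∈ U := (Subgroup.mem_normalizer_iff.1 (hYU t.2) _).1
      ((Subgroup.mem_normalizer_iff.1 (hYU u.2) _).1 ha)
    have hku : (u : G) * t = k * t * u := by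
      rw [hk_def]; simp [mul_assoc]
    have e1 : (u' : G) * ((t : G) * a * (t : G)⁻¹) * (u' : G)⁻¹ =
        (k : G) ^ (m + 1) * b * ((k : G) ^ (m + 1))⁻¹ := by
      rw [hu'_def, Subgroup.coe_mul, Subgroup.coe_pow]
      calc (k : G) ^ m * (u : G) * ((t : G) * a * (t : G)⁻¹) * ((k : G) ^ m * (u : G))⁻¹
          = (k : G) ^ m * ((u : G) * t) * a * ((k : G) ^ m * ((u : G) * t))⁻¹ := by group
        _ = _ := by rw [hku, hb_def, pow_succ]; group
    have e2 : (t : G) * ((u' : G) * a * (u' : G)⁻¹) * (t : G)⁻¹ =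
        ((t : G) * k * (t : G)⁻¹) ^ m * b * (((t : G) * k * (t : G)⁻¹) ^ m)⁻¹ := by
      rw [hu'_def, Subgroup.coe_mul, Subgroup.coe_pow, hb_def, conj_pow]
      group
    have hf := hρone k hkρ b hb
    have e3 := conj_iter (k := (t : G) * k * (t : G)⁻¹) (a := b) (f := (cm (k : G) b)⁻¹)
      (by rw [← htk b hb, cm]; group)
      (hfixD _ (mul_mem (mul_mem htD hkD) (Subgroup.inv_mem _ htD)) _ (Subgroup.inv_mem _ hf)) m
    rw [e1, e2, hkf b hb, e3]
    congr 1
    rw [inv_pow, eq_inv_iff_mul_eq_one, ← pow_add, show m + 1 + m = 2 * m + 1 by omega]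
    exact hpowFx _ hf
  have hu'ρ : ρ u' = ρ u := by
    rw [hu'_def, map_mul, map_pow, hkρ, one_pow, one_mul]
  -- `u'` is quadratic on `U`
  have hsm : Sm U (u' : G) := by
    have hF : ∀ a ∈ U, cm (u' : G) (cm (u' : G) a) ∈ Fx := by
      intro a ha
      have h1 := DFunLike.congr_fun (hu'ρ ▸ huρ : (ρ u' - 1) * (ρ u' - 1) = 0)
        (Additive.ofMul ((⟨a, ha⟩ : U) : U ⧸ Fx'))
      have hd : ∀ b : U, (ρ u' - 1) (Additive.ofMul (b : U ⧸ Fx')) =
          Additive.ofMul ((cU u' b * b⁻¹ : U) : U ⧸ Fx') := fun b => by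
        show ρ u' _ - _ = _
        rw [hρ, sub_eq_add_neg]; rfl
      change (ρ u' - 1) ((ρ u' - 1) _) = Additive.ofMul (1 : U ⧸ Fx') at h1
      rw [hd, hd, Additive.ofMul.injective.eq_iff, QuotientGroup.eq_one_iff] at h1
      exact h1
    intro a ha
    set e := cm (u' : G) (cm (u' : G) a) with he_def
    suffices he : e = 1 by
      show (u' : G) * cm (u' : G) a = cm (u' : G) a * (u' : G)
      have h2 : (u' : G) * cm (u' : G) a * (u' : G)⁻¹ * (cm (u' : G) a)⁻¹ = 1 := he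
      rw [mul_inv_eq_one, mul_inv_eq_iff_eq_mul] at h2
      exact h2
    obtain ⟨z, hz, hza⟩ : ∃ z ∈ Fx, (t : G) * a * (t : G)⁻¹ = a⁻¹ * z := by
      obtain ⟨z, hz, hza⟩ := hinvt a ha
      refine ⟨z, hz, ?_⟩
      have h2 : a = (t : G) * (a⁻¹ * z) * (t : G)⁻¹ := by rw [← hza]; group
      have h3 : a = ((t : G) * a * (t : G)⁻¹)⁻¹ * z := by
        conv_lhs => rw [h2]
        rw [show (t : G) * (a⁻¹ * z) * (t : G)⁻¹ =
          ((t : G) * a * (t : G)⁻¹)⁻¹ * ((t : G) * z * (t : G)⁻¹) by group, hfixD _ htD z hz]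
      have h4 : (t : G) * a * (t : G)⁻¹ = z * a⁻¹ := by
        conv_rhs => rw [h3]
        group
      rw [h4, (hcen a⁻¹ (U.inv_mem ha) z hz).eq]
    have hc : cm (u' : G) a ∈ U :=
      mul_mem ((Subgroup.mem_normalizer_iff.1 (hYU u'.2) a).1 ha) (U.inv_mem ha)
    set c := cm (u' : G) a with hc_def
    have huc : (u' : G) * c * (u' : G)⁻¹ = e * c := by rw [he_def, cm]; group
    have hce := hcen c hc e (hF a ha)
    -- the value at `t a t⁻¹`
    have h2 : cm (u' : G) (cm (u' : G) (a⁻¹ * z)) = e⁻¹ := by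
      have hzc : cm (u' : G) (a⁻¹ * z) = a⁻¹ * c⁻¹ * a := by
        calc cm (u' : G) (a⁻¹ * z)
            = (u' : G) * a⁻¹ * (u' : G)⁻¹ * ((u' : G) * z * (u' : G)⁻¹) * z⁻¹ * a := by
              rw [cm]; group
          _ = (u' : G) * a⁻¹ * (u' : G)⁻¹ * a := by rw [hfixD _ hu'D z hz, mul_inv_cancel_right]
          _ = a⁻¹ * c⁻¹ * a := by rw [hc_def, cm]; group
      have hw : a⁻¹ * c⁻¹ * a * c ∈ Fx := by
        simpa using hder a⁻¹ (U.inv_mem ha) c⁻¹ (U.inv_mem hc)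
      set w := a⁻¹ * c⁻¹ * a * c
      have hwc : a⁻¹ * c⁻¹ * a = w * c⁻¹ := by
        show a⁻¹ * c⁻¹ * a = a⁻¹ * c⁻¹ * a * c * c⁻¹
        group
      rw [hzc, hwc]
      calc cm (u' : G) (w * c⁻¹)
          = ((u' : G) * w * (u' : G)⁻¹) * ((u' : G) * c * (u' : G)⁻¹)⁻¹ * c * w⁻¹ := by
            rw [cm]; group
        _ = w * (e * c)⁻¹ * c * w⁻¹ := by rw [hfixD _ hu'D w hw, huc]
        _ = w * e⁻¹ * w⁻¹ := by rw [← hce.eq]; group
        _ = e⁻¹ := by
            rw [(hcen w hw.1 e⁻¹ (Subgroup.inv_mem _ (hF a ha))).eq, mul_inv_cancel_right]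
    have h3 : cm (u' : G) (cm (u' : G) ((t : G) * a * (t : G)⁻¹)) = e := by
      have hd1 : ∀ b ∈ U, cm (u' : G) ((t : G) * b * (t : G)⁻¹) =
          (t : G) * cm (u' : G) b * (t : G)⁻¹ := fun b hb => by
        calc cm (u' : G) ((t : G) * b * (t : G)⁻¹)
            = (u' : G) * ((t : G) * b * (t : G)⁻¹) * (u' : G)⁻¹ * ((t : G) * b * (t : G)⁻¹)⁻¹ := rfl
          _ = _ := by rw [hcomm b hb, cm]; group
      rw [hd1 a ha, hd1 c hc, ← he_def, hfixD _ htD _ (hF a ha)]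
    rw [hza, h2] at h3
    have h4 : e ^ 2 = 1 := by
      rw [pow_two]
      conv_lhs => arg 1; rw [← h3]
      exact inv_mul_cancel e
    have h5 := hpowFx e (hF a ha)
    rwa [pow_succ, pow_mul, h4, one_pow, one_mul] at h5
  have hmem := hq U hUp (u' : G) (hYU u'.2) hsm
  have hnormal : ((opMod p U).subgroupOf Y).Normal :=
    ⟨fun a ha w => (Subgroup.mem_normalizer_iff.1 (normalizer_le_opMod U (hYU w.2)) _).1 ha⟩
  obtain ⟨g', hg', hg''⟩ := hN _ hnormal u' hmem hu'ρ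
  obtain ⟨j, hj⟩ := exists_pow_mem_of_opMod (hg' : (g' : G) ∈ opMod p U)
  refine hg'' j (DFunLike.ext _ _ fun m => ?_)
  obtain ⟨a, ha⟩ := QuotientGroup.mk_surjective (Additive.toMul m)
  obtain rfl : m = Additive.ofMul ((a : U ⧸ Fx')) := by rw [ha]; rfl
  rw [hρ]
  have : cU (g' ^ p ^ j) a = a := Subtype.ext (by
    have hj' : (a : G) * (g' : G) ^ p ^ j = (g' : G) ^ p ^ j * a :=
      Subgroup.mem_centralizer_iff.1 hj a a.2
    rw [hcU, Subgroup.coe_pow, ← hj', mul_inv_cancel_right])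
  rw [this]
  rfl

theorem qStable_quotient (hp : 3 < p) (hq : QStable p G) (Z : Subgroup G) [Z.Normal]
    (hZp : IsPGroup p Z) (hZ : Z ≤ Subgroup.center G) : QStable p (G ⧸ Z) := by
  intro W hW x₀ hx hsm
  set π := QuotientGroup.mk' Z
  obtain ⟨x, rfl⟩ := QuotientGroup.mk'_surjective Z x₀
  set V := W.comap π with hV
  have hVp : IsPGroup p V := hW.comap_of_ker_isPGroup π (by rwa [QuotientGroup.ker_mk'])
  have hNV : Subgroup.normalizer (V : Set G) = (Subgroup.normalizer (W : Set (G ⧸ Z))).comap π :=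
    (Subgroup.comap_normalizer_eq_of_surjective W (QuotientGroup.mk'_surjective Z)).symm
  have hmem : x ∈ opMod p V := by
    refine mem_opMod_of_smMod (C := ⊤) (Z := Z) hp hq hVp (hNV ▸ hx) trivial ?_ ?_ ?_ ?_
    · rw [Subgroup.normalizer_eq_top_iff.2 (inferInstance : (⊤ : Subgroup G).Normal)]; exact le_top
    · rw [Subgroup.normalizer_eq_top_iff.2 (inferInstance : Z.Normal)]; exact le_top
    · exact fun g _ => Subgroup.mem_centralizer_iff.2 fun z hz => (Subgroup.mem_center_iff.1 (hZ hz) g).symm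
    · intro a ha
      rw [← QuotientGroup.eq_one_iff]
      show π (x * cm x a * x⁻¹ * (cm x a)⁻¹) = 1
      rw [map_mul, map_mul, map_mul, map_inv, map_inv]
      have h1 : π x * π (cm x a) = π (cm x a) * π x := by
        rw [cm, map_mul, map_mul, map_mul, map_inv, map_inv]
        exact (hsm (π a) ha).eq
      rw [h1, mul_inv_cancel_right, mul_inv_cancel]
  set K := (opMod p V).map π
  have hKN : K ≤ Subgroup.normalizer (W : Set (G ⧸ Z)) := Subgroup.map_le_iff_le_comap.2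
    (hNV ▸ opMod_le V)
  refine le_opMod' hKN (le_normalizer_of_conj fun g hg k hk => ?_) ?_ ⟨x, hmem, rfl⟩
  · obtain ⟨g, rfl⟩ := QuotientGroup.mk'_surjective Z g
    obtain ⟨k, hk, rfl⟩ := hk
    exact ⟨g * k * g⁻¹, (Subgroup.mem_normalizer_iff.1 (normalizer_le_opMod V (hNV ▸ hg)) k).1 hk,
      by simp [π]⟩
  · rintro _ ⟨k, hk, rfl⟩
    obtain ⟨j, hj⟩ := exists_pow_mem_of_opMod hk
    refine ⟨j, Subgroup.mem_centralizer_iff.2 fun w hw => ?_⟩
    obtain ⟨w, rfl⟩ := QuotientGroup.mk'_surjective Z w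
    rw [← map_pow, ← map_mul, ← map_mul, Subgroup.mem_centralizer_iff.1 hj w hw]

end Cfsg.Agent.FusSys.DSub
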