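import Cfsg.Agent.FusSys.DeltaShift
import Cfsg.Agent.FusSys.ThompsonKey

/-!
For odd `p`: if the maps of `E` on subgroups of larger key than `R` centralize `y`, then the `IsDelta`
automorphisms of order prime to `p` at `R` fix `y`.
-/

set_option autoImplicit false

namespace Cfsg.Agent.FusSys.CentE

open Cfsg Cfsg.FusionSystem Cfsg.Agent.FusSys Cfsg.Agent.FusSys.CentFocal Cfsg.Agent.FusSys.ThompsonKey
open Cfsg.Agent.Fusion (AbMem AbMax abMax_map_iff commute_of_isMulCommutative)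
open scoped IsMulCommutative

universe u

variable {Ω : Type u} [Group Ω] {S T R : Subgroup Ω} {F : FusionSystem S} {E : FusionSystem T}
variable {p : ℕ} [Fact p.Prime] [Finite S] (hS : IsPGroup p S) (hF : F.IsSaturated p)
include hS hF

/-- The key step. -/
theorem mem_fixAt_of_larger (hE : E.IsNormalIn F p) (hT : F.StronglyClosed T) (hp : p ≠ 2)
    (hRT : R ≤ T) (hRn : F.IsFullyNormalized R) {y : Ω} (hy : y ∈ centralizerIn S T)
    (hkey : key S R < key S (normalizerIn T R))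
    (hbig : ∀ Q f, Mor E Q f → key S R < key S Q → CRel F (Subgroup.zpowers y) Q f) :
    y ∈ fixAt E F p hRT hT.1 := by
  classical
  have hEF := hE.1.2.2.1
  have hRS := hRT.trans hT.1
  have hRc := fullyCentralized_of_fullyNormalized hS hF hRn
  have hyR : y ∈ centralizerIn S R := centralizerIn_anti hRT hy
  haveI := finite_of_le hT.1
  haveI := finite_of_le hRS
  have hTp : IsPGroup p T := hS.to_le hT.1
  set U := R ⊔ Subgroup.zpowers y with hU
  have hUS : U ≤ S := sup_le hRS (Subgroup.zpowers_le.2 hy.1)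
  haveI := finite_of_le hUS
  haveI : Finite (MulAut U) := Finite.of_injective _ MulEquiv.toEquiv_injective
  haveI : Finite (MulAut R) := Finite.of_injective _ MulEquiv.toEquiv_injective
  have hyU : y ∈ U := Subgroup.mem_sup_right (Subgroup.mem_zpowers y)
  have hUR : ∀ {z : Ω}, z ∈ R → z ∈ U := fun hz => Subgroup.mem_sup_left hz
  let D : Subgroup (MulAut U) := chainStab.subgroupOfFiniteSubmonoid
    { carrier := {γ | γ ∈ F.autGroup U ∧ (∃ a ∈ E.autGroup R, ∀ x ∈ R, apl γ x = apl a x) ∧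
        y⁻¹ * apl γ y ∈ R}
      one_mem' := ⟨one_mem _, ⟨1, one_mem _, fun x hx => by rw [apl_one hx, apl_one (hUR hx)]⟩,
        by rw [apl_one hyU, inv_mul_cancel]; exact R.one_mem⟩
      mul_mem' := by
        rintro γ γ' ⟨h1, ⟨a, ha, hax⟩, h3⟩ ⟨h1', ⟨a', ha', ha'x⟩, h3'⟩
        refine ⟨mul_mem h1 h1', ⟨a * a', mul_mem ha ha', fun x hx => ?_⟩, ?_⟩
        · rw [apl_mul _ _ (hUR hx), ha'x x hx, hax _ (apl_mem a' hx), apl_mul _ _ hx]
        · rw [apl_mul _ _ hyU, ← mul_inv_cancel_left y (apl γ' y),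
            (iso_apl hUS h1).1.map_mul hyU (hUR h3'), ← mul_assoc]
          refine R.mul_mem h3 ?_
          rw [hax _ h3']
          exact apl_mem a h3' }
  have hD : ∀ γ : D, (γ : MulAut U) ∈ F.autGroup U ∧
      (∃ a ∈ E.autGroup R, ∀ x ∈ R, apl (γ : MulAut U) x = apl a x) ∧
      y⁻¹ * apl (γ : MulAut U) y ∈ R := fun γ => γ.2
  have hiso : ∀ γ : D, Mor F U (apl (γ : MulAut U)) := fun γ => (iso_apl hUS (hD γ).1).1
  -- restriction to `R`
  have hres₀ : ∀ γ : D, ∃ a : E.autGroup R, ∀ x ∈ R, apl (γ : MulAut U) x = apl (a : MulAut R) x :=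
    fun γ => by obtain ⟨a, ha, hax⟩ := (hD γ).2.1; exact ⟨⟨a, ha⟩, hax⟩
  let res : D →* E.autGroup R := MonoidHom.mk' (fun γ => (hres₀ γ).choose) fun γ γ' =>
    Subtype.ext (apl_ext fun x hx => by
      rw [← (hres₀ (γ * γ')).choose_spec x hx, Subgroup.coe_mul, apl_mul _ _ (hUR hx),
        (hres₀ γ').choose_spec x hx, (hres₀ γ).choose_spec _ (apl_mem _ hx), Subgroup.coe_mul,
        apl_mul _ _ hx])
  have hres : ∀ γ : D, ∀ x ∈ R, apl (γ : MulAut U) x = apl (res γ : MulAut R) x :=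
    fun γ => (hres₀ γ).choose_spec
  have hRR : ∀ γ : D, Iso F R R (apl (γ : MulAut U)) := fun γ =>
    ((iso_apl hRS (α := (res γ : MulAut R)) (Subgroup.subset_closure
      ((hEF R) ((iso_apl hRT (res γ).2).1.hom_eq fun x => (apl_coe _ x).symm)))).congr (hres γ))
  -- the crossed homomorphism
  set Z := centralizerIn R R with hZdef
  haveI hZc : IsMulCommutative Z := ⟨⟨fun a b => Subtype.ext
    (Subgroup.mem_centralizer_iff.1 b.2.2 a a.2.1)⟩⟩
  haveI : Finite Z := finite_of_le ((centralizerIn_le R R).trans hRS)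
  have hZU : ∀ z ∈ Z, z ∈ U := fun z hz => hUR hz.1
  have hZinv : ∀ γ : D, ∀ z ∈ Z, apl (γ : MulAut U) z ∈ Z := fun γ z hz =>
    ⟨(hRR γ).mem hz.1, ((hiso γ).mem_centralizerIn le_sup_left (hRR γ) (hZU z hz) hz.2).2⟩
  let ρ : D →* AddMonoid.End (Additive Z) := endAction Z
    (fun (γ : D) z => apl (γ : MulAut U) z) hZinv
    (fun γ a ha b hb => (hiso γ).map_mul (hZU a ha) (hZU b hb))
    (fun z hz => apl_one (hZU z hz)) (fun γ ε z hz => apl_mul _ _ (hZU z hz))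
  have hcmem : ∀ γ : D, y⁻¹ * apl (γ : MulAut U) y ∈ Z := fun γ =>
    ⟨(hD γ).2.2, Subgroup.mul_mem _ (Subgroup.inv_mem _ hyR.2)
      ((hiso γ).mem_centralizerIn le_sup_left (hRR γ) hyU hyR.2).2⟩
  let c : D → Additive Z := fun γ => Additive.ofMul ⟨_, hcmem γ⟩
  have hcross' : ∀ g h : D, y⁻¹ * apl ((g * h : D) : MulAut U) y =
      y⁻¹ * apl (g : MulAut U) y * apl (g : MulAut U) (y⁻¹ * apl (h : MulAut U) y) := fun g h => by
    rw [(hiso g).map_mul (Subgroup.inv_mem _ hyU) (apl_mem _ hyU), (hiso g).map_inv hyU,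
      Subgroup.coe_mul, apl_mul _ _ hyU]
    group
  have hcross : ∀ g h, c (g * h) = c g + ρ g (c h) := fun g h =>
    congrArg Additive.ofMul (Subtype.ext (hcross' g h))
  -- the focal part
  set Φ := cFoc F hRc.1 with hΦdef
  have hΦinv : ∀ γ : D, ∀ z ∈ Z, z ∈ Φ → apl (γ : MulAut U) z ∈ Φ := fun γ z hz hzΦ => by
    obtain ⟨b, hb, hbx⟩ := (hRR γ).exists_mem_autGroup
    obtain ⟨δ, hδ, hδR, hδb⟩ := exists_ext hS hF hRc hb
    rw [← hbx z hz.1, ← hδb z hz.1]
    exact apl_mem_cFoc hRc.1 hδ hδR hzΦ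
  let H : Subgroup D :=
    { carrier := {γ | y⁻¹ * apl (γ : MulAut U) y ∈ Φ}
      one_mem' := by
        show y⁻¹ * apl ((1 : D) : MulAut U) y ∈ Φ
        rw [Subgroup.coe_one, apl_one hyU, inv_mul_cancel]
        exact Φ.one_mem
      mul_mem' := fun {a b} ha hb => by
        show y⁻¹ * apl ((a * b : D) : MulAut U) y ∈ Φ
        rw [hcross' a b]
        exact Φ.mul_mem ha (hΦinv a _ (hcmem b) hb)
      inv_mem' := fun {a} ha => by
        show y⁻¹ * apl ((a⁻¹ : D) : MulAut U) y ∈ Φ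
        have h := hcross' a⁻¹ a
        rw [inv_mul_cancel, Subgroup.coe_one, apl_one hyU, inv_mul_cancel] at h
        rw [eq_inv_of_mul_eq_one_left h.symm]
        exact Φ.inv_mem (hΦinv a⁻¹ _ (hcmem a) ha) }
  have hker : ∀ γ : D, res γ = 1 → γ ∈ H := fun γ hγ => by
    have hid : ∀ x ∈ R, apl (γ : MulAut U) x = x := fun x hx => by
      rw [hres γ x hx, hγ, Subgroup.coe_one, apl_one hx]
    refine quot_mem_focal (F := centralizerSys F hRc.1) (mor_cSys.2
      ⟨(hiso γ).mono le_sup_right, Subgroup.zpowers_le.2 hyR, fun w hw => ?_, _,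
        (hiso γ).mono (sup_le le_sup_right le_sup_left), fun _ _ => rfl, hid⟩)
      (Subgroup.mem_zpowers y)
    exact (hiso γ).mem_centralizerIn le_sup_left (hRR γ) (Subgroup.mem_sup_right hw)
      (Subgroup.zpowers_le.2 hyR hw).2
  -- conjugation by `N_T(R)`
  set N := normalizerIn T R with hN
  have hNT : N ≤ T := normalizerIn_le T R
  have hconj₀ : ∀ t : N, ∃ γ : D, apl (γ : MulAut U) y = y ∧
      ∀ z ∈ U, apl (γ : MulAut U) z = (t : Ω) * z * (t : Ω)⁻¹ := fun t => by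
    have htS : (t : Ω) ∈ S := hT.1 (hNT t.2)
    have hty : (t : Ω) * y * (t : Ω)⁻¹ = y := by
      rw [Subgroup.mem_centralizer_iff.1 hy.2 t (hNT t.2)]; group
    have hmaps : ∀ z ∈ U, (t : Ω) * z * (t : Ω)⁻¹ ∈ U := fun z hz =>
      (mor_conj (F := F) hUS htS).mem_of_sup
        (fun w hw => hUR ((Subgroup.mem_normalizer_iff.1 t.2.2 w).1 hw))
        (fun w hw => by
          obtain ⟨j, rfl⟩ := Subgroup.mem_zpowers_iff.1 hw
          rw [← conj_zpow, hty]
          exact U.zpow_mem hyU j) hz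
    obtain ⟨σ, hσ, hσx⟩ := Iso.exists_mem_autGroup (show Iso F U U (fun z => (t : Ω) * z * (t : Ω)⁻¹)
      from ⟨mor_conj hUS htS, fun w => ⟨fun hw => (mor_conj (F := F) hUS htS).surj_of_card hUS hmaps
        le_rfl hw, fun ⟨z, hz, hzw⟩ => hzw ▸ hmaps z hz⟩⟩)
    obtain ⟨a, ha, hax⟩ := exists_mem_autInducedBy (P := R) (K := T) (hNT t.2) t.2.2
    have hσy : apl σ y = y := by rw [hσx y hyU, hty]
    refine ⟨⟨σ, hσ, ⟨a, autInducedBy_le_autGroup hRT ha, fun z hz =>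
      (hσx z (hUR hz)).trans (hax z hz).symm⟩, ?_⟩, hσy, hσx⟩
    rw [hσy, inv_mul_cancel]
    exact R.one_mem
  let θ : N →* D := MonoidHom.mk' (fun t => (hconj₀ t).choose) fun s t =>
    Subtype.ext (apl_ext fun z hz => by
      rw [(hconj₀ (s * t)).choose_spec.2 z hz, Subgroup.coe_mul, Subgroup.coe_mul, apl_mul _ _ hz,
        (hconj₀ s).choose_spec.2 _ (apl_mem _ hz), (hconj₀ t).choose_spec.2 z hz]
      group)
  have hθ : ∀ t : N, apl (θ t : MulAut U) y = y ∧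
      ∀ z ∈ U, apl (θ t : MulAut U) z = (t : Ω) * z * (t : Ω)⁻¹ := fun t => (hconj₀ t).choose_spec
  have hθH : ∀ t, θ t ∈ H := fun t => by
    show y⁻¹ * apl (θ t : MulAut U) y ∈ Φ
    rw [(hθ t).1, inv_mul_cancel]
    exact Φ.one_mem
  -- index prime to `p`
  have hREn : E.IsFullyNormalized R := fullyNormalized_sub hS hF hT hEF hRT hRn
  obtain ⟨-, Sy, hSy⟩ := fullyAutomized_of_fullyNormalized hTp hE.1.1 hREn
  have hSyH : (Sy : Subgroup (E.autGroup R)) ≤ H.map res := fun σ hσ => by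
    rw [hSy, Subgroup.mem_subgroupOf, mem_autInducedBy_iff] at hσ
    obtain ⟨t, ht, htn, htx⟩ := hσ
    refine Subgroup.mem_map.2 ⟨θ ⟨t, ht, htn⟩, hθH _, Subtype.ext (apl_ext fun z hz => ?_)⟩
    rw [← hres _ z hz, (hθ _).2 z (hUR hz), htx z hz]
  have hHidx : ¬ p ∣ H.index := fun hd => by
    refine Sy.not_dvd_index (hd.trans (dvd_trans ?_ (Subgroup.index_dvd_of_le hSyH)))
    rw [Subgroup.index_map, sup_eq_left.2 fun γ hγ => hker γ (MonoidHom.mem_ker.1 hγ)]
    exact Dvd.intro _ rfl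
  -- a quadratic abelian subgroup
  have hNS : N ≤ S := hNT.trans hT.1
  haveI := finite_of_le hNS
  have hRN : R ≤ N := le_normalizerIn hRT
  haveI hRnorm : (R.subgroupOf N).Normal := Subgroup.normal_subgroupOf_of_le_normalizer inf_le_right
  have hNtop : N = (⊤ : Subgroup N).map N.subtype := by
    rw [← MonoidHom.range_eq_map, Subgroup.range_subtype]
  obtain ⟨A, hA, hAR, hAq⟩ := exists_quadratic_top hp (hS.to_le hNS) hRnorm (by
    by_contra h
    push Not at h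
    refine hkey.ne (key_jA hNS ?_ hRN)
    rw [hNtop, jA_map N.subtype_injective, Subgroup.map_le_iff_le_comap]
    exact sSup_le fun A hA => h A hA)
  set AD := A.map θ with hADdef
  have hADH : AD ≤ H := by rintro _ ⟨a, -, rfl⟩; exact hθH a
  have hAp : IsPGroup p AD := (((hS.to_le hNS).to_subgroup A)).map θ
  have hAab : ∀ a ∈ AD, ∀ b ∈ AD, Commute a b := by
    rintro _ ⟨a, ha, rfl⟩ _ ⟨b, hb, rfl⟩
    exact (commute_of_isMulCommutative hA.comm ha hb).map θ
  have hquad : ∀ a ∈ AD, ∀ m, ρ a (ρ a m) - (ρ a m + ρ a m) + m = 0 := by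
    rintro _ ⟨a, ha, rfl⟩ m
    set z : Ω := ((Additive.toMul m : Z) : Ω) with hz
    have hzZ : z ∈ Z := (Additive.toMul m : Z).2
    have hzN : z ∈ N := hRN hzZ.1
    have hw := hAq ⟨z, hzN⟩ ⟨hzZ.1, Subgroup.mem_centralizer_iff.2 fun r hr =>
      Subtype.ext (Subgroup.mem_centralizer_iff.1 hzZ.2 r hr)⟩ a ha
    have hcomm : Commute (a : Ω) (z⁻¹ * ((a : Ω) * z * (a : Ω)⁻¹)) :=
      congrArg Subtype.val (commute_of_isMulCommutative hA.comm ha hw).eq
    have h1 : ρ (θ a) (ρ (θ a) m) = ρ (θ a) m + (ρ (θ a) m - m) := by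
      refine congrArg Additive.ofMul (Subtype.ext ?_)
      show apl (θ a : MulAut U) (apl (θ a : MulAut U) z) =
        apl (θ a : MulAut U) z * (apl (θ a : MulAut U) z / z)
      rw [(hθ a).2 z (hZU z hzZ),
        (hθ a).2 _ (by rw [← (hθ a).2 z (hZU z hzZ)]; exact apl_mem _ (hZU z hzZ))]
      have h2 : (a : Ω) * z * (a : Ω)⁻¹ / z = z⁻¹ * ((a : Ω) * z * (a : Ω)⁻¹) := by
        have hb : (a : Ω) * z * (a : Ω)⁻¹ ∈ R := (Subgroup.mem_normalizer_iff.1 a.2.2 z).1 hzZ.1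
        have h3 : Commute ((a : Ω) * z * (a : Ω)⁻¹) z⁻¹ :=
          (show Commute ((a : Ω) * z * (a : Ω)⁻¹) z from
            Subgroup.mem_centralizer_iff.1 hzZ.2 _ hb).inv_right
        rw [div_eq_mul_inv, h3.eq]
      rw [h2]
      calc (a : Ω) * ((a : Ω) * z * (a : Ω)⁻¹) * (a : Ω)⁻¹
          = (a : Ω) * z * ((z⁻¹ * ((a : Ω) * z * (a : Ω)⁻¹)) * (a : Ω)⁻¹) := by group
        _ = (a : Ω) * z * (a : Ω)⁻¹ * (z⁻¹ * ((a : Ω) * z * (a : Ω)⁻¹)) := by
          rw [← hcomm.inv_left.eq]; group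
    rw [h1]; abel
  have hfix : ∀ g : D, (∀ a ∈ AD, g⁻¹ * a * g ∈ H) → g ∈ H := by
    intro g hg
    set K := H.map res with hKdef
    let φ : A →* E.autGroup R :=
      (MulAut.conj (res g)⁻¹).toMonoidHom.comp ((res.comp θ).comp A.subtype)
    have hφ : ∀ a : A, φ a = (res g)⁻¹ * res (θ a) * res g := fun a => by
      show (res g)⁻¹ * res (θ (a : N)) * ((res g)⁻¹)⁻¹ = _
      rw [inv_inv]
    have hφK : ∀ a : A, φ a ∈ K := fun a => by
      rw [hφ, ← map_inv, ← map_mul, ← map_mul]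
      exact Subgroup.mem_map_of_mem res (hg _ (Subgroup.mem_map_of_mem θ a.2))
    let Q : Subgroup K := φ.range.subgroupOf K
    have hQ : IsPGroup p Q :=
      (((hS.to_le hNS).to_subgroup A).of_surjective φ.rangeRestrict φ.rangeRestrict_surjective).comap_subtype
    obtain ⟨P, hP⟩ := hQ.exists_le_sylow
    obtain ⟨k, hk⟩ := MulAction.exists_smul_eq K P (Sy.subtype hSyH)
    obtain ⟨h, hhH, hhk⟩ := Subgroup.mem_map.1 (k⁻¹ : K).2
    suffices hgh : g * h ∈ H from (H.mul_mem_cancel_right hhH).1 hgh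
    set β := (res (g * h))⁻¹ with hβdef
    have hβA : ∀ a : A, β * res (θ a) * β⁻¹ ∈ (Sy : Subgroup (E.autGroup R)) := fun a => by
      have h1 : k * ⟨φ a, hφK a⟩ * k⁻¹ ∈ (Sy.subtype hSyH : Subgroup K) := by
        rw [← hk, Sylow.coe_subgroup_smul, Subgroup.mem_pointwise_smul_iff_inv_smul_mem]
        refine hP ?_
        have : (MulAut.conj k)⁻¹ • (k * (⟨φ a, hφK a⟩ : K) * k⁻¹) = ⟨φ a, hφK a⟩ := by
          simp [MulAut.conj_inv_apply, mul_assoc]
        rw [this]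
        exact Subgroup.mem_subgroupOf.2 ⟨a, rfl⟩
      rw [Sylow.coe_subtype, Subgroup.mem_subgroupOf, Subgroup.coe_mul, Subgroup.coe_mul,
        Subgroup.coe_inv] at h1
      have hk' : (k : E.autGroup R) = (res h)⁻¹ := by rw [hhk, Subgroup.coe_inv, inv_inv]
      replace h1 : (k : E.autGroup R) * φ a * (k : E.autGroup R)⁻¹ ∈ (Sy : Subgroup (E.autGroup R)) := h1
      rw [hk', hφ] at h1
      rw [hβdef, map_mul]
      simpa [mul_assoc] using h1
    -- the extension on a subgroup of larger key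
    set A' := A.map N.subtype with hA'def
    have hA'N : A' ≤ N := Subgroup.map_subtype_le A
    have hA'max : AbMax 0 N A' := by
      rw [hNtop]
      exact (abMax_map_iff N.subtype_injective).2 hA
    have hA'R : ¬ A' ≤ R := fun h' => hAR fun a ha =>
      Subgroup.mem_subgroupOf.2 (h' (Subgroup.mem_map_of_mem _ ha))
    have hMN : R ⊔ A' ≤ N := sup_le hRN hA'N
    have hkeyM : key S R < key S (R ⊔ A') := by
      refine lt_of_le_of_ne (key_mono (hMN.trans hNS) le_sup_left) fun he => hA'R ?_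
      obtain ⟨-, hj⟩ := eq_of_key_eq (hMN.trans hNS) le_sup_left he
      refine le_trans (le_of_le_of_eq (le_jA ⟨⟨le_sup_right, hA'max.comm, hA'max.exp⟩, fun B hB =>
        hA'max.max B ⟨hB.le.trans hMN, hB.comm, hB.exp⟩⟩) hj.symm) (jA_le R)
    obtain ⟨e, he, hex⟩ :=
      (isReceptive_iff.1 (receptive_of_fullyNormalized hTp hE.1.1 hREn)).2 R _ (iso_apl hRT β.2)
    have hMphi : R ⊔ A' ≤ nPhi T R (apl (β : MulAut R)) := by
      refine sup_le (iso_apl hRT β.2).1.le_nPhi ?_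
      rintro _ ⟨a, ha, rfl⟩
      have h1 := hβA ⟨a, ha⟩
      rw [hSy, Subgroup.mem_subgroupOf, mem_autInducedBy_iff] at h1
      obtain ⟨t, ht, -, htx⟩ := h1
      refine ⟨hNT a.2, a.2.2, t, ht, fun z hz => ?_⟩
      rw [← htx _ (apl_mem _ hz), show ((β * res (θ (⟨a, ha⟩ : A)) * β⁻¹ : E.autGroup R) : MulAut R) =
          (β : MulAut R) * (res (θ (⟨a, ha⟩ : A)) : MulAut R) * (β : MulAut R)⁻¹ from rfl,
        apl_mul _ _ (apl_mem _ hz), apl_mul _ _ (apl_mem _ (apl_mem _ hz)), apl_inv_apl _ hz,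
        ← hres _ z hz, (hθ _).2 z (hUR hz)]
      rfl
    obtain ⟨-, -, j, hj, hjf, hjy⟩ := hbig _ e (he.mono hMphi) hkeyM
    have hjU : Mor F U j := hj.mono (sup_le_sup_right le_sup_left _)
    have hjR : ∀ z ∈ R, j z = apl (β : MulAut R) z := fun z hz => by
      rw [hjf z (Subgroup.mem_sup_left hz), hex z hz]
    have hjmem : ∀ z ∈ U, j z ∈ U := fun z hz => hjU.mem_of_sup
      (fun w hw => hUR (by rw [hjR w hw]; exact apl_mem _ hw))
      (fun w hw => by rw [hjy w hw]; exact Subgroup.mem_sup_right hw) hz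
    obtain ⟨γ, hγ, hγx⟩ := Iso.exists_mem_autGroup (show Iso F U U j from ⟨hjU, fun w =>
      ⟨fun hw => hjU.surj_of_card hUS hjmem le_rfl hw, fun ⟨z, hz, hzw⟩ => hzw ▸ hjmem z hz⟩⟩)
    have hγy : apl γ y = y := by rw [hγx y hyU, hjy y (Subgroup.mem_zpowers y)]
    set γ' : D := ⟨γ, hγ, ⟨β, β.2, fun z hz => by rw [hγx z (hUR hz), hjR z hz]⟩,
      by rw [hγy, inv_mul_cancel]; exact R.one_mem⟩ with hγ'def
    have hγ'H : γ' ∈ H := by
      show y⁻¹ * apl γ y ∈ Φ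
      rw [hγy, inv_mul_cancel]
      exact Φ.one_mem
    have hγ'res : res γ' = β := Subtype.ext (apl_ext fun z hz => by
      rw [← hres γ' z hz]
      show apl γ z = _
      rw [hγx z (hUR hz), hjR z hz])
    have h1 : γ' * (g * h) ∈ H :=
      hker _ (by rw [map_mul, hγ'res, hβdef, inv_mul_cancel])
    exact (H.mul_mem_cancel_left hγ'H).1 h1
  -- conclusion
  let M₀ : AddSubgroup (Additive Z) := Subgroup.toAddSubgroup (Φ.subgroupOf Z)
  have hM₀ : ∀ g, ∀ m ∈ M₀, ρ g m ∈ M₀ := fun g m hm => hΦinv g _ (Additive.toMul m : Z).2 hm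
  have hall := OrbitSum.crossedHom_mem (p := p) ρ hp
    (pow_nsmul_eq_zero (hS.to_le ((centralizerIn_le R R).trans hRS))) M₀ hM₀ c hcross
    (H := H) (fun h hh => hh) hHidx hADH hAp hAab hquad (fun g hg => hfix g hg)
  refine ⟨hy, fun δ hδ hord => ?_⟩
  have hN' : R ⊔ centralizerIn S R ≤ S := sup_le hRS (centralizerIn_le S R)
  have hδi := iso_apl hN' hδ.1
  have hle : U ≤ R ⊔ centralizerIn S R := sup_le_sup_left (Subgroup.zpowers_le.2 hyR) R
  have hz₀ : y⁻¹ * apl δ y ∈ R := hδ.2.2 y hyR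
  have hδmem : ∀ z ∈ U, apl δ z ∈ U := fun z hz => (hδi.1.mono hle).mem_of_sup
    (fun w hw => hUR ((hδ.iso hRS hEF hRT).mem hw))
    (fun w hw => by
      obtain ⟨j, rfl⟩ := Subgroup.mem_zpowers_iff.1 hw
      rw [mor_map_zpow hδi.1 (Subgroup.mem_sup_right hyR)]
      refine U.zpow_mem ?_ j
      rw [← mul_inv_cancel_left y (apl δ y)]
      exact U.mul_mem hyU (hUR hz₀)) hz
  obtain ⟨γ, hγ, hγx⟩ := Iso.exists_mem_autGroup (show Iso F U U (apl δ) from ⟨hδi.1.mono hle,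
    fun w => ⟨fun hw => (hδi.1.mono hle).surj_of_card hUS hδmem le_rfl hw,
      fun ⟨z, hz, hzw⟩ => hzw ▸ hδmem z hz⟩⟩)
  obtain ⟨a, ha, hax⟩ := hδ.2.1
  have hz := hall ⟨γ, hγ, ⟨a, ha, fun z hz => (hγx z (hUR hz)).trans (hax z hz)⟩,
    by rw [hγx y hyU]; exact hz₀⟩
  have hzΦ : y⁻¹ * apl δ y ∈ Φ := by rw [← hγx y hyU]; exact hz
  refine apl_eq_of_fixed_diff hS hN' hord (Subgroup.mem_sup_right hyR) ?_
  exact fix_cFoc hS hF hRc hδ.1 (hδ.iso hRS hEF hRT) hδ.2.2 hord hzΦ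

end Cfsg.Agent.FusSys.CentE
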