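import Mathlib

/-!
Crossed homomorphisms into abelian `p`-groups: sums over cosets.

`crossedHom_mem` : for `p` odd, a crossed homomorphism which lies in an invariant subgroup `M₀` on a
subgroup `H` of index prime to `p` lies in it everywhere, provided some abelian `p`-subgroup `A` of
`H` acts quadratically and fixes only the trivial coset.
`exists_shift` : a crossed homomorphism whose values on a subgroup of index prime to `p` are fixed
is, on elements of order prime to `p`, the coboundary of an element fixed by the elements on whose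
conjugates it vanishes.
-/

set_option autoImplicit false

namespace Cfsg.Agent.FusSys.OrbitSum

variable {p : ℕ} [Fact p.Prime] {M : Type*} [AddCommGroup M]

/-- The sum over an orbit of length `p` of a quadratic operator. -/
theorem sum_quadratic (hp : p ≠ 2) {a : AddMonoid.End M}
    (hq : ∀ m, a (a m) - (a m + a m) + m = 0) {m : M} (hm : (a ^ p) m = m) :
    ∑ j ∈ Finset.range p, (a ^ j) m = p • m := by
  set w := a m - m with hw
  have haw : a w = w := by
    rw [hw, map_sub]
    have := hq m
    rw [← sub_eq_zero]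
    rw [← this]; abel
  have hj : ∀ j : ℕ, (a ^ j) m = m + j • w := by
    intro j
    induction j with
    | zero => simp
    | succ j ih =>
      rw [pow_succ', AddMonoid.End.coe_mul, Function.comp_apply, ih, map_add, map_nsmul, haw,
        succ_nsmul, hw]
      abel
  have hpw : p • w = 0 := by simpa [hj p] using hm
  obtain ⟨k, hk⟩ := (Fact.out : p.Prime).odd_of_ne_two hp
  have hs : (∑ j ∈ Finset.range p, j) = p * k := by
    rw [Finset.sum_range_id, hk, show 2 * k + 1 - 1 = 2 * k from rfl,
      show (2 * k + 1) * (2 * k) = (2 * k + 1) * k * 2 by ring, Nat.mul_div_cancel _ (by norm_num)]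
  simp only [hj, Finset.sum_add_distrib, Finset.sum_const, Finset.card_range, ← Finset.sum_nsmul,
    ← Finset.sum_smul]
  rw [hs, mul_comm, mul_nsmul', hpw, nsmul_zero, add_zero]

variable {D : Type*} [Group D] [Finite D] (ρ : D →* AddMonoid.End M)

theorem sum_orbits_mem (hp : p ≠ 2) (W : AddSubgroup M) {A : Subgroup D} (hA : IsPGroup p A)
    (hab : ∀ a ∈ A, ∀ b ∈ A, Commute a b)
    (hq : ∀ a ∈ A, ∀ m, ρ a (ρ a m) - (ρ a m + ρ a m) + m = 0)
    {X : Type*} [Finite X] [MulAction D X] (f : X → M) (hf : ∀ a ∈ A, ∀ x, f (a • x) = ρ a (f x))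
    (hfW : ∀ x, p • f x ∈ W) :
    ∀ s : Finset X, (∀ a ∈ A, ∀ x ∈ s, a • x ∈ s) → (∀ x ∈ s, ∃ a ∈ A, a • x ≠ x) →
      ∑ x ∈ s, f x ∈ W := by
  classical
  have hprime : p.Prime := Fact.out
  intro s
  induction s using Finset.strongInduction with
  | H s ih =>
  intro hinv hmove
  rcases s.eq_empty_or_nonempty with rfl | ⟨x, hx⟩
  · simp
  -- an element moving `x` whose `p`-th power fixes `x`
  obtain ⟨a, ha, hax, hpx⟩ : ∃ a ∈ A, a • x ≠ x ∧ a ^ p • x = x := by
    obtain ⟨a₀, ha₀, ha₀x⟩ := hmove x hx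
    obtain ⟨K, hK⟩ := hA ⟨a₀, ha₀⟩
    have hex : ∃ j, a₀ ^ p ^ j • x = x := ⟨K, by
      have : a₀ ^ p ^ K = 1 := congrArg Subtype.val hK
      rw [this, one_smul]⟩
    have hj0 : Nat.find hex ≠ 0 := fun h0 => ha₀x (by simpa [h0] using Nat.find_spec hex)
    obtain ⟨j, hj⟩ := Nat.exists_eq_succ_of_ne_zero hj0
    refine ⟨a₀ ^ p ^ j, A.pow_mem ha₀ _, Nat.find_min hex (by omega), ?_⟩
    rw [← pow_mul, ← pow_succ, ← Nat.succ_eq_add_one, ← hj]
    exact Nat.find_spec hex
  -- the points moved by `a` with `p`-th power fixing them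
  set O : Finset X := (Finset.range p).image fun j => a ^ j • x with hO
  have hper : ∀ j : ℕ, a ^ (j % p) • x = a ^ j • x := fun j => by
    conv_rhs => rw [← Nat.div_add_mod j p, add_comm, pow_add, mul_smul, pow_mul]
    have : ∀ i : ℕ, (a ^ p) ^ i • x = x := fun i => by
      induction i with
      | zero => simp
      | succ i ih => rw [pow_succ, mul_smul, hpx, ih]
    rw [this]
  have hinj : Set.InjOn (fun j => a ^ j • x) (Finset.range p : Set ℕ) := by
    intro i hi j hj h
    simp only [Finset.coe_range, Set.mem_Iio] at hi hj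
    by_contra hne
    suffices aux : ∀ i j, j < p → i < j → a ^ i • x ≠ a ^ j • x by
      rcases lt_or_gt_of_ne hne with hlt | hlt
      · exact aux i j hj hlt h
      · exact aux j i hi hlt h.symm
    intro i j hj hlt h
    have h1 : a ^ (j - i) • x = x := by
      have h' : a ^ i • (a ^ (j - i) • x) = a ^ i • x := by
        rw [← mul_smul, ← pow_add, show i + (j - i) = j by omega]; exact h.symm
      exact smul_left_cancel _ h'
    have hcop : Nat.Coprime (j - i) p := Nat.Coprime.symm
      (hprime.coprime_iff_not_dvd.2 fun hd => by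
        have := Nat.le_of_dvd (by omega) hd; omega)
    have h2 : Function.IsPeriodicPt (fun y => a • y) (j - i) x := by
      show (fun y => a • y)^[j - i] x = x
      rw [smul_iterate]; exact h1
    have h3 : Function.IsPeriodicPt (fun y => a • y) p x := by
      show (fun y => a • y)^[p] x = x
      rw [smul_iterate]; exact hpx
    have h4 := h2.gcd h3
    rw [hcop.gcd_eq_one] at h4
    exact hax h4
  have hOs : O ⊆ s := fun y hy => by
    obtain ⟨j, -, rfl⟩ := Finset.mem_image.1 hy
    exact hinv _ (A.pow_mem ha j) x hx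
  have hsum : ∑ y ∈ O, f y ∈ W := by
    rw [hO, Finset.sum_image hinj]
    simp only [hf _ (A.pow_mem ha _), map_pow]
    rw [sum_quadratic hp (hq a ha) (by rw [← map_pow, ← hf _ (A.pow_mem ha _), hpx])]
    exact hfW x
  -- remove the whole `A`-orbit, piece by piece
  set Orb : Finset X := s.filter fun y => ∃ b ∈ A, b • x = y with hOrb
  have hOrbinv : ∀ b ∈ A, ∀ y ∈ Orb, b • y ∈ Orb := fun b hb y hy => by
    obtain ⟨hys, c, hc, rfl⟩ := Finset.mem_filter.1 hy
    exact Finset.mem_filter.2 ⟨hinv b hb _ hys, b * c, A.mul_mem hb hc, mul_smul _ _ _⟩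
  have hxOrb : x ∈ Orb := Finset.mem_filter.2 ⟨hx, 1, A.one_mem, one_smul _ _⟩
  have hrest : ∑ y ∈ s \ Orb, f y ∈ W := by
    refine ih _ (Finset.sdiff_ssubset (Finset.filter_subset _ _) ⟨x, hxOrb⟩) (fun b hb y hy => ?_)
      fun y hy => hmove y (Finset.mem_sdiff.1 hy).1
    obtain ⟨hys, hyO⟩ := Finset.mem_sdiff.1 hy
    refine Finset.mem_sdiff.2 ⟨hinv b hb y hys, fun h => hyO ?_⟩
    have := hOrbinv b⁻¹ (A.inv_mem hb) _ h
    rwa [inv_smul_smul] at this
  have horb : ∑ y ∈ Orb, f y ∈ W := by
    -- orbits of `a` on the `A`-orbit all have length `p`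
    suffices h : ∀ t : Finset X, t ⊆ Orb → (∀ y ∈ t, a • y ∈ t) → ∑ y ∈ t, f y ∈ W from
      h Orb subset_rfl (hOrbinv a ha)
    intro t
    induction t using Finset.strongInduction with
    | H t iht =>
    intro htO htinv
    rcases t.eq_empty_or_nonempty with rfl | ⟨y, hy⟩
    · simp
    obtain ⟨-, b, hb, rfl⟩ := Finset.mem_filter.1 (htO hy)
    have hc : ∀ j : ℕ, a ^ j • b • x = b • a ^ j • x := fun j => by
      rw [← mul_smul, ← mul_smul, ((hab a ha b hb).pow_left j).eq]
    set O' := O.image fun z => b • z with hO'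
    have hO't : O' ⊆ t := fun z hz => by
      obtain ⟨w, hw, rfl⟩ := Finset.mem_image.1 hz
      obtain ⟨j, -, rfl⟩ := Finset.mem_image.1 hw
      show b • a ^ j • x ∈ t
      rw [← hc]
      have hall : ∀ j : ℕ, a ^ j • b • x ∈ t := fun j => by
        induction j with
        | zero => simpa using hy
        | succ j ihj => rw [pow_succ', mul_smul]; exact htinv _ ihj
      exact hall j
    have hO'inv : ∀ z, a • z ∈ O' → z ∈ O' := fun z hz => by
      obtain ⟨w, hw, hwz⟩ := Finset.mem_image.1 hz
      obtain ⟨j, -, rfl⟩ := Finset.mem_image.1 hw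
      refine Finset.mem_image.2 ⟨a ^ ((j + (p - 1)) % p) • x, Finset.mem_image.2
        ⟨_, Finset.mem_range.2 (Nat.mod_lt _ hprime.pos), rfl⟩, ?_⟩
      refine smul_left_cancel a ?_
      rw [← hwz, hper, ← hc, ← hc, ← mul_smul, ← pow_succ',
        show j + (p - 1) + 1 = j + p by have := hprime.pos; omega, hc, hc, pow_add, mul_smul, hpx]
    have hxO : x ∈ O := Finset.mem_image.2 ⟨0, Finset.mem_range.2 hprime.pos, by simp⟩
    rw [← Finset.sum_sdiff hO't]
    refine W.add_mem (iht _ (Finset.sdiff_ssubset hO't ⟨_, Finset.mem_image_of_mem _ hxO⟩)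
      (Finset.sdiff_subset.trans htO) fun z hz => ?_) ?_
    · obtain ⟨hzt, hzO⟩ := Finset.mem_sdiff.1 hz
      exact Finset.mem_sdiff.2 ⟨htinv z hzt, fun h => hzO (hO'inv z h)⟩
    · rw [hO', Finset.sum_image fun u _ v _ h => smul_left_cancel b h]
      have : ∀ z ∈ O, f (b • z) = ρ b (f z) := fun z _ => hf b hb z
      rw [Finset.sum_congr rfl this, ← map_sum]
      rw [hO, Finset.sum_image hinj]
      simp only [hf _ (A.pow_mem ha _), map_pow]
      rw [sum_quadratic hp (hq a ha) (by rw [← map_pow, ← hf _ (A.pow_mem ha _), hpx]), map_nsmul,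
        ← hf b hb]
      exact hfW _
  rw [← Finset.sum_sdiff (Finset.filter_subset (fun y => ∃ b ∈ A, b • x = y) s)]
  exact W.add_mem hrest horb

variable [Finite M]

/-- Multiples by integers prime to `p` are invertible on a `p`-group. -/
theorem exists_nsmul_eq (hM : ∀ m : M, ∃ k : ℕ, p ^ k • m = 0) {n : ℕ} (hn : ¬ p ∣ n) :
    ∃ i : ℕ, ∀ m : M, i • n • m = m := by
  have hn' : Nat.Coprime n (Nat.card M) := by
    refine Nat.coprime_of_dvd fun r hr hrn hrM => ?_
    haveI := Fact.mk hr
    obtain ⟨m, hm⟩ := exists_prime_addOrderOf_dvd_card' r hrM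
    obtain ⟨k, hk⟩ := hM m
    have h1 : r ∣ p ^ k := hm ▸ addOrderOf_dvd_of_nsmul_eq_zero hk
    exact hn (((Nat.prime_dvd_prime_iff_eq hr Fact.out).1 (hr.dvd_of_dvd_pow h1)) ▸ hrn)
  rcases Nat.lt_or_ge 1 (Nat.card M) with h1 | h1
  · obtain ⟨i, -, hi⟩ := Nat.exists_mul_mod_eq_one_of_coprime hn' h1
    refine ⟨i, fun m => ?_⟩
    rw [← mul_nsmul', mul_comm, ← Nat.div_add_mod (n * i) (Nat.card M), hi, add_nsmul, mul_nsmul,
      card_nsmul_eq_zero', nsmul_zero, zero_add, one_nsmul]
  · haveI : Subsingleton M := Finite.card_le_one_iff_subsingleton.1 h1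
    exact ⟨0, fun m => Subsingleton.elim _ _⟩

/-- A crossed homomorphism which vanishes on a subgroup of index prime to `p`, in which some
quadratic abelian `p`-subgroup fixes only the trivial coset, vanishes. -/
theorem crossedHom_eq_zero (hp : p ≠ 2) (hM : ∀ m : M, ∃ k : ℕ, p ^ k • m = 0) (c : D → M)
    (hc : ∀ g h, c (g * h) = c g + ρ g (c h)) {H : Subgroup D} (hH : ∀ h ∈ H, c h = 0)
    (hidx : ¬ p ∣ H.index) {A : Subgroup D} (hAH : A ≤ H) (hA : IsPGroup p A)
    (hab : ∀ a ∈ A, ∀ b ∈ A, Commute a b)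
    (hq : ∀ a ∈ A, ∀ m, ρ a (ρ a m) - (ρ a m + ρ a m) + m = 0)
    (hfix : ∀ g : D, (∀ a ∈ A, g⁻¹ * a * g ∈ H) → c g = 0) (g : D) : c g = 0 := by
  classical
  haveI := Fintype.ofFinite (D ⧸ H)
  have hwd : ∀ g h, h ∈ H → c (g * h) = c g := fun g h hh => by rw [hc, hH h hh, map_zero, add_zero]
  let f : D ⧸ H → M := fun x => c x.out
  have hout : ∀ g : D, f (g : D ⧸ H) = c g := fun g => by
    obtain ⟨h, hh⟩ := QuotientGroup.mk_out_eq_mul H g
    show c _ = _
    rw [hh]
    exact hwd g _ h.2
  have hact : ∀ (γ : D) (x : D ⧸ H), f (γ • x) = c γ + ρ γ (f x) := fun γ x => by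
    induction x using QuotientGroup.induction_on with
    | H g => rw [MulAction.Quotient.smul_mk, smul_eq_mul, hout, hout, hc]
  obtain ⟨i, hi⟩ := exists_nsmul_eq (p := p) hM hidx
  obtain ⟨K, hK⟩ : ∃ K, ∀ m : M, p ^ K • m = 0 := by
    haveI := Fintype.ofFinite M
    choose k hk using hM
    refine ⟨∑ m, k m, fun m => ?_⟩
    obtain ⟨d, hd⟩ := Nat.pow_dvd_pow p (Finset.single_le_sum (fun _ _ => Nat.zero_le _)
      (Finset.mem_univ m) : k m ≤ ∑ m, k m)
    rw [hd, mul_nsmul, hk, nsmul_zero]
  suffices h : ∀ j, ∀ g, c g ∈ AddMonoidHom.range (nsmulAddMonoidHom (α := M) (p ^ j)) by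
    obtain ⟨m, hm⟩ := h K g
    rw [← hm]; exact hK m
  intro j
  induction j with
  | zero => exact fun g => ⟨c g, by simp⟩
  | succ j ih =>
    set W := AddMonoidHom.range (nsmulAddMonoidHom (α := M) (p ^ (j + 1))) with hW
    have hρW : ∀ γ m, m ∈ W → ρ γ m ∈ W := fun γ m ⟨u, hu⟩ => ⟨ρ γ u, by
      rw [← hu]; exact (map_nsmul (ρ γ) _ _).symm⟩
    have hfW : ∀ x, p • f x ∈ W := fun x => by
      obtain ⟨u, hu⟩ := ih x.out
      refine ⟨u, ?_⟩
      show p ^ (j + 1) • u = p • c x.out
      rw [← hu, pow_succ', mul_nsmul']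
      rfl
    have hS : ∑ x, f x ∈ W := by
      rw [← Finset.sum_filter_add_sum_filter_not Finset.univ fun x => ∀ a ∈ A, a • x = x]
      refine W.add_mem ?_ (sum_orbits_mem ρ hp W hA hab hq f
        (fun a ha x => by rw [hact, hH a (hAH ha), zero_add]) hfW _ (fun a ha x hx => ?_) fun x hx => ?_)
      · rw [Finset.sum_eq_zero fun x hx => ?_]
        · exact W.zero_mem
        induction x using QuotientGroup.induction_on with
        | H g =>
        rw [hout]
        refine hfix g fun a ha => ?_
        have h1 := (Finset.mem_filter.1 hx).2 a ha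
        rw [MulAction.Quotient.smul_mk, smul_eq_mul, QuotientGroup.eq] at h1
        have h2 := H.inv_mem h1
        rwa [mul_inv_rev, inv_inv, ← mul_assoc] at h2
      · simp only [Finset.mem_filter, Finset.mem_univ, true_and] at hx ⊢
        intro h
        refine hx fun b hb => smul_left_cancel a ?_
        rw [← mul_smul, (hab a ha b hb).eq, mul_smul, h b hb]
      · simp only [Finset.mem_filter, Finset.mem_univ, true_and, not_forall] at hx
        obtain ⟨a, ha, hax⟩ := hx
        exact ⟨a, ha, hax⟩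
    intro γ
    have h1 : H.index • c γ + ρ γ (∑ x, f x) = ∑ x, f x := by
      conv_rhs => rw [← Equiv.sum_comp (MulAction.toPerm γ) f]
      simp only [MulAction.toPerm_apply, hact, Finset.sum_add_distrib, Finset.sum_const,
        Finset.card_univ, ← map_sum]
      rw [Subgroup.index, Nat.card_eq_fintype_card]
    rw [← hi (c γ), eq_sub_of_add_eq h1]
    exact W.nsmul_mem (W.sub_mem hS (hρW γ _ hS)) i

/-- The relative version of `crossedHom_eq_zero`. -/
theorem crossedHom_mem (hp : p ≠ 2) (hM : ∀ m : M, ∃ k : ℕ, p ^ k • m = 0) (M₀ : AddSubgroup M)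
    (hM₀ : ∀ g, ∀ m ∈ M₀, ρ g m ∈ M₀) (c : D → M)
    (hc : ∀ g h, c (g * h) = c g + ρ g (c h)) {H : Subgroup D} (hH : ∀ h ∈ H, c h ∈ M₀)
    (hidx : ¬ p ∣ H.index) {A : Subgroup D} (hAH : A ≤ H) (hA : IsPGroup p A)
    (hab : ∀ a ∈ A, ∀ b ∈ A, Commute a b)
    (hq : ∀ a ∈ A, ∀ m, ρ a (ρ a m) - (ρ a m + ρ a m) + m = 0)
    (hfix : ∀ g : D, (∀ a ∈ A, g⁻¹ * a * g ∈ H) → c g ∈ M₀) (g : D) : c g ∈ M₀ := by
  haveI : Finite (M ⧸ M₀) := inferInstance
  let ρ' : D →* AddMonoid.End (M ⧸ M₀) :=
    { toFun := fun g => QuotientAddGroup.map M₀ M₀ (ρ g) fun m hm => hM₀ g m hm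
      map_one' := AddMonoidHom.ext fun x => by
        induction x using QuotientAddGroup.induction_on with
        | H m =>
          show ((ρ 1 m : M) : M ⧸ M₀) = (m : M ⧸ M₀)
          rw [map_one]
          rfl
      map_mul' := fun g h => AddMonoidHom.ext fun x => by
        induction x using QuotientAddGroup.induction_on with
        | H m =>
          show ((ρ (g * h) m : M) : M ⧸ M₀) = ((ρ g (ρ h m) : M) : M ⧸ M₀)
          rw [map_mul]
          rfl }
  have key := crossedHom_eq_zero (M := M ⧸ M₀) ρ' hp (fun x => by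
      induction x using QuotientAddGroup.induction_on with
      | H m => obtain ⟨k, hk⟩ := hM m; exact ⟨k, by rw [← QuotientAddGroup.mk_nsmul, hk]; rfl⟩)
    (fun g => (c g : M ⧸ M₀)) (fun g h => congrArg (QuotientAddGroup.mk' M₀) (hc g h) |>.trans (map_add _ _ _))
    (fun h hh => (QuotientAddGroup.eq_zero_iff _).2 (hH h hh)) hidx hAH hA hab
    (fun a ha x => by
      induction x using QuotientAddGroup.induction_on with
      | H m =>
        show ((ρ a (ρ a m) : M) : M ⧸ M₀) - (((ρ a m : M) : M ⧸ M₀) + ((ρ a m : M) : M ⧸ M₀)) + (m : M ⧸ M₀) = 0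
        rw [← QuotientAddGroup.mk_add, ← QuotientAddGroup.mk_sub, ← QuotientAddGroup.mk_add, hq a ha m]
        rfl)
    (fun g hg => (QuotientAddGroup.eq_zero_iff _).2 (hfix g hg)) g
  exact (QuotientAddGroup.eq_zero_iff _).1 key

/-- A crossed homomorphism with fixed values on a subgroup of index prime to `p` is a coboundary
on elements of order prime to `p`. -/
theorem exists_shift (hM : ∀ m : M, ∃ k : ℕ, p ^ k • m = 0) (c : D → M)
    (hc : ∀ g h, c (g * h) = c g + ρ g (c h)) {P : Subgroup D} (hidx : ¬ p ∣ P.index)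
    (hP : ∀ h ∈ P, ∀ g, ρ g (c h) = c h) :
    ∃ v, (∀ t, c t = 0 → (∀ g, ∀ k : ℕ, g⁻¹ * t ^ k * g ∈ P → c (g⁻¹ * t ^ k * g) = 0) →
        ρ t v = v) ∧ ∀ γ, (orderOf γ).Coprime p → c γ = v - ρ γ v := by
  classical
  haveI := Fintype.ofFinite (D ⧸ P)
  obtain ⟨i, hi⟩ := exists_nsmul_eq (p := p) hM hidx
  let f : D ⧸ P → M := fun x => c x.out
  have hout : ∀ g : D, ∃ h ∈ P, f (g : D ⧸ P) = c g + c h := fun g => by
    obtain ⟨h, hh⟩ := QuotientGroup.mk_out_eq_mul P g
    refine ⟨h, h.2, ?_⟩
    show c _ = _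
    rw [hh, hc, hP _ h.2]
  let F₁ : AddSubgroup M := AddSubgroup.closure (c '' P)
  have hF₁ : ∀ m ∈ F₁, ∀ g, ρ g m = m := fun m hm g => by
    induction hm using AddSubgroup.closure_induction with
    | mem m hm => obtain ⟨h, hh, rfl⟩ := hm; exact hP h hh g
    | zero => exact map_zero _
    | add a b _ _ ha hb => rw [map_add, ha, hb]
    | neg a _ ha => rw [map_neg, ha]
  have hmem : ∀ h ∈ P, c h ∈ F₁ := fun h hh => AddSubgroup.subset_closure ⟨h, hh, rfl⟩
  have he : ∀ (γ : D) (x : D ⧸ P), f (γ • x) - (c γ + ρ γ (f x)) ∈ F₁ := fun γ x => by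
    induction x using QuotientGroup.induction_on with
    | H g =>
    obtain ⟨h, hh, h1⟩ := hout (γ * g)
    obtain ⟨h', hh', h2⟩ := hout g
    rw [MulAction.Quotient.smul_mk, smul_eq_mul, h1, h2, hc, map_add, hP h' hh']
    convert F₁.sub_mem (hmem h hh) (hmem h' hh') using 1
    abel
  set s₀ := ∑ x, f x with hs₀
  let err : D → M := fun γ => P.index • c γ + ρ γ s₀ - s₀
  have herrmem : ∀ γ, err γ ∈ F₁ := fun γ => by
    have : err γ = -∑ x, (f (γ • x) - (c γ + ρ γ (f x))) := by
      rw [Finset.sum_sub_distrib, Finset.sum_add_distrib, Finset.sum_const, Finset.card_univ,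
        ← map_sum, ← hs₀]
      have h := Equiv.sum_comp (MulAction.toPerm γ) f
      simp only [MulAction.toPerm_apply] at h
      rw [h, ← hs₀]
      show P.index • c γ + ρ γ s₀ - s₀ = _
      rw [Subgroup.index, Nat.card_eq_fintype_card]
      abel
    rw [this]
    exact F₁.neg_mem (F₁.sum_mem fun x _ => he γ x)
  have herr : ∀ g h, err (g * h) = err g + err h := fun g h => by
    conv_rhs => rw [← hF₁ _ (herrmem h) g]
    simp only [err, hc, map_mul, AddMonoid.End.coe_mul, Function.comp_apply, map_sub, map_add,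
      map_nsmul, nsmul_add]
    abel
  have hone : err 1 = 0 := by
    have := herr 1 1
    rwa [one_mul, left_eq_add] at this
  have herrpow : ∀ γ (k : ℕ), err (γ ^ k) = k • err γ := fun γ k => by
    induction k with
    | zero => simpa using hone
    | succ k ih => rw [pow_succ, herr, ih, succ_nsmul]
  refine ⟨i • s₀, fun t ht hconj => ?_, fun γ hγ => ?_⟩
  · -- the defects of `t` cancel along its orbits
    have hsum : ∑ x, (f (t • x) - ρ t (f x)) = 0 := by
      suffices h : ∀ s : Finset (D ⧸ P), (∀ x ∈ s, t • x ∈ s) →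
          ∑ x ∈ s, (f (t • x) - ρ t (f x)) = 0 from h _ fun x _ => Finset.mem_univ _
      intro s
      induction s using Finset.strongInduction with
      | H s ih =>
      intro hs
      rcases s.eq_empty_or_nonempty with rfl | ⟨x, hx⟩
      · simp
      have hper : ∃ l, 0 < l ∧ t ^ l • x = x :=
        ⟨orderOf t, orderOf_pos t, by rw [pow_orderOf_eq_one, one_smul]⟩
      set l := Nat.find hper with hl
      obtain ⟨hl0, hlx⟩ : 0 < l ∧ t ^ l • x = x := Nat.find_spec hper
      set O := (Finset.range l).image fun j => t ^ j • x with hO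
      have hinj : Set.InjOn (fun j => t ^ j • x) (Finset.range l : Set ℕ) := by
        intro i hi j hj h
        simp only [Finset.coe_range, Set.mem_Iio] at hi hj
        by_contra hne
        suffices aux : ∀ i j, j < l → i < j → t ^ i • x ≠ t ^ j • x by
          rcases lt_or_gt_of_ne hne with hlt | hlt
          · exact aux i j hj hlt h
          · exact aux j i hi hlt h.symm
        intro i j hj hlt h
        refine Nat.find_min hper (show j - i < l by omega) ⟨by omega, smul_left_cancel (t ^ i) ?_⟩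
        rw [← mul_smul, ← pow_add, show i + (j - i) = j by omega]
        exact h.symm
      have hOs : O ⊆ s := fun y hy => by
        obtain ⟨j, -, rfl⟩ := Finset.mem_image.1 hy
        clear! O
        induction j with
        | zero => simpa using hx
        | succ j ihj => rw [pow_succ', mul_smul]; exact hs _ ihj
      have hOinv : ∀ y, t • y ∈ O → y ∈ O := fun y hy => by
        obtain ⟨j, hj, hjy⟩ := Finset.mem_image.1 hy
        rw [Finset.mem_range] at hj
        rcases Nat.eq_zero_or_pos j with rfl | hj0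
        · refine Finset.mem_image.2 ⟨l - 1, Finset.mem_range.2 (by omega), smul_left_cancel t ?_⟩
          rw [← hjy, ← mul_smul, ← pow_succ', show l - 1 + 1 = l by omega, hlx, pow_zero, one_smul]
        · refine Finset.mem_image.2 ⟨j - 1, Finset.mem_range.2 (by omega), smul_left_cancel t ?_⟩
          rw [← hjy, ← mul_smul, ← pow_succ', show j - 1 + 1 = j by omega]
      have hxO : x ∈ O := Finset.mem_image.2 ⟨0, Finset.mem_range.2 hl0, by simp⟩
      have hOsum : ∑ y ∈ O, (f (t • y) - ρ t (f y)) = 0 := by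
        set e : ℕ → M := fun j => f (t ^ (j + 1) • x) - ρ t (f (t ^ j • x)) with hedef
        have hefix : ∀ j g, ρ g (e j) = e j := fun j g => hF₁ _ (by
          have := he t (t ^ j • x)
          rwa [ht, zero_add, ← mul_smul, ← pow_succ'] at this) g
        have hT : ∀ j, f (t ^ j • x) = ρ (t ^ j) (f x) + ∑ k ∈ Finset.range j, e k := by
          intro j
          induction j with
          | zero => simp
          | succ j ih =>
            rw [Finset.sum_range_succ, show f (t ^ (j + 1) • x) = e j + ρ t (f (t ^ j • x)) from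
              (sub_add_cancel _ _).symm, ih, map_add, map_sum]
            simp only [hefix, pow_succ', map_mul, AddMonoid.End.coe_mul, Function.comp_apply]
            abel
        rw [hO, Finset.sum_image hinj]
        have h1 : ∑ j ∈ Finset.range l, (f (t • t ^ j • x) - ρ t (f (t ^ j • x))) =
            ∑ j ∈ Finset.range l, e j :=
          Finset.sum_congr rfl fun j _ => by simp only [hedef, pow_succ', mul_smul]
        rw [h1]
        have h2 := hT l
        rw [hlx] at h2
        -- the conjugate of `t ^ l` lying in `P`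
        have h3 : x.out⁻¹ * t ^ l * x.out ∈ P := by
          have h4 : ((t ^ l * x.out : D) : D ⧸ P) = (x.out : D ⧸ P) := by
            rw [← smul_eq_mul, ← MulAction.Quotient.smul_mk, QuotientGroup.out_eq']
            exact hlx
          rw [QuotientGroup.eq] at h4
          have h5 := P.inv_mem h4
          rwa [mul_inv_rev, inv_inv, ← mul_assoc] at h5
        have h6 : ρ (t ^ l) (f x) = f x := by
          have h7 : c (x.out * (x.out⁻¹ * t ^ l * x.out)) = c x.out := by
            rw [hc, hconj _ _ h3, map_zero, add_zero]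
          rw [mul_assoc, mul_inv_cancel_left, hc] at h7
          have h8 : c (t ^ l) = 0 := by
            clear! O
            induction l with
            | zero =>
              have := hc 1 1
              simpa using this
            | succ m ihm =>
              rcases Nat.eq_zero_or_pos m with rfl | hm
              · simpa using ht
              · have hm' : ∀ k, c (t ^ k) = 0 := fun k => by
                  induction k with
                  | zero => have := hc 1 1; simpa using this
                  | succ k ihk => rw [pow_succ, hc, ihk, ht, map_zero, add_zero]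
                exact hm' _
          rwa [h8, zero_add] at h7
        rw [h6, left_eq_add] at h2
        exact h2
      rw [← Finset.sum_sdiff hOs, hOsum, add_zero]
      refine ih _ (Finset.sdiff_ssubset hOs ⟨x, hxO⟩) fun y hy => ?_
      obtain ⟨hys, hyO⟩ := Finset.mem_sdiff.1 hy
      exact Finset.mem_sdiff.2 ⟨hs y hys, fun h => hyO (hOinv y h)⟩
    rw [map_nsmul]
    refine congrArg (i • ·) ?_
    rw [Finset.sum_sub_distrib, sub_eq_zero, ← map_sum] at hsum
    rw [← hsum]
    exact Equiv.sum_comp (MulAction.toPerm t) f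
  · have h0 : err γ = 0 := by
      have h1 : orderOf γ • err γ = 0 := by rw [← herrpow, pow_orderOf_eq_one, hone]
      obtain ⟨j, hj⟩ := exists_nsmul_eq (p := p) hM
        ((Fact.out : p.Prime).coprime_iff_not_dvd.1 hγ.symm)
      rw [← hj (err γ), h1, nsmul_zero]
    rw [← hi (c γ), map_nsmul, ← nsmul_sub]
    refine congrArg (i • ·) ?_
    rw [eq_sub_iff_add_eq]
    exact sub_eq_zero.1 h0

end Cfsg.Agent.FusSys.OrbitSum
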