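import Cfsg.Agent.FusSys.DeltaFix
import Cfsg.Agent.FusSys.OrbitSum

/-!
An element of `C_S(T)` can be moved by an element of `Z(T)` so as to be fixed by the `IsDelta`
automorphisms of order prime to `p` at a normal subgroup of `S` in `T`.
-/

set_option autoImplicit false

namespace Cfsg.Agent.FusSys.CentE

open Cfsg Cfsg.FusionSystem Cfsg.Agent.FusSys Cfsg.Agent.FusSys.CentFocal
open scoped IsMulCommutative

universe u v

variable {Ω : Type u} [Group Ω]

/-- An action on an abelian subgroup, additively. -/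
noncomputable def endAction {D : Type v} [Group D] (Z : Subgroup Ω) [IsMulCommutative Z]
    (f : D → Ω → Ω) (hmem : ∀ d, ∀ z ∈ Z, f d z ∈ Z)
    (hmul : ∀ d, ∀ a ∈ Z, ∀ b ∈ Z, f d (a * b) = f d a * f d b)
    (hone : ∀ z ∈ Z, f 1 z = z) (hcomp : ∀ d e, ∀ z ∈ Z, f (d * e) z = f d (f e z)) :
    D →* AddMonoid.End (Additive Z) where
  toFun d := MonoidHom.toAdditive (MonoidHom.mk' (fun z : Z => (⟨f d z, hmem d z z.2⟩ : Z))
    fun a b => Subtype.ext (hmul d a a.2 b b.2))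
  map_one' := AddMonoidHom.ext fun m => congrArg Additive.ofMul
    (Subtype.ext (hone _ (Additive.toMul m).2))
  map_mul' d e := AddMonoidHom.ext fun m => congrArg Additive.ofMul
    (Subtype.ext (hcomp d e _ (Additive.toMul m).2))

theorem endAction_apply {D : Type v} [Group D] (Z : Subgroup Ω) [IsMulCommutative Z]
    {f : D → Ω → Ω} {hmem : ∀ d, ∀ z ∈ Z, f d z ∈ Z}
    {hmul : ∀ d, ∀ a ∈ Z, ∀ b ∈ Z, f d (a * b) = f d a * f d b}
    {hone : ∀ z ∈ Z, f 1 z = z} {hcomp : ∀ d e, ∀ z ∈ Z, f (d * e) z = f d (f e z)}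
    (d : D) (z : Additive Z) :
    ((Additive.toMul (endAction Z f hmem hmul hone hcomp d z) : Z) : Ω) =
      f d ((Additive.toMul z : Z) : Ω) := rfl

theorem pow_nsmul_eq_zero {p : ℕ} {Z : Subgroup Ω} [IsMulCommutative Z] (hZ : IsPGroup p Z)
    (m : Additive Z) : ∃ k : ℕ, p ^ k • m = 0 := by
  obtain ⟨k, hk⟩ := hZ (Additive.toMul m)
  exact ⟨k, congrArg Additive.ofMul hk⟩

variable {S T R : Subgroup Ω} {F : FusionSystem S} {E : FusionSystem T}
variable {p : ℕ} [Fact p.Prime] [Finite S] (hS : IsPGroup p S) (hF : F.IsSaturated p)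
include hS hF

/-- An `IsDelta` automorphism induced by `S` acts on `R` as an element of `T`. -/
theorem exists_mem_of_delta_conj (hE : E.IsNormalIn F p) (hT : F.StronglyClosed T) (hRT : R ≤ T)
    (hRn : S ≤ Subgroup.normalizer (R : Set Ω)) {δ : MulAut ↥(R ⊔ centralizerIn S R)}
    (hδ : IsDelta E F R δ) {s : Ω} (hs : s ∈ S)
    (hsx : ∀ x ∈ R ⊔ centralizerIn S R, apl δ x = s * x * s⁻¹) :
    ∃ t ∈ T, ∀ x ∈ R, s * x * s⁻¹ = t * x * t⁻¹ := by
  have _ := hF
  haveI := finite_of_le hT.1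
  haveI := finite_of_le (hRT.trans hT.1)
  haveI : Finite (MulAut R) := Finite.of_injective _ MulEquiv.toEquiv_injective
  have hTp : IsPGroup p T := hS.to_le hT.1
  obtain ⟨a, ha, hax⟩ := hδ.2.1
  have hRfn : E.IsFullyNormalized R := ⟨hRT, fun Q _ => by
    rw [show normalizerIn T R = T from
      le_antisymm inf_le_left fun t ht => ⟨ht, hRn (hT.1 ht)⟩]
    exact Subgroup.card_le_of_le inf_le_left⟩
  obtain ⟨-, Sy, hSy⟩ := fullyAutomized_of_fullyNormalized hTp hE.1.1 hRfn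
  let K : Subgroup (E.autGroup R) := (autInducedBy S R).subgroupOf (E.autGroup R)
  have hK : IsPGroup p K := (isPGroup_autInducedBy hS).comap_subtype
  have hle : (Sy : Subgroup (E.autGroup R)) ≤ K := by
    rw [hSy]
    exact fun σ hσ => autInducedBy_mono hT.1 hσ
  have haK : (⟨a, ha⟩ : E.autGroup R) ∈ K := Subgroup.mem_subgroupOf.2
    (mem_autInducedBy_iff.2 ⟨s, hs, hRn hs, fun x hx =>
      (hax x hx).symm.trans (hsx x (Subgroup.mem_sup_left hx))⟩)
  rw [Sy.3 hK hle, hSy] at haK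
  obtain ⟨t, ht, -, htx⟩ := mem_autInducedBy_iff.1 (Subgroup.mem_subgroupOf.1 haK)
  exact ⟨t, ht, fun x hx => by rw [← hsx x (Subgroup.mem_sup_left hx), hax x hx, htx x hx]⟩

/-- Moving an element of `C_S(T)` by an element of `Z(T)` into `fixAt R`. -/
theorem exists_fixAt_shift (hE : E.IsNormalIn F p) (hT : F.StronglyClosed T) (hRT : R ≤ T)
    (hRn : S ≤ Subgroup.normalizer (R : Set Ω)) (hTR : centralizerIn T R ≤ R) {x : Ω}
    (hx : x ∈ centralizerIn S T) :
    ∃ v ∈ centralizerIn T T, x * v ∈ fixAt E F p hRT hT.1 := by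
  classical
  have hEi := hE.1.2.2
  have hEF := hE.1.2.2.1
  have hRS : R ≤ S := hRT.trans hT.1
  have hN : R ⊔ centralizerIn S R ≤ S := sup_le hRS (centralizerIn_le S R)
  haveI := finite_of_le hN
  haveI : Finite (MulAut ↥(R ⊔ centralizerIn S R)) :=
    Finite.of_injective _ MulEquiv.toEquiv_injective
  have hRfn : F.IsFullyNormalized R := ⟨hRS, fun Q _ => by
    rw [show normalizerIn S R = S from le_antisymm inf_le_left fun s hs => ⟨hs, hRn hs⟩]
    exact Subgroup.card_le_of_le inf_le_left⟩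
  have hRc := fullyCentralized_of_fullyNormalized hS hF hRfn
  have hTn : ∀ s ∈ S, s ∈ Subgroup.normalizer (T : Set Ω) := fun _ hs =>
    StronglyClosed.le_normalizer hT hs
  set D := deltaGroup E F (hRT.trans hEi.2.1.1) with hD
  obtain ⟨P, hPidx, hP⟩ := exists_sylow_delta hS hF hEi hRT hRn
  have hxR : x ∈ centralizerIn S R := centralizerIn_anti hRT hx
  have hxN : x ∈ R ⊔ centralizerIn S R := Subgroup.mem_sup_right hxR
  have hiso : ∀ δ : D, Mor F (R ⊔ centralizerIn S R) (apl (δ : MulAut ↥(R ⊔ centralizerIn S R))) :=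
    fun δ => (iso_apl hN δ.2.1).1
  have hRR : ∀ δ : D, Iso F R R (apl (δ : MulAut ↥(R ⊔ centralizerIn S R))) :=
    fun δ => IsDelta.iso hRS hEF hRT δ.2
  set Z := centralizerIn R R with hZdef
  haveI hZc : IsMulCommutative Z := ⟨⟨fun a b => Subtype.ext
    (Subgroup.mem_centralizer_iff.1 b.2.2 a a.2.1)⟩⟩
  haveI : Finite Z := finite_of_le ((centralizerIn_le R R).trans hRS)
  have hZN : ∀ z ∈ Z, z ∈ R ⊔ centralizerIn S R := fun z hz => Subgroup.mem_sup_left hz.1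
  have hZinv : ∀ δ : D, ∀ z ∈ Z, apl (δ : MulAut ↥(R ⊔ centralizerIn S R)) z ∈ Z := fun δ z hz =>
    ⟨(hRR δ).mem hz.1, ((hiso δ).mem_centralizerIn le_sup_left (hRR δ) (hZN z hz) hz.2).2⟩
  let ρ : D →* AddMonoid.End (Additive Z) := endAction Z
    (fun (δ : D) z => apl (δ : MulAut ↥(R ⊔ centralizerIn S R)) z) hZinv
    (fun δ a ha b hb => (hiso δ).map_mul (hZN a ha) (hZN b hb))
    (fun z hz => apl_one (hZN z hz)) (fun δ ε z hz => apl_mul _ _ (hZN z hz))
  have hcmem : ∀ δ : D, x⁻¹ * apl (δ : MulAut ↥(R ⊔ centralizerIn S R)) x ∈ Z := fun δ =>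
    ⟨δ.2.2.2 x hxR, Subgroup.mul_mem _ (Subgroup.inv_mem _ hxR.2)
      ((hiso δ).mem_centralizerIn le_sup_left (hRR δ) hxN hxR.2).2⟩
  let c : D → Additive Z := fun δ => Additive.ofMul ⟨_, hcmem δ⟩
  have hcross : ∀ g h, c (g * h) = c g + ρ g (c h) := fun g h => by
    refine congrArg Additive.ofMul (Subtype.ext ?_)
    show x⁻¹ * apl ((g * h : D) : MulAut ↥(R ⊔ centralizerIn S R)) x =
      x⁻¹ * apl (g : MulAut ↥(R ⊔ centralizerIn S R)) x *
        apl (g : MulAut ↥(R ⊔ centralizerIn S R)) (x⁻¹ * apl (h : MulAut ↥(R ⊔ centralizerIn S R)) x)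
    rw [(hiso g).map_mul (Subgroup.inv_mem _ hxN) (apl_mem _ hxN), (hiso g).map_inv hxN,
      Subgroup.coe_mul, apl_mul _ _ hxN]
    group
  have hc0 : ∀ {δ : D}, apl (δ : MulAut ↥(R ⊔ centralizerIn S R)) x = x → c δ = 0 := fun {δ} h => by
    refine congrArg Additive.ofMul (Subtype.ext ?_)
    show x⁻¹ * apl (δ : MulAut ↥(R ⊔ centralizerIn S R)) x = 1
    rw [h, inv_mul_cancel]
  -- values on the elements induced by `S` are fixed
  have hPfix : ∀ h ∈ P, ∀ g, ρ g (c h) = c h := by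
    intro h hh g
    obtain ⟨s, hs, hsx⟩ := (hP h).1 hh
    obtain ⟨t, ht, htx⟩ := exists_mem_of_delta_conj hS hF hE hT hRT hRn h.2 hs hsx
    set u := t⁻¹ * s with hu
    have huR : u ∈ centralizerIn S R := by
      refine ⟨S.mul_mem (S.inv_mem (hT.1 ht)) hs, Subgroup.mem_centralizer_iff.2 fun r hr => ?_⟩
      have h1 := htx r hr
      calc r * (t⁻¹ * s) = t⁻¹ * (t * r * t⁻¹) * s := by group
        _ = t⁻¹ * (s * r * s⁻¹) * s := by rw [h1]
        _ = t⁻¹ * s * r := by group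
    have huxT : u * x * u⁻¹ ∈ centralizerIn S T :=
      (mor_conj (F := F) le_rfl huR.1).mem_centralizerIn hT.1
        (iso_conj_self hT.1 huR.1 (hTn u huR.1)) hx.1 hx.2
    have hval : s * x * s⁻¹ = u * x * u⁻¹ := by
      calc s * x * s⁻¹ = t * (u * x * u⁻¹) * t⁻¹ := by rw [hu]; group
        _ = u * x * u⁻¹ := by rw [Subgroup.mem_centralizer_iff.1 huxT.2 t ht]; group
    set m := x⁻¹ * (u * x * u⁻¹) with hm
    have hmfoc : m ∈ cFoc F hRc.1 := quot_mem_focal (F := centralizerSys F hRc.1)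
      (mor_conj (F := centralizerSys F hRc.1) (P := centralizerIn S R) le_rfl huR) hxR
    have hmT : m ∈ centralizerIn S T := Subgroup.mul_mem _ (Subgroup.inv_mem _ hx) huxT
    have hcm : x⁻¹ * apl (h : MulAut ↥(R ⊔ centralizerIn S R)) x = m := by rw [hsx x hxN, hval]
    have hmR : m ∈ R := hcm ▸ h.2.2.2 x hxR
    let K : Subgroup D :=
      { carrier := {δ | apl (δ : MulAut ↥(R ⊔ centralizerIn S R)) m = m}
        one_mem' := apl_one (Subgroup.mem_sup_left hmR)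
        mul_mem' := fun {a b} ha hb => by
          show apl ((a * b : D) : MulAut ↥(R ⊔ centralizerIn S R)) m = m
          rw [Subgroup.coe_mul, apl_mul _ _ (Subgroup.mem_sup_left hmR), hb, ha]
        inv_mem' := fun {a} ha => by
          show apl ((a⁻¹ : D) : MulAut ↥(R ⊔ centralizerIn S R)) m = m
          conv_lhs => rw [Subgroup.coe_inv, ← ha]
          exact apl_inv_apl _ (Subgroup.mem_sup_left hmR) }
    have hK : K = ⊤ := by
      refine eq_top_of_coprime (p := p) (fun γ hγ => ?_) hPidx fun γ hγ => ?_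
      · obtain ⟨s', hs', hsx'⟩ := (hP γ).1 hγ
        obtain ⟨t', ht', htx'⟩ := exists_mem_of_delta_conj hS hF hE hT hRT hRn γ.2 hs' hsx'
        show apl (γ : MulAut ↥(R ⊔ centralizerIn S R)) m = m
        rw [hsx' m (Subgroup.mem_sup_left hmR), htx' m hmR,
          Subgroup.mem_centralizer_iff.1 hmT.2 t' ht']
        group
      · show apl (γ : MulAut ↥(R ⊔ centralizerIn S R)) m = m
        exact fix_cFoc hS hF hRc γ.2.1 (hRR γ) γ.2.2.2 (by rwa [Subgroup.orderOf_coe]) hmfoc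
    refine congrArg Additive.ofMul (Subtype.ext ?_)
    show apl (g : MulAut ↥(R ⊔ centralizerIn S R)) (x⁻¹ * apl (h : MulAut ↥(R ⊔ centralizerIn S R)) x)
      = x⁻¹ * apl (h : MulAut ↥(R ⊔ centralizerIn S R)) x
    rw [hcm]
    exact hK.ge (Subgroup.mem_top g)
  obtain ⟨v, hv, hvfix⟩ := OrbitSum.exists_shift (p := p) ρ
    (pow_nsmul_eq_zero (hS.to_le ((centralizerIn_le R R).trans hRS))) c hcross hPidx hPfix
  set w : Ω := ((Additive.toMul v : Z) : Ω) with hw
  have hwZ : w ∈ Z := (Additive.toMul v : Z).2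
  -- `v` is centralized by `T`
  have hwT : w ∈ Subgroup.centralizer (T : Set Ω) := by
    refine Subgroup.mem_centralizer_iff.2 fun t ht => ?_
    have htS := hT.1 ht
    have hmaps : ∀ z ∈ R ⊔ centralizerIn S R, t * z * t⁻¹ ∈ R ⊔ centralizerIn S R := fun z hz =>
      (mor_conj (F := F) hN htS).mem_of_sup
        (fun y hy => Subgroup.mem_sup_left ((Subgroup.mem_normalizer_iff.1 (hRn htS) y).1 hy))
        (fun y hy => Subgroup.mem_sup_right ((mor_conj (F := F) hN htS).mem_centralizerIn le_sup_left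
          (iso_conj_self hRS htS (hRn htS)) (Subgroup.mem_sup_right hy) hy.2)) hz
    obtain ⟨σ, hσ, hσx⟩ := Iso.exists_mem_autGroup (show Iso F (R ⊔ centralizerIn S R)
      (R ⊔ centralizerIn S R) (fun z => t * z * t⁻¹) from ⟨mor_conj hN htS, fun y =>
        ⟨fun hy => (mor_conj (F := F) hN htS).surj_of_card hN hmaps le_rfl hy,
          fun ⟨z, hz, hzy⟩ => hzy ▸ hmaps z hz⟩⟩)
    obtain ⟨a, ha, hax⟩ := exists_mem_autInducedBy (P := R) (K := T) ht (hRn htS)
    have hσD : IsDelta E F R σ := by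
      refine ⟨hσ, ⟨a, autInducedBy_le_autGroup hRT ha, fun z hz =>
        (hσx z (Subgroup.mem_sup_left hz)).trans (hax z hz).symm⟩, fun d hd => hTR ?_⟩
      have hdN : d ∈ R ⊔ centralizerIn S R := Subgroup.mem_sup_right hd
      rw [hσx d hdN]
      refine ⟨?_, (Subgroup.mul_mem _ (Subgroup.inv_mem _ hd)
        ((mor_conj (F := F) hN htS).mem_centralizerIn le_sup_left
          (iso_conj_self hRS htS (hRn htS)) hdN hd.2)).2⟩
      rw [show d⁻¹ * (t * d * t⁻¹) = d⁻¹ * t * d * t⁻¹ by group]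
      exact T.mul_mem ((Subgroup.mem_normalizer_iff''.1 (hTn d hd.1) t).1 ht) (T.inv_mem ht)
    set τ : D := ⟨σ, hσD⟩
    have hτpow : ∀ (k : ℕ), ∀ z ∈ R ⊔ centralizerIn S R,
        apl ((τ ^ k : D) : MulAut ↥(R ⊔ centralizerIn S R)) z = t ^ k * z * (t ^ k)⁻¹ := by
      intro k
      induction k with
      | zero => intro z hz; rw [pow_zero, Subgroup.coe_one, apl_one hz]; group
      | succ k ih =>
        intro z hz
        rw [pow_succ' τ, Subgroup.coe_mul, apl_mul _ _ hz, ih z hz, pow_succ' t]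
        show apl σ _ = _
        rw [hσx _ (ih z hz ▸ apl_mem _ hz)]
        group
    have hτ0 : c τ = 0 := hc0 (by
      show apl σ x = x
      rw [hσx x hxN, Subgroup.mem_centralizer_iff.1 hx.2 t ht]
      group)
    have hconj : ∀ (g : D) (k : ℕ), g⁻¹ * τ ^ k * g ∈ P → c (g⁻¹ * τ ^ k * g) = 0 := by
      intro g k hgP
      refine hc0 ?_
      obtain ⟨s, hs, hsx⟩ := (hP _).1 hgP
      have htk : t ^ k ∈ T := T.pow_mem ht k
      have hNfn : F.IsFullyNormalized (R ⊔ centralizerIn S R) := ⟨hN, fun Q _ => by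
        rw [show normalizerIn S (R ⊔ centralizerIn S R) = S from
          le_antisymm inf_le_left fun r hr => ⟨hr, ?_⟩]
        · exact Subgroup.card_le_of_le inf_le_left
        have hm : ∀ w ∈ S, ∀ z ∈ R ⊔ centralizerIn S R, w * z * w⁻¹ ∈ R ⊔ centralizerIn S R :=
          fun w hw z hz => (mor_conj (F := F) hN hw).mem_of_sup
            (fun y hy => Subgroup.mem_sup_left ((Subgroup.mem_normalizer_iff.1 (hRn hw) y).1 hy))
            (fun y hy => Subgroup.mem_sup_right ((mor_conj (F := F) hN hw).mem_centralizerIn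
              le_sup_left (iso_conj_self hRS hw (hRn hw)) (Subgroup.mem_sup_right hy) hy.2)) hz
        refine Subgroup.mem_normalizer_iff.2 fun z => ⟨hm r hr z, fun hz => ?_⟩
        have h' := hm r⁻¹ (S.inv_mem hr) _ hz
        rwa [show r⁻¹ * (r * z * r⁻¹) * r⁻¹⁻¹ = z by group] at h'⟩
      set γ := (g : MulAut ↥(R ⊔ centralizerIn S R))⁻¹ with hγ
      have hγi := iso_apl hN (inv_mem g.2.1)
      obtain ⟨j, hj, hjγ⟩ := (isReceptive_iff.1 (receptive_of_fullyNormalized hS hF hNfn)).2 _ _ hγi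
      have hσk := hτpow k
      have htn : t ^ k ∈ nPhi S (R ⊔ centralizerIn S R) (apl γ) := by
        refine ⟨hT.1 htk, Subgroup.pow_mem _ (Subgroup.mem_normalizer_iff.2 fun z =>
          ⟨hmaps z, fun hz => ?_⟩) k, s, hs, fun z hz => ?_⟩
        · obtain ⟨z', hz', he⟩ := (mor_conj (F := F) hN htS).surj_of_card hN hmaps le_rfl hz
          rwa [mul_left_cancel (mul_right_cancel he)] at hz'
        · rw [← hσk z hz, ← hsx _ (apl_mem γ hz), Subgroup.coe_mul, Subgroup.coe_mul, Subgroup.coe_inv,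
            apl_mul _ _ (apl_mem γ hz), apl_mul _ _ (apl_mem _ (apl_mem γ hz)), hγ, apl_apl_inv _ hz]
      have hjT : j (t ^ k) ∈ T := StronglyClosed.mor_mem hT hj htn htk
      obtain ⟨z, hz, hzx⟩ : ∃ z ∈ R ⊔ centralizerIn S R, apl γ z = x :=
        ⟨apl (g : MulAut ↥(R ⊔ centralizerIn S R)) x, apl_mem _ hxN, apl_inv_apl _ hxN⟩
      rw [Subgroup.coe_mul, Subgroup.coe_mul, Subgroup.coe_inv, apl_mul _ _ hxN,
        apl_mul _ _ (apl_mem _ hxN)]
      conv_lhs => rw [← hzx, apl_apl_inv _ hz, hσk z hz, ← hγ]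
      have hzn := hγi.1.le_nPhi hz
      have htz : t ^ k * z * (t ^ k)⁻¹ ∈ R ⊔ centralizerIn S R := by
        rw [← hσk z hz]; exact apl_mem _ hz
      rw [← hjγ _ htz, hj.map_conj htn hzn, hjγ z hz, hzx,
        Subgroup.mem_centralizer_iff.1 hx.2 _ hjT]
      group
    have h1 := hv τ hτ0 hconj
    have h2 : apl σ w = w := congrArg (fun m : Additive Z => ((Additive.toMul m : Z) : Ω)) h1
    rw [hσx w (hZN w hwZ)] at h2
    calc t * w = t * w * t⁻¹ * t := by group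
      _ = w * t := by rw [h2]
  have hwTT : w ∈ centralizerIn T T := ⟨hRT hwZ.1, hwT⟩
  refine ⟨w, hwTT, Subgroup.mul_mem _ hx ⟨hT.1 hwTT.1, hwTT.2⟩, fun δ hδ hord => ?_⟩
  have h3 := hvfix ⟨δ, hδ⟩ (by rw [← Subgroup.orderOf_coe]; exact hord)
  have h4 : x⁻¹ * apl δ x = w * (apl δ w)⁻¹ := by
    have := congrArg (fun m : Additive Z => ((Additive.toMul m : Z) : Ω)) h3
    simpa [c, hw, ρ, endAction_apply, sub_eq_add_neg] using this
  have hcomm : Commute w (apl δ w) :=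
    congrArg Subtype.val (mul_comm' (⟨w, hwZ⟩ : Z) ⟨_, hZinv ⟨δ, hδ⟩ w hwZ⟩)
  rw [(hiso ⟨δ, hδ⟩).map_mul hxN (hZN w hwZ)]
  calc apl δ x * apl δ w = x * (x⁻¹ * apl δ x) * apl δ w := by group
    _ = x * w := by rw [h4]; group

/-- An element fixed at `T` can be moved by an element of `Z(T)` so as to be fixed also at `R`. -/
theorem exists_fixAt_inter (hE : E.IsNormalIn F p) (hT : F.StronglyClosed T) (hRT : R ≤ T)
    (hRn : S ≤ Subgroup.normalizer (R : Set Ω)) (hTR : centralizerIn T R ≤ R)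
    (hRinv : ∀ a ∈ F.autGroup (T ⊔ centralizerIn S T), Iso F R R (apl a)) {y : Ω}
    (hy : y ∈ fixAt E F p (le_refl T) hT.1) :
    ∃ v ∈ centralizerIn T T,
      y * v ∈ fixAt E F p (le_refl T) hT.1 ⊓ fixAt E F p hRT hT.1 := by
  classical
  have hEi := hE.1.2.2
  have hRfn : F.IsFullyNormalized R := ⟨hRT.trans hT.1, fun Q _ => by
    rw [show normalizerIn S R = S from le_antisymm inf_le_left fun s hs => ⟨hs, hRn hs⟩]
    exact Subgroup.card_le_of_le inf_le_left⟩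
  have hRc := fullyCentralized_of_fullyNormalized hS hF hRfn
  have hTn : S ≤ Subgroup.normalizer (T : Set Ω) := fun _ hs => StronglyClosed.le_normalizer hT hs
  have hN : T ⊔ centralizerIn S T ≤ S := sup_le hT.1 (centralizerIn_le S T)
  haveI := finite_of_le hN
  haveI : Finite (MulAut ↥(T ⊔ centralizerIn S T)) :=
    Finite.of_injective _ MulEquiv.toEquiv_injective
  obtain ⟨v₂, hv₂, hyv⟩ := exists_fixAt_shift hS hF hE hT hRT hRn hTR hy.1
  set D := deltaGroup E F ((le_refl T).trans hEi.2.1.1) with hD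
  obtain ⟨P, hPidx, hP⟩ := exists_sylow_delta hS hF hEi (le_refl T) hTn
  have hiso : ∀ δ : D, Mor F (T ⊔ centralizerIn S T) (apl (δ : MulAut ↥(T ⊔ centralizerIn S T))) :=
    fun δ => (iso_apl hN δ.2.1).1
  have hTT : ∀ δ : D, Iso F T T (apl (δ : MulAut ↥(T ⊔ centralizerIn S T))) :=
    fun δ => IsDelta.iso hT.1 hE.1.2.2.1 le_rfl δ.2
  have hTN : ∀ z ∈ T, z ∈ T ⊔ centralizerIn S T := fun z hz => Subgroup.mem_sup_left hz
  have hZT : ∀ δ : D, ∀ z ∈ centralizerIn T T,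
      apl (δ : MulAut ↥(T ⊔ centralizerIn S T)) z ∈ centralizerIn T T := fun δ z hz =>
    ⟨(hTT δ).mem hz.1,
      ((hiso δ).mem_centralizerIn le_sup_left (hTT δ) (hTN z hz.1) hz.2).2⟩
  set V := centralizerIn T T ⊓ fixAt E F p hRT hT.1 with hVdef
  have hVinv : ∀ δ : D, ∀ z ∈ V, apl (δ : MulAut ↥(T ⊔ centralizerIn S T)) z ∈ V := fun δ z hz =>
    ⟨hZT δ z hz.1, fixAt_invariant hS hF hE hT hRT hRc δ.2.1 (hRinv _ δ.2.1) hz.2⟩
  haveI hVc : IsMulCommutative V := ⟨⟨fun a b => Subtype.ext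
    (Subgroup.mem_centralizer_iff.1 b.2.1.2 a a.2.1.1)⟩⟩
  haveI : Finite V := finite_of_le (inf_le_left.trans ((centralizerIn_le T T).trans hT.1))
  -- the defect of `v₂`
  let K : Subgroup D :=
    { carrier := {δ | v₂⁻¹ * apl (δ : MulAut ↥(T ⊔ centralizerIn S T)) v₂ ∈ V}
      one_mem' := by
        show v₂⁻¹ * apl ((1 : D) : MulAut ↥(T ⊔ centralizerIn S T)) v₂ ∈ V
        rw [Subgroup.coe_one, apl_one (hTN _ hv₂.1), inv_mul_cancel]
        exact V.one_mem
      mul_mem' := fun {a b} ha hb => by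
        show v₂⁻¹ * apl ((a * b : D) : MulAut ↥(T ⊔ centralizerIn S T)) v₂ ∈ V
        have h := V.mul_mem ha (hVinv a _ hb)
        rw [(hiso a).map_mul (Subgroup.inv_mem _ (hTN _ hv₂.1)) (apl_mem _ (hTN _ hv₂.1)),
          (hiso a).map_inv (hTN _ hv₂.1)] at h
        rw [Subgroup.coe_mul, apl_mul _ _ (hTN _ hv₂.1)]
        simpa [mul_assoc] using h
      inv_mem' := fun {a} ha => by
        show v₂⁻¹ * apl ((a⁻¹ : D) : MulAut ↥(T ⊔ centralizerIn S T)) v₂ ∈ V
        have h := V.inv_mem (hVinv a⁻¹ _ ha)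
        rw [(hiso a⁻¹).map_mul (Subgroup.inv_mem _ (hTN _ hv₂.1)) (apl_mem _ (hTN _ hv₂.1)),
          (hiso a⁻¹).map_inv (hTN _ hv₂.1), Subgroup.coe_inv, apl_inv_apl _ (hTN _ hv₂.1),
          mul_inv_rev, inv_inv] at h
        exact h }
  have hPval : ∀ γ ∈ P, apl (γ : MulAut ↥(T ⊔ centralizerIn S T)) v₂ = v₂ := fun γ hγ => by
    obtain ⟨s, hs, hsx⟩ := (hP γ).1 hγ
    obtain ⟨t, ht, htx⟩ := exists_mem_of_delta_conj hS hF hE hT le_rfl hTn γ.2 hs hsx
    rw [hsx _ (hTN _ hv₂.1), htx _ hv₂.1, Subgroup.mem_centralizer_iff.1 hv₂.2 t ht]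
    group
  have hK : K = ⊤ := by
    refine eq_top_of_coprime (p := p) (fun γ hγ => ?_) hPidx fun γ hγ => ?_
    · show v₂⁻¹ * apl (γ : MulAut ↥(T ⊔ centralizerIn S T)) v₂ ∈ V
      rw [hPval γ hγ, inv_mul_cancel]
      exact V.one_mem
    · refine ⟨Subgroup.mul_mem _ (Subgroup.inv_mem _ hv₂) (hZT γ v₂ hv₂), ?_⟩
      have h1 := fixAt_invariant hS hF hE hT hRT hRc γ.2.1 (hRinv _ γ.2.1) hyv
      rw [(hiso γ).map_mul (Subgroup.mem_sup_right hy.1) (hTN _ hv₂.1),
        hy.2 _ γ.2 (by rwa [Subgroup.orderOf_coe])] at h1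
      have h2 := Subgroup.mul_mem _ (Subgroup.inv_mem _ hyv) h1
      simpa [mul_assoc] using h2
  let ρ : D →* AddMonoid.End (Additive V) := endAction V
    (fun (δ : D) z => apl (δ : MulAut ↥(T ⊔ centralizerIn S T)) z) hVinv
    (fun δ a ha b hb => (hiso δ).map_mul (hTN a ha.1.1) (hTN b hb.1.1))
    (fun z hz => apl_one (hTN z hz.1.1)) (fun δ ε z hz => apl_mul _ _ (hTN z hz.1.1))
  let c : D → Additive V := fun δ => Additive.ofMul ⟨_, hK.ge (Subgroup.mem_top δ)⟩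
  have hcross : ∀ g h, c (g * h) = c g + ρ g (c h) := fun g h => by
    refine congrArg Additive.ofMul (Subtype.ext ?_)
    show v₂⁻¹ * apl ((g * h : D) : MulAut ↥(T ⊔ centralizerIn S T)) v₂ =
      v₂⁻¹ * apl (g : MulAut ↥(T ⊔ centralizerIn S T)) v₂ *
        apl (g : MulAut ↥(T ⊔ centralizerIn S T)) (v₂⁻¹ * apl (h : MulAut ↥(T ⊔ centralizerIn S T)) v₂)
    rw [(hiso g).map_mul (Subgroup.inv_mem _ (hTN _ hv₂.1)) (apl_mem _ (hTN _ hv₂.1)),
      (hiso g).map_inv (hTN _ hv₂.1), Subgroup.coe_mul, apl_mul _ _ (hTN _ hv₂.1)]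
    group
  obtain ⟨v, -, hvfix⟩ := OrbitSum.exists_shift (p := p) ρ
    (pow_nsmul_eq_zero (hS.to_le (inf_le_left.trans ((centralizerIn_le T T).trans hT.1))))
    c hcross hPidx fun h hh g => by
      rw [show c h = 0 from congrArg Additive.ofMul (Subtype.ext (by
        show v₂⁻¹ * apl (h : MulAut ↥(T ⊔ centralizerIn S T)) v₂ = 1
        rw [hPval h hh, inv_mul_cancel])), map_zero]
  set w : Ω := ((Additive.toMul v : V) : Ω) with hw
  have hwV : w ∈ V := (Additive.toMul v : V).2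
  refine ⟨v₂ * w, Subgroup.mul_mem _ hv₂ hwV.1, ⟨⟨?_, fun δ hδ hord => ?_⟩, ?_⟩⟩
  · exact Subgroup.mul_mem _ hy.1
      ⟨hT.1 (T.mul_mem hv₂.1 hwV.1.1), (Subgroup.mul_mem _ hv₂.2 hwV.1.2)⟩
  · have h3 := hvfix ⟨δ, hδ⟩ (by rw [← Subgroup.orderOf_coe]; exact hord)
    have h4 : v₂⁻¹ * apl δ v₂ = w * (apl δ w)⁻¹ := by
      have := congrArg (fun m : Additive V => ((Additive.toMul m : V) : Ω)) h3
      simpa [c, hw, ρ, endAction_apply, sub_eq_add_neg] using this
    have hvw : v₂ * w ∈ T := T.mul_mem hv₂.1 hwV.1.1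
    rw [(hiso ⟨δ, hδ⟩).map_mul (Subgroup.mem_sup_right hy.1) (hTN _ hvw), hy.2 δ hδ hord,
      (hiso ⟨δ, hδ⟩).map_mul (hTN _ hv₂.1) (hTN _ hwV.1.1)]
    congr 1
    calc apl δ v₂ * apl δ w = v₂ * (v₂⁻¹ * apl δ v₂) * apl δ w := by group
      _ = v₂ * w := by rw [h4]; group
  · rw [← mul_assoc]
    exact Subgroup.mul_mem _ hyv hwV.2

end Cfsg.Agent.FusSys.CentE
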