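import Mathlib.GroupTheory.SpecificGroups.Dihedral
import Mathlib.GroupTheory.SpecificGroups.Quaternion
import Mathlib.GroupTheory.Index
import Mathlib.FieldTheory.Finite.Basic
import Mathlib.GroupTheory.PGroup

/-!
Automorphisms of dihedral and quaternion `2`-groups of order at least `16` form a `2`-group.
-/

set_option autoImplicit false

namespace Cfsg.Agent.FusSys

theorem isPGroup_mulAut_of_cyclic_index_two {G : Type*} [Group G] (r : G) {m : ℕ} (hm : 3 ≤ m)
    (hr : orderOf r = 2 ^ m) (hi : (Subgroup.zpowers r).index = 2)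
    (h4 : ∀ x : G, x ∉ Subgroup.zpowers r → x ^ 4 = 1) : IsPGroup 2 (MulAut G) := by
  intro α
  have hαr : α r ∈ Subgroup.zpowers r := by
    by_contra hne
    have h := h4 _ hne
    rw [← map_pow, MulEquiv.map_eq_one_iff] at h
    have h2 := Nat.le_of_dvd (by norm_num) (orderOf_dvd_of_pow_eq_one h)
    rw [hr] at h2
    have h3 : 2 ^ 3 ≤ 2 ^ m := Nat.pow_le_pow_right (by norm_num) hm
    omega
  have hfin : IsOfFinOrder r := orderOf_pos_iff.1 (hr ▸ pow_pos (by norm_num : (0 : ℕ) < 2) m)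
  rw [← hfin.mem_powers_iff_mem_zpowers] at hαr
  obtain ⟨u, hu⟩ := Submonoid.mem_powers_iff _ _ |>.1 hαr
  have hco : Nat.Coprime u (2 ^ m) := by
    refine Nat.Coprime.pow_right m (((Nat.Prime.coprime_iff_not_dvd Nat.prime_two).2 ?_).symm)
    rintro ⟨v, rfl⟩
    have h1 : orderOf (α r) = 2 ^ m := by rw [← hr]; exact MulEquiv.orderOf_eq α r
    have h2 : (α r) ^ 2 ^ (m - 1) = 1 := by
      rw [← hu, ← pow_mul, mul_right_comm, ← pow_succ', Nat.sub_add_cancel (by omega), pow_mul,
        ← hr, pow_orderOf_eq_one, one_pow]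
    have h3 := Nat.le_of_dvd (pow_pos (by norm_num) _) (h1 ▸ orderOf_dvd_of_pow_eq_one h2)
    have h4 : 2 ^ (m - 1) < 2 ^ m := Nat.pow_lt_pow_right (by norm_num) (by omega)
    omega
  have hiter : ∀ k : ℕ, (α ^ k) r = r ^ u ^ k := by
    intro k
    induction k with
    | zero => simp
    | succ k ih =>
      rw [pow_succ', MulAut.mul_apply, ih, map_pow, ← hu, ← pow_mul, pow_succ']
  set β := α ^ 2 ^ (m - 1) with hβ
  have hβr : β r = r := by
    rw [hiter]
    conv_rhs => rw [← pow_one r]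
    rw [pow_eq_pow_iff_modEq, hr]
    have h := Nat.ModEq.pow_totient hco
    rwa [Nat.totient_prime_pow Nat.prime_two (by omega), show (2 : ℕ) - 1 = 1 from rfl, mul_one] at h
  have hβC : ∀ c ∈ Subgroup.zpowers r, β c = c := by
    rintro _ ⟨k, rfl⟩
    show β (r ^ k) = r ^ k
    rw [map_zpow, hβr]
  refine ⟨m - 1 + m, ?_⟩
  rw [pow_add, pow_mul, ← hβ]
  refine MulEquiv.ext fun x => ?_
  rw [MulAut.one_apply]
  by_cases hx : x ∈ Subgroup.zpowers r
  · have : ∀ k : ℕ, (β ^ k) x = x := fun k => by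
      induction k with
      | zero => simp
      | succ k ih => rw [pow_succ', MulAut.mul_apply, ih, hβC x hx]
    exact this _
  have hd : x⁻¹ * β x ∈ Subgroup.zpowers r := by
    have hβx : β x ∉ Subgroup.zpowers r := fun h => hx (β.injective (hβC _ h) ▸ h)
    rw [Subgroup.mul_mem_iff_of_index_two hi, inv_mem_iff]
    exact iff_of_false hx hβx
  have hk : ∀ k : ℕ, (β ^ k) x = x * (x⁻¹ * β x) ^ k := by
    intro k
    induction k with
    | zero => simp
    | succ k ih =>
      rw [pow_succ', MulAut.mul_apply, ih, map_mul, hβC _ (Subgroup.pow_mem _ hd k), pow_succ',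
        ← mul_assoc x, mul_inv_cancel_left]
  rw [hk]
  obtain ⟨j, hj : r ^ j = x⁻¹ * β x⟩ := hd
  rw [← hj, ← zpow_natCast, ← zpow_mul, mul_comm, zpow_mul, zpow_natCast, ← hr, pow_orderOf_eq_one,
    one_zpow, mul_one]

theorem index_two_of_card {G : Type*} [Group G] (r : G) {c : ℕ} (hc : 0 < c)
    (hcard : Nat.card G = 2 * c) (hr : orderOf r = c) : (Subgroup.zpowers r).index = 2 := by
  have h := (Subgroup.zpowers r).card_mul_index
  rw [Nat.card_zpowers, hr, hcard, mul_comm 2] at h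
  exact Nat.eq_of_mul_eq_mul_left hc h

theorem isPGroup_mulAut_dihedral {k : ℕ} (hk : 3 ≤ k) :
    IsPGroup 2 (MulAut (DihedralGroup (2 ^ k))) := by
  haveI : NeZero (2 ^ k) := ⟨pow_ne_zero k two_ne_zero⟩
  refine isPGroup_mulAut_of_cyclic_index_two (DihedralGroup.r 1) hk DihedralGroup.orderOf_r_one
    (index_two_of_card _ (pow_pos two_pos k) DihedralGroup.nat_card DihedralGroup.orderOf_r_one)
    fun x hx => ?_
  rcases x with i | i
  · refine absurd ⟨(i.val : ℤ), ?_⟩ hx
    show DihedralGroup.r 1 ^ (i.val : ℤ) = DihedralGroup.r i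
    rw [zpow_natCast, DihedralGroup.r_one_pow, ZMod.natCast_zmod_val]
  · rw [show (4 : ℕ) = 2 * 2 from rfl, pow_mul, pow_two (DihedralGroup.sr i),
      DihedralGroup.sr_mul_self, one_pow]

theorem isPGroup_mulAut_quaternion {k : ℕ} (hk : 2 ≤ k) :
    IsPGroup 2 (MulAut (QuaternionGroup (2 ^ k))) := by
  haveI : NeZero (2 ^ k) := ⟨pow_ne_zero k two_ne_zero⟩
  have hr : orderOf (QuaternionGroup.a (1 : ZMod (2 * 2 ^ k))) = 2 ^ (k + 1) := by
    rw [QuaternionGroup.orderOf_a_one, pow_succ']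
  refine isPGroup_mulAut_of_cyclic_index_two (QuaternionGroup.a 1) (by omega : 3 ≤ k + 1) hr
    (index_two_of_card _ (pow_pos two_pos _) ?_ hr) fun x hx => ?_
  · rw [Nat.card_eq_fintype_card, QuaternionGroup.card, pow_succ']; omega
  rcases x with i | i
  · refine absurd ⟨(i.val : ℤ), ?_⟩ hx
    show QuaternionGroup.a 1 ^ (i.val : ℤ) = QuaternionGroup.a i
    rw [zpow_natCast, QuaternionGroup.a_one_pow, ZMod.natCast_zmod_val]
  · rw [← QuaternionGroup.orderOf_xa i, pow_orderOf_eq_one]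

end Cfsg.Agent.FusSys
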