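import Cfsg.Agent.FusSys.KNorm
import Cfsg.Agent.FusSys.Saturation
import Cfsg.Prelude.Def_TwoFusion

/-!
Restriction of a saturated system to a strongly closed direct factor.
-/

set_option autoImplicit false

namespace Cfsg.Agent.FusSys

open Cfsg Cfsg.FusionSystem

variable {Ω : Type*} [Group Ω] {S U T S₁ S₂ : Subgroup Ω} {F : FusionSystem S}
variable {P Q : Subgroup Ω} {f : Ω → Ω} {p : ℕ}

theorem mor_of_hom_eq {A B : Subgroup Ω} {E : FusionSystem A} {D : FusionSystem B}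
    (h : E.Hom P = D.Hom P) : Mor E P f ↔ Mor D P f := by
  simp only [Mor, h]

/-- The restriction of a saturated system to a strongly closed subgroup `U` with `S = U C_S(U)`
is saturated. -/
theorem saturated_restrict [Fact p.Prime] [Finite S] (hS : IsPGroup p S) (hF : F.IsSaturated p)
    (hU : F.StronglyClosed U)
    (hdec : ∀ s ∈ S, ∃ u ∈ U, ∃ c, c ∈ Subgroup.centralizer (U : Set Ω) ∧ s = u * c)
    (E : FusionSystem U) (hE : ∀ P : Subgroup Ω, P ≤ U → E.Hom P = F.Hom P) : E.IsSaturated p := by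
  have hUS : U ≤ S := hU.1
  have hm : ∀ {P : Subgroup Ω} {f : Ω → Ω}, P ≤ U → (Mor E P f ↔ Mor F P f) := fun hP =>
    mor_of_hom_eq (hE _ hP)
  intro P hP
  obtain ⟨Q, hPQ, hQ⟩ := exists_fullyNormalized_conj (F := F) (hP.trans hUS)
  obtain ⟨f, hf⟩ := isConj_iff.1 hPQ
  have hQU : Q ≤ U := fun y hy => by
    obtain ⟨x, hx, rfl⟩ := hf.exists_eq hy
    exact StronglyClosed.mor_mem hU hf.1 hx (hP hx)
  haveI := finite_of_le (hQU.trans hUS)
  have haut : E.autGroup Q = F.autGroup Q := by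
    ext α
    rw [mem_autGroup_iff hQU, mem_autGroup_iff (hQU.trans hUS)]
    exact and_congr_left fun _ => hm hQU
  have hind : autInducedBy U Q = autInducedBy S Q := by
    refine le_antisymm (autInducedBy_mono hUS) fun α hα => ?_
    obtain ⟨s, hs, hsn, hsx⟩ := mem_autInducedBy_iff.1 hα
    obtain ⟨u, hu, c, hc, rfl⟩ := hdec s hs
    have hcx : ∀ x ∈ Q, c * x * c⁻¹ = x := fun x hx => by
      rw [← Subgroup.mem_centralizer_iff.1 hc x (hQU hx), mul_inv_cancel_right]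
    have hcn : c ∈ Subgroup.normalizer (Q : Set Ω) :=
      Subgroup.centralizer_le_normalizer _ (Subgroup.centralizer_le hQU hc)
    have hun : u ∈ Subgroup.normalizer (Q : Set Ω) := by
      have := Subgroup.mul_mem _ hsn (Subgroup.inv_mem _ hcn)
      rwa [mul_inv_cancel_right] at this
    refine mem_autInducedBy_iff.2 ⟨u, hu, hun, fun x hx => ?_⟩
    rw [hsx x hx]
    nth_rewrite 2 [← hcx x hx]
    group
  refine ⟨Q, isConj_iff.2 ⟨f, (hm hP).2 hf.1, hf.2⟩, ⟨hQU, ?_⟩, isReceptive_iff.2 ⟨hQU, fun R g hg => ?_⟩⟩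
  · obtain ⟨-, T, hT⟩ := fullyAutomized_of_fullyNormalized hS hF hQ
    rw [haut, hind]
    exact ⟨T, hT⟩
  · have hR : R ≤ U := hg.left_le
    obtain ⟨k, hk, hkg⟩ := (isReceptive_iff.1 (receptive_of_fullyNormalized hS hF hQ)).2 R g
      ⟨(hm hR).1 hg.1, hg.2⟩
    have hN : nPhi U R g ≤ U := nPhi_le.trans inf_le_left
    have hle : nPhi U R g ≤ nPhi S R g := by
      rintro a ⟨ha, han, b, hb, hx⟩
      exact ⟨hUS ha, han, b, hUS hb, hx⟩
    exact ⟨k, (hm hN).2 (hk.mono hle), hkg⟩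

variable (hprod : IsInternalDirectProduct S₁ S₂ S)
include hprod

theorem dprod_decomp {s : Ω} (hs : s ∈ S) : ∃ a ∈ S₁, ∃ b ∈ S₂, s = a * b := by
  obtain ⟨h1, h2, hc, -, hsup⟩ := hprod
  rw [← hsup] at hs
  have hle : S₁ ≤ Subgroup.normalizer (S₂ : Set Ω) := fun a ha =>
    Subgroup.centralizer_le_normalizer _ (Subgroup.mem_centralizer_iff.2 fun b hb => (hc a ha b hb).symm)
  have hs' : s ∈ ((S₁ ⊔ S₂ : Subgroup Ω) : Set Ω) := hs
  rw [Subgroup.coe_mul_of_left_le_normalizer_right _ _ hle] at hs'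
  obtain ⟨a, ha, b, hb, rfl⟩ := hs'
  exact ⟨a, ha, b, hb, rfl⟩

theorem dprod_centralizes {a : Ω} (ha : a ∈ S₁) : a ∈ Subgroup.centralizer (S₂ : Set Ω) :=
  Subgroup.mem_centralizer_iff.2 fun b hb => (hprod.2.2.1 a ha b hb).symm

theorem dprod_centralizes' {b : Ω} (hb : b ∈ S₂) : b ∈ Subgroup.centralizer (S₁ : Set Ω) :=
  Subgroup.mem_centralizer_iff.2 fun a ha => hprod.2.2.1 a ha b hb

variable [Fact p.Prime] [Finite S] (hS : IsPGroup p S) (hF : F.IsSaturated p)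
variable (h₁ : F.StronglyClosed S₁) (h₂ : F.StronglyClosed S₂)
include hS hF h₁ h₂

/-- Every map on a subgroup of one factor extends over the other factor. -/
theorem exists_extend_factor (hP : P ≤ S₁) (hf : Mor F P f) :
    ∃ g, Mor F (P ⊔ S₂) g ∧ (∀ x ∈ P, g x = f x) ∧ Iso F S₂ S₂ g := by
  obtain ⟨X, hX⟩ := hf.exists_iso
  have hX1 : X ≤ S₁ := fun y hy => by
    obtain ⟨x, hx, rfl⟩ := hX.exists_eq hy
    exact StronglyClosed.mor_mem h₁ hf hx (hP hx)
  obtain ⟨Y, hXY, hY⟩ := exists_fullyNormalized_conj (F := F) (hX1.trans h₁.1)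
  obtain ⟨ψ, hψ⟩ := isConj_iff.1 hXY
  have hrec := isReceptive_iff.1 (receptive_of_fullyNormalized hS hF hY)
  have hext : ∀ (A : Subgroup Ω) (k : Ω → Ω), A ≤ S₁ → Iso F A Y k →
      ∃ e, Mor F (A ⊔ S₂) e ∧ ∀ x ∈ A, e x = k x := by
    intro A k hA hk
    obtain ⟨e, he, hek⟩ := hrec.2 A k hk
    exact ⟨e, he.mono (sup_le hk.1.le_nPhi fun b hb => centralizerIn_le_nPhi
      ⟨hprod.2.1 hb, Subgroup.centralizer_le hA (dprod_centralizes' hprod hb)⟩), hek⟩
  obtain ⟨e, he, hek⟩ := hext X ψ hX1 hψ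
  obtain ⟨e', he', hek'⟩ := hext P (ψ ∘ f) hP (hX.comp hψ)
  obtain ⟨I, hI⟩ := he.exists_iso
  obtain ⟨d, hd, hdl, hdr⟩ := hI.symm
  have hmaps : ∀ x ∈ P ⊔ S₂, e' x ∈ I := fun x hx => he'.mem_of_sup
    (fun a ha => by
      rw [hek' a ha, Function.comp_apply, ← hek _ (hX.mem ha)]
      exact hI.mem (Subgroup.mem_sup_left (hX.mem ha)))
    (fun b hb => by
      obtain ⟨c, hc, hce⟩ := (StronglyClosed.iso_self h₂ he le_sup_right).exists_eq
        ((StronglyClosed.iso_self h₂ he' le_sup_right).mem hb)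
      exact hce ▸ hI.mem (Subgroup.mem_sup_right hc)) hx
  refine ⟨d ∘ e', he'.comp hd.1 hmaps, fun x hx => ?_,
    StronglyClosed.iso_self h₂ (he'.comp hd.1 hmaps) le_sup_right⟩
  show d (e' x) = f x
  rw [hek' x hx, Function.comp_apply, ← hek _ (hX.mem hx), hdl _ (Subgroup.mem_sup_left (hX.mem hx))]

/-- An automorphism of a factor extends to the product. -/
theorem exists_top_of_factor {g : Ω → Ω} (hg : Iso F S₂ S₂ g) :
    ∃ b, Iso F S S b ∧ ∀ x ∈ S₂, b x = g x := by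
  have hfc : F.IsFullyNormalized S₂ := ⟨h₂.1, fun R hR => by
    obtain ⟨k, hk⟩ := isConj_iff.1 hR
    rw [hk.eq_image (StronglyClosed.iso_self h₂ hk.1 le_rfl)]⟩
  obtain ⟨b, hb, hbg⟩ := (isReceptive_iff.1 (receptive_of_fullyNormalized hS hF hfc)).2 S₂ g hg
  have hSN : S ≤ nPhi S S₂ g := fun s hs => by
    have hn : s ∈ Subgroup.normalizer (S₂ : Set Ω) := StronglyClosed.le_normalizer h₂ hs
    obtain ⟨a, ha, c, hc, rfl⟩ := dprod_decomp hprod hs
    refine ⟨hs, hn, g c, hg.1.mem_S hc, fun x hx => ?_⟩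
    have hxc : c * x * c⁻¹ ∈ S₂ := S₂.mul_mem (S₂.mul_mem hc hx) (S₂.inv_mem hc)
    have e1 : a * c * x * (a * c)⁻¹ = c * x * c⁻¹ := by
      rw [show a * c * x * (a * c)⁻¹ = a * (c * x * c⁻¹) * a⁻¹ by group,
        ← Subgroup.mem_centralizer_iff.1 (dprod_centralizes hprod ha) _ hxc, mul_inv_cancel_right]
    rw [e1, hg.1.map_conj hc hx]
  have hbS := hb.mono hSN
  exact ⟨b, ⟨hbS, fun y => ⟨fun hy => hbS.surj_of_card le_rfl (fun x hx => hbS.mem_S hx) le_rfl hy,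
    fun ⟨x, hx, hxy⟩ => hxy ▸ hbS.mem_S hx⟩⟩, hbg⟩

end Cfsg.Agent.FusSys
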