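import Cfsg.Agent.FusSys.Criteria
import Cfsg.Agent.FusSys.InvariantCrit

/-!
`O_p` of an automorphism group of the system; a centric subgroup meeting a normal subsystem in a
subgroup which is not centric there is not radical.
-/

set_option autoImplicit false

namespace Cfsg.Agent.FusSys

open Cfsg Cfsg.FusionSystem

universe u

variable {Ω : Type u} [Group Ω] {S P Q R : Subgroup Ω} {F : FusionSystem S} {f g : Ω → Ω} {p : ℕ}

/-- `O_p(Aut_F(P))`, inside `Aut(P)`. -/
def opCore (F : FusionSystem S) (p : ℕ) (P : Subgroup Ω) : Subgroup (MulAut P) :=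
  (pCore p (F.autGroup P)).map (F.autGroup P).subtype

theorem opCore_le_autGroup : opCore F p P ≤ F.autGroup P := Subgroup.map_subtype_le _

theorem le_opCore {A : Subgroup (MulAut P)} (hA : A ≤ F.autGroup P) (hp : IsPGroup p A)
    (hn : ∀ α ∈ F.autGroup P, ∀ γ ∈ A, α * γ * α⁻¹ ∈ A) : A ≤ opCore F p P := fun γ hγ => by
  have hN : (A.subgroupOf (F.autGroup P)).Normal := ⟨fun x hx y => hn y y.2 x hx⟩
  have hp' : IsPGroup p ↥(A.subgroupOf (F.autGroup P)) := hp.comap_subtype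
  have hm : (⟨γ, hA hγ⟩ : F.autGroup P) ∈ A.subgroupOf (F.autGroup P) := hγ
  have h1 : A.subgroupOf (F.autGroup P) ≤ pCore p (F.autGroup P) :=
    Cfsg.Agent.Core.le_pCore (N := A.subgroupOf (F.autGroup P)) (hN := hN) hp'
  exact Subgroup.mem_map_of_mem (F.autGroup P).subtype (h1 hm)

theorem conj_mem_opCore {α γ : MulAut P} (hα : α ∈ F.autGroup P) (hγ : γ ∈ opCore F p P) :
    α * γ * α⁻¹ ∈ opCore F p P := by
  obtain ⟨c, hc, rfl⟩ := Subgroup.mem_map.1 hγ
  have hn : (pCore p (F.autGroup P)).Normal := inferInstance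
  have h1 : (⟨α, hα⟩ : F.autGroup P) * c * (⟨α, hα⟩ : F.autGroup P)⁻¹ ∈ pCore p (F.autGroup P) :=
    hn.conj_mem c hc _
  exact Subgroup.mem_map_of_mem (F.autGroup P).subtype h1

theorem isPGroup_opCore [Finite S] [Fact p.Prime] : IsPGroup p (opCore F p P) :=
  Cfsg.Agent.Core.pCore_isPGroup.map _

theorem inn_le_opCore [Finite S] [Fact p.Prime] (hS : IsPGroup p S) (hP : P ≤ S) :
    Inn P ≤ opCore F p P := by
  refine le_opCore (inn_le_autGroup hP) ?_ fun α _ γ hγ => ?_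
  · rw [inn_eq_autInducedBy]
    exact isPGroup_autInducedBy (hS.to_le hP)
  · obtain ⟨q, rfl⟩ := hγ
    refine ⟨α q, MulEquiv.ext fun z => ?_⟩
    simp [MulAut.conj_apply]

theorem Iso.conjAut_opCore (hf : Iso F P Q f) {α : MulAut P} (hα : α ∈ opCore F p P) :
    hf.conjAut α ∈ opCore F p Q := by
  obtain ⟨c, hc, rfl⟩ := hα
  let e : F.autGroup P ≃* F.autGroup Q :=
    (hf.conjAut.subgroupMap (F.autGroup P)).trans (MulEquiv.subgroupCongr hf.map_autGroup)
  refine ⟨e c, ?_, rfl⟩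
  rw [← Cfsg.Agent.Core.map_pCore e]
  exact Subgroup.mem_map_of_mem _ hc

theorem Iso.radical [Finite S] [Fact p.Prime] (hS : IsPGroup p S) (hf : Iso F P Q f)
    (h : F.IsRadical p P) : F.IsRadical p Q := by
  refine ⟨hf.right_le, le_antisymm (fun β hβ => ?_) (inn_le_opCore hS hf.right_le)⟩
  obtain ⟨g, hg, hgf, hfg⟩ := hf.symm
  have h1 : hg.conjAut β ∈ Inn P := h.2.le (hg.conjAut_opCore hβ)
  obtain ⟨a, ha⟩ := h1
  refine ⟨⟨f a, hf.mem a.2⟩, apl_ext fun y hy => ?_⟩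
  have h2 := hg.conjAut_apl β hy
  rw [← ha, apl_conj a (hg.mem hy)] at h2
  rw [apl_conj _ hy, ← hfg _ (apl_mem β hy), ← h2, hf.1.map_conj a.2 (hg.mem hy), hfg y hy]

variable [Fact p.Prime] [Finite S] (hS : IsPGroup p S) (hF : F.IsSaturated p)
variable {T : Subgroup Ω} {E : FusionSystem T}
include hS hF

/-- Being centric in a subsystem over a strongly closed subgroup can be checked at a fully normalized
conjugate. -/
theorem centric_in_of_fullyNormalized (hEF : E.IsSubsystemOf F) (hT : F.StronglyClosed T)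
    (hQn : F.IsFullyNormalized Q) (hP : P ≤ T) (hPQ : F.IsConj P Q)
    (hC : centralizerIn T Q ≤ Q) : E.IsCentric P := by
  refine ⟨hP, fun R hR c hc => ?_⟩
  obtain ⟨φ, hφ, hφR⟩ := hR
  have hR' : F.IsConj P R := ⟨φ, hEF P hφ, hφR⟩
  obtain ⟨g, hg, hgi, -⟩ :=
    exists_mor_to_fullyNormalized hS hF hQn (isConj_trans (isConj_symm hR') hPQ)
  have hcN : c ∈ normalizerIn S R := centralizerIn_le_normalizerIn S R ⟨hT.1 hc.1, hc.2⟩
  have hgc : g c ∈ centralizerIn T Q := by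
    refine ⟨StronglyClosed.mor_mem hT hg hcN hc.1, Subgroup.mem_centralizer_iff.2 fun y hy => ?_⟩
    obtain ⟨x, hx, rfl⟩ := hgi.exists_eq hy
    have hxN : x ∈ normalizerIn S R := le_normalizerIn hgi.left_le hx
    rw [← hg.map_mul hxN hcN, ← hg.map_mul hcN hxN, Subgroup.mem_centralizer_iff.1 hc.2 x hx]
  obtain ⟨x, hx, hxc⟩ := hgi.exists_eq (hC hgc)
  exact hg.injOn (le_normalizerIn hgi.left_le hx) hcN hxc ▸ hx

/-- Some conjugate of a centric subgroup meeting `T` in a subgroup not centric in `E` has an element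
of `N_S` outside it inducing an automorphism in `O_p`. -/
theorem exists_opCore_element (hEF : E.IsSubsystemOf F) (hT : F.StronglyClosed T)
    (hP : F.IsCentric P) (hPT : ¬ E.IsCentric (P ⊓ T)) :
    ∃ P' x, F.IsConj P P' ∧ x ∈ normalizerIn S P' ∧ x ∉ P' ∧
      ∃ α ∈ opCore F p P', ∀ y ∈ P', apl α y = x * y * x⁻¹ := by
  obtain ⟨Q, g, hQn, hg, hgi, -⟩ := exists_fullyNormalized_mor hS hF
    (inf_le_left.trans hP.1 : P ⊓ T ≤ S)
  have hSN : S ≤ Subgroup.normalizer (T : Set Ω) := StronglyClosed.le_normalizer hT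
  have hinf : ∀ {A : Subgroup Ω} {a : Ω}, A ≤ S → a ∈ A →
      a ∈ Subgroup.normalizer ((A ⊓ T : Subgroup Ω) : Set Ω) := fun {A a} hA ha =>
    Subgroup.mem_normalizer_iff.2 fun y => and_congr
      (Subgroup.mem_normalizer_iff.1 (Subgroup.le_normalizer ha) y)
      (Subgroup.mem_normalizer_iff.1 (hSN (hA ha)) y)
  have hPN : P ≤ normalizerIn S (P ⊓ T) := fun a ha => ⟨hP.1 ha, hinf hP.1 ha⟩
  obtain ⟨P', hP'⟩ := (hg.mono hPN).exists_iso
  obtain ⟨g', hg', hg'g, -⟩ := hP'.symm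
  have hP'T : P' ⊓ T = Q := by
    ext y
    constructor
    · rintro ⟨hy, hyT⟩
      obtain ⟨x, hx, rfl⟩ := hP'.exists_eq hy
      refine hgi.mem ⟨hx, ?_⟩
      exact hg'g x hx ▸ StronglyClosed.mor_mem hT hg'.1 hy hyT
    · intro hy
      obtain ⟨x, hx, rfl⟩ := hgi.exists_eq hy
      exact ⟨hP'.mem hx.1, StronglyClosed.mor_mem hT hgi.1 hx hx.2⟩
  set C := centralizerIn T Q with hCdef
  have hC : ¬ C ≤ P' := fun h => hPT (centric_in_of_fullyNormalized hS hF hEF hT hQn inf_le_right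
    hgi.isConj fun c hc => hP'T.le ⟨h hc, hc.1⟩)
  have hP'S : P' ≤ S := hP'.right_le
  have hP'C : P' ≤ Subgroup.normalizer (C : Set Ω) := by
    intro a ha
    have haQ : a ∈ Subgroup.normalizer (Q : Set Ω) := by
      have h := hinf hP'S ha
      rwa [hP'T] at h
    refine Subgroup.mem_normalizer_iff.2 fun y => and_congr
      (Subgroup.mem_normalizer_iff.1 (hSN (hP'S ha)) y) ⟨fun hy => ?_, fun hy => ?_⟩
    · refine Subgroup.mem_centralizer_iff.2 fun z hz => ?_
      have hz' : a⁻¹ * z * a ∈ Q := by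
        rw [Subgroup.mem_normalizer_iff.1 haQ]
        simpa [mul_assoc] using hz
      have h := Subgroup.mem_centralizer_iff.1 hy _ hz'
      calc z * (a * y * a⁻¹) = a * ((a⁻¹ * z * a) * y) * a⁻¹ := by group
        _ = a * (y * (a⁻¹ * z * a)) * a⁻¹ := by rw [h]
        _ = a * y * a⁻¹ * z := by group
    · refine Subgroup.mem_centralizer_iff.2 fun z hz => ?_
      have h := Subgroup.mem_centralizer_iff.1 hy _ ((Subgroup.mem_normalizer_iff.1 haQ z).1 hz)
      calc z * y = a⁻¹ * ((a * z * a⁻¹) * (a * y * a⁻¹)) * a := by group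
        _ = a⁻¹ * ((a * y * a⁻¹) * (a * z * a⁻¹)) * a := by rw [h]
        _ = y * z := by group
  have hlt : P' < P' ⊔ C := lt_of_le_of_ne le_sup_left fun h => hC (h ▸ le_sup_right)
  obtain ⟨c, ⟨hc, hcn⟩, hcP⟩ := SetLike.exists_of_lt
    (lt_inf_normalizer hS (sup_le hP'S (inf_le_left.trans hT.1)) hlt)
  have hc' : c ∈ ((P' ⊔ C : Subgroup Ω) : Set Ω) := hc
  rw [Subgroup.coe_mul_of_left_le_normalizer_right _ _ hP'C] at hc'
  obtain ⟨a, ha, x, hx, rfl⟩ := hc'
  have hxn : x ∈ Subgroup.normalizer (P' : Set Ω) := by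
    have h := Subgroup.mul_mem _ (Subgroup.inv_mem _ (Subgroup.le_normalizer ha)) hcn
    rwa [inv_mul_cancel_left] at h
  have hxP : x ∉ P' := fun h => hcP (P'.mul_mem ha h)
  refine ⟨P', x, hP'.isConj, ⟨hT.1 hx.1, hxn⟩, hxP, ?_⟩
  obtain ⟨α, hα, hαx⟩ := exists_mem_autInducedBy (P := P') (hT.1 hx.1) hxn
  have := finite_of_le hP'S
  let D : ℕ → Subgroup Ω := fun i => if i = 0 then ⊥ else if i = 1 then P' ⊓ T else P'
  have hmono : Monotone D := monotone_nat_of_le_succ fun i => by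
    rcases i with - | - | i
    · exact bot_le
    · exact inf_le_left
    · exact le_rfl
  refine ⟨α, le_opCore (inf_le_left : F.autGroup P' ⊓ chainStab D hmono 2 ≤ _)
    (isPGroup_chainStab (hS.to_le hP'S) hmono le_rfl fun δ _ _ y hy hy0 => ?_)
    (fun β hβ γ hγ => ⟨Subgroup.mul_mem _ (Subgroup.mul_mem _ hβ hγ.1) (Subgroup.inv_mem _ hβ),
      chainStab_conj (fun i hi y hy => ?_) hγ.2⟩)
    ⟨autInducedBy_le_autGroup hP'S hα, mem_chainStab.2 fun i hi y hy hyD => ?_⟩, hαx⟩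
  · obtain rfl : y = 1 := hy0
    exact (apl_apply δ hy).trans (congrArg Subtype.val (map_one δ))
  · rcases i with - | - | i
    · show apl β y ∈ (⊥ : Subgroup Ω) ↔ y ∈ (⊥ : Subgroup Ω)
      rw [Subgroup.mem_bot, Subgroup.mem_bot, apl_apply β hy]
      exact ⟨fun h => congrArg Subtype.val (β.injective (Subtype.ext h |>.trans (map_one β).symm) :
        (⟨y, hy⟩ : P') = 1), fun h => by subst h; exact congrArg Subtype.val (map_one β)⟩
    · exact and_congr (iff_of_true (apl_mem β hy) hy)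
        (apl_invariant_of_stronglyClosed hT hP'S hβ hy)
    · exact iff_of_true (apl_mem β hy) hy
  · rw [hαx y hy]
    rcases i with - | - | i
    · show y⁻¹ * (x * y * x⁻¹) ∈ (⊥ : Subgroup Ω)
      have hyQ : y ∈ Q := hP'T.le hyD
      rw [Subgroup.mem_bot, ← Subgroup.mem_centralizer_iff.1 hx.2 y hyQ]
      group
    · refine ⟨P'.mul_mem (P'.inv_mem hy) ((Subgroup.mem_normalizer_iff.1 hxn y).1 hy), ?_⟩
      have h := T.mul_mem ((Subgroup.mem_normalizer_iff.1 (hSN (S.inv_mem (hP'S hy))) x).1 hx.1)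
        (T.inv_mem hx.1)
      have e : y⁻¹ * x * y⁻¹⁻¹ * x⁻¹ = y⁻¹ * (x * y * x⁻¹) := by group
      rwa [e] at h
    · omega

theorem not_radical_of_not_centric_in (hEF : E.IsSubsystemOf F) (hT : F.StronglyClosed T)
    (hP : F.IsCentric P) (hPT : ¬ E.IsCentric (P ⊓ T)) : ¬ F.IsRadical p P := fun hr => by
  obtain ⟨P', x, hc, hx, hxP, α, hα, hαx⟩ := exists_opCore_element hS hF hEF hT hP hPT
  obtain ⟨f, hf⟩ := isConj_iff.1 hc
  exact hxP (mem_of_conj_mem_inn (centric_self (centric_of_isConj hP hc)) hf.right_le hx.1 hαx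
    ((hf.radical hS hr).2.le hα))

end Cfsg.Agent.FusSys
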