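import Cfsg.Agent.FusSys.ElemCrit

/-!
The cyclic subgroups generated by small elements and the maps on them.
-/

set_option autoImplicit false

namespace Cfsg.Agent.FusSys

open Cfsg Cfsg.FusionSystem

universe u

variable {Ω : Type u} [Group Ω] {S P : Subgroup Ω} {F : FusionSystem S} {p : ℕ}

theorem card_zpowers_small [Fact p.Prime] {x : Ω} (h : Small p x) (h1 : x ≠ 1) :
    Nat.card (Subgroup.zpowers x) = p ∨ Nat.card (Subgroup.zpowers x) = 4 := by
  rw [Nat.card_zpowers]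
  rcases h with h | ⟨rfl, h⟩
  · exact Or.inl (orderOf_eq_prime h h1)
  · have hd : orderOf x ∣ 2 ^ 2 := orderOf_dvd_of_pow_eq_one h
    obtain ⟨k, hk, hkx⟩ := (Nat.dvd_prime_pow Nat.prime_two).1 hd
    interval_cases k
    · exact absurd (orderOf_eq_one_iff.1 (by simpa using hkx)) h1
    · exact Or.inl (by simpa using hkx)
    · exact Or.inr (by simpa using hkx)

/-- The map induced on a small cyclic subgroup of the hyperfocal subgroup. -/
theorem exists_hom_zpowers [Finite S] [Fact p.Prime] (hS : IsPGroup p S) (hF : F.IsSaturated p)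
    (hP : P ≤ S) {α : MulAut P} (hα : α ∈ F.autGroup P) {x : Ω} (hx : x ∈ P)
    (hxh : x ∈ F.hyperfocalSubgroup p) (hs : Small p x) :
    x = 1 ∧ apl α x = 1 ∨ ∃ φ ∈ F.homSet (Subgroup.zpowers x) (Subgroup.zpowers (apl α x)),
      φ ⟨x, Subgroup.mem_zpowers x⟩ = apl α x ∧
      Subgroup.zpowers x ≤ F.hyperfocalSubgroup p ∧
      Subgroup.zpowers (apl α x) ≤ F.hyperfocalSubgroup p ∧
      (Nat.card (Subgroup.zpowers x) = p ∨ Nat.card (Subgroup.zpowers x) = 4) ∧
      (Nat.card (Subgroup.zpowers (apl α x)) = p ∨ Nat.card (Subgroup.zpowers (apl α x)) = 4) := by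
  by_cases h1 : x = 1
  · subst h1
    refine Or.inl ⟨rfl, ?_⟩
    rw [apl_apply α hx]
    exact congrArg Subtype.val (map_one α)
  refine Or.inr ?_
  have hle : Subgroup.zpowers x ≤ P := (Subgroup.zpowers_le).2 hx
  obtain ⟨φ, hφ, hφx⟩ := (iso_apl hP hα).1.mono hle
  have hval : φ ⟨x, Subgroup.mem_zpowers x⟩ = apl α x := hφx _
  have hne : apl α x ≠ 1 := fun e => h1 (by
    have h := apl_inv_apl α hx
    rw [e, apl_apply α⁻¹ P.one_mem] at h
    rw [← h]
    exact congrArg Subtype.val (map_one α⁻¹))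
  refine ⟨φ, ⟨hφ, ?_⟩, hval, (Subgroup.zpowers_le).2 hxh, (Subgroup.zpowers_le).2
    (StronglyClosed.mor_mem (stronglyClosed_hyperfocal hS hF) (iso_apl hP hα).1 hx hxh),
    card_zpowers_small hs h1, card_zpowers_small (hs.apl α hx) hne⟩
  rintro ⟨y, hy⟩
  obtain ⟨k, rfl⟩ := Subgroup.mem_zpowers_iff.1 hy
  rw [show (⟨x ^ k, hy⟩ : Subgroup.zpowers x) = ⟨x, Subgroup.mem_zpowers x⟩ ^ k from
    Subtype.ext (by simp), map_zpow, hval]
  exact zpow_mem (Subgroup.mem_zpowers _) k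

end Cfsg.Agent.FusSys
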