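import Cfsg.Agent.FusSys.ThreeDim
import Cfsg.Agent.FusSys.EssentialAbelian
import Cfsg.Agent.FusSys.Extender
import Cfsg.Agent.Core.Solvable

/-!
Elementary abelian essential subgroups of order `p ^ 3` of a system on a group of order at least
`p ^ 5`: the normalizer has order `p ^ 4` and carries the torus automorphisms.
-/

set_option autoImplicit false

namespace Cfsg.Agent.FusSys

open Cfsg Cfsg.FusionSystem Subgroup
open scoped commutatorElement

universe u

variable {Ω : Type u} [Group Ω] {S : Subgroup Ω} {F : FusionSystem S} {p : ℕ} [hp : Fact p.Prime]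
variable {E : Subgroup Ω} [Finite S]

/-- Two automorphisms of `E` agreeing on `x`, `w`, `c` are equal, `⟨w, c⟩` being a maximal subgroup
not containing `x`. -/
theorem cube_ext [Finite E] (hcard : Nat.card E = p ^ 3) (hexp : ∀ a : E, a ^ p = 1)
    (hab : ∀ a b : E, a * b = b * a) {D : Subgroup E} (hD : D.index = p) {x w c : E} (hx : x ∉ D)
    (hw : w ∈ D) (hw1 : w ≠ 1) (hc : c ∈ D) (hcw : c ∉ zpowers w) {α β : MulAut E}
    (h1 : α x = β x) (h2 : α w = β w) (h3 : α c = β c) : α = β := by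
  refine MulEquiv.ext fun a => ?_
  obtain ⟨d, hd, m, rfl⟩ := ThreeDim.exists_decomp hcard hD hab hx a
  obtain ⟨i, j, rfl⟩ := ThreeDim.exists_coord hcard hexp hD hw hc hw1 hcw hab hd
  simp only [map_mul, map_zpow, h1, h2, h3]

/-- A transvection-like element and an invariant subgroup of order `p ^ 2`. -/
theorem exists_axis (hS : IsPGroup p S) (hc : F.IsCentric E) (hab : ∀ a ∈ E, ∀ b ∈ E, a * b = b * a)
    (hcard : Nat.card E = p ^ 3) (hbig : p ^ 5 ≤ Nat.card S) :
    ∃ b ∈ normalizerIn S E, b ∉ E ∧ (∀ g ∈ normalizerIn S E, ⁅g, b⁆ ∈ E) ∧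
      ∃ D0 : Subgroup Ω, D0 ≤ E ∧ Nat.card D0 = p ^ 2 ∧ ∀ d ∈ D0, b * d = d * b := by
  have hpp := hp.out
  have hES := hc.1
  haveI := finite_of_le hES
  set N := normalizerIn S E with hN
  have hNS : N ≤ S := inf_le_left
  haveI : Finite N := finite_of_le hNS
  have hNp : IsPGroup p N := hS.to_le hNS
  haveI := hNp.isNilpotent
  have hEN : E ≤ N := le_normalizerIn hES
  set E' := E.subgroupOf N with hE'
  have hcE' : Nat.card E' = p ^ 3 := (Nat.card_congr (subgroupOfEquivOfLe hEN).toEquiv).trans hcard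
  haveI hE'n : E'.Normal := ⟨fun y hy g => (Subgroup.mem_normalizer_iff.1 g.2.2 y).1 hy⟩
  obtain ⟨e, he⟩ := IsPGroup.iff_card.1 hNp
  rcases Nat.lt_or_ge e 5 with he5 | he5
  · -- a conjugate of `E` inside its normalizer
    have hNne : N.subgroupOf S ≠ ⊤ := fun h => by
      have h1 := card_le_of_le (subgroupOf_eq_top.1 h)
      rw [he] at h1
      have := (Nat.pow_le_pow_iff_right hpp.one_lt).1 (hbig.trans h1)
      omega
    haveI := hS.isNilpotent
    obtain ⟨⟨g, hgS⟩, hgn, hgN⟩ := SetLike.exists_of_lt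
      (Group.normalizerCondition_of_isNilpotent (N.subgroupOf S) (lt_top_iff_ne_top.2 hNne))
    have hgN' : g ∉ N := hgN
    have hgn' : ∀ z ∈ N, g * z * g⁻¹ ∈ N := fun z hz =>
      (Subgroup.mem_normalizer_iff.1 hgn ⟨z, hNS hz⟩).1 hz
    set B := E.map (MulAut.conj g).toMonoidHom with hB
    have hBN : B ≤ N := by rintro - ⟨z, hz, rfl⟩; exact hgn' z (hEN hz)
    have hcB : Nat.card B = p ^ 3 :=
      (card_map_of_injective (f := (MulAut.conj g).toMonoidHom) (MulAut.conj g).injective).trans hcard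
    have hBne : ¬ B ≤ E := fun hle => hgN' ⟨hgS, by
      haveI := finite_of_le hES
      have hBE : B = E := eq_of_le_of_card_ge hle (by rw [hcB, hcard])
      refine Subgroup.mem_normalizer_iff.2 fun z => ⟨fun hz => hBE ▸ mem_map_of_mem _ hz, fun hz => ?_⟩
      rw [← hBE] at hz
      obtain ⟨y, hy, hyz⟩ := hz
      have e1 : y = z := by
        simpa [MulAut.conj_apply] using hyz
      exact e1 ▸ hy⟩
    obtain ⟨b, hbB, hbE⟩ := SetLike.not_le_iff_exists.1 hBne
    have hprod := Cfsg.Agent.Core.card_sup_mul_card_inf (B.subgroupOf N) E'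
    have hcBN : Nat.card (B.subgroupOf N) = p ^ 3 :=
      (Nat.card_congr (subgroupOfEquivOfLe hBN).toEquiv).trans hcB
    have hlt : E'.index = p := by
      obtain ⟨j, hj⟩ := IsPGroup.iff_card.1 (hNp.to_subgroup E')
      have h1 := E'.card_mul_index
      rw [hcE', he] at h1
      obtain ⟨k, -, hk⟩ := (Nat.dvd_prime_pow hpp).1 (Dvd.intro_left _ h1)
      rw [hk, ← pow_add] at h1
      have := Nat.pow_right_injective hpp.two_le h1
      have hk0 : k ≠ 0 := by
        rintro rfl
        rw [pow_zero, index_eq_one, subgroupOf_eq_top] at hk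
        exact hbE (hk (hBN hbB))
      rw [hk, show k = 1 by omega, pow_one]
    have hD2 : Nat.card (B ⊓ E : Subgroup Ω) = p ^ 2 := by
      obtain ⟨j, hj3, hj⟩ := (Nat.dvd_prime_pow hpp).1 (hcard ▸ card_dvd_of_le (inf_le_right : B ⊓ E ≤ E))
      have hj' : Nat.card ↥(B.subgroupOf N ⊓ E') = p ^ j := by
        rw [← hj, hE', Subgroup.subgroupOf, Subgroup.subgroupOf, ← comap_inf]
        change Nat.card ↥((B ⊓ E).subgroupOf N) = _
        rw [
          Nat.card_congr (subgroupOfEquivOfLe (inf_le_left.trans hBN)).toEquiv]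
      have hle : Nat.card ↥(B.subgroupOf N ⊔ E') ≤ p ^ e := he ▸ card_le_card_group _
      rw [hj', hcBN, hcE'] at hprod
      have h2 : p ^ (3 + 3) ≤ p ^ (e + j) := by
        rw [pow_add, pow_add, ← hprod]
        exact Nat.mul_le_mul_right _ hle
      have := (Nat.pow_le_pow_iff_right hpp.one_lt).1 h2
      have hj3' : j ≠ 3 := fun h3 => hBne (inf_eq_left.1 (by
        haveI := finite_of_le (hBN.trans hNS)
        exact eq_of_le_of_card_ge inf_le_left (by rw [hj, h3, hcB])))
      rw [hj, show j = 2 by omega]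
    refine ⟨b, hBN hbB, hbE, fun z hz => ?_, B ⊓ E, inf_le_right, hD2, fun d hd => ?_⟩
    · haveI : IsCyclic (N ⧸ E') := isCyclic_of_prime_card (p := p) (by rw [← index_eq_card, hlt])
      letI : CommGroup (N ⧸ E') := IsCyclic.commGroup
      have h1 : ((⁅(⟨z, hz⟩ : N), ⟨b, hBN hbB⟩⁆ : N) : N ⧸ E') = 1 := by
        rw [← QuotientGroup.mk'_apply, map_commutatorElement, commutatorElement_eq_one_iff_mul_comm]
        exact mul_comm _ _
      exact mem_subgroupOf.1 ((QuotientGroup.eq_one_iff _).1 h1)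
    · obtain ⟨u, hu, rfl⟩ := hbB
      obtain ⟨v, hv, rfl⟩ := hd.1
      show (MulAut.conj g) u * (MulAut.conj g) v = (MulAut.conj g) v * (MulAut.conj g) u
      rw [← map_mul, ← map_mul, hab u hu v hv]
  · -- a central element of `N / E` centralising a normal subgroup of order `p ^ 2`
    haveI : Nontrivial E' := Finite.one_lt_card_iff_nontrivial.1
      (hcE' ▸ one_lt_pow₀ hpp.one_lt (by norm_num))
    obtain ⟨z, hz, hz1⟩ := (bot_or_exists_ne_one (E' ⊓ center N)).resolve_left
      (Cfsg.Agent.Core.inf_center_ne_bot ((nontrivial_iff_ne_bot E').1 inferInstance))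
    obtain ⟨k, hk⟩ := IsPGroup.iff_orderOf.1 hNp z
    have hk0 : k ≠ 0 := fun h0 => hz1 (orderOf_eq_one_iff.1 (by rw [hk, h0, pow_zero]))
    set z1 := z ^ p ^ (k - 1) with hz1d
    have hz1o : orderOf z1 = p := by
      rw [hz1d, orderOf_pow_of_dvd (pow_ne_zero _ hpp.ne_zero) (hk ▸ pow_dvd_pow p (by omega)), hk,
        Nat.pow_div (by omega) hpp.pos, show k - (k - 1) = 1 by omega, pow_one]
    set Z := zpowers z1 with hZ
    have hZc : Z ≤ E' ⊓ center N := zpowers_le.2 (pow_mem hz _)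
    haveI : Z.Normal := ⟨fun y hy g => by
      rw [mem_center_iff.1 (hZc hy).2 g, mul_inv_cancel_right]; exact hy⟩
    haveI := (hNp.to_quotient Z).isNilpotent
    haveI := hE'n.map (QuotientGroup.mk' Z) (QuotientGroup.mk'_surjective Z)
    have hcZ : Nat.card Z = p := by rw [hZ, Nat.card_zpowers, hz1o]
    have hne : E'.map (QuotientGroup.mk' Z) ≠ ⊥ := fun h => by
      rw [Subgroup.map_eq_bot_iff, QuotientGroup.ker_mk'] at h
      have h1 := card_le_of_le h
      rw [hcE', hcZ] at h1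
      have := hpp.two_le
      nlinarith [Nat.pow_le_pow_left this 2]
    obtain ⟨q, hq, hq1⟩ := (bot_or_exists_ne_one _).resolve_left (Cfsg.Agent.Core.inf_center_ne_bot hne)
    obtain ⟨k', hk'⟩ := IsPGroup.iff_orderOf.1 (hNp.to_quotient Z) q
    have hk'0 : k' ≠ 0 := fun h0 => hq1 (orderOf_eq_one_iff.1 (by rw [hk', h0, pow_zero]))
    set q1 := q ^ p ^ (k' - 1) with hq1d
    have hq1o : orderOf q1 = p := by
      rw [hq1d, orderOf_pow_of_dvd (pow_ne_zero _ hpp.ne_zero) (hk' ▸ pow_dvd_pow p (by omega)), hk',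
        Nat.pow_div (by omega) hpp.pos, show k' - (k' - 1) = 1 by omega, pow_one]
    have hq1m : q1 ∈ E'.map (QuotientGroup.mk' Z) ⊓ center (N ⧸ Z) := pow_mem hq _
    set D1 := (zpowers q1).comap (QuotientGroup.mk' Z) with hD1
    have hD1E : D1 ≤ E' := fun y hy => by
      obtain ⟨d, hd, hdy⟩ := (zpowers_le.2 hq1m.1) (mem_comap.1 hy)
      have h1 : d⁻¹ * y ∈ Z := QuotientGroup.eq.1 hdy
      have h2 := mul_mem hd (hZc h1).1
      rwa [mul_inv_cancel_left] at h2
    have hD1c : Nat.card D1 = p ^ 2 := by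
      have h1 := Cfsg.Agent.Core.card_sup_mul_card_inf D1 Z
      have h2 := D1.card_mul_index
      rw [index_comap_of_surjective _ (QuotientGroup.mk'_surjective Z)] at h2
      have h3 := (zpowers q1).card_mul_index
      rw [Nat.card_zpowers, hq1o, ← index_eq_card] at h3
      have h4 := Z.card_mul_index
      rw [hcZ] at h4
      rw [← h3, ← h2] at h4
      rw [pow_two]
      refine Nat.eq_of_mul_eq_mul_right (Nat.pos_of_ne_zero
        (index_ne_zero_of_finite (H := zpowers q1))) ?_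
      rw [← h4, mul_assoc]
    haveI : D1.Normal := by
      haveI : (zpowers q1).Normal := ⟨fun y hy g => by
        rw [mem_center_iff.1 ((zpowers_le.2 hq1m.2) hy) g, mul_inv_cancel_right]; exact hy⟩
      exact Normal.comap inferInstance _
    set C := centralizer (D1 : Set N) with hC
    have hEC : E' ≤ C := fun y hy => mem_centralizer_iff.2 fun d hd =>
      Subtype.ext (hab _ (hD1E hd) _ hy)
    -- the centraliser has index at most `p`
    obtain ⟨d, hdD, hdZ⟩ : ∃ d ∈ D1, d ∉ Z := by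
      by_contra! h
      have h1 := card_le_of_le (show D1 ≤ Z from h)
      rw [hD1c, hcZ] at h1
      have := hpp.two_le
      nlinarith
    have hcomm : ∀ g : N, ⁅g, d⁆ ∈ Z := fun g => by
      rw [← QuotientGroup.eq_one_iff, ← QuotientGroup.mk'_apply, map_commutatorElement,
        commutatorElement_eq_one_iff_mul_comm]
      exact mem_center_iff.1 ((zpowers_le.2 hq1m.2) (mem_comap.1 hdD)) _
    have hgen : ∀ g : N, ⁅g, d⁆ = 1 → g ∈ C := fun g hg => mem_centralizer_iff.2 fun y hy => by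
      obtain ⟨i, hi⟩ : ∃ i : ℤ, (QuotientGroup.mk' Z d) ^ i = QuotientGroup.mk' Z y := by
        have hmem : QuotientGroup.mk' Z d ∈ zpowers q1 := hdD
        have hne : QuotientGroup.mk' Z d ≠ 1 := fun h => hdZ ((QuotientGroup.eq_one_iff d).1 h)
        have hcq : Nat.card (zpowers q1) = p := by rw [Nat.card_zpowers, hq1o]
        obtain ⟨i, hi⟩ := mem_zpowers_iff.1 (mem_zpowers_of_prime_card hcq
          (g := (⟨_, hmem⟩ : zpowers q1)) (g' := ⟨QuotientGroup.mk' Z y, hy⟩)
          (fun h => hne (congrArg Subtype.val h)))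
        exact ⟨i, congrArg Subtype.val hi⟩
      rw [← map_zpow] at hi
      have hzy : (d ^ i)⁻¹ * y ∈ Z := QuotientGroup.eq.1 hi
      have h1 : Commute g (d ^ i) :=
        (show Commute g d from commutatorElement_eq_one_iff_mul_comm.1 hg).zpow_right i
      have h2 : Commute g ((d ^ i)⁻¹ * y) := mem_center_iff.1 (hZc hzy).2 g
      have h3 := h1.mul_right h2
      rw [mul_inv_cancel_left] at h3
      exact h3.eq.symm
    have hCidx : C.index ≤ p := by
      let f : N ⧸ C → Z := fun x => ⟨⁅x.out, d⁆, hcomm x.out⟩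
      have hf : Function.Injective f := by
        intro a b hab'
        have h1 : ⁅a.out, d⁆ = ⁅b.out, d⁆ := congrArg Subtype.val hab'
        rw [← Quotient.out_eq a, ← Quotient.out_eq b]
        refine QuotientGroup.eq.2 (hgen _ ?_)
        rw [show ⁅a.out⁻¹ * b.out, d⁆ = a.out⁻¹ * (⁅b.out, d⁆ * (⁅a.out, d⁆)⁻¹) * a.out by
          simp only [commutatorElement_def]; group, h1, mul_inv_cancel, mul_one, inv_mul_cancel]
      rw [index_eq_card]
      exact (Nat.card_le_card_of_injective f hf).trans hcZ.le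
    haveI : C.Normal := Subgroup.normal_centralizer
    haveI := (hNp.to_quotient E').isNilpotent
    haveI := (inferInstance : C.Normal).map (QuotientGroup.mk' E') (QuotientGroup.mk'_surjective E')
    have hCne : C.map (QuotientGroup.mk' E') ≠ ⊥ := fun h => by
      rw [Subgroup.map_eq_bot_iff, QuotientGroup.ker_mk'] at h
      have h1 := card_le_of_le h
      have h2 := C.card_mul_index
      rw [he] at h2
      rw [hcE'] at h1
      have h3 : p ^ e ≤ p ^ 4 := by
        rw [← h2, pow_succ p 3]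
        exact Nat.mul_le_mul h1 hCidx
      have := (Nat.pow_le_pow_iff_right hpp.one_lt).1 h3
      omega
    obtain ⟨r, hr, hr1⟩ := (bot_or_exists_ne_one _).resolve_left (Cfsg.Agent.Core.inf_center_ne_bot hCne)
    obtain ⟨b, hbC, rfl⟩ := hr.1
    refine ⟨b, b.2, fun h => hr1 ((QuotientGroup.eq_one_iff b).2 h), fun g hg => ?_,
      D1.map N.subtype, fun y hy => ?_, ?_, fun y hy => ?_⟩
    · have h1 : ((⁅(⟨g, hg⟩ : N), b⁆ : N) : N ⧸ E') = 1 := by
        rw [← QuotientGroup.mk'_apply, map_commutatorElement, commutatorElement_eq_one_iff_mul_comm]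
        exact mem_center_iff.1 hr.2 _
      exact mem_subgroupOf.1 ((QuotientGroup.eq_one_iff _).1 h1)
    · obtain ⟨d', hd', rfl⟩ := hy
      exact hD1E hd'
    · rw [card_map_of_injective N.subtype_injective, hD1c]
    · obtain ⟨d', hd', rfl⟩ := hy
      exact (congrArg Subtype.val (mem_centralizer_iff.1 hbC d' hd')).symm

/-- The structure around an elementary abelian essential subgroup of order `p ^ 3`. -/
theorem elem_cube (hS : IsPGroup p S) (hF : F.IsSaturated p) (hE : F.IsEssential p E)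
    (hab : ∀ a ∈ E, ∀ b ∈ E, a * b = b * a) (hexp : ∀ a ∈ E, a ^ p = 1) (hcard : Nat.card E = p ^ 3)
    (hbig : p ^ 5 ≤ Nat.card S) :
    Nat.card (normalizerIn S E) = p ^ 4 ∧ ∃ (b x w c : Ω) (D : Subgroup Ω),
      b ∈ normalizerIn S E ∧ b ∉ E ∧ D ≤ E ∧ Nat.card D = p ^ 2 ∧ w ∈ D ∧ w ≠ 1 ∧ c ∈ D ∧
      c ∉ zpowers w ∧ x ∈ E ∧ x ∉ D ∧ b * x * b⁻¹ = x * w ∧
      (∀ g ∈ normalizerIn S E, ∀ d ∈ D, g * d = d * g) ∧
      ∀ k k' : ℤ, (p : ℤ) ∣ k * k' - 1 → ∃ f, Iso F (normalizerIn S E) (normalizerIn S E) f ∧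
        (∀ e ∈ E, f e ∈ E) ∧ f x = x ^ k' ∧ f w = w ^ k ∧ f c = c ∧ (b ^ (k * k))⁻¹ * f b ∈ E := by
  classical
  have hpp := hp.out
  obtain ⟨hc, hfn, hn, E0, hE0⟩ := id hE
  have hES := hc.1
  haveI := finite_of_le hES
  haveI : Finite (MulAut E) := Finite.of_injective _ MulEquiv.toEquiv_injective
  haveI : (innIn F E).Normal := hn
  have hPE : IsPGroup p E := IsPGroup.of_card hcard
  have hexp' : ∀ a : E, a ^ p = 1 := fun a => Subtype.ext (by simpa using hexp a a.2)
  have hab' : ∀ a b : E, a * b = b * a := fun a b => Subtype.ext (hab a a.2 b b.2)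
  have hinn : innIn F E = ⊥ := le_bot_iff.1 fun α hα => by
    obtain ⟨g, hg⟩ := mem_subgroupOf.1 hα
    refine mem_bot.2 (Subtype.ext ?_)
    rw [← hg, OneMemClass.coe_one]
    refine MulEquiv.ext fun x => ?_
    rw [MulAut.conj_apply, hab' g x, mul_inv_cancel_right, MulAut.one_apply]
  set N := normalizerIn S E with hN
  have hNS : N ≤ S := inf_le_left
  haveI : Finite N := finite_of_le hNS
  have hEN : E ≤ N := le_normalizerIn hES
  have hcent : centralizerIn S E = E := le_antisymm (centric_self hc) fun e he =>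
    ⟨hES he, mem_centralizer_iff.2 fun a ha => hab a ha e he⟩
  -- the Sylow subgroup induced by the normalizer
  obtain ⟨-, R, hR⟩ := fullyAutomized_of_fullyNormalized hS hF hfn
  have hmk : ∀ g ∈ N, ∃ γ : F.autGroup E, γ ∈ (R : Subgroup (F.autGroup E)) ∧
      ∀ e ∈ E, apl (γ : MulAut E) e = g * e * g⁻¹ := fun g hg => by
    obtain ⟨α, hα, hαx⟩ := exists_mem_autInducedBy (P := E) (K := S) hg.1 hg.2
    exact ⟨⟨α, autInducedBy_le_autGroup hES hα⟩, by rw [hR]; exact mem_subgroupOf.2 hα, hαx⟩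
  have hof : ∀ γ : F.autGroup E, γ ∈ (R : Subgroup (F.autGroup E)) → ∃ g ∈ N,
      ∀ e ∈ E, apl (γ : MulAut E) e = g * e * g⁻¹ := fun γ hγ => by
    rw [hR, mem_subgroupOf, mem_autInducedBy_iff] at hγ
    obtain ⟨g, hg, hgn, hgx⟩ := hγ
    exact ⟨g, ⟨hg, hgn⟩, hgx⟩
  have hval : ∀ (γ : F.autGroup E) (g : Ω), (∀ e ∈ E, apl (γ : MulAut E) e = g * e * g⁻¹) →
      ∀ a : E, (((γ : MulAut E) a : E) : Ω) = g * a * g⁻¹ := fun γ g hγ a => by
    rw [← apl_coe]; exact hγ a a.2
  obtain ⟨b, hbN, hbE, hbc, D0, hD0E, hD0c, hD0b⟩ := exists_axis hS hc hab hcard hbig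
  obtain ⟨t, htR, htx⟩ := hmk b hbN
  set D := D0.subgroupOf E with hD
  have hDc : Nat.card D = p ^ 2 := (Nat.card_congr (subgroupOfEquivOfLe hD0E).toEquiv).trans hD0c
  have hDi : D.index = p := by
    have h1 := D.card_mul_index
    rw [hDc, hcard, pow_succ p 2] at h1
    exact Nat.eq_of_mul_eq_mul_left (pow_pos hpp.pos 2) h1
  have hfix : ∀ a ∈ D, (t : MulAut E) a = a := fun a ha => Subtype.ext (by
    rw [hval t b htx, hD0b a ha, mul_inv_cancel_right])
  obtain ⟨x0, hx0⟩ : ∃ x, x ∉ D := by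
    by_contra! h
    rw [(eq_top_iff.2 (fun x _ => h x) : D = ⊤), index_top] at hDi
    exact hpp.one_lt.ne hDi
  obtain ⟨kt, hkt⟩ : ∃ k : ℕ, t ^ p ^ k = 1 := by
    obtain ⟨k, hk⟩ := R.2 ⟨t, htR⟩
    exact ⟨k, congrArg Subtype.val hk⟩
  obtain ⟨w0, hw0⟩ : ∃ w0, w0 = x0⁻¹ * (t : MulAut E) x0 := ⟨_, rfl⟩
  have hinvD : ∀ a, (t : MulAut E) a ∈ D ↔ a ∈ D := fun a => by
    refine ⟨fun ha => ?_, fun ha => (hfix a ha).symm ▸ ha⟩
    rwa [(t : MulAut E).injective (hfix _ ha)] at ha
  have hw0D : w0 ∈ D := hw0 ▸ step_trivial (A := D) (B := ⊤) (by rw [relIndex_top_right, hDi]) hinvD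
    (fun a => iff_of_true trivial trivial)
    (show (t : MulAut E) ^ p ^ kt = 1 by rw [← SubmonoidClass.coe_pow, hkt, OneMemClass.coe_one])
    (Subgroup.mem_top x0)
  have hw0ne : w0 ≠ 1 := fun h => hbE (centric_self hc ⟨hbN.1, mem_centralizer_iff.2 fun a ha => by
    obtain ⟨d, hd, m, e⟩ := ThreeDim.exists_decomp hcard hDi hab' hx0 ⟨a, ha⟩
    have h2 : (t : MulAut E) ⟨a, ha⟩ = ⟨a, ha⟩ := by
      rw [e, map_mul, map_zpow, hfix d hd, ← inv_mul_eq_one.1 (hw0.symm.trans h)]
    have h3 := congrArg Subtype.val h2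
    rw [hval t b htx] at h3
    exact (mul_inv_eq_iff_eq_mul.1 h3).symm⟩)
  have htv : ThreeDim.Tv p (t : MulAut E) w0 D :=
    ThreeDim.tv_of_fix hcard hexp' hab' hDi hfix hx0 hw0ne hw0D (by rw [hw0, mul_inv_cancel_left])
  have hcen : ∀ γ ∈ (R : Subgroup (F.autGroup E)), Commute γ t := fun γ hγ => by
    obtain ⟨g, hg, hgx⟩ := hof γ hγ
    refine Subtype.ext (MulEquiv.ext fun a => Subtype.ext ?_)
    show (((γ : MulAut E) ((t : MulAut E) a) : E) : Ω) = (((t : MulAut E) ((γ : MulAut E) a) : E) : Ω)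
    rw [hval γ g hgx, hval t b htx, hval t b htx, hval γ g hgx]
    have h1 : ∀ u ∈ E, ⁅g, b⁆ * u * (⁅g, b⁆)⁻¹ = u := fun u hu => by
      rw [hab _ (hbc g hg) u hu, mul_inv_cancel_right]
    calc g * (b * (a : Ω) * b⁻¹) * g⁻¹ = ⁅g, b⁆ * (b * (g * a * g⁻¹) * b⁻¹) * (⁅g, b⁆)⁻¹ := by
          simp only [commutatorElement_def]; group
      _ = _ := h1 _ ((Subgroup.mem_normalizer_iff.1 hbN.2 _).1
          ((Subgroup.mem_normalizer_iff.1 hg.2 _).1 a.2))
  -- a strongly embedded subgroup of the automorphism group itself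
  set π := QuotientGroup.mk' (innIn F E) with hπ
  obtain ⟨Y', hY', hN'⟩ := exists_proper_of_stronglyPEmbedded hE0
    (R.mapSurjective (QuotientGroup.mk'_surjective (innIn F E)))
  have hπi : Function.Injective π :=
    (MonoidHom.ker_eq_bot_iff π).1 (by rw [hπ, QuotientGroup.ker_mk', hinn])
  obtain ⟨hT, g, hgw, hgD⟩ := ThreeDim.three_dim hcard hexp' hab' R (Y := Y'.comap π)
    (fun h => hY' (by
      rw [← map_comap_eq_self_of_surjective (f := π) (QuotientGroup.mk'_surjective _) Y', h,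
        ← MonoidHom.range_eq_map, MonoidHom.range_eq_top.2 (QuotientGroup.mk'_surjective _)]))
    (fun Q hQ hQne => by
      refine le_trans ?_ (Subgroup.comap_mono (hN' (Q.map π) ?_ ?_))
      · intro n hn'
        refine mem_comap.2 (Subgroup.mem_normalizer_iff.2 fun q => ?_)
        obtain ⟨q, rfl⟩ := QuotientGroup.mk'_surjective _ q
        rw [← map_inv, ← map_mul, ← map_mul, mem_map_iff_mem hπi, mem_map_iff_mem hπi]
        exact Subgroup.mem_normalizer_iff.1 hn' q
      · exact Subgroup.map_mono hQ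
      · exact fun h => hQne ((Subgroup.map_eq_bot_iff_of_injective Q hπi).1 h))
    htR hcen htv
  -- the normalizer
  have hN4 : Nat.card N = p ^ 4 := by
    have hRc : Nat.card (R : Subgroup (F.autGroup E)) = p := by
      have e : (R : Subgroup (F.autGroup E)) = zpowers t :=
        le_antisymm (fun γ hγ => by
          obtain ⟨k, rfl⟩ := hT γ hγ
          exact zpow_mem (mem_zpowers t) k) (zpowers_le.2 htR)
      rw [e, Nat.card_zpowers, orderOf_eq_prime (Subtype.ext (by
        rw [SubmonoidClass.coe_pow, htv.pow_prime hexp', OneMemClass.coe_one]))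
        (fun h => htv.ne_one (by rw [h, OneMemClass.coe_one]))]
    have h1 := card_autInducedBy_mul (P := E) (K := S)
    rw [hcent, hcard, ← Nat.card_congr (subgroupOfEquivOfLe (autInducedBy_le_autGroup (F := F) hES)).toEquiv,
      ← hR, hRc] at h1
    rw [hN, ← h1, ← pow_succ']
  -- the second transvection
  set x1 := (g : MulAut E) w0 with hx1
  obtain ⟨a, ha⟩ := htv.move x1
  obtain ⟨a', ha'⟩ := ThreeDim.exists_inv a (htv.move_ne hexp' hgw ha)
  set w := w0 with hw
  obtain ⟨x, hx⟩ : ∃ x, x = x1 ^ a' := ⟨_, rfl⟩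
  have hxD : x ∉ D := fun h => hgw (by
    have h1 := zpow_mem h a
    rwa [hx, ← zpow_mul, mul_comm, ThreeDim.zpow_of_dvd hexp' ha', zpow_one] at h1)
  have htxw : (t : MulAut E) x = x * w := by
    rw [hx, map_zpow, ha, (show Commute x1 _ from hab' _ _).mul_zpow, ← zpow_mul,
      ThreeDim.zpow_of_dvd hexp' ha', zpow_one]
  have hsv := htv.conj (g : MulAut E)
  obtain ⟨e, he⟩ := hsv.move w
  obtain ⟨a2, ha2⟩ := ThreeDim.exists_inv ((e : ℤ)) (hsv.move_ne hexp' hgD he)
  set s : F.autGroup E := (g * t * g⁻¹) ^ (a2 * a') with hs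
  set Dg := D.map (g : MulAut E).toMonoidHom
  have hsval : ∀ z k, ((g : MulAut E) * t * (g : MulAut E)⁻¹) z = z * x1 ^ k →
      (s : MulAut E) z = z * x1 ^ (k * (a2 * a')) := fun z k hz => by
    rw [hs, SubgroupClass.coe_zpow]
    exact hsv.zpow_apply hz _
  have hswx : (s : MulAut E) w = w * x := by
    rw [hsval w e he, hx, ThreeDim.zpow_of_dvd hexp'
      (show (p : ℤ) ∣ e * (a2 * a') - a' by
        rw [show e * (a2 * a') - a' = a' * (e * a2 - 1) by ring]; exact ha2.mul_left a') x1]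
  have hsfix : ∀ z ∈ Dg, (s : MulAut E) z = z := fun z hz => by
    rw [hsval z 0 (by rw [(hsv.fix z).1 hz, zpow_zero, mul_one]), zero_mul, zpow_zero, mul_one]
  obtain ⟨c, hc1, hcD, hcDg⟩ : ∃ c, c ≠ 1 ∧ c ∈ D ∧ c ∈ Dg := by
    by_contra! h
    have hbot : D ⊓ Dg = ⊥ := (eq_bot_iff_forall _).2 fun z hz =>
      by_contra fun hne => h z hne hz.1 hz.2
    have h1 := Subgroup.index_inf_le (H := D) (K := Dg)
    rw [hbot, index_bot, hcard, hDi, hsv.index, ← pow_two, Nat.pow_le_pow_iff_right hpp.one_lt] at h1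
    omega
  have hcw : c ∉ zpowers w := fun h => by
    obtain ⟨i, hi⟩ := mem_zpowers_iff.1 h
    by_cases hdiv : (p : ℤ) ∣ i
    · exact hc1 (by rw [← hi, ThreeDim.zpow_of_dvd hexp' (b := 0) (by simpa using hdiv), zpow_zero])
    · obtain ⟨m, hm⟩ := ThreeDim.exists_inv i hdiv
      have h2 := zpow_mem (hi.symm ▸ hcDg : w ^ i ∈ Dg) m
      rw [← zpow_mul, ThreeDim.zpow_of_dvd hexp' hm, zpow_one] at h2
      exact hgD h2
  have hxDg : x ∈ Dg := hx ▸ zpow_mem hsv.mem a'
  have htfix : ∀ z ∈ D, (t : MulAut E) z = z := hfix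
  have hDgen : ∀ γ ∈ (R : Subgroup (F.autGroup E)), ∀ z ∈ D, (γ : MulAut E) z = z := fun γ hγ z hz => by
    obtain ⟨k, rfl⟩ := hT γ hγ
    rw [SubgroupClass.coe_zpow, htv.zpow_apply (k := 0) (by rw [hfix z hz, zpow_zero, mul_one]),
      zero_mul, zpow_zero, mul_one]
  refine ⟨hN4, b, x, w, c, D0, hbN, hbE, hD0E, hD0c, hw0D, fun h => hw0ne (Subtype.ext h), hcD,
    fun h => ?_, x.2, hxD, ?_, fun n hn' d hd => ?_, fun k k' hkk => ?_⟩
  · obtain ⟨i, hi⟩ := mem_zpowers_iff.1 h
    exact hcw (mem_zpowers_iff.2 ⟨i, Subtype.ext (by rw [SubgroupClass.coe_zpow]; exact hi)⟩)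
  · rw [← hval t b htx, htxw, Subgroup.coe_mul]
  · obtain ⟨γ, hγ, hγx⟩ := hmk n hn'
    have h1 := congrArg Subtype.val (hDgen γ hγ ⟨d, hD0E hd⟩ hd)
    rw [hval γ n hγx] at h1
    exact mul_inv_eq_iff_eq_mul.1 h1
  · -- the torus element
    set h : F.autGroup E := s ^ (k' - 1) * t * s ^ (k - 1) * t ^ (-k') with hh
    have hts : ∀ (m : ℤ) (z : E) (i : ℤ), (t : MulAut E) z = z * w ^ i →
        ((t ^ m : F.autGroup E) : MulAut E) z = z * w ^ (i * m) := fun m z i hz => by
      rw [SubgroupClass.coe_zpow]; exact htv.zpow_apply hz m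
    have hss : ∀ (m : ℤ) (z : E) (i : ℤ), (s : MulAut E) z = z * x ^ i →
        ((s ^ m : F.autGroup E) : MulAut E) z = z * x ^ (i * m) := by
      intro m z i hz
      have hx' : (s : MulAut E) x = x := hsfix x hxDg
      rw [SubgroupClass.coe_zpow]
      induction m using Int.induction_on with
      | zero => simp
      | succ m ih =>
        rw [add_comm, zpow_add, zpow_one, MulAut.mul_apply, ih, map_mul, map_zpow, hz, hx', mul_assoc,
          ← zpow_add]
        congr 2
        ring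
      | pred m ih =>
        apply (s : MulAut E).injective
        rw [← MulAut.mul_apply, ← zpow_one_add, show (1 : ℤ) + (-(m : ℤ) - 1) = -(m : ℤ) by ring, ih,
          map_mul, map_zpow, hz, hx', mul_assoc, ← zpow_add]
        congr 2
        ring
    have ht1 : (t : MulAut E) x = x * w ^ (1 : ℤ) := by rw [zpow_one, htxw]
    have ht2 : (t : MulAut E) w = w * w ^ (0 : ℤ) := by rw [hfix w hw0D, zpow_zero, mul_one]
    have ht3 : (t : MulAut E) c = c * w ^ (0 : ℤ) := by rw [hfix c hcD, zpow_zero, mul_one]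
    have hs1 : (s : MulAut E) x = x * x ^ (0 : ℤ) := by
      rw [hsfix x hxDg, zpow_zero, mul_one]
    have hs2 : (s : MulAut E) w = w * x ^ (1 : ℤ) := by rw [zpow_one, hswx]
    have hs3 : (s : MulAut E) c = c * x ^ (0 : ℤ) := by rw [hsfix c hcDg, zpow_zero, mul_one]
    have hP := hab'
    letI : CommGroup E := { (inferInstance : Group E) with mul_comm := hab' }
    have hxs : (s : MulAut E) x = x := hsfix x hxDg
    have happ : ∀ z, (h : MulAut E) z = ((s ^ (k' - 1) : F.autGroup E) : MulAut E) ((t : MulAut E)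
        (((s ^ (k - 1) : F.autGroup E) : MulAut E) (((t ^ (-k') : F.autGroup E) : MulAut E) z))) :=
      fun z => rfl
    have hsw : ∀ m : ℤ, ((s ^ m : F.autGroup E) : MulAut E) w = w * x ^ m := fun m => by
      rw [hss m w 1 hs2, one_mul]
    have hsx : ∀ m : ℤ, ((s ^ m : F.autGroup E) : MulAut E) x = x := fun m => by
      rw [hss m x 0 hs1, zero_mul, zpow_zero, mul_one]
    have htw : (t : MulAut E) w = w := hfix w hw0D
    have hhw : (h : MulAut E) w = w ^ k := by
      have h2 : (t : MulAut E) (w * x ^ (k - 1)) = w ^ k * x ^ (k - 1) := by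
        rw [map_mul, map_zpow, htw, htxw, mul_zpow, mul_left_comm, ← zpow_one_add,
          show 1 + (k - 1) = k by ring, mul_comm]
      rw [happ, hts _ _ _ ht2, zero_mul, zpow_zero, mul_one, hsw, h2, map_mul, map_zpow, map_zpow,
        hsw, hsx, mul_zpow, ← zpow_mul, mul_assoc, ← zpow_add,
        ThreeDim.zpow_of_dvd hexp' (b := 0)
          (show (p : ℤ) ∣ (k' - 1) * k + (k - 1) - 0 by
            rw [show (k' - 1) * k + (k - 1) - 0 = k * k' - 1 by ring]; exact hkk) x,
        zpow_zero, mul_one]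
    have hhc : (h : MulAut E) c = c := by
      rw [happ, hts _ _ _ ht3, zero_mul, zpow_zero, mul_one, hss _ _ _ hs3, zero_mul, zpow_zero,
        mul_one, hfix c hcD, hss _ _ _ hs3, zero_mul, zpow_zero, mul_one]
    have hhx : (h : MulAut E) x = x ^ k' := by
      have h1 : ((s ^ (k - 1) : F.autGroup E) : MulAut E) (x * w ^ (-k')) = x ^ k' * w ^ (-k') := by
        rw [map_mul, map_zpow, hsx, hsw, mul_zpow, mul_left_comm, ← zpow_mul, ← zpow_one_add, mul_comm]
        congr 1
        refine ThreeDim.zpow_of_dvd hexp' ?_ x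
        rw [show 1 + (k - 1) * -k' - k' = -(k * k' - 1) by ring]
        exact hkk.neg_right
      have h2 : (t : MulAut E) (x ^ k' * w ^ (-k')) = x ^ k' := by
        rw [map_mul, map_zpow, map_zpow, htw, htxw, mul_zpow, mul_assoc, ← zpow_add, add_neg_cancel,
          zpow_zero, mul_one]
      rw [happ, hts _ _ _ ht1, one_mul, h1, h2, map_zpow, hsx]
    have hconj : (h : MulAut E) * t * (h : MulAut E)⁻¹ = (t : MulAut E) ^ (k * k) := by
      rw [mul_inv_eq_iff_eq_mul]
      refine cube_ext hcard hexp' hab' hDi hxD hw0D hw0ne hcD hcw ?_ ?_ ?_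
      · rw [MulAut.mul_apply, MulAut.mul_apply, htxw, map_mul, hhx, hhw, map_zpow,
          htv.zpow_apply ht1, one_mul, (show Commute x (w ^ (k * k)) from hab' _ _).mul_zpow, ← zpow_mul]
        congr 1
        exact ThreeDim.zpow_of_dvd hexp' (by
          rw [show k - k * k * k' = -(k * (k * k' - 1)) by ring]; exact (hkk.mul_left k).neg_right) w
      · rw [MulAut.mul_apply, MulAut.mul_apply, hfix w hw0D, hhw, map_zpow, htv.zpow_apply ht2,
          zero_mul, zpow_zero, mul_one]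
      · rw [MulAut.mul_apply, MulAut.mul_apply, hfix c hcD, hhc, htv.zpow_apply ht3, zero_mul,
          zpow_zero, mul_one]
    -- extend to the normalizer
    have hiso : Iso F E E (apl (h : MulAut E)) := iso_apl hES h.2
    obtain ⟨f, hf, hfx⟩ := (isReceptive_iff.1 (receptive_of_fullyNormalized hS hF hfn)).2 E _ hiso
    have hle : N ≤ nPhi S E (apl (h : MulAut E)) := fun n hn' => by
      obtain ⟨γ, hγ, hγx⟩ := hmk n hn'
      obtain ⟨i, rfl⟩ := hT γ hγ
      obtain ⟨n2, hn2, hn2x⟩ := hof _ (zpow_mem htR (k * k * i))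
      refine ⟨hn'.1, hn'.2, n2, hn2.1, fun z hz => ?_⟩
      rw [← hn2x _ (apl_mem _ hz), ← hγx z hz, ← apl_mul _ _ hz, ← apl_mul _ _ hz]
      congr 1
      rw [SubgroupClass.coe_zpow, SubgroupClass.coe_zpow, zpow_mul, ← hconj, conj_zpow, inv_mul_cancel_right]
    have hfN := hf.mono hle
    have hfE : ∀ z ∈ E, f z ∈ E := fun z hz => hfx z hz ▸ apl_mem _ hz
    have hfiso : Iso F E E f := hiso.congr hfx
    have hfm : ∀ z ∈ N, f z ∈ N := fun z hz => hfN.mem_normalizerIn hEN hfiso hz hz.2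
    refine ⟨f, ⟨hfN, fun y => ⟨fun hy => hfN.surj_of_card hNS hfm le_rfl hy,
      fun ⟨z, hz, hzy⟩ => hzy ▸ hfm z hz⟩⟩, hfE, ?_, ?_, ?_, ?_⟩
    · rw [hfx x x.2, apl_coe, hhx, SubgroupClass.coe_zpow]
    · rw [hfx w w.2, apl_coe, hhw, SubgroupClass.coe_zpow]
    · rw [hfx c c.2, apl_coe, hhc]
    · refine centric_self hc ⟨S.mul_mem (S.inv_mem (S.zpow_mem hbN.1 _)) (hfm b hbN).1,
        mem_centralizer_iff.2 fun z hz => ?_⟩
      obtain ⟨u, hu, rfl⟩ := hfiso.exists_eq hz
      -- conjugation by `f b` agrees with conjugation by the power of `b`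
      have hpow : ∀ (i : ℤ) (a : E),
          ((((t : MulAut E) ^ i) a : E) : Ω) = b ^ i * a * (b ^ i)⁻¹ := by
        intro i
        induction i using Int.induction_on with
        | zero => intro a; simp
        | succ i ih =>
          intro a
          rw [zpow_add_one, MulAut.mul_apply, ih, hval t b htx, zpow_add_one, mul_inv_rev]
          group
        | pred i ih =>
          intro a
          obtain ⟨a, rfl⟩ := (t : MulAut E).surjective a
          rw [← MulAut.mul_apply, ← zpow_add_one, sub_add_cancel, ih, hval t b htx, zpow_sub_one,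
            mul_inv_rev, inv_inv]
          group
      have h1 : f b * f u * (f b)⁻¹ = b ^ (k * k) * f u * (b ^ (k * k))⁻¹ := by
        rw [← hfN.map_conj hbN (hEN hu), hfx _ ((Subgroup.mem_normalizer_iff.1 hbN.2 u).1 hu),
          hfx u hu, ← htx u hu, ← apl_mul _ _ hu]
        rw [show (h : MulAut E) * t = (t : MulAut E) ^ (k * k) * h from mul_inv_eq_iff_eq_mul.1 hconj,
          apl_mul _ _ hu, apl_apply _ (apl_mem _ hu), hpow]
      calc f u * ((b ^ (k * k))⁻¹ * f b)
          = (b ^ (k * k))⁻¹ * (b ^ (k * k) * f u * (b ^ (k * k))⁻¹) * f b := by group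
        _ = (b ^ (k * k))⁻¹ * (f b * f u * (f b)⁻¹) * f b := by rw [h1]
        _ = _ := by group

end Cfsg.Agent.FusSys
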