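import Cfsg.Agent.FusSys.EssentialCube

/-!
Groups of order `p ^ 4` for the classification of essential subgroups of that order.
-/

set_option autoImplicit false

open scoped commutatorElement

namespace Cfsg.Agent.FusSys.Four

open Cfsg Subgroup

universe u

variable {R : Type u} [Group R] [Finite R] {p : ℕ} [Fact p.Prime]

/-- A proper inclusion in a `p`-group multiplies the order by at least `p`. -/
theorem card_step (hR : IsPGroup p R) {A B : Subgroup R} (h : A < B) :
    Nat.card A * p ≤ Nat.card B := by
  obtain ⟨i, hi⟩ := IsPGroup.iff_card.1 (hR.to_subgroup A)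
  obtain ⟨j, hj⟩ := IsPGroup.iff_card.1 (hR.to_subgroup B)
  have hlt : Nat.card A < Nat.card B :=
    lt_of_le_of_ne (card_le_of_le h.le) fun e => h.ne (eq_of_le_of_card_ge h.le e.ge)
  rw [hi, hj] at hlt ⊢
  rw [← pow_succ]
  exact Nat.pow_le_pow_right (Fact.out : p.Prime).pos
    ((Nat.pow_lt_pow_iff_right (Fact.out : p.Prime).one_lt).1 hlt)

omit [Fact p.Prime] in
theorem relIndex_le {A B : Subgroup R} (h : A ≤ B) (hc : Nat.card B ≤ Nat.card A * p) :
    A.relIndex B ≤ p := by
  refine Nat.le_of_mul_le_mul_left ?_ (Nat.card_pos (α := A))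
  have := relIndex_mul_relIndex ⊥ A B bot_le h
  rw [relIndex_bot_left, relIndex_bot_left] at this
  rwa [this]

/-- An element outside the centre commutes only with its coset multiples in a group of central index `p ^ 2`. -/
theorem not_commute (hcard : Nat.card R = p ^ 4) (hZ : Nat.card (center R) = p ^ 2) {g h : R}
    (hg : g ∉ center R) (hh : h ∉ center R ⊔ zpowers g) : g * h ≠ h * g := by
  intro e
  have hR : IsPGroup p R := IsPGroup.of_card hcard
  have h1 : center R ⊔ zpowers g < centralizer ({g} : Set R) := by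
    refine lt_of_le_of_ne (sup_le (center_le_centralizer _) (zpowers_le.2
      (mem_centralizer_singleton_iff.2 rfl))) fun he => hh (he ▸ mem_centralizer_singleton_iff.2 e.symm)
  have h2 : center R < center R ⊔ zpowers g :=
    lt_of_le_of_ne le_sup_left fun he => hg (he ▸ (le_sup_right : zpowers g ≤ _) (mem_zpowers g))
  have h3 := card_step hR h1
  have h4 := card_step hR h2
  have h5 : Nat.card R ≤ Nat.card (centralizer ({g} : Set R)) := by
    rw [hcard]
    calc p ^ 4 = Nat.card (center R) * p * p := by rw [hZ]; ring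
      _ ≤ _ := (Nat.mul_le_mul_right p h4).trans h3
  refine hg (mem_center_iff.2 fun x => mem_centralizer_singleton_iff.1 ?_)
  rw [eq_top_of_le_card _ h5]
  exact mem_top x

theorem exists_pair (hcard : Nat.card R = p ^ 4) (hZ : Nat.card (center R) = p ^ 2) :
    ∃ a b : R, a ∉ center R ∧ b ∉ center R ⊔ zpowers a ∧ center R ⊔ zpowers a ⊔ zpowers b = ⊤ := by
  have hR : IsPGroup p R := IsPGroup.of_card hcard
  have hp : p.Prime := Fact.out
  have hlt : ∀ i, i < 4 → p ^ i < p ^ 4 := fun i hi => Nat.pow_lt_pow_right hp.one_lt hi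
  obtain ⟨a, ha⟩ : ∃ a, a ∉ center R := by
    by_contra! hall
    have := hlt 2 (by norm_num)
    rw [← hZ, ← hcard, (eq_top_iff' _).2 hall, card_top] at this
    exact lt_irrefl _ this
  have hnt : center R ⊔ zpowers a ≠ ⊤ := by
    intro he
    have : centralizer ({a} : Set R) = ⊤ := eq_top_iff.2 (he ▸ sup_le (center_le_centralizer _)
      (zpowers_le.2 (mem_centralizer_singleton_iff.2 rfl)))
    exact ha (mem_center_iff.2 fun x => mem_centralizer_singleton_iff.1 (this ▸ mem_top x))
  obtain ⟨b, -, hb⟩ := SetLike.exists_of_lt (lt_top_iff_ne_top.2 hnt)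
  refine ⟨a, b, ha, hb, eq_top_of_le_card _ ?_⟩
  have h2 := card_step hR (lt_of_le_of_ne le_sup_left
    fun he => ha (he ▸ (le_sup_right : zpowers a ≤ _) (mem_zpowers a)) : center R < center R ⊔ zpowers a)
  have h1 := card_step hR (lt_of_le_of_ne le_sup_left
    fun he => hb (he ▸ (le_sup_right : zpowers b ≤ _) (mem_zpowers b)) :
      center R ⊔ zpowers a < center R ⊔ zpowers a ⊔ zpowers b)
  calc Nat.card R = Nat.card (center R) * p * p := by rw [hZ, hcard]; ring
    _ ≤ _ := (Nat.mul_le_mul_right p h2).trans h1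

/-- With a centre of order `p ^ 2` the derived subgroup has order `p`. -/
theorem commutator_shape (hcard : Nat.card R = p ^ 4) (hZ : Nat.card (center R) = p ^ 2) :
    _root_.commutator R ≤ center R ∧ Nat.card (_root_.commutator R) = p ∧
      ∀ x : R, x ^ p ∈ center R := by
  have hp : p.Prime := Fact.out
  have hq : Nat.card (R ⧸ center R) = p ^ 2 := by
    have h := (center R).card_mul_index
    rw [hZ, hcard, index_eq_card] at h
    exact Nat.eq_of_mul_eq_mul_left (pow_pos hp.pos 2) (h.trans (by ring))
  obtain ⟨a, b, ha, hb, htop⟩ := exists_pair hcard hZ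
  have hcle : _root_.commutator R ≤ center R := by
    haveI := IsPGroup.isMulCommutative_of_card_eq_prime_sq hq
    rw [_root_.commutator_def, commutator_le]
    intro a _ b _
    rw [← QuotientGroup.eq_one_iff, ← QuotientGroup.mk'_apply, map_commutatorElement,
      commutatorElement_eq_one_iff_mul_comm]
    exact IsMulCommutative.is_comm.comm _ _
  have hpow : ∀ x : R, x ^ p ∈ center R := by
    intro x
    by_contra hne
    obtain ⟨i, hi2, hi⟩ := (Nat.dvd_prime_pow hp).1 (hq ▸ orderOf_dvd_natCard (x : R ⧸ center R))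
    rcases (by omega : i ≤ 1 ∨ i = 2) with h1 | rfl
    · refine hne ((QuotientGroup.eq_one_iff _).1 ?_)
      rw [QuotientGroup.mk_pow]
      exact orderOf_dvd_iff_pow_eq_one.1 (hi.dvd.trans ((pow_dvd_pow p h1).trans (pow_one p).dvd))
    · haveI := isCyclic_of_orderOf_eq_card _ (hi.trans hq.symm)
      exact not_commute hcard hZ ha hb (commutative_of_cyclic_center_quotient
        (QuotientGroup.mk' (center R)) (by rw [QuotientGroup.ker_mk']) a b)
  set c := ⁅a, b⁆ with hc
  have hcZ : c ∈ center R := hcle (commutator_mem_commutator (mem_top a) (mem_top b))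
  haveI : (zpowers c).Normal := ⟨fun d hd v => by
    rw [mem_center_iff.1 (zpowers_le.2 hcZ hd) v, mul_inv_cancel_right]; exact hd⟩
  let π := QuotientGroup.mk' (zpowers c)
  have hπs := QuotientGroup.mk'_surjective (zpowers c)
  have hgen : ∀ q : R ⧸ zpowers c, (∀ z ∈ center R, q * π z = π z * q) → q * π a = π a * q →
      q * π b = π b * q → q ∈ center (R ⧸ zpowers c) := by
    intro q hz hqa hqb
    refine mem_center_iff.2 fun v => ?_
    obtain ⟨v, rfl⟩ := hπs v
    have hle : center R ⊔ zpowers a ⊔ zpowers b ≤ (centralizer ({q} : Set (R ⧸ zpowers c))).comap π := by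
      refine sup_le (sup_le (fun z h => ?_) (zpowers_le.2 ?_)) (zpowers_le.2 ?_) <;>
        rw [mem_comap, mem_centralizer_singleton_iff]
      exacts [(hz z h).symm, hqa.symm, hqb.symm]
    rw [htop] at hle
    exact mem_centralizer_singleton_iff.1 (hle (mem_top v))
  have hzc : ∀ z ∈ center R, π z ∈ center (R ⧸ zpowers c) := fun z hz => mem_center_iff.2 fun v => by
    obtain ⟨v, rfl⟩ := hπs v
    rw [← map_mul, ← map_mul, mem_center_iff.1 hz v]
  have hab : π a * π b = π b * π a := by
    rw [← commutatorElement_eq_one_iff_mul_comm, ← map_commutatorElement]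
    exact (QuotientGroup.eq_one_iff _).2 (mem_zpowers c)
  have ha' := hgen (π a) (fun z hz => mem_center_iff.1 (hzc z hz) _) rfl hab
  have hb' := hgen (π b) (fun z hz => mem_center_iff.1 (hzc z hz) _) hab.symm rfl
  have hle : center R ⊔ zpowers a ⊔ zpowers b ≤ (center (R ⧸ zpowers c)).comap π :=
    sup_le (sup_le (fun z hz => hzc z hz) (zpowers_le.2 ha')) (zpowers_le.2 hb')
  rw [htop] at hle
  have hN : _root_.commutator R = zpowers c := by
    refine le_antisymm ?_ (zpowers_le.2 (commutator_mem_commutator (mem_top a) (mem_top b)))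
    rw [_root_.commutator_def, commutator_le]
    intro g _ h _
    rw [← QuotientGroup.eq_one_iff, ← QuotientGroup.mk'_apply, map_commutatorElement,
      commutatorElement_eq_one_iff_mul_comm]
    exact mem_center_iff.1 (hle (mem_top h)) _
  refine ⟨hcle, ?_, hpow⟩
  rw [hN, Nat.card_zpowers]
  refine orderOf_eq_prime ?_ fun h => not_commute hcard hZ ha hb
    (commutatorElement_eq_one_iff_mul_comm.1 h)
  have h := Fusion.commutatorElement_zpow_left_of_le_center hcle a b (p : ℤ)
  rw [zpow_natCast, zpow_natCast] at h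
  rw [hc, ← h, commutatorElement_eq_one_iff_mul_comm]
  exact (mem_center_iff.1 (hpow a) b).symm

end Cfsg.Agent.FusSys.Four
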