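import Cfsg.Agent.FusSys.SmallCentral
import Cfsg.Agent.Fusion.Extraspecial

/-!
Saturated systems over a group `S = Q Z(S)` with `Q` extraspecial of index `p`.
-/

set_option autoImplicit false

open scoped commutatorElement

namespace Cfsg.Agent.FusSys.ExtraIndexP

open Cfsg Cfsg.FusionSystem Cfsg.Agent.FusSys Cfsg.Agent.FusSys.StrongExtra Cfsg.Agent.FusSys.SmallCentral

universe u

variable {Ω : Type u} [Group Ω] {S E : Subgroup Ω} {F : FusionSystem S} {p : ℕ} {z : Ω}

/-- The shape: commutators and `p`-th powers lie in the central subgroup of order `p` generated by `z`. -/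
structure Shape (p : ℕ) (S : Subgroup Ω) (z : Ω) : Prop where
  pgrp : IsPGroup p S
  z_mem : z ∈ zS S
  z_pow : z ^ p = 1
  z_ne : z ≠ 1
  br_mem : ∀ a ∈ S, ∀ b ∈ S, br a b ∈ Subgroup.zpowers z
  pow_mem : ∀ a ∈ S, a ^ p ∈ Subgroup.zpowers z

theorem Shape.zle (h : Shape p S z) : Subgroup.zpowers z ≤ zS S := Subgroup.zpowers_le.2 h.z_mem

theorem Shape.classTwo (h : Shape p S z) : ClassTwo S :=
  fun a ha b hb _ hc => (zS_comm (h.zle (h.br_mem a ha b hb)) hc).symm

theorem Shape.card_zp [Fact p.Prime] (h : Shape p S z) : Nat.card (Subgroup.zpowers z) = p := by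
  rw [Nat.card_zpowers, orderOf_eq_prime h.z_pow h.z_ne]

/-- A nontrivial element of the line generates it. -/
theorem gen_of_ne [Fact p.Prime] {v y : Ω} (hv : v ^ p = 1) (hy : y ∈ Subgroup.zpowers v) (hy1 : y ≠ 1) :
    Subgroup.zpowers y = Subgroup.zpowers v := by
  haveI : Finite (Subgroup.zpowers v) := Nat.finite_of_card_ne_zero (by
    rw [Nat.card_zpowers]
    exact (IsOfFinOrder.orderOf_pos (isOfFinOrder_iff_pow_eq_one.2 ⟨p, (Fact.out : p.Prime).pos, hv⟩)).ne')
  refine Subgroup.eq_of_le_of_card_ge (Subgroup.zpowers_le.2 hy) ?_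
  rw [Nat.card_zpowers, Nat.card_zpowers]
  have hyp : y ^ p = 1 := by
    obtain ⟨k, rfl⟩ := Subgroup.mem_zpowers_iff.1 hy
    rw [← zpow_natCast, ← zpow_mul, mul_comm, zpow_mul, zpow_natCast, hv, one_zpow]
  rw [orderOf_eq_prime hyp hy1]
  exact Nat.le_of_dvd (Fact.out : p.Prime).pos (orderOf_dvd_of_pow_eq_one hv)

/-- Commutation with a fixed element has kernel of index at most `p`. -/
theorem Shape.card_cent [Fact p.Prime] [Finite S] (h : Shape p S z) {A : Subgroup Ω} (hA : A ≤ S) {v : Ω}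
    (hv : v ∈ S) : Nat.card A ≤ p * Nat.card ↥(A ⊓ Subgroup.centralizer ({v} : Set Ω)) := by
  haveI := finite_of_le hA
  let φ : A →* Subgroup.zpowers z :=
    { toFun := fun a => ⟨br a v, h.br_mem a (hA a.2) v hv⟩
      map_one' := Subtype.ext (by simp [br])
      map_mul' := fun a b => Subtype.ext (br_mul_left h.classTwo (hA a.2) (hA b.2) hv) }
  have hk : φ.ker.map A.subtype ≤ A ⊓ Subgroup.centralizer ({v} : Set Ω) := by
    rintro - ⟨a, ha, rfl⟩
    exact ⟨a.2, Subgroup.mem_centralizer_singleton_iff.2 (br_eq_one.1 (congrArg Subtype.val ha))⟩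
  haveI : Finite ↥(A ⊓ Subgroup.centralizer ({v} : Set Ω)) := finite_of_le (inf_le_left.trans hA)
  have h1 := φ.ker.card_mul_index
  have h2 : φ.ker.index ≤ p := by
    haveI : Finite (Subgroup.zpowers z) := Nat.finite_of_card_ne_zero (by
      rw [h.card_zp]; exact (Fact.out : p.Prime).ne_zero)
    rw [Subgroup.index_ker]
    exact (Nat.le_of_dvd Nat.card_pos (Subgroup.card_subgroup_dvd_card _)).trans_eq h.card_zp
  calc Nat.card A = Nat.card φ.ker * φ.ker.index := h1.symm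
    _ ≤ Nat.card ↥(φ.ker.map A.subtype) * p := by
        rw [Subgroup.card_map_of_injective A.subtype_injective]; exact Nat.mul_le_mul_left _ h2
    _ ≤ _ := by rw [mul_comm p]; exact Nat.mul_le_mul_right p (Subgroup.card_le_of_le hk)

section Global

variable [Fact p.Prime] [Finite S] (h : Shape p S z) (hF : F.IsSaturated p) (hE : F.IsEssential p E)
include h hF hE

omit hF in
theorem zle_E : zS S ≤ E := fun c hc => centric_self hE.1 ⟨hc.1,
  Subgroup.mem_centralizer_iff.2 fun u hu => (zS_comm hc (hE.1.1 hu)).eq⟩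

omit hF in
theorem normal_E {s u : Ω} (hs : s ∈ S) (hu : u ∈ E) : s * u * s⁻¹ ∈ E := by
  rw [show s * u * s⁻¹ = br s u * u by rw [br]; group]
  exact E.mul_mem (zle_E h hE (h.zle (h.br_mem s hs u (hE.1.1 hu)))) hu

omit hF in
theorem mem_normalizer {s : Ω} (hs : s ∈ S) : s ∈ Subgroup.normalizer (E : Set Ω) :=
  Subgroup.mem_normalizer_iff.2 fun u => ⟨normal_E h hE hs, fun hu => by
    have := normal_E h hE (S.inv_mem hs) hu
    simpa [mul_assoc] using this⟩

/-- The line is moved by some automorphism of an essential subgroup. -/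
theorem not_invariant : ∃ g ∈ F.autGroup E, apl g z ∉ Subgroup.zpowers z := by
  have hp : p.Prime := Fact.out
  by_contra! hall
  haveI := finite_of_le hE.1.1
  have hzE : z ∈ E := zle_E h hE h.z_mem
  have hinv : ∀ α ∈ F.autGroup E, ∀ x ∈ Subgroup.zpowers z, apl α x ∈ Subgroup.zpowers z := by
    intro α hα x hx
    obtain ⟨k, rfl⟩ := Subgroup.mem_zpowers_iff.1 hx
    obtain ⟨m, hm⟩ := Subgroup.mem_zpowers_iff.1 (hall α hα)
    have e : (⟨z ^ k, E.zpow_mem hzE k⟩ : E) = ⟨z, hzE⟩ ^ k := rfl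
    rw [apl_apply α (E.zpow_mem hzE k), e, map_zpow, Subgroup.coe_zpow, ← apl_apply α hzE, ← hm]
    exact Subgroup.zpow_mem _ (Subgroup.zpow_mem _ (Subgroup.mem_zpowers z) m) k
  let C : ℕ → Subgroup Ω := fun i => if i = 0 then ⊥ else if i = 1 then Subgroup.zpowers z else E
  have hmono : Monotone C := monotone_nat_of_le_succ fun i => by
    match i with
    | 0 => exact bot_le
    | 1 => exact Subgroup.zpowers_le.2 hzE
    | i + 2 => exact le_rfl
  have hSE : S ≤ E := by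
    intro a ha
    refine mem_of_chain h.pgrp hE.1 (essential_radical h.pgrp hF hE) ha (mem_normalizer h hE ha)
      hmono (n := 2) le_rfl (fun α hα i hi x hx => ?_) (fun δ _ _ x hx hx0 => ?_) fun i hi x hx hxC => ?_
    · match i with
      | 0 =>
        show apl α x ∈ (⊥ : Subgroup Ω) ↔ x ∈ (⊥ : Subgroup Ω)
        rw [Subgroup.mem_bot, Subgroup.mem_bot]
        refine ⟨fun h1 => ?_, fun h1 => ?_⟩
        · rw [apl_apply α hx] at h1
          exact congrArg Subtype.val ((map_eq_one_iff α α.injective).1 (Subtype.ext h1 : α ⟨x, hx⟩ = 1))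
        · subst h1
          rw [apl_apply α hx, show (⟨1, hx⟩ : E) = 1 from rfl, map_one, Subgroup.coe_one]
      | 1 =>
        refine ⟨fun h1 => ?_, hinv α hα x⟩
        have := hinv α⁻¹ (Subgroup.inv_mem _ hα) _ h1
        rwa [apl_inv_apl α hx] at this
      | i + 2 => exact iff_of_true (apl_mem α hx) hx
    · have h1 : x = 1 := Subgroup.mem_bot.1 hx0
      subst h1
      rw [apl_apply δ hx, show (⟨1, hx⟩ : E) = 1 from rfl, map_one, Subgroup.coe_one]
    · match i with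
      | 0 =>
        show x⁻¹ * (a * x * a⁻¹) ∈ (⊥ : Subgroup Ω)
        rw [(zS_comm (h.zle hxC) ha).eq, mul_inv_cancel_right, inv_mul_cancel]
        exact one_mem _
      | 1 =>
        show x⁻¹ * (a * x * a⁻¹) ∈ Subgroup.zpowers z
        rw [show x⁻¹ * (a * x * a⁻¹) = br x⁻¹ a by rw [br]; group]
        exact h.br_mem _ (S.inv_mem (hE.1.1 hx)) _ ha
  rw [le_antisymm hE.1.1 hSE] at hE
  exact not_essential_top h.pgrp hF hE

theorem comm_E : ∀ u ∈ E, ∀ v ∈ E, Commute u v := by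
  intro u hu v hv
  by_contra hne
  obtain ⟨g, hg, hgz⟩ := not_invariant h hF hE
  have hbr : br u v ≠ 1 := fun e => hne (br_eq_one.1 e)
  have hbm := h.br_mem u (hE.1.1 hu) v (hE.1.1 hv)
  have hgen := gen_of_ne h.z_pow hbm hbr
  have hzb : z ∈ Subgroup.zpowers (br u v) := hgen ▸ Subgroup.mem_zpowers z
  obtain ⟨k, hk⟩ := Subgroup.mem_zpowers_iff.1 hzb
  refine hgz ?_
  have hb : br u v ∈ E := E.mul_mem (E.mul_mem (E.mul_mem hu hv) (E.inv_mem hu)) (E.inv_mem hv)
  have e : (⟨z, zle_E h hE h.z_mem⟩ : E) = ⁅(⟨u, hu⟩ : E), ⟨v, hv⟩⁆ ^ k := Subtype.ext hk.symm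
  rw [apl_apply g (zle_E h hE h.z_mem), e, map_zpow, map_commutatorElement, Subgroup.coe_zpow]
  exact Subgroup.zpow_mem _ (h.br_mem _ (hE.1.1 (g _).2) _ (hE.1.1 (g _).2)) k

theorem pow_E : ∀ u ∈ E, u ^ p = 1 := by
  intro u hu
  by_contra hne
  obtain ⟨g, hg, hgz⟩ := not_invariant h hF hE
  have hgen := gen_of_ne h.z_pow (h.pow_mem u (hE.1.1 hu)) hne
  have hzb : z ∈ Subgroup.zpowers (u ^ p) := hgen ▸ Subgroup.mem_zpowers z
  obtain ⟨k, hk⟩ := Subgroup.mem_zpowers_iff.1 hzb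
  refine hgz ?_
  have e : (⟨z, zle_E h hE h.z_mem⟩ : E) = ((⟨u, hu⟩ : E) ^ p) ^ k := Subtype.ext hk.symm
  rw [apl_apply g (zle_E h hE h.z_mem), e, map_zpow, map_pow, Subgroup.coe_zpow, Subgroup.coe_pow]
  exact Subgroup.zpow_mem _ (h.pow_mem _ (hE.1.1 (g _).2)) k

/-- An element of `E` is centralized by some element of `S` outside `E` once the centre has index above `p ^ 2`. -/
theorem exists_outside (hbig : p ^ 2 * Nat.card (zS S) < Nat.card S) {v : Ω} (hv : v ∈ E) :
    ∃ a ∈ S, a * v = v * a ∧ a ∉ E := by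
  have hES := hE.1.1
  haveI := finite_of_le hES
  by_contra! hall
  haveI : Finite ↥(zS S) := finite_of_le inf_le_left
  have h1 : Nat.card S ≤ p * Nat.card E := by
    refine (h.card_cent le_rfl (hES hv)).trans (Nat.mul_le_mul_left p ?_)
    exact Subgroup.card_le_of_le fun a ha => hall a ha.1 (Subgroup.mem_centralizer_singleton_iff.1 ha.2)
  have hne : E ≠ S := by
    intro e
    subst e
    exact not_essential_top h.pgrp hF hE
  obtain ⟨s, hs, hsE⟩ := SetLike.exists_of_lt (lt_of_le_of_ne hES hne)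
  set M := E ⊔ Subgroup.zpowers s with hM
  have hMS : M ≤ S := sup_le hES (Subgroup.zpowers_le.2 hs)
  haveI := finite_of_le hMS
  have hMeq : M = S := by
    obtain ⟨i, hi⟩ := IsPGroup.iff_card.1 (h.pgrp.to_le hES)
    obtain ⟨j, hj⟩ := IsPGroup.iff_card.1 (h.pgrp.to_le hMS)
    refine Subgroup.eq_of_le_of_card_ge hMS (h1.trans ?_)
    have hlt : Nat.card E < Nat.card M := lt_of_le_of_ne (Subgroup.card_le_of_le le_sup_left) fun e =>
      hsE (Subgroup.eq_of_le_of_card_ge (le_sup_left : E ≤ M) e.ge ▸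
        Subgroup.mem_sup_right (Subgroup.mem_zpowers s))
    rw [hi, hj, Nat.pow_lt_pow_iff_right (Fact.out : p.Prime).one_lt] at hlt
    rw [hi, hj, ← pow_succ']
    exact Nat.pow_le_pow_right (Fact.out : p.Prime).pos hlt
  have hcen : E ⊓ Subgroup.centralizer ({s} : Set Ω) ≤ zS S := by
    intro x hx
    have hle : M ≤ Subgroup.centralizer ({x} : Set Ω) := sup_le
      (fun e he => Subgroup.mem_centralizer_singleton_iff.2 (comm_E h hF hE e he x hx.1).eq)
      (Subgroup.zpowers_le.2 (Subgroup.mem_centralizer_singleton_iff.2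
        (Subgroup.mem_centralizer_singleton_iff.1 hx.2).symm))
    rw [hMeq] at hle
    exact ⟨hES hx.1, Subgroup.mem_centralizer_iff.2 fun g hg =>
      Subgroup.mem_centralizer_singleton_iff.1 (hle hg)⟩
  have h2 := (h.card_cent hES hs).trans (Nat.mul_le_mul_left p (Subgroup.card_le_of_le hcen))
  have := hbig.trans_le (h1.trans (Nat.mul_le_mul_left p h2))
  rw [← mul_assoc, ← pow_two] at this
  exact lt_irrefl _ this

omit hF in
theorem exists_conj_pow {a : Ω} (ha : a ∈ S) :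
    ∃ α ∈ autInducedBy S E, (∀ x ∈ E, apl α x = a * x * a⁻¹) ∧
      ∀ x ∈ E, x⁻¹ * apl α x ∈ Subgroup.zpowers z := by
  obtain ⟨α, hα, hαx⟩ := exists_mem_autInducedBy (P := E) ha (mem_normalizer h hE ha)
  refine ⟨α, hα, hαx, fun x hx => ?_⟩
  rw [hαx x hx, show x⁻¹ * (a * x * a⁻¹) = br x⁻¹ a by rw [br]; group]
  exact h.br_mem _ (S.inv_mem (hE.1.1 hx)) _ ha

omit h hF hE [Fact p.Prime] [Finite S] in
theorem apl_mul_pt (α : MulAut E) {x y : Ω} (hx : x ∈ E) (hy : y ∈ E) :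
    apl α (x * y) = apl α x * apl α y := by
  rw [apl_apply α hx, apl_apply α hy, apl_apply α (E.mul_mem hx hy)]
  exact congrArg Subtype.val (map_mul α ⟨x, hx⟩ ⟨y, hy⟩)

theorem no_essential (hbig : p ^ 2 * Nat.card (zS S) < Nat.card S) : False := by
  have hp : p.Prime := Fact.out
  have hES := hE.1.1
  haveI := finite_of_le hES
  haveI : Finite (MulAut E) := Finite.of_injective _ MulEquiv.toEquiv_injective
  obtain ⟨g, hg, hgz⟩ := not_invariant h hF hE
  have hzE : z ∈ E := zle_E h hE h.z_mem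
  set z' := apl g z with hz'
  set z'' := apl g⁻¹ z with hz''
  have hz'E : z' ∈ E := apl_mem g hzE
  have hz''E : z'' ∈ E := apl_mem _ hzE
  have hz'p : z' ^ p = 1 := pow_E h hF hE z' hz'E
  obtain ⟨R, hR⟩ := (fullyAutomized_of_fullyNormalized h.pgrp hF hE.2.1).2
  have hline : ∀ γ ∈ autInducedBy S E, ∀ x ∈ E, x⁻¹ * apl γ x ∈ Subgroup.zpowers z := by
    intro γ hγ x hx
    obtain ⟨a, ha, -, hax⟩ := mem_autInducedBy_iff.1 hγ
    rw [hax x hx, show x⁻¹ * (a * x * a⁻¹) = br x⁻¹ a by rw [br]; group]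
    exact h.br_mem _ (S.inv_mem (hES hx)) _ ha
  have hconj : ∀ (c : MulAut E) (γ : MulAut E), γ ∈ autInducedBy S E → ∀ x ∈ E,
      x⁻¹ * apl (c * γ * c⁻¹) x ∈ Subgroup.zpowers (apl c z) := by
    intro c γ hγ x hx
    have hy := apl_mem c⁻¹ hx
    obtain ⟨k, hk⟩ := Subgroup.mem_zpowers_iff.1 (hline γ hγ _ hy)
    rw [apl_mul _ _ hx, apl_mul _ _ hy,
      show apl γ (apl c⁻¹ x) = apl c⁻¹ x * z ^ k by rw [hk, mul_inv_cancel_left],
      apl_mul_pt c hy (E.zpow_mem hzE k), apl_apl_inv c hx, inv_mul_cancel_left]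
    refine Subgroup.mem_zpowers_iff.2 ⟨k, ?_⟩
    rw [apl_apply c hzE, apl_apply c (E.zpow_mem hzE k), ← Subgroup.coe_zpow, ← map_zpow]
    rfl
  have hz''z : z'' ∉ Subgroup.zpowers z := by
    intro hmem
    refine hgz ?_
    have hne : z'' ≠ 1 := by
      intro e
      refine h.z_ne ?_
      rw [← apl_apl_inv g hzE, show apl g⁻¹ z = 1 from e, apl_apply g E.one_mem,
        show (⟨1, E.one_mem⟩ : E) = 1 from rfl, map_one, Subgroup.coe_one]
    have hgen := gen_of_ne h.z_pow hmem hne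
    obtain ⟨k, hk⟩ := Subgroup.mem_zpowers_iff.1
      (hgen ▸ Subgroup.mem_zpowers z : z ∈ Subgroup.zpowers z'')
    have e : (⟨z'' ^ k, E.zpow_mem hz''E k⟩ : E) = ⟨z'', hz''E⟩ ^ k := rfl
    have h2 : apl g (z'' ^ k) = z ^ k := by
      rw [apl_apply g (E.zpow_mem hz''E k), e, map_zpow, Subgroup.coe_zpow, ← apl_apply g hz''E,
        hz'', apl_apl_inv g hzE]
    rw [hk] at h2
    show apl g z ∈ _
    rw [h2]
    exact Subgroup.zpow_mem _ (Subgroup.mem_zpowers z) k
  obtain ⟨a, ha, haz, haE⟩ := exists_outside h hF hE hbig hz'E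
  obtain ⟨b, hb, hbz, hbE⟩ := exists_outside h hF hE hbig hz''E
  obtain ⟨α, hα, hαx, hαl⟩ := exists_conj_pow h hE ha
  obtain ⟨β₀, hβ₀, hβ₀x, -⟩ := exists_conj_pow h hE hb
  set β := g * β₀ * g⁻¹ with hβ
  have hαF : α ∈ F.autGroup E := autInducedBy_le_autGroup hES hα
  have hβ₀F : β₀ ∈ F.autGroup E := autInducedBy_le_autGroup hES hβ₀
  have hβF : β ∈ F.autGroup E := mul_mem (mul_mem hg hβ₀F) (inv_mem hg)
  have hαz' : apl α z' = z' := by rw [hαx z' hz'E, haz, mul_inv_cancel_right]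
  have hαz : apl α z = z := by rw [hαx z hzE, (zS_comm h.z_mem ha).eq, mul_inv_cancel_right]
  have hβz : apl β z = z := by
    rw [hβ, apl_mul _ _ hzE, apl_mul _ _ hz''E, hβ₀x z'' hz''E, hbz, mul_inv_cancel_right,
      hz'', apl_apl_inv g hzE]
  have hβz' : apl β z' = z' := by
    have hb0 : apl β₀ z = z := by rw [hβ₀x z hzE, (zS_comm h.z_mem hb).eq, mul_inv_cancel_right]
    rw [hβ, hz', apl_mul _ _ hz'E, apl_mul _ _ (apl_mem _ hz'E), apl_inv_apl g hzE, hb0]
  have hpw : ∀ (γ : MulAut E) (v : Ω), v ∈ E → apl γ v = v → ∀ k : ℤ, apl γ (v ^ k) = v ^ k := by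
    intro γ v hv hfix k
    have e : (⟨v ^ k, E.zpow_mem hv k⟩ : E) = ⟨v, hv⟩ ^ k := rfl
    rw [apl_apply γ (E.zpow_mem hv k), e, map_zpow, Subgroup.coe_zpow, ← apl_apply γ hv, hfix]
  have hαβ : α * β = β * α := by
    refine apl_ext fun x hx => ?_
    obtain ⟨i, hi⟩ := Subgroup.mem_zpowers_iff.1 (hαl x hx)
    obtain ⟨j, hj⟩ := Subgroup.mem_zpowers_iff.1 (hconj g β₀ hβ₀ x hx)
    change z' ^ j = x⁻¹ * apl β x at hj
    have e1 : apl α x = x * z ^ i := by rw [hi, mul_inv_cancel_left]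
    have e2 : apl β x = x * z' ^ j := by rw [hj, mul_inv_cancel_left]
    rw [apl_mul α β hx, apl_mul β α hx, e2, e1, apl_mul_pt α hx (E.zpow_mem hz'E j),
      apl_mul_pt β hx (E.zpow_mem hzE i), e1, e2, hpw α z' hz'E hαz', hpw β z hzE hβz,
      mul_assoc, mul_assoc, (comm_E h hF hE _ (E.zpow_mem hzE i) _ (E.zpow_mem hz'E j)).eq]
  have hord : ∀ (γ : MulAut E) (v : Ω), v ∈ E → v ^ p = 1 → apl γ v = v →
      (∀ x ∈ E, x⁻¹ * apl γ x ∈ Subgroup.zpowers v) → γ ^ p = 1 := by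
    intro γ v hv hvp hfix hl
    refine apl_ext fun x hx => ?_
    obtain ⟨i, hi⟩ := Subgroup.mem_zpowers_iff.1 (hl x hx)
    have e1 : apl γ x = x * v ^ i := by rw [hi, mul_inv_cancel_left]
    have hit : ∀ n : ℕ, apl (γ ^ n) x = x * (v ^ i) ^ n := by
      intro n
      induction n with
      | zero => rw [pow_zero, apl_one hx, pow_zero, mul_one]
      | succ n ih =>
        rw [pow_succ', apl_mul _ _ hx, ih, apl_mul_pt γ hx (E.pow_mem (E.zpow_mem hv i) n), e1,
          ← zpow_natCast (v ^ i), ← zpow_mul, hpw γ v hv hfix, zpow_mul, zpow_natCast, mul_assoc,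
          ← pow_succ']
    rw [hit, apl_one hx, ← zpow_natCast, ← zpow_mul, mul_comm, zpow_mul, zpow_natCast, hvp, one_zpow,
      mul_one]
  have hαp : α ^ p = 1 := hord α z hzE h.z_pow hαz hαl
  have hβp : β ^ p = 1 := hord β z' hz'E hz'p hβz' (hconj g β₀ hβ₀)
  set α' : F.autGroup E := ⟨α, hαF⟩
  set β' : F.autGroup E := ⟨β, hβF⟩
  set K := Subgroup.closure ({α', β'} : Set (F.autGroup E)) with hK
  have hKp : IsPGroup p K := by
    have hpair : ∀ u ∈ ({α', β'} : Set (F.autGroup E)), ∀ v ∈ ({α', β'} : Set (F.autGroup E)),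
        u * v = v * u := by
      rintro u (rfl | rfl) v (rfl | rfl)
      exacts [rfl, Subtype.ext hαβ, Subtype.ext hαβ.symm, rfl]
    letI := Subgroup.closureCommGroupOfComm hpair
    intro k
    refine ⟨1, ?_⟩
    rw [pow_one]
    obtain ⟨k, hk⟩ := k
    induction hk using Subgroup.closure_induction with
    | mem x hx =>
      refine Subtype.ext (Subtype.ext ?_)
      rcases hx with rfl | rfl
      exacts [hαp, hβp]
    | one => exact one_pow p
    | mul x y hx hy ihx ihy =>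
      have e : (⟨x * y, mul_mem hx hy⟩ : Subgroup.closure ({α', β'} : Set (F.autGroup E))) =
          ⟨x, hx⟩ * ⟨y, hy⟩ := rfl
      rw [e, mul_pow, ihx, ihy, one_mul]
    | inv x hx ihx =>
      have e : (⟨x⁻¹, inv_mem hx⟩ : Subgroup.closure ({α', β'} : Set (F.autGroup E))) = ⟨x, hx⟩⁻¹ := rfl
      rw [e, inv_pow, ihx, inv_one]
  obtain ⟨T, hT⟩ := hKp.exists_le_sylow
  obtain ⟨c, hc⟩ := MulAction.exists_smul_eq (F.autGroup E) R T
  have hin : ∀ γ ∈ K, ∀ x ∈ E, x⁻¹ * apl (γ : MulAut E) x ∈ Subgroup.zpowers (apl (c : MulAut E) z) := by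
    intro γ hγ x hx
    have h1 : γ ∈ ((c • R : Sylow p (F.autGroup E)) : Subgroup (F.autGroup E)) := hc ▸ hT hγ
    rw [Sylow.coe_subgroup_smul, Subgroup.mem_pointwise_smul_iff_inv_smul_mem, MulAut.smul_def,
      MulAut.inv_apply] at h1
    rw [hR, Subgroup.mem_subgroupOf, MulAut.conj_symm_apply] at h1
    have h2 := hconj (c : MulAut E) _ h1 x hx
    rwa [Subgroup.coe_mul, Subgroup.coe_mul, Subgroup.coe_inv, ← mul_assoc, ← mul_assoc,
      mul_inv_cancel, one_mul, mul_inv_cancel_right] at h2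
  set w := apl (c : MulAut E) z with hw
  have hwp : w ^ p = 1 := pow_E h hF hE w (apl_mem _ hzE)
  have hnt : ∀ {d : Ω} {γ : MulAut E}, d ∈ S → d ∉ E → (∀ x ∈ E, apl γ x = d * x * d⁻¹) →
      ∃ x ∈ E, x⁻¹ * apl γ x ≠ 1 := by
    intro d γ hd hdE hγ
    by_contra! hall
    refine hdE (centric_self hE.1 ⟨hd, Subgroup.mem_centralizer_iff.2 fun x hx => ?_⟩)
    have h2 := inv_mul_eq_one.1 (hall x hx)
    rw [hγ x hx] at h2
    calc x * d = d * x * d⁻¹ * d := by rw [← h2]
      _ = d * x := by group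
  have hzw : Subgroup.zpowers z = Subgroup.zpowers w := by
    obtain ⟨x, hx, hne⟩ := hnt ha haE hαx
    rw [← gen_of_ne h.z_pow (hαl x hx) hne,
      gen_of_ne hwp (hin α' (Subgroup.subset_closure (Or.inl rfl)) x hx) hne]
  have hz'w : Subgroup.zpowers z' = Subgroup.zpowers w := by
    obtain ⟨y, hy, hne⟩ := hnt hb hbE hβ₀x
    set x := apl g y
    have hx : x ∈ E := apl_mem g hy
    have h1 : x⁻¹ * apl β x ≠ 1 := by
      intro e
      refine hne (inv_mul_eq_one.2 ?_)
      have e2 := (inv_mul_eq_one.1 e).symm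
      rw [hβ, apl_mul _ _ hx, apl_mul _ _ (apl_mem _ hx), apl_inv_apl g hy] at e2
      have e3 := congrArg (apl g⁻¹) e2
      rw [apl_inv_apl g (apl_mem _ hy), apl_inv_apl g hy] at e3
      exact e3.symm
    rw [← gen_of_ne hz'p (hconj g β₀ hβ₀ x hx) h1,
      gen_of_ne hwp (hin β' (Subgroup.subset_closure (Or.inr rfl)) x hx) h1]
  exact hgz (hzw.trans hz'w.symm ▸ Subgroup.mem_zpowers z')

end Global

theorem center_eq [Fact p.Prime] [Finite S] (hp : Odd p) (hS : IsPGroup p S) (Q : Subgroup Ω) (hQS : Q ≤ S)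
    (hQ : Cfsg.IsExtraspecial p ↥Q) (hQi : (Q.subgroupOf S).index = p)
    (hF : F.IsSaturated p) (hO : F.core = ⊥) :
    S ⊓ Subgroup.centralizer (S : Set Ω) = Q ⊓ Subgroup.centralizer (Q : Set Ω) := by
  have hpr : p.Prime := Fact.out
  haveI := finite_of_le hQS
  set Zq := Q ⊓ Subgroup.centralizer (Q : Set Ω) with hZq
  haveI : Finite Zq := finite_of_le (inf_le_left.trans hQS)
  have hmapZ : Zq = (Subgroup.center Q).map Q.subtype := by
    ext x
    constructor
    · rintro ⟨hx, hx'⟩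
      exact ⟨⟨x, hx⟩, Subgroup.mem_center_iff.2 fun g => Subtype.ext
        (Subgroup.mem_centralizer_iff.1 hx' g g.2), rfl⟩
    · rintro ⟨y, hy, rfl⟩
      exact ⟨y.2, Subgroup.mem_centralizer_iff.2 fun g hg =>
        congrArg Subtype.val (Subgroup.mem_center_iff.1 hy ⟨g, hg⟩)⟩
  have hZc : Nat.card Zq = p := by
    rw [hmapZ, Subgroup.card_map_of_injective Q.subtype_injective, hQ.2]
  have hidx : ∀ K : Subgroup Ω, Q ≤ K → K ≤ S → K = Q ∨ K = S := by
    intro K hQK hKS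
    have hle : Q.subgroupOf S ≤ K.subgroupOf S := fun x hx => hQK hx
    have h1 := Subgroup.relIndex_mul_index hle
    rw [hQi] at h1
    rcases hpr.eq_one_or_self_of_dvd _ (Dvd.intro_left _ h1) with h2 | h2
    · refine Or.inr (le_antisymm hKS ?_)
      exact Subgroup.subgroupOf_eq_top.1 (Subgroup.index_eq_one.1 h2)
    · refine Or.inl (le_antisymm ?_ hQK)
      rw [h2] at h1
      have h3 := Subgroup.relIndex_eq_one.1 (Nat.eq_of_mul_eq_mul_right hpr.pos
        (h1.trans (one_mul p).symm))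
      exact fun x hx => h3 (show (⟨x, hKS hx⟩ : S) ∈ K.subgroupOf S from hx)
  by_contra hne
  by_cases hsub : zS S ≤ Q
  · -- the centre inside `Q`
    refine hne (Subgroup.eq_of_le_of_card_ge (le_inf hsub ?_) ?_)
    · exact inf_le_right.trans (Subgroup.centralizer_le (fun x hx => hQS hx))
    · show Nat.card Zq ≤ Nat.card (zS S)
      haveI : Finite ↥(zS S) := finite_of_le inf_le_left
      haveI : Nontrivial S := by
        haveI : Nontrivial Q := by
          haveI : Nontrivial (Subgroup.center Q) := Finite.one_lt_card_iff_nontrivial.1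
            (hQ.2.symm ▸ hpr.one_lt)
          exact (Subgroup.subtype_injective (Subgroup.center Q)).nontrivial
        exact (Subgroup.inclusion_injective hQS).nontrivial
      haveI := hS.center_nontrivial
      rw [hZc, zS_map, Subgroup.card_map_of_injective S.subtype_injective]
      obtain ⟨i, -, hi⟩ := (Nat.dvd_prime_pow hpr).1
        ((IsPGroup.iff_card.1 hS).choose_spec ▸ Subgroup.card_subgroup_dvd_card (Subgroup.center S))
      have h1 : 1 < Nat.card (Subgroup.center S) := Finite.one_lt_card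
      rw [hi] at h1 ⊢
      exact Nat.le_self_pow (fun h => by simp [h] at h1) p
  obtain ⟨z₀, hz₀, hz₀Q⟩ := SetLike.not_le_iff_exists.1 hsub
  let K : Subgroup Ω :=
    { carrier := {s | ∃ q ∈ Q, ∃ c ∈ zS S, s = q * c}
      mul_mem' := by
        rintro _ _ ⟨q, hq, c, hc, rfl⟩ ⟨q', hq', c', hc', rfl⟩
        refine ⟨q * q', Q.mul_mem hq hq', c * c', (zS S).mul_mem hc hc', ?_⟩
        exact ((zS_comm hc (hQS hq')).symm).mul_mul_mul_comm q c'
      one_mem' := ⟨1, Q.one_mem, 1, (zS S).one_mem, (mul_one 1).symm⟩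
      inv_mem' := by
        rintro _ ⟨q, hq, c, hc, rfl⟩
        refine ⟨q⁻¹, Q.inv_mem hq, c⁻¹, (zS S).inv_mem hc, ?_⟩
        rw [mul_inv_rev]
        exact ((zS_comm ((zS S).inv_mem hc) (hQS (Q.inv_mem hq))).symm).eq }
  have hK : K = S := by
    refine (hidx K (fun q hq => ⟨q, hq, 1, one_mem _, (mul_one q).symm⟩) ?_).resolve_left fun e => hz₀Q ?_
    · rintro _ ⟨q, hq, c, hc, rfl⟩
      exact S.mul_mem (hQS hq) hc.1
    · rw [← e]
      exact ⟨1, Q.one_mem, z₀, hz₀, (one_mul z₀).symm⟩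
  have hdec : ∀ s ∈ S, ∃ q ∈ Q, ∃ c ∈ zS S, s = q * c := fun s hs => (hK.symm ▸ hs : s ∈ K)
  have hZqS : Zq ≤ zS S := fun x hx => ⟨hQS hx.1, Subgroup.mem_centralizer_iff.2 fun s hs => by
    obtain ⟨q, hq, c, hc, rfl⟩ := hdec s hs
    exact ((show Commute q x from Subgroup.mem_centralizer_iff.1 hx.2 q hq).mul_left
      (zS_comm hc (hQS hx.1)).symm).eq⟩
  have hbr : ∀ a ∈ S, ∀ b ∈ S, br a b ∈ Zq := by
    intro a ha b hb
    obtain ⟨q, hq, c, hc, rfl⟩ := hdec a ha
    obtain ⟨q', hq', c', hc', rfl⟩ := hdec b hb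
    have e : br (q * c) (q' * c') = br q q' := by
      have h1 : Commute q' c := zS_comm hc (hQS hq')
      have h2 : Commute q c' := zS_comm hc' (hQS hq)
      have h3 : Commute c c' := zS_comm hc' hc.1
      have hcom : (q * c) * (q' * c') * (q * c)⁻¹ = q * q' * q⁻¹ * c' := by
        rw [mul_inv_rev]
        calc q * c * (q' * c') * (c⁻¹ * q⁻¹) = q * (c * q') * (c' * c⁻¹) * q⁻¹ := by group
          _ = q * (q' * c) * (c⁻¹ * c') * q⁻¹ := by rw [h1.eq, h3.inv_left.eq]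
          _ = q * q' * (c' * q⁻¹) := by group
          _ = q * q' * q⁻¹ * c' := by rw [← h2.inv_left.eq]; group
      show (q * c) * (q' * c') * (q * c)⁻¹ * (q' * c')⁻¹ = _
      rw [hcom, br, mul_inv_rev]
      group
    rw [e, hmapZ]
    exact ⟨⁅(⟨q, hq⟩ : Q), ⟨q', hq'⟩⁆, Fusion.es_commutator_mem hQ _ _, by
      rw [Subgroup.coe_subtype, commutatorElement_def]; rfl⟩
  have hnorm : (Q.subgroupOf S).Normal := ⟨fun n hn s => by
    rw [Subgroup.mem_subgroupOf] at hn ⊢
    rw [Subgroup.coe_mul, Subgroup.coe_mul, Subgroup.coe_inv,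
      show (s : Ω) * n * (s : Ω)⁻¹ = br (s : Ω) n * n by rw [br]; group]
    exact Q.mul_mem (hbr _ s.2 _ n.2).1 hn⟩
  have hpow : ∀ a ∈ S, a ^ p ∈ Zq := by
    intro a ha
    have h1 := (Q.subgroupOf S).pow_index_mem ⟨a, ha⟩
    rw [hQi, Subgroup.mem_subgroupOf, Subgroup.coe_pow] at h1
    refine ⟨h1, ?_⟩
    obtain ⟨q, hq, c, hc, rfl⟩ := hdec a ha
    have e : (q * c) ^ p = q ^ p * c ^ p := (zS_comm hc (hQS hq) : Commute q c).mul_pow p
    rw [e]
    refine mul_mem ?_ (pow_mem ?_ p)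
    · refine Subgroup.mem_centralizer_iff.2 ?_
      intro g hg
      exact congrArg Subtype.val (Subgroup.mem_center_iff.1 (Fusion.es_pow_mem_center hQ ⟨q, hq⟩) ⟨g, hg⟩)
    · exact Subgroup.mem_centralizer_iff.2 fun g hg => (zS_comm hc (hQS hg)).eq
  obtain ⟨z, hzZ, hz1⟩ : ∃ z ∈ Zq, z ≠ 1 := by
    refine (Subgroup.bot_or_exists_ne_one Zq).resolve_left fun e => ?_
    rw [e, Subgroup.card_bot] at hZc
    exact hpr.ne_one hZc.symm
  have hzp : z ^ p = 1 := by
    have := congrArg Subtype.val (pow_card_eq_one' (x := (⟨z, hzZ⟩ : Zq)))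
    rw [hZc] at this
    exact this
  have hZz : Zq = Subgroup.zpowers z := by
    haveI := finite_of_le (inf_le_left.trans hQS : Zq ≤ S)
    refine (Subgroup.eq_of_le_of_card_ge (Subgroup.zpowers_le.2 hzZ) ?_).symm
    rw [hZc, Nat.card_zpowers, orderOf_eq_prime hzp hz1]
  have hsh : Shape p S z :=
    ⟨hS, hZqS hzZ, hzp, hz1, fun a ha b hb => hZz ▸ hbr a ha b hb, fun a ha => hZz ▸ hpow a ha⟩
  obtain ⟨q₁, hq₁, q₂, hq₂, hnc⟩ : ∃ a ∈ Q, ∃ b ∈ Q, br a b ≠ 1 := by
    by_contra! hall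
    have h1 : _root_.commutator Q = ⊥ := by
      rw [_root_.commutator_def, Subgroup.commutator_eq_bot_iff_le_centralizer]
      intro a _ b _
      exact Subtype.ext (br_eq_one.1 (hall b b.2 a a.2))
    have h2 := hQ.2
    rw [← hQ.1.2.2, h1, Subgroup.card_bot] at h2
    exact hpr.ne_one h2.symm
  have hess : ∃ E, F.IsEssential p E := by
    by_contra! hnone
    have hN : F.IsNormal S := (isNormal_iff_essential hS hF).2 fun P hP => by
      rcases hP with rfl | hP
      · exact ⟨le_rfl, fun α hα => invariant_of_apl fun x hx => iff_of_true (apl_mem α hx) hx⟩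
      · exact absurd hP (hnone P)
    have hle : S ≤ F.core := le_core hN
    rw [hO] at hle
    exact hnc (Subgroup.mem_bot.1 (hle (S.mul_mem (S.mul_mem (S.mul_mem (hQS hq₁) (hQS hq₂))
      (S.inv_mem (hQS hq₁))) (S.inv_mem (hQS hq₂)))))
  obtain ⟨E, hE⟩ := hess
  by_cases hbig : p ^ 2 * Nat.card (zS S) < Nat.card S
  · exact no_essential hsh hF hE hbig
  have hcardS : Nat.card S = p ^ 2 * Nat.card (zS S) := by
    refine le_antisymm (not_lt.1 hbig) ?_
    obtain ⟨n, hn⟩ := IsPGroup.iff_card.1 hS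
    obtain ⟨i, -, hi⟩ := (Nat.dvd_prime_pow hpr).1 (hn ▸ Subgroup.card_subgroup_dvd_card (Subgroup.center S))
    have h1 := (Subgroup.center S).card_mul_index
    rw [zS_map, Subgroup.card_map_of_injective S.subtype_injective, hi, hn]
    rw [hi, hn] at h1
    have h2 : i ≤ n := (Nat.pow_le_pow_iff_right hpr.one_lt).1 (h1 ▸ Nat.le_mul_of_pos_right _
      (Nat.pos_of_ne_zero Subgroup.index_ne_zero_of_finite))
    rw [← pow_add]
    refine Nat.pow_le_pow_right hpr.pos ?_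
    by_contra hlt
    have h3 : (Subgroup.center S).index = p ^ (n - i) :=
      Nat.eq_of_mul_eq_mul_left (pow_pos hpr.pos i) (by rw [h1, ← pow_add, Nat.add_sub_cancel' h2])
    haveI : IsCyclic (S ⧸ Subgroup.center S) := by
      rcases (by omega : n - i = 0 ∨ n - i = 1) with h4 | h4
      · haveI : Subsingleton (S ⧸ Subgroup.center S) := (Nat.card_eq_one_iff_unique.1
          (by rw [← Subgroup.index_eq_card, h3, h4, pow_zero])).1
        exact isCyclic_of_subsingleton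
      · exact isCyclic_of_prime_card (p := p) (by rw [← Subgroup.index_eq_card, h3, h4, pow_one])
    refine hnc (br_eq_one.2 ?_)
    exact congrArg Subtype.val (commutative_of_cyclic_center_quotient
      (QuotientGroup.mk' (Subgroup.center S)) (by rw [QuotientGroup.ker_mk'])
      (⟨q₁, hQS hq₁⟩ : S) ⟨q₂, hQS hq₂⟩)
  have hA : Amb p S :=
    ⟨hS, hcardS, fun a ha b hb => hsh.zle (hsh.br_mem a ha b hb), fun a ha => hsh.zle (hsh.pow_mem a ha),
      ⟨q₁, hQS hq₁, q₂, hQS hq₂, hnc⟩⟩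
  obtain ⟨hc, -⟩ := odd_case hA hF (hp.ne_two_of_dvd_nat dvd_rfl) hO ⟨E, hE⟩
  haveI : Finite ↥(zS S) := finite_of_le inf_le_left
  exact hne (Subgroup.eq_of_le_of_card_ge hZqS (by rw [hc, hZc])).symm

end Cfsg.Agent.FusSys.ExtraIndexP
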