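import Cfsg.Agent.FusSys.ExtraIndexP

/-!
No essential subgroup properly inside an extraspecial subgroup of index `p`: two commuting transvections with
different centres contradict strong `p`-embedding.
-/

set_option autoImplicit false

open scoped commutatorElement

namespace Cfsg.Agent.FusSys.ExtraInside

open Cfsg Cfsg.FusionSystem Cfsg.Agent.FusSys Cfsg.Agent.FusSys.StrongExtra Cfsg.Agent.FusSys.SmallCentral
open Cfsg.Agent.FusSys.ExtraIndexP

universe u

/-- Strong embedding in a quotient by the trivial subgroup. -/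
theorem exists_proper_pullback {X : Type*} [Group X] [Finite X] {p : ℕ} [Fact p.Prime] {N : Subgroup X}
    [N.Normal] (hN : N = ⊥) {E : Subgroup (X ⧸ N)} (h : IsStronglyPEmbedded p E) (T : Sylow p X) :
    ∃ Y : Subgroup X, Y ≠ ⊤ ∧
      (∀ Q : Subgroup X, Q ≤ T → Q ≠ ⊥ → Subgroup.normalizer (Q : Set X) ≤ Y) := by
  let π := QuotientGroup.mk' N
  have hπs : Function.Surjective π := QuotientGroup.mk'_surjective N
  have hπi : Function.Injective π :=
    (MonoidHom.ker_eq_bot_iff π).1 (by rw [QuotientGroup.ker_mk', hN])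
  obtain ⟨T', hT'⟩ := (T.2.map π).exists_le_sylow
  obtain ⟨Y, hY, hYn⟩ := exists_proper_of_stronglyPEmbedded h T'
  refine ⟨Y.comap π, fun e => hY ((Subgroup.eq_top_iff' Y).2 fun q => ?_), fun Q hQT hQ n hn => ?_⟩
  · obtain ⟨x, rfl⟩ := hπs q
    have hx : x ∈ Y.comap π := e ▸ Subgroup.mem_top x
    exact hx
  · exact hYn (Q.map π) ((Subgroup.map_mono hQT).trans hT')
      (fun e => hQ ((Subgroup.map_eq_bot_iff_of_injective Q hπi).1 e))
      (Subgroup.le_normalizer_map π ⟨n, hn, rfl⟩)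

variable {Ω : Type u} [Group Ω] {S Q E : Subgroup Ω} {F : FusionSystem S} {p : ℕ} {z : Ω}
variable [Fact p.Prime] [Finite S]

/-- The hypotheses: an essential subgroup inside a subgroup `Q` of shape `z` with `z` central in `S`. -/
structure Inside (F : FusionSystem S) (p : ℕ) (Q E : Subgroup Ω) (z : Ω) : Prop where
  pgrp : IsPGroup p S
  sat : F.IsSaturated p
  shape : Shape p Q z
  zcen : z ∈ zS S
  le : Q ≤ S
  EQ : E ≤ Q
  ess : F.IsEssential p E
  proper : E ≠ Q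

variable (h : Inside F p Q E z)
include h

omit [Fact p.Prime] [Finite S] in
theorem zE : z ∈ E := centric_self h.ess.1 ⟨h.zcen.1,
  Subgroup.mem_centralizer_iff.2 fun u hu => (zS_comm h.zcen (h.ess.1.1 hu)).eq⟩

omit [Fact p.Prime] [Finite S] in
theorem normalizes {a : Ω} (ha : a ∈ Q) : a ∈ Subgroup.normalizer (E : Set Ω) := by
  have key : ∀ b ∈ Q, ∀ u ∈ E, b * u * b⁻¹ ∈ E := fun b hb u hu => by
    rw [show b * u * b⁻¹ = br b u * u by rw [br]; group]
    exact E.mul_mem (Subgroup.zpowers_le.2 (zE h) (h.shape.br_mem b hb u (h.EQ hu))) hu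
  refine Subgroup.mem_normalizer_iff.2 fun u => ⟨key a ha u, fun hu => ?_⟩
  have := key a⁻¹ (Q.inv_mem ha) _ hu
  simpa [mul_assoc] using this

omit [Fact p.Prime] [Finite S] in
theorem line_of_conj {a : Ω} (ha : a ∈ Q) {x : Ω} (hx : x ∈ E) :
    x⁻¹ * (a * x * a⁻¹) ∈ Subgroup.zpowers z := by
  rw [show x⁻¹ * (a * x * a⁻¹) = br x⁻¹ a by rw [br]; group]
  exact h.shape.br_mem _ (Q.inv_mem (h.EQ hx)) _ ha

/-- The line is moved. -/
theorem not_invariant : ∃ g ∈ F.autGroup E, apl g z ∉ Subgroup.zpowers z := by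
  by_contra! hall
  haveI := finite_of_le h.ess.1.1
  have hzE := zE h
  have hinv : ∀ α ∈ F.autGroup E, ∀ x ∈ Subgroup.zpowers z, apl α x ∈ Subgroup.zpowers z := by
    intro α hα x hx
    obtain ⟨k, rfl⟩ := Subgroup.mem_zpowers_iff.1 hx
    obtain ⟨m, hm⟩ := Subgroup.mem_zpowers_iff.1 (hall α hα)
    have e : (⟨z ^ k, E.zpow_mem hzE k⟩ : E) = ⟨z, hzE⟩ ^ k := rfl
    rw [apl_apply α (E.zpow_mem hzE k), e, map_zpow, Subgroup.coe_zpow, ← apl_apply α hzE, ← hm]
    exact Subgroup.zpow_mem _ (Subgroup.zpow_mem _ (Subgroup.mem_zpowers z) m) k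
  let C : ℕ → Subgroup Ω := fun i => if i = 0 then ⊥ else if i = 1 then Subgroup.zpowers z else E
  have hmono : Monotone C := monotone_nat_of_le_succ fun i => by
    match i with
    | 0 => exact bot_le
    | 1 => exact Subgroup.zpowers_le.2 hzE
    | i + 2 => exact le_rfl
  refine h.proper (le_antisymm h.EQ fun a ha => ?_)
  refine mem_of_chain h.pgrp h.ess.1 (essential_radical h.pgrp h.sat h.ess) (h.le ha) (normalizes h ha)
    hmono (n := 2) le_rfl (fun α hα i hi x hx => ?_) (fun δ _ _ x hx hx0 => ?_) fun i hi x hx hxC => ?_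
  · match i with
    | 0 =>
      show apl α x ∈ (⊥ : Subgroup Ω) ↔ x ∈ (⊥ : Subgroup Ω)
      rw [Subgroup.mem_bot, Subgroup.mem_bot]
      refine ⟨fun h1 => ?_, fun h1 => ?_⟩
      · rw [apl_apply α hx] at h1
        exact congrArg Subtype.val ((map_eq_one_iff α α.injective).1 (Subtype.ext h1 : α ⟨x, hx⟩ = 1))
      · subst h1
        rw [apl_apply α hx, show (⟨1, hx⟩ : E) = 1 from rfl, map_one, Subgroup.coe_one]
    | 1 =>
      refine ⟨fun h1 => ?_, hinv α hα x⟩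
      have := hinv α⁻¹ (Subgroup.inv_mem _ hα) _ h1
      rwa [apl_inv_apl α hx] at this
    | i + 2 => exact iff_of_true (apl_mem α hx) hx
  · have h1 : x = 1 := Subgroup.mem_bot.1 hx0
    subst h1
    rw [apl_apply δ hx, show (⟨1, hx⟩ : E) = 1 from rfl, map_one, Subgroup.coe_one]
  · match i with
    | 0 =>
      show x⁻¹ * (a * x * a⁻¹) ∈ (⊥ : Subgroup Ω)
      rw [(zS_comm (Subgroup.zpowers_le.2 h.zcen hxC) (h.le ha)).eq, mul_inv_cancel_right, inv_mul_cancel]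
      exact one_mem _
    | 1 => exact line_of_conj h ha hx

theorem comm_E : ∀ u ∈ E, ∀ v ∈ E, Commute u v := by
  intro u hu v hv
  by_contra hne
  obtain ⟨g, hg, hgz⟩ := not_invariant h
  have hbr : br u v ≠ 1 := fun e => hne (br_eq_one.1 e)
  have hgen := gen_of_ne h.shape.z_pow (h.shape.br_mem u (h.EQ hu) v (h.EQ hv)) hbr
  obtain ⟨k, hk⟩ := Subgroup.mem_zpowers_iff.1 (hgen ▸ Subgroup.mem_zpowers z : z ∈ Subgroup.zpowers (br u v))
  refine hgz ?_
  have e : (⟨z, zE h⟩ : E) = ⁅(⟨u, hu⟩ : E), ⟨v, hv⟩⁆ ^ k := Subtype.ext hk.symm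
  rw [apl_apply g (zE h), e, map_zpow, map_commutatorElement, Subgroup.coe_zpow]
  exact Subgroup.zpow_mem _ (h.shape.br_mem _ (h.EQ (g _).2) _ (h.EQ (g _).2)) k

theorem pow_E : ∀ u ∈ E, u ^ p = 1 := by
  intro u hu
  by_contra hne
  obtain ⟨g, hg, hgz⟩ := not_invariant h
  have hgen := gen_of_ne h.shape.z_pow (h.shape.pow_mem u (h.EQ hu)) hne
  obtain ⟨k, hk⟩ := Subgroup.mem_zpowers_iff.1 (hgen ▸ Subgroup.mem_zpowers z : z ∈ Subgroup.zpowers (u ^ p))
  refine hgz ?_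
  have e : (⟨z, zE h⟩ : E) = ((⟨u, hu⟩ : E) ^ p) ^ k := Subtype.ext hk.symm
  rw [apl_apply g (zE h), e, map_zpow, map_pow, Subgroup.coe_zpow, Subgroup.coe_pow]
  exact Subgroup.zpow_mem _ (h.shape.pow_mem _ (h.EQ (g _).2)) k

/-- Every element of `E` is centralized by an element of `Q` outside `E` when `|Q| > p ^ 3`. -/
theorem exists_outside (hZ : zS Q ≤ Subgroup.zpowers z) (hbig : p ^ 3 < Nat.card Q) {v : Ω} (hv : v ∈ E) :
    ∃ a ∈ Q, a * v = v * a ∧ a ∉ E := by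
  haveI := finite_of_le h.le
  haveI := finite_of_le h.ess.1.1
  by_contra! hall
  have h1 : Nat.card Q ≤ p * Nat.card E := by
    refine (h.shape.card_cent le_rfl (h.EQ hv)).trans (Nat.mul_le_mul_left p ?_)
    exact Subgroup.card_le_of_le fun a ha => hall a ha.1 (Subgroup.mem_centralizer_singleton_iff.1 ha.2)
  obtain ⟨s, hs, hsE⟩ := SetLike.exists_of_lt (lt_of_le_of_ne h.EQ h.proper)
  set M := E ⊔ Subgroup.zpowers s with hM
  have hMQ : M ≤ Q := sup_le h.EQ (Subgroup.zpowers_le.2 hs)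
  haveI := finite_of_le (hMQ.trans h.le)
  have hMeq : M = Q := by
    obtain ⟨i, hi⟩ := IsPGroup.iff_card.1 (h.shape.pgrp.to_le h.EQ)
    obtain ⟨j, hj⟩ := IsPGroup.iff_card.1 (h.shape.pgrp.to_le hMQ)
    refine Subgroup.eq_of_le_of_card_ge hMQ (h1.trans ?_)
    have hlt : Nat.card E < Nat.card M := lt_of_le_of_ne (Subgroup.card_le_of_le le_sup_left) fun e =>
      hsE (Subgroup.eq_of_le_of_card_ge (le_sup_left : E ≤ M) e.ge ▸
        Subgroup.mem_sup_right (Subgroup.mem_zpowers s))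
    rw [hi, hj, Nat.pow_lt_pow_iff_right (Fact.out : p.Prime).one_lt] at hlt
    rw [hi, hj, ← pow_succ']
    exact Nat.pow_le_pow_right (Fact.out : p.Prime).pos hlt
  have hcen : E ⊓ Subgroup.centralizer ({s} : Set Ω) ≤ Subgroup.zpowers z := by
    intro x hx
    have hle : M ≤ Subgroup.centralizer ({x} : Set Ω) := sup_le
      (fun e he => Subgroup.mem_centralizer_singleton_iff.2 (comm_E h e he x hx.1).eq)
      (Subgroup.zpowers_le.2 (Subgroup.mem_centralizer_singleton_iff.2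
        (Subgroup.mem_centralizer_singleton_iff.1 hx.2).symm))
    rw [hMeq] at hle
    exact hZ ⟨h.EQ hx.1, Subgroup.mem_centralizer_iff.2 fun g hg =>
      Subgroup.mem_centralizer_singleton_iff.1 (hle hg)⟩
  haveI : Finite (Subgroup.zpowers z) := finite_of_le (Subgroup.zpowers_le.2 h.zcen.1)
  have h2 := (h.shape.card_cent h.EQ hs).trans
    (Nat.mul_le_mul_left p ((Subgroup.card_le_of_le hcen).trans_eq h.shape.card_zp))
  have := hbig.trans_le (h1.trans (Nat.mul_le_mul_left p h2))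
  exact lt_irrefl _ (this.trans_eq (by ring))

theorem absurd_of_big (hZ : zS Q ≤ Subgroup.zpowers z) (hbig : p ^ 3 < Nat.card Q) : False := by
  classical
  have hp : p.Prime := Fact.out
  have hES := h.ess.1.1
  haveI := finite_of_le hES
  haveI : Finite (MulAut E) := Finite.of_injective _ MulEquiv.toEquiv_injective
  have hzE := zE h
  set C : ℕ → Subgroup Ω := fun i => if i = 0 then ⊥ else if i = 1 then Subgroup.zpowers z else E with hC
  have hmono : Monotone C := monotone_nat_of_le_succ fun i => by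
    match i with
    | 0 => exact bot_le
    | 1 => exact Subgroup.zpowers_le.2 hzE
    | i + 2 => exact le_rfl
  set Γ₀ : Subgroup (MulAut E) := F.autGroup E ⊓ chainStab C hmono 2 with hΓ₀
  have hmemΓ : ∀ γ ∈ Γ₀, apl γ z = z ∧ ∀ x ∈ E, x⁻¹ * apl γ x ∈ Subgroup.zpowers z := by
    intro γ hγ
    have hst := mem_chainStab.1 hγ.2
    refine ⟨?_, fun x hx => hst 1 one_lt_two x hx hx⟩
    exact (inv_mul_eq_one.1 (Subgroup.mem_bot.1 (hst 0 two_pos z hzE (Subgroup.mem_zpowers z)))).symm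
  have hΓp : IsPGroup p Γ₀ := isPGroup_chainStab (h.pgrp.to_le hES) hmono le_rfl fun δ _ _ x hx hx0 => by
    have h1 : x = 1 := Subgroup.mem_bot.1 hx0
    subst h1
    rw [apl_apply δ hx, show (⟨1, hx⟩ : E) = 1 from rfl, map_one, Subgroup.coe_one]
  have hmk : ∀ a ∈ Q, ∀ γ : MulAut E, γ ∈ F.autGroup E → (∀ x ∈ E, apl γ x = a * x * a⁻¹) → γ ∈ Γ₀ := by
    intro a ha γ hγ hγx
    refine ⟨hγ, mem_chainStab.2 fun i hi x hx hxC => ?_⟩
    rw [hγx x hx]
    match i with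
    | 0 =>
      show x⁻¹ * (a * x * a⁻¹) ∈ (⊥ : Subgroup Ω)
      rw [(zS_comm (Subgroup.zpowers_le.2 h.zcen hxC) (h.le ha)).eq, mul_inv_cancel_right, inv_mul_cancel]
      exact one_mem _
    | 1 => exact line_of_conj h ha hx
  have hnt : ∀ {a : Ω}, a ∈ Q → a ∉ E → ∃ γ ∈ Γ₀, (∀ x ∈ E, apl γ x = a * x * a⁻¹) ∧
      ∃ x ∈ E, x⁻¹ * apl γ x ≠ 1 := by
    intro a ha haE
    obtain ⟨γ, hγ, hγx⟩ := exists_mem_autInducedBy (P := E) (h.le ha) (normalizes h ha)
    refine ⟨γ, hmk a ha γ (autInducedBy_le_autGroup hES hγ) hγx, hγx, ?_⟩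
    by_contra! hall
    refine haE (centric_self h.ess.1 ⟨h.le ha, Subgroup.mem_centralizer_iff.2 fun x hx => ?_⟩)
    have h2 := inv_mul_eq_one.1 (hall x hx)
    rw [hγx x hx] at h2
    calc x * a = a * x * a⁻¹ * a := by rw [← h2]
      _ = a * x := by group
  set Γ : Subgroup (F.autGroup E) := Γ₀.subgroupOf (F.autGroup E) with hΓ
  obtain ⟨a₁, ha₁, -, ha₁E⟩ := exists_outside h hZ hbig hzE
  have hΓne : Γ ≠ ⊥ := by
    intro e
    obtain ⟨γ, hγ, -, x, hx, hne⟩ := hnt ha₁ ha₁E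
    have h1 : (⟨γ, hγ.1⟩ : F.autGroup E) ∈ Γ := Subgroup.mem_subgroupOf.2 hγ
    rw [e, Subgroup.mem_bot] at h1
    have h2 : γ = 1 := congrArg Subtype.val h1
    rw [h2, apl_one hx, inv_mul_cancel] at hne
    exact hne rfl
  obtain ⟨T, hT⟩ := (hΓp.comap_subtype : IsPGroup p Γ).exists_le_sylow
  have hinn : innIn F E = ⊥ := by
    refine le_bot_iff.1 fun α hα => ?_
    obtain ⟨c, hc⟩ := Subgroup.mem_subgroupOf.1 hα
    refine Subgroup.mem_bot.2 (Subtype.ext ?_)
    rw [← hc, OneMemClass.coe_one]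
    refine MulEquiv.ext fun x => ?_
    rw [MulAut.conj_apply, MulAut.one_apply, mul_inv_eq_iff_eq_mul]
    exact Subtype.ext (comm_E h _ c.2 _ x.2).eq
  obtain ⟨-, -, hn, H, hH⟩ := h.ess
  haveI : (innIn F E).Normal := hn
  obtain ⟨Y, hY, hYn⟩ := exists_proper_pullback (N := innIn F E) hinn hH T
  refine hY ((Subgroup.eq_top_iff' Y).2 fun g => ?_)
  by_cases hgz : apl (g : MulAut E) z ∈ Subgroup.zpowers z
  · refine hYn Γ hT hΓne (Subgroup.mem_normalizer_fintype (S := (Γ : Set (F.autGroup E))) fun γ hγ => ?_)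
    refine Subgroup.mem_subgroupOf.2 ⟨(g * γ * g⁻¹ : F.autGroup E).2, ?_⟩
    rw [Subgroup.coe_mul, Subgroup.coe_mul, Subgroup.coe_inv]
    refine chainStab_conj (fun i hi x hx => ?_) (Subgroup.mem_subgroupOf.1 hγ).2
    match i with
    | 0 =>
      show apl (g : MulAut E) x ∈ (⊥ : Subgroup Ω) ↔ x ∈ (⊥ : Subgroup Ω)
      rw [Subgroup.mem_bot, Subgroup.mem_bot]
      refine ⟨fun h1 => ?_, fun h1 => ?_⟩
      · rw [apl_apply _ hx] at h1
        exact congrArg Subtype.val ((map_eq_one_iff (g : MulAut E) (g : MulAut E).injective).1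
          (Subtype.ext h1 : (g : MulAut E) ⟨x, hx⟩ = 1))
      · subst h1
        rw [apl_apply _ hx, show (⟨1, hx⟩ : E) = 1 from rfl, map_one, Subgroup.coe_one]
    | 1 =>
      show apl (g : MulAut E) x ∈ Subgroup.zpowers z ↔ x ∈ Subgroup.zpowers z
      haveI : Finite (Subgroup.zpowers z) := finite_of_le (Subgroup.zpowers_le.2 h.zcen.1)
      have hfwd : ∀ y ∈ Subgroup.zpowers z, apl (g : MulAut E) y ∈ Subgroup.zpowers z := by
        intro y hy
        obtain ⟨k, rfl⟩ := Subgroup.mem_zpowers_iff.1 hy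
        have e : (⟨z ^ k, E.zpow_mem hzE k⟩ : E) = ⟨z, hzE⟩ ^ k := rfl
        rw [apl_apply _ (E.zpow_mem hzE k), e, map_zpow, Subgroup.coe_zpow, ← apl_apply _ hzE]
        exact Subgroup.zpow_mem _ hgz k
      refine ⟨fun hy => ?_, hfwd x⟩
      have hne : apl (g : MulAut E) z ≠ 1 := fun e => h.shape.z_ne (by
        rw [← apl_inv_apl (g : MulAut E) hzE, e, apl_apply _ E.one_mem,
          show (⟨1, E.one_mem⟩ : E) = 1 from rfl, map_one, Subgroup.coe_one])
      obtain ⟨k, hk⟩ := Subgroup.mem_zpowers_iff.1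
        ((gen_of_ne h.shape.z_pow hgz hne).symm ▸ hy : apl (g : MulAut E) x ∈ Subgroup.zpowers (apl (g : MulAut E) z))
      have e : (⟨z ^ k, E.zpow_mem hzE k⟩ : E) = ⟨z, hzE⟩ ^ k := rfl
      have h2 : apl (g : MulAut E) (z ^ k) = apl (g : MulAut E) x := by
        rw [apl_apply _ (E.zpow_mem hzE k), e, map_zpow, Subgroup.coe_zpow, ← apl_apply _ hzE, hk]
      rw [← apl_inv_apl (g : MulAut E) hx, ← h2, apl_inv_apl _ (E.zpow_mem hzE k)]
      exact Subgroup.zpow_mem _ (Subgroup.mem_zpowers z) k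
    | i + 2 => exact iff_of_true (apl_mem _ hx) hx
  · set z' := apl (g : MulAut E) z with hz'
    set z'' := apl (g : MulAut E)⁻¹ z with hz''
    have hz'E : z' ∈ E := apl_mem _ hzE
    have hz''E : z'' ∈ E := apl_mem _ hzE
    obtain ⟨a, ha, haz, haE⟩ := exists_outside h hZ hbig hz'E
    obtain ⟨b, hb, hbz, hbE⟩ := exists_outside h hZ hbig hz''E
    obtain ⟨α, hα, hαx, xa, hxa, hαne⟩ := hnt ha haE
    obtain ⟨β₀, hβ₀, hβ₀x, xb, hxb, hβ₀ne⟩ := hnt hb hbE
    obtain ⟨hαz, hαl⟩ := hmemΓ α hα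
    obtain ⟨hβ₀z, hβ₀l⟩ := hmemΓ β₀ hβ₀
    have hαz' : apl α z' = z' := by rw [hαx z' hz'E, haz, mul_inv_cancel_right]
    set β : MulAut E := (g : MulAut E) * β₀ * (g : MulAut E)⁻¹ with hβ
    have hβapl : ∀ y ∈ E, apl β y =
        apl (g : MulAut E) (apl β₀ (apl (g : MulAut E)⁻¹ y)) := fun y hy => by
      rw [hβ, apl_mul _ _ hy, apl_mul _ _ (apl_mem _ hy)]
    have hβz : apl β z = z := by
      rw [hβapl z hzE, hβ₀x z'' hz''E, hbz, mul_inv_cancel_right, hz'', apl_apl_inv _ hzE]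
    have hβz' : apl β z' = z' := by
      rw [hβapl z' hz'E, hz', apl_inv_apl _ hzE, hβ₀z]
    have hpw : ∀ (γ : MulAut E) (v : Ω), v ∈ E → apl γ v = v → ∀ k : ℤ, apl γ (v ^ k) = v ^ k := by
      intro γ v hv hfix k
      have e : (⟨v ^ k, E.zpow_mem hv k⟩ : E) = ⟨v, hv⟩ ^ k := rfl
      rw [apl_apply γ (E.zpow_mem hv k), e, map_zpow, Subgroup.coe_zpow, ← apl_apply γ hv, hfix]
    have hβl : ∀ x ∈ E, ∃ j : ℤ, apl β x = x * z' ^ j := by
      intro x hx
      have hy := apl_mem (g : MulAut E)⁻¹ hx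
      obtain ⟨j, hj⟩ := Subgroup.mem_zpowers_iff.1 (hβ₀l _ hy)
      refine ⟨j, ?_⟩
      have e : (⟨z ^ j, E.zpow_mem hzE j⟩ : E) = ⟨z, hzE⟩ ^ j := rfl
      rw [hβapl x hx, show apl β₀ (apl (g : MulAut E)⁻¹ x) = apl (g : MulAut E)⁻¹ x * z ^ j by
          rw [hj, mul_inv_cancel_left],
        apl_mul_pt _ hy (E.zpow_mem hzE j), apl_apl_inv _ hx, apl_apply _ (E.zpow_mem hzE j), e, map_zpow,
        Subgroup.coe_zpow, ← apl_apply _ hzE]
    have hαβ : α * β = β * α := by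
      refine apl_ext fun x hx => ?_
      obtain ⟨i, hi⟩ := Subgroup.mem_zpowers_iff.1 (hαl x hx)
      obtain ⟨j, e2⟩ := hβl x hx
      have e1 : apl α x = x * z ^ i := by rw [hi, mul_inv_cancel_left]
      rw [apl_mul α β hx, apl_mul β α hx, e2, e1, apl_mul_pt α hx (E.zpow_mem hz'E j),
        apl_mul_pt β hx (E.zpow_mem hzE i), e1, e2, hpw α z' hz'E hαz', hpw β z hzE hβz,
        mul_assoc, mul_assoc, (comm_E h _ (E.zpow_mem hzE i) _ (E.zpow_mem hz'E j)).eq]
    set α' : F.autGroup E := ⟨α, hα.1⟩ with hα'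
    set γ₀ : F.autGroup E := ⟨β₀, hβ₀.1⟩ with hγ₀
    have hα'Γ : α' ∈ Γ := Subgroup.mem_subgroupOf.2 hα
    have hγ₀Γ : γ₀ ∈ Γ := Subgroup.mem_subgroupOf.2 hβ₀
    set β' : F.autGroup E := g * γ₀ * g⁻¹ with hβ'
    have hcomm : α' * β' = β' * α' := Subtype.ext hαβ
    have hzp : ∀ {x : F.autGroup E}, x ∈ Γ → IsPGroup p (Subgroup.zpowers x) := fun hx =>
      T.2.to_le (Subgroup.zpowers_le.2 (hT hx))
    have hK : IsPGroup p ↥(Subgroup.zpowers α' ⊔ Subgroup.zpowers β') := by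
      have hβp : IsPGroup p (Subgroup.zpowers β') := by
        have := (hzp hγ₀Γ).map (MulAut.conj g).toMonoidHom
        rwa [MonoidHom.map_zpowers] at this
      refine IsPGroup.to_sup_of_normal_left' (hzp hα'Γ) hβp ?_
      rw [Subgroup.zpowers_le]
      refine Subgroup.mem_normalizer_fintype (S := (Subgroup.zpowers α' : Set (F.autGroup E))) fun y hy => ?_
      obtain ⟨k, rfl⟩ := Subgroup.mem_zpowers_iff.1 hy
      rw [((show Commute α' β' from hcomm).symm.zpow_right k).eq, mul_inv_cancel_right]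
      exact Subgroup.zpow_mem _ (Subgroup.mem_zpowers α') k
    obtain ⟨y, hy⟩ := exists_conj_mem_sylow hK T
    have hmemY : ∀ (d x : F.autGroup E), d ∈ Γ → d ≠ 1 → x * d * x⁻¹ ∈ (T : Subgroup (F.autGroup E)) →
        x ∈ Y := by
      intro d x hd hd1 hx
      refine mem_of_normalizers_le T hYn (Subgroup.zpowers d) x (Subgroup.zpowers_le.2 (hT hd))
        (fun e => hd1 (Subgroup.zpowers_eq_bot.1 e)) fun e he => ?_
      obtain ⟨k, rfl⟩ := Subgroup.mem_zpowers_iff.1 he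
      rw [← conj_zpow]
      exact Subgroup.zpow_mem _ hx k
    have hne1 : α' ≠ 1 := fun e => hαne (by
      rw [show α = 1 from congrArg Subtype.val e, apl_one hxa, inv_mul_cancel])
    have hne2 : γ₀ ≠ 1 := fun e => hβ₀ne (by
      rw [show β₀ = 1 from congrArg Subtype.val e, apl_one hxb, inv_mul_cancel])
    have hyY : y ∈ Y := hmemY α' y hα'Γ hne1 (hy α' (Subgroup.mem_sup_left (Subgroup.mem_zpowers _)))
    have hygY : y * g ∈ Y := by
      refine hmemY γ₀ (y * g) hγ₀Γ hne2 ?_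
      have h1 := hy β' (Subgroup.mem_sup_right (Subgroup.mem_zpowers _))
      rwa [hβ', show y * (g * γ₀ * g⁻¹) * y⁻¹ = y * g * γ₀ * (y * g)⁻¹ by group] at h1
    have := Y.mul_mem (Y.inv_mem hyY) hygY
    rwa [inv_mul_cancel_left] at this

end Cfsg.Agent.FusSys.ExtraInside

namespace Cfsg.Agent.FusSys.ExtraInside

open Cfsg Cfsg.FusionSystem Cfsg.Agent.FusSys Cfsg.Agent.FusSys.StrongExtra Cfsg.Agent.FusSys.SmallCentral
open Cfsg.Agent.FusSys.ExtraIndexP

universe w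

variable {Ω : Type w} [Group Ω] {S : Subgroup Ω} [Finite S] {p : ℕ} [Fact p.Prime]

theorem not_essential_inside (hp : Odd p) (hS : IsPGroup p S) (Q : Subgroup Ω) (hQS : Q ≤ S)
    (hQ : Cfsg.IsExtraspecial p ↥Q) (hQi : (Q.subgroupOf S).index = p) (h6 : p ^ 6 ≤ Nat.card S)
    {F : FusionSystem S} (hF : F.IsSaturated p) (hO : F.core = ⊥) {E : Subgroup Ω} (hEQ : E ≤ Q)
    (hE : F.IsEssential p E) : E = Q := by
  have hpr : p.Prime := Fact.out
  by_contra hne
  haveI := finite_of_le hQS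
  have hcen := center_eq hp hS Q hQS hQ hQi hF hO
  have hZmap : zS Q = (Subgroup.center Q).map Q.subtype := zS_map
  have hZc : Nat.card (zS Q) = p := by
    rw [hZmap, Subgroup.card_map_of_injective Q.subtype_injective, hQ.2]
  haveI : Finite (zS Q) := finite_of_le (inf_le_left.trans hQS)
  obtain ⟨z, hzZ, hz1⟩ : ∃ z ∈ zS Q, z ≠ 1 := by
    refine (Subgroup.bot_or_exists_ne_one (zS Q)).resolve_left fun e => ?_
    rw [e, Subgroup.card_bot] at hZc
    exact hpr.ne_one hZc.symm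
  have hzp : z ^ p = 1 := by
    have := congrArg Subtype.val (pow_card_eq_one' (x := (⟨z, hzZ⟩ : zS Q)))
    rw [hZc] at this
    exact this
  have hZz : zS Q = Subgroup.zpowers z := by
    refine (Subgroup.eq_of_le_of_card_ge (Subgroup.zpowers_le.2 hzZ) ?_).symm
    rw [hZc, Nat.card_zpowers, orderOf_eq_prime hzp hz1]
  have hsh : Shape p Q z := by
    refine ⟨hS.to_le hQS, hzZ, hzp, hz1, fun a ha b hb => ?_, fun a ha => ?_⟩
    · rw [← hZz, hZmap]
      exact ⟨⁅(⟨a, ha⟩ : Q), ⟨b, hb⟩⁆, Fusion.es_commutator_mem hQ _ _, rfl⟩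
    · rw [← hZz, hZmap]
      exact ⟨(⟨a, ha⟩ : Q) ^ p, Fusion.es_pow_mem_center hQ _, rfl⟩
  have hzS : z ∈ zS S := by
    show z ∈ S ⊓ Subgroup.centralizer (S : Set Ω)
    rw [hcen]
    exact hzZ
  refine absurd_of_big (⟨hS, hF, hsh, hzS, hQS, hEQ, hE, hne⟩ : Inside F p Q E z) hZz.le ?_
  have h1 := (Q.subgroupOf S).card_mul_index
  rw [hQi, Nat.card_congr (Subgroup.subgroupOfEquivOfLe hQS).toEquiv] at h1
  rw [← h1] at h6
  have h5 : p ^ 5 ≤ Nat.card Q := Nat.le_of_mul_le_mul_right ((by ring : p ^ 5 * p = p ^ 6).trans_le h6) hpr.pos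
  exact (Nat.pow_lt_pow_right hpr.one_lt (by norm_num : 3 < 5)).trans_le h5

end Cfsg.Agent.FusSys.ExtraInside
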