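import Cfsg.Agent.FusSys.Supersoluble
import Cfsg.Agent.FusSys.Hyperfocal
import Cfsg.Agent.Fusion.Residual

/-!
Saturated systems without proper non-inner saturated subsystems.
-/

set_option autoImplicit false

namespace Cfsg.Agent.FusSys

open Cfsg Cfsg.FusionSystem

universe u

variable {Ω : Type u} [Group Ω] {S : Subgroup Ω} {F : FusionSystem S} {p : ℕ}

/-- Every saturated subsystem is the whole system or inner. -/
def ExtremeSimple (F : FusionSystem S) (p : ℕ) : Prop :=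
  ∀ (T : Subgroup Ω) (E : FusionSystem T), E.IsSaturated p → E.IsSubsystemOf F →
    (T = S ∧ ∀ P : Subgroup Ω, E.Hom P = F.Hom P) ∨
      (∀ P : Subgroup Ω, E.Hom P = (innerFusionSystem T).Hom P)

variable [Fact p.Prime] [Finite S] (hS : IsPGroup p S) (hF : F.IsSaturated p)
include hS

theorem extremeSimple_key (hx : ExtremeSimple F p) {Q : Subgroup Ω} (hQ : Q ≤ S) {α : MulAut Q}
    (hα : α ∈ F.autGroup Q) {q : ℕ} (hq : q.Prime) (hqp : q ≠ p) (hord : orderOf α = q) :
    Q = S ∧ ∀ P f, Mor F P f → ∃ β ∈ Inn Q ⊔ Subgroup.zpowers α, ∀ x ∈ P, f x = apl β x := by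
  haveI := finite_of_le hQ
  have hQp : IsPGroup p Q := hS.to_le hQ
  have hcop : (Nat.card ↥(Subgroup.zpowers α)).Coprime p := by
    rw [Nat.card_zpowers, hord]
    exact (Nat.coprime_primes hq Fact.out).2 hqp
  obtain ⟨E, hE, hαE, hmor⟩ := exists_aut_system (Subgroup.zpowers α) hQp hcop
  have hle : Inn Q ⊔ Subgroup.zpowers α ≤ F.autGroup Q :=
    sup_le (inn_le_autGroup hQ) (Subgroup.zpowers_le.2 hα)
  have hsub : E.IsSubsystemOf F := by
    intro P φ hφ
    obtain ⟨β, hβ, hβf⟩ := hmor P _ (mor_extendFn hφ)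
    refine mem_hom_iff.2 ?_
    exact ((iso_apl hQ (hle hβ)).1.mono (E.le_of_mem hφ).1).congr fun x hx => hβf x hx
  rcases hx Q E hE hsub with ⟨rfl, heq⟩ | hinn
  · refine ⟨rfl, fun P f ⟨φ, hφ, hφf⟩ => hmor P f ⟨φ, ?_, hφf⟩⟩
    rw [heq]; exact hφ
  · exfalso
    have h1 : Mor E Q (apl α) := (iso_apl le_rfl (hαE (Subgroup.mem_zpowers α))).1
    obtain ⟨φ, hφ, hφf⟩ := h1
    rw [hinn] at hφ
    obtain ⟨-, g, hg, hgx⟩ := hφ
    have h2 : α = MulAut.conj (⟨g, hg⟩ : Q) := apl_ext fun x hx => by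
      rw [← hφf ⟨x, hx⟩, hgx ⟨x, hx⟩]
      rw [apl_apply _ hx, MulAut.conj_apply]
      rfl
    obtain ⟨k, hk⟩ := hQp ⟨g, hg⟩
    have h3 : α ^ p ^ k = 1 := by rw [h2, ← map_pow, hk, map_one]
    have h4 : q = 1 := Nat.eq_one_of_dvd_coprimes
      (Nat.Coprime.pow_right k ((Nat.coprime_primes hq Fact.out).2 hqp)) dvd_rfl
      (hord ▸ orderOf_dvd_of_pow_eq_one h3)
    exact hq.one_lt.ne' h4

include hF in
theorem extremeSimple_structure (hne : ¬ ∀ P : Subgroup Ω, F.Hom P = (innerFusionSystem S).Hom P)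
    (hx : ExtremeSimple F p) :
    F.IsNormal S ∧ F.focalSubgroup = S ∧ F.hyperfocalSubgroup p = S ∧
      ∃ (q : ℕ) (β : MulAut S), q.Prime ∧ q ≠ p ∧ β ∈ F.autGroup S ∧ orderOf β = q ∧
        (F.autGroup S : Subgroup (MulAut S)) = Inn S ⊔ Subgroup.zpowers β := by
  have hp : p.Prime := Fact.out
  obtain ⟨Q, hQ, hnp⟩ : ∃ Q ≤ S, ¬ IsPGroup p (F.autGroup Q) := by
    by_contra h
    push Not at h
    exact hne fun P => by rw [eq_inner_of_pGroups hS hF h]
  haveI := finite_of_le hQ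
  haveI : Finite (MulAut Q) := Finite.of_injective _ MulEquiv.toEquiv_injective
  obtain ⟨q, hq, hqp, hdvd⟩ : ∃ q, q.Prime ∧ q ≠ p ∧ q ∣ Nat.card (F.autGroup Q) := by
    by_contra h
    push Not at h
    refine hnp (IsPGroup.of_card (n := (Nat.card (F.autGroup Q)).primeFactorsList.length)
      (Nat.eq_prime_pow_of_unique_prime_dvd Nat.card_pos.ne' fun {d} hd hdd => ?_))
    by_contra hdp
    exact h d hd hdp hdd
  haveI : Fact q.Prime := ⟨hq⟩
  obtain ⟨α', hα'⟩ := exists_prime_orderOf_dvd_card' q hdvd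
  obtain ⟨rfl, hres⟩ := extremeSimple_key hS hx hQ α'.2 hq hqp
    (by rw [Subgroup.orderOf_coe, hα'])
  obtain ⟨α, hαdef⟩ : ∃ α : MulAut Q, α = (α' : MulAut Q) := ⟨_, rfl⟩
  rw [← hαdef] at hres
  have hα : α ∈ F.autGroup Q := hαdef ▸ α'.2
  have hord : orderOf α = q := by rw [hαdef, Subgroup.orderOf_coe, hα']
  have hle : Inn Q ⊔ Subgroup.zpowers α ≤ F.autGroup Q :=
    sup_le (inn_le_autGroup le_rfl) (Subgroup.zpowers_le.2 hα)
  -- the hyperfocal subgroup is everything
  have hhyp : F.hyperfocalSubgroup p = Q := by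
    obtain ⟨T, hT⟩ : ∃ T, T = F.hyperfocalSubgroup p := ⟨_, rfl⟩
    have hTS : T ≤ Q := hT ▸ hyperfocal_le F p
    have hαres : ∀ x ∈ Q, x⁻¹ * apl α x ∈ T := fun x hx => hT ▸
      residual_quot_mem_hyperfocal le_rfl (Subgroup.mem_map.2 ⟨α',
        Cfsg.Agent.Fusion.mem_pResidual_of_coprime (by rw [hα']; exact (Nat.coprime_primes hq hp).2 hqp),
        hαdef.symm⟩) hx
    have hαT : ∀ x ∈ T, apl α x ∈ T := fun x hx => by
      have := T.mul_mem hx (hαres x (hTS hx))
      rwa [mul_inv_cancel_left] at this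
    haveI := finite_of_le hTS
    have hmorT : Mor F T (apl α) := (iso_apl le_rfl hα).1.mono hTS
    obtain ⟨R, hR⟩ := hmorT.exists_iso
    obtain rfl : R = T := eq_of_le_of_card hTS
      (fun y hy => by obtain ⟨x, hx, rfl⟩ := hR.exists_eq hy; exact hαT x hx) hR.card_eq.le
    obtain ⟨γ, hγ, hγα⟩ := hR.exists_mem_autGroup
    have hγq : γ ^ q = 1 := by
      refine apl_ext fun x hx => ?_
      have hit : ∀ n : ℕ, apl (γ ^ n) x = apl (α ^ n) x := by
        intro n
        induction n with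
        | zero => rw [pow_zero, pow_zero, apl_one hx, apl_one (hTS hx)]
        | succ n ih =>
          rw [pow_succ', pow_succ', apl_mul _ _ hx, apl_mul _ _ (hTS hx), hγα _ (apl_mem _ hx), ih]
      rw [hit, ← hord, pow_orderOf_eq_one, apl_one (hTS hx), apl_one hx]
    by_cases hγ1 : γ = 1
    · exfalso
      let C : ℕ → Subgroup Ω := fun i => if i = 0 then ⊥ else if i = 1 then R else Q
      have : α = 1 := eq_one_of_chain (C := C) (n := 2) hS le_rfl
        (by rw [hord]; exact (Nat.coprime_primes hq hp).2 hqp)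
        (fun x _ hx0 => by
          have hx1 : x = 1 := Subgroup.mem_bot.1 hx0
          subst hx1
          rw [apl_apply α Q.one_mem, show (⟨1, Q.one_mem⟩ : Q) = 1 from rfl, map_one]
          rfl)
        fun i hi x hx hxC => by
          rcases i with _ | i
          · have hxT : x ∈ R := hxC
            show x⁻¹ * apl α x ∈ (⊥ : Subgroup Ω)
            rw [← hγα x hxT, hγ1, apl_one hxT, inv_mul_cancel]
            exact Subgroup.one_mem _
          · obtain rfl : i = 0 := by omega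
            exact hαres x hx
      rw [this, orderOf_one] at hord
      exact hq.one_lt.ne hord
    · exact hT.symm.trans (extremeSimple_key hS hx hTS hγ hq hqp (orderOf_eq_prime hγq hγ1)).1
  refine ⟨isNormal_iff.2 ⟨le_rfl, fun P f hf => ?_⟩,
    le_antisymm (focal_le F) (hhyp.symm.le.trans hyperfocal_le_focal), hhyp, q, α, hq, hqp, hα, hord,
    le_antisymm (fun β hβ => ?_) hle⟩
  · obtain ⟨β, hβ, hβf⟩ := hres P f hf
    have hi := iso_apl (F := F) le_rfl (hle hβ)
    refine ⟨apl β, ?_, fun x hx => (hβf x hx).symm, hi.2⟩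
    rw [sup_eq_right.2 hf.le]
    exact hi.1
  · obtain ⟨δ, hδ, hδf⟩ := hres Q _ (iso_apl le_rfl hβ).1
    rwa [apl_ext hδf]

end Cfsg.Agent.FusSys
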