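import Cfsg.Agent.FusSys.InnerCtl
import Cfsg.Agent.Fusion.ZJ
import Cfsg.Agent.KInf.Complement
import Cfsg.Prelude.Def_ConjugacyFunctors

/-!
The Glauberman–Thompson criterion, for groups and for fusion systems.
-/

set_option autoImplicit false

namespace Cfsg.Agent.FusSys

open Cfsg Cfsg.FusionSystem

universe u

variable {Ω : Type u} [Group Ω] {S T : Subgroup Ω} {F : FusionSystem S} {p : ℕ}
variable {W : ∀ (Q : Type u) [Group Q], Subgroup Q}

/-- The abelian-version Thompson subgroup as a functor. -/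
def jW (Q : Type u) [Group Q] : Subgroup Q := thompsonSubgroupAOf (⊤ : Subgroup Q)

/-- The centre of the abelian-version Thompson subgroup as a functor. -/
def zjW (Q : Type u) [Group Q] : Subgroup Q := centerThompsonAOf (⊤ : Subgroup Q)

section Map

variable {G G' : Type*} [Group G] [Group G'] {f : G →* G'}

theorem thompsonSubgroupAOf_map (hf : Function.Injective f) (D : Subgroup G) :
    (thompsonSubgroupAOf D).map f = thompsonSubgroupAOf (D.map f) := by
  rw [Fusion.thompsonSubgroupAOf_eq, Fusion.thompsonSubgroupAOf_eq, Fusion.map_sSup_eq]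
  congr 1
  ext A
  constructor
  · rintro ⟨B, hB, rfl⟩
    exact (Fusion.abMax_map_iff hf).2 hB
  · intro (hA : Fusion.AbMax 0 (D.map f) A)
    have e : (A.comap f).map f = A :=
      Subgroup.map_comap_eq_self (hA.le.trans (Subgroup.map_le_range f D))
    exact ⟨A.comap f, (Fusion.abMax_map_iff hf).1 (e.symm ▸ hA), e⟩

theorem centerThompsonAOf_map (hf : Function.Injective f) (D : Subgroup G) :
    (centerThompsonAOf D).map f = centerThompsonAOf (D.map f) := by
  unfold centerThompsonAOf
  rw [← thompsonSubgroupAOf_map hf]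
  ext y
  simp only [Subgroup.mem_map, Subgroup.mem_inf, Subgroup.mem_centralizer_iff, SetLike.mem_coe]
  constructor
  · rintro ⟨x, ⟨hx, hc⟩, rfl⟩
    refine ⟨⟨x, hx, rfl⟩, ?_⟩
    rintro _ ⟨z, hz, rfl⟩
    rw [← map_mul, ← map_mul, hc z hz]
  · rintro ⟨⟨x, hx, rfl⟩, hc⟩
    refine ⟨x, ⟨hx, fun z hz => hf ?_⟩, rfl⟩
    rw [map_mul, map_mul]
    exact hc _ ⟨z, hz, rfl⟩

end Map

theorem map_top_subtype {G : Type*} [Group G] (D : Subgroup G) :
    (⊤ : Subgroup D).map D.subtype = D := by
  rw [← MonoidHom.range_eq_map, Subgroup.range_subtype]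

theorem wsub_jW (S : Subgroup Ω) : wsub jW S = thompsonSubgroupAOf S := by
  rw [wsub, jW, thompsonSubgroupAOf_map S.subtype_injective, map_top_subtype]

theorem wsub_zjW (S : Subgroup Ω) : wsub zjW S = centerThompsonAOf S := by
  rw [wsub, zjW, centerThompsonAOf_map S.subtype_injective, map_top_subtype]

theorem posFunctor_jW [Fact p.Prime] : PosFunctor.{u} p jW := by
  refine ⟨fun Q _ _ _ _ h => ?_, fun Q R _ _ _ _ φ => ?_⟩
  · obtain ⟨A, hA⟩ := Fusion.exists_abMax 0 (⊤ : Subgroup Q)
    obtain ⟨x, hx⟩ := exists_ne (1 : Q)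
    have hz : Fusion.AbMem 0 ⊤ (Subgroup.zpowers x) :=
      ⟨le_top, Fusion.isMulCommutative_of_forall fun a ha b hb => by
        obtain ⟨i, rfl⟩ := ha
        obtain ⟨j, rfl⟩ := hb
        exact Commute.zpow_zpow_self x i j, fun a _ => pow_zero a⟩
    have h1 := hA.max _ hz
    have hA0 : A = ⊥ := by
      rw [jW, Fusion.thompsonSubgroupAOf_eq] at h
      exact le_bot_iff.1 ((le_sSup (a := A) hA).trans h.le)
    rw [hA0, Subgroup.card_bot] at h1
    have h2 : Subgroup.zpowers x = ⊥ := Subgroup.eq_bot_of_card_le _ h1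
    exact hx (Subgroup.mem_bot.1 (h2 ▸ Subgroup.mem_zpowers x))
  · rw [jW, jW, thompsonSubgroupAOf_map φ.injective, Subgroup.map_top_of_surjective _ φ.surjective]

theorem posFunctor_zjW [Fact p.Prime] : PosFunctor.{u} p zjW := by
  refine ⟨fun Q _ _ hQ hn h => ?_, fun Q R _ _ _ _ φ => ?_⟩
  · set J := thompsonSubgroupAOf (⊤ : Subgroup Q)
    haveI : Nontrivial J :=
      (Subgroup.nontrivial_iff_ne_bot _).2 (posFunctor_jW.ne_bot Q hQ hn)
    haveI := (hQ.to_subgroup J).center_nontrivial
    obtain ⟨⟨z, hz⟩, hz1⟩ := exists_ne (1 : Subgroup.center J)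
    have hmem : (z : Q) ∈ zjW Q := ⟨z.2, Subgroup.mem_centralizer_iff.2 fun y hy =>
      congrArg Subtype.val (Subgroup.mem_center_iff.1 hz ⟨y, hy⟩)⟩
    rw [h, Subgroup.mem_bot] at hmem
    exact hz1 (Subtype.ext (Subtype.ext hmem))
  · rw [zjW, zjW, centerThompsonAOf_map φ.injective, Subgroup.map_top_of_surjective _ φ.surjective]

/-- The values of a functor are characteristic. -/
theorem wsub_characteristic (hW : PosFunctor p W) [Finite T] (hT : IsPGroup p T) :
    ((wsub W T).subgroupOf T).Characteristic := by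
  rw [wsub, Subgroup.subgroupOf, Subgroup.comap_map_eq_self_of_injective T.subtype_injective]
  exact Subgroup.characteristic_iff_map_eq.2 fun φ => hW.map_eq T T hT φ

/-- The Glauberman–Thompson theorem for groups. -/
theorem hasNormalPComplement_zj [Fact p.Prime] (hp : p ≠ 2) {G : Type u} [Group G] [Finite G]
    (P : Sylow p G)
    (hN : HasNormalPComplement p
      ↥(Subgroup.normalizer (centerThompsonAOf (P : Subgroup G) : Set G))) :
    HasNormalPComplement p G := by
  have hW : IsCharPFunctor.{u} p zjW :=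
    ⟨(posFunctor_zjW (p := p)).ne_bot, (posFunctor_zjW (p := p)).map_eq⟩
  refine KInf.hasNormalPComplement_of_minimal hW (fun Y _ _ _ hC _ hab T _ _ hn => hn ?_) P ?_
  · show (wsub zjW (T : Subgroup Y)).Normal
    rw [wsub_zjW, Fusion.centerThompsonAOf_eq_zInter]
    exact Fusion.normal_zInter hp (Or.inl rfl)
      (Fusion.pStableNormal_of_isNormalizerPStable (KInf.isNormalizerPStable_of_abTop hab hp))
      (Fusion.isStronglyClosed_self T) hC
  · show HasNormalPComplement p ↥(Subgroup.normalizer (wsub zjW (P : Subgroup G) : Set G))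
    rw [wsub_zjW]
    exact hN

/-- The system is inner at the value of the functor. -/
def WHyp (W : ∀ (Q : Type u) [Group Q], Subgroup Q) {Ω : Type u} [Group Ω] {S : Subgroup Ω}
    (F : FusionSystem S) : Prop :=
  InnerAt F (wsub W S)

/-- A functor with a normal `p`-complement theorem gives an inner condition. -/
theorem innerCond_functor [Fact p.Prime] (hW : PosFunctor p W)
    (hloc : ∀ (L : Type u) [Group L] [Finite L] (P : Sylow p L),
      Subgroup.centralizer ((pCore p L : Subgroup L) : Set L) ≤ pCore p L →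
      Subgroup.normalizer ((wsub W (P : Subgroup L) : Subgroup L) : Set L) ≤ P →
      HasNormalPComplement p L) :
    InnerCond.{u} p (fun {Ω} _ {S} _ => True) (fun {Ω} _ {S} F => WHyp W F) where
  mono F D hT hD h := by
    subst hT
    exact innerAt_of_subsystem rfl hD h
  good {Ω} _ {S} _ F hS _ hne h :=
    h _ (wsub_le W S) (wsub_ne_bot hW hS hne) (wsub_characteristic hW hS)
  centric {Ω} _ {S} _ F hS hF _ Q hQn hQc h := by
    obtain ⟨L, hL, ι, hι, -⟩ := exists_model hS hF hQn hQc
    haveI : Finite L := hι.1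
    obtain ⟨P, hP⟩ := hι.2.2.1
    have hinj := hι.2.1.1
    have hWle : wsub W S ≤ S := wsub_le W S
    have hSW : S ≤ Subgroup.normalizer (wsub W S : Set Ω) := fun s hs =>
      (normalizerIn_le_normalizerIn_wsub hW le_rfl hS (le_normalizerIn le_rfl hs)).2
    have himg : ((wsub W S).subgroupOf S).map ι = wsub W (P : Subgroup L) := by
      let e : S ≃* (P : Subgroup L) :=
        (MonoidHom.ofInjective hinj).trans (MulEquiv.subgroupCongr hP.symm)
      rw [wsub, wsub, Subgroup.subgroupOf,
        Subgroup.comap_map_eq_self_of_injective S.subtype_injective,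
        ← hW.map_eq S _ hS e, Subgroup.map_map]
      rfl
    have hle : Subgroup.normalizer ((wsub W (P : Subgroup L) : Subgroup L) : Set L) ≤ P :=
      fun l hl => by
        rw [hP]
        exact model_normalizer_le hι hQn hQc hWle hSW h (by rwa [himg])
    have hp := KInf.isPGroup_of_selfCentral_of_complement hι.2.2.2 (hloc L P hι.2.2.2 hle)
    refine allInner_of_model_range hι.2.1 fun l => ?_
    rw [← hP, ← P.3 (hp.to_subgroup ⊤) le_top]
    exact Subgroup.mem_top l

theorem innerCond_zjW [Fact p.Prime] (hp : p ≠ 2) :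
    InnerCond.{u} p (fun {Ω} _ {S} _ => True) (fun {Ω} _ {S} F => WHyp zjW F) :=
  innerCond_functor posFunctor_zjW fun L _ _ P _ hle => by
    refine hasNormalPComplement_zj hp P (Fusion.hasNormalPComplement_of_isPGroup ?_)
    rw [← wsub_zjW]
    exact P.2.to_le hle

/-- The Glauberman–Thompson criterion for fusion systems. -/
theorem allInner_of_zj [Fact p.Prime] (hp : p ≠ 2) [Finite S] (hS : IsPGroup p S)
    (hF : F.IsSaturated p) (h : InnerAt F (centerThompsonAOf S)) : AllInner F :=
  allInner_of_cond hereditary_true (innerCond_zjW hp) hS hF trivial (by unfold WHyp; rw [wsub_zjW]; exact h)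

theorem centerThompsonAOf_ne_bot [Fact p.Prime] [Finite S] (hS : IsPGroup p S) (h : S ≠ ⊥) :
    centerThompsonAOf S ≠ ⊥ := wsub_zjW S ▸ wsub_ne_bot posFunctor_zjW hS h

end Cfsg.Agent.FusSys
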