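import Cfsg.Agent.FusSys.GTRelGroup

/-!
Glauberman–Thompson criteria relative to a strongly closed subgroup and to a replacement family.
-/

set_option autoImplicit false

namespace Cfsg.Agent.FusSys.GTRel

open Cfsg Cfsg.FusionSystem Cfsg.Agent.FusSys
open scoped commutatorElement

universe u

variable {Ω : Type u} [Group Ω] {S T D : Subgroup Ω} {F : FusionSystem S} {p : ℕ}

theorem centerThompsonAOf_le (D : Subgroup Ω) : centerThompsonAOf D ≤ D := by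
  unfold centerThompsonAOf
  refine inf_le_left.trans ?_
  rw [Fusion.thompsonSubgroupAOf_eq]
  exact sSup_le fun B hB => hB.le

theorem mem_normalizer_centerThompsonAOf {g : Ω} (hg : g ∈ Subgroup.normalizer (D : Set Ω)) :
    g ∈ Subgroup.normalizer (centerThompsonAOf D : Set Ω) := by
  rw [Subgroup.mem_normalizer_iff_map_conj_eq] at hg ⊢
  exact (centerThompsonAOf_map (MulAut.conj g).injective D).trans (congrArg centerThompsonAOf hg)

theorem le_normalizer_zj (hD : F.StronglyClosed D) :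
    S ≤ Subgroup.normalizer (centerThompsonAOf D : Set Ω) := fun _ hs =>
  mem_normalizer_centerThompsonAOf (StronglyClosed.le_normalizer hD hs)

/-- A replacement family for a fusion system. -/
structure FFam (F : FusionSystem S) (𝒜 : Set (Subgroup Ω)) : Prop where
  le : ∀ A ∈ 𝒜, A ≤ S
  comm : ∀ A ∈ 𝒜, ∀ a ∈ A, ∀ b ∈ A, Commute a b
  ne : 𝒜.Nonempty
  inv : ∀ Q : Subgroup Ω, Q ≤ S → (∃ A ∈ 𝒜, A ≤ Q) → ∀ α ∈ F.autGroup Q,
    ∀ x ∈ inter 𝒜 Q, apl α x ∈ inter 𝒜 Q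
  rep : ∀ B : Subgroup Ω, B ≤ S → ⁅⁅B, B⁆, B⁆ = ⊥ → (∃ A ∈ 𝒜, ⁅B, B⁆ ≤ A ∧ ¬ B ≤ A) →
    ∃ A ∈ 𝒜, ⁅B, B⁆ ≤ A ∧ ¬ B ≤ A ∧ B ≤ Subgroup.normalizer (A : Set Ω)

theorem mem_inter' {𝒜 : Set (Subgroup Ω)} {Q : Subgroup Ω} {x : Ω} :
    x ∈ inter 𝒜 Q ↔ ∀ A ∈ 𝒜, A ≤ Q → x ∈ A := by
  simp only [inter, Subgroup.mem_iInf]
  exact ⟨fun h A hA hAQ => h A ⟨hA, hAQ⟩, fun h A hA => h A hA.1 hA.2⟩

theorem FFam.inter_le {𝒜 : Set (Subgroup Ω)} (h : FFam F 𝒜) : inter 𝒜 S ≤ S := by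
  obtain ⟨A, hA⟩ := h.ne
  exact fun x hx => h.le A hA (mem_inter'.1 hx A hA (h.le A hA))

theorem FFam.le_normalizer [Finite S] {𝒜 : Set (Subgroup Ω)} (h : FFam F 𝒜) :
    S ≤ Subgroup.normalizer (inter 𝒜 S : Set Ω) := by
  haveI := finite_of_le h.inter_le
  obtain ⟨A, hA⟩ := h.ne
  intro s hs
  refine mem_normalizer_of_maps fun x hx => ?_
  have hiso : Iso F S S (fun x => s * x * s⁻¹) := iso_conj_self le_rfl hs (Subgroup.le_normalizer hs)
  obtain ⟨α, hα, hαx⟩ := hiso.exists_mem_autGroup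
  have h1 := h.inv S le_rfl ⟨A, hA, h.le A hA⟩ α hα x hx
  rwa [hαx x (h.inter_le hx)] at h1

/-- The condition: inner at `Z(J(D))` for a strongly closed `D`, or at the intersection of a
replacement family. -/
def RelHyp {Ω : Type u} [Group Ω] {S : Subgroup Ω} (F : FusionSystem S) : Prop :=
  (∃ D : Subgroup Ω, F.StronglyClosed D ∧ InnerAt F (centerThompsonAOf D)) ∨
    ∃ 𝒜 : Set (Subgroup Ω), FFam F 𝒜 ∧ InnerAt F (inter 𝒜 S)

theorem isStronglyClosed_image [Fact p.Prime] {L : Type*} [Group L] {ι : S →* L}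
    (hM : F.IsModel p L ι) {P : Sylow p L} (hP : (P : Subgroup L) = ι.range)
    (hD : F.StronglyClosed D) :
    Cfsg.IsStronglyClosed ((D.subgroupOf S).map ι) (P : Subgroup L) := by
  refine ⟨hP ▸ Subgroup.map_le_range ι _, ?_⟩
  rintro _ ⟨x, hx, rfl⟩ g hg
  rw [hP] at hg
  obtain ⟨y, hy⟩ := hg
  have hle : Subgroup.zpowers (x : Ω) ≤ S := Subgroup.zpowers_le.2 x.2
  have hxy : pullConj ι g (x : Ω) = (y : Ω) := pullConj_eq hM.2.1.1 hy.symm
  have hm : Mor F (Subgroup.zpowers (x : Ω)) (pullConj ι g) := by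
    have hz : ∀ z ∈ Subgroup.zpowers (x : Ω), ∀ h : z ∈ S,
        ∃ w : S, g * ι ⟨z, h⟩ * g⁻¹ = ι w := by
      intro z hz h
      obtain ⟨k, rfl⟩ := Subgroup.mem_zpowers_iff.1 hz
      refine ⟨y ^ k, ?_⟩
      rw [show (⟨(x : Ω) ^ k, h⟩ : S) = x ^ k from Subtype.ext (by simp), map_zpow, map_zpow, hy,
        conj_zpow]
    refine (mor_realized hM.2.1).2 ⟨hle, fun z hz' => ?_, g, fun z hz' => ?_⟩
    · obtain ⟨w, hw⟩ := hz z hz' (hle hz')
      rw [show pullConj ι g z = (w : Ω) from pullConj_eq hM.2.1.1 hw]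
      exact w.2
    · obtain ⟨w, hw⟩ := hz z hz' z.2
      rw [pullConj_eq hM.2.1.1 hw, thFn_coe, hw]
  refine ⟨y, ?_, hy⟩
  show (y : Ω) ∈ D
  rw [← hxy]
  exact StronglyClosed.mor_mem hD hm (Subgroup.mem_zpowers _) hx

theorem top_le_of_zjD [Fact p.Prime] (hp : p ≠ 2) [Finite S] {L : Type u} [Group L] [Finite L]
    {ι : S →* L} (hM : F.IsModel p L ι) {Q : Subgroup Ω} (hQn : F.IsNormal Q) (hQc : F.IsCentric Q)
    {P : Sylow p L} (hP : (P : Subgroup L) = ι.range) (hD : F.StronglyClosed D)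
    (h : InnerAt F (centerThompsonAOf D)) : (⊤ : Subgroup L) ≤ P := by
  have himg : ((centerThompsonAOf D).subgroupOf S).map ι =
      centerThompsonAOf ((D.subgroupOf S).map ι) := by
    rw [← centerThompsonAOf_map hM.2.1.1]
    congr 1
    conv_lhs => rw [show D = (D.subgroupOf S).map S.subtype from
      (Subgroup.map_subgroupOf_eq_of_le hD.1).symm, ← centerThompsonAOf_map S.subtype_injective,
      Subgroup.subgroupOf, Subgroup.comap_map_eq_self_of_injective S.subtype_injective]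
  refine le_sylow_of_zjD hp P hM.2.2.2 (isStronglyClosed_image hM hP hD) fun l hl => ?_
  rw [hP]
  exact model_normalizer_le hM hQn hQc ((centerThompsonAOf_le D).trans hD.1) (le_normalizer_zj hD) h
    (by rwa [himg])

theorem top_le_of_fam [Fact p.Prime] (hp : p ≠ 2) [Finite S] {L : Type u} [Group L] [Finite L]
    {ι : S →* L} (hM : F.IsModel p L ι) {Q₀ : Subgroup Ω} (hQn : F.IsNormal Q₀)
    (hQc : F.IsCentric Q₀) {P : Sylow p L} (hP : (P : Subgroup L) = ι.range)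
    {𝒜 : Set (Subgroup Ω)} (hA : FFam F 𝒜) (h : InnerAt F (inter 𝒜 S)) :
    (⊤ : Subgroup L) ≤ P := by
  have hinj := hM.2.1.1
  let Φ : Subgroup Ω → Subgroup L := fun X => (X.subgroupOf S).map ι
  let Ψ : Subgroup L → Subgroup Ω := fun Y => (Y.comap ι).map S.subtype
  have hΨle : ∀ Y, Ψ Y ≤ S := fun Y => Subgroup.map_subtype_le _
  have hΦle : ∀ X, Φ X ≤ (P : Subgroup L) := fun X => hP ▸ Subgroup.map_le_range ι _
  have hmemΦ : ∀ (X : Subgroup Ω) (x : S), ι x ∈ Φ X ↔ (x : Ω) ∈ X := fun X x => by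
    rw [Subgroup.mem_map_iff_mem hinj]; exact Subgroup.mem_subgroupOf
  have hmemΨ : ∀ (Y : Subgroup L) (x : S), (x : Ω) ∈ Ψ Y ↔ ι x ∈ Y := fun Y x =>
    Subgroup.mem_map_iff_mem (f := S.subtype) S.subtype_injective
  have hsurj : ∀ {Y : Subgroup L}, Y ≤ (P : Subgroup L) → ∀ {y : L}, y ∈ Y → ∃ x : S, ι x = y :=
    fun hY y hy => MonoidHom.mem_range.1 (hP ▸ hY hy)
  have hΦΨ : ∀ Y : Subgroup L, Y ≤ (P : Subgroup L) → Φ (Ψ Y) = Y := by
    intro Y hY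
    ext y
    constructor
    · rintro ⟨x, hx, rfl⟩
      exact (hmemΨ Y x).1 hx
    · intro hy
      obtain ⟨x, rfl⟩ := hsurj hY hy
      exact ⟨x, (hmemΨ Y x).2 hy, rfl⟩
  have hΦmono : ∀ {X X'}, X ≤ X' → Φ X ≤ Φ X' := fun h => Subgroup.map_mono (Subgroup.comap_mono h)
  have hΦrefl : ∀ {X X'}, X ≤ S → Φ X ≤ Φ X' → X ≤ X' := fun hX h x hx =>
    (hmemΦ _ ⟨x, hX hx⟩).1 (h ((hmemΦ _ ⟨x, hX hx⟩).2 hx))
  have hΦcomm : ∀ X Y : Subgroup Ω, X ≤ S → Y ≤ S → Φ ⁅X, Y⁆ = ⁅Φ X, Φ Y⁆ := by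
    intro X Y hX hY
    show ((⁅X, Y⁆ : Subgroup Ω).subgroupOf S).map ι = _
    rw [show (⁅X, Y⁆ : Subgroup Ω) = (⁅X.subgroupOf S, Y.subgroupOf S⁆ : Subgroup S).map S.subtype by
      rw [Subgroup.map_commutator, Subgroup.map_subgroupOf_eq_of_le hX,
        Subgroup.map_subgroupOf_eq_of_le hY]]
    rw [Subgroup.subgroupOf, Subgroup.comap_map_eq_self_of_injective S.subtype_injective,
      Subgroup.map_commutator]
  set 𝒜L : Set (Subgroup L) := Φ '' 𝒜 with h𝒜L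
  have hin : ∀ (Y : Subgroup L) (x : S), Y ≤ (P : Subgroup L) →
      (ι x ∈ inter 𝒜L Y ↔ (x : Ω) ∈ inter 𝒜 (Ψ Y)) := by
    intro Y x hY
    rw [mem_inter, mem_inter']
    constructor
    · intro h A hA' hAY
      exact (hmemΦ A x).1 (h _ ⟨A, hA', rfl⟩ (by rw [← hΦΨ Y hY]; exact hΦmono hAY))
    · rintro h _ ⟨A, hA', rfl⟩ hAY
      exact (hmemΦ A x).2 (h A hA' (hΦrefl (hA.le A hA') (by rw [hΦΨ Y hY]; exact hAY)))
  have hfam : Fam (P : Subgroup L) 𝒜L := by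
    refine ⟨fun A hA' => ?_, fun A hA' a ha b hb => ?_, hA.ne.image _, fun Y hY hAY g hg y hy => ?_,
      fun B hB hcl hAB => ?_⟩
    · obtain ⟨A, -, rfl⟩ := hA'
      exact hΦle A
    · obtain ⟨A, hA'', rfl⟩ := hA'
      obtain ⟨a, ha, rfl⟩ := ha
      obtain ⟨b, hb, rfl⟩ := hb
      show ι a * ι b = ι b * ι a
      rw [← map_mul, ← map_mul]
      exact congrArg ι (Subtype.ext (hA.comm A hA'' a ha b hb).eq)
    · obtain ⟨_, ⟨A, hA', rfl⟩, hAY⟩ := hAY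
      have hyY : y ∈ Y := hAY (mem_inter.1 hy _ ⟨A, hA', rfl⟩ hAY)
      obtain ⟨x, rfl⟩ := hsurj hY hyY
      rw [hin Y x hY] at hy
      have hAΨ : A ≤ Ψ Y := hΦrefl (hA.le A hA') (by rw [hΦΨ Y hY]; exact hAY)
      -- conjugation by `g` as an automorphism of `Ψ Y`
      have hcl : ∀ z ∈ Ψ Y, ∃ w : S, (w : Ω) ∈ Ψ Y ∧ pullConj ι g z = w ∧
          ∀ h : z ∈ S, g * ι ⟨z, h⟩ * g⁻¹ = ι w := by
        intro z hz
        have hzY : ι ⟨z, hΨle Y hz⟩ ∈ Y := (hmemΨ Y _).1 hz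
        have hgz := (Subgroup.mem_normalizer_iff.1 hg _).1 hzY
        obtain ⟨w, hw⟩ := hsurj hY hgz
        exact ⟨w, (hmemΨ Y w).2 (hw ▸ hgz), pullConj_eq hinj (x := ⟨z, hΨle Y hz⟩) hw.symm,
          fun _ => hw.symm⟩
      have hm : Mor F (Ψ Y) (pullConj ι g) := by
        refine (mor_realized hM.2.1).2 ⟨hΨle Y, fun z hz => ?_, g, fun z hz => ?_⟩
        · obtain ⟨w, -, hw, -⟩ := hcl z hz
          exact hw ▸ w.2
        · obtain ⟨w, -, hw, hw'⟩ := hcl z hz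
          rw [hw, thFn_coe]
          exact (hw' z.2).symm
      have hmaps : ∀ z ∈ Ψ Y, pullConj ι g z ∈ Ψ Y := fun z hz => by
        obtain ⟨w, hwY, hw, -⟩ := hcl z hz
        exact hw ▸ hwY
      obtain ⟨α, hα, hαx⟩ := Iso.exists_mem_autGroup (show Iso F (Ψ Y) (Ψ Y) (pullConj ι g) from
        ⟨hm, fun z => ⟨fun hz => hm.surj_of_card (hΨle Y) hmaps le_rfl hz,
          fun ⟨v, hv, hvz⟩ => hvz ▸ hmaps v hv⟩⟩)
      have hxΨ : (x : Ω) ∈ Ψ Y := (hmemΨ Y x).2 hyY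
      obtain ⟨w, -, hw, hw'⟩ := hcl x hxΨ
      have h1 := hA.inv (Ψ Y) (hΨle Y) ⟨A, hA', hAΨ⟩ α hα x hy
      rw [hαx x hxΨ, hw, ← hin Y w hY] at h1
      rw [hw' x.2]
      exact h1
    · obtain ⟨_, ⟨A, hA', rfl⟩, h1, h2⟩ := hAB
      have hBΨ := hΨle B
      have hcom : Φ ⁅Ψ B, Ψ B⁆ = ⁅B, B⁆ := by rw [hΦcomm _ _ hBΨ hBΨ, hΦΨ B hB]
      have hcS : ⁅Ψ B, Ψ B⁆ ≤ S := (Subgroup.commutator_le_self _).trans hBΨ
      have hcl' : ⁅⁅Ψ B, Ψ B⁆, Ψ B⁆ = ⊥ := by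
        refine le_bot_iff.1 (hΦrefl ?_ ?_)
        · exact ((Subgroup.commutator_mono (Subgroup.commutator_le_self _) le_rfl).trans
            (Subgroup.commutator_le_self _)).trans hBΨ
        · rw [hΦcomm _ _ hcS hBΨ, hcom, hΦΨ B hB, hcl]
          exact bot_le
      obtain ⟨A₁, hA₁, h3, h4, h5⟩ := hA.rep (Ψ B) hBΨ hcl'
        ⟨A, hA', hΦrefl hcS (hcom.symm ▸ h1), fun h => h2 (hΦΨ B hB ▸ hΦmono h)⟩
      refine ⟨Φ A₁, ⟨A₁, hA₁, rfl⟩, hcom ▸ hΦmono h3, fun h => h4 (hΦrefl hBΨ (by rw [hΦΨ B hB]; exact h)),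
        fun b hb => ?_⟩
      obtain ⟨b, rfl⟩ := hsurj hB hb
      haveI : Finite (Φ A₁) := Subtype.finite
      refine mem_normalizer_of_maps ?_
      rintro _ ⟨a, ha, rfl⟩
      rw [← map_inv, ← map_mul, ← map_mul, hmemΦ]
      exact (Subgroup.mem_normalizer_iff.1 (h5 ((hmemΨ B b).2 hb)) a).1 ha
  refine le_sylow_of_fam hp hfam hM.2.2.2 fun l hl => ?_
  rw [hP]
  refine model_normalizer_le hM hQn hQc hA.inter_le hA.le_normalizer h ?_
  have hΨP : Ψ (P : Subgroup L) = S := le_antisymm (hΨle _) fun x hx =>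
    (hmemΨ _ ⟨x, hx⟩).2 (hP ▸ MonoidHom.mem_range.2 ⟨_, rfl⟩)
  have e : ((inter 𝒜 S).subgroupOf S).map ι = inter 𝒜L (P : Subgroup L) := by
    ext y
    constructor
    · rintro ⟨x, hx, rfl⟩
      refine (hin _ x le_rfl).2 ?_
      rw [hΨP]
      exact hx
    · intro hy
      obtain ⟨A, hA'⟩ := hA.ne
      obtain ⟨x, rfl⟩ := hsurj (hΦle A) (mem_inter.1 hy _ ⟨A, hA', rfl⟩ (hΦle A))
      have h1 := (hin _ x le_rfl).1 hy
      rw [hΨP] at h1
      exact (hmemΦ _ x).2 h1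
  rwa [e]

theorem innerCond_rel [Fact p.Prime] (hp : p ≠ 2) :
    InnerCond.{u} p (fun {Ω} _ {S} _ => True) (fun {Ω} _ {S} F => RelHyp F) where
  mono := by
    intro Ω _ S T F D hT hD h
    subst hT
    rcases h with ⟨V, hV, h⟩ | ⟨𝒜, h𝒜, h⟩
    · exact Or.inl ⟨V, ⟨hV.1, fun R hR φ hφ x => hV.2 R hR φ (hD R hφ) x⟩,
        innerAt_of_subsystem rfl hD h⟩
    · refine Or.inr ⟨𝒜, ⟨h𝒜.le, h𝒜.comm, h𝒜.ne, fun Q hQ hA α hα => ?_, h𝒜.rep⟩,
        innerAt_of_subsystem rfl hD h⟩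
      exact h𝒜.inv Q hQ hA α
        ((mem_autGroup_iff hQ).2 ⟨isSubsystemOf_iff_mor.1 hD _ _ (iso_apl hQ hα).1, (iso_apl hQ hα).2⟩)
  good {Ω} _ {S} _ F hS _ hne h := by
    refine Or.inl ⟨S, stronglyClosed_iff.2 ⟨le_rfl, fun R f _ hf x hx => hf.mem_S hx⟩,
      h _ (centerThompsonAOf_le S) (centerThompsonAOf_ne_bot hS hne) ?_⟩
    rw [← wsub_zjW]
    exact wsub_characteristic posFunctor_zjW hS
  centric {Ω} _ {S} _ F hS hF _ Q hQn hQc h := by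
    obtain ⟨L, hL, ι, hι, -⟩ := exists_model hS hF hQn hQc
    haveI : Finite L := hι.1
    obtain ⟨P, hP⟩ := hι.2.2.1
    refine allInner_of_model_range hι.2.1 fun l => ?_
    rw [← hP]
    rcases h with ⟨D, hD, h⟩ | ⟨𝒜, h𝒜, h⟩
    · exact top_le_of_zjD hp hι hQn hQc hP hD h (Subgroup.mem_top l)
    · exact top_le_of_fam hp hι hQn hQc hP h𝒜 h (Subgroup.mem_top l)

theorem allInner_of_rel [Fact p.Prime] (hp : p ≠ 2) [Finite S] (hS : IsPGroup p S)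
    (hF : F.IsSaturated p) (h : RelHyp F) : AllInner F :=
  allInner_of_cond hereditary_true (innerCond_rel hp) hS hF trivial h

theorem allInner_iff_normalizer [Finite S] {V : Subgroup Ω} (hV : V ≤ S)
    (hn : S ≤ Subgroup.normalizer (V : Set Ω)) (h : InnerAt F V → AllInner F) :
    (∀ P : Subgroup Ω, F.Hom P = (innerFusionSystem S).Hom P) ↔
      ∀ N : FusionSystem (normalizerIn S V), F.IsNormalizerSystem V N →
        ∀ P : Subgroup Ω, N.Hom P = (innerFusionSystem (normalizerIn S V)).Hom P := by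
  refine ⟨fun hi N hN => allInner_iff.1 (allInner_normalizer_of_innerAt (normalizerIn_eq_of_le hn) hN
    ((allInner_iff.2 hi).innerAt V)), fun hi => allInner_iff.1 (h ?_)⟩
  exact innerAt_of_allInner_normalizer hV fun N hN => allInner_iff.2 (hi N hN)

end Cfsg.Agent.FusSys.GTRel
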