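import Cfsg.Agent.FusSys.GT

/-!
Groups with `C(O_p) ≤ O_p` and Glauberman–Thompson type criteria relative to a strongly closed subgroup
or to a replacement family of abelian subgroups.
-/

set_option autoImplicit false

namespace Cfsg.Agent.FusSys.GTRel

open Subgroup
open scoped commutatorElement

universe u

variable {G : Type u} [Group G] [Finite G] {p : ℕ} [Fact p.Prime]

theorem constrained_of_le (P : Sylow p G) (hC : centralizer (pCore p G : Set G) ≤ pCore p G)
    {H : Subgroup G} (hH : (P : Subgroup G) ≤ H) :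
    centralizer (pCore p H : Set H) ≤ pCore p H := by
  have hle : (pCore p G).subgroupOf H ≤ pCore p H :=
    Core.le_pCore (hN := Normal.subgroupOf inferInstance H) (Core.pCore_isPGroup.comap_subtype)
  intro h hh
  refine hle (mem_subgroupOf.mpr (hC (mem_centralizer_iff.mpr fun x hx => ?_)))
  have hxH : x ∈ H := hH (Core.pCore_le_sylow P hx)
  exact congrArg Subtype.val (mem_centralizer_iff.mp hh ⟨x, hxH⟩ (hle (mem_subgroupOf.mpr hx)))

theorem pStableNormal_of_normal_sylow (P : Sylow p G) (hP : (P : Subgroup G).Normal) :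
    Fusion.PStableNormal p G := by
  intro B _ _ a ha _ T
  obtain ⟨Q, hQ⟩ := ha.exists_le_sylow
  have hQT : Q = T := by
    obtain ⟨g, hg⟩ := MulAction.exists_smul_eq G P Q
    obtain ⟨g', hg'⟩ := MulAction.exists_smul_eq G P T
    rw [← hg, ← hg', Sylow.smul_eq_iff_mem_normalizer.mpr (normalizer_eq_top_iff.mpr hP ▸ mem_top g),
      Sylow.smul_eq_iff_mem_normalizer.mpr (normalizer_eq_top_iff.mpr hP ▸ mem_top g')]
  subst hQT
  have hn : (Q : Subgroup G).Normal := by
    obtain ⟨g, hg⟩ := MulAction.exists_smul_eq G P Q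
    rw [← hg, Sylow.smul_eq_iff_mem_normalizer.mpr (normalizer_eq_top_iff.mpr hP ▸ mem_top g)]
    exact hP
  exact normal_le_normalCore.mpr le_sup_left (hQ (mem_zpowers a))

/-- A group with `C(O_p) ≤ O_p` and a maximal nonnormal Sylow subgroup has an abelian top. -/
theorem abTop_of_coatom (hp : p ≠ 2) (P : Sylow p G)
    (hco : IsCoatom (P : Subgroup G)) (hnP : ¬ (P : Subgroup G).Normal) : KInf.AbTop p G := by
  have hPmax : ∀ H : Subgroup G, (P : Subgroup G) ≤ H → H ≠ ⊤ → H ≤ (P : Subgroup G) :=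
    fun H hH ht => by_contra fun h => ht (hco.2 H (lt_of_le_not_ge hH h))
  set O := Cfsg.pCore p G with hO
  have hOp : IsPGroup p O := Core.pCore_isPGroup
  have hOP : O ≤ (P : Subgroup G) := Core.pCore_le_sylow P
  set f := QuotientGroup.mk' O with hf
  have hfs := QuotientGroup.mk'_surjective O
  have hfker : f.ker = O := QuotientGroup.ker_mk' O
  have hfO : ∀ y ∈ O, f y = 1 := fun y hy => (QuotientGroup.eq_one_iff y).mpr hy
  have hcomap : ∀ X : Subgroup (G ⧸ O), O ≤ X.comap f := fun X y hy =>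
    mem_comap.mpr ((hfO y hy).symm ▸ one_mem X)
  set Pb : Subgroup (G ⧸ O) := (P : Subgroup G).map f with hPb
  have hPbp : IsPGroup p Pb := P.2.map f
  have hback : Pb.comap f = (P : Subgroup G) := by
    rw [hPb, Subgroup.comap_map_eq, hfker, sup_eq_left.mpr hOP]
  -- the quotient has a normal `p`-complement
  have hQ : Cfsg.HasNormalPComplement p (G ⧸ O) := by
    refine hasNormalPComplement_zj hp (P.mapSurjective hfs) ?_
    rw [Sylow.coe_mapSurjective, ← hPb]
    set X := centerThompsonAOf Pb with hXdef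
    have hXn : Pb ≤ normalizer (X : Set (G ⧸ O)) := fun y hy => by
      rw [hXdef, Fusion.centerThompsonAOf_eq_zInter Pb]
      exact Fusion.mem_normalizer_zInter (le_normalizer hy)
    have hXle : X ≤ Pb := by
      rw [hXdef, Fusion.centerThompsonAOf_eq_zInter Pb]
      exact Fusion.zInter_le 0 Pb
    refine Fusion.hasNormalPComplement_of_isPGroup (hPbp.to_le fun y hy => ?_)
    rcases eq_or_ne ((normalizer (X : Set (G ⧸ O))).comap f) ⊤ with ht | ht
    · exfalso
      have hN : normalizer (X : Set (G ⧸ O)) = ⊤ := by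
        rw [← map_comap_eq_self_of_surjective hfs (normalizer (X : Set (G ⧸ O))), ht,
          map_top_of_surjective f hfs]
      haveI hXN : X.Normal := normalizer_eq_top_iff.mp hN
      have hX1 : X = ⊥ := by
        have h1 : (X.comap f) ≤ O := by
          refine Core.le_pCore (hN := hXN.comap f) (P.2.to_le ?_)
          rw [← hback]; exact Subgroup.comap_mono hXle
        rw [← map_comap_eq_self_of_surjective hfs X, Subgroup.map_eq_bot_iff, hfker]
        exact h1
      have hPb1 : Pb = ⊥ := by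
        by_contra h
        exact centerThompsonAOf_ne_bot hPbp h hX1
      refine hnP ?_
      have hPO : (P : Subgroup G) = O := le_antisymm (by
        rw [← hfker, ← Subgroup.map_eq_bot_iff, ← hPb]; exact hPb1) hOP
      rw [hPO]
      infer_instance
    · obtain ⟨x, rfl⟩ := hfs y
      exact mem_map_of_mem f (hPmax _ (hback ▸ Subgroup.comap_mono hXn) ht hy)
  set Mb := Cfsg.pResidual p (G ⧸ O) with hMb
  have hMbc : (Nat.card Mb).Coprime p := Fusion.coprime_card_pResidual_of_hasNormalPComplement hQ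
  set M := Mb.comap f with hM
  have hMn : M.Normal := Normal.comap inferInstance f
  have htop : Mb ⊔ Pb = ⊤ := by
    have := Fusion.sylow_sup_pResidual (P.mapSurjective hfs)
    rwa [Sylow.coe_mapSurjective, sup_comm] at this
  have hdisj : Pb ⊓ Mb = ⊥ := Layer.inf_eq_bot_of_isPGroup hPbp hMbc
  have hmin : ∀ X : Subgroup (G ⧸ O), X ≤ Mb → Pb ≤ normalizer (X : Set (G ⧸ O)) →
      X = ⊥ ∨ X = Mb := by
    intro X hX hXn
    rcases eq_or_ne ((X ⊔ Pb).comap f) ⊤ with ht | ht
    · right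
      have ht' : X ⊔ Pb = ⊤ := by
        rw [← map_comap_eq_self_of_surjective hfs (X ⊔ Pb), ht, map_top_of_surjective f hfs]
      refine le_antisymm hX fun y hy => ?_
      have hy' : y ∈ ((X ⊔ Pb : Subgroup _) : Set (G ⧸ O)) := by rw [ht']; trivial
      rw [coe_mul_of_right_le_normalizer_left _ _ hXn] at hy'
      obtain ⟨a, ha, b, hb, rfl⟩ := hy'
      have : b ∈ Pb ⊓ Mb := ⟨hb, by
        have := mul_mem (Subgroup.inv_mem _ (hX ha)) hy; rwa [inv_mul_cancel_left] at this⟩
      rw [hdisj, mem_bot] at this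
      simpa [this] using ha
    · left
      refine le_bot_iff.mp (hdisj ▸ le_inf ?_ hX)
      have h1 := hPmax _ (fun y hy => mem_comap.mpr (mem_sup_right (mem_map_of_mem f hy))) ht
      intro y hy
      obtain ⟨z, rfl⟩ := hfs y
      exact mem_map_of_mem f (h1 (mem_sup_left hy))
  have hMb1 : Mb ≠ ⊥ := by
    intro h
    rw [h, bot_sup_eq] at htop
    exact hco.1 (by rw [← hback, htop, Subgroup.comap_top])
  have hMbcomm : IsMulCommutative Mb := by
    obtain ⟨q, hq, hqd⟩ := Nat.exists_prime_and_dvd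
      (fun h => hMb1 (eq_bot_of_card_eq Mb h))
    have := Fact.mk hq
    obtain ⟨Y, hY⟩ := Coprime.exists_invariant_sylow (A := Pb) (K := Mb) le_normalizer_of_normal
      (Layer.coprime_card_of_isPGroup hPbp hMbc) (Or.inl (Layer.isSolvable_of_isPGroup hPbp)) q
    have hYtop : (Y : Subgroup Mb).map Mb.subtype = Mb := by
      refine (hmin _ (map_subtype_le _) hY).resolve_left fun h => ?_
      rw [Subgroup.map_eq_bot_iff, ker_subtype, le_bot_iff] at h
      exact Y.ne_bot_of_dvd_card hqd h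
    have hMq : IsPGroup q Mb := hYtop ▸ (Y.2.map Mb.subtype)
    rcases hmin ⁅Mb, Mb⁆ (commutator_le_self Mb) le_normalizer_of_normal with h | h
    · exact ⟨⟨fun a b => Subtype.ext (commutatorElement_eq_one_iff_mul_comm.mp
        (mem_bot.mp (h ▸ commutator_mem_commutator a.2 b.2)))⟩⟩
    · exact absurd h (Fusion.isPGroup_commutator_lt hMq hMb1).ne
  refine ⟨O, M, inferInstance, hMn, hOp, Nat.card Mb, Nat.card_pos, hMbc, ?_, ?_, fun x => ?_⟩
  · intro a ha b hb
    refine (QuotientGroup.eq_one_iff _).mp (show f ⁅a, b⁆ = 1 from ?_)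
    rw [map_commutatorElement, commutatorElement_eq_one_iff_mul_comm]
    exact congrArg (fun z : Mb => (z : G ⧸ O)) (hMbcomm.is_comm.comm ⟨f a, ha⟩ ⟨f b, hb⟩)
  · intro a ha
    refine (QuotientGroup.eq_one_iff _).mp (show f (a ^ Nat.card Mb) = 1 from ?_)
    rw [map_pow]
    exact congrArg (fun z : Mb => (z : G ⧸ O)) (pow_card_eq_one' (x := (⟨f a, ha⟩ : Mb)))
  · obtain ⟨a, ha⟩ := Fusion.isPGroup_quotient_pResidual (p := p) (G := G ⧸ O)
      (QuotientGroup.mk (f x))
    rw [← QuotientGroup.mk_pow, QuotientGroup.eq_one_iff, ← map_pow] at ha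
    exact ⟨a, mem_comap.mpr ha⟩

/-- Reduction to `p`-stable groups above the Sylow subgroup. -/
theorem le_sylow_of_local (hp : p ≠ 2) (P : Sylow p G)
    (hC : centralizer (pCore p G : Set G) ≤ pCore p G) (V : Subgroup G)
    (hN : normalizer (V : Set G) ≤ P)
    (key : ∀ H : Subgroup G, (P : Subgroup G) ≤ H →
      centralizer (pCore p H : Set H) ≤ pCore p H → Fusion.PStableNormal p H →
      H ≤ normalizer (V : Set G)) : (⊤ : Subgroup G) ≤ P := by
  by_contra hne
  obtain ⟨H, hH, hmin⟩ := (Set.toFinite {H : Subgroup G | (P : Subgroup G) < H}).exists_minimalFor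
    (fun H : Subgroup G => Nat.card H) _ ⟨⊤, lt_of_le_not_ge le_top hne⟩
  have hPH : (P : Subgroup G) ≤ H := le_of_lt hH
  have hHP : ¬ H ≤ (P : Subgroup G) := not_le_of_gt hH
  refine hHP ((key H hPH (constrained_of_le P hC hPH) ?_).trans hN)
  set R := P.subtype hPH with hR
  by_cases hRn : (R : Subgroup H).Normal
  · exact pStableNormal_of_normal_sylow R hRn
  refine Fusion.pStableNormal_of_isNormalizerPStable
    (KInf.isNormalizerPStable_of_abTop (abTop_of_coatom hp R ⟨fun h => hHP ?_, fun K hK => ?_⟩ hRn) hp)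
  · rw [hR, Sylow.coe_subtype, subgroupOf_eq_top] at h
    exact h
  · by_contra hKne
    have h1 : (P : Subgroup G) < K.map H.subtype := by
      refine lt_of_le_of_ne ?_ fun e => hK.ne ?_
      · intro x hx
        exact ⟨⟨x, hPH hx⟩, hK.le (by rw [hR, Sylow.coe_subtype, mem_subgroupOf]; exact hx), rfl⟩
      · rw [hR, Sylow.coe_subtype, e, subgroupOf, comap_map_eq_self_of_injective H.subtype_injective]
    have h2 : Nat.card (K.map H.subtype) < Nat.card H := by
      rw [card_map_of_injective H.subtype_injective]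
      exact Core.card_lt_of_ne_top hKne
    exact h2.not_ge (hmin h1 h2.le)

/-- `Z(J(D))` for strongly closed `D`. -/
theorem le_sylow_of_zjD (hp : p ≠ 2) (P : Sylow p G)
    (hC : centralizer (pCore p G : Set G) ≤ pCore p G) {D : Subgroup G}
    (hD : IsStronglyClosed D (P : Subgroup G))
    (hN : normalizer (centerThompsonAOf D : Set G) ≤ P) : (⊤ : Subgroup G) ≤ P := by
  refine le_sylow_of_local hp P hC _ hN fun H hPH hCH hst h hh => ?_
  have hDH : IsStronglyClosed (D.subgroupOf H) ((P.subtype hPH : Sylow p H) : Subgroup H) := by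
    rw [Sylow.coe_subtype]
    exact ⟨fun x hx => hD.1 hx, fun x hx g hg => hD.2 x hx g hg⟩
  haveI hn := Fusion.normal_zInter (e := 0) hp (Or.inl rfl) hst hDH hCH
  have e : (Fusion.zInter 0 (D.subgroupOf H)).map H.subtype = centerThompsonAOf D := by
    rw [Fusion.zInter_map H.subtype_injective, map_subgroupOf_eq_of_le (hD.1.trans hPH),
      Fusion.centerThompsonAOf_eq_zInter]
  rw [← e]
  exact le_normalizer_map H.subtype
    ⟨⟨h, hh⟩, (normalizer_eq_top (H := Fusion.zInter 0 (D.subgroupOf H))).ge (mem_top _), rfl⟩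

/-- The intersection of the members inside `Q`. -/
def inter (𝒜 : Set (Subgroup G)) (Q : Subgroup G) : Subgroup G :=
  ⨅ A ∈ {A : Subgroup G | A ∈ 𝒜 ∧ A ≤ Q}, A

theorem mem_inter {𝒜 : Set (Subgroup G)} {Q : Subgroup G} {x : G} :
    x ∈ inter 𝒜 Q ↔ ∀ A ∈ 𝒜, A ≤ Q → x ∈ A := by
  simp only [inter, mem_iInf]
  exact ⟨fun h A hA hAQ => h A ⟨hA, hAQ⟩, fun h A hA => h A hA.1 hA.2⟩

/-- A replacement family of abelian subgroups of `P`. -/
structure Fam (P : Subgroup G) (𝒜 : Set (Subgroup G)) : Prop where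
  le : ∀ A ∈ 𝒜, A ≤ P
  comm : ∀ A ∈ 𝒜, ∀ a ∈ A, ∀ b ∈ A, Commute a b
  ne : 𝒜.Nonempty
  inv : ∀ Q : Subgroup G, Q ≤ P → (∃ A ∈ 𝒜, A ≤ Q) → ∀ g ∈ normalizer (Q : Set G),
    ∀ x ∈ inter 𝒜 Q, g * x * g⁻¹ ∈ inter 𝒜 Q
  rep : ∀ B : Subgroup G, B ≤ P → ⁅⁅B, B⁆, B⁆ = ⊥ → (∃ A ∈ 𝒜, ⁅B, B⁆ ≤ A ∧ ¬ B ≤ A) →
    ∃ A ∈ 𝒜, ⁅B, B⁆ ≤ A ∧ ¬ B ≤ A ∧ B ≤ normalizer (A : Set G)

variable {S : Sylow p G} {𝒜 : Set (Subgroup G)}

theorem Fam.le_normalizer (hA : Fam (S : Subgroup G) 𝒜) :
    (S : Subgroup G) ≤ normalizer (inter 𝒜 (S : Subgroup G) : Set G) := by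
  intro g hg
  rw [mem_normalizer_iff]
  obtain ⟨A, hA'⟩ := hA.ne
  have h := fun g hg => hA.inv _ le_rfl ⟨A, hA', hA.le A hA'⟩ g (Subgroup.le_normalizer hg)
  refine fun x => ⟨fun hx => h g hg x hx, fun hx => ?_⟩
  have := h g⁻¹ (Subgroup.inv_mem _ hg) _ hx
  simpa [mul_assoc] using this

/-- The intersection of a replacement family is normal in a `p`-stable group with `C(O_p) ≤ O_p`. -/
theorem Fam.normal (hA : Fam (S : Subgroup G) 𝒜) (hst : Fusion.PStableNormal p G)
    (hc : centralizer (pCore p G : Set G) ≤ pCore p G) :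
    (inter 𝒜 (S : Subgroup G)).Normal := by
  set W := inter 𝒜 (S : Subgroup G) with hW
  have hWA : ∀ A ∈ 𝒜, W ≤ A := fun A h x hx => mem_inter.mp hx A h (hA.le A h)
  have hWcomm : ∀ a ∈ W, ∀ b ∈ W, Commute a b := by
    obtain ⟨A, h⟩ := hA.ne
    exact fun a ha b hb => hA.comm A h a (hWA A h ha) b (hWA A h hb)
  have hWS : W ≤ (S : Subgroup G) := by
    obtain ⟨A, h⟩ := hA.ne
    exact (hWA A h).trans (hA.le A h)
  have hSW : (S : Subgroup G) ≤ normalizer (W : Set G) := hA.le_normalizer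
  have hOS : pCore p G ≤ (S : Subgroup G) := Core.pCore_le_sylow S
  have hWO : W ≤ pCore p G := by
    intro x hx
    have hxS : x ∈ (S : Subgroup G) := hWS hx
    have hq : ⁅⁅pCore p G, zpowers x⁆, zpowers x⁆ = ⊥ := by
      refine le_bot_iff.mp ?_
      calc ⁅⁅pCore p G, zpowers x⁆, zpowers x⁆ ≤ ⁅⁅pCore p G, W⁆, W⁆ :=
            commutator_mono (commutator_mono le_rfl (zpowers_le.mpr hx)) (zpowers_le.mpr hx)
        _ ≤ ⁅W, W⁆ := commutator_mono
            (le_normalizer_iff_commutator_le_right.mp (hOS.trans hSW)) le_rfl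
        _ = ⊥ := commutator_eq_bot_iff_le_centralizer.mpr fun y hy =>
            mem_centralizer_iff.mpr fun z hz => (hWcomm z hz y hy).eq
    have h1 := hst _ inferInstance Core.pCore_isPGroup x (S.2.to_le (zpowers_le.mpr hxS)) hq S
    refine Core.le_pCore (N := normalCore (S : Subgroup G)) (S.2.to_le (normalCore_le _)) ?_
    rwa [sup_of_le_left (hc.trans hOS)] at h1
  suffices h : ∀ B : Subgroup G, B.Normal → IsPGroup p B → (B ⊓ W).Normal by
    have := h _ inferInstance Core.pCore_isPGroup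
    rwa [inf_of_le_right hWO] at this
  by_contra hcon
  push Not at hcon
  obtain ⟨B, ⟨hBn, hBp, hBbad⟩, hmin⟩ :=
    (Set.toFinite {B : Subgroup G | B.Normal ∧ IsPGroup p B ∧ ¬ (B ⊓ W).Normal}).exists_minimalFor
      (fun B : Subgroup G => Nat.card B) _ hcon
  haveI := hBn
  have small : ∀ C : Subgroup G, C.Normal → C < B → (C ⊓ W).Normal := by
    intro C hC hlt
    by_contra hb
    have := Core.card_lt_of_lt hlt
    exact this.not_ge (hmin ⟨hC, hBp.to_le hlt.le, hb⟩ this.le)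
  set Z := B ⊓ W with hZ
  have hBS : B ≤ (S : Subgroup G) := (Core.le_pCore hBp).trans (Core.pCore_le_sylow S)
  have hSZ : (S : Subgroup G) ≤ normalizer (Z : Set G) := by
    intro g hg
    rw [mem_normalizer_iff]
    intro x
    show x ∈ B ∧ x ∈ W ↔ g * x * g⁻¹ ∈ B ∧ g * x * g⁻¹ ∈ W
    exact and_congr
      (mem_normalizer_iff.mp (normalizer_eq_top B ▸ mem_top g) x)
      (mem_normalizer_iff.mp (hSW hg) x)
  have hgen : normalClosure (Z : Set G) = B := by
    refine eq_of_le_of_not_lt (normalClosure_le_normal inf_le_left) fun hlt => hBbad ?_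
    have : normalClosure (Z : Set G) ⊓ W = Z :=
      le_antisymm (le_inf (inf_le_left.trans (normalClosure_le_normal inf_le_left)) inf_le_right)
        (le_inf (fun x hx => subset_normalClosure hx) inf_le_right)
    exact this ▸ small _ inferInstance hlt
  have hBbot : B ≠ ⊥ := fun h => hBbad (by rw [hZ, h, bot_inf_eq]; infer_instance)
  have hB'lt : ⁅B, B⁆ < B := Fusion.isPGroup_commutator_lt hBp hBbot
  have hMn : (⁅B, B⁆ ⊓ W).Normal := small _ inferInstance hB'lt
  have hB'W : ⁅B, B⁆ ≤ W := by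
    refine le_trans ?_ (inf_le_right : ⁅B, B⁆ ⊓ W ≤ W)
    let K : Subgroup G :=
      { carrier := {z | z ∈ B ∧ ∀ x ∈ B, ⁅z, x⁆ ∈ ⁅B, B⁆ ⊓ W}
        one_mem' := ⟨one_mem B, fun x _ => by rw [commutatorElement_one_left]; exact one_mem _⟩
        mul_mem' := fun {y z} hy hz => ⟨mul_mem hy.1 hz.1, fun x hx => by
          rw [show ⁅y * z, x⁆ = y * ⁅z, x⁆ * y⁻¹ * ⁅y, x⁆ by simp only [commutatorElement_def]; group]
          exact mul_mem (hMn.conj_mem _ (hz.2 x hx) y) (hy.2 x hx)⟩
        inv_mem' := fun {y} hy => ⟨inv_mem hy.1, fun x hx => by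
          rw [show ⁅y⁻¹, x⁆ = y⁻¹ * ⁅y, x⁆⁻¹ * y⁻¹⁻¹ by simp only [commutatorElement_def]; group]
          exact hMn.conj_mem _ (inv_mem (hy.2 x hx)) y⁻¹⟩ }
    have hKn : K.Normal := ⟨fun z hz g => ⟨hBn.conj_mem z hz.1 g, fun x hx => by
      have := hMn.conj_mem _ (hz.2 (g⁻¹ * x * g) (by simpa using hBn.conj_mem x hx g⁻¹)) g
      convert this using 1
      simp only [commutatorElement_def]; group⟩⟩
    have hle : B ≤ K := by
      conv_lhs => rw [← hgen]
      exact normalClosure_le_normal fun z hz => ⟨hz.1, fun x hx =>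
        ⟨commutator_mem_commutator hz.1 hx,
          Fusion.Replacement.commutatorElement_mem_of_le_normalizer hz.2 (hSW (hBS hx))⟩⟩
    exact commutator_le.mpr fun y hy x hx => (hle hy).2 x hx
  have hclass : ⁅⁅B, B⁆, B⁆ = ⊥ := by
    have h1 : Z ≤ centralizer ((⁅B, B⁆ : Subgroup G) : Set G) := fun z hz =>
      mem_centralizer_iff.mpr fun y hy => (hWcomm y (hB'W hy) z hz.2).eq
    have h2 : B ≤ centralizer ((⁅B, B⁆ : Subgroup G) : Set G) := by
      conv_lhs => rw [← hgen]
      exact normalClosure_le_normal h1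
    rw [Subgroup.commutator_comm]
    exact commutator_eq_bot_iff_le_centralizer.mpr h2
  set C := centralizer (B : Set G) with hC
  set L := normalCore (normalizer (Z : Set G)) with hL
  have hCZ : C ≤ normalizer (Z : Set G) :=
    (centralizer_le (inf_le_left : Z ≤ B)).trans (centralizer_le_normalizer _)
  have hSL : ∀ a : G, a ∈ normalCore ((S : Subgroup G) ⊔ C) → a ∈ L := fun a ha =>
    normalCore_mono (sup_le hSZ hCZ) ha
  obtain ⟨A, hAm, hBA⟩ : ∃ A ∈ 𝒜, ¬ B ≤ A := by
    by_contra hall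
    push Not at hall
    refine hBbad ?_
    have : Z = B := inf_eq_left.mpr fun b hb => mem_inter.mpr fun A hA' _ => hall A hA' hb
    rw [this]
    exact hBn
  obtain ⟨A', hA', -, hBA', hBN⟩ := hA.rep B hBS hclass ⟨A, hAm, hB'W.trans (hWA A hAm), hBA⟩
  set T := (S : Subgroup G) ⊓ L with hT
  have hA'L : A' ≤ L := fun a ha => by
    have hq : ⁅⁅B, zpowers a⁆, zpowers a⁆ = ⊥ := by
      refine le_bot_iff.mp ?_
      calc ⁅⁅B, zpowers a⁆, zpowers a⁆ ≤ ⁅⁅B, A'⁆, A'⁆ :=
            commutator_mono (commutator_mono le_rfl (zpowers_le.mpr ha)) (zpowers_le.mpr ha)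
        _ ≤ ⁅A', A'⁆ := commutator_mono (le_normalizer_iff_commutator_le_right.mp hBN) le_rfl
        _ = ⊥ := commutator_eq_bot_iff_le_centralizer.mpr fun x hx =>
            mem_centralizer_iff.mpr fun y hy => (hA.comm A' hA' y hy x hx).eq
    exact hSL a (hst B hBn hBp a (S.2.to_le (zpowers_le.mpr (hA.le A' hA' ha))) hq S)
  have hA'T : A' ≤ T := le_inf (hA.le A' hA') hA'L
  have hFr : normalizer (T : Set G) ⊔ L = ⊤ := by
    obtain ⟨P, hP⟩ := ((S.2.to_inf_left (K := L)).comap_subtype (K := L)).exists_le_sylow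
    have hPp : IsPGroup p ((P : Subgroup L).map L.subtype) := P.2.map _
    obtain ⟨Q, hQ⟩ := hPp.exists_le_sylow
    obtain ⟨g, hg⟩ := MulAction.exists_smul_eq G Q S
    have hTle : T ≤ (P : Subgroup L).map L.subtype := by
      intro x hx
      exact ⟨⟨x, hx.2⟩, hP hx, rfl⟩
    have hle : ((P : Subgroup L).map L.subtype).map (MulAut.conj g).toMonoidHom ≤ T := by
      rintro _ ⟨y, hy, rfl⟩
      refine ⟨?_, (normalCore_normal _).conj_mem y (map_subtype_le _ hy) g⟩
      rw [← hg]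
      exact ⟨y, hQ hy, rfl⟩
    have hT' : (P : Subgroup L).map L.subtype = T :=
      (eq_of_le_of_card_ge hTle ((card_map_of_injective (MulAut.conj g).injective).ge.trans
        (card_le_of_le hle))).symm
    rw [← hT']
    exact Sylow.normalizer_sup_eq_top P
  refine hBA' ?_
  conv_lhs => rw [← hgen]
  rw [normalClosure, closure_le]
  intro x hx
  obtain ⟨z, hz, hzx⟩ := Group.mem_conjugatesOfSet_iff.mp hx
  obtain ⟨g, rfl⟩ := _root_.isConj_iff.mp hzx
  obtain ⟨n, hn, l, hl, rfl⟩ : ∃ n ∈ normalizer (T : Set G), ∃ l ∈ L, n * l = g :=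
    mem_sup_of_normal_right.mp (hFr ▸ mem_top g)
  have hz' : l * z * l⁻¹ ∈ Z := (mem_normalizer_iff.mp (normalCore_le _ hl) z).mp hz
  have hzT : l * z * l⁻¹ ∈ inter 𝒜 T := mem_inter.mpr fun A hA' _ => hWA A hA' hz'.2
  have h := mem_inter.mp (hA.inv T inf_le_left ⟨A', hA', hA'T⟩ n hn _ hzT) A' hA' hA'T
  show n * l * z * (n * l)⁻¹ ∈ A'
  rw [show n * l * z * (n * l)⁻¹ = n * (l * z * l⁻¹) * n⁻¹ by group]
  exact h

/-- The criterion for a replacement family. -/
theorem le_sylow_of_fam (hp : p ≠ 2) (hA : Fam (S : Subgroup G) 𝒜)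
    (hC : centralizer (pCore p G : Set G) ≤ pCore p G)
    (hN : normalizer (inter 𝒜 (S : Subgroup G) : Set G) ≤ S) : (⊤ : Subgroup G) ≤ S := by
  refine le_sylow_of_local hp S hC _ hN fun H hPH hCH hst h hh => ?_
  have hinj := H.subtype_injective
  set 𝒜' : Set (Subgroup H) := {A | A.map H.subtype ∈ 𝒜} with h𝒜'
  have hback : ∀ A ∈ 𝒜, (A.subgroupOf H).map H.subtype = A := fun A h =>
    map_subgroupOf_eq_of_le ((hA.le A h).trans hPH)
  have hin : ∀ (Q : Subgroup H) (x : H),
      x ∈ inter 𝒜' Q ↔ (x : G) ∈ inter 𝒜 (Q.map H.subtype) := fun Q x => by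
    rw [mem_inter, mem_inter]
    constructor
    · intro h A hA' hAQ
      have := h (A.subgroupOf H) (by rw [h𝒜', Set.mem_setOf_eq, hback A hA']; exact hA')
        ((map_le_map_iff_of_injective hinj).mp (by rw [hback A hA']; exact hAQ))
      exact this
    · intro h A hA' hAQ
      exact (mem_map_iff_mem hinj).mp (h _ hA' (map_mono hAQ))
  set R := S.subtype hPH with hR
  have hRmap : (R : Subgroup H).map H.subtype = (S : Subgroup G) := by
    rw [hR, Sylow.coe_subtype, map_subgroupOf_eq_of_le hPH]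
  have hle : ∀ {Q : Subgroup H}, Q ≤ (R : Subgroup H) → Q.map H.subtype ≤ (S : Subgroup G) :=
    fun hQ => hRmap ▸ map_mono hQ
  have hfam : Fam (R : Subgroup H) 𝒜' := by
    refine ⟨fun A hA' => (map_le_map_iff_of_injective hinj).mp (hRmap.symm ▸ hA.le _ hA'),
      fun A hA' a ha b hb => Subtype.ext (hA.comm _ hA' a (mem_map_of_mem _ ha) b (mem_map_of_mem _ hb)).eq,
      ?_, fun Q hQ hAQ g hg x hx => ?_, fun B hB hcl hAB => ?_⟩
    · obtain ⟨A, h⟩ := hA.ne
      exact ⟨A.subgroupOf H, by rw [h𝒜', Set.mem_setOf_eq, hback A h]; exact h⟩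
    · obtain ⟨A, hA', hAQ⟩ := hAQ
      rw [hin] at hx ⊢
      exact hA.inv _ (hle hQ) ⟨_, hA', map_mono hAQ⟩ g (le_normalizer_map H.subtype ⟨g, hg, rfl⟩) x hx
    · obtain ⟨A, hA', h1, h2⟩ := hAB
      have hcom : ⁅B.map H.subtype, B.map H.subtype⁆ = (⁅B, B⁆ : Subgroup H).map H.subtype :=
        (map_commutator _ _ _).symm
      obtain ⟨A₁, hA₁, h3, h4, h5⟩ := hA.rep (B.map H.subtype) (hle hB)
        (by rw [hcom, ← map_commutator, hcl, Subgroup.map_bot])
        ⟨_, hA', hcom ▸ map_mono h1, fun h => h2 ((map_le_map_iff_of_injective hinj).mp h)⟩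
      refine ⟨A₁.subgroupOf H, by rw [h𝒜', Set.mem_setOf_eq, hback A₁ hA₁]; exact hA₁,
        fun x hx => h3 (hcom ▸ mem_map_of_mem _ hx), fun h => h4 ?_, fun b hb => ?_⟩
      · exact hback A₁ hA₁ ▸ map_mono h
      · exact mem_normalizer_iff.mpr fun x =>
          mem_normalizer_iff.mp (h5 (mem_map_of_mem _ hb)) (x : G)
  haveI hn := hfam.normal hst hCH
  have e : (inter 𝒜' (R : Subgroup H)).map H.subtype = inter 𝒜 (S : Subgroup G) := by
    ext x
    constructor
    · rintro ⟨y, hy, rfl⟩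
      exact hRmap ▸ (hin _ y).mp hy
    · intro hx
      obtain ⟨A, hA'⟩ := hA.ne
      have hxH : x ∈ H := hPH (hA.le A hA' (mem_inter.mp hx A hA' (hA.le A hA')))
      exact ⟨⟨x, hxH⟩, (hin _ _).mpr (hRmap.symm ▸ hx), rfl⟩
  rw [← e]
  exact le_normalizer_map H.subtype
    ⟨⟨h, hh⟩, (normalizer_eq_top (H := inter 𝒜' (R : Subgroup H))).ge (mem_top _), rfl⟩

end Cfsg.Agent.FusSys.GTRel
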