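import Cfsg.Agent.FusSys.Agemo

/-!
The `p`-th powers of the centre: a functor with the quadratic condition and the centralizer of a
subgroup of `℧Z(S)` generate a saturated system.
-/

set_option autoImplicit false

namespace Cfsg.Agent.FusSys

open Cfsg Cfsg.FusionSystem

universe u

variable {Ω : Type u} [Group Ω] {S T : Subgroup Ω} {F : FusionSystem S} {p : ℕ} {Q : Subgroup Ω}

/-! ### Classes of maps on subsystems -/

/-- The maps of a system form an admissible class. -/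
theorem subRel_mor (E : FusionSystem S) : SubRel F S (Mor E) where
  congr h he := h.congr he
  le h := ⟨h.le, fun _ hx => h.mem_S hx⟩
  conj hP hs := ⟨mor_conj hP hs, mor_conj hP hs⟩
  comp _ hf _ hg h := hf.comp hg h
  inv := by
    intro P Q f g hfi hf hgi hgf
    obtain ⟨g', hg', hg'f, -⟩ := Iso.symm (F := E) ⟨hf, hfi.2⟩
    refine hg'.1.congr fun y hy => ?_
    obtain ⟨x, hx, rfl⟩ := hfi.exists_eq hy
    rw [hg'f x hx, hgf x hx]

/-- An admissible class restricts to subsystems. -/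
theorem subRel_restrict {D : FusionSystem T} (hDF : D.IsSubsystemOf F) (hTS : T ≤ S)
    {M : Subgroup Ω → (Ω → Ω) → Prop} (hM : SubRel F S M) :
    SubRel D T (fun X f => M X f ∧ X ≤ T ∧ ∀ x ∈ X, f x ∈ T) where
  congr h he := ⟨hM.congr h.1 he, h.2.1, fun x hx => he x hx ▸ h.2.2 x hx⟩
  le h := ⟨h.2.1, h.2.2⟩
  conj hP hs := ⟨mor_conj hP hs, (hM.conj (hP.trans hTS) (hTS hs)).2, hP,
    fun _ hx => T.mul_mem (T.mul_mem hs (hP hx)) (T.inv_mem hs)⟩
  comp hfD hf hgD hg hm := ⟨hM.comp (mor_of_sub hDF hfD) hf.1 (mor_of_sub hDF hgD) hg.1 hm,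
    hf.2.1, fun x hx => hg.2.2 _ (hm x hx)⟩
  inv hfi hf hgi hgf := ⟨hM.inv ⟨mor_of_sub hDF hfi.1, hfi.2⟩ hf.1
      ⟨mor_of_sub hDF hgi.1, hgi.2⟩ hgf, hgi.left_le, fun _ hx => hgi.1.mem_S hx⟩

theorem nRel_of_sub {D : FusionSystem T} (hDF : D.IsSubsystemOf F) (hTS : T ≤ S)
    {U X : Subgroup Ω} {f : Ω → Ω} (h : NRel D U X f) : NRel F U X f := by
  obtain ⟨h1, h2, k, hk, hkf, hkU⟩ := h
  exact ⟨fun x hx => ⟨hTS (h1 hx).1, (h1 hx).2⟩, fun x hx => ⟨hTS (h2 x hx).1, (h2 x hx).2⟩, k,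
    mor_of_sub hDF hk, hkf, hkU⟩

theorem cRel_of_sub {D : FusionSystem T} (hDF : D.IsSubsystemOf F) (hTS : T ≤ S)
    {U X : Subgroup Ω} {f : Ω → Ω} (h : CRel D U X f) : CRel F U X f := by
  obtain ⟨h1, h2, k, hk, hkf, hkU⟩ := h
  exact ⟨fun x hx => ⟨hTS (h1 hx).1, (h1 hx).2⟩, fun x hx => ⟨hTS (h2 x hx).1, (h2 x hx).2⟩, k,
    mor_of_sub hDF hk, hkf, hkU⟩

/-- An extension carrying `U` into itself gives a map normalizing `U`. -/
theorem nRel_of_mapsTo [Finite S] {U X : Subgroup Ω} {f g : Ω → Ω} (hU : U ≤ S)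
    (hSU : S ≤ Subgroup.normalizer (U : Set Ω)) (hg : Mor F (X ⊔ U) g) (hgf : ∀ x ∈ X, g x = f x)
    (hgU : ∀ x ∈ U, g x ∈ U) : NRel F U X f := by
  refine ⟨fun x hx => ?_, fun x hx => ?_, g, hg, hgf, fun y => ⟨fun hy => ?_, ?_⟩⟩
  · have := hg.le (Subgroup.mem_sup_left hx)
    exact ⟨this, hSU this⟩
  · have := hgf x hx ▸ hg.mem_S (Subgroup.mem_sup_left hx)
    exact ⟨this, hSU this⟩
  · exact (hg.mono le_sup_right).surj_of_card hU hgU le_rfl hy
  · rintro ⟨x, hx, rfl⟩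
    exact hgU x hx

/-- An extension fixing a central subgroup gives a map centralizing it. -/
theorem cRel_of_fixes {U X : Subgroup Ω} {f g : Ω → Ω}
    (hSU : S ≤ Subgroup.centralizer (U : Set Ω)) (hg : Mor F (X ⊔ U) g) (hgf : ∀ x ∈ X, g x = f x)
    (hgU : ∀ x ∈ U, g x = x) : CRel F U X f := by
  refine ⟨fun x hx => ?_, fun x hx => ?_, g, hg, hgf, hgU⟩
  · have := hg.le (Subgroup.mem_sup_left hx)
    exact ⟨this, hSU this⟩
  · have := hgf x hx ▸ hg.mem_S (Subgroup.mem_sup_left hx)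
    exact ⟨this, hSU this⟩

/-- Preimages of normalized subgroups of the image are normalized. -/
theorem le_normalizer_preimage {Ω' : Type*} [Group Ω'] {θ : S →* Ω'} {V' : Subgroup Ω'}
    (h : θ.range ≤ Subgroup.normalizer (V' : Set Ω')) :
    S ≤ Subgroup.normalizer (preimageAlong θ V' : Set Ω) := by
  refine (Subgroup.normal_subgroupOf_iff_le_normalizer pre_le).1 ⟨fun x hx s => ?_⟩
  obtain ⟨-, hx'⟩ := mem_pre.1 (Subgroup.mem_subgroupOf.1 hx)
  refine Subgroup.mem_subgroupOf.2 (mem_pre.2 ⟨(s * x * s⁻¹).2, ?_⟩)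
  rw [show ((s * x * s⁻¹ : S) : Ω) = s * x * (s : Ω)⁻¹ from rfl, thFn_conj s.2 x.2]
  exact (Subgroup.mem_normalizer_iff.1 (h (thFn_mem_range _ s.2)) _).1 hx'

/-- Fully normalized subgroups have Sylow normalizers in a realizing group. -/
theorem sylIn_normalizer_of_fullyNormalized [Fact p.Prime] [Finite S] (hS : IsPGroup p S)
    {L : Type*} [Group L] [Finite L] {ι : S →* L} (hr : F.IsRealizedBy ι) (P : Sylow p L)
    (hP : (P : Subgroup L) = ι.range) {R : Subgroup Ω} (hR : F.IsFullyNormalized R) :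
    SylIn p ((P : Subgroup L) ⊓ Subgroup.normalizer ((R.subgroupOf S).map ι : Set L))
      (Subgroup.normalizer ((R.subgroupOf S).map ι : Set L)) := by
  have hinj := hr.1
  set R₁ := (R.subgroupOf S).map ι with hR₁
  set G₁ := Subgroup.normalizer (R₁ : Set L)
  have hRp : IsPGroup p R₁ := ((hS.to_subgroup (R.subgroupOf S)).map ι)
  obtain ⟨U, hU, hUS⟩ := exists_sylIn p G₁
  have hRU : R₁ ≤ U := by
    obtain ⟨m, hm, hmx⟩ := exists_conj_mem_of_sylIn hU hUS hRp Subgroup.le_normalizer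
    intro x hx
    have h1 : m⁻¹ * x * m ∈ R₁ := (Subgroup.mem_normalizer_iff''.1 hm x).1 hx
    have h2 := hmx _ h1
    simpa [mul_assoc] using h2
  obtain ⟨a, ha⟩ := exists_conj_mem_sylow hU P
  have haR : ∀ x : S, (x : Ω) ∈ R → ∃ y : S, a * ι x * a⁻¹ = ι y := fun x hx => by
    obtain ⟨y, hy⟩ := hP.le (ha _ (hRU ⟨x, hx, rfl⟩))
    exact ⟨y, hy.symm⟩
  have hm : Mor F R (pullConj ι a) := by
    refine (mor_realized hr).2 ⟨hR.1, fun z hz => ?_, a, fun z hz => ?_⟩
    · obtain ⟨y, hy⟩ := haR ⟨z, hR.1 hz⟩ hz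
      exact pullConj_eq hinj hy ▸ y.2
    · obtain ⟨y, hy⟩ := haR z hz
      rw [pullConj_eq hinj hy, thFn_coe, hy]
  obtain ⟨R', hR'⟩ := hm.exists_iso
  haveI := finite_of_le hR'.right_le
  have hUle : ∀ u ∈ U, ∃ s : S, (s : Ω) ∈ normalizerIn S R' ∧ a * u * a⁻¹ = ι s := by
    intro u hu
    obtain ⟨s, hs⟩ := hP.le (ha u hu)
    refine ⟨s, ⟨s.2, mem_normalizer_of_maps fun y hy => ?_⟩, hs.symm⟩
    obtain ⟨x, hx, rfl⟩ := hR'.exists_eq hy
    obtain ⟨w, hw⟩ := haR ⟨x, hR.1 hx⟩ hx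
    obtain ⟨x', hx', hxx⟩ :=
      (Subgroup.mem_normalizer_iff.1 (hUS.1 hu) (ι ⟨x, hR.1 hx⟩)).1 ⟨_, hx, rfl⟩
    obtain ⟨w', hw'⟩ := haR x' hx'
    rw [show pullConj ι a x = (w : Ω) from pullConj_eq hinj hw]
    have h1 : ι (s * w * s⁻¹) = ι w' := by
      rw [map_mul, map_mul, map_inv, hs, ← hw, ← hw', hxx]
      group
    have h2 : (s : Ω) * w * (s : Ω)⁻¹ = w' := congrArg Subtype.val (hinj h1)
    rw [h2, ← show pullConj ι a x' = (w' : Ω) from pullConj_eq hinj hw']
    exact hR'.mem hx'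
  haveI : Finite (normalizerIn S R') := finite_of_le inf_le_left
  haveI : Finite (normalizerIn S R) := finite_of_le inf_le_left
  choose σ hσ hσa using hUle
  have h1 : Nat.card U ≤ Nat.card (normalizerIn S R') :=
    Nat.card_le_card_of_injective (fun u : U => (⟨_, hσ u u.2⟩ : normalizerIn S R'))
      fun u v huv => by
        have e : σ u u.2 = σ v v.2 := Subtype.ext (congrArg Subtype.val huv :)
        have e' := hσa u u.2
        rw [e, ← hσa v v.2] at e'
        exact Subtype.ext (mul_left_cancel (mul_right_cancel e'))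
  have hinto : ∀ s : normalizerIn S R, ι ⟨s, s.2.1⟩ ∈ (P : Subgroup L) ⊓ G₁ := fun s =>
    ⟨hP.ge ⟨_, rfl⟩, Subgroup.le_normalizer_map ι ⟨⟨s, s.2.1⟩,
      Subgroup.mem_normalizer_iff.2 fun z => Subgroup.mem_normalizer_iff.1 s.2.2 z, rfl⟩⟩
  have h2 : Nat.card (normalizerIn S R) ≤ Nat.card ↥((P : Subgroup L) ⊓ G₁) :=
    Nat.card_le_card_of_injective (fun s => ⟨_, hinto s⟩) fun s t hst =>
      Subtype.ext (congrArg Subtype.val (hinj (congrArg Subtype.val hst)) :)
  have h3 := hR.2 R' hR'.isConj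
  have h4 := card_le_of_sylIn hU hUS (P.2.to_le inf_le_left) (inf_le_right : (P : Subgroup L) ⊓ G₁ ≤ G₁)
  exact sylIn_of_card_le hU hUS inf_le_right (by omega)

section Lift

variable [Fact p.Prime] [Finite S] (hS : IsPGroup p S) (hF : F.IsSaturated p)
variable {Ω' : Type u} [Group Ω'] {S' : Subgroup Ω'} {E : FusionSystem S'} {θ : S →* Ω'}

/-- The class of maps of a factor system having a lift in `M`. -/
def LiftRel (F : FusionSystem S) (θ : S →* Ω') (S' : Subgroup Ω')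
    (M : Subgroup Ω → (Ω → Ω) → Prop) (X' : Subgroup Ω') (f' : Ω' → Ω') : Prop :=
  X' ≤ S' ∧ (∀ x ∈ X', f' x ∈ S') ∧ ∃ f, Mor F (preimageAlong θ X') f ∧
    M (preimageAlong θ X') f ∧ ∀ x ∈ preimageAlong θ X', f' (thFn θ x) = thFn θ (f x)

omit [Fact p.Prime] in
theorem subRel_lift (hQn : F.IsNormal Q) (hE : F.IsFactorSystem Q θ E)
    {M : Subgroup Ω → (Ω → Ω) → Prop} (hM : SubRel F S M) :
    SubRel E S' (LiftRel F θ S' M) where
  congr := by
    rintro P f g ⟨h1, h2, k, hk, hkM, hkf⟩ he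
    exact ⟨h1, fun x hx => he x hx ▸ h2 x hx, k, hk, hkM, fun x hx =>
      (he _ (mem_pre.1 hx).2).trans (hkf x hx)⟩
  le h := ⟨h.1, h.2.1⟩
  conj := by
    intro P s' hP hs'
    refine ⟨mor_conj hP hs', hP, fun x hx => S'.mul_mem (S'.mul_mem hs' (hP hx)) (S'.inv_mem hs'),
      ?_⟩
    obtain ⟨⟨s, hs⟩, rfl⟩ := hE.2.2.1.ge hs'
    refine ⟨_, mor_conj pre_le hs, (hM.conj pre_le hs).2, fun x hx => ?_⟩
    rw [thFn_conj hs (pre_le hx), thFn_apply hs]
  comp := by
    rintro P R f g - ⟨h1, h2, k, hk, hkM, hkf⟩ - ⟨-, h2', l, hl, hlM, hlg⟩ hfR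
    have hm : ∀ x ∈ preimageAlong θ P, k x ∈ preimageAlong θ R := fun x hx =>
      mem_pre.2 ⟨hk.mem_S hx, hkf x hx ▸ hfR _ (mem_pre.1 hx).2⟩
    refine ⟨h1, fun x hx => h2' _ (hfR x hx), l ∘ k, hk.comp hl hm, hM.comp hk hkM hl hlM hm,
      fun x hx => ?_⟩
    show g (f (thFn θ x)) = thFn θ (l (k x))
    rw [hkf x hx, hlg _ (hm x hx)]
  inv := by
    rintro P R f g hfi ⟨h1, h2, k, hk, hkM, hkf⟩ hgi hgf
    have hQS := hE.1
    have hker := hE.2.1
    have hrange := hE.2.2.1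
    have hm : ∀ x ∈ preimageAlong θ P, k x ∈ preimageAlong θ R := fun x hx =>
      mem_pre.2 ⟨hk.mem_S hx, hkf x hx ▸ hfi.mem (mem_pre.1 hx).2⟩
    have hc : Nat.card (preimageAlong θ R) ≤ Nat.card (preimageAlong θ P) := by
      rw [card_preimageAlong hQS hker (hrange ▸ hfi.right_le),
        card_preimageAlong hQS hker (hrange ▸ h1), hfi.card_eq]
    have hki : Iso F (preimageAlong θ P) (preimageAlong θ R) k :=
      ⟨hk, fun y => ⟨fun hy => hk.surj_of_card pre_le hm hc hy,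
        fun ⟨x, hx, hxy⟩ => hxy ▸ hm x hx⟩⟩
    obtain ⟨l, hl, hlk, -⟩ := hki.symm
    refine ⟨hgi.left_le, fun x hx => hgi.1.mem_S hx, l, hl.1, hM.inv hki hkM hl hlk, fun y hy => ?_⟩
    obtain ⟨x, hx, rfl⟩ := hki.exists_eq hy
    rw [hlk x hx, ← hkf x hx, hgf _ (mem_pre.1 hx).2]

include hS hF

/-- When every map acts on `Q` as an element of `S`, a class containing a lift of every map of
the factor system contains every map. -/
theorem lift_step (hQn : F.IsNormal Q) (hE : F.IsFactorSystem Q θ E)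
    (hact : ∀ P f, Mor F P f → KRel F (autInducedBy S Q) P f)
    {M : Subgroup Ω → (Ω → Ω) → Prop} (hM : SubRel F S M)
    (hlift : ∀ X' f', Mor E X' f' → LiftRel F θ S' M X' f') :
    ∀ P f, Mor F P f → M P f := by
  have hsc := stronglyClosed_of_isNormal hQn
  refine alperin_induction hS hF hM fun R hR α hα => ?_
  have hRS : R ≤ S := hR.elim (fun e => e.le) fun e => e.1.1
  have hQR : Q ≤ R := hR.elim (fun e => e ▸ hQn.1) fun e =>
    le_of_normal_centric_radical hS hQn e.1 (essential_radical hS hF e)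
  have hRn : F.IsFullyNormalized R := by
    rcases hR with rfl | hR
    · exact ⟨le_rfl, fun X _ => by
        rw [normalizerIn_eq_of_le Subgroup.le_normalizer]
        exact Subgroup.card_le_of_le inf_le_left⟩
    · exact hR.2.1
  haveI := finite_of_le hRS
  haveI : Finite (MulAut R) := Finite.of_injective _ MulEquiv.toEquiv_injective
  obtain ⟨π, hπ⟩ :=
    exists_autMap_of_morphism (isSurjectiveMorphism_of_factor hS hF hsc hE).1 hRS
  have hRS' : imageAlong θ R ≤ S' := hE.2.2.1 ▸ imageAlong_le_range θ R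
  have e : preimageAlong θ (imageAlong θ R) = R := by
    rw [preimage_image hE.2.1 hsc hRS, sup_eq_left.2 hQR]
  obtain ⟨-, -, k, hk, hkM, hkf⟩ := hlift _ _ (iso_apl hRS' (π ⟨α, hα⟩).2).1
  rw [e] at hk hkM hkf
  have hkR : ∀ x ∈ R, k x ∈ R := fun x hx => e.le (mem_pre.2 ⟨hk.mem_S hx, hkf x hx ▸
    apl_mem _ ((mem_imageAlong hRS).2 ⟨x, hx, rfl⟩)⟩)
  have hki : Iso F R R k := ⟨hk, fun y => ⟨fun hy => hk.surj_of_card hRS hkR le_rfl hy,
    fun ⟨x, hx, hxy⟩ => hxy ▸ hkR x hx⟩⟩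
  obtain ⟨φ, hφ, hφk⟩ := hki.exists_mem_autGroup
  have hδ : (⟨φ, hφ⟩ : F.autGroup R)⁻¹ * ⟨α, hα⟩ ∈ π.ker := by
    rw [MonoidHom.mem_ker, map_mul, map_inv, inv_mul_eq_one]
    refine Subtype.ext (apl_ext fun z hz => ?_)
    obtain ⟨x, hx, rfl⟩ := (mem_imageAlong hRS).1 hz
    rw [hπ ⟨φ, hφ⟩ x hx, hkf x hx]
    exact congrArg (thFn θ) (hφk x hx)
  obtain ⟨-, T, hT⟩ := fullyAutomized_of_fullyNormalized hS hF hRn
  have hkle : π.ker ≤ (T : Subgroup (F.autGroup R)) :=
    (Cfsg.Agent.Core.le_pCore (isPGroup_ker_of_act hS hF hE hact hRS hQR π hπ)).trans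
      (Cfsg.Agent.Core.pCore_le_sylow T)
  have hmem := hkle hδ
  rw [hT] at hmem
  obtain ⟨s, hs, -, hsx⟩ := mem_autInducedBy_iff.1 (Subgroup.mem_subgroupOf.1 hmem)
  obtain ⟨h1, h2⟩ := hM.conj hRS hs
  have hsR : ∀ x ∈ R, s * x * s⁻¹ ∈ R := fun x hx => hsx x hx ▸ apl_mem _ hx
  refine hM.congr (hM.comp h1 h2 hk hkM hsR) fun x hx => ?_
  show apl α x = k (s * x * s⁻¹)
  rw [← hsx x hx, ← hφk _ (apl_mem _ hx), Subgroup.coe_mul, Subgroup.coe_inv, ← apl_mul _ _ hx,
    mul_inv_cancel_left]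

end Lift

variable {W : ∀ (Q : Type u) [Group Q], Subgroup Q}

/-- The local condition: in a model, if `W(P)` is not normal some normal subgroup centralizes `V`
and has non-normal intersection with `P`. The flag `fx` allows `N(W(P))` to be assumed to
centralize `V`, whose elements are `e`-th powers of elements of `Z(P)`. -/
def LocalCond (p : ℕ) (W : ∀ (Q : Type u) [Group Q], Subgroup Q) (fx : Prop) (e : ℕ)
    (GP : ∀ (L : Type u) [Group L], Prop) : Prop :=
  ∀ (L : Type u) [Group L] [Finite L] (P : Sylow p L),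
    Subgroup.centralizer ((pCore p L : Subgroup L) : Set L) ≤ pCore p L → GP L →
    ∀ V : Subgroup L, (∀ x ∈ V, ∃ w ∈ (P : Subgroup L) ⊓
      Subgroup.centralizer ((P : Subgroup L) : Set L), w ^ e = x) →
    (fx → Subgroup.normalizer (wsub W (P : Subgroup L) : Set L) ≤
      Subgroup.centralizer (V : Set L)) →
    ¬ (wsub W (P : Subgroup L)).Normal →
    ∃ K : Subgroup L, K.Normal ∧ K ≤ Subgroup.centralizer (V : Set L) ∧
      ¬ ((P : Subgroup L) ⊓ K).Normal

set_option maxHeartbeats 1600000 in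
/-- A functor with the local condition: the maps normalizing `W(S)` and those centralizing a
suitable central subgroup generate the system. -/
theorem mem_of_goodAt_local [Fact p.Prime] (hW : PosFunctor p W) {fx : Prop} {e : ℕ}
    {Cls : ∀ {Ω : Type u} [Group Ω] {S : Subgroup Ω}, FusionSystem S → Prop}
    (hh : Hereditary p Cls) {GP : ∀ (L : Type u) [Group L], Prop}
    (hGP : ∀ {Ω : Type u} [Group Ω] {S : Subgroup Ω} [Finite S] (F : FusionSystem S),
      IsPGroup p S → F.IsSaturated p → Cls F → ∀ Q, F.IsNormal Q → F.IsCentric Q →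
      ∀ {L : Type u} [Group L] (ι : S →* L), F.IsModel p L ι → GP L)
    (hloc : LocalCond p W fx e GP) [Finite S]
    (hS : IsPGroup p S) (hF : F.IsSaturated p) (hcls : Cls F) {V : Subgroup Ω}
    (hV : ∀ x ∈ V, ∃ w ∈ S ⊓ Subgroup.centralizer (S : Set Ω), w ^ e = x)
    {M : Subgroup Ω → (Ω → Ω) → Prop} (hM : SubRel F S M)
    (hfix : fx → ∀ X f, M X f → ∀ x ∈ X, x ∈ V → f x = x)
    (hgood : GoodAt F M (wsub W S)) (hcen : ∀ X f, Mor F X f → CRel F V X f → M X f) :
    ∀ X f, Mor F X f → M X f := by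
  refine smaller_induction (Φ := fun {Ω} _ {S} F => Finite S → IsPGroup p S → F.IsSaturated p →
    Cls F → ∀ V : Subgroup Ω, (∀ x ∈ V, ∃ w ∈ S ⊓ Subgroup.centralizer (S : Set Ω), w ^ e = x) →
    ∀ M : Subgroup Ω → (Ω → Ω) → Prop, SubRel F S M →
    (fx → ∀ X f, M X f → ∀ x ∈ X, x ∈ V → f x = x) → GoodAt F M (wsub W S) →
    (∀ X f, Mor F X f → CRel F V X f → M X f) → ∀ X f, Mor F X f → M X f) ?_ F
    inferInstance hS hF hcls V hV M hM hfix hgood hcen
  intro Ω _ S F ih _ hS hF hcls V hV M hM hfix hgood hcen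
  have hWS : wsub W S ≤ S := wsub_le W S
  have hSW : S ≤ Subgroup.normalizer (wsub W S : Set Ω) := fun s hs =>
    (normalizerIn_le_normalizerIn_wsub hW le_rfl hS (le_normalizerIn le_rfl hs)).2
  have hVS : V ≤ S := fun x hx => by
    obtain ⟨w, hw, rfl⟩ := hV x hx
    exact S.pow_mem hw.1 e
  have hSV : S ≤ Subgroup.centralizer (V : Set Ω) := fun s hs =>
    Subgroup.mem_centralizer_iff.2 fun x hx => by
      obtain ⟨w, hw, rfl⟩ := hV x hx
      exact (Commute.pow_left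
        (show Commute w s from (Subgroup.mem_centralizer_iff.1 hw.2 s hs).symm) e).eq
  -- smaller subsystems over `S`
  have hsame : ∀ {T : Subgroup Ω} (D : FusionSystem T), T = S → D.IsSubsystemOf F →
      D.IsSaturated p → Cls D → Smaller D F → ∀ X f, Mor D X f → M X f := by
    intro T D hT hDF hD hDc hlt X f hf
    subst hT
    exact (ih D hlt inferInstance hS hD hDc V hV _ (subRel_restrict hDF le_rfl hM)
      (fun h Y g hg => hfix h Y g hg.1)
      (fun Y g hg hgW => ⟨hgood Y g (mor_of_sub hDF hg) (nRel_of_sub hDF le_rfl hgW), hg.le,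
        fun y hy => hg.mem_S hy⟩)
      (fun Y g hg hgV => ⟨hcen Y g (mor_of_sub hDF hg) (cRel_of_sub hDF le_rfl hgV), hg.le,
        fun y hy => hg.mem_S hy⟩) X f hf).1
  -- maps normalizing a subgroup that is not normal
  have hnorm : ∀ U ≤ S, S ≤ Subgroup.normalizer (U : Set Ω) → ¬ F.IsNormal U →
      ∀ X f, Mor F X f → NRel F U X f → M X f := by
    intro U hU hSU hUn X f hf hNf
    have hN := isNormalizerSystem_normalizerSys (F := F) hU
    have hUfn : F.IsFullyNormalized U := ⟨hU, fun R _ => by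
      rw [normalizerIn_eq_of_le hSU]
      exact Subgroup.card_le_of_le inf_le_left⟩
    exact hsame _ (normalizerIn_eq_of_le hSU) (normalizerSystem_subsystem hS hF hN)
      (normalizerSystem_saturated hS hF hUfn hN) (hh.norm F hS hF hcls U hUfn _ hN)
      (smaller_normalizer hU hUn hN) X f
      ((mor_normalizerSystem hN).2 ⟨hf, hNf⟩)
  set Q := F.core with hQdef
  have hQn : F.IsNormal Q := isNormal_core
  by_cases hQ0 : Q = ⊥
  · refine reduce_to_normalizers hS hF hW hM hgood fun U hU hUn N hN hgoodN => ?_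
    haveI : Finite (normalizerIn S U) := finite_of_le inf_le_left
    have hNF := normalizerSystem_subsystem hS hF hN
    intro X f hf
    refine (ih N (smaller_normalizer hUn.1 (fun h => hU (le_bot_iff.1 (hQ0 ▸ le_core h))) hN)
      inferInstance (hS.to_le inf_le_left) (normalizerSystem_saturated hS hF hUn hN)
      (hh.norm F hS hF hcls U hUn N hN) V
      (fun x hx => ?_) _ (subRel_restrict hNF inf_le_left hM) (fun h Y g hg => hfix h Y g hg.1)
      (fun Y g hg hgW => ⟨hgoodN Y g hg hgW, hg.le, fun y hy => hg.mem_S hy⟩)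
      (fun Y g hg hgV => ⟨hcen Y g (mor_of_sub hNF hg) (cRel_of_sub hNF inf_le_left hgV), hg.le,
        fun y hy => hg.mem_S hy⟩) X f hf).1
    obtain ⟨w, hw, rfl⟩ := hV x hx
    refine ⟨w, ⟨⟨hw.1, Subgroup.centralizer_le_normalizer _
      (Subgroup.centralizer_le hUn.1 hw.2)⟩, ?_⟩, rfl⟩
    exact Subgroup.centralizer_le (inf_le_left : normalizerIn S U ≤ S) hw.2
  have hQS : Q ≤ S := hQn.1
  have hSN : S ≤ Subgroup.normalizer (Q : Set Ω) :=
    StronglyClosed.le_normalizer (stronglyClosed_of_isNormal hQn)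
  by_cases hQc : F.IsCentric Q
  · by_cases hWn : F.IsNormal (wsub W S)
    · exact fun X f hf => hgood X f hf ((isNormal_iff_nRel hSW hWS).1 hWn X f hf)
    obtain ⟨L, _, ι, hι, -⟩ := exists_model hS hF hQn hQc
    haveI : Finite L := hι.1
    obtain ⟨P, hP⟩ := hι.2.2.1
    have hr := hι.2.1
    have hinj := hr.1
    set V₁ := (V.subgroupOf S).map ι with hV₁
    have hV₁p : ∀ x ∈ V₁, ∃ w ∈ (P : Subgroup L) ⊓
        Subgroup.centralizer ((P : Subgroup L) : Set L), w ^ e = x := by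
      rintro _ ⟨x, hx, rfl⟩
      obtain ⟨w, hw, hwx⟩ := hV x hx
      refine ⟨ι ⟨w, hw.1⟩, ⟨hP.ge ⟨_, rfl⟩, Subgroup.mem_centralizer_iff.2 fun y hy => ?_⟩, ?_⟩
      · obtain ⟨z, rfl⟩ := hP.le hy
        rw [← map_mul, ← map_mul]
        exact congrArg ι (Subtype.ext (Subgroup.mem_centralizer_iff.1 hw.2 z z.2))
      · rw [← map_pow]
        exact congrArg ι (Subtype.ext hwx)
    have hWnL : ¬ (wsub W (P : Subgroup L)).Normal := by
      intro hn
      let e : S ≃* (P : Subgroup L) :=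
        (MonoidHom.ofInjective hinj).trans (MulEquiv.subgroupCongr hP.symm)
      have heq : (wsub W (P : Subgroup L)).comap ι = W S := by
        rw [wsub, ← hW.map_eq S _ hS e, Subgroup.map_map,
          show (P : Subgroup L).subtype.comp e.toMonoidHom = ι from rfl,
          Subgroup.comap_map_eq_self_of_injective hinj]
      have hNn := isNormal_of_normal (hN := hn) hr ((wsub_le W _).trans hP.le)
      rw [heq] at hNn
      exact hWn hNn
    have hVQ : V ≤ Q := fun x hx => centric_self hQc ⟨hVS hx,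
      Subgroup.mem_centralizer_iff.2 fun y hy =>
        (Subgroup.mem_centralizer_iff.1 (hSV (hQS hy)) x hx).symm⟩
    have hfxN : fx → Subgroup.normalizer (wsub W (P : Subgroup L) : Set L) ≤
        Subgroup.centralizer (V₁ : Set L) := by
      intro hfx l hl
      -- the normalizer of `W(S)` in the model fixes `V`
      haveI := model_normal_image hι hQn
      have hW₁ : (wsub W S).subgroupOf S = W S :=
        Subgroup.comap_map_eq_self_of_injective S.subtype_injective _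
      have hWimg : ((wsub W S).subgroupOf S).map ι = wsub W (P : Subgroup L) := by
        let e' : S ≃* (P : Subgroup L) :=
          (MonoidHom.ofInjective hinj).trans (MulEquiv.subgroupCongr hP.symm)
        rw [hW₁, wsub, ← hW.map_eq S _ hS e', Subgroup.map_map]
        rfl
      rw [← hWimg] at hl
      have hle : Q ⊔ wsub W S ≤ S := sup_le hQS hWS
      have hcl : ∀ z : S, (z : Ω) ∈ Q ⊔ wsub W S → ∃ w : S,
          l * ι z * l⁻¹ = ι w ∧ (w : Ω) ∈ Q ⊔ wsub W S := by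
        intro z hz
        have hn : l ∈ Subgroup.normalizer ((((Q.subgroupOf S).map ι) ⊔
            ((wsub W S).subgroupOf S).map ι : Subgroup L) : Set L) :=
          mem_normalizer_sup (by rw [Subgroup.normalizer_eq_top]; exact Subgroup.mem_top l) hl
        rw [← Subgroup.map_sup, ← Subgroup.subgroupOf_sup hQS hWS] at hn
        obtain ⟨w, hw, hwz⟩ := (Subgroup.mem_normalizer_iff.1 hn _).1 ⟨z, hz, rfl⟩
        exact ⟨w, hwz.symm, hw⟩
      have hm : Mor F (Q ⊔ wsub W S) (pullConj ι l) := by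
        refine (mor_realized hr).2 ⟨hle, fun z hz => ?_, l, fun z hz => ?_⟩
        · obtain ⟨w, hw, -⟩ := hcl ⟨z, hle hz⟩ hz
          exact pullConj_eq hinj hw ▸ w.2
        · obtain ⟨w, hw, -⟩ := hcl z hz
          rw [pullConj_eq hinj hw, thFn_coe, hw]
      have hmW : ∀ z ∈ wsub W S, pullConj ι l z ∈ wsub W S := fun z hz => by
        obtain ⟨w, hw, hwz⟩ :=
          (Subgroup.mem_normalizer_iff.1 hl (ι ⟨z, hWS hz⟩)).1 ⟨_, hz, rfl⟩
        rw [show pullConj ι l z = (w : Ω) from pullConj_eq hinj (x := ⟨z, hWS hz⟩) hwz.symm]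
        exact hw
      have hlM := hgood _ _ hm (nRel_of_mapsTo hWS hSW (hm.mono (sup_le le_rfl le_sup_right))
        (fun _ _ => rfl) hmW)
      refine Subgroup.mem_centralizer_iff.2 ?_
      rintro _ ⟨v, hv, rfl⟩
      have hvQ : (v : Ω) ∈ Q ⊔ wsub W S := Subgroup.mem_sup_left (hVQ hv)
      obtain ⟨w, hw, -⟩ := hcl v hvQ
      have h2 := hfix hfx _ _ hlM v hvQ hv
      rw [pullConj_eq hinj hw] at h2
      rw [Subtype.ext h2] at hw
      exact (mul_inv_eq_iff_eq_mul.1 hw).symm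
    obtain ⟨K, hKn, hKV, hK⟩ := hloc L P hι.2.2.2 (hGP F hS hF hcls Q hQn hQc ι hι) V₁ hV₁p
      hfxN hWnL
    set Y := (K.comap ι).map S.subtype with hY
    have hYS : Y ≤ S := Subgroup.map_subtype_le _
    have hYmem : ∀ x : S, (x : Ω) ∈ Y ↔ ι x ∈ K := fun x =>
      ⟨fun ⟨y, hy, hyx⟩ => Subtype.ext hyx ▸ hy, fun h => ⟨x, h, rfl⟩⟩
    have hYimg : (Y.subgroupOf S).map ι = (P : Subgroup L) ⊓ K :=
      subgroupOf_map_eq hYS (inf_le_left.trans hP.le) fun x =>
        ⟨fun h => ⟨hP.ge ⟨x, rfl⟩, (hYmem x).1 h⟩, fun h => (hYmem x).2 h.2⟩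
    have hYn : ¬ F.IsNormal Y := fun h => hK (hYimg ▸ model_normal_image hι h)
    have hSY : S ≤ Subgroup.normalizer (Y : Set Ω) := by
      refine (Subgroup.normal_subgroupOf_iff_le_normalizer hYS).1 ⟨fun x hx s => ?_⟩
      refine Subgroup.mem_subgroupOf.2 ((hYmem _).2 ?_)
      rw [map_mul, map_mul, map_inv]
      exact hKn.conj_mem _ ((hYmem x).1 (Subgroup.mem_subgroupOf.1 hx)) _
    suffices hle : F ≤ subSys hM from
      fun X f hf => ((mor_subSys hM).1 (le_iff_mor.1 hle X f hf)).2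
    refine le_of_aut_le' hS hF fun R hR hbig α hα => ?_
    have hRS : R ≤ S := hR.elim (fun e => e.le) fun e => e.1.1
    have hαi := iso_apl hRS hα
    refine (mem_autGroup_iff hRS).2 ⟨(mor_subSys hM).2 ⟨hαi.1, ?_⟩, hαi.2⟩
    have hQR : Q ≤ R := hR.elim (fun e => e ▸ hQS) fun e =>
      le_of_normal_centric_radical hS hQn e.1 (essential_radical hS hF e)
    have hRc : F.IsCentric R := hR.elim (fun e => e ▸ centric_top F) fun e => e.1
    have hRfn : F.IsFullyNormalized R := by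
      rcases hR with rfl | hR
      · exact ⟨le_rfl, fun X _ => by
          rw [normalizerIn_eq_of_le Subgroup.le_normalizer]
          exact Subgroup.card_le_of_le inf_le_left⟩
      · exact hR.2.1
    have hVR : V ≤ R := fun x hx => centric_self hRc ⟨hVS hx,
      Subgroup.mem_centralizer_iff.2 fun y hy =>
        (Subgroup.mem_centralizer_iff.1 (hSV (hRS hy)) x hx).symm⟩
    obtain ⟨-, -, l, hl⟩ := (mor_realized hr).1 hαi.1
    set R₁ := (R.subgroupOf S).map ι with hR₁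
    set G₁ := Subgroup.normalizer (R₁ : Set L)
    have hR₁mem : ∀ z : S, ι z ∈ R₁ ↔ (z : Ω) ∈ R := fun z =>
      ⟨fun ⟨y, hy, hyz⟩ => hinj hyz ▸ hy, fun h => ⟨z, h, rfl⟩⟩
    have hlG : l ∈ G₁ := mem_normalizer_of_maps (by
      rintro _ ⟨x, hx, rfl⟩
      have hxR : (x : Ω) ∈ R := hx
      refine ⟨⟨_, hRS (apl_mem α hxR)⟩, apl_mem α hxR, ?_⟩
      rw [← hl x hxR, thFn_apply (hRS (apl_mem α hxR))])
    by_cases hYR : Y ≤ R
    · refine hnorm Y hYS hSY hYn R _ hαi.1 (nRel_of_mapsTo (g := apl α) hYS hSY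
        (by rw [sup_eq_left.2 hYR]; exact hαi.1) (fun _ _ => rfl) fun y hy => ?_)
      have hyS : apl α y ∈ S := hRS (apl_mem α (hYR hy))
      refine (hYmem ⟨_, hyS⟩).2 ?_
      rw [← thFn_apply (θ := ι) hyS, hl ⟨y, hYS hy⟩ (hYR hy)]
      exact hKn.conj_mem _ ((hYmem ⟨y, hYS hy⟩).1 hy) l
    -- the Frattini argument in the normalizer of `R`
    set K₁ := K ⊓ G₁
    have hK₁n : (K₁.subgroupOf G₁).Normal := by
      rw [Subgroup.inf_subgroupOf_right]
      exact hKn.subgroupOf _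
    have hD := sylIn_inter_normal (sylIn_normalizer_of_fullyNormalized hS hr P hP hRfn)
      (inf_le_right : K₁ ≤ G₁) hK₁n
    set D := ((P : Subgroup L) ⊓ G₁) ⊓ K₁
    have hDp : IsPGroup p D := P.2.to_le (inf_le_left.trans inf_le_left)
    obtain ⟨m, hmK, hmx⟩ := exists_conj_mem_of_sylIn (A := D.map (MulAut.conj l).toMonoidHom) hDp
      hD (hDp.map _) (by
        rintro _ ⟨x, hx, rfl⟩
        exact ⟨hKn.conj_mem _ hx.2.1 l, G₁.mul_mem (G₁.mul_mem hlG hx.2.2) (G₁.inv_mem hlG)⟩)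
    set n := m * l
    have hnG : n ∈ G₁ := G₁.mul_mem hmK.2 hlG
    have hnD : ∀ x ∈ D, n * x * n⁻¹ ∈ D := fun x hx => by
      have := hmx _ (Subgroup.mem_map_of_mem _ hx)
      rw [MulEquiv.coe_toMonoidHom, MulAut.conj_apply] at this
      rw [show n * x * n⁻¹ = m * (l * x * l⁻¹) * m⁻¹ by simp only [n]; group]
      exact this
    set NY := Y ⊓ Subgroup.normalizer (R : Set Ω)
    have hNYD : ∀ y : S, (y : Ω) ∈ NY → ι y ∈ D := by
      intro y hy
      have hyG : ι y ∈ G₁ := mem_normalizer_of_maps (by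
        rintro _ ⟨x, hx, rfl⟩
        refine ⟨y * x * y⁻¹, (Subgroup.mem_normalizer_iff.1 hy.2 x).1 hx, ?_⟩
        rw [map_mul, map_mul, map_inv])
      exact ⟨⟨hP.ge ⟨_, rfl⟩, hyG⟩, (hYmem y).1 hy.1, hyG⟩
    have hBS : R ⊔ NY ≤ S := sup_le hRS (inf_le_left.trans hYS)
    have hnB : ∀ z : S, (z : Ω) ∈ R ⊔ NY → ∃ w : S, n * ι z * n⁻¹ = ι w := by
      intro z hz
      have hle : R ⊔ NY ≤ ((ι.range.comap (MulAut.conj n).toMonoidHom).comap ι).map S.subtype := by
        refine sup_le (fun x hx => ⟨⟨x, hRS hx⟩, ?_, rfl⟩) fun x hx => ⟨⟨x, hYS hx.1⟩, ?_, rfl⟩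
        · obtain ⟨w, -, hw⟩ := (Subgroup.mem_normalizer_iff.1 hnG (ι ⟨x, hRS hx⟩)).1 ⟨_, hx, rfl⟩
          exact ⟨w, hw⟩
        · exact hP.le (hnD _ (hNYD ⟨x, hYS hx.1⟩ hx)).1.1
      obtain ⟨y, ⟨w, hw⟩, hyz⟩ := hle hz
      exact ⟨w, Subtype.ext hyz ▸ hw.symm⟩
    have hng : Mor F (R ⊔ NY) (pullConj ι n) := by
      refine (mor_realized hr).2 ⟨hBS, fun x hx => ?_, n, fun x hx => ?_⟩
      · obtain ⟨w, hw⟩ := hnB ⟨x, hBS hx⟩ hx
        exact pullConj_eq hinj hw ▸ w.2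
      · obtain ⟨w, hw⟩ := hnB x hx
        rw [pullConj_eq hinj hw, thFn_coe, hw]
    have hlt : R < R ⊔ NY := by
      refine lt_of_le_of_ne le_sup_left fun e => hYR ?_
      by_contra hle
      have hNYR : NY ≤ R := le_sup_right.trans e.ge
      refine (lt_inf_normalizer hS (sup_le hRS hYS)
        (lt_of_le_of_ne le_sup_left fun e => hle (le_sup_right.trans e.ge))).not_ge fun x hx => ?_
      obtain ⟨hxRY, hxn⟩ := hx
      have hxmul : x ∈ (↑(R ⊔ Y) : Set Ω) := hxRY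
      rw [Subgroup.coe_mul_of_left_le_normalizer_right R Y (hRS.trans hSY)] at hxmul
      obtain ⟨c, hc, y, hy, rfl⟩ := hxmul
      refine R.mul_mem hc (hNYR ⟨hy, ?_⟩)
      have h2 := Subgroup.mul_mem _ (Subgroup.inv_mem _ (Subgroup.le_normalizer hc)) hxn
      rwa [inv_mul_cancel_left] at h2
    have hnM := ((mor_subSys hM).1 ((hbig _ _ (card_lt_of_lt' hBS hlt) hng).mono le_sup_left)).2
    -- the factor in `K`
    have hmR : ∀ z : S, (z : Ω) ∈ R → ∃ w : S, (w : Ω) ∈ R ∧ m⁻¹ * ι z * m⁻¹⁻¹ = ι w := by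
      intro z hz
      obtain ⟨w, hw, hwz⟩ := (Subgroup.mem_normalizer_iff.1 (G₁.inv_mem hmK.2) (ι z)).1 ⟨_, hz, rfl⟩
      exact ⟨w, hw, hwz.symm⟩
    have hmg : Mor F R (pullConj ι m⁻¹) := by
      refine (mor_realized hr).2 ⟨hRS, fun x hx => ?_, m⁻¹, fun x hx => ?_⟩
      · obtain ⟨w, -, hw⟩ := hmR ⟨x, hRS hx⟩ hx
        exact pullConj_eq hinj hw ▸ w.2
      · obtain ⟨w, -, hw⟩ := hmR x hx
        rw [pullConj_eq hinj hw, thFn_coe, hw]
    have hmM : M R (pullConj ι m⁻¹) := by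
      refine hcen R _ hmg (cRel_of_fixes (g := pullConj ι m⁻¹) hSV
        (by rw [sup_eq_left.2 hVR]; exact hmg) (fun _ _ => rfl) fun v hv => ?_)
      refine pullConj_eq hinj (x := ⟨v, hVS hv⟩) (y := ⟨v, hVS hv⟩) ?_
      have h1 := Subgroup.mem_centralizer_iff.1 (hKV (K.inv_mem hmK.1)) _
        (⟨⟨v, hVS hv⟩, hv, rfl⟩ : ι ⟨v, hVS hv⟩ ∈ V₁)
      rw [← h1, mul_inv_cancel_right]
    have hnR : ∀ x ∈ R, pullConj ι n x ∈ R := by
      intro x hx
      obtain ⟨w, hw, hwx⟩ := (Subgroup.mem_normalizer_iff.1 hnG (ι ⟨x, hRS hx⟩)).1 ⟨_, hx, rfl⟩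
      rw [show pullConj ι n x = (w : Ω) from pullConj_eq hinj (x := ⟨x, hRS hx⟩) hwx.symm]
      exact hw
    refine hM.congr (hM.comp (hng.mono le_sup_left) hnM hmg hmM hnR) fun x hx => ?_
    show apl α x = pullConj ι m⁻¹ (pullConj ι n x)
    obtain ⟨w, hw⟩ := hnB ⟨x, hRS hx⟩ (le_sup_left (b := NY) hx)
    rw [show pullConj ι n x = (w : Ω) from pullConj_eq hinj (x := ⟨x, hRS hx⟩) hw]
    refine (pullConj_eq hinj (x := w) (y := ⟨_, hRS (apl_mem α hx)⟩) ?_).symm
    rw [← hw, ← thFn_apply (θ := ι) (hRS (apl_mem α hx)), hl ⟨x, hRS hx⟩ hx]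
    simp only [n]
    group
  -- the core is not centric
  have hQR := lt_sup_centralizer hQn hQc
  by_cases hact : ∀ P f, Mor F P f → KRel F (autInducedBy S Q) P f
  swap
  · push Not at hact
    obtain ⟨P₀, f₀, hf₀, hno⟩ := hact
    refine split_step hS hF hQn (hQS := hQS) (hSN := hSN) hM (fun N hN X f hf => ?_)
      (hsame (actSys F hQS hSN) rfl actSys_le (actSys_saturated hS hF hQn)
        (hh.act F hS hF hcls Q hQS hSN hQn)
        (smaller_subsystem actSys_le hf₀ fun h => hno (mor_actSys.1 h).2))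
    obtain ⟨hfF, hNf⟩ := (mor_normalizerSystem hN).1 hf
    exact hnorm _ (sup_le hQS inf_le_left) (fun x hx => split_maps.normalizes hSN hx)
      (fun h => hQR.not_ge (le_core h)) X f hfF hNf
  by_cases hVQ : V ≤ Q
  · intro X f hf
    obtain ⟨-, -, g, hg, hgf, κ, hκ, hκx⟩ := hact X f hf
    obtain ⟨s, hs, -, hsx⟩ := mem_autInducedBy_iff.1 hκ
    refine hcen X f hf (cRel_of_fixes hSV (hg.mono (sup_le_sup_left hVQ _)) hgf fun v hv => ?_)
    rw [hκx v (hVQ hv), hsx v (hVQ hv),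
      ← Subgroup.mem_centralizer_iff.1 (hSV hs) v hv, mul_inv_cancel_right]
  obtain ⟨Ω', _, S', E, θ, _, hS', hE, hEs, hlt, hne, hbig⟩ :=
    exists_factor hS hF hQn hQ0 (core_ne_top hQc)
  have hsc := stronglyClosed_of_isNormal hQn
  have hker := hE.2.1
  have hrange := hE.2.2.1
  -- maps of the factor system carrying a nontrivial normalized subgroup into itself
  have hfac : ∀ U' ≤ S', U' ≠ ⊥ → S' ≤ Subgroup.normalizer (U' : Set Ω') →
      ∀ X' f', Mor E X' f' → (∃ g', Mor E (X' ⊔ U') g' ∧ (∀ x ∈ X', g' x = f' x) ∧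
        ∀ x ∈ U', g' x ∈ U') → LiftRel F θ S' M X' f' := by
    intro U' hU' hU0 hUn X' f' hf' hg'
    obtain ⟨g', hg', hg'f, hg'U⟩ := hg'
    obtain ⟨hsup, g, hg, hgi⟩ := (mor_factor hE hsc).1 hg'
    have hXle : preimageAlong θ X' ≤ preimageAlong θ (X' ⊔ U') := fun x hx =>
      mem_pre.2 ⟨(mem_pre.1 hx).1, Subgroup.mem_sup_left (mem_pre.1 hx).2⟩
    have hUle : preimageAlong θ U' ≤ preimageAlong θ (X' ⊔ U') := fun x hx =>
      mem_pre.2 ⟨(mem_pre.1 hx).1, Subgroup.mem_sup_right (mem_pre.1 hx).2⟩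
    refine ⟨hf'.le, fun x hx => hf'.mem_S hx, g, hg.mono hXle, ?_, fun x hx => ?_⟩
    · refine hnorm _ pre_le (le_normalizer_preimage (hrange.le.trans hUn))
        (fun h => (hbig U' hU' hU0).not_ge (le_core h)) _ g (hg.mono hXle)
        (nRel_of_mapsTo pre_le (le_normalizer_preimage (hrange.le.trans hUn))
          (hg.mono (sup_le hXle hUle)) (fun _ _ => rfl) fun x hx => ?_)
      refine mem_pre.2 ⟨hg.mem_S (hUle hx), ?_⟩
      rw [← hgi x (hUle hx)]
      exact hg'U _ (mem_pre.1 hx).2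
    · rw [← hg'f _ (mem_pre.1 hx).2, hgi x (hXle hx)]
  have hW'S : wsub W S' ≤ S' := wsub_le W S'
  have hS'W : S' ≤ Subgroup.normalizer (wsub W S' : Set Ω') := fun s hs =>
    (normalizerIn_le_normalizerIn_wsub hW le_rfl hS' (le_normalizerIn le_rfl hs)).2
  set V' := imageAlong θ V with hV'def
  have hV'p : ∀ x ∈ V', ∃ w ∈ S' ⊓ Subgroup.centralizer (S' : Set Ω'), w ^ e = x := by
    intro x hx
    obtain ⟨v, hv, rfl⟩ := (mem_imageAlong hVS).1 hx
    obtain ⟨w, hw, rfl⟩ := hV v hv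
    refine ⟨θ ⟨w, hw.1⟩, ⟨hrange ▸ ⟨_, rfl⟩, Subgroup.mem_centralizer_iff.2 fun y hy => ?_⟩, ?_⟩
    · obtain ⟨z, rfl⟩ := hrange.ge hy
      rw [← map_mul, ← map_mul]
      exact congrArg θ (Subtype.ext (Subgroup.mem_centralizer_iff.1 hw.2 z z.2))
    · rw [thFn_apply (S.pow_mem hw.1 e), ← map_pow]
      rfl
  have hV'S : V' ≤ S' := hrange ▸ imageAlong_le_range θ V
  have hS'V : S' ≤ Subgroup.normalizer (V' : Set Ω') :=
    fun s hs => Subgroup.centralizer_le_normalizer _ (Subgroup.mem_centralizer_iff.2 fun x hx => by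
      obtain ⟨w, hw, rfl⟩ := hV'p x hx
      exact (Commute.pow_left
        (show Commute w s from (Subgroup.mem_centralizer_iff.1 hw.2 s hs).symm) e).eq)
  have hV'0 : V' ≠ ⊥ := fun h => hVQ fun v hv => (thFn_eq_one_iff hker (hVS hv)).1
    (Subgroup.mem_bot.1 (h.le ((mem_imageAlong (θ := θ) hVS).2 ⟨v, hv, rfl⟩)))
  refine lift_step hS hF hQn hE hact hM fun X' f' hf' => ?_
  refine ih E (Or.inl hlt) inferInstance hS' hEs (hh.factor F hS hF hcls E θ Q hQn hE) V' hV'p _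
    (subRel_lift hQn hE hM) (fun hfx Y g ⟨_, _, k, hk, hkM, hkg⟩ x hx hxV => ?_)
    (fun Y g hg ⟨_, _, k, hk, hkg, hkW⟩ => hfac _ hW'S (wsub_ne_bot hW hS' hne) hS'W Y g hg
      ⟨k, hk, hkg, fun x hx => (hkW _).2 ⟨x, hx, rfl⟩⟩)
    (fun Y g hg ⟨_, _, k, hk, hkg, hkV⟩ => hfac _ hV'S hV'0 hS'V Y g hg
      ⟨k, hk, hkg, fun x hx => by rw [hkV x hx]; exact hx⟩) X' f' hf'
  obtain ⟨v, hv, rfl⟩ := (mem_imageAlong hVS).1 hxV
  have hvY : v ∈ preimageAlong θ Y := mem_pre.2 ⟨hVS hv, hx⟩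
  rw [hkg v hvY, hfix hfx _ _ hkM v hvY hv]

/-- A functor with the quadratic condition: the maps normalizing `W(S)` and those centralizing a
subgroup of `p`-th powers of central elements generate the system. -/
theorem mem_of_goodAt_agemo [Fact p.Prime] (hW : PosFunctor p W) (hq : QuadCond p W) [Finite S]
    (hS : IsPGroup p S) (hF : F.IsSaturated p) {V : Subgroup Ω}
    (hV : ∀ x ∈ V, ∃ w ∈ S ⊓ Subgroup.centralizer (S : Set Ω), w ^ p = x)
    {M : Subgroup Ω → (Ω → Ω) → Prop} (hM : SubRel F S M)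
    (hgood : GoodAt F M (wsub W S)) (hcen : ∀ X f, Mor F X f → CRel F V X f → M X f) :
    ∀ X f, Mor F X f → M X f :=
  mem_of_goodAt_local hW (fx := False) (e := p) hereditary_true (GP := fun _ _ => True)
    (by intros; trivial)
    (fun L _ _ P hc _ V hV _ hn => exists_normal_centralizing hq hc P V hV hn)
    hS hF trivial hV hM (fun h => h.elim) hgood hcen

/-- A functor with the local condition for central elements controls them. -/
theorem isCentral_of_goodAt [Fact p.Prime] (hW : PosFunctor p W)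
    {Cls : ∀ {Ω : Type u} [Group Ω] {S : Subgroup Ω}, FusionSystem S → Prop}
    (hh : Hereditary p Cls) {GP : ∀ (L : Type u) [Group L], Prop}
    (hGP : ∀ {Ω : Type u} [Group Ω] {S : Subgroup Ω} [Finite S] (F : FusionSystem S),
      IsPGroup p S → F.IsSaturated p → Cls F → ∀ Q, F.IsNormal Q → F.IsCentric Q →
      ∀ {L : Type u} [Group L] (ι : S →* L), F.IsModel p L ι → GP L)
    (hloc : LocalCond p W True 1 GP) [Finite S]
    (hS : IsPGroup p S) (hF : F.IsSaturated p) (hcls : Cls F) {V : Subgroup Ω}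
    (hV : V ≤ S ⊓ Subgroup.centralizer (S : Set Ω)) (hgood : GoodAt F (CRel F V) (wsub W S)) :
    F.IsCentral V := by
  have hVS : V ≤ S := hV.trans inf_le_left
  have hC : centralizerIn S V = S := le_antisymm inf_le_left (le_inf le_rfl
    (Subgroup.le_centralizer_iff.1 (hV.trans inf_le_right)))
  have hM : SubRel F S (CRel F V) := by
    have h := subRel_cRel (F := F) hVS
    rwa [hC] at h
  refine isCentral_iff.2 ⟨hVS, fun P f hf => ?_⟩
  refine (mem_of_goodAt_local hW hh hGP hloc hS hF hcls (fun x hx => ⟨x, hV hx, pow_one x⟩) hM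
    (fun _ X g ⟨_, _, k, _, hkg, hkV⟩ x hx hxV => ?_) hgood (fun _ _ _ h => h) P f hf).2.2
  rw [← hkg x hx, hkV x hxV]

/-- The elements of the power closure of an abelian group are powers. -/
theorem exists_pow_of_mem_powerClosure {H : Subgroup Ω} (hH : H ≤ Subgroup.centralizer (H : Set Ω))
    {n : ℕ} {x : Ω} (hx : x ∈ Cfsg.powerClosure p n H) : ∃ w ∈ H, w ^ p ^ n = x := by
  induction hx using Subgroup.closure_induction with
  | mem y hy =>
    obtain ⟨w, hw, rfl⟩ := hy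
    exact ⟨w, hw, rfl⟩
  | one => exact ⟨1, H.one_mem, one_pow _⟩
  | mul a b _ _ ha hb =>
    obtain ⟨u, hu, rfl⟩ := ha
    obtain ⟨v, hv, rfl⟩ := hb
    exact ⟨u * v, H.mul_mem hu hv,
      (show Commute u v from Subgroup.mem_centralizer_iff.1 (hH hv) u hu).mul_pow _⟩
  | inv a _ ha =>
    obtain ⟨u, hu, rfl⟩ := ha
    exact ⟨u⁻¹, H.inv_mem hu, inv_pow u _⟩

/-- A central subgroup lies in the centre of the group. -/
theorem isCentral_le_center (h : F.IsCentral Q) : Q ≤ S ⊓ Subgroup.centralizer (S : Set Ω) := by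
  obtain ⟨hQ, h⟩ := isCentral_iff.1 h
  refine fun x hx => ⟨hQ hx, Subgroup.mem_centralizer_iff.2 fun s hs => ?_⟩
  obtain ⟨g, -, hgf, hgQ⟩ := h S _ (mor_conj le_rfl hs)
  have h1 := hgQ x hx
  rw [hgf x (hQ hx)] at h1
  exact mul_inv_eq_iff_eq_mul.1 h1

/-- The centre of a system is contained in the centre of each normalizer system. -/
theorem center_le_normalizer_center [Finite S] {U : Subgroup Ω} (hU : U ≤ S)
    {N : FusionSystem (normalizerIn S U)} (hN : F.IsNormalizerSystem U N) :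
    F.center ≤ N.center := by
  obtain ⟨hZS, hZ⟩ := isCentral_iff.1 (isCentral_center (F := F))
  have hZc := isCentral_le_center (isCentral_center (F := F))
  have hZU : F.center ≤ normalizerIn S U := fun x hx => ⟨hZS hx,
    Subgroup.centralizer_le_normalizer _ (Subgroup.centralizer_le hU (hZc hx).2)⟩
  refine le_center (isCentral_iff.2 ⟨hZU, fun P f hf => ?_⟩)
  obtain ⟨hfF, hP, himg, k, hk, hkf, hkU⟩ := (mor_normalizerSystem hN).1 hf
  obtain ⟨g, hg, hgk, hgZ⟩ := hZ _ k hk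
  have hle : P ⊔ F.center ⊔ U ≤ P ⊔ U ⊔ F.center :=
    sup_le (sup_le (le_sup_left.trans le_sup_left) le_sup_right) (le_sup_right.trans le_sup_left)
  have hgU : ∀ x ∈ U, g x = k x := fun x hx => hgk x (Subgroup.mem_sup_right hx)
  have hm := hg.mono hle
  refine ⟨g, (mor_normalizerSystem hN).2 ⟨hm.mono le_sup_left, sup_le hP hZU, fun x hx => ?_, g,
    hm, fun _ _ => rfl, fun y => ?_⟩, fun x hx => (hgk x (Subgroup.mem_sup_left hx)).trans (hkf x hx),
    hgZ⟩
  · exact (hm.mono le_sup_left).mem_of_sup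
      (fun a ha => ((hgk a (Subgroup.mem_sup_left ha)).trans (hkf a ha)).symm ▸ himg a ha)
      (fun a ha => (hgZ a ha).symm ▸ hZU ha) hx
  · rw [hkU y]
    exact ⟨fun ⟨x, hx, hxy⟩ => ⟨x, hx, (hgU x hx).trans hxy⟩,
      fun ⟨x, hx, hxy⟩ => ⟨x, hx, (hgU x hx).symm.trans hxy⟩⟩

/-- A functor with the local condition for central elements controls the centre. -/
theorem normalizer_center_eq [Fact p.Prime] (hW : PosFunctor p W)
    {Cls : ∀ {Ω : Type u} [Group Ω] {S : Subgroup Ω}, FusionSystem S → Prop}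
    (hh : Hereditary p Cls) {GP : ∀ (L : Type u) [Group L], Prop}
    (hGP : ∀ {Ω : Type u} [Group Ω] {S : Subgroup Ω} [Finite S] (F : FusionSystem S),
      IsPGroup p S → F.IsSaturated p → Cls F → ∀ Q, F.IsNormal Q → F.IsCentric Q →
      ∀ {L : Type u} [Group L] (ι : S →* L), F.IsModel p L ι → GP L)
    (hloc : LocalCond p W True 1 GP) [Finite S]
    (hS : IsPGroup p S) (hF : F.IsSaturated p) (hcls : Cls F)
    {N : FusionSystem (normalizerIn S (wsub W S))} (hN : F.IsNormalizerSystem (wsub W S) N) :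
    N.center = F.center := by
  haveI : Finite (normalizerIn S (wsub W S)) := finite_of_le inf_le_left
  refine le_antisymm ?_ (center_le_normalizer_center (wsub_le W S) hN)
  have hSW : S ≤ Subgroup.normalizer (wsub W S : Set Ω) := fun s hs =>
    (normalizerIn_le_normalizerIn_wsub hW le_rfl hS (le_normalizerIn le_rfl hs)).2
  have hT := normalizerIn_eq_of_le hSW
  obtain ⟨-, hc⟩ := isCentral_iff.1 (isCentral_center (F := N))
  have hV : N.center ≤ S ⊓ Subgroup.centralizer (S : Set Ω) := by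
    have h := isCentral_le_center (isCentral_center (F := N))
    refine h.trans (le_inf (inf_le_left.trans hT.le) (inf_le_right.trans ?_))
    exact Subgroup.centralizer_le (show S ≤ normalizerIn S (wsub W S) from hT.ge)
  refine le_center (isCentral_of_goodAt hW hh hGP hloc hS hF hcls hV fun X f hf hfW => ?_)
  obtain ⟨k, hk, hkf, hkc⟩ := hc X f ((mor_normalizerSystem hN).2 ⟨hf, hfW⟩)
  exact cRel_of_fixes (Subgroup.le_centralizer_iff.1 (hV.trans inf_le_right))
    ((mor_normalizerSystem hN).1 hk).1 hkf hkc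

/-- The `p`-th powers of central elements lying in the centre of the normalizer system are
central. -/
theorem agemo_inf_center_le [Fact p.Prime] (hW : PosFunctor p W) (hq : QuadCond p W) [Finite S]
    (hS : IsPGroup p S) (hF : F.IsSaturated p)
    {N : FusionSystem (normalizerIn S (wsub W S))} (hN : F.IsNormalizerSystem (wsub W S) N) :
    Subgroup.closure ((fun z : Ω => z ^ p) ''
      ((S ⊓ Subgroup.centralizer (S : Set Ω) : Subgroup Ω) : Set Ω)) ⊓ N.center ≤ F.center := by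
  set V := Subgroup.closure ((fun z : Ω => z ^ p) ''
    ((S ⊓ Subgroup.centralizer (S : Set Ω) : Subgroup Ω) : Set Ω)) ⊓ N.center
  have hV : ∀ x ∈ V, ∃ w ∈ S ⊓ Subgroup.centralizer (S : Set Ω), w ^ p = x := by
    intro x hx
    have hx1 : x ∈ Cfsg.powerClosure p 1 (S ⊓ Subgroup.centralizer (S : Set Ω)) := by
      refine Subgroup.closure_mono ?_ hx.1
      rintro y ⟨z, hz, rfl⟩
      exact ⟨z, hz, by rw [pow_one]⟩
    obtain ⟨w, hw, hwx⟩ := exists_pow_of_mem_powerClosure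
      (inf_le_right.trans (Subgroup.centralizer_le inf_le_left)) hx1
    exact ⟨w, hw, by rwa [pow_one] at hwx⟩
  have hVZ : V ≤ S ⊓ Subgroup.centralizer (S : Set Ω) := fun x hx => by
    obtain ⟨w, hw, rfl⟩ := hV x hx
    exact pow_mem hw p
  have hVS : V ≤ S := hVZ.trans inf_le_left
  have hSV := Subgroup.le_centralizer_iff.1 (hVZ.trans inf_le_right)
  have hM : SubRel F S (CRel F V) := by
    have h := subRel_cRel (F := F) hVS
    rwa [le_antisymm inf_le_left (le_inf le_rfl hSV) (a := centralizerIn S V) (b := S)] at h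
  haveI : Finite (normalizerIn S (wsub W S)) := finite_of_le inf_le_left
  obtain ⟨-, hc⟩ := isCentral_iff.1 (isCentral_center (F := N))
  refine le_center (isCentral_iff.2 ⟨hVS, fun P f hf =>
    (mem_of_goodAt_agemo hW hq hS hF hV hM (fun X g hg hgW => ?_) (fun _ _ _ h => h) P f hf).2.2⟩)
  obtain ⟨k, hk, hkg, hkc⟩ := hc X g ((mor_normalizerSystem hN).2 ⟨hg, hgW⟩)
  exact cRel_of_fixes hSV
    ((((mor_normalizerSystem hN).1 hk).1).mono (sup_le_sup_left inf_le_right X)) hkg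
    fun x hx => hkc x hx.2

end Cfsg.Agent.FusSys
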