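import Cfsg.Agent.FusSys.RealizedQuot
import Cfsg.Agent.FusSys.FactorFree
import Cfsg.Agent.Fusion.Transfer

/-!
The fusion system of a group inherits section freeness from the group.
-/

set_option autoImplicit false

namespace Cfsg.Agent.FusSys

open Cfsg Cfsg.FusionSystem

universe u

variable {G : Type u} [Group G] [Finite G] {p : ℕ} [Fact p.Prime]

/-- A section not involved in a finite group is not involved in its fusion system. -/
theorem free_gfs (S : Sylow p G) {H : Type*} [Group H] (h : ¬ Involves H G) :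
    (groupFusionSystem (S : Subgroup G)).IsSectionFree p H := by
  intro Q hQn hQc N hN L _ ι hM
  set Ng := Subgroup.normalizer (Q : Set G) with hNg
  have hQS : Q ≤ (S : Subgroup G) := hQn.1
  have hTN : normalizerIn (S : Subgroup G) Q ≤ Ng := inf_le_right
  haveI : Finite (normalizerIn (S : Subgroup G) Q) := inferInstance
  have hTp : IsPGroup p (normalizerIn (S : Subgroup G) Q) := S.2.to_le inf_le_left
  set C := Subgroup.centralizer (Q : Set G) with hC
  have hsyl := (isFullyNormalized_gfs_iff S hQS).1 hQn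
  have hcen := sylIn_centralizer_of_normalizer S hsyl
  set Z := centralizerIn (S : Subgroup G) Q
  have hZQ : Z ≤ Q := centric_self hQc
  -- the normal complement in the centralizer
  obtain ⟨T, hT⟩ := (sylIn_iff (S.2.to_le inf_le_left) hcen.1).1 hcen
  have hTc : ∀ c : C, ∀ z ∈ (T : Subgroup C), c * z = z * c := fun c z hz => by
    rw [hT, Subgroup.mem_subgroupOf] at hz
    exact Subtype.ext (Subgroup.mem_centralizer_iff.1 c.2 _ (hZQ hz)).symm
  obtain ⟨P₀, K, hKn, hK⟩ := Fusion.hasNormalPComplement_of_normalizer_le_centralizer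
    (P := T) (fun c _ => Subgroup.mem_centralizer_iff.2 fun z hz => (hTc c z hz).symm)
  have hKp : (Nat.card K).Coprime p := by
    refine ((Fact.out : p.Prime).coprime_iff_not_dvd.2 ?_).symm
    rw [← hK.index_eq_card]
    exact P₀.not_dvd_index
  set K₀ := K.map C.subtype with hK₀
  have hKc : (Nat.card K₀).Coprime p := by
    rw [hK₀, Subgroup.card_map_of_injective C.subtype_injective]; exact hKp
  have hKC : K₀ ≤ C := Subgroup.map_subtype_le _
  -- elements of `C` of order prime to `p` lie in the complement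
  have hKmem : ∀ c : C, (orderOf c).Coprime p → c ∈ K := by
    intro c hc
    haveI := hKn
    obtain ⟨e, he⟩ := IsPGroup.iff_card.1 P₀.2
    refine (QuotientGroup.eq_one_iff c).1 (orderOf_eq_one_iff.1 ?_)
    refine Nat.eq_one_of_dvd_coprimes (Nat.Coprime.pow_right e hc)
      (orderOf_map_dvd (QuotientGroup.mk' K) c) ?_
    rw [← he, ← hK.symm.index_eq_card, Subgroup.index_eq_card]
    exact orderOf_dvd_natCard _
  haveI : (K₀.subgroupOf Ng).Normal := by
    refine ⟨fun x hx n => Subgroup.mem_subgroupOf.2 ?_⟩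
    obtain ⟨k, hk, hkx⟩ := Subgroup.mem_subgroupOf.1 hx
    have hnk : (n : G) * k * (n : G)⁻¹ ∈ C := Subgroup.mem_centralizer_iff.2 fun q hq => by
      have h1 := Subgroup.mem_centralizer_iff.1 k.2 ((n : G)⁻¹ * q * n)
        ((Subgroup.mem_normalizer_iff''.1 n.2 q).1 hq)
      calc q * (n * k * (n : G)⁻¹) = n * (((n : G)⁻¹ * q * n) * k) * (n : G)⁻¹ := by group
        _ = n * (k * ((n : G)⁻¹ * q * n)) * (n : G)⁻¹ := by rw [h1]
        _ = n * k * (n : G)⁻¹ * q := by group
    refine ⟨⟨_, hnk⟩, hKmem _ ?_, ?_⟩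
    · rw [← Subgroup.orderOf_coe]
      show (orderOf ((n : G) * k * (n : G)⁻¹)).Coprime p
      rw [show (n : G) * k * (n : G)⁻¹ = MulAut.conj (n : G) (k : G) from rfl, MulEquiv.orderOf_eq,
        Subgroup.orderOf_coe]
      exact hKp.coprime_dvd_left (Subgroup.orderOf_dvd_natCard _ hk)
    · show (n : G) * k * (n : G)⁻¹ = _
      rw [show ((k : C) : G) = (x : G) from hkx]
      rfl
  let ι₀ : normalizerIn (S : Subgroup G) Q →* Ng := Subgroup.inclusion hTN
  have hr₀ : N.IsRealizedBy ι₀ := by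
    refine ⟨Subgroup.inclusion_injective hTN, fun P hP φ hφ => ?_⟩
    constructor
    · intro hφN
      obtain ⟨-, -, -, g, hg, hgf, hgQ⟩ := (mor_normalizerSystem hN).1 (mor_extendFn hφN)
      obtain ⟨-, -, x, hx⟩ := mor_gfs.1 hg
      have hxN : x ∈ Ng := mem_normalizer_of_maps fun q hq => by
        rw [← hx q (Subgroup.mem_sup_right hq)]
        exact (hgQ _).2 ⟨q, hq, rfl⟩
      refine ⟨⟨x, hxN⟩, fun y => Subtype.ext ?_⟩
      show φ y = x * y * x⁻¹
      rw [← hx y (Subgroup.mem_sup_left y.2), hgf y y.2, extendFn_coe]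
    · rintro ⟨g, hg⟩
      have hgv : ∀ y : P, φ y = (g : G) * y * (g : G)⁻¹ := fun y => congrArg Subtype.val (hg y)
      have hgS : ∀ y ∈ P ⊔ Q, (g : G) * y * (g : G)⁻¹ ∈ (S : Subgroup G) := by
        have hle : P ⊔ Q ≤ (S : Subgroup G).comap (MulAut.conj (g : G)).toMonoidHom := by
          refine sup_le (fun y hy => ?_) fun y hy => ?_
          · show (g : G) * y * (g : G)⁻¹ ∈ (S : Subgroup G)
            rw [← hgv ⟨y, hy⟩]
            exact (hφ ⟨y, hy⟩).1
          · exact hQS ((Subgroup.mem_normalizer_iff.1 g.2 y).1 hy)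
        exact fun y hy => hle hy
      have hm : Mor (groupFusionSystem (S : Subgroup G)) (P ⊔ Q)
          (fun y => (g : G) * y * (g : G)⁻¹) :=
        mor_gfs.2 ⟨sup_le (hP.trans inf_le_left) hQS, hgS, g, fun _ _ => rfl⟩
      refine Mor.hom_eq ((mor_normalizerSystem hN).2 ⟨hm.mono le_sup_left, hP, fun y hy => ?_, _, hm,
        fun _ _ => rfl, fun y => ?_⟩) hgv
      · show (g : G) * y * (g : G)⁻¹ ∈ normalizerIn (S : Subgroup G) Q
        rw [← hgv ⟨y, hy⟩]
        exact hφ _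
      · refine ⟨fun hy => ⟨(g : G)⁻¹ * y * g, (Subgroup.mem_normalizer_iff''.1 g.2 y).1 hy, by group⟩,
          ?_⟩
        rintro ⟨q, hq, rfl⟩
        exact (Subgroup.mem_normalizer_iff.1 g.2 q).1 hq
  have hT₀ : ∃ T : Sylow p Ng, (T : Subgroup Ng) = ι₀.range := by
    obtain ⟨T₁, hT₁⟩ := (sylIn_iff hTp hTN).1 hsyl
    refine ⟨T₁, hT₁.trans ?_⟩
    ext y
    exact ⟨fun hy => ⟨⟨y, hy⟩, rfl⟩, fun ⟨z, hz⟩ => hz ▸ z.2⟩
  have hKN : (Nat.card (K₀.subgroupOf Ng)).Coprime p := by
    rw [Nat.card_congr (Subgroup.subgroupOfEquivOfLe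
      (hKC.trans (Subgroup.centralizer_le_normalizer _))).toEquiv]
    exact hKc
  obtain ⟨hr₁, hT₁⟩ := realized_quotient hTp hr₀ hT₀ (K₀.subgroupOf Ng) hKN
  set q := QuotientGroup.mk' (K₀.subgroupOf Ng)
  have hQN : Q ≤ Ng := Subgroup.le_normalizer
  have hQp : IsPGroup p Q := S.2.to_le hQS
  set Q₁ := (Q.subgroupOf Ng).map q with hQ₁
  haveI : (Q.subgroupOf Ng).Normal := Subgroup.normal_in_normalizer
  have hQ₁O : Q₁ ≤ pCore p (Ng ⧸ K₀.subgroupOf Ng) :=
    Core.le_pCore (hN := (inferInstance : (Q.subgroupOf Ng).Normal).map q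
      (QuotientGroup.mk'_surjective _)) ((hQp.comap_subtype).map q)
  have hmodel : N.IsModel p (Ng ⧸ K₀.subgroupOf Ng) (q.comp ι₀) := by
    refine ⟨inferInstance, hr₁, hT₁, fun y hy => hQ₁O ?_⟩
    obtain ⟨n, rfl⟩ := QuotientGroup.mk'_surjective _ y
    have hnC : (n : G) ∈ C := Subgroup.mem_centralizer_iff.2 fun a ha => by
      have h1 := Subgroup.mem_centralizer_iff.1 hy (q ⟨a, hQN ha⟩)
        (hQ₁O ⟨⟨a, hQN ha⟩, ha, rfl⟩)
      rw [← map_mul, ← map_mul, ← mul_inv_eq_one, ← map_inv, ← map_mul] at h1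
      have h2 := Subgroup.mem_subgroupOf.1 ((QuotientGroup.eq_one_iff _).1 h1)
      simp only [Subgroup.coe_mul, Subgroup.coe_inv] at h2
      set c := a * (n : G) * ((n : G) * a)⁻¹ with hc
      have hcQ : c ∈ Q := by
        rw [hc, show a * (n : G) * ((n : G) * a)⁻¹ = a * ((n : G) * a⁻¹ * (n : G)⁻¹) by group]
        exact Q.mul_mem ha ((Subgroup.mem_normalizer_iff.1 n.2 _).1 (Q.inv_mem ha))
      have h3 : c ∈ Q ⊓ K₀ := ⟨hcQ, h2⟩
      rw [Cfsg.Agent.Layer.inf_eq_bot_of_isPGroup hQp hKc, Subgroup.mem_bot, hc,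
        mul_inv_eq_one] at h3
      exact h3
    obtain ⟨⟨z, k⟩, hzk⟩ := (hK.symm.existsUnique ⟨n, hnC⟩).exists
    haveI := hKn
    obtain ⟨u, hu⟩ := MulAction.exists_smul_eq C P₀ T
    have hzQ : ((z : C) : G) ∈ Q := by
      have hP₀ : (z : C) ∈ (T : Subgroup C) := by
        have h1 : u * z * u⁻¹ ∈ (T : Subgroup C) := by
          rw [← hu, Sylow.smul_def, Sylow.pointwise_smul_def]
          exact Subgroup.smul_mem_pointwise_smul_iff.2 z.2
        have h2 := hTc u⁻¹ _ h1
        rw [show u⁻¹ * (u * z * u⁻¹) = z * u⁻¹ by group] at h2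
        rwa [mul_right_cancel h2]
      rw [hT, Subgroup.mem_subgroupOf] at hP₀
      exact hZQ hP₀
    refine ⟨⟨_, hQN hzQ⟩, hzQ, ?_⟩
    refine QuotientGroup.eq.2 (Subgroup.mem_subgroupOf.2 ⟨k, k.2, ?_⟩)
    have hzk' : ((z : C) : G) * ((k : C) : G) = n := congrArg Subtype.val hzk
    show ((k : C) : G) = ((z : C) : G)⁻¹ * n
    rw [← hzk', inv_mul_cancel_left]
  obtain ⟨φ, -⟩ := model_unique hTp (model_constrained hM) hM hmodel
  intro hi
  refine h (involves_of_injective (θ := Ng.subtype) Ng.subtype_injective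
    (involves_of_surjective (f := q) (QuotientGroup.mk'_surjective _) ?_))
  exact involves_of_injective (θ := φ.toMonoidHom) φ.injective hi

end Cfsg.Agent.FusSys
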