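import Cfsg.Agent.FusSys.GroupSys
import Cfsg.Agent.FusSys.Control
import Cfsg.Agent.FusSys.Unique
import Cfsg.Agent.Core.PCore
import Cfsg.Agent.Fusion.Residual
import Cfsg.Agent.Fusion.Transfer
import Cfsg.Agent.QdFree.Involve
import Cfsg.Agent.QdFree.Control

/-!
Models of normalizer systems in group fusion systems; a group not involving `H` has an `H`-free fusion
system; the functor `Z(J)` for Qd(p)-free systems; factor systems modulo strongly closed subgroups.
-/

set_option autoImplicit false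

namespace Cfsg.Agent.FusSys.GroupFree

open Cfsg Cfsg.FusionSystem Cfsg.Agent.FusSys

universe u v

variable {G : Type u} [Group G] [Finite G] {p : ℕ} [Fact p.Prime] (S : Sylow p G) {Q : Subgroup G}

/-- The normalizer of a fully normalized subgroup, modulo its `p'`-core, realizes the normalizer system
and, for a centric subgroup, is a model. -/
theorem exists_model_normalizer (hQn : (groupFusionSystem (S : Subgroup G)).IsFullyNormalized Q)
    (hQc : (groupFusionSystem (S : Subgroup G)).IsCentric Q)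
    {N : FusionSystem (normalizerIn (S : Subgroup G) Q)}
    (hN : (groupFusionSystem (S : Subgroup G)).IsNormalizerSystem Q N) :
    N.IsModel p (↥(Subgroup.normalizer (Q : Set G)) ⧸ pPrimeCore p ↥(Subgroup.normalizer (Q : Set G)))
      ((QuotientGroup.mk' (pPrimeCore p ↥(Subgroup.normalizer (Q : Set G)))).comp
        (Subgroup.inclusion (inf_le_right :
          normalizerIn (S : Subgroup G) Q ≤ Subgroup.normalizer (Q : Set G)))) := by
  classical
  set NG := Subgroup.normalizer (Q : Set G) with hNG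
  set ι₀ : normalizerIn (S : Subgroup G) Q →* NG := Subgroup.inclusion inf_le_right with hι₀
  have hQS : Q ≤ (S : Subgroup G) := hQn.1
  have hQN : Q ≤ normalizerIn (S : Subgroup G) Q := le_inf hQS Subgroup.le_normalizer
  have hTp : IsPGroup p (normalizerIn (S : Subgroup G) Q) := isPGroup_normalizerIn S Q
  have hsyl := (isFullyNormalized_gfs_iff S hQS).1 hQn
  have hr : N.IsRealizedBy ι₀ := by
    refine ⟨Subgroup.inclusion_injective _, fun P hP φ hφ => ?_⟩
    constructor
    · intro h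
      obtain ⟨hF, -, -, k, hk, hkφ, hkQ⟩ := (mor_normalizerSystem hN).1 (mor_extendFn h)
      obtain ⟨-, -, g, hg⟩ := mor_gfs.1 hk
      have hgN : g ∈ NG := by
        refine Subgroup.mem_normalizer_fintype fun x hx => ?_
        rw [← hg x (Subgroup.mem_sup_right hx)]
        exact (hkQ _).2 ⟨x, hx, rfl⟩
      refine ⟨⟨g, hgN⟩, fun x => Subtype.ext ?_⟩
      show φ x = g * (x : G) * g⁻¹
      rw [← hg _ (Subgroup.mem_sup_left x.2), hkφ _ x.2, extendFn_coe]
    · rintro ⟨⟨g, hgN⟩, hg⟩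
      have hg' : ∀ x : P, φ x = g * (x : G) * g⁻¹ := fun x => congrArg Subtype.val (hg x)
      have hm : Mor (groupFusionSystem (S : Subgroup G)) (P ⊔ Q) (fun x => g * x * g⁻¹) := by
        refine mor_gfs.2 ⟨sup_le (hP.trans inf_le_left) hQS, fun x hx => ?_, g, fun _ _ => rfl⟩
        have hle : P ⊔ Q ≤ (S : Subgroup G).comap (MulAut.conj g).toMonoidHom := by
          refine sup_le (fun y hy => ?_) fun y hy => hQS ((Subgroup.mem_normalizer_iff.1 hgN y).1 hy)
          show g * y * g⁻¹ ∈ (S : Subgroup G)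
          rw [← hg' ⟨y, hy⟩]
          exact (hφ _).1
        exact hle hx
      refine ((mor_normalizerSystem hN).2 ⟨hm.mono le_sup_left, hP, fun x hx => ?_, _, hm,
        fun x _ => rfl, fun y => ⟨fun hy => ⟨g⁻¹ * y * g, ?_, by group⟩, ?_⟩⟩).hom_eq hg'
      · have := hφ ⟨x, hx⟩
        rwa [hg'] at this
      · exact (Subgroup.mem_normalizer_iff.1 hgN _).2 (by rwa [show g * (g⁻¹ * y * g) * g⁻¹ = y by group])
      · rintro ⟨x, hx, rfl⟩
        exact (Subgroup.mem_normalizer_iff.1 hgN x).1 hx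
  have hT₀ : ∃ T : Sylow p NG, (T : Subgroup NG) = ι₀.range := by
    obtain ⟨T, hT⟩ := (sylIn_iff hTp hsyl.1).1 hsyl
    exact ⟨T, hT.trans (Subgroup.inclusion_range _).symm⟩
  obtain ⟨hr', hT'⟩ := realized_quotient hTp hr hT₀ (pPrimeCore p NG) Core.coprime_card_pPrimeCore
  refine ⟨inferInstance, hr', hT', ?_⟩
  -- self-centralizing core
  set K := pPrimeCore p NG with hK
  set π := QuotientGroup.mk' K
  set Qn : Subgroup NG := Q.subgroupOf NG
  haveI hQnn : Qn.Normal := Subgroup.normal_in_normalizer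
  have hQp : IsPGroup p Qn := (S.2.to_le hQS).comap_subtype
  haveI : (Qn.map π).Normal := hQnn.map _ (QuotientGroup.mk'_surjective _)
  have hle : Qn.map π ≤ pCore p (NG ⧸ K) := Core.le_pCore (hQp.map π)
  -- the centralizer of `Q`
  set C : Subgroup G := Subgroup.centralizer (Q : Set G) with hC
  have hCN : C ≤ NG := Subgroup.centralizer_le_normalizer (Q : Set G)
  have hcen : centralizerIn (S : Subgroup G) Q ≤ Q := centric_self hQc
  have hsylC : SylIn p (centralizerIn (S : Subgroup G) Q) C := sylIn_centralizer_of_normalizer S hsyl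
  obtain ⟨T, hT⟩ := (sylIn_iff (isPGroup_centralizerIn S Q) hsylC.1).1 hsylC
  have hTZ : ∀ z ∈ (T : Subgroup C), (z : G) ∈ Q := fun z hz => by
    rw [hT, Subgroup.mem_subgroupOf] at hz
    exact hcen hz
  have hNC : Subgroup.normalizer ((T : Subgroup C) : Set C) ≤ Subgroup.centralizer ((T : Subgroup C) : Set C) :=
    fun c _ => Subgroup.mem_centralizer_iff.2 fun z hz =>
      Subtype.ext (Subgroup.mem_centralizer_iff.1 c.2 z (hTZ z hz))
  have hpc := Fusion.hasNormalPComplement_of_normalizer_le_centralizer T hNC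
  obtain ⟨M, hMn, hMc, hcomp⟩ : ∃ M : Subgroup C, M.Normal ∧ (∀ x : C, x ∈ M ↔ Nat.Coprime (orderOf x) p) ∧
      M.IsComplement' (T : Subgroup C) :=
    ⟨pResidual p C, inferInstance, fun x => Fusion.mem_pResidual_iff hpc,
      Fusion.isComplement'_pResidual hpc T⟩
  set L : Subgroup NG := (M.map C.subtype).subgroupOf NG with hL
  have hmemL : ∀ x : NG, x ∈ L ↔ ∃ h : (x : G) ∈ C, Nat.Coprime (orderOf x) p := by
    intro x
    rw [hL, Subgroup.mem_subgroupOf, Subgroup.mem_map]
    constructor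
    · rintro ⟨y, hy, hyx⟩
      refine ⟨hyx ▸ y.2, ?_⟩
      rw [← Subgroup.orderOf_coe, ← show (y : G) = (x : G) from hyx, Subgroup.orderOf_coe]
      exact (hMc y).1 hy
    · rintro ⟨h, hx⟩
      exact ⟨⟨x, h⟩, (hMc _).2 (by rwa [← Subgroup.orderOf_coe, Subgroup.coe_mk, Subgroup.orderOf_coe]), rfl⟩
  have hCn : ∀ (g : NG) (x : G), x ∈ C → (g : G) * x * (g : G)⁻¹ ∈ C := fun g x hx =>
    Subgroup.mem_centralizer_iff.2 fun q hq => by
      have h1 := Subgroup.mem_centralizer_iff.1 hx ((g : G)⁻¹ * q * g)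
        ((Subgroup.mem_normalizer_iff.1 g.2 _).2 (by rwa [show (g : G) * ((g : G)⁻¹ * q * g) * (g : G)⁻¹ = q by group]))
      calc q * ((g : G) * x * (g : G)⁻¹) = g * ((g : G)⁻¹ * q * g * x) * (g : G)⁻¹ := by group
        _ = g * (x * ((g : G)⁻¹ * q * g)) * (g : G)⁻¹ := by rw [h1]
        _ = g * x * (g : G)⁻¹ * q := by group
  have hLK : L ≤ K := by
    haveI : L.Normal := ⟨fun x hx g => by
      obtain ⟨hxC, hxo⟩ := (hmemL x).1 hx
      exact (hmemL _).2 ⟨hCn g x hxC, by
        rwa [show g * x * g⁻¹ = MulAut.conj g x from rfl, MulEquiv.orderOf_eq]⟩⟩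
    refine Core.le_pPrimeCore ?_
    have hdiv : Nat.card L ∣ Nat.card M := by
      rw [hL, Nat.card_congr (Subgroup.subgroupOfEquivOfLe ((Subgroup.map_subtype_le M).trans hCN)).toEquiv,
        Subgroup.card_map_of_injective C.subtype_injective]
    refine Nat.Coprime.coprime_dvd_left hdiv ?_
    by_contra hnc
    obtain ⟨r, hrp, hr1, hr2⟩ := Nat.Prime.not_coprime_iff_dvd.1 hnc
    obtain rfl : r = p := (Nat.prime_dvd_prime_iff_eq hrp Fact.out).1 hr2
    obtain ⟨y, hy⟩ := exists_prime_orderOf_dvd_card' (G := M) r hr1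
    have := (hMc y).1 y.2
    rw [Subgroup.orderOf_coe, hy, Nat.coprime_self] at this
    exact hrp.ne_one this
  have hcent : Subgroup.centralizer (Qn.map π : Set (NG ⧸ K)) ≤ Qn.map π := by
    intro y hy
    obtain ⟨x, rfl⟩ := QuotientGroup.mk'_surjective K y
    have hxC : (x : G) ∈ C := Subgroup.mem_centralizer_iff.2 fun q hq => by
      have hqn : (⟨q, Subgroup.le_normalizer hq⟩ : NG) ∈ Qn := hq
      set q' : NG := ⟨q, Subgroup.le_normalizer hq⟩
      have h1 := Subgroup.mem_centralizer_iff.1 hy (π q') ⟨q', hqn, rfl⟩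
      rw [← map_mul, ← map_mul, QuotientGroup.mk'_eq_mk'] at h1
      obtain ⟨k, hk, hkk⟩ := h1
      have hkQ : k ∈ Qn := by
        rw [show k = (q' * x)⁻¹ * (x * q') by rw [← hkk, inv_mul_cancel_left],
          show (q' * x)⁻¹ * (x * q') = (x⁻¹ * q'⁻¹ * x) * q' by group]
        exact mul_mem (by simpa using hQnn.conj_mem _ (inv_mem hqn) x⁻¹) hqn
      have hk1 : k ∈ Qn ⊓ K := ⟨hkQ, hk⟩
      rw [Layer.inf_eq_bot_of_isPGroup hQp Core.coprime_card_pPrimeCore, Subgroup.mem_bot] at hk1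
      rw [hk1, mul_one] at hkk
      exact congrArg Subtype.val hkk
    obtain ⟨⟨m, hm⟩, ⟨t, ht⟩, hmt⟩ : ∃ (m : M) (t : (T : Subgroup C)), (m : C) * (t : C) = ⟨x, hxC⟩ := by
      obtain ⟨⟨m, t⟩, h⟩ := hcomp.2 ⟨x, hxC⟩
      exact ⟨m, t, h⟩
    have hxe : x = ⟨(m : G), hCN m.2⟩ * ⟨(t : G), hCN t.2⟩ :=
      Subtype.ext (congrArg Subtype.val hmt).symm
    have hmK : (⟨(m : G), hCN m.2⟩ : NG) ∈ K := hLK ⟨m, hm, rfl⟩
    refine ⟨⟨(t : G), hCN t.2⟩, hTZ t ht, ?_⟩
    rw [hxe, map_mul, show π ⟨(m : G), hCN m.2⟩ = 1 from (QuotientGroup.eq_one_iff _).2 hmK, one_mul]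
  exact (Subgroup.centralizer_le (SetLike.coe_subset_coe.2 hle)).trans (hcent.trans hle)

/-- A group not involving `H` has an `H`-free fusion system. -/
theorem gfs_free {H : Type v} [Group H] (h : ¬ Involves H G) :
    (groupFusionSystem (S : Subgroup G)).IsSectionFree p H := by
  intro Q hQn hQc N hN L _ ι hM hinv
  haveI : Finite (normalizerIn (S : Subgroup G) Q) := inferInstance
  obtain ⟨φ, -⟩ := model_unique (isPGroup_normalizerIn S Q) (model_constrained hM) hM
    (exists_model_normalizer S hQn hQc hN)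
  refine h (QdFree.involves_of_subgroup (H := Subgroup.normalizer (Q : Set G))
    (QdFree.involves_of_surjective (f := QuotientGroup.mk' (pPrimeCore p ↥(Subgroup.normalizer (Q : Set G)))) ?_ (QuotientGroup.mk'_surjective _)))
  exact involves_of_injective (θ := φ.toMonoidHom) φ.injective hinv

/-- `Z(J)` as a functor with the properties needed by the control theorem. -/
theorem posFunctor_zj0 : PosFunctor.{u} p (QdFree.zjFunctor 0) :=
  ⟨QdFree.isCharPFunctor_zj.1, QdFree.isCharPFunctor_zj.2⟩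

theorem zj_normal_local (hp : p ≠ 2) (L : Type u) [Group L] [Finite L] (P : Sylow p L)
    (hc : Subgroup.centralizer ((pCore p L : Subgroup L) : Set L) ≤ pCore p L)
    (hst : IsNormalizerPStable p L) :
    (((QdFree.zjFunctor 0 ↥(P : Subgroup L)).map (P : Subgroup L).subtype : Subgroup L)).Normal := by
  have h := QdFree.normal_zInter_of_pStable hp (Or.inl rfl) hst hc P
  rwa [← QdFree.inducedFunctor_zj] at h

variable {Ω : Type u} [Group Ω] {S₀ : Subgroup Ω} {F : FusionSystem S₀}

/-- In a Qd(p)-free saturated system `Z(J(S))` is normal. -/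
theorem zj_isNormal_of_free [Finite S₀] (hp : p ≠ 2) (hS : IsPGroup p S₀) (hF : F.IsSaturated p)
    (hfree : F.IsSectionFree p ↥(qd p)) : F.IsNormal (wsub (QdFree.zjFunctor 0) S₀) :=
  control_normal posFunctor_zj0
    (fun L _ _ P hc hf => zj_normal_local hp L P hc (QdFree.isNormalizerPStable_of_qd_free hp hf))
    hS hF hfree

theorem core_ne_bot_of_free [Finite S₀] (hp : p ≠ 2) (hS : IsPGroup p S₀) (hF : F.IsSaturated p)
    (hfree : F.IsSectionFree p ↥(qd p)) (hne : S₀ ≠ ⊥) : F.core ≠ ⊥ := fun h =>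
  wsub_ne_bot posFunctor_zj0 hS hne (le_bot_iff.1 (h ▸ le_core (zj_isNormal_of_free hp hS hF hfree)))

omit [Fact p.Prime] in
/-- A factor system modulo a strongly closed subgroup is one of the normalizer system. -/
theorem factor_of_normalizer [Finite S₀] {R : Subgroup Ω} (hR : F.StronglyClosed R) {Ω' : Type*} [Group Ω']
    {S' : Subgroup Ω'} {θ : S₀ →* Ω'} {E : FusionSystem S'} (hE : F.IsFactorSystem R θ E)
    {N : FusionSystem S₀} (hN : ∀ P, N.Hom P = F.normalizerHom R P) :
    N.IsFactorSystem R θ E := by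
  obtain ⟨h1, h2, h3, h4⟩ := hE
  refine ⟨h1, h2, h3, fun P' φ' => (h4 P' φ').trans (and_congr_right fun _ => ⟨?_, ?_⟩)⟩
  · rintro ⟨φ, hφ, hi⟩
    refine ⟨φ, ?_, hi⟩
    have hm := mor_extendFn hφ
    have hle : R ≤ preimageAlong θ P' := le_preimageAlong h2 h1 P'
    have hsup : preimageAlong θ P' ⊔ R ≤ preimageAlong θ P' := sup_le le_rfl hle
    have hRn := StronglyClosed.le_normalizer hR
    rw [hN, mem_normalizerHom_iff]
    refine ⟨hφ, le_inf hm.le (hm.le.trans hRn), fun x hx => ⟨hm.mem_S hx, hRn (hm.mem_S hx)⟩, _,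
      hm.mono hsup, fun _ _ => rfl, ?_⟩
    exact (StronglyClosed.iso_self hR hm hle).2
  · rintro ⟨φ, hφ, hi⟩
    rw [hN] at hφ
    exact ⟨φ, hφ.1, hi⟩

/-- Factor systems of `H`-free systems modulo strongly closed subgroups are `H`-free. -/
theorem free_factor_stronglyClosed [Finite S₀] (hS : IsPGroup p S₀) (hF : F.IsSaturated p)
    {H : Type v} [Group H] (hfree : F.IsSectionFree p H)
    {R : Subgroup Ω} (hR : F.StronglyClosed R) {Ω' : Type u} [Group Ω'] {S' : Subgroup Ω'}
    [Finite S'] {θ : S₀ →* Ω'} {E : FusionSystem S'} (hE : F.IsFactorSystem R θ E) :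
    E.IsSectionFree p H := by
  have hRn := StronglyClosed.le_normalizer hR
  have hfn : F.IsFullyNormalized R := ⟨hR.1, fun Q _ => by
    rw [normalizerIn_eq_of_le hRn]
    exact Subgroup.card_le_of_le inf_le_left⟩
  have key : ∀ (T : Subgroup Ω), T = normalizerIn S₀ R → ∃ N : FusionSystem T,
      (∀ P, N.Hom P = F.normalizerHom R P) ∧
      ((Finite T → IsPGroup p T → N.IsSaturated p) ∧ N.IsSectionFree p H ∧ N.IsNormal R) := by
    rintro T rfl
    have hN := isNormalizerSystem_normalizerSys (F := F) hR.1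
    exact ⟨_, fun P => hN P, fun _ _ => normalizerSystem_saturated hS hF hfn hN,
      free_normalizerSystem hS hF hfree hfn hN, normalizerSystem_isNormal hN hR.1⟩
  obtain ⟨N, hN, hNs, hNf, hNn⟩ := key S₀ (normalizerIn_eq_of_le hRn).symm
  exact free_factor hS (hNs inferInstance hS) hNn (factor_of_normalizer hR hE hN) hNf

end Cfsg.Agent.FusSys.GroupFree
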