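import Cfsg.Agent.FusSys.PrimeIndex
import Cfsg.Agent.FusSys.Split

/-!
Classes of maps modulo a subgroup of `Aut_F(S)` containing the automorphisms detected on centric
subgroups, and the maps acting on a fully normalized subgroup as elements of `S`.
-/

set_option autoImplicit false
set_option linter.unusedSectionVars false

namespace Cfsg.Agent.FusSys

open Cfsg Cfsg.FusionSystem

universe u

variable {Ω : Type u} [Group Ω] {S P Q R : Subgroup Ω} {F : FusionSystem S} {f g : Ω → Ω} {p : ℕ}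

/-- A normal subgroup of `Aut_F(S)`. -/
structure GamNormal (F : FusionSystem S) (Γ : Subgroup (MulAut S)) : Prop where
  le : Γ ≤ F.autGroup S
  conj : ∀ b ∈ F.autGroup S, ∀ γ ∈ Γ, b * γ * b⁻¹ ∈ Γ

/-- A normal subgroup of `Aut_F(S)` containing the automorphisms which are maps of the least
subsystem on some centric subgroup. -/
structure GoodGam (F : FusionSystem S) (p : ℕ) (Γ : Subgroup (MulAut S)) : Prop
    extends GamNormal F Γ where
  centric : ∀ R : Subgroup Ω, F.IsCentric R → ∀ β ∈ F.autGroup S,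
    Mor (minOp F p) R (apl β) → β ∈ Γ

/-- The automorphisms which are maps of the least subsystem on some centric subgroup generate the
least such subgroup. -/
def gamMin (F : FusionSystem S) (p : ℕ) : Subgroup (MulAut S) :=
  Subgroup.closure {β | β ∈ F.autGroup S ∧ ∃ R : Subgroup Ω, F.IsCentric R ∧
    Mor (minOp F p) R (apl β)}

theorem goodGam_gamMin [Finite S] : GoodGam F p (gamMin F p) where
  le := (Subgroup.closure_le _).2 fun _ h => h.1
  conj := fun b hb γ hγ => by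
    have hle : gamMin F p ≤ (gamMin F p).comap (MulAut.conj b).toMonoidHom := by
      refine (Subgroup.closure_le _).2 ?_
      rintro β ⟨hβ, R, hR, hm⟩
      refine Subgroup.subset_closure ⟨Subgroup.mul_mem _ (Subgroup.mul_mem _ hb hβ)
        (Subgroup.inv_mem _ hb), (R.subgroupOf S).map (S.subtype.comp b.toMonoidHom), ?_, ?_⟩
      · have hi : Iso F R ((R.subgroupOf S).map (S.subtype.comp b.toMonoidHom)) (apl b) :=
          ⟨(iso_apl le_rfl hb).1.mono hR.1, fun y => map_apl_eq hR.1⟩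
        exact centric_of_isConj hR hi.isConj
      · obtain ⟨h, hh, hhx⟩ := transInv_minOp (p := p) hm hb
        refine hh.congr fun y hy => ?_
        obtain ⟨x, hx, rfl⟩ := (map_apl_eq hR.1).1 hy
        have hxS := hR.1 hx
        show apl (b * β * b⁻¹) (apl b x) = _
        rw [apl_mul _ _ (apl_mem b hxS), apl_inv_apl b hxS, apl_mul _ _ hxS, hhx x hx]
    exact hle hγ
  centric := fun R hR β hβ hm => Subgroup.subset_closure ⟨hβ, R, hR, hm⟩

variable {Γ : Subgroup (MulAut S)}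

/-- `f` is, on `P`, an element of the coset of `β` after a map of the least subsystem. -/
def Cls (F : FusionSystem S) (p : ℕ) (Γ : Subgroup (MulAut S)) (P : Subgroup Ω) (f : Ω → Ω)
    (β : MulAut S) : Prop :=
  β ∈ F.autGroup S ∧ ∃ γ ∈ Γ, ∃ e, Mor (minOp F p) P e ∧ ∀ x ∈ P, f x = apl (β * γ) (e x)

theorem Cls.mem {β : MulAut S} (h : Cls F p Γ P f β) : β ∈ F.autGroup S := h.1

theorem Cls.mono {β : MulAut S} (h : Cls F p Γ P f β) (hR : R ≤ P) : Cls F p Γ R f β := by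
  obtain ⟨hβ, γ, hγ, e, he, hef⟩ := h
  exact ⟨hβ, γ, hγ, e, he.mono hR, fun x hx => hef x (hR hx)⟩

theorem Cls.congr {β : MulAut S} {f' : Ω → Ω} (h : Cls F p Γ P f β)
    (he : ∀ x ∈ P, f' x = f x) : Cls F p Γ P f' β := by
  obtain ⟨hβ, γ, hγ, e, he', hef⟩ := h
  exact ⟨hβ, γ, hγ, e, he', fun x hx => (he x hx).trans (hef x hx)⟩

theorem cls_minOp (h : Mor (minOp F p) P f) : Cls F p Γ P f 1 :=
  ⟨Subgroup.one_mem _, 1, Γ.one_mem, f, h, fun x hx => by
    rw [mul_one, apl_one (h.mem_S hx)]⟩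

theorem cls_conj (hP : P ≤ S) {s : Ω} (hs : s ∈ S) :
    Cls F p Γ P (fun x => s * x * s⁻¹) 1 := cls_minOp (mor_conj hP hs)

theorem cls_apl (hP : P ≤ S) {β : MulAut S} (hβ : β ∈ F.autGroup S) :
    Cls F p Γ P (apl β) β :=
  ⟨hβ, 1, Γ.one_mem, id, mor_id hP, fun x _ => by rw [mul_one]; rfl⟩

theorem apl_mem_S (β : MulAut S) {x : Ω} (hx : x ∈ S) : apl β x ∈ S := apl_mem β hx

variable [Finite S] (hN : GamNormal F Γ)
include hN

theorem Cls.mul_right {β γ : MulAut S} (h : Cls F p Γ P f β) (hγ : γ ∈ Γ) :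
    Cls F p Γ P f (β * γ) := by
  obtain ⟨hβ, δ, hδ, e, he, hef⟩ := h
  exact ⟨Subgroup.mul_mem _ hβ (hN.le hγ), γ⁻¹ * δ, Γ.mul_mem (Γ.inv_mem hγ) hδ, e, he,
    fun x hx => by rw [hef x hx, mul_assoc, mul_inv_cancel_left]⟩

theorem Cls.mor {β : MulAut S} (h : Cls F p Γ P f β) : Mor F P f := by
  obtain ⟨hβ, γ, hγ, e, he, hef⟩ := h
  exact (((le_iff_mor.1 minOp_le) P e he).comp (iso_apl le_rfl
    (Subgroup.mul_mem _ hβ (hN.le hγ))).1 fun x hx => he.mem_S hx).congr hef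

theorem Cls.comp {β β' : MulAut S} (h : Cls F p Γ P f β) (h' : Cls F p Γ R g β')
    (hfR : ∀ x ∈ P, f x ∈ R) : Cls F p Γ P (g ∘ f) (β' * β) := by
  obtain ⟨hβ, γ, hγ, e, he, hef⟩ := h
  obtain ⟨hβ', γ', hγ', e', he', heg⟩ := h'
  have hb : β * γ ∈ F.autGroup S := Subgroup.mul_mem _ hβ (hN.le hγ)
  obtain ⟨k, hk, hkx⟩ := transInv_minOp (p := p) he' (Subgroup.inv_mem _ hb)
  have hmem : ∀ x ∈ P, e x ∈ (R.subgroupOf S).map (S.subtype.comp (β * γ)⁻¹.toMonoidHom) :=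
    fun x hx => (map_apl_eq he'.le).2 ⟨f x, hfR x hx, by
      rw [hef x hx, apl_inv_apl _ (he.mem_S hx)]⟩
  refine ⟨Subgroup.mul_mem _ hβ' hβ, β⁻¹ * γ' * β * γ,
    Γ.mul_mem (by simpa using hN.conj β⁻¹ (Subgroup.inv_mem _ hβ) γ' hγ') hγ, k ∘ e,
    he.comp hk hmem, fun x hx => ?_⟩
  show g (f x) = apl (β' * β * (β⁻¹ * γ' * β * γ)) (k (e x))
  have h1 := hkx _ (hfR x hx)
  rw [hef x hx, apl_inv_apl _ (he.mem_S hx)] at h1
  have he'S : e' (apl (β * γ) (e x)) ∈ S := he'.mem_S (hef x hx ▸ hfR x hx)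
  rw [h1, show β' * β * (β⁻¹ * γ' * β * γ) = (β' * γ') * (β * γ) by group,
    apl_mul _ _ (apl_mem_S _ he'S), apl_apl_inv _ he'S, heg _ (hfR x hx), hef x hx]

theorem Cls.inv {β : MulAut S} (h : Cls F p Γ P f β) (hi : Iso F P Q f)
    (hgf : ∀ x ∈ P, g (f x) = x) : Cls F p Γ Q g β⁻¹ := by
  obtain ⟨hβ, γ, hγ, e, he, hef⟩ := h
  have hb : β * γ ∈ F.autGroup S := Subgroup.mul_mem _ hβ (hN.le hγ)
  obtain ⟨M, hM⟩ := he.exists_iso
  obtain ⟨e', he', hel, -⟩ := hM.symm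
  obtain ⟨k, hk, hkx⟩ := transInv_minOp (p := p) he'.1 hb
  have hle : Q ≤ (M.subgroupOf S).map (S.subtype.comp (β * γ).toMonoidHom) := fun y hy => by
    obtain ⟨x, hx, rfl⟩ := hi.exists_eq hy
    exact (map_apl_eq hM.right_le).2 ⟨e x, hM.mem hx, (hef x hx).symm⟩
  refine ⟨Subgroup.inv_mem _ hβ, β * γ⁻¹ * β⁻¹, hN.conj β hβ _ (Γ.inv_mem hγ), k, hk.mono hle,
    fun y hy => ?_⟩
  obtain ⟨x, hx, rfl⟩ := hi.exists_eq hy
  rw [hgf x hx, show β⁻¹ * (β * γ⁻¹ * β⁻¹) = (β * γ)⁻¹ by group, hef x hx, hkx _ (hM.mem hx),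
    hel x hx, apl_inv_apl _ (hi.left_le hx)]

theorem Cls.mem_of_centric_at {β : MulAut S} (h : Cls F p Γ P id β)
    (hc : ∀ M, F.IsConj P M → ∀ β' ∈ F.autGroup S, Mor (minOp F p) M (apl β') → β' ∈ Γ) :
    β ∈ Γ := by
  obtain ⟨hβ, γ, hγ, e, he, hef⟩ := h
  have hb : β * γ ∈ F.autGroup S := Subgroup.mul_mem _ hβ (hN.le hγ)
  obtain ⟨M, hM⟩ := he.exists_iso
  obtain ⟨e', he', hel, -⟩ := hM.symm
  have hMc : F.IsConj P M :=
    (show Iso F P M e from ⟨(le_iff_mor.1 minOp_le) P e he, hM.2⟩).isConj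
  have hm : Mor (minOp F p) M (apl (β * γ)) := he'.1.congr fun y hy => by
    obtain ⟨x, hx, rfl⟩ := hM.exists_eq hy
    rw [hel x hx]
    exact (hef x hx).symm
  have h1 := hc M hMc _ hb hm
  simpa using Γ.mul_mem h1 (Γ.inv_mem hγ)

theorem Cls.id_of {β β' : MulAut S} (h : Cls F p Γ P f β) (h' : Cls F p Γ P f β') :
    Cls F p Γ P id (β⁻¹ * β') := by
  obtain ⟨M, hM⟩ := (h.mor hN).exists_iso
  obtain ⟨k, -, hkl, -⟩ := hM.symm
  exact (h'.comp hN (h.inv hN hM hkl) fun x hx => hM.mem hx).congr fun x hx => (hkl x hx).symm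

omit hN in
theorem Cls.mem_of_centric (hG : GoodGam F p Γ) {β : MulAut S} (h : Cls F p Γ P id β)
    (hP : F.IsCentric P) : β ∈ Γ :=
  h.mem_of_centric_at hG.toGamNormal fun M hM => hG.centric M (centric_of_isConj hP hM)

omit hN in
theorem Cls.unique (hG : GoodGam F p Γ) {β β' : MulAut S} (h : Cls F p Γ P f β)
    (h' : Cls F p Γ P f β') (hP : F.IsCentric P) : β⁻¹ * β' ∈ Γ :=
  (h.id_of hG.toGamNormal h').mem_of_centric hG hP

variable [Fact p.Prime] (hS : IsPGroup p S) (hF : F.IsSaturated p)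
include hS hF

theorem exists_cls (hf : Mor F P f) : ∃ β, Cls F p Γ P f β := by
  obtain ⟨β, hβ, e, he, hef⟩ := frattini_minOp hS hF P f hf
  exact ⟨β, hβ, 1, Γ.one_mem, e, he, fun x hx => by rw [hef x hx, mul_one]⟩

omit hN

/-- The maps of `N_S(Q)` acting on `Q` as elements of `S`. -/
def ActRel (F : FusionSystem S) (Q P : Subgroup Ω) (f : Ω → Ω) : Prop :=
  Mor F P f ∧ P ≤ normalizerIn S Q ∧ (∀ x ∈ P, f x ∈ normalizerIn S Q) ∧
    ∃ g, Mor F (P ⊔ Q) g ∧ (∀ x ∈ P, g x = f x) ∧ InK (autInducedBy S Q) g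

omit [Finite S] [Fact p.Prime] hS hF in
theorem subRel_act (hQS : Q ≤ S) : SubRel F (normalizerIn S Q) (ActRel F Q) where
  congr := by
    rintro P f g ⟨h0, h1, h2, k, hk, hkf, hkK⟩ he
    exact ⟨h0.congr he, h1, fun x hx => he x hx ▸ h2 x hx, k, hk,
      fun x hx => (hkf x hx).trans (he x hx).symm, hkK⟩
  le h := ⟨h.2.1, h.2.2.1⟩
  conj := by
    intro P s hP hs
    refine ⟨mor_conj (hP.trans inf_le_left) hs.1, mor_conj (hP.trans inf_le_left) hs.1, hP,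
      fun x hx => Subgroup.mul_mem _ (Subgroup.mul_mem _ hs (hP hx)) (Subgroup.inv_mem _ hs), _,
      mor_conj (sup_le (hP.trans inf_le_left) hQS) hs.1, fun _ _ => rfl, ?_⟩
    obtain ⟨α, hα, hαx⟩ := exists_mem_autInducedBy (P := Q) hs.1 hs.2
    exact ⟨α, hα, fun x hx => (hαx x hx).symm⟩
  comp := by
    rintro P R f g - ⟨h0, h1, h2, k, hk, hkf, hkK⟩ - ⟨h0', -, h2', l, hl, hlg, hlK⟩ hfR
    have hm : ∀ x ∈ P ⊔ Q, k x ∈ R ⊔ Q := fun x hx => hk.mem_of_sup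
      (fun a ha => Subgroup.mem_sup_left ((hkf a ha).symm ▸ hfR a ha))
      (fun a ha => Subgroup.mem_sup_right (hkK.mem ha)) hx
    refine ⟨h0.comp h0' hfR, h1, fun x hx => h2' _ (hfR x hx), l ∘ k, hk.comp hl hm,
      fun x hx => ?_, hkK.comp hlK⟩
    show l (k x) = g (f x)
    rw [hkf x hx, hlg _ (hfR x hx)]
  inv := by
    rintro P R f g hf ⟨-, h1, h2, k, hk, hkf, hkK⟩ hg hgf
    obtain ⟨I, hI⟩ := hk.exists_iso
    obtain ⟨k', hk', hk'k, -⟩ := hI.symm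
    have hle : R ⊔ Q ≤ I := sup_le
      (fun y hy => by
        obtain ⟨x, hx, rfl⟩ := hf.exists_eq hy
        rw [← hkf x hx]
        exact hI.mem (le_sup_left (b := Q) hx))
      fun y hy => by
        obtain ⟨x, hx, rfl⟩ := hkK.surj hy
        exact hI.mem (le_sup_right (a := P) hx)
    refine ⟨hg.1, fun y hy => ?_, fun y hy => h1 (hg.mem hy), k', hk'.1.mono hle, fun y hy => ?_,
      hkK.inv fun x hx => hk'k x (le_sup_right (a := P) hx)⟩
    · obtain ⟨x, hx, rfl⟩ := hf.exists_eq hy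
      exact h2 x hx
    · obtain ⟨x, hx, rfl⟩ := hf.exists_eq hy
      rw [hgf x hx, ← hkf x hx]
      exact hk'k x (le_sup_left (b := Q) hx)

theorem act_saturated (hQn : F.IsFullyNormalized Q) :
    (subSys (subRel_act (F := F) hQn.1)).IsSaturated p := by
  refine kSys_saturated hS hF (K := autInducedBy S Q)
    ⟨hQn.1, fun s => ⟨fun hs => ⟨hs.1, hs.2, ?_⟩, fun h => ⟨h.1, h.2.1⟩⟩, fun P f => ?_⟩ ?_
  · obtain ⟨α, hα, hαx⟩ := exists_mem_autInducedBy (P := Q) hs.1 hs.2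
    exact ⟨α, hα, fun x hx => (hαx x hx).symm⟩
  · rw [mor_subSys]
    exact ⟨fun h => h.2, fun h => ⟨h.1, h⟩⟩
  · intro Q' g hg
    have := finite_of_le hg.right_le
    obtain ⟨g', hg', hgg', -⟩ := hg.symm
    obtain ⟨h, hh, hhf⟩ := (isReceptive_iff.1
      (receptive_of_fullyNormalized hS hF hQn)).2 Q' g' hg'
    refine ⟨_, h, hg'.1.le_nPhi, hh, ⟨1, Subgroup.one_mem _, fun x hx => ?_⟩, fun s hs hsK => ?_⟩
    · show h (g x) = _
      rw [hhf _ (hg.mem hx), hgg' x hx, apl_one hx]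
    · obtain ⟨κ, hκ, hκx⟩ := hsK
      obtain ⟨c, hc, -, hcx⟩ := mem_autInducedBy_iff.1 hκ
      refine ⟨hs, mem_normalizer_of_maps fun y hy => ?_, c, hc, fun y hy => ?_⟩
      · obtain ⟨x, hx, rfl⟩ := hg.exists_eq hy
        rw [hκx x hx]
        exact hg.mem (apl_mem κ hx)
      · obtain ⟨x, hx, rfl⟩ := hg.exists_eq hy
        rw [hκx x hx, hgg' _ (apl_mem κ hx), hgg' x hx, hcx x hx]

include hN in
/-- A map fixing a fully normalized `Q` has the class of an automorphism of `N_S(Q)` fixing `Q`. -/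
theorem exists_cls_fix (hQn : F.IsFullyNormalized Q) {Y : Subgroup Ω} (hQY : Q ≤ Y)
    (hY : Y ≤ normalizerIn S Q) {m : Ω → Ω} (hm : Mor F Y m)
    (hmT : ∀ x ∈ Y, m x ∈ normalizerIn S Q) (hfix : ∀ x ∈ Q, m x = x) :
    ∃ η a, Mor F (normalizerIn S Q) a ∧ (∀ x ∈ Q, a x = x) ∧
      Cls F p Γ (normalizerIn S Q) a η ∧ Cls F p Γ Y m η := by
  set T := normalizerIn S Q with hTdef
  have : Finite T := finite_of_le inf_le_left
  set N := subSys (subRel_act (F := F) hQn.1) with hNdef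
  have hNs : N.IsSaturated p := act_saturated hS hF hQn
  have hTp : IsPGroup p T := hS.to_le inf_le_left
  have hAct : ∀ {X : Subgroup Ω} {h : Ω → Ω}, Mor N X h → ActRel F Q X h := fun h =>
    ((mor_subSys _).1 h).2
  have hmN : Mor N Y m := (mor_subSys _).2 ⟨hm, hm, hY, hmT, m,
    by rwa [sup_eq_left.2 hQY], fun _ _ => rfl, 1, Subgroup.one_mem _,
    fun x hx => (hfix x hx).trans (apl_one hx).symm⟩
  obtain ⟨α, hα, e, he, hme⟩ := frattini_minOp hTp hNs Y m hmN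
  -- the least subsystem of `N` lies in that of `F`
  have hM : SubRel N T (fun P f => Mor N P f ∧ Mor (minOp F p) P f) := by
    refine ⟨fun h he => ⟨h.1.congr he, h.2.congr he⟩, fun h => ⟨h.1.le, fun _ hx => h.1.mem_S hx⟩,
      fun hP hs => ⟨mor_conj hP hs, mor_conj hP hs,
        mor_conj (hP.trans inf_le_left) hs.1⟩,
      fun _ h _ h' hfR => ⟨h.1.comp h'.1 hfR, h.2.comp h'.2 hfR⟩,
      fun hf h hg hgf => ⟨hg.1, ?_⟩⟩
    obtain ⟨k, hk, hkl, -⟩ := (show Iso (minOp F p) _ _ _ from ⟨h.2, hf.2⟩).symm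
    refine hk.1.congr fun y hy => ?_
    obtain ⟨x, hx, rfl⟩ := hf.exists_eq hy
    rw [hgf x hx, hkl x hx]
  have hC : ContainsCentricOp (subSys hM) N p := by
    intro R hR
    rw [opPrime, MonoidHom.map_closure, Subgroup.closure_le]
    rintro _ ⟨⟨γ, hγ⟩, ⟨k, hk⟩, rfl⟩
    have hiN := iso_apl hR.1 hγ
    have hRS : R ≤ S := hR.1.trans inf_le_left
    have hγF : γ ∈ F.autGroup R :=
      (mem_autGroup_iff hRS).2 ⟨(hAct hiN.1).1, hiN.2⟩
    rw [Subgroup.orderOf_mk] at hk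
    have h2 := (iso_apl hRS (opPrime_le_minOp hS hF hRS (mem_opPrime hγF hk))).1
    exact Subgroup.subset_closure (((mor_subSys hM).2 ⟨hiN.1, hiN.1, h2⟩).hom_eq
      fun x => (apl_coe γ x).symm)
  have heF : Mor (minOp F p) Y e := ((mor_subSys hM).1 (le_iff_mor.1 (minOp_le_of hC) Y e he)).2.2
  obtain ⟨hαF, -, hαT, k, hk, hkα, κ, hκ, hκx⟩ := hAct (iso_apl le_rfl hα).1
  obtain ⟨η, hη⟩ := exists_cls hN hS hF hαF
  have hmη : Cls F p Γ Y m η := by
    have h := ((cls_minOp (Γ := Γ) heF).comp hN hη fun x hx => he.mem_S hx).congr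
      (f' := m) fun x hx => hme x hx
    rwa [mul_one] at h
  obtain ⟨s, hs, hsn, hsx⟩ := mem_autInducedBy_iff.1 hκ
  have hsT : s ∈ T := ⟨hs, hsn⟩
  refine ⟨η, (fun x => s⁻¹ * x * s⁻¹⁻¹) ∘ apl α,
    hαF.comp (mor_conj (inf_le_left : T ≤ S) (S.inv_mem hs)) hαT, fun x hx => ?_, ?_, hmη⟩
  · have hxT : x ∈ T := le_inf hQn.1 Subgroup.le_normalizer hx
    show s⁻¹ * apl α x * s⁻¹⁻¹ = x
    rw [← hkα x hxT, hκx x hx, hsx x hx]
    group
  · have h := hη.comp hN (cls_conj (p := p) (Γ := Γ) (F := F) (inf_le_left : T ≤ S) (S.inv_mem hs))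
      hαT
    rwa [one_mul] at h

end Cfsg.Agent.FusSys
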