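import Cfsg.Agent.FusSys.IndexPrimeSys
import Cfsg.Agent.FusSys.NormalCentric

/-!
Subgroups of `Aut_F(S)` containing the automorphisms which are maps of the least subsystem on some
centric radical subgroup contain those of all centric subgroups.
-/

set_option autoImplicit false
set_option linter.unusedSectionVars false

namespace Cfsg.Agent.FusSys

open Cfsg Cfsg.FusionSystem

universe u

variable {Ω : Type u} [Group Ω] {S P Q R : Subgroup Ω} {F : FusionSystem S} {f g : Ω → Ω} {p : ℕ}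
variable {Γ : Subgroup (MulAut S)}

/-- The elements of `N_S(Q)` acting on `Q` as elements of `O_p(Aut_F(Q))`. -/
def coreNorm (F : FusionSystem S) (p : ℕ) (Q : Subgroup Ω) : Subgroup Ω where
  carrier := {s | s ∈ normalizerIn S Q ∧ InK (opCore F p Q) (fun x => s * x * s⁻¹)}
  one_mem' := ⟨Subgroup.one_mem _, 1, Subgroup.one_mem _, fun x hx => by
    rw [apl_one hx]; group⟩
  mul_mem' := by
    rintro s t ⟨hs, hsK⟩ ⟨ht, htK⟩
    exact ⟨Subgroup.mul_mem _ hs ht, (htK.comp hsK).congr fun x _ => by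
      show s * t * x * (s * t)⁻¹ = s * (t * x * t⁻¹) * s⁻¹
      group⟩
  inv_mem' := by
    rintro s ⟨hs, hsK⟩
    exact ⟨Subgroup.inv_mem _ hs, hsK.inv fun x _ => by group⟩

theorem coreNorm_le : coreNorm F p Q ≤ normalizerIn S Q := fun _ h => h.1

/-- The classes of the extensions to `coreNorm` of the map induced by `a` on `Q`. -/
def TopCls (F : FusionSystem S) (p : ℕ) (Γ : Subgroup (MulAut S)) (Q : Subgroup Ω) (a : Ω → Ω)
    (η : MulAut S) : Prop :=
  ∃ k, Iso F (coreNorm F p Q) (coreNorm F p Q) k ∧ (∀ x ∈ Q, k x = a x) ∧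
    Cls F p Γ (coreNorm F p Q) k η

theorem TopCls.congr {a a' : Ω → Ω} {η : MulAut S} (h : TopCls F p Γ Q a η)
    (he : ∀ x ∈ Q, a' x = a x) : TopCls F p Γ Q a' η := by
  obtain ⟨k, hk, hka, hη⟩ := h
  exact ⟨k, hk, fun x hx => (hka x hx).trans (he x hx).symm, hη⟩

/-- The maps whose restrictions to conjugates of `Q` have the classes of their extensions. -/
def RadStep (F : FusionSystem S) (p : ℕ) (Γ : Subgroup (MulAut S)) (Q X : Subgroup Ω)
    (e : Ω → Ω) : Prop :=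
  Mor F X e ∧ ∀ P P', P ≤ X → Iso F P P' e → ∀ g g' c c', Iso F P Q g → Iso F P' Q g' →
    Cls F p Γ (normalizerIn S P) g c → Cls F p Γ (normalizerIn S P') g' c' →
    ∃ a, (∀ x ∈ P, g' (e x) = a (g x)) ∧ TopCls F p Γ Q a (c' * c⁻¹)

variable [Finite S] [Fact p.Prime] (hS : IsPGroup p S) (hF : F.IsSaturated p)
variable (hN : GamNormal F Γ) (hQn : F.IsFullyNormalized Q) (hQc : F.IsCentric Q)
include hS hF hQn

theorem opCore_le_autInducedBy : opCore F p Q ≤ autInducedBy S Q := by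
  have := finite_of_le hQn.1
  have : Finite (MulAut Q) := Finite.of_injective _ MulEquiv.toEquiv_injective
  obtain ⟨-, U, hU⟩ := fullyAutomized_of_fullyNormalized hS hF hQn
  rintro α hα
  obtain ⟨c, hc, rfl⟩ := Subgroup.mem_map.1 hα
  exact Subgroup.mem_subgroupOf.1 (hU.le (Cfsg.Agent.Core.pCore_le_sylow U hc))

theorem le_coreNorm : Q ≤ coreNorm F p Q := fun q hq =>
  ⟨le_normalizerIn hQn.1 hq, MulAut.conj (⟨q, hq⟩ : Q),
    inn_le_opCore hS hQn.1 ⟨⟨q, hq⟩, rfl⟩, fun _ hx => (apl_conj (⟨q, hq⟩ : Q) hx).symm⟩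

theorem lt_coreNorm (hQr : ¬ F.IsRadical p Q) : Q < coreNorm F p Q := by
  refine lt_of_le_of_ne (le_coreNorm hS hF hQn) fun he => hQr ⟨hQn.1, ?_⟩
  refine le_antisymm (fun β hβ => ?_) (inn_le_opCore hS hQn.1)
  obtain ⟨s, hs, hsn, hsx⟩ := mem_autInducedBy_iff.1 (opCore_le_autInducedBy hS hF hQn hβ)
  have hsm : s ∈ coreNorm F p Q := ⟨⟨hs, hsn⟩, β, hβ, fun x hx => (hsx x hx).symm⟩
  rw [← he] at hsm
  exact ⟨⟨s, hsm⟩, apl_ext fun x hx => (apl_conj _ hx).trans (hsx x hx).symm⟩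

omit hQn in
theorem mem_coreNorm_image {D : Subgroup Ω} {k : Ω → Ω} (hQS : Q ≤ S) (hk : Mor F D k)
    (hQD : Q ≤ D) (hkQ : Iso F Q Q k) {s : Ω} (hsD : s ∈ D) (hs : s ∈ coreNorm F p Q) :
    k s ∈ coreNorm F p Q := by
  obtain ⟨α, hα, hαk⟩ := hkQ.exists_mem_autGroup
  obtain ⟨κ, hκ, hκx⟩ := hs.2
  refine ⟨hk.mem_normalizerIn_image hkQ hQD hsD hs.1.2, α * κ * α⁻¹, conj_mem_opCore hα hκ,
    fun y hy => ?_⟩
  obtain ⟨x, hx, rfl⟩ := hkQ.exists_eq hy
  show k s * k x * (k s)⁻¹ = _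
  have h : s * x * s⁻¹ = apl κ x := hκx x hx
  rw [← hk.map_conj hsD (hQD hx), h, ← hαk x hx, apl_mul _ _ (apl_mem α hx),
    apl_inv_apl α hx, apl_mul _ _ hx, ← hαk _ (apl_mem κ hx)]

theorem coreNorm_le_nPhi (hf : Iso F Q Q f) : coreNorm F p Q ≤ nPhi S Q f := by
  intro s hs
  obtain ⟨α, hα, hαf⟩ := hf.exists_mem_autGroup
  obtain ⟨κ, hκ, hκx⟩ := hs.2
  obtain ⟨h, hh, -, hhx⟩ := mem_autInducedBy_iff.1
    (opCore_le_autInducedBy hS hF hQn (conj_mem_opCore hα hκ))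
  refine mem_nPhi.2 ⟨hs.1.1, hs.1.2, h, hh, fun x hx => ?_⟩
  have e : s * x * s⁻¹ = apl κ x := hκx x hx
  rw [e, ← hαf x hx, ← hαf _ (apl_mem κ hx), ← hhx _ (apl_mem α hx), apl_mul _ _ (apl_mem α hx),
    apl_inv_apl α hx, apl_mul _ _ hx]

theorem iso_coreNorm {D : Subgroup Ω} {k : Ω → Ω} (hk : Mor F D k) (hD : coreNorm F p Q ≤ D)
    (hkQ : Iso F Q Q k) : Iso F (coreNorm F p Q) (coreNorm F p Q) k := by
  have hm := hk.mono hD
  have hmem : ∀ x ∈ coreNorm F p Q, k x ∈ coreNorm F p Q := fun x hx =>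
    mem_coreNorm_image hS hF hQn.1 hk ((le_coreNorm hS hF hQn).trans hD) hkQ (hD hx) hx
  exact ⟨hm, fun y => ⟨fun hy => hm.surj_of_card (coreNorm_le.trans inf_le_left) hmem le_rfl hy,
    fun ⟨x, hx, hxy⟩ => hxy ▸ hmem x hx⟩⟩

include hN

theorem exists_topCls (hf : Iso F Q Q f) : ∃ η, TopCls F p Γ Q f η := by
  obtain ⟨k, hk, hkf⟩ := (isReceptive_iff.1 (receptive_of_fullyNormalized hS hF hQn)).2 Q f hf
  have hle := coreNorm_le_nPhi hS hF hQn hf
  obtain ⟨η, hη⟩ := exists_cls (Γ := Γ) hN hS hF (hk.mono hle)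
  exact ⟨η, k, iso_coreNorm hS hF hQn hk hle (hf.congr hkf), hkf, hη⟩

theorem TopCls.comp {a b : Ω → Ω} {η θ : MulAut S} (h : TopCls F p Γ Q a η)
    (h' : TopCls F p Γ Q b θ) (haQ : ∀ x ∈ Q, a x ∈ Q) : TopCls F p Γ Q (b ∘ a) (θ * η) := by
  obtain ⟨k, hk, hka, hη⟩ := h
  obtain ⟨l, hl, hlb, hθ⟩ := h'
  refine ⟨l ∘ k, hk.comp hl, fun x hx => ?_, hη.comp hN hθ fun x hx => hk.mem hx⟩
  show l (k x) = b (a x)
  rw [hka x hx, hlb _ (haQ x hx)]

theorem TopCls.inv {a b : Ω → Ω} {η : MulAut S} (h : TopCls F p Γ Q a η)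
    (ha : ∀ y ∈ Q, ∃ x ∈ Q, a x = y) (hba : ∀ x ∈ Q, b (a x) = x) :
    TopCls F p Γ Q b η⁻¹ := by
  obtain ⟨k, hk, hka, hη⟩ := h
  obtain ⟨l, hl, hlk, -⟩ := hk.symm
  refine ⟨l, hl, fun y hy => ?_, hη.inv hN hk hlk⟩
  obtain ⟨x, hx, rfl⟩ := ha y hy
  rw [hba x hx, ← hka x hx, hlk _ (le_coreNorm hS hF hQn hx)]

section Big

variable (hQr : ¬ F.IsRadical p Q)
  (hbig : ∀ R : Subgroup Ω, F.IsCentric R → Nat.card Q < Nat.card R → ∀ β ∈ F.autGroup S,
    Mor (minOp F p) R (apl β) → β ∈ Γ)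
include hQc hbig

omit hQn in
theorem cls_unique_big {Y : Subgroup Ω} {η η' : MulAut S} (hY : F.IsCentric Y)
    (hlt : Nat.card Q < Nat.card Y) (h : Cls F p Γ Y f η) (h' : Cls F p Γ Y f η') :
    η⁻¹ * η' ∈ Γ :=
  (h.id_of hN h').mem_of_centric_at hN fun M hM => hbig M (centric_of_isConj hY hM)
    (hlt.trans_eq (isConj_card_eq hM))

omit hbig in
/-- A map with the same values as `k` on `Q` has the class of `k` composed with a conjugation. -/
theorem cls_of_agree {Y : Subgroup Ω} {k m : Ω → Ω} {η : MulAut S} (hQY : Q ≤ Y)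
    (hm : Mor F Y m) (hk : Cls F p Γ Y k η) (he : ∀ x ∈ Q, k x = m x) :
    Cls F p Γ Y m η := by
  obtain ⟨z, hz, hzy⟩ := eq_on_centric hS hF hQY hQc (hk.mor hN) hm he
  have hzY : z ∈ Y := hQY (centric_self hQc hz)
  have h := ((cls_conj (p := p) (Γ := Γ) hm.le hz.1).comp hN hk fun y hy =>
    Y.mul_mem (Y.mul_mem hzY hy) (Y.inv_mem hzY)).congr (f' := m) fun y hy => hzy y hy
  rwa [mul_one] at h

/-- The classes of a map of a subgroup strictly containing `Q` in its normalizer. -/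
theorem topCls_of_cls {Y : Subgroup Ω} {η : MulAut S} (hQY : Q < Y)
    (hY : Y ≤ normalizerIn S Q) (hfQ : Iso F Q Q f) (hη : Cls F p Γ Y f η) :
    TopCls F p Γ Q f η := by
  have hYS : Y ≤ S := hY.trans inf_le_left
  have hf : Mor F Y f := hη.mor hN
  obtain ⟨k, hk, hkf⟩ := (isReceptive_iff.1 (receptive_of_fullyNormalized hS hF hQn)).2 Q f hfQ
  have hYn : Y ≤ nPhi S Q f := fun y hy => mem_nPhi.2 ⟨hYS hy, (hY hy).2, f y, hf.mem_S hy,
    fun x hx => hf.map_conj hy (hQY.le hx)⟩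
  have hR := coreNorm_le_nPhi hS hF hQn hfQ
  obtain ⟨ζ, hζ⟩ := exists_cls (Γ := Γ) hN hS hF (hk.mono (sup_le hYn hR))
  have hm : Cls F p Γ Y f ζ :=
    cls_of_agree hS hF hN hQn hQc hQY.le hf (hζ.mono le_sup_left) hkf
  have hu := cls_unique_big hS hF hN hQc hbig (centric_of_le hQc hQY.le hYS)
    (card_lt_of_lt' hYS hQY) hm hη
  refine ⟨k, iso_coreNorm hS hF hQn hk hR (hfQ.congr hkf), hkf, ?_⟩
  have h := (hζ.mono le_sup_right).mul_right hN hu
  rwa [mul_inv_cancel_left] at h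

include hQr

theorem TopCls.mem_of_id {η : MulAut S} (h : TopCls F p Γ Q id η) : η ∈ Γ := by
  obtain ⟨k, hk, hkf, hη⟩ := h
  have hlt := lt_coreNorm hS hF hQn hQr
  have hle : coreNorm F p Q ≤ S := coreNorm_le.trans inf_le_left
  have h1 : Cls F p Γ (coreNorm F p Q) k 1 :=
    cls_of_agree hS hF hN hQn hQc hlt.le hk.1 (cls_minOp (mor_id hle)) fun x hx => (hkf x hx).symm
  simpa using cls_unique_big hS hF hN hQc hbig (centric_of_le hQc hlt.le hle)
    (card_lt_of_lt' hle hlt) h1 hη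

/-- The class of a map defined between the normalizers of two conjugates of `Q`. -/
theorem radStep_aux {P P' Z : Subgroup Ω} {e g g' : Ω → Ω} {c c' : MulAut S}
    (hPZ : P < Z) (hZ : Z ≤ normalizerIn S P) (hP : Iso F P P' e) (he : Cls F p Γ Z e 1)
    (hg : Iso F P Q g) (hg' : Iso F P' Q g') (hc : Cls F p Γ (normalizerIn S P) g c)
    (hc' : Cls F p Γ (normalizerIn S P') g' c') :
    ∃ a, (∀ x ∈ P, g' (e x) = a (g x)) ∧ TopCls F p Γ Q a (c' * c⁻¹) := by
  obtain ⟨Y, hY⟩ := exists_iso_restrict (hc.mor hN) hZ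
  obtain ⟨g₁, hg₁, hg₁g, -⟩ := hY.symm
  have hcls : Cls F p Γ Y (g' ∘ e ∘ g₁) (c' * c⁻¹) := by
    have h := (((hc.mono hZ).inv hN hY hg₁g).comp hN he fun y hy => hg₁.mem hy).comp hN hc'
      fun y hy => (he.mor hN).mem_normalizerIn_image hP hPZ.le (hg₁.mem hy)
        (hZ (hg₁.mem hy)).2
    rwa [one_mul] at h
  have hQY : Q ≤ Y := fun y hy => by
    obtain ⟨x, hx, rfl⟩ := hg.exists_eq hy
    exact hY.mem (hPZ.le hx)
  have hYT : Y ≤ normalizerIn S Q := fun y hy => by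
    obtain ⟨x, hx, rfl⟩ := hY.exists_eq hy
    exact (hc.mor hN).mem_normalizerIn_image hg (le_normalizerIn hP.left_le) (hZ hx) (hZ hx).2
  have hval : ∀ x ∈ P, (g' ∘ e ∘ g₁) (g x) = g' (e x) := fun x hx => by
    show g' (e (g₁ (g x))) = _
    rw [hg₁g x (hPZ.le hx)]
  have hlt : Q < Y := lt_of_le_of_ne hQY fun h => by
    have h1 := card_lt_of_lt' (hZ.trans inf_le_left) hPZ
    rw [hg.card_eq, hY.card_eq, h] at h1
    exact lt_irrefl _ h1
  have hiso : Iso F Q Q (g' ∘ e ∘ g₁) := by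
    refine ⟨(hcls.mor hN).mono hQY, fun y => ⟨fun hy => ?_, ?_⟩⟩
    · obtain ⟨z, hz, rfl⟩ := hg'.exists_eq hy
      obtain ⟨x, hx, rfl⟩ := hP.exists_eq hz
      exact ⟨g x, hg.mem hx, hval x hx⟩
    · rintro ⟨_, hy, rfl⟩
      obtain ⟨x, hx, rfl⟩ := hg.exists_eq hy
      rw [hval x hx]
      exact hg'.mem (hP.mem hx)
  exact ⟨_, fun x hx => (hval x hx).symm,
    topCls_of_cls hS hF hN hQn hQc hbig hlt hYT hiso hcls⟩

theorem lt_normalizerIn_of_isConj {P : Subgroup Ω} (h : F.IsConj P Q) :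
    P < normalizerIn S P := by
  refine lt_normalizerIn hS (lt_of_le_of_ne (isConj_le_left h) fun hPS => ?_)
  have hQS : Q = S := eq_of_le_of_card le_rfl hQn.1 (by rw [← isConj_card_eq h, hPS])
  exact (lt_of_lt_of_le (lt_coreNorm hS hF hQn hQr) (coreNorm_le.trans inf_le_left)).ne hQS

/-- The generators of the least subsystem have classes compatible with extensions. -/
theorem radStep_gen {X : Subgroup Ω} (hX : F.IsCentric X) {α : MulAut X}
    (hα : α ∈ opPrime F p X) : RadStep F p Γ Q X (apl α) := by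
  have hαF := opPrime_le_autGroup hα
  refine ⟨(iso_apl hX.1 hαF).1, fun P P' hPX hP g g' c c' hg hg' hc hc' => ?_⟩
  by_cases hPX' : P = X
  · subst hPX'
    obtain rfl : P' = P := Iso.eq_image hP (iso_apl hX.1 hαF)
    obtain ⟨a, ha, hla⟩ := radStep_aux hS hF hN hQn hQc hQr hbig
      (lt_normalizerIn_of_isConj hS hF hN hQn hQc hQr hbig hg.isConj) le_rfl (iso_id hX.1)
      (cls_minOp (mor_id inf_le_left)) hg hg' hc hc'
    have hβ : ∀ β ∈ opPrime F p Q, TopCls F p Γ Q (apl β) 1 := by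
      intro β hβ
      obtain ⟨b, hbc, rfl⟩ := Subgroup.mem_map.1 hβ
      have hgen : ∀ x : F.autGroup Q, (∃ k : ℕ, orderOf x = p ^ k) →
          TopCls F p Γ Q (apl (x : MulAut Q)) 1 := by
        intro x ⟨k, hk⟩
        have := finite_of_le hQn.1
        have : Finite (MulAut Q) := Finite.of_injective _ MulEquiv.toEquiv_injective
        obtain ⟨-, U, hU⟩ := fullyAutomized_of_fullyNormalized hS hF hQn
        obtain ⟨d, hd⟩ := exists_conj_mem_sylow (isPGroup_zpowers_of_pow_eq_one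
          (x := x) (e := k) (by rw [← hk, pow_orderOf_eq_one])) U
        obtain ⟨s, hs, hsn, hsx⟩ := mem_autInducedBy_iff.1
          (Subgroup.mem_subgroupOf.1 (hU.le (hd _ (Subgroup.mem_zpowers _))))
        obtain ⟨η, hη⟩ := exists_topCls hS hF hN hQn (iso_apl hQn.1 d.2)
        have hηi := hη.inv hS hF hN hQn (b := apl (d : MulAut Q)⁻¹)
          (fun y hy => ⟨_, apl_mem _ hy, apl_apl_inv _ hy⟩) fun y hy => apl_inv_apl _ hy
        have hs1 : TopCls F p Γ Q (fun y => s * y * s⁻¹) 1 :=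
          ⟨_, iso_coreNorm hS hF hQn (mor_conj inf_le_left hs) coreNorm_le
            (iso_conj_self hQn.1 hs hsn), fun _ _ => rfl,
            cls_conj (coreNorm_le.trans inf_le_left) hs⟩
        have h := (hη.comp hS hF hN hQn hs1 fun y hy => apl_mem _ hy).comp hS hF hN hQn hηi
          fun y hy => (iso_conj_self (F := F) hQn.1 hs hsn).mem (apl_mem _ hy)
        rw [one_mul, inv_mul_cancel] at h
        refine h.congr fun y hy => ?_
        show apl (x : MulAut Q) y = apl (d : MulAut Q)⁻¹ (s * apl (d : MulAut Q) y * s⁻¹)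
        rw [← hsx _ (apl_mem _ hy), ← apl_mul _ _ (apl_mem _ hy), ← apl_mul _ _ hy]
        congr 1
        show _ = (d : MulAut Q)⁻¹ * ((d : MulAut Q) * x * (d : MulAut Q)⁻¹) * d
        group
      clear hβ
      induction hbc using Subgroup.closure_induction with
      | mem x hx => exact hgen x hx
      | one =>
        exact ⟨id, iso_id (coreNorm_le.trans inf_le_left), fun x hx => (apl_one hx).symm,
          cls_minOp (mor_id (coreNorm_le.trans inf_le_left))⟩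
      | mul x y _ _ hx hy =>
        have h := hy.comp hS hF hN hQn hx fun z hz => apl_mem _ hz
        rw [one_mul] at h
        exact h.congr fun z hz => apl_mul (x : MulAut Q) (y : MulAut Q) hz
      | inv x _ hx =>
        have h := hx.inv hS hF hN hQn (b := apl (x : MulAut Q)⁻¹)
          (fun y hy => ⟨_, apl_mem _ hy, apl_apl_inv _ hy⟩) fun y hy => apl_inv_apl _ hy
        rwa [inv_one] at h
    refine ⟨a ∘ apl (hg.conjAut α), fun x hx => ?_, ?_⟩
    · show g' (apl α x) = a (apl (hg.conjAut α) (g x))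
      rw [hg.conjAut_apl α hx, ← ha _ (apl_mem α hx)]
      rfl
    · have h := (hβ _ (hg.conjAut_opPrime hα)).comp hS hF hN hQn hla fun y hy => apl_mem _ hy
      rwa [mul_one] at h
  · have hlt : P < X ⊓ Subgroup.normalizer (P : Set Ω) :=
      lt_inf_normalizer hS hX.1 (lt_of_le_of_ne hPX hPX')
    exact radStep_aux hS hF hN hQn hQc hQr hbig hlt
      (le_inf (inf_le_left.trans hX.1) inf_le_right) hP
      ((cls_minOp (mor_minOp_of_mem hX hα)).mono inf_le_left) hg hg' hc hc'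

/-- The maps with classes compatible with extensions form a subsystem. -/
theorem subRel_radStep : SubRel F S (RadStep F p Γ Q) := by
  refine ⟨fun {X e e'} h he => ⟨h.1.congr he, fun P P' hPX hP g g' c c' hg hg' hc hc' => ?_⟩,
    fun h => ⟨h.1.le, fun _ hx => h.1.mem_S hx⟩, fun {X s} hX hs => ⟨mor_conj hX hs,
      mor_conj hX hs, fun P P' hPX hP g g' c c' hg hg' hc hc' => radStep_aux hS hF hN hQn hQc hQr
        hbig (lt_normalizerIn_of_isConj hS hF hN hQn hQc hQr hbig hg.isConj) le_rfl hP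
        (cls_conj inf_le_left hs) hg hg' hc hc'⟩, ?_, ?_⟩
  · obtain ⟨a, ha, hl⟩ := h.2 P P' hPX
      (hP.congr fun x hx => (he x (hPX hx)).symm) g g' c c' hg hg' hc hc'
    exact ⟨a, fun x hx => by rw [he x (hPX hx)]; exact ha x hx, hl⟩
  · rintro X Y e e' - h - h' heY
    refine ⟨h.1.comp h'.1 heY, fun P P'' hPX hP g g'' c c'' hg hg'' hc hc'' => ?_⟩
    obtain ⟨P', hP'⟩ := exists_iso_restrict h.1 hPX
    have hP'Y : P' ≤ Y := fun y hy => by
      obtain ⟨x, hx, rfl⟩ := hP'.exists_eq hy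
      exact heY x (hPX hx)
    have hP'' : Iso F P' P'' e' := ⟨h'.1.mono hP'Y, fun y => ⟨fun hy => by
      obtain ⟨x, hx, rfl⟩ := hP.exists_eq hy
      exact ⟨e x, hP'.mem hx, rfl⟩, fun ⟨z, hz, hzy⟩ => by
      obtain ⟨x, hx, rfl⟩ := hP'.exists_eq hz
      exact hzy ▸ hP.mem hx⟩⟩
    obtain ⟨g', hg', hg'i, -⟩ := exists_mor_to_fullyNormalized hS hF hQn
      (isConj_trans (isConj_symm hP'.isConj) hg.isConj)
    obtain ⟨c', hc'⟩ := exists_cls (Γ := Γ) hN hS hF hg'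
    obtain ⟨a, ha, hla⟩ := h.2 P P' hPX hP' g g' c c' hg hg'i hc hc'
    obtain ⟨b, hb, hlb⟩ := h'.2 P' P'' hP'Y hP'' g' g'' c' c'' hg'i hg'' hc' hc''
    have haQ : ∀ y ∈ Q, a y ∈ Q := fun y hy => by
      obtain ⟨x, hx, rfl⟩ := hg.exists_eq hy
      rw [← ha x hx]
      exact hg'i.mem (hP'.mem hx)
    refine ⟨b ∘ a, fun x hx => ?_, ?_⟩
    · show g'' (e' (e x)) = b (a (g x))
      rw [← ha x hx, hb _ (hP'.mem hx)]
    · have hl := hla.comp hS hF hN hQn hlb haQ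
      rwa [show c'' * c'⁻¹ * (c' * c⁻¹) = c'' * c⁻¹ by group] at hl
  · rintro X Y e e' he h he' hee
    refine ⟨he'.1, fun P' P hP'Y hP' g' g c' c hg' hg hc' hc => ?_⟩
    have hPX : P ≤ X := fun y hy => by
      obtain ⟨x, hx, rfl⟩ := hP'.exists_eq hy
      exact he'.mem (hP'Y hx)
    have hP : Iso F P P' e := ⟨h.1.mono hPX, fun y => ⟨fun hy => by
      obtain ⟨x, hx, rfl⟩ := he.exists_eq (hP'Y hy)
      exact ⟨x, hee x hx ▸ hP'.mem hy, rfl⟩, fun ⟨x, hx, hxy⟩ => by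
      obtain ⟨y', hy', rfl⟩ := hP'.exists_eq hx
      obtain ⟨x', hx', rfl⟩ := he.exists_eq (hP'Y hy')
      rw [hee x' hx'] at hxy
      exact hxy ▸ hy'⟩⟩
    obtain ⟨a, ha, hla⟩ := h.2 P P' hPX hP g g' c c' hg hg' hc hc'
    have hsurj : ∀ y ∈ Q, ∃ x ∈ Q, a x = y := fun y hy => by
      obtain ⟨z, hz, rfl⟩ := hg'.exists_eq hy
      obtain ⟨x, hx, rfl⟩ := hP.exists_eq hz
      exact ⟨g x, hg.mem hx, (ha x hx).symm⟩
    have hla0 := hla
    obtain ⟨k, hk, hka, -⟩ := hla0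
    obtain ⟨l, -, hlk, -⟩ := hk.symm
    have hla' : ∀ x ∈ Q, l (a x) = x := fun x hx => by
      rw [← hka x hx, hlk x (le_coreNorm hS hF hQn hx)]
    have hl := hla.inv hS hF hN hQn hsurj hla'
    rw [mul_inv_rev, inv_inv] at hl
    refine ⟨l, fun y hy => ?_, hl⟩
    obtain ⟨x, hx, rfl⟩ := hP.exists_eq hy
    rw [hee x (hPX hx), ha x hx, hla' _ (hg.mem hx)]

/-- An automorphism of `S` which is a map of the least subsystem on a conjugate of `Q`. -/
theorem mem_of_not_radical (hRQ : F.IsConj R Q) {β : MulAut S} (hβ : β ∈ F.autGroup S)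
    (hm : Mor (minOp F p) R (apl β)) : β ∈ Γ := by
  have hM := subRel_radStep hS hF hN hQn hQc hQr hbig
  have hC : ContainsCentricOp (subSys hM) F p :=
    fun X hX α hα => Subgroup.subset_closure (((mor_subSys hM).2
      ⟨(iso_apl hX.1 (opPrime_le_autGroup hα)).1,
        radStep_gen hS hF hN hQn hQc hQr hbig hX hα⟩).hom_eq fun x => (apl_coe α x).symm)
  have hstep : RadStep F p Γ Q R (apl β) :=
    ((mor_subSys hM).1 (le_iff_mor.1 (minOp_le_of hC) R _ hm)).2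
  obtain ⟨g, hg, hgi, -⟩ := exists_mor_to_fullyNormalized hS hF hQn hRQ
  obtain ⟨c, hc⟩ := exists_cls (Γ := Γ) hN hS hF hg
  obtain ⟨R', hR'⟩ := hm.exists_iso
  have hR'F : Iso F R R' (apl β) := ⟨le_iff_mor.1 minOp_le R _ hm, hR'.2⟩
  have hbi := (iso_apl (F := F) le_rfl (Subgroup.inv_mem _ hβ)).1
  have hback : Iso F R' R (apl β⁻¹) := ⟨hbi.mono hR'F.right_le, fun y => ⟨fun hy =>
    ⟨_, hR'F.mem hy, apl_inv_apl β (hR'F.left_le hy)⟩, fun ⟨x, hx, hxy⟩ => by
    obtain ⟨z, hz, rfl⟩ := hR'F.exists_eq hx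
    rw [apl_inv_apl β (hR'F.left_le hz)] at hxy
    exact hxy ▸ hz⟩⟩
  have hmem : ∀ x ∈ normalizerIn S R', apl β⁻¹ x ∈ normalizerIn S R := fun x hx =>
    hbi.mem_normalizerIn_image hback hR'F.right_le hx.1 hx.2
  have hc' : Cls F p Γ (normalizerIn S R') (g ∘ apl β⁻¹) (c * β⁻¹) :=
    (cls_apl inf_le_left (Subgroup.inv_mem _ hβ)).comp hN hc hmem
  obtain ⟨a, ha, hla⟩ :=
    hstep.2 R R' le_rfl hR'F g (g ∘ apl β⁻¹) c (c * β⁻¹) hgi (hback.comp hgi) hc hc'
  have h1 := TopCls.mem_of_id hS hF hN hQn hQc hQr hbig <| hla.congr (a' := id) fun y hy => by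
    obtain ⟨x, hx, rfl⟩ := hgi.exists_eq hy
    rw [← ha x hx]
    show g x = g (apl β⁻¹ (apl β x))
    rw [apl_inv_apl β (hR'F.left_le hx)]
  have h2 := hN.conj c⁻¹ (Subgroup.inv_mem _ hc.mem) _ h1
  rw [show c⁻¹ * (c * β⁻¹ * c⁻¹) * c⁻¹⁻¹ = β⁻¹ by group] at h2
  simpa using Γ.inv_mem h2

end Big

omit hN hQn

/-- It is enough to look at centric radical subgroups. -/
theorem goodGam_of_radical (hN : GamNormal F Γ)
    (hrad : ∀ R : Subgroup Ω, F.IsCentric R → F.IsRadical p R → ∀ β ∈ F.autGroup S,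
      Mor (minOp F p) R (apl β) → β ∈ Γ) : GoodGam F p Γ := by
  refine ⟨hN, fun R => ?_⟩
  suffices H : ∀ d, ∀ R : Subgroup Ω, Nat.card S - Nat.card R = d → F.IsCentric R →
      ∀ β ∈ F.autGroup S, Mor (minOp F p) R (apl β) → β ∈ Γ from H _ R rfl
  intro d
  induction d using Nat.strong_induction_on with
  | _ d ih =>
  intro R hd hRc β hβ hm
  by_cases hr : F.IsRadical p R
  · exact hrad R hRc hr β hβ hm
  obtain ⟨Q, g, hQn, -, hg, -⟩ := exists_fullyNormalized_mor hS hF hRc.1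
  refine mem_of_not_radical hS hF hN hQn (centric_of_isConj hRc hg.isConj) (fun h => hr ?_)
    (fun X hX hlt => ?_) hg.isConj hβ hm
  · obtain ⟨g', hg', -⟩ := hg.symm
    exact hg'.radical hS h
  · have h1 : Nat.card X ≤ Nat.card S := Subgroup.card_le_of_le hX.1
    rw [← hg.card_eq] at hlt
    exact ih _ (by omega) X rfl hX

end Cfsg.Agent.FusSys
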