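import Cfsg.Agent.FusSys.Control
import Cfsg.Agent.FusSys.FreeBase
import Cfsg.Agent.FusSys.Inner
import Cfsg.Agent.FusSys.TateCor

/-!
Criteria for a saturated system to be inner, by induction on normalizer systems, subsystems
and factor systems.
-/

set_option autoImplicit false

namespace Cfsg.Agent.FusSys

open Cfsg Cfsg.FusionSystem

universe u

variable {Ω : Type u} [Group Ω] {S T : Subgroup Ω} {F : FusionSystem S} {p : ℕ}
variable {U V : Subgroup Ω} {Q : Subgroup Ω} {W : ∀ (Q : Type u) [Group Q], Subgroup Q}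

/-- Every map is conjugation by an element of `S`. -/
def AllInner (F : FusionSystem S) : Prop :=
  ∀ P f, Mor F P f → Mor (innerFusionSystem S) P f

/-- The maps normalizing `V` are conjugations by elements of `S`. -/
def InnerAt (F : FusionSystem S) (V : Subgroup Ω) : Prop :=
  GoodAt F (Mor (innerFusionSystem S)) V

theorem allInner_iff :
    AllInner F ↔ ∀ P : Subgroup Ω, F.Hom P = (innerFusionSystem S).Hom P := by
  refine ⟨fun h P => ?_, fun h P f hf => ?_⟩
  · exact congrArg (fun E => E.Hom P)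
      (eq_iff_mor.2 fun P f => ⟨h P f, le_iff_mor.1 (inner_le F) P f⟩)
  · obtain ⟨φ, hφ, hφf⟩ := hf
    exact ⟨φ, h P ▸ hφ, hφf⟩

theorem AllInner.innerAt (h : AllInner F) (V : Subgroup Ω) : InnerAt F V :=
  fun X f hf _ => h X f hf

theorem allInner_of_bot (hS : S = ⊥) : AllInner F := fun P f hf => by
  refine mor_inner.2 ⟨hf.le, 1, S.one_mem, fun x hx => ?_⟩
  have h1 : x = 1 := Subgroup.mem_bot.1 (hS ▸ hf.le hx)
  rw [h1, hf.map_one]
  group

/-- If every map is inner then `S` is normal. -/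
theorem AllInner.isNormal (h : AllInner F) : F.IsNormal S := by
  refine isNormal_iff.2 ⟨le_rfl, fun P f hf => ?_⟩
  obtain ⟨hP, s, hs, hsf⟩ := mor_inner.1 (h P f hf)
  refine ⟨_, mor_conj (sup_le hP le_rfl) hs, fun x hx => (hsf x hx).symm, fun y => ?_⟩
  refine ⟨fun hy => ⟨s⁻¹ * y * s, S.mul_mem (S.mul_mem (S.inv_mem hs) hy) hs, by group⟩, ?_⟩
  rintro ⟨x, hx, rfl⟩
  exact S.mul_mem (S.mul_mem hs hx) (S.inv_mem hs)

/-- A normalizer system is inner when the system is inner at the subgroup. -/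
theorem allInner_normalizer_of_innerAt (hT : normalizerIn S U = S)
    {N : FusionSystem (normalizerIn S U)} (hN : F.IsNormalizerSystem U N) (h : InnerAt F U) :
    AllInner N := by
  intro X f hf
  obtain ⟨hfF, hNf⟩ := (mor_normalizerSystem hN).1 hf
  obtain ⟨-, s, hs, hsf⟩ := mor_inner.1 (h X f hfF hNf)
  exact mor_inner.2 ⟨hf.le, s, hT.ge hs, hsf⟩

theorem innerAt_of_allInner_normalizer (hV : V ≤ S)
    (h : ∀ N : FusionSystem (normalizerIn S V), F.IsNormalizerSystem V N → AllInner N) :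
    InnerAt F V := by
  intro X f hf hNf
  have hN := isNormalizerSystem_normalizerSys (F := F) hV
  obtain ⟨-, s, hs, hsf⟩ := mor_inner.1 (h _ hN X f ((mor_normalizerSystem hN).2 ⟨hf, hNf⟩))
  exact mor_inner.2 ⟨hf.le, s, hs.1, hsf⟩

theorem innerAt_of_subsystem {D : FusionSystem T} (hT : T = S) (hD : D.IsSubsystemOf F)
    (h : InnerAt F V) : InnerAt D V := by
  subst hT
  rintro X f hf ⟨h1, h2, k, hk, hkf, hkV⟩
  exact h X f (isSubsystemOf_iff_mor.1 hD _ _ hf)
    ⟨h1, h2, k, isSubsystemOf_iff_mor.1 hD _ _ hk, hkf, hkV⟩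

/-- The maps centralizing `V` are conjugations by elements of `S`. -/
def CInnerAt (F : FusionSystem S) (V : Subgroup Ω) : Prop :=
  ∀ X f, Mor F X f → CRel F V X f → Mor (innerFusionSystem S) X f

theorem InnerAt.cInnerAt (h : InnerAt F V) : CInnerAt F V := by
  rintro X f hf ⟨hX, himg, g, hg, hgf, hgV⟩
  refine h X f hf ⟨fun x hx => ⟨(hX hx).1, Subgroup.centralizer_le_normalizer _ (hX hx).2⟩,
    fun x hx => ⟨(himg x hx).1, Subgroup.centralizer_le_normalizer _ (himg x hx).2⟩, g, hg, hgf,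
    fun y => ⟨fun hy => ⟨y, hy, hgV y hy⟩, fun ⟨x, hx, hxy⟩ => ?_⟩⟩
  rw [← hxy, hgV x hx]
  exact hx

theorem cInnerAt_of_subsystem {D : FusionSystem T} (hT : T = S) (hD : D.IsSubsystemOf F)
    (h : CInnerAt F V) : CInnerAt D V := by
  subst hT
  rintro X f hf ⟨h1, h2, k, hk, hkf, hkV⟩
  exact h X f (isSubsystemOf_iff_mor.1 hD _ _ hf)
    ⟨h1, h2, k, isSubsystemOf_iff_mor.1 hD _ _ hk, hkf, hkV⟩

theorem cInnerAt_of_allInner_centralizer (hV : V ≤ S)
    (h : ∀ C : FusionSystem (centralizerIn S V), F.IsCentralizerSystem V C → AllInner C) :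
    CInnerAt F V := by
  intro X f hf hCf
  have hC := isCentralizerSystem_centralizerSys (F := F) hV
  obtain ⟨-, s, hs, hsf⟩ := mor_inner.1 (h _ hC X f ((mor_centralizerSystem hC).2 ⟨hf, hCf⟩))
  exact mor_inner.2 ⟨hf.le, s, hs.1, hsf⟩

section Saturated

variable [Fact p.Prime] [Finite S] (hS : IsPGroup p S) (hF : F.IsSaturated p)

omit [Fact p.Prime] in
/-- The normalizer of `T` normalizes characteristic subgroups of `T`. -/
theorem normalizerIn_le_of_characteristic (hVT : V ≤ T) (hc : (V.subgroupOf T).Characteristic) :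
    normalizerIn S T ≤ normalizerIn S V := by
  rintro s ⟨hs, hn⟩
  refine ⟨hs, Subgroup.mem_normalizer_iff.2 fun x => ?_⟩
  have key : ∀ g ∈ Subgroup.normalizer (T : Set Ω), ∀ y ∈ V, g * y * g⁻¹ ∈ V := by
    intro g hg y hy
    obtain ⟨α, -, hαx⟩ := exists_mem_autInducedBy (P := T) (K := Subgroup.normalizer (T : Set Ω))
      hg hg
    have h1 : α.toMonoidHom ⟨y, hVT hy⟩ ∈ (V.subgroupOf T).map α.toMonoidHom :=
      Subgroup.mem_map_of_mem _ hy
    rw [Subgroup.characteristic_iff_map_eq.1 hc α] at h1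
    rw [← hαx y (hVT hy), apl_apply α (hVT hy)]
    exact h1
  refine ⟨key s hn x, fun h => ?_⟩
  have := key s⁻¹ (Subgroup.inv_mem _ hn) _ h
  simpa [mul_assoc] using this

include hS hF

/-- Goodness passes to normalizer systems at characteristic subgroups of the normalizer. -/
theorem innerAt_normalizer (hUn : F.IsFullyNormalized U) {N : FusionSystem (normalizerIn S U)}
    (hN : F.IsNormalizerSystem U N) (hVT : V ≤ normalizerIn S U)
    (hTV : normalizerIn S U ≤ normalizerIn S V) {V' : Subgroup Ω} {h : Ω → Ω}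
    (hh : Mor F (normalizerIn S V) h) (hhi : Iso F V V' h)
    (hhN : ∀ x ∈ normalizerIn S V, h x ∈ normalizerIn S V')
    (hgood : InnerAt F V') : InnerAt N V := by
  haveI : Finite (normalizerIn S U) := finite_of_le inf_le_left
  set T := normalizerIn S U with hTdef
  have hUT : U ≤ T := le_normalizerIn hUn.1
  intro X f hf hNf
  obtain ⟨hX, -, k, hk, hkf, hkV⟩ := hNf
  obtain ⟨hkF, -, hkT, l, hl, hlk, hlU⟩ := (mor_normalizerSystem hN).1 hk
  have hXT : X ≤ T := hf.le
  set Z := X ⊔ V ⊔ U with hZdef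
  have hZT : Z ≤ T := sup_le (sup_le hXT hVT) hUT
  have hlZ : ∀ z ∈ Z, l z ∈ T := fun z hz => hl.mem_of_sup
    (fun a ha => (hlk a ha).symm ▸ hkT a ha) (fun a ha => hUT ((hlU _).2 ⟨a, ha, rfl⟩)) hz
  have hlV : ∀ z ∈ V, l z ∈ V := fun z hz => by
    rw [hlk z (Subgroup.mem_sup_right hz)]
    exact (hkV _).2 ⟨z, hz, rfl⟩
  have hhT : Mor F T h := hh.mono hTV
  obtain ⟨T', hT'⟩ := hhT.exists_iso
  obtain ⟨Z', hZ'⟩ := (hhT.mono hZT).exists_iso
  obtain ⟨U', hU'⟩ := (hhT.mono hUT).exists_iso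
  obtain ⟨h', hh', hh'h, hhh'⟩ := hZ'.symm
  have hT'le : T' ≤ normalizerIn S U' := fun y hy => by
    obtain ⟨x, hx, rfl⟩ := hT'.exists_eq hy
    exact hhT.mem_normalizerIn hUT hU' hx hx.2
  have hT'eq : normalizerIn S U' = T' :=
    (eq_of_le_of_card inf_le_left hT'le ((hUn.2 U' hU'.isConj).trans hT'.card_eq.le)).symm
  have hm : Mor F Z' (h ∘ (l ∘ h')) :=
    (hh'.1.comp hl fun y hy => hh'.mem hy).comp hhT fun y hy => hlZ _ (hh'.mem hy)
  have hV'Z : V' ≤ Z' := fun y hy => by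
    obtain ⟨x, hx, rfl⟩ := hhi.exists_eq hy
    exact hZ'.mem (Subgroup.mem_sup_left (Subgroup.mem_sup_right hx))
  have hin := hgood Z' _ hm ⟨fun y hy => by
      obtain ⟨x, hx, rfl⟩ := hZ'.exists_eq hy
      exact hhN x (hTV (hZT hx)),
    fun y hy => hhN _ (hTV (hlZ _ (hh'.mem hy))), _,
    hm.mono (sup_le le_rfl hV'Z), fun _ _ => rfl, fun y => ?_⟩
  swap
  · refine ⟨fun hy => (hm.mono hV'Z).surj_of_card hhi.right_le (fun z hz => ?_) le_rfl hy,
      fun ⟨z, hz, hzy⟩ => hzy ▸ ?_⟩ <;>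
    · obtain ⟨x, hx, rfl⟩ := hhi.exists_eq hz
      show h (l (h' (h x))) ∈ V'
      rw [hh'h x (Subgroup.mem_sup_left (Subgroup.mem_sup_right hx))]
      exact hhi.mem (hlV x hx)
  obtain ⟨-, t, ht, hth⟩ := mor_inner.1 hin
  have hval : ∀ z ∈ Z, h (l z) = t * h z * t⁻¹ := fun z hz => by
    rw [← hth _ (hZ'.mem hz)]
    show h (l z) = h (l (h' (h z)))
    rw [hh'h z hz]
  have htn : t ∈ normalizerIn S U' := by
    haveI := finite_of_le hU'.right_le
    refine ⟨ht, mem_normalizer_of_maps fun y hy => ?_⟩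
    obtain ⟨x, hx, rfl⟩ := hU'.exists_eq hy
    rw [← hval x (Subgroup.mem_sup_right hx)]
    exact hU'.mem ((hlU _).2 ⟨x, hx, rfl⟩)
  rw [hT'eq] at htn
  obtain ⟨s, hs, rfl⟩ := hT'.exists_eq htn
  refine mor_inner.2 ⟨hXT, s, hs, fun x hx => ?_⟩
  have hxZ : x ∈ Z := Subgroup.mem_sup_left (Subgroup.mem_sup_left hx)
  rw [← hkf x hx, ← hlk x (Subgroup.mem_sup_left hx)]
  refine hhT.injOn (hlZ x hxZ) (T.mul_mem (T.mul_mem hs (hXT hx)) (T.inv_mem hs)) ?_
  rw [hval x hxZ, hhT.map_conj hs (hXT hx)]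

/-- Downward induction on the normalizers: it suffices to treat each normalizer system assuming
goodness at the characteristic subgroups of the normalizer. -/
theorem inner_of_local
    (hstep : ∀ U, U ≠ ⊥ → F.IsFullyNormalized U → ∀ N : FusionSystem (normalizerIn S U),
      F.IsNormalizerSystem U N →
      (normalizerIn S U ≠ S → ∀ V ≤ normalizerIn S U, V ≠ ⊥ →
        (V.subgroupOf (normalizerIn S U)).Characteristic → InnerAt N V) → AllInner N) :
    AllInner F := by
  have main : ∀ (n : ℕ) U, Nat.card S - Nat.card (normalizerIn S U) ≤ n → U ≠ ⊥ →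
      F.IsFullyNormalized U → InnerAt F U := by
    intro n
    induction n using Nat.strong_induction_on with
    | h n ih =>
      intro U hn hU hUn
      refine innerAt_of_allInner_normalizer hUn.1 fun N hN => hstep U hU hUn N hN
        fun hT V hV hV0 hVc => ?_
      have hTS : normalizerIn S U ≤ S := inf_le_left
      obtain ⟨V', h, hV'n, hh, hhi, hhN⟩ := exists_fullyNormalized_mor hS hF (hV.trans hTS)
      have hTV := normalizerIn_le_of_characteristic (S := S) hV hVc
      have hlt : normalizerIn S U < normalizerIn S (normalizerIn S U) :=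
        lt_normalizerIn hS (lt_of_le_of_ne hTS hT)
      have hcard : Nat.card (normalizerIn S U) < Nat.card (normalizerIn S V') :=
        lt_of_lt_of_le (card_lt_of_lt' inf_le_left (hlt.trans_le hTV))
          (hh.card_image_le inf_le_left hhN)
      have hcard2 : Nat.card (normalizerIn S V') ≤ Nat.card S := Subgroup.card_le_of_le inf_le_left
      refine innerAt_normalizer hS hF hUn hN hV ((le_normalizerIn hTS).trans hTV) hh hhi hhN
        (ih (Nat.card S - Nat.card (normalizerIn S V')) (by omega) V' le_rfl ?_ hV'n)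
      intro e
      exact hV0 (Subgroup.eq_bot_of_card_eq _ (by rw [hhi.card_eq, e, Subgroup.card_bot]))
  by_cases hS0 : S = ⊥
  · exact allInner_of_bot hS0
  have hle : F ≤ innerFusionSystem S := le_of_aut_le hS hF fun R hR α hα => by
    have hRS : R ≤ S := hR.elim (fun e => e.le) fun e => e.1.1
    have hfn : F.IsFullyNormalized R := by
      rcases hR with rfl | hR
      · haveI : Finite (normalizerIn R R) := finite_of_le inf_le_left
        exact ⟨le_rfl, fun X _ => Subgroup.card_le_of_le (le_inf inf_le_left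
          (inf_le_left.trans Subgroup.le_normalizer))⟩
      · exact hR.2.1
    have hR0 : R ≠ ⊥ := by
      rintro rfl
      rcases hR with h | hR
      · exact hS0 h.symm
      · refine hS0 (le_bot_iff.1 fun x hx => centric_self hR.1 ⟨hx, ?_⟩)
        exact Subgroup.mem_centralizer_iff.2 fun y hy => by
          rw [Subgroup.mem_bot.1 hy]; group
    have hi := iso_apl hRS hα
    refine (mem_autGroup_iff hRS).2 ⟨main _ R le_rfl hR0 hfn R _ hi.1 ?_, (hi.2)⟩
    have hle' : R ≤ normalizerIn S R := le_normalizerIn hRS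
    exact ⟨hle', fun x hx => hle' (apl_mem α hx), apl α, hi.1.mono (sup_le le_rfl le_rfl),
      fun _ _ => rfl, hi.2⟩
  exact fun P f hf => le_iff_mor.1 hle P f hf

omit [Fact p.Prime] hS hF in
/-- Goodness lifts to factor systems. -/
theorem innerAt_factor {Ω' : Type u} [Group Ω'] {S' : Subgroup Ω'} {E : FusionSystem S'}
    {θ : S →* Ω'} (hQn : F.IsNormal Q) (hE : F.IsFactorSystem Q θ E) {V' : Subgroup Ω'}
    (hV' : V' ≤ S') (hVn : S' ≤ Subgroup.normalizer (V' : Set Ω'))
    (h : InnerAt F (preimageAlong θ V')) : InnerAt E V' := by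
  have hsc := stronglyClosed_of_isNormal hQn
  have hker := hE.2.1
  have hrange := hE.2.2.1
  have hSV : S ≤ Subgroup.normalizer (preimageAlong θ V' : Set Ω) := fun s hs => by
    have hs' : thFn θ s ∈ Subgroup.normalizer (V' : Set Ω') :=
      hVn (hrange ▸ thFn_mem_range _ hs)
    refine Subgroup.mem_normalizer_iff.2 fun x => ⟨fun hx => ?_, fun hx => ?_⟩
    · obtain ⟨hxS, hx'⟩ := mem_pre.1 hx
      refine mem_pre.2 ⟨S.mul_mem (S.mul_mem hs hxS) (S.inv_mem hs), ?_⟩
      rw [thFn_conj hs hxS]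
      exact (Subgroup.mem_normalizer_iff.1 hs' _).1 hx'
    · obtain ⟨hxS, hx'⟩ := mem_pre.1 hx
      have hxS' : x ∈ S := by
        have h1 := S.mul_mem (S.mul_mem (S.inv_mem hs) hxS) hs
        have h2 : s⁻¹ * (s * x * s⁻¹) * s = x := by group
        rwa [h2] at h1
      refine mem_pre.2 ⟨hxS', ?_⟩
      rw [thFn_conj hs hxS'] at hx'
      exact (Subgroup.mem_normalizer_iff.1 hs' _).2 hx'
  rintro X' f' - ⟨hX', -, g', hg', hg'f, hg'V⟩
  obtain ⟨hsup, g, hg, hgi⟩ := (mor_factor hE hsc).1 hg'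
  have hX'S : X' ≤ S' := le_sup_left.trans hsup
  have hXle : preimageAlong θ X' ≤ preimageAlong θ (X' ⊔ V') := fun x hx =>
    mem_pre.2 ⟨(mem_pre.1 hx).1, Subgroup.mem_sup_left (mem_pre.1 hx).2⟩
  have hVle : preimageAlong θ V' ≤ preimageAlong θ (X' ⊔ V') := fun x hx =>
    mem_pre.2 ⟨(mem_pre.1 hx).1, Subgroup.mem_sup_right (mem_pre.1 hx).2⟩
  have hgV : ∀ v ∈ preimageAlong θ V', g v ∈ preimageAlong θ V' := fun v hv => by
    refine mem_pre.2 ⟨hg.mem_S (hVle hv), ?_⟩
    rw [← hgi v (hVle hv)]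
    exact (hg'V _).2 ⟨_, (mem_pre.1 hv).2, rfl⟩
  have hin := h (preimageAlong θ X') g (hg.mono hXle)
    ⟨fun x hx => ⟨pre_le hx, hSV (pre_le hx)⟩,
      fun x hx => ⟨hg.mem_S (hXle hx), hSV (hg.mem_S (hXle hx))⟩, g,
      hg.mono (sup_le hXle hVle), fun _ _ => rfl, fun y =>
        ⟨fun hy => (hg.mono hVle).surj_of_card pre_le hgV le_rfl hy,
          fun ⟨v, hv, hvy⟩ => hvy ▸ hgV v hv⟩⟩
  obtain ⟨-, s, hs, hsg⟩ := mor_inner.1 hin
  refine mor_inner.2 ⟨hX'S, thFn θ s, hrange ▸ thFn_mem_range _ hs, fun z hz => ?_⟩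
  obtain ⟨x, hx, rfl⟩ := exists_pre (hrange ▸ hX'S) hz
  rw [← hg'f _ hz, hgi x (hXle hx), hsg x hx, thFn_conj hs (pre_le hx)]

end Saturated

/-- A class of saturated systems closed under the steps of the induction. -/
structure Hereditary (p : ℕ)
    (Cls : ∀ {Ω : Type u} [Group Ω] {S : Subgroup Ω}, FusionSystem S → Prop) : Prop where
  norm : ∀ {Ω : Type u} [Group Ω] {S : Subgroup Ω} [Finite S] (F : FusionSystem S),
    IsPGroup p S → F.IsSaturated p → Cls F → ∀ U, F.IsFullyNormalized U →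
    ∀ N : FusionSystem (normalizerIn S U), F.IsNormalizerSystem U N → Cls N
  act : ∀ {Ω : Type u} [Group Ω] {S : Subgroup Ω} [Finite S] (F : FusionSystem S),
    IsPGroup p S → F.IsSaturated p → Cls F → ∀ (Q : Subgroup Ω) (hQS : Q ≤ S)
      (hSN : S ≤ Subgroup.normalizer (Q : Set Ω)), F.IsNormal Q → Cls (actSys F hQS hSN)
  factor : ∀ {Ω : Type u} [Group Ω] {S : Subgroup Ω} [Finite S] (F : FusionSystem S),
    IsPGroup p S → F.IsSaturated p → Cls F → ∀ {Ω' : Type u} [Group Ω'] {S' : Subgroup Ω'}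
      (E : FusionSystem S') (θ : S →* Ω') (Q : Subgroup Ω), F.IsNormal Q →
      F.IsFactorSystem Q θ E → Cls E

theorem hereditary_true : Hereditary.{u} p (fun {Ω} _ {S} _ => True) :=
  ⟨by intros; trivial, by intros; trivial, by intros; trivial⟩

/-- A condition on systems of a class forcing them to be inner in the presence of a normal centric
subgroup, inherited by subsystems over the same group, and implied by goodness at the
characteristic subgroups. -/
structure InnerCond (p : ℕ)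
    (Cls Hyp : ∀ {Ω : Type u} [Group Ω] {S : Subgroup Ω}, FusionSystem S → Prop) : Prop where
  mono : ∀ {Ω : Type u} [Group Ω] {S T : Subgroup Ω} (F : FusionSystem S) (D : FusionSystem T),
    T = S → D.IsSubsystemOf F → Hyp F → Hyp D
  good : ∀ {Ω : Type u} [Group Ω] {S : Subgroup Ω} [Finite S] (F : FusionSystem S),
    IsPGroup p S → F.IsSaturated p → S ≠ ⊥ →
    (∀ V ≤ S, V ≠ ⊥ → (V.subgroupOf S).Characteristic → InnerAt F V) → Hyp F
  centric : ∀ {Ω : Type u} [Group Ω] {S : Subgroup Ω} [Finite S] (F : FusionSystem S),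
    IsPGroup p S → F.IsSaturated p → Cls F → ∀ Q : Subgroup Ω, F.IsNormal Q → F.IsCentric Q →
    Hyp F → AllInner F

theorem allInner_of_cond [Fact p.Prime]
    {Cls Hyp : ∀ {Ω : Type u} [Group Ω] {S : Subgroup Ω}, FusionSystem S → Prop}
    (hh : Hereditary p Cls) (hc : InnerCond p Cls Hyp) [Finite S] (hS : IsPGroup p S)
    (hF : F.IsSaturated p) (hC : Cls F) (hH : Hyp F) : AllInner F := by
  refine smaller_induction (Φ := fun {Ω} _ {S} F => Finite S → IsPGroup p S → F.IsSaturated p →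
    Cls F → Hyp F → AllInner F) ?_ F inferInstance hS hF hC hH
  intro Ω _ S F ih _ hS hF hC hH
  set Q := F.core with hQdef
  have hQn : F.IsNormal Q := isNormal_core
  have hnorm : ∀ V, V ≤ S → ¬ F.IsNormal V → S ≤ Subgroup.normalizer (V : Set Ω) →
      InnerAt F V := fun V hV hVn hSV => innerAt_of_allInner_normalizer hV fun N hN => by
    haveI : Finite (normalizerIn S V) := finite_of_le inf_le_left
    have hVfn : F.IsFullyNormalized V := ⟨hV, fun R _ => by
      rw [normalizerIn_eq_of_le hSV]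
      exact Subgroup.card_le_of_le inf_le_left⟩
    exact ih N (smaller_normalizer hV hVn hN) inferInstance (hS.to_le inf_le_left)
      (normalizerSystem_saturated hS hF hVfn hN) (hh.norm F hS hF hC V hVfn N hN)
      (hc.mono F N (normalizerIn_eq_of_le hSV) (normalizerSystem_subsystem hS hF hN) hH)
  by_cases hQ0 : Q = ⊥
  · refine inner_of_local hS hF fun U hU hUn N hN hgood => ?_
    haveI : Finite (normalizerIn S U) := finite_of_le inf_le_left
    have hsm := smaller_normalizer hUn.1 (fun h => hU (le_bot_iff.1 (hQ0 ▸ le_core h))) hN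
    have hsN := normalizerSystem_saturated hS hF hUn hN
    refine ih N hsm inferInstance (hS.to_le inf_le_left) hsN (hh.norm F hS hF hC U hUn N hN) ?_
    by_cases hT : normalizerIn S U = S
    · exact hc.mono F N hT (normalizerSystem_subsystem hS hF hN) hH
    · exact hc.good N (hS.to_le inf_le_left) hsN
        (fun h => hU (le_bot_iff.1 (h ▸ le_normalizerIn hUn.1))) (hgood hT)
  have hQS : Q ≤ S := hQn.1
  have hSN : S ≤ Subgroup.normalizer (Q : Set Ω) :=
    StronglyClosed.le_normalizer (stronglyClosed_of_isNormal hQn)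
  by_cases hQc : F.IsCentric Q
  · exact hc.centric F hS hF hC Q hQn hQc hH
  have hQR := lt_sup_centralizer hQn hQc
  have hbig : ∀ V, Q < V → V ≤ S → S ≤ Subgroup.normalizer (V : Set Ω) → InnerAt F V :=
    fun V hQV hV hSV => hnorm V hV (fun h => hQV.not_ge (le_core h)) hSV
  by_cases hact : ∀ P f, Mor F P f → KRel F (autInducedBy S Q) P f
  · exfalso
    obtain ⟨Ω', _, S', E, θ, _, hS', hE, hEs, hlt, hne, hpre⟩ :=
      exists_factor hS hF hQn hQ0 (core_ne_top hQc)
    have hEi : AllInner E := ih E (Or.inl hlt) inferInstance hS' hEs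
      (hh.factor F hS hF hC E θ Q hQn hE)
      (hc.good E hS' hEs hne fun V' hV' hV'0 hV'c => by
        have hVn : S' ≤ Subgroup.normalizer (V' : Set Ω') := fun s hs =>
          (normalizerIn_le_of_characteristic (S := S') hV' hV'c (le_normalizerIn le_rfl hs)).2
        refine innerAt_factor hQn hE hV' hVn (hbig _ (hpre V' hV' hV'0) pre_le fun s hs => ?_)
        refine Subgroup.mem_normalizer_iff.2 fun x => ⟨fun hx => ?_, fun hx => ?_⟩
        · obtain ⟨hxS, hx'⟩ := mem_pre.1 hx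
          refine mem_pre.2 ⟨S.mul_mem (S.mul_mem hs hxS) (S.inv_mem hs), ?_⟩
          rw [thFn_conj hs hxS]
          exact (Subgroup.mem_normalizer_iff.1 (hVn (hE.2.2.1 ▸ thFn_mem_range _ hs)) _).1 hx'
        · obtain ⟨hxS, hx'⟩ := mem_pre.1 hx
          have hxS' : x ∈ S := by
            have h1 := S.mul_mem (S.mul_mem (S.inv_mem hs) hxS) hs
            have h2 : s⁻¹ * (s * x * s⁻¹) * s = x := by group
            rwa [h2] at h1
          refine mem_pre.2 ⟨hxS', ?_⟩
          rw [thFn_conj hs hxS'] at hx'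
          exact (Subgroup.mem_normalizer_iff.1 (hVn (hE.2.2.1 ▸ thFn_mem_range _ hs)) _).2 hx')
    exact (hpre S' le_rfl hne).not_ge
      (le_core (isNormal_preimage_of_act hS hF hQn hE hact hEi.isNormal))
  push Not at hact
  obtain ⟨P₀, f₀, hf₀, hno⟩ := hact
  have hDi := ih (actSys F hQS hSN)
    (smaller_subsystem actSys_le hf₀ fun h => hno (mor_actSys.1 h).2) inferInstance hS
    (actSys_saturated hS hF hQn) (hh.act F hS hF hC Q hQS hSN hQn) (hc.mono F _ rfl actSys_le hH)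
  have hM : SubRel F S (Mor (innerFusionSystem S)) :=
    { congr := fun h he => h.congr he
      le := fun h => ⟨h.le, fun x hx => h.mem_S hx⟩
      conj := fun hP hs => ⟨mor_conj hP hs, mor_conj hP hs⟩
      comp := fun _ hf _ hg h => hf.comp hg h
      inv := fun hfi hf hgi hgf => by
        obtain ⟨g', hg', hg'f, -⟩ := (Iso.symm ⟨hf, hfi.2⟩)
        refine hg'.1.congr fun y hy => ?_
        obtain ⟨x, hx, rfl⟩ := hfi.exists_eq hy
        rw [hg'f x hx, hgf x hx] }
  refine split_step hS hF hQn (hQS := hQS) (hSN := hSN) hM (fun N hN X f hf => ?_) hDi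
  obtain ⟨hfF, hNf⟩ := (mor_normalizerSystem hN).1 hf
  exact hbig _ hQR (sup_le hQS inf_le_left) (fun x hx => split_maps.normalizes hSN hx) X f hfF hNf

/-- An element of a model inducing an inner map on a subgroup above a normal centric subgroup
lies in the Sylow subgroup. -/
theorem model_mem_range [Fact p.Prime] {L : Type*} [Group L] {ι : S →* L}
    (hM : F.IsModel p L ι) (hQn : F.IsNormal Q) (hQc : F.IsCentric Q) {Y : Subgroup Ω}
    (hQY : Q ≤ Y) {l : L} (hcl : ∀ x : S, (x : Ω) ∈ Y → ∃ y : S, l * ι x * l⁻¹ = ι y)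
    (h : Mor (innerFusionSystem S) Y (pullConj ι l)) : l ∈ ι.range := by
  obtain ⟨-, s, hs, hsl⟩ := mor_inner.1 h
  have hinj := hM.2.1.1
  have hmem : (ι ⟨s, hs⟩)⁻¹ * l ∈ (Q.subgroupOf S).map ι := by
    refine model_centralizer hM hQn hQc (Subgroup.mem_centralizer_iff.2 ?_)
    rintro _ ⟨x, hx, rfl⟩
    obtain ⟨y, hy⟩ := hcl x (hQY hx)
    have h1 : y = ⟨s, hs⟩ * x * ⟨s, hs⟩⁻¹ := Subtype.ext
      ((pullConj_eq hinj hy).symm.trans (hsl x (hQY hx)))
    rw [h1, map_mul, map_mul, map_inv] at hy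
    calc ι x * ((ι ⟨s, hs⟩)⁻¹ * l) = (ι ⟨s, hs⟩)⁻¹ * (ι ⟨s, hs⟩ * ι x * (ι ⟨s, hs⟩)⁻¹) * l := by
          group
      _ = (ι ⟨s, hs⟩)⁻¹ * (l * ι x * l⁻¹) * l := by rw [hy]
      _ = (ι ⟨s, hs⟩)⁻¹ * l * ι x := by group
  obtain ⟨q, -, hq⟩ := hmem
  exact ⟨⟨s, hs⟩ * q, by rw [map_mul, hq]; group⟩

/-- In the presence of a normal centric subgroup, a model's normalizer of `V` lies in the Sylow
subgroup when the system is inner at `V`. -/
theorem model_normalizer_le [Fact p.Prime] {L : Type*} [Group L] {ι : S →* L}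
    (hM : F.IsModel p L ι) (hQn : F.IsNormal Q) (hQc : F.IsCentric Q) (hV : V ≤ S)
    (hSV : S ≤ Subgroup.normalizer (V : Set Ω)) (h : InnerAt F V) {l : L}
    (hl : l ∈ Subgroup.normalizer ((V.subgroupOf S).map ι : Set L)) : l ∈ ι.range := by
  haveI := model_normal_image hM hQn
  have hinj := hM.2.1.1
  have hcl : ∀ x : S, (x : Ω) ∈ Q ⊔ V →
      ∃ y : S, (y : Ω) ∈ Q ⊔ V ∧ l * ι x * l⁻¹ = ι y := by
    intro x hx
    have hsub : x ∈ Q.subgroupOf S ⊔ V.subgroupOf S := by
      rw [← Subgroup.subgroupOf_sup hQn.1 hV]; exact hx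
    have h1 : l * ι x * l⁻¹ ∈ (Q.subgroupOf S).map ι ⊔ (V.subgroupOf S).map ι := by
      have hn : l ∈ Subgroup.normalizer
          (((Q.subgroupOf S).map ι ⊔ (V.subgroupOf S).map ι : Subgroup L) : Set L) :=
        mem_normalizer_sup (by rw [Subgroup.normalizer_eq_top]; exact Subgroup.mem_top l) hl
      exact (Subgroup.mem_normalizer_iff.1 hn _).1
        (by rw [← Subgroup.map_sup]; exact ⟨x, hsub, rfl⟩)
    rw [← Subgroup.map_sup, ← Subgroup.subgroupOf_sup hQn.1 hV] at h1
    obtain ⟨y, hy, hyx⟩ := h1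
    exact ⟨y, hy, hyx.symm⟩
  have hm : Mor F (Q ⊔ V) (pullConj ι l) := by
    refine (mor_realized hM.2.1).2 ⟨sup_le hQn.1 hV, fun z hz => ?_, l, fun z hz => ?_⟩
    · obtain ⟨y, -, hy⟩ := hcl ⟨z, sup_le hQn.1 hV hz⟩ hz
      rw [show pullConj ι l z = (y : Ω) from pullConj_eq hinj hy]
      exact y.2
    · obtain ⟨y, -, hy⟩ := hcl z hz
      rw [pullConj_eq hinj hy, thFn_coe, hy]
  have hVimg : ∀ v ∈ V, pullConj ι l v ∈ V := by
    intro v hv
    obtain ⟨y, hy, hyv⟩ := (Subgroup.mem_normalizer_iff.1 hl (ι ⟨v, hV hv⟩)).1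
      ⟨⟨v, hV hv⟩, hv, rfl⟩
    rw [show pullConj ι l v = (y : Ω) from pullConj_eq hinj (x := ⟨v, hV hv⟩) hyv.symm]
    exact hy
  haveI : Finite L := hM.1
  haveI : Finite S := Finite.of_injective _ hinj
  have hle : Q ⊔ V ≤ S := sup_le hQn.1 hV
  exact model_mem_range hM hQn hQc (le_sup_left (b := V))
    (fun x hx => (hcl x hx).imp fun y hy => hy.2) (h (Q ⊔ V) _ hm
    ⟨fun x hx => ⟨hle hx, hSV (hle hx)⟩, fun x hx => ⟨hm.mem_S hx, hSV (hm.mem_S hx)⟩,
      _, hm.mono (sup_le le_rfl le_sup_right), fun _ _ => rfl, fun y =>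
        ⟨fun hy => (hm.mono le_sup_right).surj_of_card hV hVimg le_rfl hy,
          fun ⟨v, hv, hvy⟩ => hvy ▸ hVimg v hv⟩⟩)

/-- A system with a model that is a `p`-group is inner. -/
theorem allInner_of_model_range {L : Type*} [Group L] {ι : S →* L} (hr : F.IsRealizedBy ι)
    (h : ∀ l : L, l ∈ ι.range) : AllInner F := by
  intro P f hf
  obtain ⟨hP, hfS, l, hl⟩ := (mor_realized hr).1 hf
  obtain ⟨s, rfl⟩ := h l
  refine mor_inner.2 ⟨hP, s, s.2, fun x hx => ?_⟩
  have h1 := hl ⟨x, hP hx⟩ hx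
  rw [thFn_apply (hfS x hx), ← map_inv, ← map_mul, ← map_mul] at h1
  exact congrArg Subtype.val (hr.1 h1)

/-- In the presence of a normal centric subgroup, a model's centralizer of `V` lies in the Sylow
subgroup when the system is inner on maps centralizing a central subgroup `V`. -/
theorem model_centralizer_le [Fact p.Prime] {L : Type*} [Group L] {ι : S →* L}
    (hM : F.IsModel p L ι) (hQn : F.IsNormal Q) (hQc : F.IsCentric Q) (hV : V ≤ S)
    (hSV : S ≤ Subgroup.centralizer (V : Set Ω)) (h : CInnerAt F V) {l : L}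
    (hl : l ∈ Subgroup.centralizer ((V.subgroupOf S).map ι : Set L)) : l ∈ ι.range := by
  haveI := model_normal_image hM hQn
  have hinj := hM.2.1.1
  have hle : Q ⊔ V ≤ S := sup_le hQn.1 hV
  have hln : l ∈ Subgroup.normalizer ((V.subgroupOf S).map ι : Set L) :=
    Subgroup.centralizer_le_normalizer _ hl
  have hcl : ∀ x : S, (x : Ω) ∈ Q ⊔ V → ∃ y : S, l * ι x * l⁻¹ = ι y := by
    intro x hx
    have hsub : x ∈ Q.subgroupOf S ⊔ V.subgroupOf S := by
      rw [← Subgroup.subgroupOf_sup hQn.1 hV]; exact hx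
    have h1 : l * ι x * l⁻¹ ∈ (Q.subgroupOf S).map ι ⊔ (V.subgroupOf S).map ι := by
      have hn : l ∈ Subgroup.normalizer
          (((Q.subgroupOf S).map ι ⊔ (V.subgroupOf S).map ι : Subgroup L) : Set L) :=
        mem_normalizer_sup (by rw [Subgroup.normalizer_eq_top]; exact Subgroup.mem_top l) hln
      exact (Subgroup.mem_normalizer_iff.1 hn _).1
        (by rw [← Subgroup.map_sup]; exact ⟨x, hsub, rfl⟩)
    rw [← Subgroup.map_sup] at h1
    obtain ⟨y, -, hyx⟩ := h1
    exact ⟨y, hyx.symm⟩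
  have hm : Mor F (Q ⊔ V) (pullConj ι l) := by
    refine (mor_realized hM.2.1).2 ⟨hle, fun z hz => ?_, l, fun z hz => ?_⟩
    · obtain ⟨y, hy⟩ := hcl ⟨z, hle hz⟩ hz
      rw [show pullConj ι l z = (y : Ω) from pullConj_eq hinj hy]
      exact y.2
    · obtain ⟨y, hy⟩ := hcl z hz
      rw [pullConj_eq hinj hy, thFn_coe, hy]
  refine model_mem_range hM hQn hQc (le_sup_left (b := V)) hcl (h (Q ⊔ V) _ hm
    ⟨fun x hx => ⟨hle hx, hSV (hle hx)⟩, fun x hx => ⟨hm.mem_S hx, hSV (hm.mem_S hx)⟩, _,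
      hm.mono (sup_le le_rfl le_sup_right), fun _ _ => rfl, fun v hv => ?_⟩)
  refine pullConj_eq hinj (x := ⟨v, hV hv⟩) (y := ⟨v, hV hv⟩) ?_
  rw [← Subgroup.mem_centralizer_iff.1 hl (ι ⟨v, hV hv⟩) ⟨_, hv, rfl⟩, mul_inv_cancel_right]

theorem hereditary_free [Fact p.Prime] (H : Type) [Group H] :
    Hereditary.{u} p (fun {Ω} _ {S} F => p ≠ 2 ∨ F.IsSectionFree p H) where
  norm {Ω} _ {S} _ F hS hF h U hUn N hN := h.imp id fun hf => free_normalizerSystem hS hF hf hUn hN
  act {Ω} _ {S} _ F hS hF h Q hQS hSN hQn := h.imp id fun hf =>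
    free_of_centric_above hS hF hf le_rfl (actSys_saturated hS hF hQn) actSys_le actSys_isNormal
      fun P hPc hQP => centric_of_actSys hS hF hQn hPc hQP
  factor {Ω} _ {S} _ F hS hF h {Ω'} _ {S'} E θ Q hQn hE := h.imp id fun hf => free_factor hS hF hQn hE hf

/-- Models at normal centric subgroups of free systems are free. -/
theorem not_involves_model [Fact p.Prime] [Finite S] (hS : IsPGroup p S) (hF : F.IsSaturated p)
    {H : Type*} [Group H] (hfree : F.IsSectionFree p H) (hQn : F.IsNormal Q) (hQc : F.IsCentric Q)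
    {L : Type u} [Group L] {ι : S →* L} (hM : F.IsModel p L ι) : ¬ Involves H L := fun hi => by
  obtain ⟨P', hn', hc', -, N', hN', L', hL', ι', hι', θ, hθ⟩ :=
    exists_embedding_fn hS hF (isSubsystemOf_iff_mor.2 fun _ _ h => h) hQc hQn le_rfl hM
  exact hfree P' hn' hc' N' hN' L' ι' hι' (involves_of_injective hθ hi)

end Cfsg.Agent.FusSys
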