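import Mathlib.GroupTheory.SemidirectProduct
import Mathlib.GroupTheory.FreeGroup.Reduce
import Mathlib.GroupTheory.FreeGroup.CyclicallyReduced
import Mathlib.GroupTheory.FreeGroup.NielsenSchreier
import Mathlib.GroupTheory.Perm.Basic
import Mathlib.Data.Fintype.Perm
import Mathlib.GroupTheory.Index

/-!
An infinite group in which prescribed partial isomorphisms of a finite group `X` become inner:
the subgroup of `(Perm X → free group) ⋊ Perm X` generated by the translations and one element for
each partial isomorphism. Its finite subgroups are conjugate into `X` and it is virtually free.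
-/

set_option autoImplicit false

namespace Cfsg.Agent.FusSys.LoopModel

open FreeGroup (IsReduced)

universe u

variable {X : Type u} [Group X]

/-- Left translation as a permutation. -/
def tr (X : Type u) [Group X] : X →* Equiv.Perm X := MulAction.toPermHom X X

theorem tr_apply (x y : X) : tr X x y = x * y := rfl

theorem tr_injective : Function.Injective (tr X) := fun a b h => by
  simpa [tr_apply] using DFunLike.congr_fun h 1

variable [Finite X]

/-- Semiregular actions of isomorphic subgroups are conjugate. -/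
theorem exists_intertwine (Q : Subgroup X) (φ : Q →* X) (hφ : Function.Injective φ) :
    ∃ σ : Equiv.Perm X, ∀ q : Q, σ * tr X q * σ⁻¹ = tr X (φ q) := by
  have e : Q ≃* φ.range := MonoidHom.ofInjective hφ
  obtain ⟨c⟩ : Nonempty (X ⧸ Q ≃ X ⧸ φ.range) := by
    refine Finite.card_eq.1 ?_
    rw [← Subgroup.index_eq_card, ← Subgroup.index_eq_card]
    have h1 := Q.card_mul_index
    rw [← φ.range.card_mul_index, Nat.card_congr (MonoidHom.ofInjective hφ).toEquiv] at h1
    exact Nat.eq_of_mul_eq_mul_left Nat.card_pos h1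
  let τ : X → X := fun x =>
    (c (x : X ⧸ Q)).out * φ ⟨((x : X ⧸ Q).out)⁻¹ * x, QuotientGroup.eq.1 (Quotient.out_eq _)⟩
  have hτ : ∀ (x : X) (q : Q), τ (x * q) = τ x * φ q := fun x q => by
    have e1 : ((x * q : X) : X ⧸ Q) = x := QuotientGroup.eq.2 (by simp)
    simp only [τ]
    rw [mul_assoc _ _ (φ q), ← map_mul]
    simp only [e1]
    congr 2
    exact Subtype.ext (by simp [mul_assoc])
  have hinj : Function.Injective τ := fun x y h => by
    have h' : ((τ x : X) : X ⧸ φ.range) = ((τ y : X) : X ⧸ φ.range) := congrArg _ h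
    have hc : ∀ z, ((τ z : X) : X ⧸ φ.range) = c (z : X ⧸ Q) := fun z => by
      refine Eq.trans (QuotientGroup.eq.2 ?_) (Quotient.out_eq _)
      simp [τ, MonoidHom.mem_range]
    rw [hc, hc] at h'
    obtain ⟨q, rfl⟩ : ∃ q : Q, y = x * q :=
      ⟨⟨x⁻¹ * y, QuotientGroup.eq.1 (c.injective h')⟩, (mul_inv_cancel_left x y).symm⟩
    rw [hτ, left_eq_mul, map_eq_one_iff _ hφ] at h
    rw [h, OneMemClass.coe_one, mul_one]
  let σ : Equiv.Perm X := (Equiv.inv X).trans
    ((Equiv.ofBijective τ (Finite.injective_iff_bijective.1 hinj)).trans (Equiv.inv X))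
  refine ⟨σ, fun q => mul_inv_eq_iff_eq_mul.2 (Equiv.ext fun x => ?_)⟩
  show (τ ((q : X) * x)⁻¹)⁻¹ = φ q * (τ x⁻¹)⁻¹
  have e2 : ((q : X) * x)⁻¹ = x⁻¹ * ((q⁻¹ : Q) : X) := by simp
  rw [e2, hτ, map_inv, mul_inv_rev, inv_inv]

/-- The data: a family of partial isomorphisms with permutations inducing them. -/
structure Loops (X : Type u) [Group X] where
  J : Type u
  Q : J → Subgroup X
  φ : ∀ j, Q j →* X
  inj : ∀ j, Function.Injective (φ j)
  σ : J → Equiv.Perm X
  conj : ∀ j (q : Q j), σ j * tr X q * (σ j)⁻¹ = tr X (φ j q)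

variable (L : Loops X)

/-- The edges. -/
def Loops.Edge : Type u := Σ j : L.J, Equiv.Perm X ⧸ (L.φ j).range.map (tr X)

/-- Translation of edges. -/
def Loops.shiftEdge (c : Equiv.Perm X) (e : L.Edge) : L.Edge := ⟨e.1, c • e.2⟩

/-- The action on the labellings. -/
def Loops.act : Equiv.Perm X →* MulAut (Equiv.Perm X → FreeGroup L.Edge) where
  toFun p :=
    { toFun := fun a r => a (r * p)
      invFun := fun a r => a (r * p⁻¹)
      left_inv := fun a => funext fun r => by simp
      right_inv := fun a => funext fun r => by simp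
      map_mul' := fun _ _ => rfl }
  map_one' := by ext a r; simp
  map_mul' p q := by
    ext a r
    show a (r * (p * q)) = a (r * p * q)
    rw [mul_assoc]

/-- The ambient group. -/
abbrev Loops.W : Type u := (Equiv.Perm X → FreeGroup L.Edge) ⋊[L.act] Equiv.Perm X

variable {L}

theorem mul_left_apply (a b : L.W) (r : Equiv.Perm X) :
    (a * b).left r = a.left r * b.left (r * a.right) := rfl

theorem inv_left_apply (a : L.W) (r : Equiv.Perm X) :
    (a⁻¹).left r = (a.left (r * a.right⁻¹))⁻¹ := rfl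

/-- The copy of `X`. -/
def Loops.emb (L : Loops X) : X →* L.W := SemidirectProduct.inr.comp (tr X)

theorem emb_left (x : X) (r : Equiv.Perm X) : (L.emb x).left r = 1 := rfl

theorem emb_right (x : X) : (L.emb x).right = tr X x := rfl

theorem emb_injective : Function.Injective L.emb :=
  SemidirectProduct.inr_injective.comp tr_injective

/-- The element attached to a partial isomorphism. -/
def Loops.gen (L : Loops X) (j : L.J) : L.W :=
  ⟨fun r => FreeGroup.of ⟨j, (r : Equiv.Perm X ⧸ (L.φ j).range.map (tr X))⟩, L.σ j⟩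

theorem gen_conj (j : L.J) (q : L.Q j) :
    L.gen j * L.emb q = L.emb (L.φ j q) * L.gen j := by
  refine SemidirectProduct.ext (funext fun r => ?_) ?_
  · rw [mul_left_apply, mul_left_apply, emb_left, emb_left, mul_one, one_mul, emb_right]
    exact congrArg (fun k => FreeGroup.of (⟨j, k⟩ : L.Edge))
      (QuotientGroup.eq.2 (by simp [Subgroup.mem_map_of_mem (tr X) (MonoidHom.mem_range.2 ⟨q, rfl⟩ :
        L.φ j q ∈ (L.φ j).range)]))
  · show L.σ j * tr X q = tr X (L.φ j q) * L.σ j
    exact mul_inv_eq_iff_eq_mul.1 (L.conj j q)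

/-- Signed generators. -/
def Loops.T (L : Loops X) (j : L.J) (b : Bool) : L.W := cond b (L.gen j) (L.gen j)⁻¹

theorem T_not (j : L.J) (b : Bool) : L.T j (!b) = (L.T j b)⁻¹ := by
  cases b <;> simp [Loops.T]

/-- The coset shift of a signed generator. -/
def Loops.sh (L : Loops X) (j : L.J) (b : Bool) : Equiv.Perm X := cond b 1 (L.σ j)⁻¹

theorem T_left (j : L.J) (b : Bool) (r : Equiv.Perm X) :
    (L.T j b).left r = FreeGroup.mk [((⟨j, (r * L.sh j b : Equiv.Perm X)⟩ : L.Edge), b)] := by
  cases b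
  · show ((L.gen j).left (r * (L.σ j)⁻¹))⁻¹ = _
    simp only [Loops.gen, Loops.sh, cond_false, FreeGroup.of, FreeGroup.inv_mk, FreeGroup.invRev]
    rfl
  · show (L.gen j).left r = _
    simp only [Loops.gen, Loops.sh, cond_true, mul_one]
    rfl

theorem sh_step (j : L.J) (b : Bool) : (L.T j b).right * L.sh j (!b) = L.sh j b := by
  cases b
  · exact mul_one _
  · exact mul_inv_cancel _

/-- The subgroup moved by a signed generator. -/
def Loops.D (L : Loops X) (j : L.J) (b : Bool) : Subgroup X := cond b (L.φ j).range (L.Q j)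

theorem mem_D_iff (j : L.J) (b : Bool) (y : X) :
    ((tr X y * L.sh j b : Equiv.Perm X) : Equiv.Perm X ⧸ (L.φ j).range.map (tr X)) = (L.sh j b : Equiv.Perm X) ↔
      y ∈ L.D j b := by
  rw [eq_comm, QuotientGroup.eq]
  cases b
  · show (L.σ j)⁻¹⁻¹ * (tr X y * (L.σ j)⁻¹) ∈ _ ↔ y ∈ L.Q j
    rw [inv_inv, ← mul_assoc]
    refine ⟨fun h => ?_, fun h => ?_⟩
    · obtain ⟨z, ⟨q, rfl⟩, hz⟩ := h
      rw [← L.conj j q] at hz
      have := tr_injective (mul_left_cancel (mul_right_cancel hz))
      exact this ▸ q.2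
    · exact ⟨L.φ j ⟨y, h⟩, ⟨⟨y, h⟩, rfl⟩, (L.conj j ⟨y, h⟩).symm⟩
  · show (1 : Equiv.Perm X)⁻¹ * (tr X y * 1) ∈ _ ↔ y ∈ (L.φ j).range
    rw [inv_one, one_mul, mul_one]
    exact Subgroup.mem_map_iff_mem tr_injective

theorem exists_img (j : L.J) (b : Bool) : ∀ y ∈ L.D j b, ∃ z ∈ L.D j (!b),
    (L.T j b)⁻¹ * L.emb y * L.T j b = L.emb z ∧
      cond b (∃ h : z ∈ L.Q j, L.φ j ⟨z, h⟩ = y) (∃ h : y ∈ L.Q j, L.φ j ⟨y, h⟩ = z) := by
  intro y hy
  cases b
  · refine ⟨L.φ j ⟨y, hy⟩, ⟨⟨y, hy⟩, rfl⟩, ?_, hy, rfl⟩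
    show (L.gen j)⁻¹⁻¹ * L.emb y * (L.gen j)⁻¹ = _
    rw [inv_inv, gen_conj j ⟨y, hy⟩, mul_inv_cancel_right]
  · obtain ⟨q, rfl⟩ := hy
    refine ⟨q, q.2, ?_, q.2, rfl⟩
    show (L.gen j)⁻¹ * L.emb _ * L.gen j = _
    rw [mul_assoc, ← gen_conj j q, inv_mul_cancel_left]

/-- The value of a word. -/
def Loops.val (L : Loops X) : List (X × L.J × Bool) → X → L.W
  | [], s => L.emb s
  | (s₀, j, b) :: l, s => L.emb s₀ * L.T j b * L.val l s

/-- The free letters of a word read from a vertex. -/
def Loops.letters (L : Loops X) : List (X × L.J × Bool) → Equiv.Perm X → List (L.Edge × Bool)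
  | [], _ => []
  | (s₀, j, b) :: l, p =>
      (⟨j, (p * tr X s₀ * L.sh j b : Equiv.Perm X)⟩, b) :: L.letters l (p * tr X s₀ * (L.T j b).right)

theorem val_left : ∀ (l : List (X × L.J × Bool)) (s : X) (p : Equiv.Perm X),
    (L.val l s).left p = FreeGroup.mk (L.letters l p)
  | [], _, _ => rfl
  | (s₀, j, b) :: l, s, p => by
    show (L.emb s₀ * L.T j b * L.val l s).left p = _
    rw [mul_left_apply, mul_left_apply, emb_left, one_mul, T_left, SemidirectProduct.mul_right,
      emb_right, val_left l s, ← mul_assoc]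
    exact FreeGroup.mul_mk

/-- Translation of the letters. -/
def Loops.shiftLetter (L : Loops X) (c : Equiv.Perm X) (e : L.Edge × Bool) : L.Edge × Bool :=
  (L.shiftEdge c e.1, e.2)

theorem letters_shift (c : Equiv.Perm X) : ∀ (l : List (X × L.J × Bool)) (p : Equiv.Perm X),
    L.letters l (c * p) = (L.letters l p).map (L.shiftLetter c)
  | [], _ => rfl
  | (s₀, j, b) :: l, p => by
    show _ :: L.letters l _ = _ :: List.map (L.shiftLetter c) (L.letters l _)
    rw [← letters_shift c l, mul_assoc c p, mul_assoc c, mul_assoc c]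
    rfl

theorem shiftLetter_injective (c : Equiv.Perm X) : Function.Injective (L.shiftLetter c) := by
  rintro ⟨⟨j, k⟩, b⟩ ⟨⟨j', k'⟩, b'⟩ h
  obtain ⟨h1, h2⟩ := Prod.ext_iff.1 h
  change b = b' at h2
  subst h2
  change (⟨j, c • k⟩ : L.Edge) = ⟨j', c • k'⟩ at h1
  obtain ⟨rfl, h3⟩ := Sigma.mk.inj_iff.1 h1
  rw [smul_left_cancel c (eq_of_heq h3)]

theorem val_cons_mul (x : X) : ∀ (l : List (X × L.J × Bool)) (s : X),
    ∃ l' s', l'.length = l.length ∧ L.val l' s' = L.emb x * L.val l s
  | [], s => ⟨[], x * s, rfl, map_mul _ _ _⟩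
  | (s₀, j, b) :: l, s => ⟨(x * s₀, j, b) :: l, s, rfl, by
      show L.emb (x * s₀) * L.T j b * L.val l s = L.emb x * (L.emb s₀ * L.T j b * L.val l s)
      rw [map_mul, ← mul_assoc, ← mul_assoc]⟩

theorem shorten : ∀ (l : List (X × L.J × Bool)) (s : X) (p : Equiv.Perm X),
    ¬ IsReduced (L.letters l p) → ∃ l' s', l'.length < l.length ∧ L.val l' s' = L.val l s
  | [], _, _, h => absurd FreeGroup.IsReduced.nil h
  | [(s₀, j, b)], _, _, h => absurd FreeGroup.IsReduced.singleton h
  | (s₀, j, b) :: (s₁, j', b') :: l, s, p, h => by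
    by_cases hr : IsReduced (L.letters ((s₁, j', b') :: l) (p * tr X s₀ * (L.T j b).right))
    · have hne := fun hh => h (FreeGroup.isReduced_cons_cons.2 ⟨hh, hr⟩)
      change ¬ ((⟨j, _⟩ : L.Edge) = ⟨j', _⟩ → b = b') at hne
      push Not at hne
      obtain ⟨he, hb⟩ := hne
      obtain rfl : b' = !b := by cases b <;> cases b' <;> simp at hb ⊢
      obtain ⟨rfl, he'⟩ := Sigma.mk.inj_iff.1 he
      have hs : s₁ ∈ L.D j (!b) := by
        rw [← mem_D_iff]
        refine smul_left_cancel (p * tr X s₀ * (L.T j b).right) ?_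
        show ((p * tr X s₀ * (L.T j b).right * (tr X s₁ * L.sh j (!b)) : Equiv.Perm X) :
            Equiv.Perm X ⧸ (L.φ j).range.map (tr X)) =
          ((p * tr X s₀ * (L.T j b).right * L.sh j (!b) : Equiv.Perm X) : Equiv.Perm X ⧸ _)
        rw [← mul_assoc, mul_assoc (p * tr X s₀) _ (L.sh j (!b)), sh_step]
        exact (eq_of_heq he').symm
      obtain ⟨z, -, hz, -⟩ := exists_img j (!b) s₁ hs
      obtain ⟨l', s', hl', hv⟩ := val_cons_mul (s₀ * z) l s
      refine ⟨l', s', by simp [hl'], ?_⟩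
      rw [hv, map_mul, ← hz, T_not, inv_inv]
      show _ = L.emb s₀ * L.T j b * (L.emb s₁ * L.T j (!b) * L.val l s)
      rw [T_not]
      group
    · obtain ⟨l', s', hl', hv⟩ := shorten ((s₁, j', b') :: l) s _ hr
      refine ⟨(s₀, j, b) :: l', s', by simpa using hl', ?_⟩
      show L.emb s₀ * L.T j b * L.val l' s' = L.emb s₀ * L.T j b * _
      rw [hv]

/-- The group. -/
def Loops.group (L : Loops X) : Subgroup L.W :=
  Subgroup.closure (Set.range L.emb ∪ Set.range L.gen)

theorem emb_mem (x : X) : L.emb x ∈ L.group := Subgroup.subset_closure (Or.inl ⟨x, rfl⟩)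

theorem gen_mem (j : L.J) : L.gen j ∈ L.group := Subgroup.subset_closure (Or.inr ⟨j, rfl⟩)

theorem T_mem (j : L.J) (b : Bool) : L.T j b ∈ L.group := by
  cases b
  exacts [inv_mem (gen_mem j), gen_mem j]

theorem exists_word {g : L.W} (hg : g ∈ L.group) : ∃ l s, L.val l s = g := by
  refine Subgroup.closure_induction_left (p := fun a _ => ∃ l s, L.val l s = a)
    ⟨[], 1, map_one _⟩ ?_ ?_ hg
  · rintro a (⟨x, rfl⟩ | ⟨j, rfl⟩) b - ⟨l, s, rfl⟩
    · obtain ⟨l', s', -, hv⟩ := val_cons_mul x l s
      exact ⟨l', s', hv⟩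
    · exact ⟨(1, j, true) :: l, s, by
        show L.emb 1 * L.gen j * _ = _
        rw [map_one, one_mul]⟩
  · rintro a (⟨x, rfl⟩ | ⟨j, rfl⟩) b - ⟨l, s, rfl⟩
    · obtain ⟨l', s', -, hv⟩ := val_cons_mul x⁻¹ l s
      exact ⟨l', s', hv.trans (by rw [map_inv])⟩
    · exact ⟨(1, j, false) :: l, s, by
        show L.emb 1 * (L.gen j)⁻¹ * _ = _
        rw [map_one, one_mul]⟩

theorem exists_reduced {g : L.W} (hg : g ∈ L.group) :
    ∃ l s, L.val l s = g ∧ ∀ p, IsReduced (L.letters l p) := by
  classical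
  have hex : ∃ k, ∃ l s, l.length = k ∧ L.val l s = g := by
    obtain ⟨l, s, h⟩ := exists_word hg
    exact ⟨_, l, s, rfl, h⟩
  obtain ⟨l, s, hl, hv⟩ := Nat.find_spec hex
  refine ⟨l, s, hv, fun p => ?_⟩
  by_contra hr
  obtain ⟨l', s', hlt, hv'⟩ := shorten l s p hr
  exact Nat.find_min hex (hl ▸ hlt) ⟨l', s', rfl, hv'.trans hv⟩

/-- The free word of an element read from the vertex `1`. -/
noncomputable def Loops.word (L : Loops X) (g : L.W) : List (L.Edge × Bool) :=
  haveI := Classical.decEq L.Edge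
  (g.left 1).toWord

theorem word_eq {l : List (X × L.J × Bool)} {s : X} (h : ∀ p, IsReduced (L.letters l p)) :
    L.word (L.val l s) = L.letters l 1 := by
  classical
  unfold Loops.word
  rw [val_left, FreeGroup.toWord_mk]
  exact (h 1).red_iff_eq.1 FreeGroup.reduce.red

theorem left_eq_shift {g : L.W} (hg : g ∈ L.group) (p : Equiv.Perm X) :
    g.left p = FreeGroup.mk ((L.word g).map (L.shiftLetter p)) ∧
      IsReduced ((L.word g).map (L.shiftLetter p)) := by
  obtain ⟨l, s, rfl, hr⟩ := exists_reduced hg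
  rw [word_eq hr, ← letters_shift, mul_one, val_left]
  exact ⟨rfl, hr p⟩

/-- Elements with empty word lie in `X`. -/
theorem mem_range_of_word {g : L.W} (hg : g ∈ L.group) (h : L.word g = []) : ∃ x, L.emb x = g := by
  obtain ⟨l, s, rfl, hr⟩ := exists_reduced hg
  rw [word_eq hr] at h
  match l, h with
  | [], _ => exact ⟨s, rfl⟩

theorem word_emb (x : X) : L.word (L.emb x) = [] := by
  classical
  unfold Loops.word
  rw [emb_left, FreeGroup.toWord_one]

variable (L) in
/-- The elements fixing a word. -/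
def Loops.stab (l : List (X × L.J × Bool)) : Subgroup X where
  carrier := {y | L.letters l (tr X y) = L.letters l 1}
  one_mem' := by simp
  mul_mem' {a b} ha hb := by
    show L.letters l (tr X (a * b)) = _
    rw [map_mul, letters_shift, show L.letters l (tr X b) = L.letters l 1 from hb, ← letters_shift,
      mul_one]
    exact ha
  inv_mem' {a} ha := by
    show L.letters l (tr X a⁻¹) = _
    conv_rhs => rw [← inv_mul_cancel (tr X a), letters_shift, show L.letters l (tr X a) = L.letters l 1 from ha,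
      ← letters_shift, mul_one]
    rw [map_inv]

theorem stab_cons {s₀ : X} {j : L.J} {b : Bool} {l : List (X × L.J × Bool)} {y : X}
    (hy : y ∈ L.stab ((s₀, j, b) :: l)) :
    s₀⁻¹ * y * s₀ ∈ L.D j b ∧ ∀ z, (L.T j b)⁻¹ * L.emb (s₀⁻¹ * y * s₀) * L.T j b = L.emb z → z ∈ L.stab l := by
  obtain ⟨h1, h2⟩ := List.cons.inj hy
  have e : tr X y * tr X s₀ = tr X s₀ * tr X (s₀⁻¹ * y * s₀) := by
    rw [← map_mul, ← map_mul]; congr 1; group
  refine ⟨?_, fun z hz => ?_⟩
  · rw [← mem_D_iff]
    refine smul_left_cancel (tr X s₀) ?_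
    have h3 := eq_of_heq (Sigma.mk.inj_iff.1 (Prod.ext_iff.1 h1).1).2
    rw [e, one_mul, mul_assoc] at h3
    exact h3
  · have hr : tr X (s₀⁻¹ * y * s₀) * (L.T j b).right = (L.T j b).right * tr X z := by
      have h4 := congrArg SemidirectProduct.right hz
      rw [SemidirectProduct.mul_right, SemidirectProduct.mul_right, SemidirectProduct.inv_right, emb_right,
        emb_right, mul_assoc, inv_mul_eq_iff_eq_mul] at h4
      exact h4
    rw [e, one_mul, mul_assoc, hr, ← mul_assoc, letters_shift] at h2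
    conv_rhs at h2 => rw [← mul_one (tr X s₀ * (L.T j b).right), letters_shift]
    exact List.map_injective_iff.2 (shiftLetter_injective _) h2

/-- An element conjugating into `X` fixes the word. -/
theorem mem_stab {l : List (X × L.J × Bool)} {s x y : X} (hr : ∀ p, IsReduced (L.letters l p))
    (h : L.val l s * L.emb x = L.emb y * L.val l s) : y ∈ L.stab l := by
  classical
  have h1 := congrArg (fun g : L.W => (g.left 1).toWord) h
  simp only [mul_left_apply, emb_left, mul_one, one_mul, emb_right, val_left, FreeGroup.toWord_mk,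
    ((hr _).red_iff_eq).1 FreeGroup.reduce.red] at h1
  exact h1.symm

/-- The composite map along a word. -/
theorem exists_map (M : Subgroup X → (X → X) → Prop)
    (hconj : ∀ (A : Subgroup X) (s : X), M A fun y => s⁻¹ * y * s)
    (hgen : ∀ (j : L.J) (b : Bool) (f : X → X), (∀ y ∈ L.D j b,
      cond b (∃ h : f y ∈ L.Q j, L.φ j ⟨f y, h⟩ = y) (∃ h : y ∈ L.Q j, L.φ j ⟨y, h⟩ = f y)) → M (L.D j b) f)
    (hcomp : ∀ (A B : Subgroup X) (f g : X → X), M A f → M B g → (∀ y ∈ A, f y ∈ B) → M A (g ∘ f)) :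
    ∀ (l : List (X × L.J × Bool)) (s : X), ∃ f, M (L.stab l) f ∧
      ∀ y ∈ L.stab l, (L.val l s)⁻¹ * L.emb y * L.val l s = L.emb (f y)
  | [], s => ⟨_, hconj _ s, fun y _ => by
      show (L.emb s)⁻¹ * L.emb y * L.emb s = L.emb (s⁻¹ * y * s)
      rw [map_mul, map_mul, map_inv]⟩
  | (s₀, j, b) :: l, s => by
    classical
    obtain ⟨f, hf, hfv⟩ := exists_map M hconj hgen hcomp l s
    let k : X → X := fun y => if h : y ∈ L.D j b then (exists_img j b y h).choose else 1
    have hk : ∀ y ∈ L.D j b, (L.T j b)⁻¹ * L.emb y * L.T j b = L.emb (k y) ∧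
        cond b (∃ h : k y ∈ L.Q j, L.φ j ⟨k y, h⟩ = y) (∃ h : y ∈ L.Q j, L.φ j ⟨y, h⟩ = k y) := fun y hy => by
      simp only [k, dif_pos hy]
      exact (exists_img j b y hy).choose_spec.2
    have h1 := hcomp (L.stab ((s₀, j, b) :: l)) (L.D j b) _ k (hconj _ s₀) (hgen j b k fun y hy => (hk y hy).2)
      fun y hy => (stab_cons hy).1
    have hin : ∀ y ∈ L.stab ((s₀, j, b) :: l), k (s₀⁻¹ * y * s₀) ∈ L.stab l := fun y hy =>
      (stab_cons hy).2 _ (hk _ (stab_cons hy).1).1
    refine ⟨_, hcomp _ _ _ f h1 hf hin, fun y hy => ?_⟩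
    show (L.emb s₀ * L.T j b * L.val l s)⁻¹ * L.emb y * (L.emb s₀ * L.T j b * L.val l s) = _
    calc (L.emb s₀ * L.T j b * L.val l s)⁻¹ * L.emb y * (L.emb s₀ * L.T j b * L.val l s)
        = (L.val l s)⁻¹ * ((L.T j b)⁻¹ * ((L.emb s₀)⁻¹ * L.emb y * L.emb s₀) * L.T j b) * L.val l s := by
          group
      _ = _ := by
          rw [← map_inv, ← map_mul, ← map_mul, (hk _ (stab_cons hy).1).1]
          exact hfv _ (hin y hy)

/-- The length of an element. -/
noncomputable def Loops.len (L : Loops X) (g : L.W) : ℕ := (L.word g).length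

theorem len_shift [DecidableEq L.Edge] {g : L.W} (hg : g ∈ L.group) (p : Equiv.Perm X) :
    (g.left p).toWord = (L.word g).map (L.shiftLetter p) := by
  obtain ⟨h1, h2⟩ := left_eq_shift hg p
  rw [h1, FreeGroup.toWord_mk]
  exact h2.red_iff_eq.1 FreeGroup.reduce.red

theorem word_def [DecidableEq L.Edge] (g : L.W) : L.word g = (g.left 1).toWord := by
  unfold Loops.word
  congr!

theorem len_eq [DecidableEq L.Edge] {g : L.W} (hg : g ∈ L.group) (p : Equiv.Perm X) :
    L.len g = (g.left p).toWord.length := by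
  rw [len_shift hg p, List.length_map]
  rfl

theorem eq_nil_of_inv {g : L.W} (hg : g ∈ L.group) (h : L.word g⁻¹ = []) : L.word g = [] := by
  obtain ⟨x, hx⟩ := mem_range_of_word (inv_mem hg) h
  rw [← inv_inv g, ← hx, ← map_inv]
  exact word_emb _

/-- One step of the descent for finite subgroups. -/
theorem descent {H : Subgroup L.W} (hH : H ≤ L.group) {M : ℕ} (hM : ∀ h ∈ H, L.len h ≤ M + 1)
    {h : L.W} (hh : h ∈ H) (hl : L.len h = M + 1) :
    ∃ c ∈ L.group, ∀ h' ∈ H, L.len (c⁻¹ * h' * c) ≤ M := by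
  classical
  obtain ⟨l, s, hv, hr⟩ := exists_reduced (hH hh)
  match l, hv, hr with
  | [], hv, _ =>
    change L.emb s = h at hv
    rw [← hv, Loops.len, word_emb] at hl
    simp at hl
  | (s₀, j, b) :: l, hv, hr =>
  have hw := word_eq (s := s) hr
  rw [hv] at hw
  set fst : L.Edge × Bool := (⟨j, ((1 : Equiv.Perm X) * tr X s₀ * L.sh j b : Equiv.Perm X)⟩, b) with hfst
  obtain ⟨w0, hw0⟩ : ∃ w0, L.word h = fst :: w0 := ⟨_, hw⟩
  have hsame : ∀ h' ∈ H, L.word h' ≠ [] → (L.word h').head? = some fst := by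
    intro h' hh' hne
    match hh0 : L.word h', hne with
    | e :: w1, _ =>
    simp only [List.head?_cons, Option.some.injEq]
    by_contra hef
    have h1 : L.len (h⁻¹ * h') = (((h.left 1)⁻¹ * h'.left 1)).toWord.length := by
      rw [len_eq (mul_mem (inv_mem (hH hh)) (hH hh')) h.right, mul_left_apply, inv_left_apply,
        SemidirectProduct.inv_right, mul_inv_cancel]
    have hred : IsReduced (FreeGroup.invRev (L.word h) ++ L.word h') := by
      have r1 : IsReduced (FreeGroup.invRev (L.word h)) := by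
        rw [word_def, ← FreeGroup.toWord_inv]; exact FreeGroup.isReduced_toWord
      have r2 : IsReduced (L.word h') := by rw [word_def]; exact FreeGroup.isReduced_toWord
      refine List.isChain_append.2 ⟨r1, r2, fun x hx y hy => ?_⟩
      rw [hh0, List.head?_cons, Option.mem_some] at hy
      rw [hw0, FreeGroup.invRev_cons, Option.mem_def] at hx
      simp [FreeGroup.invRev] at hx
      subst hx hy
      intro he
      by_contra hb
      refine hef (Prod.ext he.symm ?_)
      change ¬ (!fst.2) = e.2 at hb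
      revert hb
      cases fst.2 <;> cases e.2 <;> simp
    have h2 : ((h.left 1)⁻¹ * h'.left 1).toWord = FreeGroup.invRev (L.word h) ++ L.word h' := by
      conv_lhs =>
        rw [← FreeGroup.mk_toWord (x := h.left 1), ← FreeGroup.mk_toWord (x := h'.left 1), FreeGroup.inv_mk,
          FreeGroup.mul_mk, FreeGroup.toWord_mk, ← word_def, ← word_def]
      exact hred.red_iff_eq.1 FreeGroup.reduce.red
    have h3 := hM _ (mul_mem (inv_mem hh) hh')
    rw [h1, h2, List.length_append, FreeGroup.invRev_length, hh0, List.length_cons] at h3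
    change (L.word h).length = M + 1 at hl
    omega
  refine ⟨L.emb s₀ * L.T j b, mul_mem (emb_mem _) (T_mem _ _), fun h' hh' => ?_⟩
  set c := L.emb s₀ * L.T j b with hc
  have hcl : ∀ p, c.left p = FreeGroup.mk [L.shiftLetter p fst] := fun p => by
    rw [hc, mul_left_apply, emb_left, one_mul, emb_right, T_left]
    refine congrArg (fun k => FreeGroup.mk [((⟨j, k⟩ : L.Edge), b)]) ?_
    show ((p * tr X s₀ * L.sh j b : Equiv.Perm X) : Equiv.Perm X ⧸ (L.φ j).range.map (tr X)) =
      ((p * (1 * tr X s₀ * L.sh j b) : Equiv.Perm X) : Equiv.Perm X ⧸ _)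
    rw [one_mul, mul_assoc]
  rcases eq_or_ne (L.word h') [] with h0 | hne
  · obtain ⟨z, rfl⟩ := mem_range_of_word (hH hh') h0
    have h1 : L.word (L.emb z * h) = (L.word h).map (L.shiftLetter (tr X z)) := by
      rw [word_def, mul_left_apply, emb_left, one_mul, one_mul, emb_right, len_shift (hH hh)]
    have h2 := hsame _ (mul_mem hh' hh) (by rw [h1, hw0]; simp)
    rw [h1, hw0, List.map_cons, List.head?_cons, Option.some.injEq] at h2
    have hz : s₀⁻¹ * z * s₀ ∈ L.D j b := by
      rw [← mem_D_iff]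
      refine smul_left_cancel (tr X s₀) ?_
      have h3 := eq_of_heq (Sigma.mk.inj_iff.1 (Prod.ext_iff.1 h2).1).2
      change ((tr X z * (1 * tr X s₀ * L.sh j b) : Equiv.Perm X) : Equiv.Perm X ⧸ (L.φ j).range.map (tr X)) =
        ((1 * tr X s₀ * L.sh j b : Equiv.Perm X) : Equiv.Perm X ⧸ _) at h3
      show ((tr X s₀ * (tr X (s₀⁻¹ * z * s₀) * L.sh j b) : Equiv.Perm X) : Equiv.Perm X ⧸ (L.φ j).range.map (tr X))
        = ((tr X s₀ * L.sh j b : Equiv.Perm X) : Equiv.Perm X ⧸ _)
      rw [one_mul, ← mul_assoc] at h3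
      rw [← mul_assoc, ← map_mul, show s₀ * (s₀⁻¹ * z * s₀) = z * s₀ by group, map_mul]
      exact h3
    obtain ⟨y, -, hy, -⟩ := exists_img j b _ hz
    have : c⁻¹ * L.emb z * c = L.emb y := by
      rw [← hy, hc, map_mul, map_mul, map_inv]; group
    rw [this, Loops.len, word_emb]
    simp
  · have hlen : L.len h' ≤ M + 1 := hM h' hh'
    have e1 := hsame h' hh' hne
    have e2 := hsame h'⁻¹ (inv_mem hh') fun h0 => hne (eq_nil_of_inv (hH hh') h0)
    set w := L.word h' with hwd
    have h3 : FreeGroup.invRev w = (L.word h'⁻¹).map (L.shiftLetter h'.right) := by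
      rw [← len_shift (inv_mem (hH hh')), inv_left_apply, mul_inv_cancel, hwd, word_def,
        FreeGroup.toWord_inv]
    obtain ⟨r, hr'⟩ := List.head?_eq_some_iff.1 e2
    rw [hr', List.map_cons] at h3
    have h4 : w = FreeGroup.invRev (r.map (L.shiftLetter h'.right)) ++
        [((L.shiftLetter h'.right fst).1, !(L.shiftLetter h'.right fst).2)] := by
      rw [← FreeGroup.invRev_invRev (L₁ := w), h3, FreeGroup.invRev_cons]
      rfl
    obtain ⟨w1, hw1⟩ := List.head?_eq_some_iff.1 e1
    match hmid : FreeGroup.invRev (r.map (L.shiftLetter h'.right)), h4 with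
    | [], h4 =>
      rw [hw1, List.nil_append] at h4
      exfalso
      have h5 := congrArg Prod.snd (List.cons.inj h4).1
      change fst.2 = !fst.2 at h5
      revert h5
      cases fst.2 <;> simp
    | e :: mid, h4 =>
      rw [hw1, List.cons_append] at h4
      obtain ⟨rfl, -⟩ := List.cons.inj h4
      have hlw : L.len h' = mid.length + 2 := by
        rw [Loops.len, ← hwd, hw1, h4]
        simp
      have h5 : L.len (c⁻¹ * h' * c) = ((c.left 1)⁻¹ * h'.left 1 * c.left h'.right).toWord.length := by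
        have hcG : c ∈ L.group := mul_mem (emb_mem _) (T_mem _ _)
        rw [len_eq (mul_mem (mul_mem (inv_mem hcG) (hH hh')) hcG) c.right, mul_left_apply, mul_left_apply,
          inv_left_apply]
        simp only [SemidirectProduct.mul_right, SemidirectProduct.inv_right, mul_inv_cancel,
          mul_inv_cancel_left]
      rw [h5]
      have h6 : (c.left 1)⁻¹ * h'.left 1 * c.left h'.right = FreeGroup.mk mid := by
        have e3 : L.shiftLetter 1 fst = fst :=
          Prod.ext (congrArg (Sigma.mk j) (one_smul _ _)) rfl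
        have e4 : ∀ last : L.Edge × Bool, FreeGroup.mk (fst :: (mid ++ [last])) =
            FreeGroup.mk [fst] * FreeGroup.mk mid * FreeGroup.mk [last] := fun last => by
          rw [FreeGroup.mul_mk, FreeGroup.mul_mk]; rfl
        have e5 : FreeGroup.mk [((L.shiftLetter h'.right fst).1, !(L.shiftLetter h'.right fst).2)] =
            (FreeGroup.mk [L.shiftLetter h'.right fst])⁻¹ := by rw [FreeGroup.inv_mk]; rfl
        rw [hcl, hcl, e3, ← FreeGroup.mk_toWord (x := h'.left 1), ← word_def, ← hwd, hw1,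
          (List.cons.inj h4).2, e4, e5]
        group
      rw [h6, FreeGroup.toWord_mk]
      have h7 : (FreeGroup.reduce mid).length ≤ mid.length := FreeGroup.reduce.red.length_le
      omega

theorem conj_into (H : Subgroup L.W) [Finite H] (hH : H ≤ L.group) :
    ∃ g ∈ L.group, ∀ h ∈ H, g * h * g⁻¹ ∈ L.emb.range := by
  classical
  suffices key : ∀ M (H : Subgroup L.W), Finite H → H ≤ L.group → (∀ h ∈ H, L.len h ≤ M) →
      ∃ g ∈ L.group, ∀ h ∈ H, g * h * g⁻¹ ∈ L.emb.range by
    haveI := Fintype.ofFinite H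
    exact key (Finset.univ.sup fun h : H => L.len h) H inferInstance hH fun h hh =>
      Finset.le_sup (f := fun h : H => L.len h) (Finset.mem_univ ⟨h, hh⟩)
  intro M
  induction M with
  | zero =>
    intro H _ hH hlen
    refine ⟨1, one_mem _, fun h hh => ?_⟩
    obtain ⟨x, hx⟩ := mem_range_of_word (hH hh) (List.length_eq_zero_iff.1 (Nat.le_zero.1 (hlen h hh)))
    exact ⟨x, by simpa using hx⟩
  | succ M ih =>
    intro H hfin hH hlen
    by_cases hall : ∀ h ∈ H, L.len h ≤ M
    · exact ih H hfin hH hall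
    push Not at hall
    obtain ⟨h, hh, hl⟩ := hall
    obtain ⟨c, hc, hcl⟩ := descent hH hlen hh (le_antisymm (hlen h hh) hl)
    haveI := hfin
    obtain ⟨g, hg, hgl⟩ := ih (H.map (MulAut.conj c⁻¹).toMonoidHom)
      (Set.Finite.to_subtype ((Set.toFinite (H : Set L.W)).image _))
      (by rintro _ ⟨k, hk, rfl⟩; exact L.group.mul_mem (L.group.mul_mem (inv_mem hc) (hH hk)) (by simpa using hc))
      (by rintro _ ⟨k, hk, rfl⟩; simpa using hcl k hk)
    refine ⟨g * c⁻¹, mul_mem hg (inv_mem hc), fun k hk => ?_⟩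
    have := hgl _ (Subgroup.mem_map_of_mem _ hk)
    simpa [mul_assoc] using this

/-- The kernel of the permutation representation. -/
def Loops.core (L : Loops X) : Subgroup L.group :=
  (SemidirectProduct.rightHom.comp L.group.subtype).ker

theorem core_free : IsFreeGroup L.core := by
  let ψ : L.core →* FreeGroup L.Edge := MonoidHom.mk' (fun g => ((g : L.group) : L.W).left 1) fun a b => by
    have ha : ((a : L.group) : L.W).right = 1 := a.2
    show (((a : L.group) : L.W) * ((b : L.group) : L.W)).left 1 = _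
    rw [mul_left_apply, ha, one_mul]
  have hψ : Function.Injective ψ := by
    rw [injective_iff_map_eq_one]
    intro a ha
    classical
    obtain ⟨x, hx⟩ := mem_range_of_word (g := ((a : L.group) : L.W)) (a : L.group).2
      (by rw [word_def, show ((a : L.group) : L.W).left 1 = 1 from ha, FreeGroup.toWord_one])
    have h1 : tr X x = 1 := by
      rw [← emb_right (L := L), hx]; exact a.2
    rw [← map_one (tr X)] at h1
    refine Subtype.ext (Subtype.ext ?_)
    rw [← hx, tr_injective h1, map_one]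
    rfl
  exact IsFreeGroup.ofMulEquiv (MonoidHom.ofInjective hψ).symm

theorem core_index : L.core.index ∣ (Nat.card X).factorial := by
  rw [Loops.core, Subgroup.index_ker]
  haveI := Fintype.ofFinite X
  classical
  exact (Subgroup.card_subgroup_dvd_card _).trans
    (by rw [Nat.card_eq_fintype_card, Fintype.card_perm, Nat.card_eq_fintype_card])

end Cfsg.Agent.FusSys.LoopModel
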