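import Mathlib.GroupTheory.GroupAction.Quotient
import Mathlib.Algebra.Group.Action.Sigma
import Mathlib.Algebra.Group.Action.Sum
import Mathlib.GroupTheory.Index
import Mathlib.GroupTheory.Coset.Card
import Mathlib.GroupTheory.GroupAction.SubMulAction
import Mathlib.Algebra.BigOperators.Fin
import Mathlib.Tactic

/-!
Marks of finite group actions: Burnside congruences, coset spaces, and the fact that marks
determine a finite action up to isomorphism.
-/

set_option autoImplicit false

namespace Cfsg.Agent.FusSys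

open MulAction

variable {G : Type*} [Group G]

/-- The number of points fixed by `H`. -/
noncomputable def mark (X : Type*) [MulAction G X] (H : Subgroup G) : ℕ :=
  Nat.card {x : X // ∀ h ∈ H, h • x = x}

theorem mark_congr {X Y : Type*} [MulAction G X] [MulAction G Y] (e : X ≃ Y)
    (he : ∀ (g : G) (x : X), e (g • x) = g • e x) (H : Subgroup G) : mark X H = mark Y H :=
  Nat.card_congr (e.subtypeEquiv fun x => forall₂_congr fun h _ => by
    rw [← he, e.apply_eq_iff_eq])

theorem mark_conj (X : Type*) [MulAction G X] (g : G) (H : Subgroup G) :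
    mark X (H.map (MulAut.conj g).toMonoidHom) = mark X H := by
  refine Nat.card_congr ((MulAction.toPerm g⁻¹).subtypeEquiv fun x => ⟨fun h k hk => ?_, fun h => ?_⟩)
  · have := h _ (Subgroup.mem_map_of_mem _ hk)
    rw [MulEquiv.coe_toMonoidHom, MulAut.conj_apply, mul_smul, mul_smul] at this
    show k • g⁻¹ • x = g⁻¹ • x
    exact eq_inv_smul_iff.2 this
  · rintro _ ⟨k, hk, rfl⟩
    rw [MulEquiv.coe_toMonoidHom, MulAut.conj_apply, mul_smul, mul_smul]
    have := h k hk
    change k • g⁻¹ • x = g⁻¹ • x at this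
    rw [this, smul_inv_smul]

theorem mark_sup_zpowers (X : Type*) [MulAction G X] (P : Subgroup G) (g : G) :
    mark X (P ⊔ Subgroup.zpowers g) = Nat.card {x : X // (∀ h ∈ P, h • x = x) ∧ g • x = x} := by
  refine Nat.card_congr ((Equiv.refl X).subtypeEquiv fun x => ⟨fun h => ?_, fun h => ?_⟩)
  · exact ⟨fun k hk => h k (Subgroup.mem_sup_left hk),
      h g (Subgroup.mem_sup_right (Subgroup.mem_zpowers g))⟩
  · intro k hk
    have hle : P ⊔ Subgroup.zpowers g ≤ MulAction.stabilizer G x :=
      sup_le h.1 (Subgroup.zpowers_le.2 h.2)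
    exact hle hk

/-- Burnside congruence. -/
theorem card_dvd_sum_mark (X : Type*) [MulAction G X] [Finite X] (N P : Subgroup G) [Fintype N]
    (hP : ∀ n ∈ N, ∀ h ∈ P, n⁻¹ * h * n ∈ P) :
    Nat.card N ∣ ∑ g : N, mark X (P ⊔ Subgroup.zpowers (g : G)) := by
  classical
  let Y : SubMulAction N X :=
    { carrier := {x | ∀ h ∈ P, h • x = x}
      smul_mem' := fun n x hx h hh => by
        show h • (n : G) • x = (n : G) • x
        have e : h * (n : G) = (n : G) * ((n : G)⁻¹ * h * (n : G)) := by group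
        rw [← mul_smul, e, mul_smul, hx _ (hP n n.2 h hh)] }
  haveI := Fintype.ofFinite Y
  haveI : Fintype (Quotient (MulAction.orbitRel N Y)) := Fintype.ofFinite _
  have h := sum_card_fixedBy_eq_card_orbits_mul_card_group N Y
  have e : ∀ g : N, mark X (P ⊔ Subgroup.zpowers (g : G)) = Fintype.card (fixedBy Y g) := by
    intro g
    rw [mark_sup_zpowers, ← Nat.card_eq_fintype_card]
    exact Nat.card_congr
      { toFun := fun x => ⟨⟨x.1, x.2.1⟩, Subtype.ext x.2.2⟩
        invFun := fun y => ⟨y.1.1, y.1.2, congrArg Subtype.val y.2⟩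
        left_inv := fun _ => rfl
        right_inv := fun _ => rfl }
  rw [Finset.sum_congr rfl fun g _ => e g, h, Nat.card_eq_fintype_card]
  exact dvd_mul_left _ _

theorem mark_quot_ne_zero {Q H : Subgroup G} (h : mark (G ⧸ Q) H ≠ 0) :
    ∃ g : G, ∀ k ∈ H, g⁻¹ * k * g ∈ Q := by
  obtain ⟨⟨⟨x, hx⟩⟩, -⟩ := Nat.card_ne_zero.1 h
  obtain ⟨g, rfl⟩ := QuotientGroup.mk_surjective x
  refine ⟨g, fun k hk => ?_⟩
  have := hx k hk
  rw [MulAction.Quotient.smul_mk, QuotientGroup.eq, smul_eq_mul, mul_inv_rev] at this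
  have h2 := Q.inv_mem this
  rwa [mul_inv_rev, mul_inv_rev, inv_inv, inv_inv, ← mul_assoc] at h2

theorem mark_quot_self [Finite G] (Q : Subgroup G) :
    mark (G ⧸ Q) Q = Q.relIndex (Subgroup.normalizer (Q : Set G)) := by
  have hfix : ∀ g : G, (∀ k ∈ Q, k • ((g : G) : G ⧸ Q) = (g : G ⧸ Q)) ↔
      g ∈ Subgroup.normalizer (Q : Set G) := by
    intro g
    have e : ∀ k, k • ((g : G) : G ⧸ Q) = (g : G ⧸ Q) ↔ g⁻¹ * k * g ∈ Q := by
      intro k
      rw [MulAction.Quotient.smul_mk, QuotientGroup.eq, smul_eq_mul, ← inv_mem_iff]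
      have e2 : ((k * g)⁻¹ * g)⁻¹ = g⁻¹ * k * g := by group
      rw [e2]
    simp only [e]
    refine ⟨fun h => Subgroup.mem_normalizer_iff''.2 fun k => ⟨h k, fun hk => ?_⟩,
      fun h k hk => (Subgroup.mem_normalizer_iff''.1 h k).1 hk⟩
    obtain ⟨⟨a, ha⟩, hak⟩ := (Finite.injective_iff_surjective
      (f := fun y : Q => (⟨g⁻¹ * y * g, h y y.2⟩ : Q))).1 (fun a b hab => Subtype.ext <|
        mul_left_cancel (mul_right_cancel (congrArg Subtype.val hab))) ⟨_, hk⟩
    have : a = k := mul_left_cancel (mul_right_cancel (congrArg Subtype.val hak))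
    exact this ▸ ha
  rw [Subgroup.relIndex, Subgroup.index, mark]
  refine (Nat.card_congr (Equiv.ofBijective (fun q => (⟨Quotient.liftOn' q
      (fun n : Subgroup.normalizer (Q : Set G) => ((n : G) : G ⧸ Q)) fun a b hab =>
        QuotientGroup.eq.2 (Subgroup.mem_subgroupOf.1 ((QuotientGroup.leftRel_apply (s := Q.subgroupOf _)).1 hab)), ?_⟩ :
      {x : G ⧸ Q // ∀ h ∈ Q, h • x = x})) ⟨?_, ?_⟩)).symm
  · induction q using QuotientGroup.induction_on with
    | H n => exact (hfix n).2 n.2
  · intro a b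
    induction a using QuotientGroup.induction_on with
    | H a =>
      induction b using QuotientGroup.induction_on with
      | H b =>
        intro hab
        exact QuotientGroup.eq.2 (Subgroup.mem_subgroupOf.2 (QuotientGroup.eq.1
          (congrArg Subtype.val hab : ((a : G) : G ⧸ Q) = (b : G))))
  · rintro ⟨x, hx⟩
    induction x using QuotientGroup.induction_on with
    | H g => exact ⟨((⟨g, (hfix g).1 hx⟩ : Subgroup.normalizer (Q : Set G)) :
        Subgroup.normalizer (Q : Set G) ⧸ Q.subgroupOf _), rfl⟩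

/-! ### Lists of coset spaces -/

/-- The marks of a list of coset spaces. -/
noncomputable def markL (L : List (Subgroup G)) (H : Subgroup G) : ℕ :=
  (L.map fun Q => mark (G ⧸ Q) H).sum

theorem markL_append (L M : List (Subgroup G)) (H : Subgroup G) :
    markL (L ++ M) H = markL L H + markL M H := by
  simp [markL]

theorem markL_replicate (n : ℕ) (Q H : Subgroup G) :
    markL (List.replicate n Q) H = n * mark (G ⧸ Q) H := by
  simp [markL]

/-- The disjoint union of the coset spaces of a list. -/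
abbrev LSet (L : List (Subgroup G)) : Type _ := Σ i : Fin L.length, G ⧸ L.get i

theorem mark_lset [Finite G] (L : List (Subgroup G)) (H : Subgroup G) :
    mark (LSet L) H = markL L H := by
  rw [mark, Nat.card_congr (β := Σ i : Fin L.length,
    {x : G ⧸ L.get i // ∀ h ∈ H, h • x = x})
    { toFun := fun x => ⟨x.1.1, x.1.2, fun h hh => by
        obtain ⟨⟨i, y⟩, hx⟩ := x
        have := hx h hh
        rw [Sigma.smul_mk] at this
        exact eq_of_heq (Sigma.mk.inj this).2⟩
      invFun := fun x => ⟨⟨x.1, x.2.1⟩, fun h hh => by rw [Sigma.smul_mk, x.2.2 h hh]⟩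
      left_inv := fun _ => rfl
      right_inv := fun _ => rfl }, Nat.card_sigma, markL,
    ← Fin.sum_univ_fun_getElem L (fun Q => mark (G ⧸ Q) H)]
  rfl

theorem lset_stabilizer {L : List (Subgroup G)} (x : LSet L) :
    ∃ Q ∈ L, ∃ g : G, ∀ a : G, a • x = x ↔ g⁻¹ * a * g ∈ Q := by
  obtain ⟨i, y⟩ := x
  obtain ⟨g, rfl⟩ := QuotientGroup.mk_surjective y
  refine ⟨L.get i, List.get_mem _ _, g, fun a => ?_⟩
  rw [Sigma.smul_mk, ← inv_mem_iff]
  have e2 : (g⁻¹ * a * g)⁻¹ = (a * g)⁻¹ * g := by group
  rw [e2, ← QuotientGroup.eq]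
  exact ⟨fun h => eq_of_heq (Sigma.mk.inj h).2, fun h => by
    rw [MulAction.Quotient.smul_mk, smul_eq_mul, h]⟩

/-! ### Marks determine the action -/

theorem mark_bot (X : Type*) [MulAction G X] : mark X (⊥ : Subgroup G) = Nat.card X :=
  Nat.card_congr (Equiv.subtypeUnivEquiv fun z k hk => by rw [Subgroup.mem_bot.1 hk, one_smul])

theorem exists_fixed {X : Type*} [MulAction G X] {H : Subgroup G} (hH : mark X H ≠ 0) :
    ∃ w : X, H ≤ stabilizer G w := by
  obtain ⟨⟨⟨w, hw⟩⟩, -⟩ := Nat.card_ne_zero.1 hH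
  exact ⟨w, hw⟩

theorem mark_stabilizer_ne_zero {X : Type*} [MulAction G X] [Finite X] (w : X) :
    mark X (stabilizer G w) ≠ 0 :=
  Nat.card_ne_zero.2 ⟨⟨⟨w, fun _ hk => hk⟩⟩, inferInstance⟩

/-- The action on an invariant subset. -/
def invSub {X : Type*} [MulAction G X] (s : Set X) (hs : ∀ (g : G), ∀ x ∈ s, g • x ∈ s) :
    SubMulAction G X where
  carrier := s
  smul_mem' g _ hx := hs g _ hx

theorem compl_orbit_mem {X : Type*} [MulAction G X] (x : X) (g : G) {y : X}
    (hy : y ∈ (orbit G x)ᶜ) : g • y ∈ (orbit G x)ᶜ := fun ⟨k, hk⟩ =>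
  hy ⟨g⁻¹ * k, by show (g⁻¹ * k) • x = y; rw [mul_smul, show k • x = g • y from hk, inv_smul_smul]⟩

theorem mark_compl_add {X : Type*} [MulAction G X] [Finite X] (x : X) (H : Subgroup G) :
    mark (invSub (orbit G x)ᶜ (fun g _ hy => compl_orbit_mem x g hy)) H +
      mark (G ⧸ stabilizer G x) H = mark X H := by
  classical
  have e1 : mark (invSub (orbit G x)ᶜ (fun g _ hy => compl_orbit_mem x g hy)) H =
      Nat.card {y : {y : X // ∀ h ∈ H, h • y = y} // (y : X) ∉ orbit G x} := by
    refine Nat.card_congr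
      { toFun := fun y => ⟨⟨y.1.1, fun h hh => congrArg Subtype.val (y.2 h hh)⟩, y.1.2⟩
        invFun := fun y => ⟨⟨y.1.1, y.2⟩, fun h hh => Subtype.ext (y.1.2 h hh)⟩
        left_inv := fun _ => rfl
        right_inv := fun _ => rfl }
  have e2 : mark (G ⧸ stabilizer G x) H =
      Nat.card {y : {y : X // ∀ h ∈ H, h • y = y} // (y : X) ∈ orbit G x} := by
    rw [mark_congr (X := G ⧸ stabilizer G x) (Y := orbit G x) (orbitEquivQuotientStabilizer G x).symm
      (fun g q => ?_) H]
    · exact Nat.card_congr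
        { toFun := fun y => ⟨⟨y.1.1, fun h hh => congrArg Subtype.val (y.2 h hh)⟩, y.1.2⟩
          invFun := fun y => ⟨⟨y.1.1, y.2⟩, fun h hh => Subtype.ext (y.1.2 h hh)⟩
          left_inv := fun _ => rfl
          right_inv := fun _ => rfl }
    · induction q using QuotientGroup.induction_on with
      | H k =>
        refine Subtype.ext ?_
        rw [MulAction.Quotient.smul_mk, orbitEquivQuotientStabilizer_symm_apply,
          orbit.coe_smul, orbitEquivQuotientStabilizer_symm_apply, smul_eq_mul, mul_smul]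
  rw [e1, e2, add_comm, ← Nat.card_sum]
  exact Nat.card_congr (Equiv.sumCompl _)

theorem exists_iso_of_marks [Finite G] {X : Type*} [MulAction G X] [Finite X] :
    ∀ (n : ℕ) {Y : Type _} [MulAction G Y] [Finite Y], Nat.card X ≤ n →
      (∀ H : Subgroup G, mark X H = mark Y H) →
        ∃ e : X ≃ Y, ∀ (g : G) (x : X), e (g • x) = g • e x := by
  intro n
  induction n generalizing X with
  | zero =>
    intro Y _ _ hX h
    have hX0 : Nat.card X = 0 := Nat.le_zero.1 hX
    have hY0 : Nat.card Y = 0 := by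
      rw [← mark_bot (G := G) Y, ← h ⊥, mark_bot (G := G) X, hX0]
    haveI : IsEmpty X := Finite.card_eq_zero_iff.1 hX0
    haveI : IsEmpty Y := Finite.card_eq_zero_iff.1 hY0
    exact ⟨Equiv.equivOfIsEmpty X Y, fun g x => isEmptyElim x⟩
  | succ n ih =>
    intro Y _ _ hX h
    classical
    rcases isEmpty_or_nonempty X with hE | hNE
    · exact ih (by simp) h
    haveI := Fintype.ofFinite X
    haveI := Fintype.ofFinite Y
    obtain ⟨z, -, hz⟩ := Finset.exists_max_image (Finset.univ : Finset (X ⊕ Y))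
      (fun z => Nat.card (stabilizer G z)) ⟨Sum.inl (Classical.arbitrary X), Finset.mem_univ _⟩
    have hmax : ∀ w : X ⊕ Y, Nat.card (stabilizer G w) ≤ Nat.card (stabilizer G z) :=
      fun w => hz w (Finset.mem_univ w)
    have hsX : ∀ w : X, stabilizer G (Sum.inl w : X ⊕ Y) = stabilizer G w := fun w =>
      Subgroup.ext fun g => by simp [mem_stabilizer_iff]
    have hsY : ∀ w : Y, stabilizer G (Sum.inr w : X ⊕ Y) = stabilizer G w := fun w =>
      Subgroup.ext fun g => by simp [mem_stabilizer_iff]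
    obtain ⟨x, y, hxy⟩ : ∃ (x : X) (y : Y), stabilizer G x = stabilizer G y := by
      rcases z with x | y
      · obtain ⟨y, hy⟩ := exists_fixed (X := Y) (h (stabilizer G x) ▸ mark_stabilizer_ne_zero x)
        refine ⟨x, y, Subgroup.eq_of_le_of_card_ge hy ?_⟩
        rw [← hsX x, ← hsY y]
        exact hmax _
      · obtain ⟨x, hx⟩ := exists_fixed (X := X) ((h (stabilizer G y)).symm ▸ mark_stabilizer_ne_zero y)
        refine ⟨x, y, (Subgroup.eq_of_le_of_card_ge hx ?_).symm⟩
        rw [← hsX x, ← hsY y]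
        exact hmax _
    have hrest : ∀ H : Subgroup G,
        mark (invSub (orbit G x)ᶜ (fun g _ hy => compl_orbit_mem x g hy)) H =
          mark (invSub (orbit G y)ᶜ (fun g _ hy => compl_orbit_mem y g hy)) H := by
      intro H
      have h1 := mark_compl_add x H
      have h2 := mark_compl_add y H
      rw [hxy] at h1
      have := h H
      omega
    have hcard : Nat.card (invSub (orbit G x)ᶜ (fun g _ hy => compl_orbit_mem x g hy)) ≤ n := by
      have : Nat.card {w : X // w ∉ orbit G x} < Nat.card X :=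
        Finite.card_subtype_lt (x := x) (not_not.2 (mem_orbit_self x))
      have e : Nat.card (invSub (orbit G x)ᶜ (fun g _ hy => compl_orbit_mem x g hy)) =
          Nat.card {w : X // w ∉ orbit G x} := rfl
      omega
    obtain ⟨e, he⟩ := ih hcard hrest
    let eo : orbit G x ≃ orbit G y := (orbitEquivQuotientStabilizer G x).trans
      ((Subgroup.quotientEquivOfEq hxy).trans (orbitEquivQuotientStabilizer G y).symm)
    have heo : ∀ (g : G) (w : orbit G x), (eo (g • w) : Y) = g • (eo w : Y) := by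
      intro g w
      obtain ⟨q, rfl⟩ := (orbitEquivQuotientStabilizer G x).symm.surjective w
      induction q using QuotientGroup.induction_on with
      | H k =>
        have h1 : g • (orbitEquivQuotientStabilizer G x).symm (k : G ⧸ stabilizer G x) =
            (orbitEquivQuotientStabilizer G x).symm ((g * k : G) : G ⧸ stabilizer G x) := by
          refine Subtype.ext ?_
          rw [orbit.coe_smul, orbitEquivQuotientStabilizer_symm_apply,
            orbitEquivQuotientStabilizer_symm_apply, mul_smul]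
        rw [h1]
        simp only [eo, Equiv.trans_apply, Equiv.apply_symm_apply]
        show ((orbitEquivQuotientStabilizer G y).symm ((g * k : G) : G ⧸ stabilizer G y) : Y) =
          g • ((orbitEquivQuotientStabilizer G y).symm ((k : G) : G ⧸ stabilizer G y) : Y)
        rw [orbitEquivQuotientStabilizer_symm_apply, orbitEquivQuotientStabilizer_symm_apply,
          mul_smul]
    refine ⟨(Equiv.sumCompl (· ∈ orbit G x)).symm.trans
      ((eo.sumCongr e).trans (Equiv.sumCompl (· ∈ orbit G y))), fun g w => ?_⟩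
    show Equiv.sumCompl (· ∈ orbit G y) (eo.sumCongr e ((Equiv.sumCompl (· ∈ orbit G x)).symm (g • w))) =
      g • Equiv.sumCompl (· ∈ orbit G y) (eo.sumCongr e ((Equiv.sumCompl (· ∈ orbit G x)).symm w))
    by_cases hw : w ∈ orbit G x
    · have hgw : g • w ∈ orbit G x := mem_orbit_of_mem_orbit g hw
      rw [Equiv.sumCompl_symm_apply_of_pos hw, Equiv.sumCompl_symm_apply_of_pos hgw]
      exact heo g ⟨w, hw⟩
    · have hgw : g • w ∉ orbit G x := compl_orbit_mem x g hw
      rw [Equiv.sumCompl_symm_apply_of_neg hw, Equiv.sumCompl_symm_apply_of_neg hgw]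
      exact congrArg Subtype.val (he g ⟨w, hw⟩)

end Cfsg.Agent.FusSys
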