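import Cfsg.Agent.Metacyclic.Coprime
import Cfsg.Agent.FGS.AutFrattini
import Cfsg.Agent.Fusion.Critical

/-!
Automorphisms of an elementary group of order at most `p²`, and facts on metacyclic `p`-groups
(`p` odd): few elements of order `p`, and automorphisms inverting the Frattini quotient.
-/

set_option autoImplicit false

namespace Cfsg.Agent.FusSys.MetaAux

open Subgroup
open scoped commutatorElement

universe u

variable {p : ℕ} [Fact p.Prime]

/-! ### The plane -/

section Plane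

variable {W : Type u} [CommGroup W] [Finite W]

/-- `w ↦ γ w · w⁻¹`. -/
def delta (γ : MulAut W) : W →* W where
  toFun w := γ w * w⁻¹
  map_one' := by simp
  map_mul' a b := by rw [map_mul, mul_inv_rev]; ac_rfl

theorem delta_eq_one {γ : MulAut W} {w : W} : delta γ w = 1 ↔ γ w = w := mul_inv_eq_one

theorem delta_facts (hcard : Nat.card W ∣ p ^ 2) {γ : MulAut W} {k : ℕ} (hγ : γ ^ p ^ k = 1)
    (hne : γ ≠ 1) :
    Nat.card W = p ^ 2 ∧ Nat.card (delta γ).range = p ∧ (delta γ).range = (delta γ).ker := by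
  classical
  haveI : Fintype W := Fintype.ofFinite W
  obtain ⟨i, hi, hWi⟩ := (Nat.dvd_prime_pow (Fact.out : p.Prime)).1 hcard
  have hW1 : Nontrivial W := by
    by_contra h
    rw [not_nontrivial_iff_subsingleton] at h
    exact hne (MulEquiv.ext fun w => Subsingleton.elim _ _)
  have hi0 : i ≠ 0 := by
    rintro rfl
    rw [pow_zero, Nat.card_eq_one_iff_unique] at hWi
    exact not_subsingleton W hWi.1
  haveI : Finite (MulAut W) := Finite.of_injective _ MulEquiv.toEquiv_injective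
  have hP : IsPGroup p (Subgroup.zpowers γ) := by
    obtain ⟨j, -, hj⟩ := (Nat.dvd_prime_pow (Fact.out : p.Prime)).1 (orderOf_dvd_of_pow_eq_one hγ)
    exact IsPGroup.of_card (n := j) (by rw [Nat.card_zpowers, hj])
  -- a non-trivial fixed point
  obtain ⟨w, hw, hw1⟩ := hP.exists_fixed_point_of_prime_dvd_card_of_fixed_point (α := W)
    (hWi ▸ dvd_pow_self p hi0) (a := 1) (fun g => map_one (g : MulAut W))
  have hwfix : γ w = w := hw ⟨γ, Subgroup.mem_zpowers γ⟩
  have hker : (delta γ).ker ≠ ⊥ := fun h => hw1 <| by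
    have : w ∈ (delta γ).ker := delta_eq_one.2 hwfix
    rw [h, Subgroup.mem_bot] at this
    exact this.symm
  have hrange : (delta γ).range ≠ ⊥ := fun h => hne <| MulEquiv.ext fun x => by
    have : delta γ x ∈ (delta γ).range := ⟨x, rfl⟩
    rw [h, Subgroup.mem_bot] at this
    exact delta_eq_one.1 this
  have hmul : Nat.card (delta γ).ker * Nat.card (delta γ).range = Nat.card W := by
    rw [← Subgroup.index_ker, Subgroup.card_mul_index]
  have hgt : ∀ H : Subgroup W, H ≠ ⊥ → ∃ j, 1 ≤ j ∧ Nat.card H = p ^ j := by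
    intro H hH
    obtain ⟨j, -, hj⟩ := (Nat.dvd_prime_pow (Fact.out : p.Prime)).1
      ((Subgroup.card_subgroup_dvd_card H).trans (dvd_of_eq hWi))
    refine ⟨j, Nat.one_le_iff_ne_zero.2 fun h0 => hH ?_, hj⟩
    rw [h0, pow_zero] at hj
    exact Subgroup.card_eq_one.1 hj
  obtain ⟨a, ha, hka⟩ := hgt _ hker
  obtain ⟨b, hb, hrb⟩ := hgt _ hrange
  rw [hka, hrb, ← pow_add, hWi] at hmul
  have hab := Nat.pow_right_injective (Fact.out : p.Prime).two_le hmul
  obtain rfl : a = 1 := by omega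
  obtain rfl : b = 1 := by omega
  rw [pow_one] at hka hrb
  refine ⟨by rw [hWi, show i = 2 by omega], hrb, ?_⟩
  -- the range is invariant, so it meets the fixed points
  let e : Subgroup.zpowers γ → (delta γ).range → (delta γ).range := fun g x =>
    ⟨(g : MulAut W) x, by
      obtain ⟨n, hn⟩ := Subgroup.mem_zpowers_iff.1 g.2
      obtain ⟨y, hy⟩ := x.2
      refine ⟨(g : MulAut W) y, ?_⟩
      rw [← hy, ← hn]
      show γ ((γ ^ n) y) * ((γ ^ n) y)⁻¹ = (γ ^ n) (γ y * y⁻¹)
      rw [map_mul, map_inv, ← MulAut.mul_apply, ← MulAut.mul_apply, (Commute.self_zpow γ n).eq]⟩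
  letI : MulAction (Subgroup.zpowers γ) (delta γ).range :=
    { smul := e
      one_smul := fun x => rfl
      mul_smul := fun g h x => rfl }
  obtain ⟨x, hx, hx1⟩ := hP.exists_fixed_point_of_prime_dvd_card_of_fixed_point (α := (delta γ).range)
    (hrb ▸ dvd_rfl) (a := 1) (fun g => Subtype.ext (map_one (g : MulAut W)))
  have hle : (delta γ).range ≤ (delta γ).ker := by
    have hxk : (x : W) ∈ (delta γ).range ⊓ (delta γ).ker := ⟨x.2, delta_eq_one.2
      (congrArg Subtype.val (hx ⟨γ, Subgroup.mem_zpowers γ⟩))⟩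
    obtain ⟨j, -, hj⟩ := (Nat.dvd_prime_pow (Fact.out : p.Prime)).1
      (show Nat.card ↥((delta γ).range ⊓ (delta γ).ker) ∣ p ^ 1 by
        rw [pow_one, ← hrb]
        exact Subgroup.card_dvd_of_le inf_le_left)
    rcases Nat.eq_zero_or_pos j with rfl | hjp
    · rw [pow_zero, Subgroup.card_eq_one] at hj
      rw [hj, Subgroup.mem_bot] at hxk
      exact absurd (Subtype.ext hxk : x = 1) hx1.symm
    · have h1 := Subgroup.eq_of_le_of_card_ge (inf_le_left : (delta γ).range ⊓ (delta γ).ker ≤ _)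
        (by rw [hrb, hj]; exact Nat.le_self_pow hjp.ne' p)
      exact h1 ▸ inf_le_right
  exact Subgroup.eq_of_le_of_card_ge hle (by rw [hka, hrb])

/-- Automorphisms trivial on `L` and on `W ⧸ L`. -/
def flagStab (L : Subgroup W) : Subgroup (MulAut W) where
  carrier := {γ | (∀ w, γ w * w⁻¹ ∈ L) ∧ ∀ l ∈ L, γ l = l}
  one_mem' := ⟨fun w => by simp, fun l _ => rfl⟩
  mul_mem' := fun {a b} ha hb => ⟨fun w => by
    have h1 := mul_mem (ha.1 (b w)) (hb.1 w)
    rwa [mul_assoc, inv_mul_cancel_left] at h1,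
    fun l hl => by rw [MulAut.mul_apply, hb.2 l hl, ha.2 l hl]⟩
  inv_mem' := fun {a} ha => ⟨fun w => by
    have h1 := inv_mem (ha.1 (a⁻¹ w))
    rwa [MulAut.apply_inv_self, mul_inv_rev, inv_inv] at h1,
    fun l hl => by conv_lhs => rw [← ha.2 l hl, MulAut.inv_apply_self]⟩

theorem flagStab_pow (hexp : ∀ w : W, w ^ p = 1) {L : Subgroup W} {γ : MulAut W}
    (h : γ ∈ flagStab L) : γ ^ p = 1 := by
  refine MulEquiv.ext fun w => ?_
  have hn : ∀ n : ℕ, (γ ^ n) w = (γ w * w⁻¹) ^ n * w := by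
    intro n
    induction n with
    | zero => simp
    | succ n ih =>
      rw [pow_succ', MulAut.mul_apply, ih, map_mul, map_pow, h.2 _ (h.1 w), pow_succ, mul_assoc,
        inv_mul_cancel_right]
  rw [hn, hexp, one_mul]
  rfl

theorem isPGroup_flagStab (hexp : ∀ w : W, w ^ p = 1) (L : Subgroup W) : IsPGroup p (flagStab L) :=
  fun γ => ⟨1, Subtype.ext (by rw [pow_one]; exact flagStab_pow hexp γ.2)⟩

theorem mem_flagStab_range (hcard : Nat.card W ∣ p ^ 2) {γ : MulAut W} {k : ℕ} (hγ : γ ^ p ^ k = 1)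
    (hne : γ ≠ 1) : γ ∈ flagStab (delta γ).range :=
  ⟨fun w => ⟨w, rfl⟩, fun l hl => delta_eq_one.1 ((delta_facts hcard hγ hne).2.2 ▸ hl :)⟩

theorem flagStab_conj {L : Subgroup W} {β γ : MulAut W} (hβ : ∀ w, β w ∈ L ↔ w ∈ L)
    (hγ : γ ∈ flagStab L) : β * γ * β⁻¹ ∈ flagStab L := by
  refine ⟨fun w => ?_, fun l hl => ?_⟩
  · have h1 := (hβ _).2 (hγ.1 (β⁻¹ w))
    rwa [map_mul, map_inv, MulAut.apply_inv_self] at h1
  · have hl' : β⁻¹ l ∈ L := by
      rw [← hβ, MulAut.apply_inv_self]; exact hl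
    rw [MulAut.mul_apply, MulAut.mul_apply, hγ.2 _ hl', MulAut.apply_inv_self]

/-- A p-group of automorphisms containing `τ` stabilizes the flag of `τ`. -/
theorem le_flagStab (hcard : Nat.card W ∣ p ^ 2) {τ : MulAut W} {k : ℕ} (hτ : τ ^ p ^ k = 1)
    (hne : τ ≠ 1) {P : Subgroup (MulAut W)} (hP : IsPGroup p P) (hτP : τ ∈ P) :
    P ≤ flagStab (delta τ).range := by
  classical
  haveI : Fintype W := Fintype.ofFinite W
  obtain ⟨hW, hL, hLk⟩ := delta_facts hcard hτ hne
  obtain ⟨w, hw, hw1⟩ := hP.exists_fixed_point_of_prime_dvd_card_of_fixed_point (α := W)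
    (hW ▸ dvd_pow_self p two_ne_zero) (a := 1) (fun g => map_one (g : MulAut W))
  intro γ hγ
  rcases eq_or_ne γ 1 with rfl | hγne
  · exact one_mem _
  obtain ⟨j, hj⟩ := hP ⟨γ, hγ⟩
  have hj' : γ ^ p ^ j = 1 := congrArg Subtype.val hj
  obtain ⟨-, hLγ, hLγk⟩ := delta_facts hcard hj' hγne
  have hwτ : w ∈ (delta τ).range := hLk ▸ delta_eq_one.2 (hw ⟨τ, hτP⟩)
  have hwγ : w ∈ (delta γ).range := hLγk ▸ delta_eq_one.2 (hw ⟨γ, hγ⟩)
  have hz : ∀ H : Subgroup W, Nat.card H = p → w ∈ H → Subgroup.zpowers w = H := by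
    intro H hH hwH
    refine Subgroup.eq_of_le_of_card_ge (Subgroup.zpowers_le.2 hwH) ?_
    obtain ⟨i, -, hi⟩ := (Nat.dvd_prime_pow (Fact.out : p.Prime)).1
      (show orderOf w ∣ p ^ 1 by
        rw [pow_one, ← hH, ← Nat.card_zpowers]
        exact Subgroup.card_dvd_of_le (Subgroup.zpowers_le.2 hwH))
    rw [Nat.card_zpowers, hH, hi]
    refine Nat.le_self_pow ?_ p
    rintro rfl
    rw [pow_zero, orderOf_eq_one_iff] at hi
    exact hw1 hi.symm
  rw [← hz _ hL hwτ, hz _ hLγ hwγ]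
  exact mem_flagStab_range hcard hj' hγne

/-- The dichotomy: either the line of `τ` is invariant, or some element inverts the plane. -/
theorem invariant_or_neg (hexp : ∀ w : W, w ^ p = 1) (hcard : Nat.card W ∣ p ^ 2)
    {Γ : Subgroup (MulAut W)} {τ : MulAut W} (hτΓ : τ ∈ Γ) {k : ℕ} (hτ : τ ^ p ^ k = 1)
    (hne : τ ≠ 1) :
    (∀ β ∈ Γ, ∀ w, β w ∈ (delta τ).range ↔ w ∈ (delta τ).range) ∨ ∃ ν ∈ Γ, ∀ w, ν w = w⁻¹ := by
  classical
  haveI : Fintype W := Fintype.ofFinite W
  obtain ⟨hW, hL, hLk⟩ := delta_facts hcard hτ hne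
  set L := (delta τ).range with hLdef
  by_cases hall : ∀ β ∈ Γ, ∀ l ∈ L, β l ∈ L
  · refine Or.inl fun β hβ w => ⟨fun h => ?_, hall β hβ w⟩
    have := hall β⁻¹ (inv_mem hβ) _ h
    rwa [MulAut.inv_apply_self] at this
  push Not at hall
  obtain ⟨β, hβ, l₀, hl₀, hl₀'⟩ := hall
  right
  have hτL : τ ∈ flagStab L := mem_flagStab_range hcard hτ hne
  set σ := β * τ * β⁻¹ with hσ
  have hσΓ : σ ∈ Γ := mul_mem (mul_mem hβ hτΓ) (inv_mem hβ)
  have hσβ : ∀ w, σ (β w) = β (τ w) := fun w => by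
    rw [hσ, MulAut.mul_apply, MulAut.mul_apply, MulAut.inv_apply_self]
  -- a generator of `L`
  obtain ⟨e, heL, he⟩ : ∃ e ∈ L, e ≠ 1 := by
    by_contra h
    push Not at h
    have : L = ⊥ := (Subgroup.eq_bot_iff_forall _).2 h
    rw [this, Subgroup.card_bot] at hL
    exact (Fact.out : p.Prime).ne_one hL.symm
  have hgen : ∀ H : Subgroup W, Nat.card H = p → ∀ z ∈ H, z ≠ 1 → Subgroup.zpowers z = H := by
    intro H hH z hzH hz
    refine Subgroup.eq_of_le_of_card_ge (Subgroup.zpowers_le.2 hzH) ?_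
    obtain ⟨i, -, hi⟩ := (Nat.dvd_prime_pow (Fact.out : p.Prime)).1
      (show orderOf z ∣ p ^ 1 by
        rw [pow_one, ← hH, ← Nat.card_zpowers]
        exact Subgroup.card_dvd_of_le (Subgroup.zpowers_le.2 hzH))
    rw [Nat.card_zpowers, hH, hi]
    refine Nat.le_self_pow ?_ p
    rintro rfl
    rw [pow_zero, orderOf_eq_one_iff] at hi
    exact hz hi
  set f := σ e * e⁻¹ with hf
  have hσe : σ e = e * f := by rw [hf, mul_comm e, inv_mul_cancel_right]
  -- `σ` moves `e` out of `L`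
  have hfL : f ∉ L := by
    intro hfL
    -- otherwise `f = 1`, so `e` is fixed by `σ` and lies in `β L`
    obtain ⟨x, hx⟩ : ∃ x, β x = e := ⟨β⁻¹ e, MulAut.apply_inv_self _ _ _⟩
    have hfimg : f ∈ L.map β.toMonoidHom := ⟨τ x * x⁻¹, ⟨x, rfl⟩, by
      show β (τ x * x⁻¹) = f
      rw [map_mul, map_inv, ← hσβ, hx]⟩
    have hc : Nat.card (L.map β.toMonoidHom) = p := by
      rw [Subgroup.card_map_of_injective (f := β.toMonoidHom) β.injective, hL]
    have hneq : L.map β.toMonoidHom ≠ L := fun h => hl₀' (h ▸ Subgroup.mem_map_of_mem _ hl₀)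
    have hf1 : f = 1 := by
      by_contra hf1
      exact hneq ((hgen _ hc f hfimg hf1).symm.trans (hgen L hL f hfL hf1))
    rw [hf, mul_inv_eq_one, ← hx, hσβ] at hf1
    have hxL : x ∈ L := hLk ▸ delta_eq_one.2 (β.injective hf1)
    exact hneq ((hgen _ hc e ⟨x, hxL, hx⟩ he).symm.trans (hgen L hL e heL he))
  set g := τ f * f⁻¹ with hg
  have hgL : g ∈ L := ⟨f, rfl⟩
  have hg1 : g ≠ 1 := fun h => hfL (hLk ▸ delta_eq_one.2 (mul_inv_eq_one.1 h))
  obtain ⟨j, hj⟩ : ∃ j : ℕ, g ^ j = e⁻¹ := by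
    have h1 : e⁻¹ ∈ Subgroup.zpowers g := (hgen L hL g hgL hg1).symm ▸ inv_mem heL
    exact (Submonoid.mem_powers_iff _ _).1 (mem_powers_iff_mem_zpowers.2 h1)
  have hτpow : ∀ n : ℕ, (τ ^ n) f = g ^ n * f := by
    intro n
    induction n with
    | zero => simp
    | succ n ih =>
      rw [pow_succ', MulAut.mul_apply, ih, map_mul, map_pow, hτL.2 g hgL, pow_succ, mul_assoc, hg,
        inv_mul_cancel_right]
  set T := τ ^ j with hT
  have hTe : T e = e := (pow_mem hτL j).2 e heL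
  have hTf : T f = e⁻¹ * f := by rw [hT, hτpow, hj]
  set M := T * σ * T with hM
  have hMΓ : M ∈ Γ := mul_mem (mul_mem (pow_mem hτΓ j) hσΓ) (pow_mem hτΓ j)
  have hMe : M e = f := by
    rw [hM, MulAut.mul_apply, MulAut.mul_apply, hTe, hσe, map_mul, hTe, hTf, mul_inv_cancel_left]
  have hMf : M f = e⁻¹ := by
    obtain ⟨x, hx⟩ : ∃ x, β x = e := ⟨β⁻¹ e, MulAut.apply_inv_self _ _ _⟩
    -- `σ` fixes `f`
    have hσf : σ f = f := by
      have e1 : f = β (τ x * x⁻¹) := by rw [map_mul, map_inv, ← hσβ, hx, hf]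
      rw [e1, hσβ, hτL.2 (τ x * x⁻¹) ⟨x, rfl⟩]
    rw [hM, MulAut.mul_apply, MulAut.mul_apply, hTf, map_mul, map_inv, hσe, hσf, mul_inv_rev,
      mul_right_comm, inv_mul_cancel, one_mul, map_inv, hTe]
  refine ⟨M * M, mul_mem hMΓ hMΓ, fun w => ?_⟩
  have htop : Subgroup.closure ({e, f} : Set W) = ⊤ := by
    have hlt : L < Subgroup.closure ({e, f} : Set W) := by
      refine lt_of_le_of_ne ?_ fun h => hfL (h ▸ Subgroup.subset_closure (Or.inr rfl))
      rw [← hgen L hL e heL he, Subgroup.zpowers_le]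
      exact Subgroup.subset_closure (Or.inl rfl)
    obtain ⟨i, hi2, hi⟩ := (Nat.dvd_prime_pow (Fact.out : p.Prime)).1
      (hW ▸ Subgroup.card_subgroup_dvd_card (Subgroup.closure ({e, f} : Set W)))
    have h1 : p < p ^ i := by
      rw [← hi, ← hL]
      by_contra h
      exact hlt.ne (Subgroup.eq_of_le_of_card_ge hlt.le (not_lt.1 h))
    refine Subgroup.eq_top_of_card_eq _ ?_
    rw [hi, hW]
    congr 1
    rcases Nat.lt_or_ge i 2 with h | h
    · exfalso
      interval_cases i <;> simp at h1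
      have := (Fact.out : p.Prime).pos
      omega
    · omega
  have hw : w ∈ Subgroup.closure ({e, f} : Set W) := htop ▸ Subgroup.mem_top w
  induction hw using Subgroup.closure_induction with
  | mem z hz =>
    rcases hz with rfl | hz
    · rw [MulAut.mul_apply, hMe, hMf]
    · rw [Set.mem_singleton_iff] at hz
      subst hz
      rw [MulAut.mul_apply, hMf, map_inv, hMe]
  | one => simp
  | mul a b _ _ ha hb => rw [map_mul, ha, hb, mul_inv]
  | inv a _ ha => rw [map_inv, ha]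

end Plane

/-! ### Metacyclic groups -/

section Meta

variable {G : Type u} [Group G] [Finite G]

theorem index_frattini_dvd (hp : p ≠ 2) (hG : IsPGroup p G) (hm : Cfsg.IsMetacyclic G) :
    (frattini G).index ∣ p ^ 2 := by
  classical
  obtain ⟨D⟩ := Metacyclic.exists_data hp hG hm
  obtain ⟨n, hn⟩ := IsPGroup.iff_card.1 hG
  obtain ⟨-, hexp⟩ := FGS.frattini_quotient_props (p := p) hn
  set π := QuotientGroup.mk' (frattini G)
  have hsurj : Function.Surjective fun z : Fin p × Fin p => π D.a ^ (z.1 : ℕ) * π D.b ^ (z.2 : ℕ) := by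
    intro q
    obtain ⟨g, rfl⟩ := QuotientGroup.mk'_surjective (frattini G) q
    obtain ⟨x, y, rfl⟩ := D.hgen g
    have hpos := (Fact.out : p.Prime).pos
    refine ⟨(⟨(x % (p : ℤ)).toNat, ?_⟩, ⟨y % p, Nat.mod_lt _ hpos⟩), ?_⟩
    · have h1 := Int.emod_lt_of_pos x (Int.natCast_pos.2 hpos)
      have h2 := Int.emod_nonneg x (Int.natCast_ne_zero.2 hpos.ne')
      omega
    · show π D.a ^ (x % (p : ℤ)).toNat * π D.b ^ (y % p) = π (D.a ^ x * D.b ^ y)
      rw [map_mul, map_zpow, map_pow, ← pow_eq_pow_mod y (hexp (π D.b))]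
      congr 1
      rw [← zpow_natCast, Int.toNat_of_nonneg (Int.emod_nonneg x (Int.natCast_ne_zero.2 hpos.ne')),
        ← zpow_eq_zpow_emod' x (hexp (π D.a))]
  have hle := Nat.card_le_card_of_surjective _ hsurj
  rw [Nat.card_prod, Nat.card_fin, ← Subgroup.index_eq_card] at hle
  obtain ⟨i, -, hi⟩ := (Nat.dvd_prime_pow (Fact.out : p.Prime)).1
    (hn ▸ Subgroup.index_dvd_card (frattini G))
  rw [hi] at hle ⊢
  refine pow_dvd_pow p ((Nat.pow_le_pow_iff_right (Fact.out : p.Prime).one_lt).1 ?_)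
  rw [pow_two]; exact hle

theorem card_le_sq (hp : p ≠ 2) (hG : IsPGroup p G) (hm : Cfsg.IsMetacyclic G) :
    Nat.card {g : G // g ^ p = 1} ≤ p ^ 2 := by
  classical
  obtain ⟨D⟩ := Metacyclic.exists_data hp hG hm
  haveI := D.hnormal
  set A := Subgroup.zpowers D.a
  haveI : Fintype G := Fintype.ofFinite G
  haveI hAc : IsCyclic A := Subgroup.isCyclic_zpowers D.a
  haveI hQc : IsCyclic (G ⧸ A) := ⟨⟨(D.b : G ⧸ A), fun q => by
    obtain ⟨g, rfl⟩ := QuotientGroup.mk_surjective q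
    obtain ⟨x, y, rfl⟩ := D.hgen g
    refine ⟨(y : ℤ), ?_⟩
    show (D.b : G ⧸ A) ^ (y : ℤ) = _
    rw [zpow_natCast, ← QuotientGroup.mk_pow, QuotientGroup.eq]
    have := (inferInstance : A.Normal).conj_mem' _ (zpow_mem (Subgroup.mem_zpowers D.a) x) (D.b ^ y)
    simpa [mul_assoc] using this⟩⟩
  -- two solutions in one coset differ by an element killed by `p`
  have hfib : ∀ g g' : G, g ^ p = 1 → g' ^ p = 1 → g' * g⁻¹ ∈ A → (g' * g⁻¹) ^ p = 1 := by
    intro g g' hg hg' hA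
    obtain ⟨x, y, rfl⟩ := D.hgen g
    obtain ⟨d, hd⟩ := Subgroup.mem_zpowers_iff.1 hA
    have e : g' = D.el (d + x) y := by
      rw [Metacyclic.Data.el, zpow_add, mul_assoc, hd, inv_mul_cancel_right]
    rw [← hd]
    have h1 : D.el x y ^ p = 1 := hg
    rw [e, D.el_pow] at hg'
    rw [D.el_pow] at h1
    simp only [Metacyclic.Data.el] at hg' h1
    rw [add_mul, zpow_add, mul_assoc, h1, mul_one] at hg'
    have htr : (p : ℤ) ^ D.t ∣ D.r ^ y - 1 := D.htr.trans (sub_one_dvd_pow_sub_one D.r y)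
    obtain ⟨c, hc⟩ := (Metacyclic.pow_dvd_geo_iff D.hp2 D.ht1 htr 1 p).2 (by rw [pow_one])
    have hcnd : ¬ (p : ℤ) ∣ c := fun ⟨w, hw⟩ => by
      have h2 := (Metacyclic.pow_dvd_geo_iff D.hp2 D.ht1 htr 2 p).1 ⟨w, by rw [hc, hw]; ring⟩
      have h3 := Nat.le_of_dvd (Fact.out : p.Prime).pos h2
      nlinarith [(Fact.out : p.Prime).two_le]
    rw [D.zpow_a_eq_one_iff, hc, pow_one, ← mul_assoc] at hg'
    have hcop : IsCoprime ((p : ℤ) ^ D.α) c :=
      ((Nat.prime_iff_prime_int.1 (Fact.out : p.Prime)).coprime_iff_not_dvd.2 hcnd).pow_left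
    rw [← zpow_natCast, ← zpow_mul, D.zpow_a_eq_one_iff]
    exact hcop.dvd_of_dvd_mul_right hg'
  let rep : G ⧸ A → G := fun q => if h : ∃ g : G, g ^ p = 1 ∧ (g : G ⧸ A) = q then h.choose else 1
  have hrep : ∀ g : G, g ^ p = 1 → rep (g : G ⧸ A) ^ p = 1 ∧ ((rep (g : G ⧸ A)) : G ⧸ A) = g := by
    intro g hg
    have h : ∃ g' : G, g' ^ p = 1 ∧ (g' : G ⧸ A) = g := ⟨g, hg, rfl⟩
    simp only [rep, dif_pos h]
    exact h.choose_spec
  let φ : {g : G // g ^ p = 1} → {q : G ⧸ A // q ^ p = 1} × {a : A // a ^ p = 1} := fun g =>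
    (⟨(g.1 : G ⧸ A), by rw [← QuotientGroup.mk_pow, g.2]; rfl⟩,
      ⟨⟨g.1 * (rep (g.1 : G ⧸ A))⁻¹, by
        rw [← QuotientGroup.eq_one_iff, QuotientGroup.mk_mul, QuotientGroup.mk_inv, (hrep g.1 g.2).2,
          mul_inv_cancel]⟩,
        Subtype.ext (hfib _ _ (hrep g.1 g.2).1 g.2 (by
          rw [← QuotientGroup.eq_one_iff, QuotientGroup.mk_mul, QuotientGroup.mk_inv,
            (hrep g.1 g.2).2, mul_inv_cancel]))⟩)
  have hinj : Function.Injective φ := by
    intro g g' h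
    have h1 : (g.1 : G ⧸ A) = g'.1 := congrArg (fun z => (z.1 : G ⧸ A)) h
    have h2 : g.1 * (rep (g.1 : G ⧸ A))⁻¹ = g'.1 * (rep (g'.1 : G ⧸ A))⁻¹ :=
      congrArg (fun z => ((z.2.1 : A) : G)) h
    rw [h1] at h2
    exact Subtype.ext (mul_right_cancel h2)
  have hbound : ∀ (H : Type u) [Group H] [Finite H] [IsCyclic H],
      Nat.card {q : H // q ^ p = 1} ≤ p := by
    intro H _ _ _
    haveI : Fintype H := Fintype.ofFinite H
    rw [Nat.card_eq_fintype_card, Fintype.card_subtype]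
    exact IsCyclic.card_pow_eq_one_le (Fact.out : p.Prime).pos
  refine (Nat.card_le_card_of_injective φ hinj).trans ?_
  rw [Nat.card_prod, pow_two]
  exact Nat.mul_le_mul (hbound _) (hbound _)

/-- An automorphism of order prime to `p` inverting the Frattini quotient inverts the group. -/
theorem eq_inv_of_frattini (hp : p ≠ 2) (hG : IsPGroup p G) (hm : Cfsg.IsMetacyclic G)
    (δ : MulAut G) (hδ : (orderOf δ).Coprime p) (h : ∀ x : G, δ x * x ∈ frattini G) :
    ∀ x : G, δ x = x⁻¹ := by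
  classical
  haveI : Finite (MulAut G) := Finite.of_injective _ MulEquiv.toEquiv_injective
  have hsq : ∀ x, δ (δ x) = x := by
    have h2 : δ ^ 2 = 1 := by
      obtain ⟨n, hn⟩ := IsPGroup.iff_card.1 hG
      obtain ⟨r, -, hr⟩ := (Nat.dvd_prime_pow (Fact.out : p.Prime)).1
        (hn ▸ Subgroup.index_dvd_card (frattini G))
      have hA : ∀ α ∈ Subgroup.zpowers (δ ^ 2), ∀ x : G, α x * x⁻¹ ∈ frattini G := by
        intro α hα
        obtain ⟨j, rfl⟩ := (Submonoid.mem_powers_iff _ _).1 (mem_powers_iff_mem_zpowers.2 hα)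
        clear hα
        induction j with
        | zero => intro x; simp
        | succ j ih =>
          intro x
          have h1 := ih ((δ ^ 2) x)
          have h2 : (δ ^ 2) x * x⁻¹ ∈ frattini G := by
            rw [pow_two, MulAut.mul_apply]
            have h4 : x * δ x ∈ frattini G := by
              have := (inferInstance : (frattini G).Normal).conj_mem _ (h x) x
              rwa [← mul_assoc, mul_inv_cancel_right] at this
            have h3 := mul_mem (h (δ x)) (inv_mem h4)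
            rwa [mul_inv_rev, mul_assoc, mul_inv_cancel_left] at h3
          have := mul_mem h1 h2
          rwa [mul_assoc, inv_mul_cancel_left, ← MulAut.mul_apply, ← pow_succ] at this
      have hdvd := FGS.card_dvd_of_trivial_on_frattini_quotient hn hr _ hA
      rw [Nat.card_zpowers] at hdvd
      rw [← orderOf_eq_one_iff]
      exact Nat.eq_one_of_dvd_coprimes (hδ.pow_right _) (orderOf_pow_dvd 2) hdvd
    intro x
    rw [← MulAut.mul_apply, ← pow_two, h2]
    rfl
  -- no fixed point in abelian quotients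
  have hfix : ∀ (M : Subgroup G), _root_.commutator G ≤ M → (∀ m ∈ M, δ m ∈ M) →
      ∀ g : G, g⁻¹ * δ g ∈ M → g ∈ M := by
    intro M hcM hMinv
    haveI hMn : M.Normal := Subgroup.Normal.of_commutator_le G hcM
    letI : CommGroup (G ⧸ M) :=
      { (inferInstance : Group (G ⧸ M)) with
        mul_comm := fun s t => by
          obtain ⟨a, rfl⟩ := QuotientGroup.mk_surjective s
          obtain ⟨b, rfl⟩ := QuotientGroup.mk_surjective t
          rw [← QuotientGroup.mk_mul, ← QuotientGroup.mk_mul, QuotientGroup.eq]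
          refine hcM ?_
          rw [_root_.commutator_def, show (a * b)⁻¹ * (b * a) = ⁅b⁻¹, a⁻¹⁆ by
            rw [commutatorElement_def]; group]
          exact Subgroup.commutator_mem_commutator (mem_top _) (mem_top _) }
    let δq : (G ⧸ M) →* (G ⧸ M) := QuotientGroup.map M M δ.toMonoidHom hMinv
    have hδq : ∀ g : G, δq (g : G ⧸ M) = ((δ g : G) : G ⧸ M) := fun g => rfl
    have hpow : ∀ g : G, g ∈ frattini G → ∃ d : G ⧸ M, (g : G ⧸ M) = d ^ p := by
      intro g hg
      let N : Subgroup G :=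
        ((powMonoidHom p : (G ⧸ M) →* (G ⧸ M)).range).comap (QuotientGroup.mk' M)
      have hN : frattini G ≤ N := by
        refine Fusion.frattini_le_of_elementary N (fun x hx => ?_) fun x => ⟨(x : G ⧸ M), rfl⟩
        refine ⟨1, ?_⟩
        show (1 : G ⧸ M) ^ p = (x : G ⧸ M)
        rw [one_pow, eq_comm, QuotientGroup.eq_one_iff]
        exact hcM hx
      obtain ⟨d, hd⟩ := hN hg
      exact ⟨d, hd.symm⟩
    have hodd : Odd p := (Fact.out : p.Prime).odd_of_ne_two hp
    have hdiv : ∀ c : G ⧸ M, δq c = c → ∃ e, δq e = e ∧ c ^ 4 = e ^ p := by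
      intro c hc
      obtain ⟨g, rfl⟩ := QuotientGroup.mk_surjective c
      obtain ⟨d, hd⟩ := hpow _ (h g)
      rw [QuotientGroup.mk_mul, ← hδq, hc] at hd
      have hδδ : ∀ z, δq (δq z) = z := fun z => by
        obtain ⟨z, rfl⟩ := QuotientGroup.mk_surjective z
        rw [hδq, hδq, hsq]
      refine ⟨d * δq d, by rw [map_mul, hδδ, mul_comm], ?_⟩
      rw [mul_pow, ← map_pow, ← hd, map_mul, hc, pow_succ, pow_succ, pow_two, mul_assoc]
    intro g hg
    rw [← QuotientGroup.eq_one_iff]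
    have hc : δq (g : G ⧸ M) = g := by
      rw [hδq, eq_comm, QuotientGroup.eq]
      exact hg
    -- the fixed points are divisible by `p`
    let ψ : {c : G ⧸ M // δq c = c} → {c : G ⧸ M // δq c = c} := fun c =>
      ⟨c.1 ^ p, by rw [map_pow, c.2]⟩
    have hsurj : Function.Surjective ψ := by
      rintro ⟨c, hc'⟩
      obtain ⟨e, he, hce⟩ := hdiv c hc'
      obtain ⟨i, hi⟩ := (IsPGroup.iff_orderOf.1 (hG.to_quotient M)) c
      have hcop : Nat.Coprime 4 (orderOf c) := hi ▸ Nat.Coprime.pow_right _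
        ((Nat.coprime_pow_left_iff two_pos 2 p).2 (Nat.coprime_two_left.2 hodd) : (2 ^ 2).Coprime p)
      obtain ⟨k, hk⟩ := exists_pow_eq_self_of_coprime hcop
      refine ⟨⟨e ^ k, by rw [map_pow, he]⟩, Subtype.ext ?_⟩
      show (e ^ k) ^ p = c
      rw [pow_right_comm, ← hce, hk]
    have hinj := Finite.injective_iff_surjective.2 hsurj
    by_contra hne
    obtain ⟨i, hi⟩ := (IsPGroup.iff_orderOf.1 (hG.to_quotient M)) (g : G ⧸ M)
    rcases Nat.eq_zero_or_pos i with rfl | hipos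
    · rw [pow_zero, orderOf_eq_one_iff] at hi
      exact hne hi
    · have h1 := hinj (a₁ := ⟨(g : G ⧸ M) ^ p ^ (i - 1), by rw [map_pow, hc]⟩) (a₂ := ⟨1, map_one _⟩)
        (Subtype.ext (by
          show ((g : G ⧸ M) ^ p ^ (i - 1)) ^ p = 1 ^ p
          rw [one_pow, ← pow_mul, ← pow_succ, Nat.sub_add_cancel hipos, ← hi, pow_orderOf_eq_one]))
      have h2 := orderOf_dvd_of_pow_eq_one (congrArg Subtype.val h1)
      rw [hi, Nat.pow_dvd_pow_iff_le_right (Fact.out : p.Prime).one_lt] at h2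
      omega
  -- the group is abelian
  have habel : ∀ a b : G, a * b = b * a := by
    by_contra hna
    have hnc : ¬ IsMulCommutative G := fun hc => hna fun a b => hc.is_comm.comm a b
    obtain ⟨M, g, hgM, hcM, hall⟩ := Metacyclic.exists_fixed_coset hp hG hm hnc
    exact hgM (hfix M hcM (hall δ).1 g (hall δ).2)
  intro x
  have hcb : _root_.commutator G ≤ ⊥ := by
    rw [_root_.commutator_def, Subgroup.commutator_le]
    intro a _ b _
    rw [Subgroup.mem_bot, commutatorElement_eq_one_iff_mul_comm]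
    exact habel a b
  have h1 := hfix ⊥ hcb (fun m hm => by rw [Subgroup.mem_bot] at hm ⊢; rw [hm, map_one]) (δ x * x) (by
    rw [map_mul, hsq, habel x (δ x), inv_mul_cancel]
    exact one_mem _)
  rw [Subgroup.mem_bot] at h1
  exact eq_inv_of_mul_eq_one_left h1

end Meta

end Cfsg.Agent.FusSys.MetaAux
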