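import Cfsg.Prelude.Def_FusionSystem

/-!
Morphisms of a fusion system as total functions `Ω → Ω` considered on a subgroup.

`Mor F P f` says that some map of `F` with source `P` agrees with `f` on `P`;
`Iso F P Q f` says moreover that `f` carries `P` onto `Q`.
-/

set_option autoImplicit false

namespace Cfsg.Agent.FusSys

open Cfsg Cfsg.FusionSystem

variable {Ω : Type*} [Group Ω] {S : Subgroup Ω}

/-- Some map of `F` with source `P` agrees with `f` on `P`. -/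
def Mor (F : FusionSystem S) (P : Subgroup Ω) (f : Ω → Ω) : Prop :=
  ∃ φ ∈ F.Hom P, ∀ x : P, φ x = f x

/-- `f` is, on `P`, a map of `F` with image exactly `Q`. -/
def Iso (F : FusionSystem S) (P Q : Subgroup Ω) (f : Ω → Ω) : Prop :=
  Mor F P f ∧ ∀ y : Ω, y ∈ Q ↔ ∃ x ∈ P, f x = y

open Classical in
/-- A homomorphism defined on `P`, extended to a total function (by the identity outside `P`). -/
noncomputable def extendFn {P : Subgroup Ω} (φ : P →* Ω) (x : Ω) : Ω :=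
  if h : x ∈ P then φ ⟨x, h⟩ else x

theorem extendFn_apply {P : Subgroup Ω} (φ : P →* Ω) {x : Ω} (h : x ∈ P) :
    extendFn φ x = φ ⟨x, h⟩ := by
  simp [extendFn, h]

theorem extendFn_coe {P : Subgroup Ω} (φ : P →* Ω) (x : P) : extendFn φ x = φ x :=
  extendFn_apply φ x.2

variable {F : FusionSystem S} {P Q R : Subgroup Ω} {f g : Ω → Ω}

theorem mor_extendFn {φ : P →* Ω} (h : φ ∈ F.Hom P) : Mor F P (extendFn φ) :=
  ⟨φ, h, fun x => (extendFn_coe φ x).symm⟩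

theorem iso_extendFn {φ : P →* Ω} (h : φ ∈ F.Hom P) : Iso F P φ.range (extendFn φ) :=
  ⟨mor_extendFn h, fun y => ⟨fun ⟨x, hx⟩ => ⟨x, x.2, (extendFn_coe φ x).trans hx⟩,
    fun ⟨x, hx, hxy⟩ => ⟨⟨x, hx⟩, (extendFn_apply φ hx).symm.trans hxy⟩⟩⟩

theorem Mor.congr (hf : Mor F P f) (h : ∀ x ∈ P, g x = f x) : Mor F P g := by
  obtain ⟨φ, hφ, hφf⟩ := hf
  exact ⟨φ, hφ, fun x => (hφf x).trans (h x x.2).symm⟩

theorem Mor.hom_eq (hf : Mor F P f) {ψ : P →* Ω} (h : ∀ x : P, ψ x = f x) : ψ ∈ F.Hom P := by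
  obtain ⟨φ, hφ, hφf⟩ := hf
  have : ψ = φ := MonoidHom.ext fun x => (h x).trans (hφf x).symm
  exact this ▸ hφ

theorem mem_hom_iff {φ : P →* Ω} : φ ∈ F.Hom P ↔ Mor F P (extendFn φ) :=
  ⟨mor_extendFn, fun h => h.hom_eq fun x => (extendFn_coe φ x).symm⟩

theorem Mor.le (hf : Mor F P f) : P ≤ S := by
  obtain ⟨φ, hφ, -⟩ := hf
  exact (F.le_of_mem hφ).1

theorem Mor.mem_S (hf : Mor F P f) {x : Ω} (hx : x ∈ P) : f x ∈ S := by
  obtain ⟨φ, hφ, h⟩ := hf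
  have h2 := (F.le_of_mem hφ).2 ⟨x, hx⟩
  rwa [h ⟨x, hx⟩] at h2

theorem Mor.injOn (hf : Mor F P f) : Set.InjOn f P := by
  obtain ⟨φ, hφ, h⟩ := hf
  intro x hx y hy hxy
  have h2 : φ ⟨x, hx⟩ = φ ⟨y, hy⟩ := by rw [h, h]; exact hxy
  exact congrArg Subtype.val (F.injective_of_mem hφ h2)

theorem Mor.map_mul (hf : Mor F P f) {x y : Ω} (hx : x ∈ P) (hy : y ∈ P) :
    f (x * y) = f x * f y := by
  obtain ⟨φ, -, h⟩ := hf
  have h2 := φ.map_mul ⟨x, hx⟩ ⟨y, hy⟩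
  rw [h, h, h] at h2
  exact h2

theorem Mor.map_one (hf : Mor F P f) : f 1 = 1 := by
  obtain ⟨φ, -, h⟩ := hf
  have h2 := φ.map_one
  rw [h] at h2
  exact h2

theorem Mor.map_inv (hf : Mor F P f) {x : Ω} (hx : x ∈ P) : f x⁻¹ = (f x)⁻¹ := by
  obtain ⟨φ, -, h⟩ := hf
  have h2 := _root_.map_inv φ ⟨x, hx⟩
  rw [h, h] at h2
  exact h2

theorem Mor.map_conj (hf : Mor F P f) {x y : Ω} (hx : x ∈ P) (hy : y ∈ P) :
    f (x * y * x⁻¹) = f x * f y * (f x)⁻¹ := by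
  rw [hf.map_mul (P.mul_mem hx hy) (P.inv_mem hx), hf.map_mul hx hy, hf.map_inv hx]

theorem Mor.map_pow (hf : Mor F P f) {x : Ω} (hx : x ∈ P) (n : ℕ) : f (x ^ n) = f x ^ n := by
  induction n with
  | zero => simp [hf.map_one]
  | succ n ih => rw [pow_succ, pow_succ, hf.map_mul (P.pow_mem hx n) hx, ih]

theorem mor_id (hP : P ≤ S) : Mor F P id :=
  ⟨conjHom P 1, F.conj_mem hP S.one_mem, fun x => by simp [conjHom]⟩

theorem mor_conj (hP : P ≤ S) {s : Ω} (hs : s ∈ S) : Mor F P (fun x => s * x * s⁻¹) :=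
  ⟨conjHom P s, F.conj_mem hP hs, fun x => by simp [conjHom]⟩

theorem Mor.comp (hf : Mor F P f) (hg : Mor F Q g) (h : ∀ x ∈ P, f x ∈ Q) :
    Mor F P (g ∘ f) := by
  obtain ⟨φ, hφ, hφf⟩ := hf
  obtain ⟨ψ, hψ, hψg⟩ := hg
  refine ⟨_, F.comp_mem hφ hψ (fun x => (hφf x).symm ▸ h x x.2), fun x => ?_⟩
  show ψ _ = _
  rw [hψg]
  show g (φ x) = g (f x)
  rw [hφf]

theorem Mor.mono (hf : Mor F P f) (h : R ≤ P) : Mor F R f :=
  ((mor_id (F := F) (h.trans hf.le)).comp hf (fun _ hx => h hx)).congr fun _ _ => rfl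

theorem Mor.conjComp (hf : Mor F P f) {s : Ω} (hs : s ∈ S) :
    Mor F P (fun x => s * f x * s⁻¹) :=
  hf.comp (mor_conj le_rfl hs) fun _ hx => hf.mem_S hx

/-- The image of a map of the system, as a subgroup. -/
theorem Mor.exists_iso (hf : Mor F P f) : ∃ Q, Iso F P Q f := by
  obtain ⟨φ, hφ, h⟩ := hf
  refine ⟨φ.range, ⟨φ, hφ, h⟩, fun y => ⟨?_, ?_⟩⟩
  · rintro ⟨x, rfl⟩
    exact ⟨x, x.2, (h x).symm⟩
  · rintro ⟨x, hx, rfl⟩
    exact ⟨⟨x, hx⟩, h ⟨x, hx⟩⟩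

theorem Iso.mor (h : Iso F P Q f) : Mor F P f := h.1

theorem Iso.mem (h : Iso F P Q f) {x : Ω} (hx : x ∈ P) : f x ∈ Q := (h.2 _).2 ⟨x, hx, rfl⟩

theorem Iso.exists_eq (h : Iso F P Q f) {y : Ω} (hy : y ∈ Q) : ∃ x ∈ P, f x = y := (h.2 _).1 hy

theorem Iso.left_le (h : Iso F P Q f) : P ≤ S := h.1.le

theorem Iso.right_le (h : Iso F P Q f) : Q ≤ S := fun y hy => by
  obtain ⟨x, hx, rfl⟩ := h.exists_eq hy
  exact h.1.mem_S hx

theorem Iso.congr (h : Iso F P Q f) (he : ∀ x ∈ P, g x = f x) : Iso F P Q g :=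
  ⟨h.1.congr he, fun y => by
    rw [h.2 y]
    exact ⟨fun ⟨x, hx, hxy⟩ => ⟨x, hx, (he x hx).trans hxy⟩,
      fun ⟨x, hx, hxy⟩ => ⟨x, hx, (he x hx).symm.trans hxy⟩⟩⟩

theorem iso_id (hP : P ≤ S) : Iso F P P id :=
  ⟨mor_id hP, fun y => ⟨fun hy => ⟨y, hy, rfl⟩, fun ⟨_, hx, hxy⟩ => hxy ▸ hx⟩⟩

theorem Iso.comp (hf : Iso F P Q f) (hg : Iso F Q R g) : Iso F P R (g ∘ f) := by
  refine ⟨hf.1.comp hg.1 fun x hx => hf.mem hx, fun y => ⟨fun hy => ?_, ?_⟩⟩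
  · obtain ⟨z, hz, rfl⟩ := hg.exists_eq hy
    obtain ⟨x, hx, rfl⟩ := hf.exists_eq hz
    exact ⟨x, hx, rfl⟩
  · rintro ⟨x, hx, rfl⟩
    exact hg.mem (hf.mem hx)

theorem Iso.eq_image {Q' : Subgroup Ω} (h : Iso F P Q f) (h' : Iso F P Q' f) : Q = Q' :=
  Subgroup.ext fun y => (h.2 y).trans (h'.2 y).symm

theorem Iso.symm (hf : Iso F P Q f) :
    ∃ g, Iso F Q P g ∧ (∀ x ∈ P, g (f x) = x) ∧ ∀ y ∈ Q, f (g y) = y := by
  obtain ⟨φ, hφ, h⟩ := hf.1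
  obtain ⟨ψ, hψ, hψφ⟩ := F.inv_mem hφ
  have hr : φ.range = Q := Subgroup.ext fun y => by
    rw [hf.2 y]
    constructor
    · rintro ⟨x, rfl⟩
      exact ⟨x, x.2, (h x).symm⟩
    · rintro ⟨x, hx, rfl⟩
      exact ⟨⟨x, hx⟩, h ⟨x, hx⟩⟩
  subst hr
  have key : ∀ x : P, extendFn ψ (φ x) = x := fun x => by
    rw [extendFn_apply ψ (show φ x ∈ φ.range from ⟨x, rfl⟩)]
    exact hψφ x
  refine ⟨extendFn ψ, ⟨mor_extendFn hψ, fun y => ⟨fun hy => ?_, ?_⟩⟩, fun x hx => ?_, ?_⟩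
  · exact ⟨φ ⟨y, hy⟩, ⟨_, rfl⟩, key ⟨y, hy⟩⟩
  · rintro ⟨_, ⟨x, rfl⟩, rfl⟩
    rw [key]
    exact x.2
  · have := key ⟨x, hx⟩
    rwa [h] at this
  · rintro _ ⟨x, rfl⟩
    rw [key, ← h]

theorem Iso.restrict (hf : Iso F P Q f) (hR : R ≤ P) :
    ∃ R', Iso F R R' f ∧ R' ≤ Q := by
  obtain ⟨R', hR'⟩ := (hf.1.mono hR).exists_iso
  exact ⟨R', hR', fun y hy => by
    obtain ⟨x, hx, rfl⟩ := hR'.exists_eq hy
    exact hf.mem (hR hx)⟩

theorem iso_conj (hP : P ≤ S) {s : Ω} (hs : s ∈ S) :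
    Iso F P (P.map (MulAut.conj s).toMonoidHom) (fun x => s * x * s⁻¹) :=
  ⟨mor_conj hP hs, fun y => by simp [Subgroup.mem_map, eq_comm]⟩

theorem iso_conj_self (hP : P ≤ S) {s : Ω} (hs : s ∈ S)
    (hn : s ∈ Subgroup.normalizer (P : Set Ω)) : Iso F P P (fun x => s * x * s⁻¹) := by
  refine ⟨mor_conj hP hs, fun y => ⟨fun hy => ⟨s⁻¹ * y * s, ?_, by group⟩, ?_⟩⟩
  · rw [Subgroup.mem_normalizer_iff.1 hn]
    simpa [mul_assoc] using hy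
  · rintro ⟨x, hx, rfl⟩
    exact (Subgroup.mem_normalizer_iff.1 hn x).1 hx

theorem isConj_iff : F.IsConj P Q ↔ ∃ f, Iso F P Q f := by
  constructor
  · rintro ⟨φ, hφ, rfl⟩
    exact ⟨_, iso_extendFn hφ⟩
  · rintro ⟨f, hf⟩
    obtain ⟨φ, hφ, h⟩ := hf.1
    refine ⟨φ, hφ, Subgroup.ext fun y => ?_⟩
    rw [hf.2 y]
    exact ⟨fun ⟨x, hx⟩ => ⟨x, x.2, (h x).symm.trans hx⟩,
      fun ⟨x, hx, hxy⟩ => ⟨⟨x, hx⟩, (h ⟨x, hx⟩).trans hxy⟩⟩

theorem Iso.isConj (hf : Iso F P Q f) : F.IsConj P Q := isConj_iff.2 ⟨f, hf⟩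

theorem isConj_refl (hP : P ≤ S) : F.IsConj P P := (iso_id hP).isConj

theorem isConj_symm (h : F.IsConj P Q) : F.IsConj Q P := by
  obtain ⟨f, hf⟩ := isConj_iff.1 h
  obtain ⟨g, hg, -⟩ := hf.symm
  exact hg.isConj

theorem isConj_trans (h : F.IsConj P Q) (h' : F.IsConj Q R) : F.IsConj P R := by
  obtain ⟨f, hf⟩ := isConj_iff.1 h
  obtain ⟨g, hg⟩ := isConj_iff.1 h'
  exact (hf.comp hg).isConj

theorem isConj_le_left (h : F.IsConj P Q) : P ≤ S := by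
  obtain ⟨f, hf⟩ := isConj_iff.1 h
  exact hf.left_le

theorem isConj_le_right (h : F.IsConj P Q) : Q ≤ S := by
  obtain ⟨f, hf⟩ := isConj_iff.1 h
  exact hf.right_le

theorem isConj_conj (hP : P ≤ S) {s : Ω} (hs : s ∈ S) :
    F.IsConj P (P.map (MulAut.conj s).toMonoidHom) := (iso_conj hP hs).isConj

/-- The isomorphism underlying an `Iso`. -/
noncomputable def Iso.toEquiv (hf : Iso F P Q f) : P ≃* Q :=
  MulEquiv.ofBijective
    ({ toFun := fun x => ⟨f x, hf.mem x.2⟩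
       map_one' := Subtype.ext hf.1.map_one
       map_mul' := fun x y => Subtype.ext (hf.1.map_mul x.2 y.2) } : P →* Q)
    ⟨fun x y h => Subtype.ext (hf.1.injOn x.2 y.2 (congrArg Subtype.val h)), fun y => by
      obtain ⟨x, hx, hxy⟩ := hf.exists_eq y.2
      exact ⟨⟨x, hx⟩, Subtype.ext hxy⟩⟩

theorem Iso.toEquiv_apply (hf : Iso F P Q f) (x : P) : ((hf.toEquiv x : Q) : Ω) = f x := rfl

theorem Iso.card_eq (hf : Iso F P Q f) : Nat.card P = Nat.card Q :=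
  Nat.card_congr hf.toEquiv.toEquiv

theorem isConj_card_eq (h : F.IsConj P Q) : Nat.card P = Nat.card Q := by
  obtain ⟨f, hf⟩ := isConj_iff.1 h
  exact hf.card_eq

theorem finite_of_le [Finite S] (hP : P ≤ S) : Finite P :=
  Finite.of_injective (Subgroup.inclusion hP) (Subgroup.inclusion_injective hP)

theorem eq_of_le_of_card [Finite S] (hQ : Q ≤ S) (hle : R ≤ Q)
    (hc : Nat.card Q ≤ Nat.card R) : R = Q := by
  haveI := finite_of_le hQ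
  exact Subgroup.eq_of_le_of_card_ge hle hc

theorem hom_ext_iff {F E : FusionSystem S} :
    F = E ↔ ∀ P : Subgroup Ω, F.Hom P = E.Hom P := by
  refine ⟨fun h P => by rw [h], fun h => ?_⟩
  cases F; cases E
  congr
  exact funext h

theorem le_iff_mor {F E : FusionSystem S} : F ≤ E ↔ ∀ P f, Mor F P f → Mor E P f :=
  ⟨fun h P _ ⟨φ, hφ, hf⟩ => ⟨φ, h P hφ, hf⟩,
    fun h P _ hφ => mem_hom_iff.2 (h P _ (mor_extendFn hφ))⟩

theorem eq_iff_mor {F E : FusionSystem S} : F = E ↔ ∀ P f, Mor F P f ↔ Mor E P f :=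
  ⟨fun h P f => by rw [h], fun h => hom_ext_iff.2 fun P => Set.ext fun φ => by
    rw [mem_hom_iff, mem_hom_iff]
    exact h P _⟩

theorem isSubsystemOf_iff_mor {T : Subgroup Ω} {E : FusionSystem T} {F : FusionSystem S} :
    E.IsSubsystemOf F ↔ ∀ P f, Mor E P f → Mor F P f :=
  ⟨fun h P _ ⟨φ, hφ, hf⟩ => ⟨φ, h P hφ, hf⟩,
    fun h P _ hφ => mem_hom_iff.2 (h P _ (mor_extendFn hφ))⟩

end Cfsg.Agent.FusSys
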