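import Cfsg.Agent.FusSys.TateCor

/-!
The twist attached to a map by a semicharacteristic biset, evaluated through a stable homomorphism with values in
a group of exponent `p`: for maps on a subgroup all of whose conjugates have centralisers in the kernel it is
well defined, multiplicative and compatible with restriction.
-/

set_option autoImplicit false

namespace Cfsg.Agent.FusSys.PPI

open Cfsg Cfsg.FusionSystem Cfsg.Agent.FusSys

universe u v

/-- A product over a finite set with an action of a `p`-group, of an invariant function with values of exponent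
dividing `p`, only sees the fixed points. -/
theorem prod_free_eq_one {G X : Type*} [Group G] [MulAction G X] [Fintype X] [Finite G] {p : ℕ}
    [Fact p.Prime] (hG : IsPGroup p G) {A : Type*} [CommGroup A] (hA : ∀ a : A, a ^ p = 1) (f : X → A)
    (hf : ∀ (g : G) (x : X), f (g • x) = f x) :
    ∀ (s : Finset X), (∀ g : G, ∀ x ∈ s, g • x ∈ s) → (∀ x ∈ s, ∃ g : G, g • x ≠ x) →
      ∏ x ∈ s, f x = 1 := by
  classical
  intro s
  induction s using Finset.strongInduction with
  | H s ih =>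
    intro hs hfree
    rcases s.eq_empty_or_nonempty with rfl | ⟨x, hx⟩
    · rfl
    set O : Finset X := Finset.univ.filter (fun y => y ∈ MulAction.orbit G x) with hO
    have hOs : O ⊆ s := by
      intro y hy
      obtain ⟨g, rfl⟩ := (Finset.mem_filter.1 hy).2
      exact hs g x hx
    have hxO : x ∈ O := Finset.mem_filter.2 ⟨Finset.mem_univ _, MulAction.mem_orbit_self x⟩
    have hrest : ∏ y ∈ s \ O, f y = 1 := by
      refine ih _ (Finset.sdiff_ssubset hOs ⟨x, hxO⟩) (fun g y hy => ?_)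
        (fun y hy => hfree y (Finset.mem_sdiff.1 hy).1)
      rw [Finset.mem_sdiff] at hy ⊢
      refine ⟨hs g y hy.1, fun h => hy.2 (Finset.mem_filter.2 ⟨Finset.mem_univ _, ?_⟩)⟩
      obtain ⟨k, hk⟩ := (Finset.mem_filter.1 h).2
      exact ⟨g⁻¹ * k, by
        show (g⁻¹ * k) • x = y
        rw [mul_smul, show k • x = g • y from hk, inv_smul_smul]⟩
    rw [← Finset.prod_sdiff hOs, hrest, one_mul]
    have hconst : ∀ y ∈ O, f y = f x := by
      intro y hy
      obtain ⟨g, rfl⟩ := (Finset.mem_filter.1 hy).2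
      exact hf g x
    rw [Finset.prod_congr rfl hconst, Finset.prod_const]
    haveI : Finite (MulAction.orbit G x) := Subtype.finite
    obtain ⟨n, hn⟩ := hG.card_orbit x
    have hcard : O.card = p ^ n := by
      rw [← hn, ← Nat.card_eq_finsetCard]
      exact Nat.card_congr (Equiv.subtypeEquivRight fun y => by simp [hO])
    have hn0 : n ≠ 0 := by
      rintro rfl
      obtain ⟨g, hg⟩ := hfree x hx
      rw [pow_zero] at hn
      haveI := (Nat.card_eq_one_iff_unique.1 hn).1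
      exact hg (congrArg Subtype.val (Subsingleton.elim
        (⟨g • x, g, rfl⟩ : MulAction.orbit G x) ⟨x, MulAction.mem_orbit_self x⟩))
    obtain ⟨m, hm⟩ : p ∣ O.card := hcard ▸ dvd_pow_self p hn0
    rw [hm, pow_mul, hA, one_pow]

/-- A product over a set permuted by `σ` is trivial when all products along closed paths are. -/
theorem prod_cycles_eq_one {X : Type*} [Fintype X] (σ : Equiv.Perm X) {A : Type*} [CommGroup A] (f : X → A) :
    ∀ (s : Finset X), (∀ x ∈ s, σ x ∈ s) →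
      (∀ x ∈ s, ∀ k : ℕ, (⇑σ)^[k] x = x → ∏ i ∈ Finset.range k, f ((⇑σ)^[i] x) = 1) →
      ∏ x ∈ s, f x = 1 := by
  classical
  intro s
  induction s using Finset.strongInduction with
  | H s ih =>
    intro hs hcyc
    rcases s.eq_empty_or_nonempty with rfl | ⟨x, hx⟩
    · rfl
    set k := Function.minimalPeriod (⇑σ) x with hk
    have hper : Function.IsPeriodicPt (⇑σ) (orderOf σ) x := by
      show (⇑σ)^[orderOf σ] x = x
      rw [Equiv.Perm.iterate_eq_pow, pow_orderOf_eq_one, Equiv.Perm.one_apply]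
    have hk0 : 0 < k := hper.minimalPeriod_pos (orderOf_pos σ)
    set O : Finset X := (Finset.range k).image (fun i => (⇑σ)^[i] x) with hO
    have hit : ∀ i : ℕ, (⇑σ)^[i] x ∈ O := fun i => by
      rw [← Function.iterate_mod_minimalPeriod_eq]
      exact Finset.mem_image.2 ⟨_, Finset.mem_range.2 (Nat.mod_lt _ hk0), rfl⟩
    have hOs : O ⊆ s := by
      intro y hy
      obtain ⟨i, -, rfl⟩ := Finset.mem_image.1 hy
      induction i with
      | zero => exact hx
      | succ i ih' => rw [Function.iterate_succ_apply']; exact hs _ (ih' (hit i))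
    have hOσ : ∀ y, σ y ∈ O → y ∈ O := by
      intro y hy
      obtain ⟨i, -, hi⟩ := Finset.mem_image.1 hy
      have h1 : (⇑σ)^[i + k] x = σ y := by
        rw [← hi, hk, Function.iterate_add_minimalPeriod_eq]
      have h2 : σ ((⇑σ)^[i + (k - 1)] x) = σ y := by
        rw [← Function.iterate_succ_apply' (⇑σ), ← h1, show (i + (k - 1)).succ = i + k by omega]
      exact σ.injective h2 ▸ hit _
    have hrest : ∏ y ∈ s \ O, f y = 1 := by
      refine ih _ (Finset.sdiff_ssubset hOs ⟨x, hit 0⟩) (fun y hy => ?_)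
        (fun y hy => hcyc y (Finset.mem_sdiff.1 hy).1)
      rw [Finset.mem_sdiff] at hy ⊢
      exact ⟨hs y hy.1, fun h => hy.2 (hOσ y h)⟩
    rw [← Finset.prod_sdiff hOs, hrest, one_mul, hO, Finset.prod_image]
    · exact hcyc x hx k (Function.iterate_minimalPeriod)
    · intro i hi j hj h
      exact Function.iterate_injOn_Iio_minimalPeriod (Finset.mem_range.1 hi) (Finset.mem_range.1 hj) h

variable {Ω : Type u} [Group Ω] {S T : Subgroup Ω} {F : FusionSystem S} {p : ℕ}

/-- The data: a homomorphism on `S` with kernel `T`, values of exponent `p`, constant along maps of the system,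
and a semicharacteristic biset of degree prime to `p`. -/
structure Ctx (F : FusionSystem S) (T : Subgroup Ω) (p : ℕ) where
  /-- The value group. -/
  A : Type u
  [inst : CommGroup A]
  /-- The homomorphism. -/
  χ : S →* A
  ker : ∀ u : S, χ u = 1 ↔ (u : Ω) ∈ T
  expA : ∀ a : A, a ^ p = 1
  gen : ∀ u : S, χ u ≠ 1 → ∀ a : A, ∃ k : ℕ, χ u ^ k = a
  stab : ∀ R f, Mor F R f → ∀ u w : S, (u : Ω) ∈ R → (w : Ω) = f u → χ w = χ u
  /-- The biset. -/
  B : BisetData F (⊤ : Subgroup S)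
  deg : ¬ p ∣ Fintype.card B.O

attribute [instance] Ctx.inst

variable (C : Ctx F T p)

/-- `π, t` is a twist of the biset along `f` on `R`. -/
def Tw (R : Subgroup Ω) (f : Ω → Ω) (π : Equiv.Perm C.B.O) (t : C.B.O → S) : Prop :=
  ∀ u w : S, (u : Ω) ∈ R → (w : Ω) = f u →
    ∀ o, π (u • o) = w • π o ∧ C.B.s w (π o) = t (u • o) * C.B.s u o * (t o)⁻¹

/-- `a` is a value of the twist of `f` on `R`. -/
def Th (R : Subgroup Ω) (f : Ω → Ω) (a : C.A) : Prop :=
  ∃ π t, Tw C R f π t ∧ ∏ o, C.χ (t o) = a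

variable {C}
variable {P Q R : Subgroup Ω} {f g : Ω → Ω} {π π' : Equiv.Perm C.B.O} {t t' : C.B.O → S} {a b : C.A}

theorem Tw.congr (h : Tw C R f π t) (he : ∀ x ∈ R, g x = f x) : Tw C R g π t :=
  fun u w hu hw => h u w hu (hw.trans (he _ hu))

theorem Th.congr (h : Th C R f a) (he : ∀ x ∈ R, g x = f x) : Th C R g a := by
  obtain ⟨π, t, ht, hp⟩ := h
  exact ⟨π, t, ht.congr he, hp⟩

theorem Tw.mono (h : Tw C R f π t) (hP : P ≤ R) : Tw C P f π t := fun u w hu hw => h u w (hP hu) hw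

theorem Th.mono (h : Th C R f a) (hP : P ≤ R) : Th C P f a := by
  obtain ⟨π, t, ht, hp⟩ := h
  exact ⟨π, t, ht.mono hP, hp⟩

theorem Tw.comp (h : Tw C R f π t) (h' : Tw C Q g π' t') (hf : Mor F R f) (hfQ : ∀ x ∈ R, f x ∈ Q) :
    Tw C R (g ∘ f) (π.trans π') (fun o => t' (π o) * t o) := by
  intro u w hu hw o
  obtain ⟨v, hv⟩ : ∃ v : S, (v : Ω) = f u := ⟨⟨f u, hf.mem_S hu⟩, rfl⟩
  obtain ⟨e1, e2⟩ := h u v hu hv o
  have hw' : (w : Ω) = g v := by rw [hv]; exact hw
  obtain ⟨e3, e4⟩ := h' v w (hv ▸ hfQ _ hu) hw' (π o)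
  refine ⟨?_, ?_⟩
  · rw [Equiv.trans_apply, e1, e3]; rfl
  · simp only [Equiv.trans_apply]
    rw [e4, e2, e1]
    group

theorem Th.comp (h : Th C R f a) (h' : Th C Q g b) (hf : Mor F R f) (hfQ : ∀ x ∈ R, f x ∈ Q) :
    Th C R (g ∘ f) (b * a) := by
  obtain ⟨π, t, ht, rfl⟩ := h
  obtain ⟨π', t', ht', rfl⟩ := h'
  refine ⟨_, _, ht.comp ht' hf hfQ, ?_⟩
  simp only [map_mul]
  rw [Finset.prod_mul_distrib, Equiv.prod_comp π fun o => C.χ (t' o)]

theorem Tw.symm (h : Tw C R f π t) (hi : Iso F R Q f) (hg : ∀ x ∈ R, g (f x) = x) :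
    Tw C Q g π.symm (fun o => (t (π.symm o))⁻¹) := by
  intro v u hv hu o
  obtain ⟨x, hx, hxv⟩ := hi.exists_eq hv
  have hux : (u : Ω) = x := by rw [hu, ← hxv, hg x hx]
  have hu' : (u : Ω) ∈ R := hux ▸ hx
  have hvu : (v : Ω) = f u := by rw [hux, hxv]
  obtain ⟨e1, e2⟩ := h u v hu' hvu (π.symm o)
  rw [Equiv.apply_symm_apply] at e1 e2
  have e3 : π.symm (v • o) = u • π.symm o := by rw [← e1, Equiv.symm_apply_apply]
  refine ⟨e3, ?_⟩
  simp only []
  rw [e3, e2]
  group

theorem Th.symm (h : Th C R f a) (hi : Iso F R Q f) (hg : ∀ x ∈ R, g (f x) = x) : Th C Q g a⁻¹ := by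
  obtain ⟨π, t, ht, rfl⟩ := h
  refine ⟨_, _, ht.symm hi hg, ?_⟩
  simp only [map_inv]
  rw [Finset.prod_inv_distrib, Equiv.prod_comp π.symm fun o => C.χ (t o)]

theorem th_exists (hf : Mor F R f) : ∃ a, Th C R f a := by
  obtain ⟨π, t, ht⟩ := C.B.stable R f hf
  exact ⟨_, π, t, fun u w hu hw o => ht u w hu hw o, rfl⟩

theorem chi_fixed (u : S) (o : C.B.O) (ho : u • o = o) : C.χ (C.B.s u o) = C.χ u := by
  obtain ⟨P, f, hf, hu, hs⟩ := C.B.fixed u o ho
  exact C.stab P f hf u _ hu hs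

theorem th_conj (v : S) : Th C R (fun x => (v : Ω) * x * (v : Ω)⁻¹) (C.χ v ^ Fintype.card C.B.O) := by
  refine ⟨MulAction.toPerm v, fun o => C.B.s v o, fun u w _ hw o => ?_, ?_⟩
  · have e : w = v * u * v⁻¹ := Subtype.ext (by rw [hw, Subgroup.coe_mul, Subgroup.coe_mul, Subgroup.coe_inv])
    subst e
    refine ⟨?_, ?_⟩
    · show v • u • o = (v * u * v⁻¹) • v • o
      rw [← mul_smul, ← mul_smul, inv_mul_cancel_right]
    · show C.B.s (v * u * v⁻¹) (v • o) = _
      rw [eq_mul_inv_iff_mul_eq, ← C.B.cocycle, ← C.B.cocycle, inv_mul_cancel_right]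
  · have hc : ∀ k ∈ (⊤ : Subgroup S), ∀ x, C.χ (k * x) = C.χ k * C.χ x := fun k _ x => map_mul _ k x
    exact C.B.tr_eq_pow hc (R := ⊤) le_rfl (fun u _ o ho => chi_fixed u o ho) (Subgroup.mem_top v)

/-- A potential making the cocycle constant through `χ`. -/
theorem exists_potential : ∃ g : C.B.O → C.A, ∀ u o, C.χ (C.B.s u o) * g o = C.χ u * g (u • o) := by
  classical
  let β : S → C.B.O → C.A := fun v o => C.χ (C.B.s v o) / C.χ v
  have hco : ∀ v w o, β (v * w) o = β v (w • o) * β w o := by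
    intro v w o
    show _ / _ = _ / _ * (_ / _)
    rw [C.B.cocycle, map_mul, map_mul, div_mul_div_comm]
  have hout : ∀ o, ∃ g : S, g • (Quotient.mk (MulAction.orbitRel S C.B.O) o).out = o := fun o => by
    obtain ⟨g, hg⟩ := Quotient.mk_out (s := MulAction.orbitRel S C.B.O) o
    exact ⟨g⁻¹, by rw [inv_smul_eq_iff]; exact hg.symm⟩
  choose g hg using hout
  refine ⟨fun o => β (g o) (Quotient.mk (MulAction.orbitRel S C.B.O) o).out, fun u o => ?_⟩
  have hq : Quotient.mk (MulAction.orbitRel S C.B.O) (u • o) =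
      Quotient.mk (MulAction.orbitRel S C.B.O) o := Quotient.sound ⟨u, rfl⟩
  show _ * β (g o) _ = _ * β (g (u • o)) _
  rw [hq]
  generalize hbo : (Quotient.mk (MulAction.orbitRel S C.B.O) o).out = b
  have h1 : g o • b = o := hbo ▸ hg o
  have h2 : g (u • o) • b = u • o := by
    have := hg (u • o)
    rwa [hq, hbo] at this
  have hfixb : ((g (u • o))⁻¹ * (u * g o)) • b = b := by
    rw [mul_smul, mul_smul, h1, inv_smul_eq_iff, h2]
  have h3 := hco (g (u • o)) ((g (u • o))⁻¹ * (u * g o)) b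
  rw [mul_inv_cancel_left, hfixb, hco u, h1] at h3
  have h4 : β ((g (u • o))⁻¹ * (u * g o)) b = 1 := by
    show _ / _ = (1 : C.A)
    rw [chi_fixed _ _ hfixb, div_self']
  rw [h4, mul_one] at h3
  rw [← h3]
  show _ = C.χ u * (C.χ (C.B.s u o) / C.χ u * _)
  rw [← mul_assoc, mul_div_cancel]

/-- Every conjugate of `P` has its centralizer in `T`. -/
def Rig (F : FusionSystem S) (T P : Subgroup Ω) : Prop :=
  ∀ Q f, Iso F P Q f → centralizerIn S Q ≤ T

theorem Rig.iso (h : Rig F T P) (hf : Iso F P Q f) : Rig F T Q :=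
  fun R g hg => h R _ (hf.comp hg)

theorem Rig.of_iso (h : Rig F T Q) (hf : Iso F P Q f) : Rig F T P := by
  obtain ⟨g, hg, -, -⟩ := hf.symm
  exact h.iso hg

theorem Rig.mono (h : Rig F T P) (hPR : P ≤ R) : Rig F T R := by
  intro Q f hf c hc
  obtain ⟨P', hP', hle⟩ := hf.restrict hPR
  exact h P' f hP' ⟨hc.1, Subgroup.mem_centralizer_iff.2 fun x hx =>
    Subgroup.mem_centralizer_iff.1 hc.2 x (hle hx)⟩

theorem tw_id_pow (hP : P ≤ S) (h : Tw C P id π t) :
    ∀ k : ℕ, ∃ T' : C.B.O → S, Tw C P id (π ^ k) T' ∧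
      ∀ o, C.χ (T' o) = ∏ i ∈ Finset.range k, C.χ (t ((⇑π)^[i] o)) := by
  intro k
  induction k with
  | zero =>
    refine ⟨fun _ => 1, fun u w _ hw o => ?_, fun o => by simp⟩
    have : w = u := Subtype.ext hw
    subst this
    simp
  | succ k ih =>
    obtain ⟨T', hT', hprod⟩ := ih
    refine ⟨_, by rw [pow_succ', Equiv.Perm.mul_def]; exact hT'.comp h (mor_id hP) fun x hx => hx, fun o => ?_⟩
    rw [map_mul, hprod, Finset.prod_range_succ, mul_comm, Equiv.Perm.iterate_eq_pow]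

/-- The twist of the identity on a rigid subgroup is trivial. -/
theorem th_id_eq_one [Fact p.Prime] [Finite S] (hS : IsPGroup p S) (hP : P ≤ S) (hr : Rig F T P)
    (h : Th C P id a) : a = 1 := by
  classical
  obtain ⟨π, t, ht, rfl⟩ := h
  obtain ⟨g, hg⟩ := exists_potential (C := C)
  set D : C.B.O → C.A := fun o => C.χ (t o) * g o / g (π o) with hD
  have hcomm : ∀ u : S, (u : Ω) ∈ P → ∀ o, π (u • o) = u • π o := fun u hu o => (ht u u hu rfl o).1
  have hDinv : ∀ u : S, (u : Ω) ∈ P → ∀ o, D (u • o) = D o := by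
    intro u hu o
    have e := congrArg C.χ (ht u u hu rfl o).2
    rw [map_mul, map_mul, map_inv, eq_mul_inv_iff_mul_eq] at e
    have h1 := hg u o
    have h2 := hg u (π o)
    rw [← hcomm u hu o] at h2
    show _ * _ / _ = _ * _ / _
    rw [div_eq_div_iff_mul_eq_mul]
    have key : C.χ (t (u • o)) * g (u • o) * g (π o) * C.χ u = C.χ (t o) * g o * g (π (u • o)) * C.χ u := by
      calc C.χ (t (u • o)) * g (u • o) * g (π o) * C.χ u
          = C.χ (t (u • o)) * (C.χ u * g (u • o)) * g (π o) := by ac_rfl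
        _ = C.χ (t (u • o)) * C.χ (C.B.s u o) * g o * g (π o) := by rw [← h1]; ac_rfl
        _ = C.χ (C.B.s u (π o)) * g (π o) * C.χ (t o) * g o := by rw [← e]; ac_rfl
        _ = C.χ (t o) * g o * g (π (u • o)) * C.χ u := by rw [h2]; ac_rfl
    exact mul_right_cancel key
  set Fx : Finset C.B.O := Finset.univ.filter (fun o => ∀ u : S, (u : Ω) ∈ P → u • o = o) with hFx
  have h1 : ∏ o, C.χ (t o) = ∏ o, D o := by
    simp only [hD]
    rw [Finset.prod_div_distrib, Finset.prod_mul_distrib, Equiv.prod_comp π g, mul_div_cancel_right]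
  have hπFx : ∀ o ∈ Fx, π o ∈ Fx := fun o ho => Finset.mem_filter.2 ⟨Finset.mem_univ _, fun u hu => by
    rw [← hcomm u hu o, (Finset.mem_filter.1 ho).2 u hu]⟩
  have h2 : ∏ o ∈ Finset.univ \ Fx, D o = 1 := by
    refine prod_free_eq_one (G := P.subgroupOf S) (hS.to_subgroup _) C.expA D
      (fun u o => hDinv u u.2 o) _ (fun u o ho => ?_) fun o ho => ?_
    · rw [Finset.mem_sdiff] at ho ⊢
      refine ⟨Finset.mem_univ _, fun h => ho.2 ?_⟩
      have h' := (Finset.mem_filter.1 h).2 (u : S) u.2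
      have e : (u : S) • o = o := smul_left_cancel (u : S) h'
      rw [show u • o = (u : S) • o from rfl, e] at h
      exact h
    · rw [Finset.mem_sdiff, hFx, Finset.mem_filter] at ho
      simp only [Finset.mem_univ, true_and, not_forall] at ho
      obtain ⟨u, hu, hne⟩ := ho
      exact ⟨⟨u, hu⟩, hne⟩
  rw [h1, ← Finset.prod_sdiff (Finset.subset_univ Fx), h2, one_mul]
  have h3 : ∏ o ∈ Fx, D o = ∏ o ∈ Fx, C.χ (t o) := by
    simp only [hD]
    rw [Finset.prod_div_distrib, Finset.prod_mul_distrib]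
    have e : ∏ o ∈ Fx, g (π o) = ∏ o ∈ Fx, g o := by
      refine Finset.prod_bij (fun o _ => π o) hπFx (fun a _ b _ h => π.injective h) (fun o ho => ?_)
        (fun _ _ => rfl)
      have himg : Fx.image π = Fx := Finset.eq_of_subset_of_card_le
        (Finset.image_subset_iff.2 hπFx) (Finset.card_image_of_injective _ π.injective).ge
      obtain ⟨y, hy, hyo⟩ := Finset.mem_image.1 (himg.symm ▸ ho)
      exact ⟨y, hy, hyo⟩
    rw [e, mul_div_cancel_right]
  rw [h3]
  refine prod_cycles_eq_one π _ Fx hπFx fun o ho k hk => ?_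
  obtain ⟨T', hT', hprod⟩ := tw_id_pow hP ht k
  rw [← hprod o]
  have hfix := (Finset.mem_filter.1 ho).2
  obtain ⟨P₀, f₀, hf₀, hP₀⟩ := C.B.fixedMap o
  have hle : P ≤ P₀ := fun x hx => (hP₀ ⟨x, hP hx⟩ (hfix _ hx)).1
  obtain ⟨Q, hQ⟩ := (hf₀.mono hle).exists_iso
  refine (C.ker _).2 (hr Q f₀ hQ ⟨(T' o).2, Subgroup.mem_centralizer_iff.2 fun y hy => ?_⟩)
  obtain ⟨x, hx, rfl⟩ := hQ.exists_eq hy
  obtain ⟨-, e⟩ := hT' ⟨x, hP hx⟩ ⟨x, hP hx⟩ hx rfl o
  rw [hfix _ hx, show (π ^ k) o = o by rw [← Equiv.Perm.iterate_eq_pow]; exact hk,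
    eq_mul_inv_iff_mul_eq] at e
  have e' := congrArg Subtype.val e
  rw [Subgroup.coe_mul, Subgroup.coe_mul, (hP₀ ⟨x, hP hx⟩ (hfix _ hx)).2] at e'
  exact e'

/-- Values of twists on rigid subgroups are unique. -/
theorem th_unique [Fact p.Prime] [Finite S] (hS : IsPGroup p S) (hf : Mor F P f) (hr : Rig F T P)
    (ha : Th C P f a) (hb : Th C P f b) : a = b := by
  obtain ⟨Q, hQ⟩ := hf.exists_iso
  obtain ⟨g, hg, hgf, -⟩ := hQ.symm
  have h := (ha.comp (hb.symm hQ hgf) hf fun x hx => hQ.mem hx).congr (g := id) fun x hx => (hgf x hx).symm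
  have := th_id_eq_one hS hf.le hr h
  rwa [inv_mul_eq_one, eq_comm] at this

end Cfsg.Agent.FusSys.PPI
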