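import Cfsg.Agent.FusSys.IndexPrimeRad
import Cfsg.Agent.FusSys.FreeBase

/-!
Every subgroup carries its automorphism group into the normalizer system of some centric radical subgroup;
hence conditions on automorphism groups invariant under isomorphism are local.
-/

set_option autoImplicit false
set_option linter.unusedSectionVars false

namespace Cfsg.Agent.FusSys

open Cfsg Cfsg.FusionSystem

variable {Ω : Type*} [Group Ω] {S P Q R : Subgroup Ω} {F : FusionSystem S} {f g : Ω → Ω} {p : ℕ}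

/-- `R` is centric and every automorphism of some conjugate of `Q` inside it extends to `R`. -/
def Carries (F : FusionSystem S) (Q R : Subgroup Ω) : Prop :=
  F.IsCentric R ∧ ∃ Q' g, Iso F Q Q' g ∧ Q' ≤ R ∧
    ∀ f, Iso F Q' Q' f → ∃ k, Iso F R R k ∧ ∀ x ∈ Q', k x = f x

theorem Carries.transport {R₁ : Subgroup Ω} {h : Ω → Ω} (hc : Carries F Q R) (hh : Iso F R R₁ h) :
    Carries F Q R₁ := by
  obtain ⟨hRc, Q', g, hg, hQ'R, hext⟩ := hc
  obtain ⟨h', hh', hh'h, hhh'⟩ := hh.symm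
  obtain ⟨Q'', hQ'', hQ''R⟩ := hh.restrict hQ'R
  refine ⟨centric_of_isConj hRc hh.isConj, Q'', _, hg.comp hQ'', hQ''R, fun f hf => ?_⟩
  obtain ⟨h'', hh'', hh''h, hhh''⟩ := hQ''.symm
  obtain ⟨k, hk, hkf⟩ := hext _ ((hQ''.comp hf).comp hh'')
  refine ⟨_, (hh'.comp hk).comp hh, fun y hy => ?_⟩
  obtain ⟨x, hx, rfl⟩ := hQ''.exists_eq hy
  show h (k (h' (h x))) = f (h x)
  rw [hh'h x (hQ'R hx), hkf x hx]
  exact hhh'' _ (hf.mem (hQ''.mem hx))

variable [Finite S] [Fact p.Prime] (hS : IsPGroup p S) (hF : F.IsSaturated p)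
include hS hF

theorem carries_sup_centralizer (hQ : F.IsFullyNormalized Q) : Carries F Q (Q ⊔ centralizerIn S Q) := by
  set U := Q ⊔ centralizerIn S Q with hU
  have hUS : U ≤ S := sup_le hQ.1 inf_le_left
  have hfc := fullyCentralized_of_fullyNormalized hS hF hQ
  refine ⟨⟨hUS, fun U' hU' => ?_⟩, Q, id, iso_id hQ.1, le_sup_left, fun f hf => ?_⟩
  · obtain ⟨e, he⟩ := isConj_iff.1 hU'
    obtain ⟨Q', hQ', hQ'U⟩ := he.restrict (le_sup_left : Q ≤ U)
    intro c hc
    have hcQ : c ∈ centralizerIn S Q' := ⟨hc.1, Subgroup.centralizer_le hQ'U hc.2⟩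
    obtain ⟨x, hx, rfl⟩ := (he.1.mono (le_sup_right : centralizerIn S Q ≤ U)).surj_of_card
      (centralizerIn_le S Q')
      (fun x hx => he.1.mem_centralizerIn le_sup_left hQ' (Subgroup.mem_sup_right hx) hx.2)
      (hfc.2 Q' hQ'.isConj) hcQ
    exact he.mem (Subgroup.mem_sup_right hx)
  · obtain ⟨k, hk, hkf⟩ := (isReceptive_iff.1 (receptive_of_fullyNormalized hS hF hQ)).2 Q f hf
    have hm : Mor F U k := hk.mono (sup_le hf.1.le_nPhi centralizerIn_le_nPhi)
    have hkQ : Iso F Q Q k := hf.congr hkf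
    have hmem : ∀ x ∈ U, k x ∈ U := fun x hx => by
      rw [hU, Subgroup.sup_eq_closure] at hx
      induction hx using Subgroup.closure_induction with
      | mem x hx =>
        rcases hx with hx | hx
        · exact Subgroup.mem_sup_left (hkQ.mem hx)
        · exact Subgroup.mem_sup_right (hm.mem_centralizerIn le_sup_left hkQ (Subgroup.mem_sup_right hx) hx.2)
      | one => rw [hm.map_one]; exact U.one_mem
      | mul x y hx hy ihx ihy =>
        rw [← Subgroup.sup_eq_closure, ← hU] at hx hy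
        rw [hm.map_mul hx hy]; exact U.mul_mem ihx ihy
      | inv x hx ihx =>
        rw [← Subgroup.sup_eq_closure, ← hU] at hx
        rw [hm.map_inv hx]; exact U.inv_mem ihx
    exact ⟨k, ⟨hm, fun y => ⟨fun hy => hm.surj_of_card hUS hmem le_rfl hy, fun ⟨x, hx, hxy⟩ => hxy ▸ hmem x hx⟩⟩, hkf⟩

theorem Carries.coreNorm (hc : Carries F Q R) (hRn : F.IsFullyNormalized R) :
    Carries F Q (coreNorm F p R) := by
  obtain ⟨hRc, Q', g, hg, hQ'R, hext⟩ := hc
  have hle := le_coreNorm hS hF hRn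
  refine ⟨centric_of_le hRc hle (coreNorm_le.trans inf_le_left), Q', g, hg, hQ'R.trans hle, fun f hf => ?_⟩
  obtain ⟨k, hk, hkf⟩ := hext f hf
  obtain ⟨l, hl, hlk⟩ := (isReceptive_iff.1 (receptive_of_fullyNormalized hS hF hRn)).2 R k hk
  exact ⟨l, iso_coreNorm hS hF hRn hl (coreNorm_le_nPhi hS hF hRn hk) (hk.congr hlk),
    fun x hx => (hlk x (hQ'R hx)).trans (hkf x hx)⟩

theorem exists_radical_carries (hQS : Q ≤ S) :
    ∃ R, F.IsFullyNormalized R ∧ F.IsCentric R ∧ F.IsRadical p R ∧ Carries F Q R := by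
  classical
  obtain ⟨Q₁, hQ₁, hQ₁n⟩ := exists_fullyNormalized_conj (F := F) hQS
  obtain ⟨e, he⟩ := isConj_iff.1 hQ₁
  have hne : ∃ n, ∃ R, Carries F Q R ∧ Nat.card R = n := by
    obtain ⟨hc, Q', g, hg, h1, h2⟩ := carries_sup_centralizer hS hF hQ₁n
    exact ⟨_, _, ⟨hc, Q', _, he.comp hg, h1, h2⟩, rfl⟩
  obtain ⟨n, hn⟩ := hne
  let m := Nat.findGreatest (fun n => ∃ R, Carries F Q R ∧ Nat.card R = n) (Nat.card S)
  have hbound : ∀ R, Carries F Q R → Nat.card R ≤ Nat.card S := fun R hR => Subgroup.card_le_of_le hR.1.1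
  obtain ⟨R₀, hR₀, hcard⟩ : ∃ R, Carries F Q R ∧ Nat.card R = m := by
    obtain ⟨R, hR, rfl⟩ := hn
    exact Nat.findGreatest_spec (P := fun n => ∃ R, Carries F Q R ∧ Nat.card R = n) (hbound R hR)
      ⟨R, hR, rfl⟩
  obtain ⟨R, h, hRn, -, hiso, -⟩ := exists_fullyNormalized_mor hS hF hR₀.1.1
  have hR := hR₀.transport hiso
  refine ⟨R, hRn, hR.1, by_contra fun hr => ?_, hR⟩
  have hlt := lt_coreNorm hS hF hRn hr
  have hC := hR.coreNorm hS hF hRn
  have h1 := Nat.le_findGreatest (P := fun n => ∃ R, Carries F Q R ∧ Nat.card R = n) (hbound _ hC) ⟨_, hC, rfl⟩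
  have h2 := card_lt_of_lt' hC.1.1 hlt
  rw [← hiso.card_eq, hcard] at h2
  exact absurd h1 (not_le.2 h2)

/-- Every subgroup has a conjugate whose automorphism group lives in the normalizer system of some fully
normalized centric radical subgroup. -/
theorem exists_local (hQS : Q ≤ S) :
    ∃ R Q' g, F.IsFullyNormalized R ∧ F.IsCentric R ∧ F.IsRadical p R ∧ Iso F Q Q' g ∧ Q' ≤ normalizerIn S R ∧
      ∀ N : FusionSystem (normalizerIn S R), F.IsNormalizerSystem R N → N.autGroup Q' = F.autGroup Q' := by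
  obtain ⟨R, hRn, hRc, hRr, -, Q', g, hg, hQ'R, hext⟩ := exists_radical_carries hS hF hQS
  have hQN : Q' ≤ normalizerIn S R := hQ'R.trans (le_normalizerIn hRn.1)
  refine ⟨R, Q', g, hRn, hRc, hRr, hg, hQN, fun N hN => ?_⟩
  ext α
  rw [mem_autGroup_iff hg.right_le, mem_autGroup_iff hQN]
  refine ⟨fun h => ⟨((mor_normalizerSystem hN).1 h.1).1, h.2⟩, fun h => ⟨?_, h.2⟩⟩
  obtain ⟨k, hk, hkα⟩ := hext _ h
  exact (mor_normalizerSystem hN).2 ⟨h.1, hQN, fun z hz => hQN (h.mem hz), k,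
    hk.1.mono (sup_le hQ'R le_rfl), hkα, hk.2⟩

omit hS hF

/-- `χ` acts quadratically. -/
def Quad {G : Type*} [Group G] (χ : MulAut G) : Prop := ∀ a, (χ a⁻¹) * a * (χ a⁻¹) * (χ (χ a)) = 1

theorem Quad.congr {G H : Type*} [Group G] [Group H] {χ : MulAut G} (h : Quad χ) (e : G ≃* H) :
    Quad (MulAut.congr e χ) := fun a => by
  obtain ⟨b, rfl⟩ := e.surjective a
  have hc : ∀ c, MulAut.congr e χ (e c) = e (χ c) := fun c => by simp [MulAut.congr]
  rw [← map_inv e, hc, hc, hc, ← map_mul, ← map_mul, ← map_mul, h b, map_one]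

/-- Quadratic automorphisms lie in `O_p`. -/
def QuadStable (F : FusionSystem S) (p : ℕ) : Prop :=
  ∀ Q : Subgroup Ω, F.IsFullyNormalized Q → ∀ χ : MulAut ↥Q, χ ∈ F.autGroup Q → Quad χ → χ ∈ opCore F p Q

theorem QuadStable.mem (hstab : QuadStable F p) (hQS : Q ≤ S) {χ : MulAut Q} (hχ : χ ∈ F.autGroup Q)
    (hq : Quad χ) : χ ∈ opCore F p Q := by
  obtain ⟨Q₁, hQ₁, hQ₁n⟩ := exists_fullyNormalized_conj (F := F) hQS
  obtain ⟨e, he⟩ := isConj_iff.1 hQ₁
  obtain ⟨e', he', he'e, -⟩ := he.symm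
  have h := he'.conjAut_opCore (hstab Q₁ hQ₁n _ (he.conjAut_mem hχ) (hq.congr _))
  have hback : he'.conjAut (he.conjAut χ) = χ := apl_ext fun x hx => by
    have h1 := he'.conjAut_apl (he.conjAut χ) (he.mem hx)
    rw [he.conjAut_apl χ hx, he'e x hx, he'e _ (apl_mem χ hx)] at h1
    exact h1
  rwa [hback] at h

theorem QuadStable.normalizer (hstab : QuadStable F p) {N : FusionSystem (normalizerIn S R)}
    (hN : F.IsNormalizerSystem R N) : QuadStable N p := fun Q hQ χ hχ hq => by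
  have hQS : Q ≤ S := hQ.1.trans inf_le_left
  have hle : N.autGroup Q ≤ F.autGroup Q := fun α hα =>
    (mem_autGroup_iff hQS).2 ⟨((mor_normalizerSystem hN).1 (iso_apl hQ.1 hα).1).1, (iso_apl hQ.1 hα).2⟩
  refine le_opCore (A := opCore F p Q ⊓ N.autGroup Q) inf_le_right
    ((isPGroup_opCore (p := p)).to_le inf_le_left) (fun α hα γ hγ =>
      ⟨conj_mem_opCore (hle hα) hγ.1, Subgroup.mul_mem _ (Subgroup.mul_mem _ hα hγ.2) (Subgroup.inv_mem _ hα)⟩)
    ⟨hstab.mem hQS (hle hχ) hq, hχ⟩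

include hS hF in
theorem quadStable_iff_local : QuadStable F p ↔ ∀ R : Subgroup Ω, F.IsFullyNormalized R → F.IsCentric R →
    F.IsRadical p R → ∀ N : FusionSystem (normalizerIn S R), F.IsNormalizerSystem R N → QuadStable N p := by
  refine ⟨fun h R _ _ _ N hN => h.normalizer hN, fun h Q hQ χ hχ hq => ?_⟩
  obtain ⟨R, Q', g, hRn, hRc, hRr, hg, hQN, haut⟩ := exists_local hS hF hQ.1
  obtain ⟨N, hN⟩ : ∃ N, F.IsNormalizerSystem R N := ⟨_, isNormalizerSystem_normalizerSys hRn.1⟩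
  haveI : Finite (normalizerIn S R) := finite_of_le inf_le_left
  have hq' := hq.congr hg.toEquiv
  have hχ' : hg.conjAut χ ∈ N.autGroup Q' := (haut N hN).symm ▸ hg.conjAut_mem hχ
  have h2 := (h R hRn hRc hRr N hN).mem hQN hχ' hq'
  have h3 : hg.conjAut χ ∈ opCore F p Q' := by
    have e : opCore N p Q' = opCore F p Q' := by
      show (pCore p (N.autGroup Q')).map (N.autGroup Q').subtype = _
      rw [haut N hN]; rfl
    exact e ▸ h2
  obtain ⟨g', hg', hg'g, -⟩ := hg.symm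
  have h4 := hg'.conjAut_opCore h3
  have hback : hg'.conjAut (hg.conjAut χ) = χ := apl_ext fun x hx => by
    have h5 := hg'.conjAut_apl (hg.conjAut χ) (hg.mem hx)
    rw [hg.conjAut_apl χ hx, hg'g x hx, hg'g _ (apl_mem χ hx)] at h5
    exact h5
  rwa [hback] at h4

end Cfsg.Agent.FusSys
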