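import Cfsg.Agent.FusSys.Cocycle

/-!
Every fusion system over a finite `p`-group is realized inside a finite group (Park).
-/

set_option autoImplicit false

namespace Cfsg.Agent.FusSys

open Cfsg Cfsg.FusionSystem

universe u

variable {Ω : Type u} [Group Ω] {S : Subgroup Ω} {F : FusionSystem S}

theorem exists_twist_equiv [Finite S] {E : FusionSystem (S.prod S)} (hE : IsProductSystem F F E)
    (L : List (Subgroup (S.prod S))) (hst : StableOff E (fun _ => False) L)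
    {R : Subgroup Ω} {f : Ω → Ω} (hf : Mor F R f) :
    ∃ ee : LSet L ≃ LSet L, (∀ (b : S) (x : LSet L), ee (rw' b • x) = rw' b • ee x) ∧
      ∀ (u w : S), (u : Ω) ∈ R → (w : Ω) = f u → ∀ x : LSet L,
        ee (lw u • x) = lw w • ee x := by
  classical
  haveI : Finite (S.prod S : Subgroup (Ω × Ω)) :=
    Finite.of_equiv _ (Subgroup.prodEquiv S S).symm.toEquiv
  have hR := hf.le
  obtain ⟨R', hi⟩ := hf.exists_iso
  let φ₁ : (R.prod S : Subgroup (Ω × Ω)) →* (S.prod S : Subgroup (Ω × Ω)) :=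
    Subgroup.inclusion (Subgroup.prod_mono hR le_rfl)
  let φ₂ : (R.prod S : Subgroup (Ω × Ω)) →* (S.prod S : Subgroup (Ω × Ω)) :=
    MonoidHom.mk' (fun w => ⟨(f (w : Ω × Ω).1, (w : Ω × Ω).2), hf.mem_S w.2.1, w.2.2⟩)
      fun a b => Subtype.ext (Prod.ext (hf.map_mul a.2.1 b.2.1) rfl)
  haveI : Finite (R.prod S : Subgroup (Ω × Ω)) := finite_of_le (Subgroup.prod_mono hR le_rfl)
  haveI : Finite (Twist φ₁ (LSet L)) := inferInstanceAs (Finite (LSet L))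
  haveI : Finite (Twist φ₂ (LSet L)) := inferInstanceAs (Finite (LSet L))
  have hmarks : ∀ H : Subgroup (R.prod S : Subgroup (Ω × Ω)),
      mark (Twist φ₁ (LSet L)) H = mark (Twist φ₂ (LSet L)) H := by
    intro H
    have e : ∀ φ : (R.prod S : Subgroup (Ω × Ω)) →* (S.prod S : Subgroup (Ω × Ω)),
        mark (Twist φ (LSet L)) H = mark (LSet L) (H.map φ) := fun φ =>
      Nat.card_congr ((Equiv.refl (LSet L)).subtypeEquiv fun x =>
        ⟨fun h k hk => by obtain ⟨a, ha, rfl⟩ := hk; exact h a ha,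
          fun h a ha => h _ (Subgroup.mem_map_of_mem _ ha)⟩)
    rw [e, e, mark_lset, mark_lset]
    obtain ⟨H₁, hH₁⟩ : ∃ H₁, H₁ = (H.map φ₁).map (S.prod S).subtype := ⟨_, rfl⟩
    obtain ⟨H₂, hH₂⟩ : ∃ H₂, H₂ = (H.map φ₂).map (S.prod S).subtype := ⟨_, rfl⟩
    have hiso : Iso E H₁ H₂ (fun x => (f x.1, x.2)) := by
      refine ⟨(mor_product hE).2 ⟨hH₁ ▸ Subgroup.map_subtype_le _, f, id, hf.mono ?_,
        mor_id ?_, fun x _ => rfl⟩, fun y => ⟨?_, ?_⟩⟩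
      · subst hH₁
        rintro _ ⟨_, ⟨_, ⟨w, -, rfl⟩, rfl⟩, rfl⟩
        exact w.2.1
      · subst hH₁
        rintro _ ⟨_, ⟨_, ⟨w, -, rfl⟩, rfl⟩, rfl⟩
        exact w.2.2
      · subst hH₂
        rintro ⟨_, ⟨w, hw, rfl⟩, rfl⟩
        exact ⟨(w : Ω × Ω), hH₁ ▸ ⟨φ₁ w, ⟨w, hw, rfl⟩, rfl⟩, rfl⟩
      · subst hH₁ hH₂
        rintro ⟨_, ⟨_, ⟨w, hw, rfl⟩, rfl⟩, rfl⟩
        exact ⟨φ₂ w, ⟨w, hw, rfl⟩, rfl⟩
    have h := hst _ _ _ hiso (fun h => h)
    rwa [hH₁, hH₂, subgroupOf_map_subtype_self', subgroupOf_map_subtype_self'] at h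
  obtain ⟨e, he⟩ := exists_iso_of_marks (G := (R.prod S : Subgroup (Ω × Ω))) _ le_rfl hmarks
  let ee : LSet L ≃ LSet L := e
  have hee : ∀ (w : (R.prod S : Subgroup (Ω × Ω))) (x : LSet L),
      ee (φ₁ w • x) = φ₂ w • ee x := he
  have heR : ∀ (b : S) (x : LSet L), ee (rw' b • x) = rw' b • ee x := by
    intro b x
    have h := hee ⟨(1, (b : Ω)), R.one_mem, b.2⟩ x
    have e1 : φ₂ ⟨(1, (b : Ω)), R.one_mem, b.2⟩ = rw' b :=
      Subtype.ext (Prod.ext hf.map_one rfl)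
    rw [e1] at h
    exact h
  have heL : ∀ (u w : S), (u : Ω) ∈ R → (w : Ω) = f u → ∀ x : LSet L,
      ee (lw u • x) = lw w • ee x := by
    intro u w hu hw x
    have h := hee ⟨((u : Ω), 1), hu, S.one_mem⟩ x
    have e1 : φ₂ ⟨((u : Ω), 1), hu, S.one_mem⟩ = lw w := Subtype.ext (Prod.ext hw.symm rfl)
    rw [e1] at h
    exact h
  exact ⟨ee, heR, heL⟩

theorem exists_realization [Finite S] (F : FusionSystem S) :
    ∃ (G : Type u) (_ : Group G) (_ : Finite G) (ι : S →* G), F.IsRealizedBy ι := by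
  classical
  obtain ⟨E, hE⟩ := exists_productSystem F F
  obtain ⟨L, hL, hdiag, hne, -⟩ := exists_biset_scaled hE
  haveI : Finite (S.prod S : Subgroup (Ω × Ω)) :=
    Finite.of_equiv _ (Subgroup.prodEquiv S S).symm.toEquiv
  rw [← mark_lset] at hne
  obtain ⟨x₀, hx₀⟩ := exists_fixed hne
  have hfix : ∀ u : S, lw u • rw' u • x₀ = x₀ := by
    intro u
    rw [← mul_smul]
    exact hx₀ (mem_graphAut.2 (by
      show (1 : Ω) * (u : Ω) = apl (1 : MulAut S) ((u : Ω) * 1)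
      rw [one_mul, mul_one, apl_one u.2]))
  have hstab : ∀ x : LSet L, ∃ P f, Mor F P f ∧ ∀ a : S.prod S, a • x = x →
      ((a : Ω × Ω).1 ∈ P ∧ (a : Ω × Ω).2 = f (a : Ω × Ω).1) := by
    intro x
    obtain ⟨Q, hQ, g, hg⟩ := lset_stabilizer x
    have hd := hdiag Q hQ
    have hc := (closedFam_diag hE).of_conj (isConj_symm
      (map_conj_subgroupOf_isConj (isConj_refl (F := E) hd.le) g)) hd
    rw [subgroupOf_map_subtype_self'] at hc
    obtain ⟨P, f, hf, hD⟩ := hc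
    refine ⟨P, f, hf, fun a ha => (hD _).1 ⟨a, ⟨_, (hg a).1 ha, ?_⟩, rfl⟩⟩
    rw [MulEquiv.coe_toMonoidHom, MulAut.conj_apply]
    group
  let Z : Subgroup (Equiv.Perm (LSet L)) :=
    Subgroup.centralizer (Set.range fun b : S => (MulAction.toPerm (rw' b) : Equiv.Perm (LSet L)))
  let ι : S →* Z :=
    MonoidHom.mk' (fun u => ⟨MulAction.toPerm (lw u), Subgroup.mem_centralizer_iff.2 (by
      rintro _ ⟨b, rfl⟩
      refine Equiv.ext fun x => ?_
      show rw' b • lw u • x = lw u • rw' b • x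
      rw [← mul_smul, ← mul_smul, lw_rw'_comm])⟩) fun u v => Subtype.ext (Equiv.ext fun x => by
      show lw (u * v) • x = lw u • lw v • x
      rw [lw_mul, mul_smul])
  refine ⟨Z, inferInstance, inferInstance, ι, ?_, fun P hP φ hφ => ⟨fun h => ?_, ?_⟩⟩
  · refine (injective_iff_map_eq_one ι).2 fun u hu => ?_
    obtain ⟨P, f, hf, hx⟩ := hstab x₀
    have h1 : lw u • x₀ = x₀ := congrArg (fun (π : Z) => (π : Equiv.Perm (LSet L)) x₀) hu
    obtain ⟨h2, h3⟩ := hx _ h1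
    exact Subtype.ext (hf.injOn h2 P.one_mem (h3.symm.trans hf.map_one.symm))
  · obtain ⟨ee, heR, heL⟩ := exists_twist_equiv hE L hL (mor_extendFn h)
    refine ⟨⟨ee, Subgroup.mem_centralizer_iff.2 (by
      rintro _ ⟨b, rfl⟩
      exact Equiv.ext fun x => (heR b x).symm)⟩, fun x => Subtype.ext (Equiv.ext fun y => ?_)⟩
    show lw (⟨φ x, hφ x⟩ : S) • y = ee (lw (⟨x, hP x.2⟩ : S) • ee.symm y)
    rw [heL ⟨x, hP x.2⟩ ⟨φ x, hφ x⟩ x.2 (extendFn_coe φ x).symm, Equiv.apply_symm_apply]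
  · rintro ⟨⟨π, hπ⟩, hconj⟩
    obtain ⟨R, f, hf, hx⟩ := hstab (π x₀)
    have key : ∀ x : P, φ x ∈ R ∧ f (φ x) = x := by
      intro x
      have h1 := congrArg (fun (σ : Z) => (σ : Equiv.Perm (LSet L))
        (π (rw' (⟨x, hP x.2⟩ : S) • x₀))) (hconj x)
      have h2 : lw (⟨φ x, hφ x⟩ : S) • π (rw' (⟨x, hP x.2⟩ : S) • x₀) =
          π (lw (⟨x, hP x.2⟩ : S) • π.symm (π (rw' (⟨x, hP x.2⟩ : S) • x₀))) := h1
      rw [Equiv.symm_apply_apply, hfix] at h2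
      have h3 : π (rw' (⟨x, hP x.2⟩ : S) • x₀) = rw' (⟨x, hP x.2⟩ : S) • π x₀ := by
        have := Subgroup.mem_centralizer_iff.1 hπ _ ⟨⟨x, hP x.2⟩, rfl⟩
        exact (congrArg (fun σ : Equiv.Perm (LSet L) => σ x₀) this).symm
      rw [h3, ← mul_smul] at h2
      obtain ⟨h4, h5⟩ := hx _ h2
      change (φ x) * 1 ∈ R at h4
      change 1 * (x : Ω) = f (φ x * 1) at h5
      rw [mul_one] at h4 h5
      rw [one_mul] at h5
      exact ⟨h4, h5.symm⟩
    obtain ⟨I, hI⟩ := hf.exists_iso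
    obtain ⟨g, hg, hgf, -⟩ := hI.symm
    have hPI : P ≤ I := fun x hx' => by
      obtain ⟨h1, h2⟩ := key ⟨x, hx'⟩
      exact (show f (φ ⟨x, hx'⟩) = x from h2) ▸ hI.mem h1
    refine (hg.1.mono hPI).hom_eq fun x => ?_
    obtain ⟨h1, h2⟩ := key x
    conv_rhs => rw [← h2]
    exact (hgf _ h1).symm

end Cfsg.Agent.FusSys
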