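import Cfsg.Agent.FusSys.InvariantCrit
import Cfsg.Agent.FusSys.Alperin
import Cfsg.Agent.FusSys.Hyperfocal

/-!
Subsystems containing the `p`-elements of the automorphism groups of the centric subgroups.
-/

set_option autoImplicit false

namespace Cfsg.Agent.FusSys

open Cfsg Cfsg.FusionSystem

universe u

variable {Ω : Type u} [Group Ω] {S P Q : Subgroup Ω} {F : FusionSystem S} {f : Ω → Ω} {p : ℕ}

/-- `O^{p'}` of `Aut_F(P)`, inside `Aut(P)`. -/
def opPrime (F : FusionSystem S) (p : ℕ) (P : Subgroup Ω) : Subgroup (MulAut P) :=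
  (Subgroup.closure {α : ↥(F.autGroup P) | ∃ k : ℕ, orderOf α = p ^ k}).map (F.autGroup P).subtype

theorem mem_opPrime {α : MulAut P} (hα : α ∈ F.autGroup P) {k : ℕ} (hk : orderOf α = p ^ k) :
    α ∈ opPrime F p P :=
  ⟨⟨α, hα⟩, Subgroup.subset_closure ⟨k, by rw [Subgroup.orderOf_mk]; exact hk⟩, rfl⟩

/-- `D` contains `O^{p'}` of the automorphism group of every centric subgroup. -/
def ContainsCentricOp (D F : FusionSystem S) (p : ℕ) : Prop :=
  ∀ R : Subgroup Ω, F.IsCentric R → opPrime F p R ≤ D.autGroup R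

/-- The maps in every subsystem containing the centric `O^{p'}`. -/
def MinOpRel (F : FusionSystem S) (p : ℕ) (P : Subgroup Ω) (f : Ω → Ω) : Prop :=
  Mor F P f ∧ ∀ D : FusionSystem S, ContainsCentricOp D F p → Mor D P f

theorem subRel_minOp : SubRel F S (MinOpRel F p) where
  congr := fun ⟨h1, h2⟩ he => ⟨h1.congr he, fun D hD => (h2 D hD).congr he⟩
  le := fun h => ⟨h.1.le, fun _ hx => h.1.mem_S hx⟩
  conj := fun hP hs => ⟨mor_conj hP hs, mor_conj hP hs, fun _ _ => mor_conj hP hs⟩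
  comp := fun _ h _ h' hfR => ⟨h.1.comp h'.1 hfR, fun D hD => (h.2 D hD).comp (h'.2 D hD) hfR⟩
  inv := by
    intro P R f g hf h hg hgf
    refine ⟨hg.1, fun D hD => ?_⟩
    obtain ⟨k, hk, hkl, -⟩ := (show Iso D P R f from ⟨h.2 D hD, hf.2⟩).symm
    refine hk.1.congr fun y hy => ?_
    obtain ⟨x, hx, rfl⟩ := hf.exists_eq hy
    rw [hgf x hx, hkl x hx]

/-- The least subsystem containing the centric `O^{p'}`. -/
def minOp (F : FusionSystem S) (p : ℕ) : FusionSystem S := subSys (subRel_minOp (F := F) (p := p))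

theorem mor_minOp : Mor (minOp F p) P f ↔ MinOpRel F p P f :=
  ⟨fun h => ((mor_subSys subRel_minOp).1 h).2, fun h => (mor_subSys subRel_minOp).2 ⟨h.1, h⟩⟩

theorem minOp_le : minOp F p ≤ F := le_iff_mor.2 fun _ _ h => (mor_minOp.1 h).1

theorem minOp_le_of {D : FusionSystem S} (hD : ContainsCentricOp D F p) : minOp F p ≤ D :=
  le_iff_mor.2 fun _ _ h => (mor_minOp.1 h).2 D hD

theorem opPrime_le_autGroup : opPrime F p P ≤ F.autGroup P := Subgroup.map_subtype_le _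

theorem mor_minOp_of_mem (hP : F.IsCentric P) {α : MulAut P} (hα : α ∈ opPrime F p P) :
    Mor (minOp F p) P (apl α) :=
  mor_minOp.2 ⟨(iso_apl hP.1 (opPrime_le_autGroup hα)).1,
    fun D hD => (iso_apl hP.1 (hD P hP hα)).1⟩

theorem contains_minOp : ContainsCentricOp (minOp F p) F p := fun _ hR α hα =>
  Subgroup.subset_closure ((mor_minOp_of_mem hR hα).hom_eq fun x => (apl_coe α x).symm)

theorem Iso.conjAut_opPrime (hf : Iso F P Q f) {α : MulAut P} (hα : α ∈ opPrime F p P) :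
    hf.conjAut α ∈ opPrime F p Q := by
  have hle : opPrime F p P ≤ (opPrime F p Q).comap hf.conjAut.toMonoidHom := by
    rw [opPrime, MonoidHom.map_closure, Subgroup.closure_le]
    rintro _ ⟨⟨γ, hγ⟩, ⟨k, hk⟩, rfl⟩
    refine mem_opPrime (hf.conjAut_mem hγ) (k := k) ?_
    rw [Subgroup.orderOf_mk] at hk
    rw [← hk]
    exact orderOf_injective hf.conjAut.toMonoidHom hf.conjAut.injective γ
  exact hle hα

theorem map_apl_eq {T : Subgroup Ω} {β : MulAut T} (hP : P ≤ T) {y : Ω} :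
    y ∈ (P.subgroupOf T).map (T.subtype.comp β.toMonoidHom) ↔ ∃ x ∈ P, apl β x = y :=
  ⟨fun ⟨x, hx, hxy⟩ => ⟨x, hx, (apl_coe β x).trans hxy⟩,
    fun ⟨x, hx, hxy⟩ => ⟨⟨x, hP hx⟩, hx, (apl_apply β (hP hx)).symm.trans hxy⟩⟩

/-- The least such subsystem is invariant under `Aut_F(S)`. -/
theorem transInv_minOp [Finite S] : TransInv (minOp F p) F := by
  intro P f hf β hβ
  let N : Subgroup Ω → (Ω → Ω) → Prop := fun P f => P ≤ S ∧ (∀ x ∈ P, f x ∈ S) ∧
    ∀ β ∈ F.autGroup S, ∃ h, Mor (minOp F p) ((P.subgroupOf S).map (S.subtype.comp β.toMonoidHom)) h ∧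
      ∀ x ∈ P, h (apl β x) = apl β (f x)
  have hN : SubRel F S N := by
    refine ⟨fun {P f g} ⟨h1, h2, h3⟩ he => ⟨h1, fun x hx => he x hx ▸ h2 x hx, fun β hβ => ?_⟩,
      fun h => ⟨h.1, h.2.1⟩, fun {P s} hP hs => ⟨mor_conj hP hs, hP,
        fun x hx => S.mul_mem (S.mul_mem hs (hP hx)) (S.inv_mem hs), fun β hβ => ?_⟩, ?_, ?_⟩
    · obtain ⟨h, hh, hx⟩ := h3 β hβ
      exact ⟨h, hh, fun x hxP => by rw [he x hxP]; exact hx x hxP⟩
    · have hm := (iso_apl (F := F) le_rfl hβ).1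
      refine ⟨_, mor_conj ?_ (hm.mem_S hs), fun x hx => (hm.map_conj hs (hP hx)).symm⟩
      rintro _ ⟨x, -, rfl⟩
      exact (β x).2
    · rintro P R f g - ⟨h1, h2, h3⟩ hg ⟨h1', h2', h3'⟩ hfR
      refine ⟨h1, fun x hx => h2' _ (hfR x hx), fun β hβ => ?_⟩
      obtain ⟨a, ha, hax⟩ := h3 β hβ
      obtain ⟨b, hb, hbx⟩ := h3' β hβ
      refine ⟨b ∘ a, ha.comp hb fun y hy => ?_, fun x hx => ?_⟩
      · obtain ⟨x, hx, rfl⟩ := (map_apl_eq h1).1 hy
        rw [hax x hx]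
        exact (map_apl_eq h1').2 ⟨_, hfR x hx, rfl⟩
      · show b (a (apl β x)) = _
        rw [hax x hx, hbx _ (hfR x hx)]
        rfl
    · rintro P R f g hf ⟨h1, h2, h3⟩ hg hgf
      refine ⟨hg.left_le, fun y hy => hg.right_le (hg.mem hy), fun β hβ => ?_⟩
      obtain ⟨a, ha, hax⟩ := h3 β hβ
      obtain ⟨M, hM⟩ := ha.exists_iso
      obtain ⟨a', ha', hal, -⟩ := hM.symm
      refine ⟨a', ha'.1.mono ?_, fun y hy => ?_⟩
      · intro z hz
        obtain ⟨y, hy, rfl⟩ := (map_apl_eq hg.left_le).1 hz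
        obtain ⟨x, hx, rfl⟩ := hf.exists_eq hy
        rw [← hax x hx]
        exact hM.mem ((map_apl_eq h1).2 ⟨x, hx, rfl⟩)
      · obtain ⟨x, hx, rfl⟩ := hf.exists_eq hy
        rw [← hax x hx, hal _ ((map_apl_eq h1).2 ⟨x, hx, rfl⟩), hgf x hx]
  have hD : ContainsCentricOp (subSys hN) F p := by
    intro R hR α hα
    refine Subgroup.subset_closure (((mor_subSys hN).2
      ⟨(iso_apl hR.1 (opPrime_le_autGroup hα)).1, hR.1, fun x hx => hR.1 (apl_mem α hx),
        fun b hb => ?_⟩).hom_eq fun x => (apl_coe α x).symm)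
    have hi : Iso F R ((R.subgroupOf S).map (S.subtype.comp b.toMonoidHom)) (apl b) :=
      ⟨(iso_apl le_rfl hb).1.mono hR.1, fun y => map_apl_eq hR.1⟩
    have hRc : F.IsCentric ((R.subgroupOf S).map (S.subtype.comp b.toMonoidHom)) :=
      ⟨hi.right_le, fun Q hQ => hR.2 Q (isConj_trans hi.isConj hQ)⟩
    exact ⟨_, mor_minOp_of_mem hRc (hi.conjAut_opPrime hα), fun x hx => hi.conjAut_apl α hx⟩
  exact (((mor_subSys hN).1 (le_iff_mor.1 (minOp_le_of hD) P f hf)).2).2.2 β hβ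

variable [Fact p.Prime] [Finite S] (hS : IsPGroup p S) (hF : F.IsSaturated p)

include hS hF

/-- Every map is an automorphism of `S` after a map of the least such subsystem. -/
theorem frattini_minOp : ∀ P f, Mor F P f → FrattiniRel (minOp F p) F P f := by
  have hC : TransInv (minOp F p) F := transInv_minOp
  have hM : SubRel F S (fun P f => Mor F P f ∧ FrattiniRel (minOp F p) F P f) := by
    refine ⟨fun h he => ⟨h.1.congr he, h.2.congr he⟩, fun h => ⟨h.1.le, fun _ hx => h.1.mem_S hx⟩,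
      fun hP hs => ⟨mor_conj hP hs, mor_conj hP hs, 1, Subgroup.one_mem _, _, mor_conj hP hs,
        fun x hx => (apl_one (S.mul_mem (S.mul_mem hs (hP hx)) (S.inv_mem hs))).symm⟩,
      fun _ h hg h' hfR => ⟨h.1.comp h'.1 hfR, FrattiniRel.comp' hC hg.le h.2 h'.2 hfR⟩,
      fun hf h hg hgf => ⟨hg.1, FrattiniRel.inv' hC hf h.2 hgf⟩⟩
  intro P f hf
  suffices h : F ≤ subSys hM from (((mor_subSys hM).1 (le_iff_mor.1 h P f hf)).2).2
  refine le_of_aut_le' hS hF fun R hR hbig => ?_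
  have key : ∀ {X : Subgroup Ω} {g : Ω → Ω}, Nat.card R < Nat.card X → Mor F X g →
      FrattiniRel (minOp F p) F X g := fun {X g} hc hg =>
    (((mor_subSys hM).1 (hbig X g hc hg)).2).2
  suffices hall : ∀ α ∈ F.autGroup R, FrattiniRel (minOp F p) F R (apl α) from fun α hα =>
    Subgroup.subset_closure (((mor_subSys hM).2 ⟨(iso_apl
      (hR.elim (fun e => e.le) fun e => e.1.1) hα).1, (iso_apl
      (hR.elim (fun e => e.le) fun e => e.1.1) hα).1, hall α hα⟩).hom_eq fun x => (apl_coe α x).symm)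
  rcases hR with rfl | hR
  · exact fun α hα => ⟨α, hα, id, mor_id le_rfl, fun x _ => rfl⟩
  intro α hα
  have hRc := hR.1
  have hRn := hR.2.1
  have hlt : R < S := by
    refine lt_of_le_of_ne hRc.1 ?_
    rintro rfl
    obtain ⟨-, -, _, M, hM'⟩ := hR
    exact (essential_lt_top hS hF ⟨hRc, hRn, ‹_›, M, hM'⟩).ne rfl
  haveI := finite_of_le hRc.1
  haveI : Finite (MulAut R) := Finite.of_injective _ MulEquiv.toEquiv_injective
  obtain ⟨-, U, hU⟩ := fullyAutomized_of_fullyNormalized hS hF hRn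
  let A : Subgroup (F.autGroup R) := Subgroup.closure {a : ↥(F.autGroup R) | ∃ k : ℕ, orderOf a = p ^ k}
  haveI hA : A.Normal := by
    refine ⟨fun a ha b => ?_⟩
    have hle : A ≤ A.comap (MulAut.conj b).toMonoidHom := (Subgroup.closure_le _).2 fun x hx => by
      obtain ⟨k, hk⟩ := hx
      refine Subgroup.subset_closure ⟨k, ?_⟩
      exact (orderOf_injective (MulAut.conj b).toMonoidHom (MulAut.conj b).injective x).trans hk
    exact hle ha
  have hUA : (U : Subgroup (F.autGroup R)) ≤ A := fun u hu => by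
    obtain ⟨k, hk⟩ := IsPGroup.iff_orderOf.1 U.2 ⟨u, hu⟩
    exact Subgroup.subset_closure ⟨k, by rwa [Subgroup.orderOf_mk] at hk⟩
  let U' : Sylow p A := U.subtype hUA
  have hfr := Sylow.normalizer_sup_eq_top U'
  rw [Sylow.coe_subtype, Subgroup.subgroupOf_map_subtype, inf_eq_left.2 hUA] at hfr
  have ham : (⟨α, hα⟩ : F.autGroup R) ∈ (⊤ : Subgroup (F.autGroup R)) := Subgroup.mem_top _
  rw [← hfr, Subgroup.mem_sup_of_normal_right] at ham
  obtain ⟨n, hn, e, he, hne⟩ := ham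
  have hFe : FrattiniRel (minOp F p) F R (apl (e : MulAut R)) :=
    ⟨1, Subgroup.one_mem _, _, mor_minOp_of_mem hRc ⟨e, he, rfl⟩,
      fun x hx => (apl_one (hRc.1 (apl_mem _ hx))).symm⟩
  have hFn : FrattiniRel (minOp F p) F R (apl (n : MulAut R)) := by
    obtain ⟨g, hg, hgn⟩ := (isReceptive_iff.1 (receptive_of_fullyNormalized hS hF hRn)).2 R _
      (iso_apl (F := F) hRc.1 n.2)
    have hlt' : R < S ⊓ Subgroup.normalizer (R : Set Ω) := lt_inf_normalizer hS le_rfl hlt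
    have hle : S ⊓ Subgroup.normalizer (R : Set Ω) ≤ nPhi S R (apl (n : MulAut R)) := by
      rintro t ⟨htS, htn⟩
      obtain ⟨c, hc, hcx⟩ := exists_mem_autInducedBy (K := S) (P := R) htS htn
      have hcF : c ∈ F.autGroup R := autInducedBy_le_autGroup hRc.1 hc
      have hcU : (⟨c, hcF⟩ : F.autGroup R) ∈ (U : Subgroup (F.autGroup R)) :=
        hU.ge (Subgroup.mem_subgroupOf.2 hc)
      have h1 := (Subgroup.mem_normalizer_iff.1 hn _).1 hcU
      obtain ⟨h, hh, -, hhx⟩ := mem_autInducedBy_iff.1 (Subgroup.mem_subgroupOf.1 (hU.le h1))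
      refine mem_nPhi.2 ⟨htS, htn, h, hh, fun x hx => ?_⟩
      rw [← hhx _ (apl_mem _ hx)]
      show _ = apl ((n : MulAut R) * c * (n : MulAut R)⁻¹) _
      rw [apl_mul _ _ (apl_mem _ hx), apl_inv_apl _ hx, apl_mul _ _ hx, hcx x hx]
    have hcard : Nat.card R < Nat.card ↥(S ⊓ Subgroup.normalizer (R : Set Ω)) := by
      haveI := finite_of_le (inf_le_left : S ⊓ Subgroup.normalizer (R : Set Ω) ≤ S)
      exact lt_of_not_ge fun hle' => hlt'.ne (Subgroup.eq_of_le_of_card_ge hlt'.le hle')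
    exact ((key hcard (hg.mono hle)).mono hlt'.le).congr fun x hx => (hgn x hx).symm
  exact (FrattiniRel.comp' hC hRc.1 hFe hFn fun x hx => apl_mem _ hx).congr fun x hx => by
    show apl α x = apl (n : MulAut R) (apl (e : MulAut R) x)
    rw [← apl_mul _ _ hx]
    exact congrArg (fun b : F.autGroup R => apl (b : MulAut R) x) hne.symm

/-- The least such subsystem contains all `p`-elements. -/
theorem opPrime_le_minOp (hP : P ≤ S) : opPrime F p P ≤ (minOp F p).autGroup P := by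
  rw [opPrime, MonoidHom.map_closure, Subgroup.closure_le]
  rintro _ ⟨⟨γ, hγ⟩, ⟨k, hk⟩, rfl⟩
  haveI := finite_of_le hP
  obtain ⟨Q, g, hQn, -, hgi, -⟩ := exists_fullyNormalized_mor hS hF hP
  haveI := finite_of_le hQn.1
  haveI : Finite (MulAut Q) := Finite.of_injective _ MulEquiv.toEquiv_injective
  obtain ⟨-, U, hU⟩ := fullyAutomized_of_fullyNormalized hS hF hQn
  have hγ' := hgi.conjAut_mem hγ
  rw [Subgroup.orderOf_mk] at hk
  have hpow : (⟨hgi.conjAut γ, hγ'⟩ : F.autGroup Q) ^ p ^ k = 1 := Subtype.ext (by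
    show hgi.conjAut γ ^ p ^ k = 1
    rw [← map_pow, ← hk, pow_orderOf_eq_one, map_one])
  obtain ⟨a, ha⟩ := exists_conj_mem_sylow (isPGroup_zpowers_of_pow_eq_one hpow) U
  have h2 := Subgroup.mem_subgroupOf.1 (hU.le (ha _ (Subgroup.mem_zpowers _)))
  obtain ⟨s, hs, -, hsx⟩ := mem_autInducedBy_iff.1 h2
  have hh : Iso F P Q (apl (a : MulAut Q) ∘ g) := hgi.comp (iso_apl hQn.1 a.2)
  obtain ⟨β, hβ, e, he, hhe⟩ := frattini_minOp hS hF P _ hh.1
  obtain ⟨M, hM⟩ := he.exists_iso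
  obtain ⟨e', he', hel, -⟩ := hM.symm
  set t := apl β⁻¹ s with htdef
  have ht : t ∈ S := apl_mem β⁻¹ hs
  have hm := (iso_apl (F := F) le_rfl hβ).1
  have hval : ∀ x ∈ P, e (apl γ x) = t * e x * t⁻¹ := by
    intro x hx
    have h3 : apl (a : MulAut Q) (g (apl γ x)) = s * apl (a : MulAut Q) (g x) * s⁻¹ := by
      rw [← hgi.conjAut_apl γ hx, ← hsx _ (apl_mem _ (hgi.mem hx))]
      show _ = apl ((a : MulAut Q) * hgi.conjAut γ * (a : MulAut Q)⁻¹) _
      rw [apl_mul _ _ (apl_mem _ (hgi.mem hx)), apl_inv_apl _ (hgi.mem hx),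
        apl_mul _ _ (hgi.mem hx)]
    have h4 := hhe _ (apl_mem γ hx)
    have h5 := hhe x hx
    simp only [Function.comp_apply] at h4 h5
    rw [h4, h5] at h3
    refine hm.injOn (he.mem_S (apl_mem γ hx))
      (S.mul_mem (S.mul_mem ht (he.mem_S hx)) (S.inv_mem ht)) ?_
    rw [h3, hm.map_conj ht (he.mem_S hx), htdef, apl_apl_inv β hs]
  have hmor : Mor (minOp F p) P (apl γ) := by
    have hMmem : ∀ x ∈ P, t * e x * t⁻¹ ∈ M := fun x hx => hval x hx ▸ hM.mem (apl_mem γ hx)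
    refine ((he.comp (mor_conj le_rfl ht) fun x hx => he.mem_S hx).comp he'.1 hMmem).congr
      fun x hx => ?_
    show apl γ x = e' (t * e x * t⁻¹)
    rw [← hval x hx, hel _ (apl_mem γ hx)]
  exact Subgroup.subset_closure (hmor.hom_eq fun x => (apl_coe γ x).symm)

/-- A subsystem containing the centric `O^{p'}` has the same centric subgroups. -/
theorem centric_iff_of_contains {E : FusionSystem S} (hEF : E.IsSubsystemOf F)
    (hE : ContainsCentricOp E F p) : E.IsCentric P ↔ F.IsCentric P := by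
  refine ⟨fun h => ⟨h.1, fun Q hQ => ?_⟩, fun h => centric_of_sub (fun R => hEF R) h⟩
  obtain ⟨f, hf⟩ := isConj_iff.1 hQ
  obtain ⟨β, hβ, e, he, hfe⟩ := frattini_minOp hS hF P f hf.1
  obtain ⟨M, hM⟩ := he.exists_iso
  have hME : E.IsConj P M := (show Iso E P M e from
    ⟨le_iff_mor.1 (minOp_le_of hE) _ _ hM.1, hM.2⟩).isConj
  have hc := h.2 M hME
  have hm := (iso_apl (F := F) le_rfl hβ).1
  rintro y ⟨hyS, hyc⟩
  have hz := apl_mem β⁻¹ hyS
  have h1 : apl β⁻¹ y ∈ M := hc ⟨hz, Subgroup.mem_centralizer_iff.2 fun w hw => by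
    obtain ⟨x, hx, rfl⟩ := hM.exists_eq hw
    have hfx : f x ∈ Q := hf.mem hx
    refine hm.injOn (S.mul_mem (he.mem_S hx) hz) (S.mul_mem hz (he.mem_S hx)) ?_
    rw [hm.map_mul (he.mem_S hx) hz, hm.map_mul hz (he.mem_S hx), apl_apl_inv β hyS, ← hfe x hx]
    exact Subgroup.mem_centralizer_iff.1 hyc _ hfx⟩
  obtain ⟨x, hx, hxy⟩ := hM.exists_eq h1
  rw [← apl_apl_inv β hyS, ← hxy, ← hfe x hx]
  exact hf.mem hx

end Cfsg.Agent.FusSys
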