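import Cfsg.Agent.QdFree.Qd
import Cfsg.Agent.QdFree.Involve

/-!
A section `Qd(p)` read off from an action on a subgroup.
-/

set_option autoImplicit false

namespace Cfsg.Agent.FusSys.QdSection

open Cfsg Cfsg.Agent.QdFree Matrix
open scoped Matrix

universe u

variable {p : ℕ} [Fact p.Prime]

local notation "Vp" => Multiplicative (Fin 2 → ZMod p)
local notation "SLp" => SpecialLinearGroup (Fin 2) (ZMod p)

theorem vecAct_eq_one_imp {A : SLp} (h : ∀ v : Vp, vecAct A v = v) : A = 1 := by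
  apply Subtype.ext
  have h' : ∀ w : Fin 2 → ZMod p,
      (A : Matrix (Fin 2) (Fin 2) (ZMod p)) *ᵥ w = w := fun w =>
    congrArg Multiplicative.toAdd (h (Multiplicative.ofAdd w))
  exact Matrix.toLin'.injective (LinearMap.ext fun w => by simp [h'])

theorem involves_qd_of_action {Y : Type u} [Group Y] [Finite Y] (h2 : p ≠ 2)
    {K T : Type u} [Group K] [Group T] (ψ : K →* Y) (φ : T →* Y)
    (π : T →* Vp) (hπ : Function.Surjective π)
    (A : K →* SLp) (hA : Function.Surjective A) (hker : ∀ t, φ t = 1 → π t = 1)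
    (h : ∀ k t, ∃ t', φ t' = ψ k * φ t * (ψ k)⁻¹ ∧ π t' = vecAct (A k) (π t)) :
    Involves ↥(Cfsg.qd p) Y := by
  set R := π.ker.map φ with hR
  set N := Subgroup.normalizer (R : Set Y) with hN
  have hψ : ∀ k, ψ k ∈ N := by
    have key : ∀ k : K, ∀ r ∈ R, ψ k * r * (ψ k)⁻¹ ∈ R := by
      rintro k _ ⟨t, ht, rfl⟩
      obtain ⟨t', h1, h2⟩ := h k t
      exact ⟨t', show π t' = 1 by rw [h2, show π t = 1 from ht, map_one], h1⟩
    intro k
    rw [hN, Subgroup.mem_normalizer_iff]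
    refine fun r => ⟨key k r, fun hr => ?_⟩
    have := key k⁻¹ _ hr
    simpa [mul_assoc] using this
  have hφ : ∀ t, φ t ∈ N := fun t => by
    rw [hN, Subgroup.mem_normalizer_iff]
    intro r
    constructor
    · rintro ⟨s, hs, rfl⟩
      exact ⟨t * s * t⁻¹, π.normal_ker.conj_mem s hs t, by simp⟩
    · rintro ⟨s, hs, hsr⟩
      refine ⟨t⁻¹ * s * t, π.normal_ker.conj_mem' s hs t, ?_⟩
      simp [map_mul, map_inv, hsr, mul_assoc]
  haveI : (R.subgroupOf N).Normal := Subgroup.normal_in_normalizer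
  let q : N →* N ⧸ R.subgroupOf N := QuotientGroup.mk' _
  let φq : T →* N ⧸ R.subgroupOf N := q.comp (φ.codRestrict N hφ)
  let ψq : K →* N ⧸ R.subgroupOf N := q.comp (ψ.codRestrict N hψ)
  have hφker : ∀ t, φq t = 1 ↔ φ t ∈ R := fun t =>
    (QuotientGroup.eq_one_iff _).trans Subgroup.mem_subgroupOf
  have hψker : ∀ k, ψq k = 1 ↔ ψ k ∈ R := fun k =>
    (QuotientGroup.eq_one_iff _).trans Subgroup.mem_subgroupOf
  have hπR : ∀ t, φ t ∈ R → π t = 1 := by
    rintro t ⟨s, hs, hst⟩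
    have h3 := hker (s⁻¹ * t) (by rw [map_mul, map_inv, hst, inv_mul_cancel])
    rwa [map_mul, map_inv, MonoidHom.mem_ker.1 hs, inv_one, one_mul] at h3
  have hk : π.ker ≤ φq.ker := fun t ht => (hφker t).2 ⟨t, ht, rfl⟩
  let ι : Vp →* N ⧸ R.subgroupOf N :=
    π.liftOfRightInverse _ (Function.rightInverse_surjInv hπ) ⟨φq, hk⟩
  have hι' : ∀ t, ι (π t) = φq t := fun t =>
    MonoidHom.liftOfRightInverse_comp_apply π _ (Function.rightInverse_surjInv hπ) ⟨φq, hk⟩ t
  have hι : Function.Injective ι := by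
    rw [injective_iff_map_eq_one]
    intro v hv
    obtain ⟨t, rfl⟩ := hπ v
    exact hπR t ((hφker t).1 ((hι' t).symm.trans hv))
  have hAker : ψq.rangeRestrict.ker ≤ A.ker := by
    intro k hk
    rw [MonoidHom.ker_rangeRestrict, MonoidHom.mem_ker, hψker] at hk
    obtain ⟨s, hs, hsk⟩ := hk
    refine MonoidHom.mem_ker.2 (vecAct_eq_one_imp fun v => ?_)
    obtain ⟨t, rfl⟩ := hπ v
    obtain ⟨t', h1, h3⟩ := h k t
    have h4 : φ (t' * (s * t * s⁻¹)⁻¹) = 1 := by
      rw [map_mul, map_inv, h1, ← hsk]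
      simp [mul_assoc]
    have h5 := hker _ h4
    rw [map_mul, map_inv, mul_inv_eq_one, map_mul, map_mul, map_inv,
      MonoidHom.mem_ker.1 hs, one_mul, inv_one, mul_one] at h5
    rw [← h3, h5]
  let A' : ψq.range →* SLp :=
    ψq.rangeRestrict.liftOfRightInverse _
      (Function.rightInverse_surjInv ψq.rangeRestrict_surjective) ⟨A, hAker⟩
  have hA' : ∀ k, A' (ψq.rangeRestrict k) = A k := fun k =>
    MonoidHom.liftOfRightInverse_comp_apply _ _
      (Function.rightInverse_surjInv ψq.rangeRestrict_surjective) ⟨A, hAker⟩ k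
  have key : Involves ↥(Cfsg.qd p) (N ⧸ R.subgroupOf N) := by
    refine involves_qd_of_natural h2 ι hι (M := ψq.range) A'
      (fun B => ?_) (fun m v => ?_)
    · obtain ⟨k, hk⟩ := hA B
      exact ⟨ψq.rangeRestrict k, (hA' k).trans hk⟩
    · obtain ⟨k, rfl⟩ := ψq.rangeRestrict_surjective m
      obtain ⟨t, rfl⟩ := hπ v
      obtain ⟨t', h1, h3⟩ := h k t
      rw [hA', ← h3, hι', hι']
      show ψq k * φq t * (ψq k)⁻¹ = φq t'
      have h6 : φ.codRestrict N hφ t' = ψ.codRestrict N hψ k * φ.codRestrict N hφ t *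
          (ψ.codRestrict N hψ k)⁻¹ := Subtype.ext h1
      simp only [φq, ψq, MonoidHom.comp_apply, h6, map_mul, map_inv]
  exact involves_of_sec key (K := N) (f := q) (QuotientGroup.mk'_surjective _)

end Cfsg.Agent.FusSys.QdSection
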