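import Cfsg.Agent.FusSys.GfsFree
import Cfsg.Agent.FusSys.QdSection
import Cfsg.Agent.QdFree.Control

/-!
A group involving `Qd(p)` has a fusion system with a model involving `Qd(p)`.
-/

set_option autoImplicit false

namespace Cfsg.Agent.FusSys.QdSection

open Cfsg Cfsg.FusionSystem Cfsg.Agent.FusSys Cfsg.Agent.QdFree

universe u

variable {G : Type u} [Group G] [Finite G] {p : ℕ} [Fact p.Prime]

/-- A coprime quotient of the normalizer of a fully normalized centric subgroup is a model. -/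
theorem exists_quotient_model (S : Sylow p G) {Q : Subgroup G}
    (hQn : (groupFusionSystem (S : Subgroup G)).IsFullyNormalized Q)
    (hQc : (groupFusionSystem (S : Subgroup G)).IsCentric Q) :
    ∃ (K₁ : Subgroup ↥(Subgroup.normalizer (Q : Set G))) (_ : K₁.Normal)
      (N : FusionSystem (normalizerIn (S : Subgroup G) Q))
      (ι : ↥(normalizerIn (S : Subgroup G) Q) →* ↥(Subgroup.normalizer (Q : Set G)) ⧸ K₁),
      (groupFusionSystem (S : Subgroup G)).IsNormalizerSystem Q N ∧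
      (Nat.card K₁).Coprime p ∧
      N.IsModel p (↥(Subgroup.normalizer (Q : Set G)) ⧸ K₁) ι := by
  obtain ⟨N, hN⟩ : ∃ N, (groupFusionSystem (S : Subgroup G)).IsNormalizerSystem Q N :=
    ⟨_, isNormalizerSystem_normalizerSys (F := groupFusionSystem (S : Subgroup G)) hQn.1⟩
  set Ng := Subgroup.normalizer (Q : Set G) with hNg
  have hQS : Q ≤ (S : Subgroup G) := hQn.1
  have hTN : normalizerIn (S : Subgroup G) Q ≤ Ng := inf_le_right
  haveI : Finite (normalizerIn (S : Subgroup G) Q) := inferInstance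
  have hTp : IsPGroup p (normalizerIn (S : Subgroup G) Q) := S.2.to_le inf_le_left
  set C := Subgroup.centralizer (Q : Set G) with hC
  have hsyl := (isFullyNormalized_gfs_iff S hQS).1 hQn
  have hcen := sylIn_centralizer_of_normalizer S hsyl
  set Z := centralizerIn (S : Subgroup G) Q
  have hZQ : Z ≤ Q := centric_self hQc
  -- the normal complement in the centralizer
  obtain ⟨T, hT⟩ := (sylIn_iff (S.2.to_le inf_le_left) hcen.1).1 hcen
  have hTc : ∀ c : C, ∀ z ∈ (T : Subgroup C), c * z = z * c := fun c z hz => by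
    rw [hT, Subgroup.mem_subgroupOf] at hz
    exact Subtype.ext (Subgroup.mem_centralizer_iff.1 c.2 _ (hZQ hz)).symm
  obtain ⟨P₀, K, hKn, hK⟩ := Fusion.hasNormalPComplement_of_normalizer_le_centralizer
    (P := T) (fun c _ => Subgroup.mem_centralizer_iff.2 fun z hz => (hTc c z hz).symm)
  have hKp : (Nat.card K).Coprime p := by
    refine ((Fact.out : p.Prime).coprime_iff_not_dvd.2 ?_).symm
    rw [← hK.index_eq_card]
    exact P₀.not_dvd_index
  set K₀ := K.map C.subtype with hK₀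
  have hKc : (Nat.card K₀).Coprime p := by
    rw [hK₀, Subgroup.card_map_of_injective C.subtype_injective]; exact hKp
  have hKC : K₀ ≤ C := Subgroup.map_subtype_le _
  -- elements of `C` of order prime to `p` lie in the complement
  have hKmem : ∀ c : C, (orderOf c).Coprime p → c ∈ K := by
    intro c hc
    haveI := hKn
    obtain ⟨e, he⟩ := IsPGroup.iff_card.1 P₀.2
    refine (QuotientGroup.eq_one_iff c).1 (orderOf_eq_one_iff.1 ?_)
    refine Nat.eq_one_of_dvd_coprimes (Nat.Coprime.pow_right e hc)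
      (orderOf_map_dvd (QuotientGroup.mk' K) c) ?_
    rw [← he, ← hK.symm.index_eq_card, Subgroup.index_eq_card]
    exact orderOf_dvd_natCard _
  haveI : (K₀.subgroupOf Ng).Normal := by
    refine ⟨fun x hx n => Subgroup.mem_subgroupOf.2 ?_⟩
    obtain ⟨k, hk, hkx⟩ := Subgroup.mem_subgroupOf.1 hx
    have hnk : (n : G) * k * (n : G)⁻¹ ∈ C := Subgroup.mem_centralizer_iff.2 fun q hq => by
      have h1 := Subgroup.mem_centralizer_iff.1 k.2 ((n : G)⁻¹ * q * n)
        ((Subgroup.mem_normalizer_iff''.1 n.2 q).1 hq)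
      calc q * (n * k * (n : G)⁻¹) = n * (((n : G)⁻¹ * q * n) * k) * (n : G)⁻¹ := by group
        _ = n * (k * ((n : G)⁻¹ * q * n)) * (n : G)⁻¹ := by rw [h1]
        _ = n * k * (n : G)⁻¹ * q := by group
    refine ⟨⟨_, hnk⟩, hKmem _ ?_, ?_⟩
    · rw [← Subgroup.orderOf_coe]
      show (orderOf ((n : G) * k * (n : G)⁻¹)).Coprime p
      rw [show (n : G) * k * (n : G)⁻¹ = MulAut.conj (n : G) (k : G) from rfl, MulEquiv.orderOf_eq,
        Subgroup.orderOf_coe]
      exact hKp.coprime_dvd_left (Subgroup.orderOf_dvd_natCard _ hk)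
    · show (n : G) * k * (n : G)⁻¹ = _
      rw [show ((k : C) : G) = (x : G) from hkx]
      rfl
  let ι₀ : normalizerIn (S : Subgroup G) Q →* Ng := Subgroup.inclusion hTN
  have hr₀ : N.IsRealizedBy ι₀ := by
    refine ⟨Subgroup.inclusion_injective hTN, fun P hP φ hφ => ?_⟩
    constructor
    · intro hφN
      obtain ⟨-, -, -, g, hg, hgf, hgQ⟩ := (mor_normalizerSystem hN).1 (mor_extendFn hφN)
      obtain ⟨-, -, x, hx⟩ := mor_gfs.1 hg
      have hxN : x ∈ Ng := mem_normalizer_of_maps fun q hq => by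
        rw [← hx q (Subgroup.mem_sup_right hq)]
        exact (hgQ _).2 ⟨q, hq, rfl⟩
      refine ⟨⟨x, hxN⟩, fun y => Subtype.ext ?_⟩
      show φ y = x * y * x⁻¹
      rw [← hx y (Subgroup.mem_sup_left y.2), hgf y y.2, extendFn_coe]
    · rintro ⟨g, hg⟩
      have hgv : ∀ y : P, φ y = (g : G) * y * (g : G)⁻¹ := fun y => congrArg Subtype.val (hg y)
      have hgS : ∀ y ∈ P ⊔ Q, (g : G) * y * (g : G)⁻¹ ∈ (S : Subgroup G) := by
        have hle : P ⊔ Q ≤ (S : Subgroup G).comap (MulAut.conj (g : G)).toMonoidHom := by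
          refine sup_le (fun y hy => ?_) fun y hy => ?_
          · show (g : G) * y * (g : G)⁻¹ ∈ (S : Subgroup G)
            rw [← hgv ⟨y, hy⟩]
            exact (hφ ⟨y, hy⟩).1
          · exact hQS ((Subgroup.mem_normalizer_iff.1 g.2 y).1 hy)
        exact fun y hy => hle hy
      have hm : Mor (groupFusionSystem (S : Subgroup G)) (P ⊔ Q)
          (fun y => (g : G) * y * (g : G)⁻¹) :=
        mor_gfs.2 ⟨sup_le (hP.trans inf_le_left) hQS, hgS, g, fun _ _ => rfl⟩
      refine Mor.hom_eq ((mor_normalizerSystem hN).2 ⟨hm.mono le_sup_left, hP, fun y hy => ?_, _, hm,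
        fun _ _ => rfl, fun y => ?_⟩) hgv
      · show (g : G) * y * (g : G)⁻¹ ∈ normalizerIn (S : Subgroup G) Q
        rw [← hgv ⟨y, hy⟩]
        exact hφ _
      · refine ⟨fun hy => ⟨(g : G)⁻¹ * y * g, (Subgroup.mem_normalizer_iff''.1 g.2 y).1 hy, by group⟩,
          ?_⟩
        rintro ⟨q, hq, rfl⟩
        exact (Subgroup.mem_normalizer_iff.1 g.2 q).1 hq
  have hT₀ : ∃ T : Sylow p Ng, (T : Subgroup Ng) = ι₀.range := by
    obtain ⟨T₁, hT₁⟩ := (sylIn_iff hTp hTN).1 hsyl
    refine ⟨T₁, hT₁.trans ?_⟩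
    ext y
    exact ⟨fun hy => ⟨⟨y, hy⟩, rfl⟩, fun ⟨z, hz⟩ => hz ▸ z.2⟩
  have hKN : (Nat.card (K₀.subgroupOf Ng)).Coprime p := by
    rw [Nat.card_congr (Subgroup.subgroupOfEquivOfLe
      (hKC.trans (Subgroup.centralizer_le_normalizer _))).toEquiv]
    exact hKc
  obtain ⟨hr₁, hT₁⟩ := realized_quotient hTp hr₀ hT₀ (K₀.subgroupOf Ng) hKN
  set q := QuotientGroup.mk' (K₀.subgroupOf Ng)
  have hQN : Q ≤ Ng := Subgroup.le_normalizer
  have hQp : IsPGroup p Q := S.2.to_le hQS
  set Q₁ := (Q.subgroupOf Ng).map q with hQ₁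
  haveI : (Q.subgroupOf Ng).Normal := Subgroup.normal_in_normalizer
  have hQ₁O : Q₁ ≤ pCore p (Ng ⧸ K₀.subgroupOf Ng) :=
    Core.le_pCore (hN := (inferInstance : (Q.subgroupOf Ng).Normal).map q
      (QuotientGroup.mk'_surjective _)) ((hQp.comap_subtype).map q)
  have hmodel : N.IsModel p (Ng ⧸ K₀.subgroupOf Ng) (q.comp ι₀) := by
    refine ⟨inferInstance, hr₁, hT₁, fun y hy => hQ₁O ?_⟩
    obtain ⟨n, rfl⟩ := QuotientGroup.mk'_surjective _ y
    have hnC : (n : G) ∈ C := Subgroup.mem_centralizer_iff.2 fun a ha => by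
      have h1 := Subgroup.mem_centralizer_iff.1 hy (q ⟨a, hQN ha⟩)
        (hQ₁O ⟨⟨a, hQN ha⟩, ha, rfl⟩)
      rw [← map_mul, ← map_mul, ← mul_inv_eq_one, ← map_inv, ← map_mul] at h1
      have h2 := Subgroup.mem_subgroupOf.1 ((QuotientGroup.eq_one_iff _).1 h1)
      simp only [Subgroup.coe_mul, Subgroup.coe_inv] at h2
      set c := a * (n : G) * ((n : G) * a)⁻¹ with hc
      have hcQ : c ∈ Q := by
        rw [hc, show a * (n : G) * ((n : G) * a)⁻¹ = a * ((n : G) * a⁻¹ * (n : G)⁻¹) by group]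
        exact Q.mul_mem ha ((Subgroup.mem_normalizer_iff.1 n.2 _).1 (Q.inv_mem ha))
      have h3 : c ∈ Q ⊓ K₀ := ⟨hcQ, h2⟩
      rw [Cfsg.Agent.Layer.inf_eq_bot_of_isPGroup hQp hKc, Subgroup.mem_bot, hc,
        mul_inv_eq_one] at h3
      exact h3
    obtain ⟨⟨z, k⟩, hzk⟩ := (hK.symm.existsUnique ⟨n, hnC⟩).exists
    haveI := hKn
    obtain ⟨u, hu⟩ := MulAction.exists_smul_eq C P₀ T
    have hzQ : ((z : C) : G) ∈ Q := by
      have hP₀ : (z : C) ∈ (T : Subgroup C) := by
        have h1 : u * z * u⁻¹ ∈ (T : Subgroup C) := by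
          rw [← hu, Sylow.smul_def, Sylow.pointwise_smul_def]
          exact Subgroup.smul_mem_pointwise_smul_iff.2 z.2
        have h2 := hTc u⁻¹ _ h1
        rw [show u⁻¹ * (u * z * u⁻¹) = z * u⁻¹ by group] at h2
        rwa [mul_right_cancel h2]
      rw [hT, Subgroup.mem_subgroupOf] at hP₀
      exact hZQ hP₀
    refine ⟨⟨_, hQN hzQ⟩, hzQ, ?_⟩
    refine QuotientGroup.eq.2 (Subgroup.mem_subgroupOf.2 ⟨k, k.2, ?_⟩)
    have hzk' : ((z : C) : G) * ((k : C) : G) = n := congrArg Subtype.val hzk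
    show ((k : C) : G) = ((z : C) : G)⁻¹ * n
    rw [← hzk', inv_mul_cancel_left]
  exact ⟨_, inferInstance, _, _, hN, hKN, hmodel⟩

local notation "Vp" => Multiplicative (Fin 2 → ZMod p)
local notation "SLp" => Matrix.SpecialLinearGroup (Fin 2) (ZMod p)

/-- An action of `SL₂(p)` on a natural section below `Q`, inside the normalizer of `Q`. -/
def HasQdAction (p : ℕ) [Fact p.Prime] (Q : Subgroup G) : Prop :=
  ∃ (K T : Type u) (_ : Group K) (_ : Group T) (ψ : K →* G) (φ : T →* G)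
    (π : T →* Multiplicative (Fin 2 → ZMod p))
    (A : K →* Matrix.SpecialLinearGroup (Fin 2) (ZMod p)),
    Function.Surjective π ∧ Function.Surjective A ∧ IsPGroup p T ∧ Function.Injective φ ∧
    (∀ k, ψ k ∈ Subgroup.normalizer (Q : Set G)) ∧ (∀ t, φ t ∈ Q) ∧
    ∀ k t, ∃ t', φ t' = ψ k * φ t * (ψ k)⁻¹ ∧ π t' = vecAct (A k) (π t)

/-- Every `p`-element centralizing `Q` lies in `Q`. -/
def PCentric (p : ℕ) (Q : Subgroup G) : Prop :=
  ∀ y ∈ Subgroup.centralizer (Q : Set G), (∃ n : ℕ, y ^ p ^ n = 1) → y ∈ Q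

theorem exists_conj_pair (g : G) {Q : Subgroup G} (hP : IsPGroup p Q) (hc : PCentric p Q)
    (hQ : HasQdAction p Q) :
    IsPGroup p (Q.map (MulAut.conj g).toMonoidHom) ∧
      PCentric p (Q.map (MulAut.conj g).toMonoidHom) ∧
      HasQdAction p (Q.map (MulAut.conj g).toMonoidHom) := by
  refine ⟨hP.map _, fun y hy hyp => ?_, ?_⟩
  · refine ⟨g⁻¹ * y * g, hc _ ?_ ?_, by simp [mul_assoc]⟩
    · rw [Subgroup.mem_centralizer_iff] at hy ⊢
      intro q hq
      have h1 := hy (g * q * g⁻¹) ⟨q, hq, rfl⟩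
      calc q * (g⁻¹ * y * g) = g⁻¹ * ((g * q * g⁻¹) * y) * g := by group
        _ = g⁻¹ * (y * (g * q * g⁻¹)) * g := by rw [h1]
        _ = g⁻¹ * y * g * q := by group
    · obtain ⟨n, hn⟩ := hyp
      refine ⟨n, ?_⟩
      have h1 := map_pow (MulAut.conj g⁻¹) y (p ^ n)
      rw [hn, map_one] at h1
      simpa [mul_assoc] using h1.symm
  · obtain ⟨K, T, _, _, ψ, φ, π, A, h1, h2, h3, h4, h5, h6, h7⟩ := hQ
    refine ⟨K, T, inferInstance, inferInstance, (MulAut.conj g).toMonoidHom.comp ψ,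
      (MulAut.conj g).toMonoidHom.comp φ, π, A, h1, h2, h3,
      (MulAut.conj g).injective.comp h4, fun k => ?_, fun t => ⟨φ t, h6 t, rfl⟩, fun k t => ?_⟩
    · rw [show Subgroup.normalizer ((Q.map (MulAut.conj g).toMonoidHom : Subgroup G) : Set G) =
        (Subgroup.normalizer (Q : Set G)).map (MulAut.conj g).toMonoidHom from
        (Subgroup.map_equiv_normalizer_eq Q (MulAut.conj g)).symm]
      exact ⟨ψ k, h5 k, rfl⟩
    · obtain ⟨t', e1, e2⟩ := h7 k t
      exact ⟨t', by simp only [MonoidHom.comp_apply, e1, map_mul, map_inv], e2⟩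

/-- A group involving `Qd(p)` has a `p`-centric subgroup with such an action. -/
theorem exists_centric_action (h : Involves ↥(Cfsg.qd p) G) :
    ∃ Q : Subgroup G, IsPGroup p Q ∧ PCentric p Q ∧ HasQdAction p Q := by
  obtain ⟨K, f₀, hf₀⟩ := exists_surjective_of_involves h
  let f : K →* Affine (ZMod p) := (qdEquiv p).symm.toMonoidHom.comp f₀
  have hf : Function.Surjective f := (qdEquiv p).symm.surjective.comp hf₀
  let W : Subgroup K := (SemidirectProduct.rightHom.comp f).ker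
  let fW : W →* Vp :=
    { toFun := fun w => (f w).left
      map_one' := by simp
      map_mul' := fun a b => by
        have ha : (f (a : K)).right = 1 := a.2
        simp [SemidirectProduct.mul_left, ha] }
  have hfW : Function.Surjective fW := fun v => by
    obtain ⟨k, hk⟩ := hf (SemidirectProduct.inl v)
    exact ⟨⟨k, show (f k).right = 1 by rw [hk]; rfl⟩, show (f k).left = v by rw [hk]; rfl⟩
  let U : Sylow p W := default
  have hV : IsPGroup p Vp := fun v => ⟨1, by
    apply Multiplicative.toAdd.injective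
    funext i
    simp⟩
  have hUmap : (U : Subgroup W).map fW = ⊤ := by
    have h1 : ¬ p ∣ ((U : Subgroup W).map fW).index := fun hd =>
      U.not_dvd_index (hd.trans (Subgroup.index_map_dvd _ hfW))
    obtain ⟨n, hn⟩ := hV.index ((U : Subgroup W).map fW)
    rw [hn] at h1
    refine Subgroup.index_eq_one.1 ?_
    rcases Nat.eq_zero_or_pos n with rfl | hpos
    · simpa using hn
    · exact absurd (dvd_pow_self p hpos.ne') h1
  set T₀ : Subgroup G := ((U : Subgroup W).map W.subtype).map K.subtype with hT₀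
  have hT₀p : IsPGroup p T₀ := (U.2.map _).map _
  set C := Subgroup.centralizer (T₀ : Set G)
  let PC : Sylow p C := default
  set P := (PC : Subgroup C).map C.subtype with hPdef
  have hPC : P ≤ C := Subgroup.map_subtype_le _
  have hPp : IsPGroup p P := PC.2.map _
  -- pairs inducing the same action on `T₀`
  let Γ : Subgroup (K × G) :=
    { carrier := {x | (∀ t, t ∈ T₀ ↔ (x.1 : G) * t * (x.1 : G)⁻¹ ∈ T₀) ∧
        x.2 ∈ Subgroup.normalizer (P : Set G) ∧
        ∀ t ∈ T₀, x.2 * t * x.2⁻¹ = (x.1 : G) * t * (x.1 : G)⁻¹}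
      one_mem' := ⟨fun t => by simp, one_mem _, fun t _ => by simp⟩
      mul_mem' := by
        rintro a b ⟨a1, a2, a3⟩ ⟨b1, b2, b3⟩
        refine ⟨fun t => ?_, mul_mem a2 b2, fun t ht => ?_⟩
        · rw [b1 t, a1 ((b.1 : G) * t * (b.1 : G)⁻¹)]
          simp [mul_assoc]
        · calc (a * b).2 * t * (a * b).2⁻¹ = a.2 * (b.2 * t * b.2⁻¹) * a.2⁻¹ := by
                simp [mul_assoc]
            _ = (a.1 : G) * ((b.1 : G) * t * (b.1 : G)⁻¹) * (a.1 : G)⁻¹ := by
                rw [b3 t ht, a3 _ ((b1 t).1 ht)]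
            _ = _ := by simp [mul_assoc]
      inv_mem' := by
        rintro a ⟨a1, a2, a3⟩
        refine ⟨fun t => ?_, inv_mem a2, fun t ht => ?_⟩
        · rw [a1 ((((a⁻¹).1 : K) : G) * t * (((a⁻¹).1 : K) : G)⁻¹)]
          simp [mul_assoc]
        · set s := (a.1 : G)⁻¹ * t * (a.1 : G) with hs
          have hsT : s ∈ T₀ := (a1 s).2 (by simpa [hs, mul_assoc] using ht)
          have h1 := a3 s hsT
          have h2 : (a.1 : G) * s * (a.1 : G)⁻¹ = t := by simp [hs, mul_assoc]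
          rw [h2] at h1
          show a.2⁻¹ * t * a.2⁻¹⁻¹ = ((a.1⁻¹ : K) : G) * t * (((a.1⁻¹ : K) : G))⁻¹
          calc a.2⁻¹ * t * a.2⁻¹⁻¹ = s := by rw [← h1]; group
            _ = _ := by simp [hs, mul_assoc] }
  let A : Γ →* SLp :=
    SemidirectProduct.rightHom.comp (f.comp ((MonoidHom.fst K G).comp Γ.subtype))
  have hAsurj : Function.Surjective A := by
    intro B
    -- realize `B` by an element of `K` normalizing the Sylow subgroup of `W`
    obtain ⟨k₀, hk₀⟩ := hf (SemidirectProduct.inr B)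
    obtain ⟨k, hk, hkB⟩ : ∃ k : K,
        k ∈ Subgroup.normalizer (((U : Subgroup W).map W.subtype : Subgroup K) : Set K) ∧
          (f k).right = B := by
      haveI : W.Normal := MonoidHom.normal_ker _
      have htop := U.normalizer_sup_eq_top
      obtain ⟨n, hn, w, hw, hnw⟩ := Subgroup.mem_sup_of_normal_right.1 (htop.ge (Subgroup.mem_top k₀))
      refine ⟨n, hn, ?_⟩
      have h1 : (f w).right = 1 := hw
      have h2 := congrArg (fun x => (f x).right) hnw
      simpa [h1, hk₀] using h2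
    have hk' : ∀ t, t ∈ T₀ ↔ (k : G) * t * (k : G)⁻¹ ∈ T₀ := by
      intro t
      constructor
      · rintro ⟨x, hx, rfl⟩
        exact ⟨k * x * k⁻¹, (Subgroup.mem_normalizer_iff.1 hk x).1 hx, rfl⟩
      · rintro ⟨x, hx, hxt⟩
        refine ⟨k⁻¹ * x * k, (Subgroup.mem_normalizer_iff''.1 hk x).1 hx, ?_⟩
        show (k : G)⁻¹ * (x : G) * (k : G) = t
        rw [show (x : G) = (k : G) * t * (k : G)⁻¹ from hxt]
        group
    have hkC : ∀ c : G, c ∈ C ↔ (k : G) * c * (k : G)⁻¹ ∈ C := by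
      have : (k : G) ∈ Subgroup.normalizer (C : Set G) := by
        haveI := centralizer_normal_in_normalizer T₀
        exact Subgroup.normal_subgroupOf_iff_le_normalizer
          (Subgroup.centralizer_le_normalizer _) |>.1 inferInstance
            (Subgroup.mem_normalizer_iff.2 hk')
      exact Subgroup.mem_normalizer_iff.1 this
    have hPk : IsPGroup p (P.map (MulAut.conj (k : G)).toMonoidHom) := hPp.map _
    have hle : P.map (MulAut.conj (k : G)).toMonoidHom ≤ C := by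
      rintro _ ⟨x, hx, rfl⟩
      exact (hkC x).1 (hPC hx)
    obtain ⟨c, hc⟩ := exists_conj_mem_sylow (hPk.comap_subtype :
      IsPGroup p ((P.map (MulAut.conj (k : G)).toMonoidHom).subgroupOf C)) PC
    have hx : ((c : G) * (k : G)) ∈ Subgroup.normalizer (P : Set G) := by
      refine mem_normalizer_of_maps fun x hx => ?_
      have h1 := hc ⟨(k : G) * x * (k : G)⁻¹, hle ⟨x, hx, rfl⟩⟩ ⟨x, hx, rfl⟩
      refine ⟨_, h1, ?_⟩
      show (c : G) * ((k : G) * x * (k : G)⁻¹) * (c : G)⁻¹ = _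
      group
    refine ⟨⟨(k, (c : G) * (k : G)), hk', hx, fun t ht => ?_⟩, hkB⟩
    have h1 := Subgroup.mem_centralizer_iff.1 c.2 _ ((hk' t).1 ht)
    calc (c : G) * (k : G) * t * ((c : G) * (k : G))⁻¹
        = ((c : G) * ((k : G) * t * (k : G)⁻¹)) * (c : G)⁻¹ := by group
      _ = _ := by rw [← h1, mul_inv_cancel_right]
  set Q := T₀ ⊔ P with hQ
  have hcomm : P ≤ Subgroup.normalizer (T₀ : Set G) :=
    hPC.trans (Subgroup.centralizer_le_normalizer _)
  refine ⟨Q, ?_, ?_, Γ, ↥(U : Subgroup W), inferInstance, inferInstance,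
    (MonoidHom.snd K G).comp Γ.subtype, (K.subtype.comp W.subtype).comp (U : Subgroup W).subtype,
    fW.comp (U : Subgroup W).subtype, A, ?_, hAsurj, U.2, ?_, ?_, ?_, ?_⟩
  · exact hT₀p.to_sup_of_normal_left' hPp hcomm
  · intro y hy hyp
    have hyC : y ∈ C :=
      Subgroup.centralizer_le (SetLike.coe_subset_coe.2 (le_sup_left : T₀ ≤ Q)) hy
    obtain ⟨n, hn⟩ := hyp
    have hy' : (⟨y, hyC⟩ : C) ∈ Subgroup.normalizer ((PC : Subgroup C) : Set C) := by
      refine Subgroup.centralizer_le_normalizer _ (Subgroup.mem_centralizer_iff.2 fun z hz => ?_)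
      exact Subtype.ext (Subgroup.mem_centralizer_iff.1 hy (z : G)
        (Subgroup.mem_sup_right ⟨z, hz, rfl⟩))
    have hmem : (⟨y, hyC⟩ : C) ∈ (PC : Subgroup C) := by
      have hz : IsPGroup p (Subgroup.zpowers (⟨y, hyC⟩ : C)) := by
        obtain ⟨m, -, hm⟩ := (Nat.dvd_prime_pow (Fact.out : p.Prime)).mp
          (orderOf_dvd_of_pow_eq_one
            (show (⟨y, hyC⟩ : C) ^ p ^ n = 1 from Subtype.ext (by simpa using hn)))
        exact IsPGroup.of_card (n := m) (by rw [Nat.card_zpowers, hm])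
      have hsup := hz.to_sup_of_normal_right' PC.2 (Subgroup.zpowers_le.2 hy')
      rw [← PC.3 hsup le_sup_right]
      exact Subgroup.mem_sup_left (Subgroup.mem_zpowers _)
    exact Subgroup.mem_sup_right ⟨_, hmem, rfl⟩
  · intro v
    obtain ⟨w, hw, hwv⟩ := hUmap.ge (Subgroup.mem_top v)
    exact ⟨⟨w, hw⟩, hwv⟩
  · exact (K.subtype_injective.comp W.subtype_injective).comp
      (U : Subgroup W).subtype_injective
  · rintro ⟨⟨k, x⟩, h1, h2, h3⟩
    refine mem_normalizer_of_maps fun q hq => ?_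
    have hle : Q ≤ Q.comap (MulAut.conj x).toMonoidHom := by
      refine sup_le (fun t ht => ?_) fun t ht => ?_
      · show x * t * x⁻¹ ∈ Q
        rw [show x * t * x⁻¹ = (k : G) * t * (k : G)⁻¹ from h3 t ht]
        exact Subgroup.mem_sup_left ((h1 t).1 ht)
      · exact Subgroup.mem_sup_right ((Subgroup.mem_normalizer_iff.1 h2 t).1 ht)
    exact hle hq
  · exact fun t => Subgroup.mem_sup_left ⟨_, ⟨_, t.2, rfl⟩, rfl⟩
  · rintro ⟨⟨k, x⟩, h1, h2, h3⟩ t
    have htT : (((t : W) : K) : G) ∈ T₀ := ⟨_, ⟨_, t.2, rfl⟩, rfl⟩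
    obtain ⟨_, ⟨w, hw, rfl⟩, hwt⟩ := (h1 _).1 htT
    refine ⟨⟨w, hw⟩, ?_, ?_⟩
    · show ((w : K) : G) = x * ((t : W) : K) * x⁻¹
      rw [show x * (((t : W) : K) : G) * x⁻¹ = (k : G) * ((t : W) : K) * (k : G)⁻¹ from h3 _ htT]
      exact hwt
    · have hwk : (w : K) = k * ((t : W) : K) * k⁻¹ := Subtype.ext hwt
      have ht1 : (f ((t : W) : K)).right = 1 := (t : W).2
      show (f (w : K)).left = vecAct (f k).right (f ((t : W) : K)).left
      rw [hwk, map_mul, map_mul, map_inv]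
      simp [SemidirectProduct.mul_left, SemidirectProduct.mul_right, SemidirectProduct.inv_left,
        ht1, mul_comm]

/-- A group involving `Qd(p)` does not have a `Qd(p)`-free fusion system. -/
theorem not_involves_of_free (hp : p ≠ 2) (S : Sylow p G)
    (hfree : (groupFusionSystem (S : Subgroup G)).IsSectionFree p ↥(Cfsg.qd p)) :
    ¬ Involves ↥(Cfsg.qd p) G := by
  intro h
  obtain ⟨Q₀, hQ₀⟩ := exists_centric_action h
  obtain ⟨g₀, hg₀⟩ := exists_conj_mem_sylow hQ₀.1 S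
  obtain ⟨hP₁, hc₁, hA₁⟩ := exists_conj_pair g₀ hQ₀.1 hQ₀.2.1 hQ₀.2.2
  have hle₁ : Q₀.map (MulAut.conj g₀).toMonoidHom ≤ (S : Subgroup G) := by
    rintro _ ⟨x, hx, rfl⟩
    exact hg₀ x hx
  obtain ⟨g, hgS, hsyl⟩ := exists_conj_sylIn_normalizer S hle₁
  obtain ⟨hP₂, hc₂, hA₂⟩ := exists_conj_pair g hP₁ hc₁ hA₁
  set Q := (Q₀.map (MulAut.conj g₀).toMonoidHom).map (MulAut.conj g).toMonoidHom
  have hQn := (isFullyNormalized_gfs_iff S hgS).2 hsyl
  have hQc : (groupFusionSystem (S : Subgroup G)).IsCentric Q := by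
    refine ⟨hgS, fun R hR z hz => ?_⟩
    obtain ⟨e, he⟩ := isConj_iff.1 hR
    obtain ⟨x, -, hx⟩ := he.exists_conj_gfs
    obtain ⟨n, hn⟩ := S.2 ⟨z, hz.1⟩
    have hn' : z ^ p ^ n = 1 := congrArg Subtype.val hn
    have h1 : x⁻¹ * z * x ∈ Q := by
      refine hc₂ _ (Subgroup.mem_centralizer_iff.2 fun q hq => ?_) ⟨n, ?_⟩
      · have h2 := Subgroup.mem_centralizer_iff.1 hz.2 _ ((hx q).1 hq)
        calc q * (x⁻¹ * z * x) = x⁻¹ * ((x * q * x⁻¹) * z) * x := by group
          _ = x⁻¹ * (z * (x * q * x⁻¹)) * x := by rw [h2]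
          _ = x⁻¹ * z * x * q := by group
      · have h2 := map_pow (MulAut.conj x⁻¹) z (p ^ n)
        rw [hn', map_one] at h2
        simpa [mul_assoc] using h2.symm
    simpa [mul_assoc] using (hx _).1 h1
  obtain ⟨K₁, hK₁n, N, ι, hN, hK₁, hM⟩ := exists_quotient_model S hQn hQc
  refine hfree Q hQn hQc N hN _ ι hM ?_
  obtain ⟨K, T, _, _, ψ, φ, π, A, h1, h2, h3, h4, h5, h6, h7⟩ := hA₂
  let q := QuotientGroup.mk' K₁
  have hφN : ∀ t, φ t ∈ Subgroup.normalizer (Q : Set G) := fun t => Subgroup.le_normalizer (h6 t)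
  refine involves_qd_of_action hp (q.comp (ψ.codRestrict _ h5)) (q.comp (φ.codRestrict _ hφN)) π h1 A
    h2 (fun t ht => ?_) fun k t => ?_
  · obtain ⟨n, hn⟩ := h3 t
    have hmem : φ.codRestrict _ hφN t ∈ K₁ := (QuotientGroup.eq_one_iff _).1 ht
    have hd1 : orderOf (φ.codRestrict _ hφN t) ∣ p ^ n :=
      orderOf_dvd_of_pow_eq_one (by rw [← map_pow, hn, map_one])
    have he : orderOf (φ.codRestrict _ hφN t) = 1 :=
      Nat.eq_one_of_dvd_coprimes (hK₁.pow_right n) (Subgroup.orderOf_dvd_natCard _ hmem) hd1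
    have he' : φ t = 1 := congrArg Subtype.val (orderOf_eq_one_iff.1 he)
    rw [h4 (he'.trans (map_one φ).symm), map_one]
  · obtain ⟨t', e1, e2⟩ := h7 k t
    refine ⟨t', ?_, e2⟩
    have e3 : φ.codRestrict _ hφN t' =
        ψ.codRestrict _ h5 k * φ.codRestrict _ hφN t * (ψ.codRestrict _ h5 k)⁻¹ := Subtype.ext e1
    simp only [MonoidHom.comp_apply, e3, map_mul, map_inv]

end Cfsg.Agent.FusSys.QdSection
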