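import Cfsg.Agent.Fusion.Critical
import Cfsg.Agent.Fusion.RankTwo
import Mathlib.Algebra.Field.ZMod

/-!
# `p`-groups of rank two: first tools
-/

set_option autoImplicit false

namespace Cfsg.Agent.FusSys.RankTwoResist

open Subgroup
open scoped commutatorElement

universe u

/-- Any three commuting elements of order dividing `p` are dependent. -/
def Rk (p : ℕ) (G : Type u) [Group G] : Prop :=
  ∀ a b c : G, a ^ p = 1 → b ^ p = 1 → c ^ p = 1 → Commute a b → Commute a c → Commute b c →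
    a ≠ 1 → b ∉ zpowers a → ∃ i j : ℤ, c = a ^ i * b ^ j

variable {p : ℕ} [hp : Fact p.Prime] {G : Type u} [Group G]

theorem zcongr {x : G} (hx : x ^ p = 1) {m n : ℤ} (h : (m : ZMod p) = (n : ZMod p)) :
    x ^ m = x ^ n := by
  obtain ⟨k, hk⟩ := (ZMod.intCast_eq_intCast_iff_dvd_sub m n p).1 h
  have : n = m + (p : ℤ) * k := by omega
  rw [this, zpow_add, zpow_mul, zpow_natCast, hx, one_zpow, mul_one]

theorem exists_zinv {k : ℤ} (hk : (k : ZMod p) ≠ 0) : ∃ m : ℤ, ((k * m : ℤ) : ZMod p) = 1 :=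
  ⟨(((k : ZMod p)⁻¹).val : ℤ), by
    rw [Int.cast_mul, Int.cast_natCast, ZMod.natCast_zmod_val, mul_inv_cancel₀ hk]⟩

theorem zpow_mem_cancel {H : Subgroup G} {x : G} (hx : x ^ p = 1) {k : ℤ} (hk : (k : ZMod p) ≠ 0)
    (h : x ^ k ∈ H) : x ∈ H := by
  obtain ⟨m, hm⟩ := exists_zinv hk
  have h1 := zpow_mem h m
  rwa [← zpow_mul, zcongr hx (n := 1) (by rw [hm, Int.cast_one]), zpow_one] at h1

theorem zpow_eq_one_iff {x : G} (hx : x ^ p = 1) (hx1 : x ≠ 1) {k : ℤ} :
    x ^ k = 1 ↔ (k : ZMod p) = 0 := by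
  refine ⟨fun h => ?_, fun h => by rw [zcongr hx (n := 0) (by rw [h, Int.cast_zero]), zpow_zero]⟩
  by_contra hk
  exact hx1 (Subgroup.mem_bot.1 (zpow_mem_cancel hx hk (Subgroup.mem_bot.2 h)))

theorem mem_pair {a b : G} {H : Subgroup G} (ha : a ∈ H) (hb : b ∈ H) {c : G}
    (h : ∃ i j : ℤ, c = a ^ i * b ^ j) : c ∈ H := by
  obtain ⟨i, j, rfl⟩ := h
  exact H.mul_mem (zpow_mem ha i) (zpow_mem hb j)

theorem zpow_eq_one_of_cast {x : G} (hx : x ^ p = 1) {m : ℤ} (hm : (m : ZMod p) = 0) : x ^ m = 1 := by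
  rw [zcongr hx (n := 0) (by rw [hm, Int.cast_zero]), zpow_zero]

theorem rk_of_card [Finite G]
    (h : ∀ H : Subgroup G, Cfsg.IsElementaryAbelian p H → Nat.card H ≤ p ^ 2) : Rk p G := by
  intro a b c ha hb hc hab hac hbc ha1 hb1
  have hcomm : ∀ x ∈ ({a, b, c} : Set G), ∀ y ∈ ({a, b, c} : Set G), x * y = y * x := by
    intro x hx y hy
    simp only [Set.mem_insert_iff, Set.mem_singleton_iff] at hx hy
    rcases hx with h1 | h1 | h1 <;> rcases hy with h2 | h2 | h2 <;> subst x <;> subst y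
    all_goals first
      | rfl | exact hab.eq | exact hab.symm.eq | exact hac.eq | exact hac.symm.eq | exact hbc.eq
      | exact hbc.symm.eq
  have hH : IsMulCommutative (closure ({a, b, c} : Set G)) := Subgroup.isMulCommutative_closure hcomm
  have hexp : ∀ x ∈ closure ({a, b, c} : Set G), x ^ p = 1 := by
    intro x hx
    induction hx using closure_induction with
    | mem y hy =>
      simp only [Set.mem_insert_iff, Set.mem_singleton_iff] at hy
      rcases hy with h1 | h1 | h1 <;> subst y <;> assumption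
    | one => exact one_pow p
    | mul x y hx hy ihx ihy =>
      rw [Commute.mul_pow (show Commute x y from congrArg Subtype.val (hH.is_comm.comm ⟨x, hx⟩ ⟨y, hy⟩)),
        ihx, ihy, one_mul]
    | inv x _ ih => rw [inv_pow, ih, inv_one]
  have hle := h _ ⟨hH, hexp⟩
  by_contra hne
  let f : ZMod p × ZMod p × ZMod p → closure ({a, b, c} : Set G) := fun t =>
    ⟨a ^ (t.1.val : ℤ) * b ^ (t.2.1.val : ℤ) * c ^ (t.2.2.val : ℤ),
      mul_mem (mul_mem (zpow_mem (subset_closure (by simp)) _) (zpow_mem (subset_closure (by simp)) _))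
        (zpow_mem (subset_closure (by simp)) _)⟩
  have hinj : Function.Injective f := by
    rintro ⟨i, j, k⟩ ⟨i', j', k'⟩ he
    have he' : a ^ (i.val : ℤ) * b ^ (j.val : ℤ) * c ^ (k.val : ℤ) =
        a ^ (i'.val : ℤ) * b ^ (j'.val : ℤ) * c ^ (k'.val : ℤ) := congrArg Subtype.val he
    have hcast : ∀ x y : ZMod p, (((x.val : ℤ) - (y.val : ℤ) : ℤ) : ZMod p) = x - y := fun x y => by
      simp
    obtain ⟨I, hI⟩ : ∃ I : ℤ, I = (i.val : ℤ) - (i'.val : ℤ) := ⟨_, rfl⟩
    obtain ⟨J, hJ⟩ : ∃ J : ℤ, J = (j.val : ℤ) - (j'.val : ℤ) := ⟨_, rfl⟩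
    obtain ⟨K, hK⟩ : ∃ K : ℤ, K = (k.val : ℤ) - (k'.val : ℤ) := ⟨_, rfl⟩
    have hrel : c ^ K = a ^ (-I) * b ^ (-J) := by
      have h2 : c ^ K = (a ^ (i.val : ℤ) * b ^ (j.val : ℤ))⁻¹ *
          (a ^ (i'.val : ℤ) * b ^ (j'.val : ℤ)) := by
        rw [hK, zpow_sub, eq_inv_mul_iff_mul_eq, ← mul_assoc, he', mul_inv_cancel_right]
      have hz : ∀ m n : ℤ, Commute (a ^ m) (b ^ n) := fun m n => hab.zpow_zpow m n
      rw [h2, mul_inv_rev, mul_assoc, ← mul_assoc (a ^ (i.val : ℤ))⁻¹, ← zpow_neg a, ← zpow_add,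
        ← mul_assoc, ← zpow_neg, ← (hz _ _).eq, mul_assoc, ← zpow_add, hI, hJ, neg_sub, neg_sub]
      congr 1 <;> congr 1 <;> omega
    have hK0 : (K : ZMod p) = 0 := by
      by_contra hK0
      obtain ⟨m, hm⟩ := exists_zinv hK0
      refine hne ⟨-I * m, -J * m, ?_⟩
      have h1 : (c ^ K) ^ m = c := by rw [← zpow_mul, zcongr hc (n := 1) (by simpa using hm), zpow_one]
      conv_lhs => rw [← h1, hrel]
      rw [(hab.zpow_zpow _ _).mul_zpow, ← zpow_mul, ← zpow_mul]
    have hJ0 : (J : ZMod p) = 0 := by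
      by_contra hJ0
      refine hb1 (zpow_mem_cancel hb (k := -J) (by simpa using hJ0) ?_)
      rw [(zpow_eq_one_of_cast hc hK0), eq_comm, mul_eq_one_iff_eq_inv'] at hrel
      rw [hrel]
      exact inv_mem (zpow_mem (mem_zpowers a) _)
    have hI0 : (I : ZMod p) = 0 := by
      rw [(zpow_eq_one_of_cast hc hK0), zpow_eq_one_of_cast hb (m := -J) (by simpa using hJ0),
        mul_one, eq_comm, zpow_eq_one_iff ha ha1] at hrel
      simpa using hrel
    rw [hI, hcast, sub_eq_zero] at hI0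
    rw [hJ, hcast, sub_eq_zero] at hJ0
    rw [hK, hcast, sub_eq_zero] at hK0
    rw [hI0, hJ0, hK0]
  have := Nat.card_le_card_of_injective f hinj
  rw [Nat.card_prod, Nat.card_prod, Nat.card_zmod] at this
  have h3 : p ^ 2 < p * (p * p) := by
    rw [pow_two]; exact lt_mul_of_one_lt_left (Nat.mul_pos hp.out.pos hp.out.pos) hp.out.one_lt
  omega
theorem Rk.subgroup (h : Rk p G) (H : Subgroup G) : Rk p H := by
  intro a b c ha hb hc hab hac hbc ha1 hb1
  obtain ⟨i, j, hij⟩ := h (a : G) b c (by rw [← coe_pow, ha, coe_one]) (by rw [← coe_pow, hb, coe_one])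
    (by rw [← coe_pow, hc, coe_one]) (hab.map H.subtype) (hac.map H.subtype) (hbc.map H.subtype)
    (fun e => ha1 (Subtype.ext e)) (fun hm => hb1 (by
      obtain ⟨n, hn⟩ := hm; exact ⟨n, Subtype.ext (by rw [coe_zpow]; exact hn)⟩))
  exact ⟨i, j, Subtype.ext (by rw [coe_mul, coe_zpow, coe_zpow]; exact hij)⟩

/-- A coprime automorphism fixing `x` modulo a fixed `p`-element fixes `x`. -/
theorem fixed_of_coprime {δ : MulAut G} (hδ : (orderOf δ).Coprime p) {x d : G} (hd : δ d = d)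
    {k : ℕ} (hdp : d ^ p ^ k = 1) (hx : δ x = x * d) : δ x = x := by
  have hit : ∀ n : ℕ, (δ ^ n) x = x * d ^ n := by
    intro n
    induction n with
    | zero => simp
    | succ n ih => rw [pow_succ', MulAut.mul_apply, ih, map_mul, map_pow, hd, hx, mul_assoc, ← pow_succ']
  have h1 := hit (orderOf δ)
  rw [pow_orderOf_eq_one, MulAut.one_apply, left_eq_mul] at h1
  have h2 : d = 1 := orderOf_eq_one_iff.1
    (Nat.eq_one_of_dvd_coprimes (hδ.pow_right k) (orderOf_dvd_of_pow_eq_one h1)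
      (orderOf_dvd_of_pow_eq_one hdp))
  rw [hx, h2, mul_one]

theorem isPGroup_of_coprime_trivial {A : Type u} [Group A] [Finite A] {N : Subgroup A}
    (h : ∀ a ∈ N, (orderOf a).Coprime p → a = 1) : IsPGroup p N := by
  rintro ⟨a, ha⟩
  obtain ⟨k, m, hm, hkm⟩ := Nat.exists_eq_pow_mul_and_not_dvd (orderOf_pos a).ne' p hp.out.ne_one
  refine ⟨k, Subtype.ext ?_⟩
  rw [SubmonoidClass.coe_pow, OneMemClass.coe_one]
  refine h _ (pow_mem ha _) ?_
  rw [orderOf_pow_of_dvd (pow_ne_zero _ hp.out.ne_zero) (hkm ▸ Dvd.intro m rfl), hkm,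
    Nat.mul_div_cancel_left _ (pow_pos hp.out.pos k)]
  exact ((Nat.Prime.coprime_iff_not_dvd hp.out).2 hm).symm

/-- A coprime automorphism fixing the elements of order `p` of a critical subgroup is trivial. -/
theorem eq_one_of_fix_critical [Finite G] (hp2 : p ≠ 2) (hG : IsPGroup p G) {H : Subgroup G}
    (hH : H.Characteristic) (hcl : commutator H ≤ center H)
    (hco : ⁅H, (⊤ : Subgroup G)⁆ ≤ H ⊓ centralizer (H : Set G))
    (hcent : centralizer (H : Set G) ≤ H) {δ : MulAut G} (hδ : (orderOf δ).Coprime p)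
    (hfix : ∀ x ∈ H, x ^ p = 1 → δ x = x) : δ = 1 := by
  have hmem : ∀ x ∈ H, δ x ∈ H := fun x hx => (characteristic_iff_le_comap.mp hH δ) hx
  have hall : ∀ n, ∀ x ∈ H, x ^ p ^ n = 1 → δ x = x := by
    intro n
    induction n with
    | zero => intro x _ hx; rw [pow_zero, pow_one] at hx; rw [hx, map_one]
    | succ n ih =>
      intro x hx hxn
      have h1 : δ (x ^ p) = x ^ p := ih _ (pow_mem hx p) (by rw [← pow_mul, ← pow_succ', hxn])
      have hd : (x⁻¹ * δ x) ^ p = 1 := by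
        have h2 : ((⟨x, hx⟩ : H)⁻¹ * ⟨δ x, hmem x hx⟩) ^ p = 1 := by
          obtain ⟨X, hX⟩ : ∃ X : H, X = ⟨x, hx⟩ := ⟨_, rfl⟩
          obtain ⟨Y, hY⟩ : ∃ Y : H, Y = ⟨δ x, hmem x hx⟩ := ⟨_, rfl⟩
          rw [← hX, ← hY]
          have hXY : Y ^ p = X ^ p := Subtype.ext (by
            rw [coe_pow, coe_pow, hX, hY]; exact (map_pow δ x p).symm.trans h1)
          have hc : ⁅Y, X⁻¹⁆ ∈ center H := hcl (commutator_mem_commutator (mem_top _) (mem_top _))
          rw [Fusion.mul_pow_of_commute_commutator (mem_center_iff.mp hc _).symm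
            (mem_center_iff.mp hc _).symm, inv_pow, hXY, inv_mul_cancel, one_mul]
          have h3 : ⁅Y, X⁻¹⁆ ^ p = 1 := by
            rw [← Fusion.commutatorElement_pow_left_of_le_center hcl, hXY,
              commutatorElement_eq_one_iff_mul_comm]
            exact ((Commute.refl X).pow_left p).inv_right.eq
          obtain ⟨m, hm⟩ : p ∣ p.choose 2 := hp.out.dvd_choose_self two_ne_zero
            (lt_of_le_of_ne hp.out.two_le (Ne.symm hp2))
          rw [hm, pow_mul, h3, one_pow]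
        have h4 := congrArg Subtype.val h2
        simpa using h4
      refine fixed_of_coprime hδ (hfix _ (mul_mem (inv_mem hx) (hmem x hx)) hd) (k := 1)
        (by rw [pow_one]; exact hd) (by rw [mul_inv_cancel_left])
  have hH1 : ∀ x ∈ H, δ x = x := fun x hx => by
    obtain ⟨n, hn⟩ := hG x
    exact hall n x hx hn
  refine MulEquiv.ext fun g => ?_
  have hd : g⁻¹ * δ g ∈ centralizer (H : Set G) := by
    refine mem_centralizer_iff.2 fun h hh => ?_
    have hgh : g * h * g⁻¹ ∈ H := by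
      haveI := hH
      exact Subgroup.Normal.conj_mem inferInstance h hh g
    have h1 := hH1 _ hgh
    rw [map_mul, map_mul, map_inv, hH1 h hh] at h1
    calc h * (g⁻¹ * δ g) = g⁻¹ * (g * h * g⁻¹) * δ g := by group
      _ = g⁻¹ * (δ g * h * (δ g)⁻¹) * δ g := by rw [h1]
      _ = g⁻¹ * δ g * h := by group
  obtain ⟨k, hk⟩ := hG (g⁻¹ * δ g)
  rw [MulAut.one_apply]
  exact fixed_of_coprime hδ (hH1 _ (hcent hd)) hk (by rw [mul_inv_cancel_left])

end Cfsg.Agent.FusSys.RankTwoResist
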