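import Cfsg.Agent.FusSys.RankTwoFlip

/-!
# Calculus of congruences modulo a central element
-/

set_option autoImplicit false

namespace Cfsg.Agent.FusSys.RankTwoResist

open Subgroup

universe u v

variable {p : ℕ} [hp : Fact p.Prime] {G : Type u} [Group G] {H : Type v} [Group H]

theorem Eqv.refl (z x : G) : Eqv z x x := ⟨0, by rw [zpow_zero, mul_one]⟩

theorem Eqv.symm {z x y : G} (h : Eqv z x y) : Eqv z y x := by
  obtain ⟨i, rfl⟩ := h
  exact ⟨-i, by rw [mul_assoc, ← zpow_add, add_neg_cancel, zpow_zero, mul_one]⟩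

theorem Eqv.trans {z x y w : G} (h : Eqv z x y) (h' : Eqv z y w) : Eqv z x w := by
  obtain ⟨i, rfl⟩ := h
  obtain ⟨j, rfl⟩ := h'
  exact ⟨i + j, by rw [zpow_add, mul_assoc]⟩

theorem normal_zpowers_of_center {z : G} (hz : z ∈ center G) : (zpowers z).Normal := ⟨fun n hn g => by
  obtain ⟨i, rfl⟩ := hn
  show g * z ^ i * g⁻¹ ∈ zpowers z
  rw [mem_center_iff.1 (zpow_mem hz i) g, mul_inv_cancel_right]
  exact zpow_mem (mem_zpowers z) i⟩

theorem Eqv.iff_mk {z : G} [(zpowers z).Normal] {x y : G} :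
    Eqv z x y ↔ QuotientGroup.mk' (zpowers z) x = QuotientGroup.mk' (zpowers z) y := by
  rw [QuotientGroup.mk'_apply, QuotientGroup.mk'_apply, QuotientGroup.eq]
  constructor
  · rintro ⟨i, rfl⟩
    exact ⟨i, (inv_mul_cancel_left x _).symm⟩
  · rintro ⟨i, hi⟩
    exact ⟨i, eq_mul_of_inv_mul_eq hi.symm⟩

theorem Eqv.mul {z x y x' y' : G} (hz : z ∈ center G) (h : Eqv z x y) (h' : Eqv z x' y') :
    Eqv z (x * x') (y * y') := by
  haveI := normal_zpowers_of_center hz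
  rw [Eqv.iff_mk] at h h' ⊢
  rw [map_mul, map_mul, h, h']

theorem Eqv.zpow {z x y : G} (hz : z ∈ center G) (h : Eqv z x y) (i : ℤ) : Eqv z (x ^ i) (y ^ i) := by
  haveI := normal_zpowers_of_center hz
  rw [Eqv.iff_mk] at h ⊢
  rw [map_zpow, map_zpow, h]

theorem Eqv.mul_zpow {z y w : G} (hz : z ∈ center G) (h : Eqv z y (w * y * w⁻¹)) (l : ℤ) :
    Eqv z (y ^ l * w ^ l) ((y * w) ^ l) := by
  haveI := normal_zpowers_of_center hz
  rw [Eqv.iff_mk] at h ⊢
  rw [map_mul, map_mul, map_inv] at h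
  rw [map_mul, map_zpow, map_zpow, map_zpow, map_mul]
  exact ((mul_inv_eq_iff_eq_mul.1 h.symm : _ = _) |> fun e => (Commute.mul_zpow
    (show Commute (QuotientGroup.mk' (zpowers z) y) (QuotientGroup.mk' (zpowers z) w) from e.symm) l).symm)

theorem Eqv.map (f : G →* H) {z x y : G} (h : Eqv z x y) : Eqv (f z) (f x) (f y) := by
  obtain ⟨i, rfl⟩ := h
  exact ⟨i, by rw [map_mul, map_zpow]⟩

theorem Eqv.of_map {f : G →* H} (hf : Function.Injective f) {z x y : G}
    (h : Eqv (f z) (f x) (f y)) : Eqv z x y := by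
  obtain ⟨i, hi⟩ := h
  exact ⟨i, hf (by rw [map_mul, map_zpow, hi])⟩

theorem Eqv.apply (α : MulAut G) {z x y : G} (hα : α z ∈ zpowers z) (h : Eqv z x y) :
    Eqv z (α x) (α y) := by
  obtain ⟨s, hs⟩ := hα
  obtain ⟨i, rfl⟩ := h
  exact ⟨s * i, by rw [map_mul, map_zpow, zpow_mul, show z ^ s = α z from hs]⟩

/-- An automorphism of `p`-power order fixes a generator of an invariant group of order `p`. -/
theorem fixed_of_invariant_line {α : MulAut G} {e : ℕ} (hα : α ^ p ^ e = 1) {z : G} (hz : z ^ p = 1)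
    (h : α z ∈ zpowers z) : α z = z := by
  by_cases hz1 : z = 1
  · rw [hz1, map_one]
  obtain ⟨s, hs⟩ := h
  have hs' : α z = z ^ s := hs.symm
  have hit : ∀ N : ℕ, (α ^ N) z = z ^ (s ^ N) := by
    intro N
    induction N with
    | zero => simp
    | succ N ih => rw [pow_succ', MulAut.mul_apply, ih, map_zpow, hs', ← zpow_mul, ← pow_succ']
  have h1 := hit (p ^ e)
  rw [hα, MulAut.one_apply] at h1
  have h2 : z ^ (s ^ p ^ e - 1) = 1 := by rw [zpow_sub, ← h1, zpow_one, mul_inv_cancel]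
  rw [zpow_eq_one_iff hz hz1] at h2
  simp only [Int.cast_sub, Int.cast_pow, Int.cast_one, ZMod.pow_card_pow, sub_eq_zero] at h2
  rw [hs', zcongr hz (n := 1) (by rw [h2, Int.cast_one]), zpow_one]

/-- A primitive root with the properties used for the torus. -/
theorem exists_root (hp5 : 5 ≤ p) : ∃ l l' : ℤ, ((l * l' : ℤ) : ZMod p) = 1 ∧
    (l : ZMod p) ^ 2 ≠ 1 ∧ (l : ZMod p) ^ 3 ≠ 1 ∧ ∃ m : ℕ, (l : ZMod p) ^ m = -1 := by
  obtain ⟨g, hg⟩ := IsCyclic.exists_generator (α := (ZMod p)ˣ)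
  have hord : orderOf g = p - 1 := by
    rw [orderOf_eq_card_of_forall_mem_zpowers hg, Nat.card_eq_fintype_card, ZMod.card_units]
  have hne : ∀ m : ℕ, 0 < m → m < p - 1 → (g : ZMod p) ^ m ≠ 1 := fun m hm hmp h => by
    rw [← Units.val_pow_eq_pow_val, Units.val_eq_one] at h
    have := Nat.le_of_dvd hm (orderOf_dvd_of_pow_eq_one h)
    omega
  refine ⟨((g : ZMod p).val : ℤ), (((g⁻¹ : (ZMod p)ˣ) : ZMod p).val : ℤ), ?_⟩
  push_cast [ZMod.natCast_zmod_val]
  refine ⟨mul_inv_cancel₀ g.ne_zero, hne 2 two_pos (by omega),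
    hne 3 three_pos (by omega), (p - 1) / 2, ?_⟩
  have hodd := hp.out.eq_two_or_odd.resolve_left (by omega)
  have h2 : (p - 1) / 2 + (p - 1) / 2 = p - 1 := by omega
  have h1 : (g : ZMod p) ^ ((p - 1) / 2) * (g : ZMod p) ^ ((p - 1) / 2) = 1 := by
    rw [← pow_add, h2, ← Units.val_pow_eq_pow_val, ← hord, pow_orderOf_eq_one, Units.val_one]
  rcases mul_self_eq_one_iff.1 h1 with h | h
  · exact absurd h (hne _ (by omega) (by omega))
  · exact h

end Cfsg.Agent.FusSys.RankTwoResist
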