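import Cfsg.Agent.FusSys.RankTwoShape
import Mathlib.GroupTheory.FixedPointFree

/-!
# A torus on an extension of a plane group forces the elementary abelian case
-/

set_option autoImplicit false

namespace Cfsg.Agent.FusSys.RankTwoResist

open Subgroup

universe u

variable {p : ℕ} [hp : Fact p.Prime] {K : Type u} [Group K] [Finite K]

theorem Eqv.iff_quot {z : K} [(zpowers z).Normal] {x y : K} :
    Eqv z x y ↔ QuotientGroup.mk' (zpowers z) x = QuotientGroup.mk' (zpowers z) y := by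
  rw [QuotientGroup.mk'_apply, QuotientGroup.mk'_apply, QuotientGroup.eq]
  constructor
  · rintro ⟨i, rfl⟩
    exact ⟨i, (inv_mul_cancel_left x _).symm⟩
  · rintro ⟨i, hi⟩
    exact ⟨i, eq_mul_of_inv_mul_eq hi.symm⟩

/-- The hypotheses on an extension of a plane group with a torus. -/
structure Ext (p : ℕ) (E : Subgroup K) (δ : MulAut K) (z a b : K) (l l' : ℤ) : Prop where
  hδ : (orderOf δ).Coprime p
  inv : ∀ x, δ x ∈ E ↔ x ∈ E
  zmem : z ∈ E
  amem : a ∈ E
  bmem : b ∈ E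
  central : z ∈ center K
  zp : z ^ p = 1
  ap : a ^ p = 1
  bp : b ^ p = 1
  zinv : δ z ∈ zpowers z
  indep : ∀ i j : ℤ, a ^ i * b ^ j ∈ zpowers z → (i : ZMod p) = 0 ∧ (j : ZMod p) = 0
  fix : ∀ g : K, Eqv z a (g * a * g⁻¹) ∧ ∃ k : ℤ, Eqv z (b * a ^ k) (g * b * g⁻¹)
  efix : ∀ e ∈ E, Eqv z b (e * b * e⁻¹)
  kernel : ∀ g : K, Eqv z a (g * a * g⁻¹) → Eqv z b (g * b * g⁻¹) → g ∈ E
  outside : ∃ x, x ∉ E
  coprime : ∀ α : MulAut K, (orderOf α).Coprime p → (∀ x, α x ∈ E ↔ x ∈ E) →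
    Eqv z a (α a) → Eqv z b (α b) → ∀ e ∈ E, α e = e
  da : Eqv z (a ^ l) (δ a)
  db : Eqv z (b ^ l') (δ b)
  hl : ((l * l' : ℤ) : ZMod p) = 1
  lne : (l : ZMod p) ^ 2 ≠ 1
  half : ∃ m : ℕ, (l : ZMod p) ^ m = -1
  swap : z = 1 → ∀ w ∈ E, ∀ i : ℤ, w ^ p = a ^ i → ∃ w' ∈ E, w' ^ p = b ^ i
  cases : (z = 1 ∧ (∀ e ∈ E, Commute e a ∧ Commute e b) ∧
      ∀ g ∈ E, g ^ p = 1 → ∃ i j : ℤ, g = a ^ i * b ^ j) ∨
    (¬ Commute a b ∧ ∀ g ∈ E, ∃ i j : ℤ, ∃ c ∈ E, (∀ e ∈ E, Commute c e) ∧ g = a ^ i * b ^ j * c)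

theorem elementary_case (hp5 : 5 ≤ p) (hK : IsPGroup p K) (hrk : Rk p K) {E : Subgroup K} [E.Normal]
    {δ : MulAut K} {z a b : K} {l l' : ℤ} (h : Ext p E δ z a b l l') :
    z = 1 ∧ ∃ (x : K) (n c : ℤ), (n : ZMod p) = (l : ZMod p) ^ 2 ∧ (c : ZMod p) ≠ 0 ∧ x ∉ E ∧
      x ^ p = 1 ∧ Commute x a ∧ x * b * x⁻¹ = b * a ^ c ∧ δ x = x ^ n ∧
      δ a = a ^ l ∧ δ b = b ^ l' ∧ Commute a b ∧ (∀ e ∈ E, ∃ i j : ℤ, e = a ^ i * b ^ j) ∧
      ∀ g, ∃ m : ℤ, ∃ e ∈ E, g = x ^ m * e := by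
  have hp2 : p ≠ 2 := by omega
  haveI hZn : (zpowers z).Normal := ⟨fun n hn g => by
    obtain ⟨i, rfl⟩ := hn
    show g * z ^ i * g⁻¹ ∈ zpowers z
    rw [mem_center_iff.1 (zpow_mem h.central i) g, mul_inv_cancel_right]
    exact zpow_mem (mem_zpowers z) i⟩
  obtain ⟨π, hπ⟩ : ∃ π : K →* K ⧸ zpowers z, π = QuotientGroup.mk' (zpowers z) := ⟨_, rfl⟩
  have heq : ∀ {x y : K}, Eqv z x y ↔ π x = π y := fun {x y} => by rw [hπ]; exact Eqv.iff_quot
  obtain ⟨A, hA⟩ : ∃ A, A = π a := ⟨_, rfl⟩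
  obtain ⟨B, hB⟩ : ∃ B, B = π b := ⟨_, rfl⟩
  have hAp : A ^ p = 1 := by rw [hA, ← map_pow, h.ap, map_one]
  have hBp : B ^ p = 1 := by rw [hB, ← map_pow, h.bp, map_one]
  have hind : ∀ i j : ℤ, A ^ i * B ^ j = 1 → (i : ZMod p) = 0 ∧ (j : ZMod p) = 0 := fun i j hij => by
    refine h.indep i j ?_
    rwa [hA, hB, ← map_zpow, ← map_zpow, ← map_mul, hπ, QuotientGroup.mk'_apply,
      QuotientGroup.eq_one_iff] at hij
  have hconjA : ∀ g, π g * A * (π g)⁻¹ = A := fun g => by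
    rw [hA, ← map_inv, ← map_mul, ← map_mul]; exact (heq.1 (h.fix g).1).symm
  have hconjB : ∀ g, ∃ k : ℤ, π g * B * (π g)⁻¹ = B * A ^ k := fun g => by
    obtain ⟨k, hk⟩ := (h.fix g).2
    exact ⟨k, by rw [hA, hB, ← map_zpow, ← map_inv, ← map_mul, ← map_mul, ← map_mul]; exact (heq.1 hk).symm⟩
  have hcAB : Commute A B := by
    have := hconjA b
    rw [← hB] at this
    exact (mul_inv_eq_iff_eq_mul.1 this).symm
  have hker : ∀ g, π g * B * (π g)⁻¹ = B → g ∈ E := fun g hg => by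
    refine h.kernel g (h.fix g).1 (heq.2 ?_)
    rw [map_mul, map_mul, map_inv, ← hB, hg]
  have hEB : ∀ e ∈ E, π e * B * (π e)⁻¹ = B := fun e he => by
    rw [hB, ← map_inv, ← map_mul, ← map_mul]; exact (heq.1 (h.efix e he)).symm
  -- an element outside `E`
  obtain ⟨x₀, hx₀⟩ := h.outside
  obtain ⟨c₀, hc₀⟩ := hconjB x₀
  have hc0 : (c₀ : ZMod p) ≠ 0 := fun h0 => hx₀ (hker _ (by
    rw [hc₀, zpow_eq_one_of_cast hAp h0, mul_one]))
  have hpowx : ∀ (g : K) (k : ℤ), π g * B * (π g)⁻¹ = B * A ^ k → ∀ n : ℤ,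
      π g ^ n * B * (π g ^ n)⁻¹ = B * A ^ (k * n) := by
    intro g k hg n
    obtain ⟨σ, hσ⟩ : ∃ σ : MulAut (K ⧸ zpowers z), σ = MulAut.conj (π g) := ⟨_, rfl⟩
    have hσA : σ A = A := by rw [hσ]; exact hconjA g
    have hσB : σ B = B * A ^ k := by rw [hσ]; exact hg
    have hσn : ∀ n : ℕ, (σ ^ n) A = A ∧ (σ ^ n) B = B * A ^ (k * n) := by
      intro n
      induction n with
      | zero => simp
      | succ n ih =>
        rw [pow_succ', MulAut.mul_apply, MulAut.mul_apply, ih.1, ih.2, map_mul, map_zpow, hσA, hσB,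
          mul_assoc, ← zpow_add]
        exact ⟨rfl, by congr 2; push_cast; ring⟩
    have hfin : ∃ N : ℕ, σ ^ n = σ ^ N ∧ π g ^ n = π g ^ N := by
      refine ⟨(n % orderOf (π g)).toNat, ?_, ?_⟩
      · rw [hσ, ← map_zpow, ← map_pow, ← zpow_natCast, Int.toNat_of_nonneg
          (Int.emod_nonneg _ (by exact_mod_cast (orderOf_pos (π g)).ne')), zpow_mod_orderOf]
      · rw [← zpow_natCast (π g), Int.toNat_of_nonneg
          (Int.emod_nonneg _ (by exact_mod_cast (orderOf_pos (π g)).ne')), zpow_mod_orderOf]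
    obtain ⟨N, hN1, hN2⟩ := hfin
    have hσg : (σ ^ n) B = π g ^ n * B * (π g ^ n)⁻¹ := by rw [hσ, ← map_zpow]; rfl
    -- compare with the value at zero multiples of the order
    have hord : ∀ M : ℕ, π g ^ M = 1 → (k : ZMod p) * M = 0 := fun M hM => by
      have h1 := (hσn M).2
      rw [hσ, ← map_pow, hM, map_one, MulAut.one_apply, left_eq_mul] at h1
      have h2 := (hind (k * M) 0 (by rw [zpow_zero, mul_one, h1])).1
      simpa using h2
    rw [← hσg, hN1, (hσn N).2]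
    refine congrArg (B * ·) (zcongr hAp ?_)
    have hdiv : π g ^ (n - N) = 1 := by rw [zpow_sub, zpow_natCast, hN2, mul_inv_cancel]
    obtain ⟨q, hq⟩ := orderOf_dvd_iff_zpow_eq_one.2 hdiv
    have h3 := hord (orderOf (π g)) (pow_orderOf_eq_one _)
    have h4 : ((n : ℤ) : ZMod p) - (N : ZMod p) = (orderOf (π g) : ZMod p) * (q : ZMod p) := by
      have := congrArg (fun t : ℤ => (t : ZMod p)) hq
      simpa using this
    push_cast
    linear_combination (-(q : ZMod p)) * h3 - (k : ZMod p) * h4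
  have hgen : ∀ x : K, x ∉ E → ∀ g, ∃ m : ℤ, ∃ e ∈ E, g = x ^ m * e := by
    intro x hx g
    obtain ⟨c, hc⟩ := hconjB x
    have hc' : (c : ZMod p) ≠ 0 := fun h0 => hx (hker _ (by
      rw [hc, zpow_eq_one_of_cast hAp h0, mul_one]))
    obtain ⟨k, hk⟩ := hconjB g
    obtain ⟨r, hr⟩ := exists_zinv hc'
    refine ⟨r * k, (x ^ (r * k))⁻¹ * g, hker _ ?_, (mul_inv_cancel_left _ _).symm⟩
    have h1 := hpowx x c hc (-(r * k))
    rw [map_mul, map_inv, map_zpow, ← zpow_neg, mul_inv_rev]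
    calc π x ^ (-(r * k)) * π g * B * ((π g)⁻¹ * (π x ^ (-(r * k)))⁻¹)
        = π x ^ (-(r * k)) * (π g * B * (π g)⁻¹) * (π x ^ (-(r * k)))⁻¹ := by group
      _ = π x ^ (-(r * k)) * B * (π x ^ (-(r * k)))⁻¹ *
            (π x ^ (-(r * k)) * A ^ k * (π x ^ (-(r * k)))⁻¹) := by rw [hk]; group
      _ = B * A ^ (c * -(r * k)) * A ^ k := by
        rw [h1, ← map_zpow, ← conj_zpow, hconjA]
      _ = B := by
        rw [mul_assoc, ← zpow_add, zpow_eq_one_of_cast hAp ?_, mul_one]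
        push_cast at hr ⊢
        linear_combination (-(k : ZMod p)) * hr
  have hxp : ∀ x : K, x ^ p ∈ E := fun x => by
    obtain ⟨k, hk⟩ := hconjB x
    refine hker _ ?_
    have h1 := hpowx x k hk p
    rw [zpow_natCast] at h1
    rw [map_pow, h1, zpow_eq_one_of_cast hAp (by push_cast; rw [ZMod.natCast_self, mul_zero]), mul_one]
  -- the action of the torus modulo `z`
  let δQ : MulAut (K ⧸ zpowers z) := QuotientGroup.congr (zpowers z) (zpowers z) δ (by
    refine Subgroup.eq_of_le_of_card_ge ?_ (card_map_of_injective δ.injective).ge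
    rintro _ ⟨_, ⟨i, rfl⟩, rfl⟩
    show δ (z ^ i) ∈ zpowers z
    rw [map_zpow]
    exact zpow_mem h.zinv i)
  have hδQ : ∀ x, π (δ x) = δQ (π x) := fun x => by rw [hπ]; rfl
  have hδA : δQ A = A ^ l := by rw [hA, ← hδQ, ← map_zpow]; exact (heq.1 h.da).symm
  have hδB : δQ B = B ^ l' := by rw [hB, ← hδQ, ← map_zpow]; exact (heq.1 h.db).symm
  have hδx : ∀ (x : K) (c : ℤ), π x * B * (π x)⁻¹ = B * A ^ c →
      π (δ x) * B * (π (δ x))⁻¹ = B * A ^ (c * l * l) := by
    intro x c hc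
    have h1 : δQ (π x * B ^ l * (π x)⁻¹) = π (δ x) * B * (π (δ x))⁻¹ := by
      rw [map_mul, map_mul, map_inv, map_zpow, hδB, ← zpow_mul, ← hδQ,
        zcongr hBp (m := l' * l) (n := 1) (by rw [mul_comm, h.hl, Int.cast_one]), zpow_one]
    rw [← h1, ← conj_zpow, hc, (hcAB.symm.zpow_right c).mul_zpow, map_mul, map_zpow, hδB,
      ← zpow_mul A, map_zpow, hδA, ← zpow_mul, ← zpow_mul,
      zcongr hBp (m := l' * l) (n := 1) (by rw [mul_comm, h.hl, Int.cast_one]), zpow_one]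
    congr 2
    ring
  -- the involution
  obtain ⟨m, hm⟩ := h.half
  obtain ⟨γ, hγ⟩ : ∃ γ : MulAut K, γ = δ ^ m := ⟨_, rfl⟩
  have hl' : (l' : ZMod p) ^ m = -1 := by
    have h1 : ((l : ZMod p) * (l' : ZMod p)) ^ m = 1 := by
      rw [← Int.cast_mul, h.hl, one_pow]
    rw [mul_pow, hm, neg_one_mul, neg_eq_iff_eq_neg] at h1
    exact h1
  have hγinv : ∀ x, γ x ∈ E ↔ x ∈ E := by
    intro x
    rw [hγ]
    clear hγ hm hl'
    induction m with
    | zero => simp
    | succ m ih => rw [pow_succ', MulAut.mul_apply, h.inv, ih]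
  have hδn : ∀ n : ℕ, π ((δ ^ n) a) = A ^ (l ^ n) ∧ π ((δ ^ n) b) = B ^ (l' ^ n) := by
    intro n
    induction n with
    | zero => simp [hA, hB]
    | succ n ih =>
      rw [pow_succ' δ, MulAut.mul_apply, MulAut.mul_apply, hδQ, hδQ, ih.1, ih.2, map_zpow, map_zpow,
        hδA, hδB, ← zpow_mul, ← zpow_mul, ← pow_succ', ← pow_succ']
      exact ⟨rfl, rfl⟩
  have hγA : π (γ a) = A⁻¹ := by
    rw [hγ, (hδn m).1, zcongr hAp (n := -1) (by push_cast; rw [hm]), zpow_neg_one]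
  have hγB : π (γ b) = B⁻¹ := by
    rw [hγ, (hδn m).2, zcongr hBp (n := -1) (by push_cast; rw [hl']), zpow_neg_one]
  let γQ : MulAut (K ⧸ zpowers z) := δQ ^ m
  have hγQ : ∀ x, π (γ x) = γQ (π x) := by
    intro x
    show π (γ x) = (δQ ^ m) (π x)
    rw [hγ]
    clear hγ hm hl' hγinv hγA hγB
    induction m with
    | zero => simp
    | succ m ih => rw [pow_succ', pow_succ', MulAut.mul_apply, MulAut.mul_apply, hδQ, ih]
  have hγc : (orderOf (γ ^ 2)).Coprime p := by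
    rw [hγ, ← pow_mul]
    exact Nat.Coprime.coprime_dvd_left (orderOf_pow_dvd _) h.hδ
  have hγγ : ∀ e ∈ E, γ (γ e) = e := by
    intro e he
    have h2 := h.coprime (γ ^ 2) hγc (fun x => by rw [pow_two, MulAut.mul_apply, hγinv, hγinv])
      (heq.2 (by rw [pow_two, MulAut.mul_apply, hγQ, hγA, map_inv, hA, ← hγQ, hγA, inv_inv, hA]))
      (heq.2 (by rw [pow_two, MulAut.mul_apply, hγQ, hγB, map_inv, hB, ← hγQ, hγB, inv_inv, hB]))
      e he
    rwa [pow_two, MulAut.mul_apply] at h2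
  have hγx : ∀ x, x⁻¹ * γ x ∈ E := by
    intro x
    obtain ⟨c, hc⟩ := hconjB x
    refine hker _ ?_
    have h1 : ∀ n : ℕ, π ((δ ^ n) x) * B * (π ((δ ^ n) x))⁻¹ = B * A ^ (c * (l ^ n) * (l ^ n)) := by
      intro n
      induction n with
      | zero => simp [hc]
      | succ n ih =>
        rw [pow_succ' δ, MulAut.mul_apply, hδx _ _ ih]
        congr 2
        ring
    have h2 := h1 m
    rw [← hγ] at h2
    rw [map_mul, map_inv, mul_inv_rev, inv_inv]
    calc (π x)⁻¹ * π (γ x) * B * ((π (γ x))⁻¹ * π x)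
        = (π x)⁻¹ * (π (γ x) * B * (π (γ x))⁻¹) * π x := by group
      _ = (π x)⁻¹ * (π x * B * (π x)⁻¹) * π x := by
        rw [h2, hc]
        congr 3
        refine zcongr hAp ?_
        push_cast
        rw [hm]
        ring
      _ = B := by group
  have hγ2 : ∀ x, γ (γ x) = x := by
    intro x
    have he : x⁻¹ * γ (γ x) ∈ E := by
      have h1 := hγx x
      have h2 := hγx (γ x)
      have h3 := E.mul_mem h1 h2
      rwa [mul_assoc, mul_inv_cancel_left] at h3
    obtain ⟨k, hk⟩ := hK (x⁻¹ * γ (γ x))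
    exact fixed_of_coprime hγc (x := x) (d := x⁻¹ * γ (γ x))
      (by rw [pow_two, MulAut.mul_apply, hγγ _ he]) hk
      (by rw [pow_two, MulAut.mul_apply, mul_inv_cancel_left]) |>.symm |> fun e => by
        rw [pow_two, MulAut.mul_apply] at e; exact e.symm
  -- an element outside `E` fixed by the involution
  obtain ⟨x, hx, hγfix⟩ : ∃ x, x ∉ E ∧ γ x = x := by
    obtain ⟨e, he⟩ : ∃ e, e = x₀⁻¹ * γ x₀ := ⟨_, rfl⟩
    have heE : e ∈ E := he ▸ hγx x₀
    have hγe : γ e = e⁻¹ := by rw [he, map_mul, map_inv, hγ2, mul_inv_rev, inv_inv]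
    have hodd : Odd (orderOf e) := by
      obtain ⟨k, hk⟩ := hK e
      exact Odd.of_dvd_nat ((hp.out.odd_of_ne_two hp2).pow) (orderOf_dvd_of_pow_eq_one hk)
    obtain ⟨r, hr⟩ := hodd
    refine ⟨x₀ * e ^ (r + 1), fun hmem => hx₀ ?_, ?_⟩
    · have := E.mul_mem hmem (E.inv_mem (pow_mem heE (r + 1)))
      rwa [mul_inv_cancel_right] at this
    · rw [map_mul, map_pow, hγe, inv_pow,
        show γ x₀ = x₀ * e by rw [he, mul_inv_cancel_left], mul_assoc]
      congr 1
      rw [mul_inv_eq_iff_eq_mul, ← pow_add]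
      conv_lhs => rw [← pow_one e]
      rw [show r + 1 + (r + 1) = 1 + orderOf e by omega, pow_add, pow_orderOf_eq_one, mul_one]
  obtain ⟨c, hc⟩ := hconjB x
  have hc' : (c : ZMod p) ≠ 0 := fun h0 => hx (hker _ (by
    rw [hc, zpow_eq_one_of_cast hAp h0, mul_one]))
  obtain ⟨n, hn⟩ : ∃ n : ℤ, (n : ZMod p) = (l : ZMod p) ^ 2 := ⟨l ^ 2, by push_cast; rfl⟩
  obtain ⟨c₁, hc₁⟩ : ∃ c₁, c₁ = (x ^ n)⁻¹ * δ x := ⟨_, rfl⟩
  have hc₁E : c₁ ∈ E := by
    rw [hc₁]
    refine hker _ ?_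
    rw [map_mul, map_inv, map_zpow, mul_inv_rev, inv_inv]
    calc (π x ^ n)⁻¹ * π (δ x) * B * ((π (δ x))⁻¹ * π x ^ n)
        = (π x ^ n)⁻¹ * (π (δ x) * B * (π (δ x))⁻¹) * π x ^ n := by group
      _ = (π x ^ n)⁻¹ * (π x ^ n * B * (π x ^ n)⁻¹) * π x ^ n := by
        rw [hδx x c hc, hpowx x c hc n]
        congr 3
        refine zcongr hAp ?_
        push_cast
        rw [hn]
        ring
      _ = B := by group
  have hδxeq : δ x = x ^ n * c₁ := by rw [hc₁, mul_inv_cancel_left]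
  have hγc₁ : γ c₁ = c₁ := by
    have hcomm : γ (δ x) = δ (γ x) := by
      rw [← MulAut.mul_apply, ← MulAut.mul_apply, hγ, ← pow_succ, ← pow_succ']
    rw [hc₁, map_mul, map_inv, map_zpow, hγfix, hcomm, hγfix]
  obtain ⟨r, hr⟩ := exists_zinv (k := n - 1)
    (by push_cast; rw [hn, sub_ne_zero]; exact h.lne)
  obtain ⟨k, hk⟩ := (ZMod.intCast_eq_intCast_iff_dvd_sub ((n - 1) * r) 1 p).1 (by rw [hr, Int.cast_one])
  have hsplit : ∀ w : K, w = (w ^ (n - 1)) ^ r * (w ^ (p : ℤ)) ^ k := fun w => by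
    rw [← zpow_mul, ← zpow_mul, ← zpow_add, show (n - 1) * r + p * k = 1 by omega, zpow_one]
  rcases h.cases with ⟨hz1, hcent, homega⟩ | ⟨hne, hdec⟩
  · -- the involution has no fixed points on `E`
    have hEq1 : ∀ {u v : K}, π u = π v → u = v := fun {u v} huv => by
      obtain ⟨i, hi⟩ := heq.2 huv
      rw [hi, hz1, one_zpow, mul_one]
    have hcab : Commute a b := (hcent a h.amem).2
    have hγa : γ a = a⁻¹ := hEq1 (by rw [hγA, map_inv, hA])
    have hγb : γ b = b⁻¹ := hEq1 (by rw [hγB, map_inv, hB])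
    have hfree : ∀ e ∈ E, γ e = e → e = 1 := by
      intro e he hγe
      by_contra hne
      obtain ⟨g, hgE, hgp, hgne, hgf⟩ : ∃ g ∈ E, g ^ p = 1 ∧ g ≠ 1 ∧ γ g = g := by
        obtain ⟨j, hj⟩ := hK e
        obtain ⟨d, hd1, hd2⟩ := (Nat.dvd_prime_pow hp.out).1 (orderOf_dvd_of_pow_eq_one hj)
        have hd0 : d ≠ 0 := fun h0 => hne (orderOf_eq_one_iff.1 (by rw [hd2, h0, pow_zero]))
        refine ⟨e ^ p ^ (d - 1), pow_mem he _, ?_, fun h0 => ?_, by rw [map_pow, hγe]⟩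
        · rw [← pow_mul, ← pow_succ, Nat.sub_add_cancel (Nat.one_le_iff_ne_zero.2 hd0), ← hd2,
            pow_orderOf_eq_one]
        · have := orderOf_dvd_of_pow_eq_one h0
          rw [hd2, Nat.pow_dvd_pow_iff_le_right hp.out.one_lt] at this
          omega
      obtain ⟨i, j, rfl⟩ := homega g hgE hgp
      rw [map_mul, map_zpow, map_zpow, hγa, hγb, inv_zpow, inv_zpow] at hgf
      have h2 : a ^ (i + i) * b ^ (j + j) = 1 := by
        rw [zpow_add, zpow_add, (hcab.zpow_zpow i j).mul_mul_mul_comm]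
        nth_rewrite 1 [← hgf]
        rw [← mul_inv_rev, ← (hcab.zpow_zpow i j).eq, inv_mul_cancel]
      obtain ⟨hi, hj⟩ := h.indep _ _ (by rw [h2]; exact one_mem _)
      have h2ne : (2 : ZMod p) ≠ 0 := by
        intro h0
        have : ((2 : ℕ) : ZMod p) = 0 := by exact_mod_cast h0
        rw [ZMod.natCast_eq_zero_iff] at this
        have := Nat.le_of_dvd (by norm_num) this
        omega
      push_cast at hi hj
      rw [← two_mul, mul_eq_zero, or_iff_right h2ne] at hi hj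
      refine hgne ?_
      rw [zpow_eq_one_of_cast h.ap hi, zpow_eq_one_of_cast h.bp hj, one_mul]
    have hEcomm : ∀ e ∈ E, ∀ f ∈ E, Commute e f := by
      intro e he f hf
      obtain ⟨γE, hγE⟩ : ∃ g : E →* E, ∀ y : E, ((g y : E) : K) = γ y :=
        ⟨MonoidHom.mk' (fun y => ⟨γ y, (hγinv y).2 y.2⟩) (fun y y' => Subtype.ext (map_mul γ _ _)),
          fun _ => rfl⟩
      have := MonoidHom.FixedPointFree.commute_all_of_involutive (φ := γE)
        (fun y hy => Subtype.ext (hfree y y.2 (by rw [← hγE, hy])))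
        (fun y => Subtype.ext (by rw [hγE, hγE, hγγ y y.2])) ⟨e, he⟩ ⟨f, hf⟩
      exact congrArg Subtype.val this
    have hxa : x * a * x⁻¹ = a := hEq1 (by rw [map_mul, map_mul, map_inv, ← hA, hconjA])
    have hxb : x * b * x⁻¹ = b * a ^ c :=
      hEq1 (by rw [map_mul, map_mul, map_mul, map_zpow, map_inv, ← hA, ← hB, hc])
    have hxp1 : x ^ p = 1 := hfree _ (hxp x) (by rw [map_pow, hγfix])
    -- the subgroup is elementary abelian
    obtain ⟨σ, hσ⟩ : ∃ σ : MulAut K, σ = MulAut.conj x := ⟨_, rfl⟩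
    have hσE : ∀ y ∈ E, σ y ∈ E := fun y hy => by
      rw [hσ]; exact Subgroup.Normal.conj_mem inferInstance y hy x
    have helem : ∀ e ∈ E, e ^ p = 1 := by
      have hnob : ∀ w ∈ E, ∀ i j : ℤ, w ^ p = a ^ i * b ^ j → (j : ZMod p) = 0 := by
        intro w hw i j hwp
        obtain ⟨d1, hd1⟩ : ∃ d, d = w⁻¹ * σ w := ⟨_, rfl⟩
        have hd1E : d1 ∈ E := hd1 ▸ E.mul_mem (E.inv_mem hw) (hσE w hw)
        have hσw : σ w = w * d1 := by rw [hd1, mul_inv_cancel_left]
        have hσa : σ a = a := by rw [hσ]; exact hxa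
        have hσb : σ b = b * a ^ c := by rw [hσ]; exact hxb
        have hd1p : d1 ^ p = a ^ (c * j) := by
          rw [hd1, Commute.mul_pow (hEcomm _ (E.inv_mem hw) _ (hσE w hw)), inv_pow, ← map_pow, hwp,
            map_mul, map_zpow, map_zpow, hσa, hσb, (hcab.symm.zpow_right c).mul_zpow, ← zpow_mul]
          group
        obtain ⟨d2, hd2⟩ : ∃ d, d = d1⁻¹ * σ d1 := ⟨_, rfl⟩
        have hd2E : d2 ∈ E := hd2 ▸ E.mul_mem (E.inv_mem hd1E) (hσE d1 hd1E)
        have hσd1 : σ d1 = d1 * d2 := by rw [hd2, mul_inv_cancel_left]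
        have hd2p : d2 ^ p = 1 := by
          rw [hd2, Commute.mul_pow (hEcomm _ (E.inv_mem hd1E) _ (hσE d1 hd1E)), inv_pow, ← map_pow,
            hd1p, map_zpow, hσa, inv_mul_cancel]
        obtain ⟨i2, j2, hd2eq⟩ := homega d2 hd2E hd2p
        obtain ⟨d3, hd3⟩ : ∃ d, d = a ^ (c * j2) := ⟨_, rfl⟩
        have hd3E : d3 ∈ E := hd3 ▸ zpow_mem h.amem _
        have hd3p : d3 ^ p = 1 := by
          rw [hd3, ← zpow_natCast, ← zpow_mul, mul_comm, zpow_mul, zpow_natCast, h.ap, one_zpow]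
        have hσd2 : σ d2 = d2 * d3 := by
          rw [hd2eq, hd3, map_mul, map_zpow, map_zpow, hσa, hσb, (hcab.symm.zpow_right c).mul_zpow,
            ← zpow_mul, mul_assoc]
        have hσd3 : σ d3 = d3 := by rw [hd3, map_zpow, hσa]
        have hit : ∀ N : ℕ, (σ ^ N) w = w * d1 ^ N * d2 ^ N.choose 2 * d3 ^ N.choose 3 := by
          intro N
          induction N with
          | zero => simp
          | succ N ih =>
            rw [pow_succ', MulAut.mul_apply, ih, map_mul, map_mul, map_mul, map_pow, map_pow, map_pow,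
              hσw, hσd1, hσd2, hσd3, (hEcomm _ hd1E _ hd2E).mul_pow, (hEcomm _ hd2E _ hd3E).mul_pow,
              Nat.choose_succ_succ N 1, Nat.choose_succ_succ N 2, Nat.choose_one_right, pow_add, pow_add,
              pow_succ d1]
            have hc12 : ∀ s t : ℕ, Commute (d2 ^ s) (d1 ^ t) := fun s t =>
              (hEcomm _ hd2E _ hd1E).pow_pow s t
            calc w * d1 * (d1 ^ N * d2 ^ N) * (d2 ^ N.choose 2 * d3 ^ N.choose 2) * d3 ^ N.choose 3
                = w * (d1 * d1 ^ N) * (d2 ^ N * d2 ^ N.choose 2) *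
                    (d3 ^ N.choose 2 * d3 ^ N.choose 3) := by group
              _ = w * (d1 ^ N * d1) * (d2 ^ N * d2 ^ N.choose 2) *
                    (d3 ^ N.choose 2 * d3 ^ N.choose 3) := by rw [← pow_succ', pow_succ]
              _ = _ := by simp [Nat.succ_eq_add_one, pow_add, mul_assoc]
        have h1 := hit p
        rw [hσ, ← map_pow, hxp1, map_one, MulAut.one_apply] at h1
        obtain ⟨u2, hu2⟩ : p ∣ p.choose 2 := hp.out.dvd_choose_self two_ne_zero (by omega)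
        obtain ⟨u3, hu3⟩ : p ∣ p.choose 3 := hp.out.dvd_choose_self three_ne_zero (by omega)
        rw [hu2, hu3, pow_mul, pow_mul, hd2p, hd3p, one_pow, one_pow, mul_one, mul_one,
          left_eq_mul, hd1p] at h1
        have h2 := (h.indep (c * j) 0 (by rw [zpow_zero, mul_one, h1]; exact one_mem _)).1
        push_cast at h2
        exact (mul_eq_zero.1 h2).resolve_left hc'
      intro e he
      by_contra hne
      obtain ⟨g, hgE, hgp, hgne⟩ : ∃ g ∈ E, (g ^ p) ^ p = 1 ∧ g ^ p ≠ 1 := by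
        obtain ⟨j, hj⟩ := hK e
        obtain ⟨d, hd1, hd2⟩ := (Nat.dvd_prime_pow hp.out).1 (orderOf_dvd_of_pow_eq_one hj)
        have hd0 : 2 ≤ d := by
          by_contra h0
          exact hne (orderOf_dvd_iff_pow_eq_one.1
            (hd2 ▸ (pow_dvd_pow p (show d ≤ 1 by omega)).trans (pow_one p).dvd))
        refine ⟨e ^ p ^ (d - 2), pow_mem he _, ?_, fun h0 => ?_⟩
        · rw [← pow_mul, ← pow_mul, ← pow_two, ← pow_add, show d - 2 + 2 = d by omega, ← hd2,
            pow_orderOf_eq_one]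
        · rw [← pow_mul, ← pow_succ] at h0
          have := orderOf_dvd_of_pow_eq_one h0
          rw [hd2, Nat.pow_dvd_pow_iff_le_right hp.out.one_lt] at this
          omega
      obtain ⟨i, j, hij⟩ := homega _ (pow_mem hgE p) hgp
      have hj := hnob g hgE i j hij
      rw [zpow_eq_one_of_cast h.bp hj, mul_one] at hij
      obtain ⟨w', hw', hw'p⟩ := h.swap hz1 g hgE i hij
      have hi := hnob w' hw' 0 i (by rw [zpow_zero, one_mul]; exact hw'p)
      exact hgne (by rw [hij, zpow_eq_one_of_cast h.ap hi])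
    have hc₁1 : c₁ = 1 := hfree _ hc₁E hγc₁
    refine ⟨hz1, x, n, c, hn, hc', hx, hxp1, mul_inv_eq_iff_eq_mul.1 hxa, hxb,
      by rw [hδxeq, hc₁1, mul_one], hEq1 (by rw [hδQ, ← hA, hδA, map_zpow, hA]),
      hEq1 (by rw [hδQ, ← hB, hδB, map_zpow, hB]), hcab,
      fun e he => homega e he (helem e he), hgen x hx⟩
  · exfalso
    -- the centre of `E`
    obtain ⟨q, hq⟩ : ∃ q : ℤ, b * a * b⁻¹ = a * z ^ q := (h.fix b).1
    have hzq : z ^ q ≠ 1 := fun h0 => hne (by
      rw [h0, mul_one] at hq; exact (mul_inv_eq_iff_eq_mul.1 hq).symm)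
    have hzne : z ≠ 1 := fun h0 => hzq (by rw [h0, one_zpow])
    have hza : a ∉ zpowers z := fun h0 => by
      have := (h.indep 1 0 (by simpa using h0)).1
      simp at this
    have hzc : ∀ (i : ℤ) (g : K), Commute (z ^ i) g := fun i g =>
      (mem_center_iff.1 (zpow_mem h.central i) g).symm
    have homega : ∀ w ∈ E, (∀ e ∈ E, Commute w e) → w ^ p = 1 → w ∈ zpowers z := by
      intro w hw hwc hwp
      obtain ⟨i, j, hij⟩ := hrk z a w h.zp h.ap hwp (by simpa using hzc 1 a)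
        (by simpa using hzc 1 w) (hwc a h.amem).symm hzne hza
      have h1 : b * w * b⁻¹ = w := by rw [← (hwc b h.bmem).eq, mul_inv_cancel_right]
      rw [hij, ← conj_mul, ← (hzc i b).eq, mul_inv_cancel_right, ← conj_zpow, hq,
        (hzc q a).symm.mul_zpow, ← zpow_mul, mul_right_inj, mul_eq_left,
        zpow_eq_one_iff h.zp hzne] at h1
      push_cast at h1
      rcases mul_eq_zero.1 h1 with h2 | h2
      · exact absurd (zpow_eq_one_of_cast h.zp h2) hzq
      · rw [hij, zpow_eq_one_of_cast h.ap h2, mul_one]; exact zpow_mem (mem_zpowers z) i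
    have hδz : δ z = z := by
      obtain ⟨s, hs⟩ := h.zinv
      obtain ⟨i1, hi1⟩ := h.da
      obtain ⟨i2, hi2⟩ := h.db
      have h1 := congrArg δ hq
      rw [map_mul, map_mul, map_inv, map_mul, map_zpow, hi1, hi2, ← (show z ^ s = δ z from hs)] at h1
      have h2 : b ^ l' * a ^ l * (b ^ l')⁻¹ = a ^ l * z ^ (s * q) := by
        rw [← zpow_mul] at h1
        calc b ^ l' * a ^ l * (b ^ l')⁻¹
            = b ^ l' * (a ^ l * z ^ i1) * (b ^ l')⁻¹ * z ^ (-i1) := by
              rw [← conj_mul, ← (hzc i1 (b ^ l')).eq, mul_inv_cancel_right, mul_assoc _ _ (z ^ (-i1)),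
                ← zpow_add, add_neg_cancel, zpow_zero, mul_one]
          _ = z ^ i2 * (b ^ l' * (a ^ l * z ^ i1) * (b ^ l')⁻¹) * (z ^ i2)⁻¹ * z ^ (-i1) := by
              rw [(hzc i2 _).eq, mul_inv_cancel_right]
          _ = b ^ l' * z ^ i2 * (a ^ l * z ^ i1) * (b ^ l' * z ^ i2)⁻¹ * z ^ (-i1) := by
              rw [← (hzc i2 (b ^ l')).eq]; group
          _ = a ^ l * z ^ i1 * z ^ (s * q) * z ^ (-i1) := by rw [h1]
          _ = a ^ l * z ^ (s * q) := by
              rw [mul_assoc (a ^ l) (z ^ i1), ← zpow_add, mul_assoc, ← zpow_add]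
              congr 2; ring
      have hbn : ∀ N : ℕ, b ^ N * a ^ l * (b ^ N)⁻¹ = a ^ l * z ^ (q * l * N) := by
        intro N
        induction N with
        | zero => simp
        | succ N ih =>
          calc b ^ (N + 1) * a ^ l * (b ^ (N + 1))⁻¹ = b * (b ^ N * a ^ l * (b ^ N)⁻¹) * b⁻¹ := by
                rw [pow_succ']; group
            _ = b * a ^ l * b⁻¹ * z ^ (q * l * N) := by
              rw [ih, ← conj_mul, ← (hzc _ b).eq, mul_inv_cancel_right]
            _ = a ^ l * z ^ (q * l * (N + 1 : ℕ)) := by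
              rw [← conj_zpow, hq, (hzc q a).symm.mul_zpow, ← zpow_mul, mul_assoc, ← zpow_add]
              congr 2; push_cast; ring
      have hbl : b ^ l' = b ^ ((l' : ZMod p).val) := by
        rw [← zpow_natCast, zcongr h.bp (n := ((l' : ZMod p).val : ℤ)) (by simp)]
      rw [hbl, hbn, mul_right_inj] at h2
      have h3 : z ^ (q * l * ((l' : ZMod p).val : ℤ) - s * q) = 1 := by
        rw [zpow_sub, h2, mul_inv_cancel]
      rw [zpow_eq_one_iff h.zp hzne] at h3
      have hl1 := h.hl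
      push_cast [ZMod.natCast_zmod_val] at h3 hl1
      have h4 : (q : ZMod p) * (1 - (s : ZMod p)) = 0 := by
        linear_combination h3 - (q : ZMod p) * hl1
      rcases mul_eq_zero.1 h4 with h5 | h5
      · exact absurd (zpow_eq_one_of_cast h.zp h5) hzq
      · rw [← (show z ^ s = δ z from hs),
          zcongr h.zp (n := 1) (by rw [sub_eq_zero] at h5; rw [← h5, Int.cast_one]), zpow_one]
    have hcentral : ∀ w ∈ E, (∀ e ∈ E, Commute w e) → δ w = w := by
      intro w hw hwc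
      obtain ⟨j, hj⟩ := hK w
      induction j generalizing w with
      | zero => rw [pow_zero, pow_one] at hj; rw [hj, map_one]
      | succ j ih =>
        have h1 : δ (w ^ p) = w ^ p := ih _ (pow_mem hw p) (fun e he => (hwc e he).pow_left p)
          (by rw [← pow_mul, ← pow_succ', hj])
        have hδw : δ w ∈ E := (h.inv w).2 hw
        have hδwc : ∀ e ∈ E, Commute (δ w) e := fun e he => by
          have := (hwc (δ⁻¹ e) ((h.inv _).1 (by rwa [MulAut.apply_inv_self]))).map δ.toMonoidHom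
          simpa using this
        have hd : (w⁻¹ * δ w) ^ p = 1 := by
          rw [((hwc _ hδw).inv_left).mul_pow, inv_pow, ← map_pow, h1, inv_mul_cancel]
        obtain ⟨s, hs⟩ := homega _ (E.mul_mem (E.inv_mem hw) hδw)
          (fun e he => ((hwc e he).inv_left).mul_left (hδwc e he)) hd
        refine fixed_of_coprime h.hδ (d := z ^ s) (by rw [map_zpow, hδz]) (k := 1) ?_
          (by rw [show z ^ s = w⁻¹ * δ w from hs, mul_inv_cancel_left])
        rw [pow_one, show z ^ s = w⁻¹ * δ w from hs]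
        exact hd
    have hγcent : ∀ w ∈ E, (∀ e ∈ E, Commute w e) → γ w = w := by
      intro w hw hwc
      rw [hγ]
      clear hγ hm hl' hγinv hγA hγB hγQ hγc hγγ hγx hγ2 hγfix hγc₁
      induction m with
      | zero => simp
      | succ m ih => rw [pow_succ', MulAut.mul_apply, ih, hcentral w hw hwc]
    have hfixE : ∀ e ∈ E, γ e = e → ∀ f ∈ E, Commute e f := by
      intro e he hγe
      obtain ⟨i, j, w, hw, hwc, rfl⟩ := hdec e he
      have h1 := congrArg π hγe
      simp only [hγQ, map_mul, map_zpow] at h1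
      rw [← hγQ a, ← hγQ b, ← hγQ w, hγA, hγB, hγcent w hw hwc, mul_left_inj, inv_zpow, inv_zpow, ← hA,
        ← hB] at h1
      have h2 : A ^ (i + i) * B ^ (j + j) = 1 := by
        rw [zpow_add, zpow_add, (hcAB.zpow_zpow i j).mul_mul_mul_comm]
        nth_rewrite 1 [← h1]
        rw [← mul_inv_rev, ← (hcAB.zpow_zpow i j).eq, inv_mul_cancel]
      obtain ⟨hi, hj⟩ := hind _ _ h2
      have h2ne : (2 : ZMod p) ≠ 0 := by
        intro h0
        have : ((2 : ℕ) : ZMod p) = 0 := by exact_mod_cast h0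
        rw [ZMod.natCast_eq_zero_iff] at this
        have := Nat.le_of_dvd (by norm_num) this
        omega
      push_cast at hi hj
      rw [← two_mul, mul_eq_zero, or_iff_right h2ne] at hi hj
      rw [zpow_eq_one_of_cast h.ap hi, zpow_eq_one_of_cast h.bp hj, one_mul, one_mul]
      exact hwc
    have hzc₁ := hfixE c₁ hc₁E hγc₁
    have hxp' : x ^ p ∈ E := hxp x
    have hxpc := hfixE _ hxp' (by rw [map_pow, hγfix])
    have hxcomm : ∀ w ∈ E, (∀ e ∈ E, Commute w e) → Commute x w := by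
      intro w hw hwc
      have hw' : x * w * x⁻¹ ∈ E := Subgroup.Normal.conj_mem inferInstance w hw x
      have hwc' : ∀ e ∈ E, Commute (x * w * x⁻¹) e := fun e he => by
        have := (hwc (x⁻¹ * e * x) (by simpa using Subgroup.Normal.conj_mem inferInstance e he x⁻¹)).map
          (MulAut.conj x).toMonoidHom
        simpa [MulAut.conj_apply, mul_assoc] using this
      have h1 := hcentral _ hw' hwc'
      rw [map_mul, map_mul, map_inv, hcentral w hw hwc, hδxeq, mul_inv_rev] at h1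
      have h2 : x ^ n * w * (x ^ n)⁻¹ = x * w * x⁻¹ := by
        rw [← h1]
        calc x ^ n * w * (x ^ n)⁻¹ = x ^ n * (w * c₁) * c₁⁻¹ * (x ^ n)⁻¹ := by group
          _ = x ^ n * (c₁ * w) * c₁⁻¹ * (x ^ n)⁻¹ := by rw [(hwc c₁ hc₁E).eq]
          _ = x ^ n * c₁ * w * (c₁⁻¹ * (x ^ n)⁻¹) := by group
      have h3 : Commute (x ^ (n - 1)) w := by
        show x ^ (n - 1) * w = w * x ^ (n - 1)
        calc x ^ (n - 1) * w = x⁻¹ * (x ^ n * w * (x ^ n)⁻¹) * x ^ n := by group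
          _ = w * x ^ (n - 1) := by rw [h2]; group
      have h4 : Commute (x ^ (p : ℤ)) w := by rw [zpow_natCast]; exact (hwc _ hxp').symm
      rw [hsplit x]
      exact (h3.zpow_left r).mul_left (h4.zpow_left k)
    have hxc₁ : Commute x c₁ := hxcomm c₁ hc₁E hzc₁
    obtain ⟨w, hw⟩ : ∃ w, w = c₁ ^ (-r) * (x ^ p) ^ k := ⟨_, rfl⟩
    have hwE : w ∈ E := hw ▸ E.mul_mem (zpow_mem hc₁E _) (zpow_mem hxp' _)
    have hwc : ∀ e ∈ E, Commute w e := fun e he =>
      hw ▸ ((hzc₁ e he).zpow_left _).mul_left ((hxpc e he).zpow_left _)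
    have hxpw : x ^ p = w ^ p := by
      have h1 : δ (x ^ p) = x ^ p := hcentral _ hxp' hxpc
      rw [map_pow, hδxeq, (hxc₁.zpow_left n).mul_pow] at h1
      have h2 : (x ^ p) ^ (n - 1) = (c₁ ^ p)⁻¹ := by
        rw [zpow_sub_one]
        rw [← zpow_natCast (x ^ n), ← zpow_mul, mul_comm, zpow_mul, zpow_natCast] at h1
        rw [eq_inv_iff_mul_eq_one, mul_assoc,
          ((hxc₁.pow_left p).inv_left.pow_right p).eq, ← mul_assoc, h1, mul_inv_cancel]
      rw [hw, ((hxc₁.pow_left p).symm.zpow_zpow (-r) k).mul_pow]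
      conv_lhs => rw [hsplit (x ^ p), h2]
      simp only [← zpow_natCast, ← zpow_neg, ← zpow_mul]
      congr 2 <;> ring
    obtain ⟨x₂, hx₂⟩ : ∃ x₂, x₂ = x * w⁻¹ := ⟨_, rfl⟩
    have hx₂p : x₂ ^ p = 1 := by
      rw [hx₂, (hxcomm w hwE hwc).inv_right.mul_pow, inv_pow, hxpw, mul_inv_cancel]
    have hx₂E : x₂ ∉ E := fun h0 => hx (by
      have := E.mul_mem h0 hwE
      rwa [hx₂, inv_mul_cancel_right] at this)
    have hγx₂ : γ x₂ = x₂ := by rw [hx₂, map_mul, map_inv, hγfix, hγcent w hwE hwc]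
    obtain ⟨i, hi⟩ := (h.fix x₂).1
    have hza' : Commute x₂ a := by
      obtain ⟨j, hj⟩ : ∃ j : ℤ, γ a = a⁻¹ * z ^ j := heq.2 (by rw [hγA, map_inv, hA])
      have hγz : γ z = z := hγcent z h.zmem (fun e _ => by simpa using hzc 1 e)
      have h1 := congrArg γ hi
      rw [map_mul, map_mul, map_inv, hγx₂, hj, map_mul, map_zpow, hγz, hj, ← conj_mul,
        ← (hzc j x₂).eq, mul_inv_cancel_right, mul_assoc a⁻¹, ← zpow_add] at h1
      have h2 : x₂ * a⁻¹ * x₂⁻¹ = a⁻¹ * z ^ (-i) := by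
        rw [show x₂ * a⁻¹ * x₂⁻¹ = (x₂ * a * x₂⁻¹)⁻¹ by group, hi, mul_inv_rev, ← zpow_neg,
          (hzc (-i) a⁻¹).eq]
      rw [h2, mul_assoc, ← zpow_add, mul_right_inj] at h1
      have h3 : z ^ (i + i) = 1 := by
        rw [show i + i = (j + i) - (-i + j) by ring, zpow_sub, h1, mul_inv_cancel]
      rw [zpow_eq_one_iff h.zp hzne] at h3
      have h2ne : (2 : ZMod p) ≠ 0 := by
        intro h0
        have : ((2 : ℕ) : ZMod p) = 0 := by exact_mod_cast h0
        rw [ZMod.natCast_eq_zero_iff] at this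
        have := Nat.le_of_dvd (by norm_num) this
        omega
      push_cast at h3
      rw [← two_mul, mul_eq_zero, or_iff_right h2ne] at h3
      rw [zpow_eq_one_of_cast h.zp h3, mul_one] at hi
      exact mul_inv_eq_iff_eq_mul.1 hi
    obtain ⟨i', j', hij⟩ := hrk z a x₂ h.zp h.ap hx₂p (by simpa using hzc 1 a)
      (by simpa using hzc 1 x₂) hza'.symm hzne hza
    exact hx₂E (hij ▸ E.mul_mem (zpow_mem h.zmem _) (zpow_mem h.amem _))

end Cfsg.Agent.FusSys.RankTwoResist
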