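import Cfsg.Agent.FusSys.RankTwoEqv
import Cfsg.Agent.FusSys.Generation
import Cfsg.Agent.FusSys.Criteria
import Cfsg.Agent.FusSys.Saturation
import Mathlib.GroupTheory.Exponent

/-!
# Fusion systems on `p`-groups of rank two, `p ≥ 5`
-/

set_option autoImplicit false

namespace Cfsg.Agent.FusSys.RankTwoResist

open Cfsg Cfsg.FusionSystem Cfsg.Agent.FusSys

universe u

variable {Ω : Type u} [Group Ω] {S : Subgroup Ω} {F : FusionSystem S} {p : ℕ}

theorem coe_ne {P : Subgroup Ω} {x : P} {Q : Subgroup Ω} (hQ : P ≤ Q) (h : x ≠ 1) :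
    Subgroup.inclusion hQ x ≠ 1 := fun e => h (Subgroup.inclusion_injective hQ (e.trans (map_one _).symm))

variable [Fact p.Prime] [Finite S]

theorem rk_of_rank (hrank : ∀ E : Subgroup Ω, E ≤ S → Cfsg.IsElementaryAbelian p E → Nat.card E ≤ p ^ 2)
    {P : Subgroup Ω} (hP : P ≤ S) : Rk p P := by
  haveI := finite_of_le hP
  refine rk_of_card fun H hH => ?_
  have h1 : Cfsg.IsElementaryAbelian p (H.map P.subtype) := by
    refine ⟨⟨⟨fun x y => ?_⟩⟩, fun a ha => ?_⟩
    · obtain ⟨⟨x, hx⟩, ⟨y, hy⟩⟩ := x, y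
      obtain ⟨x', hx', rfl⟩ := Subgroup.mem_map.1 hx
      obtain ⟨y', hy', rfl⟩ := Subgroup.mem_map.1 hy
      refine Subtype.ext ?_
      show (P.subtype x') * P.subtype y' = P.subtype y' * P.subtype x'
      rw [← map_mul, ← map_mul]
      exact congrArg _ (congrArg Subtype.val (hH.1.is_comm.comm ⟨x', hx'⟩ ⟨y', hy'⟩))
    · obtain ⟨a', ha', rfl⟩ := Subgroup.mem_map.1 ha
      rw [← map_pow, hH.2 a' ha', map_one]
  have h2 := hrank _ (fun x hx => by
    obtain ⟨x', -, rfl⟩ := Subgroup.mem_map.1 hx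
    exact hP x'.2) h1
  rwa [Subgroup.card_map_of_injective P.subtype_injective] at h2

omit [Fact p.Prime] [Finite S] in
theorem exists_res {P N : Subgroup Ω} [Finite P] (hPN : P ≤ N) (α : MulAut N)
    (hinv : ∀ x : N, α x ∈ P.subgroupOf N ↔ x ∈ P.subgroupOf N) :
    ∃ β : MulAut P, (∀ x : P, Subgroup.inclusion hPN (β x) = α (Subgroup.inclusion hPN x)) ∧
      orderOf β ∣ orderOf α := by
  let f : P →* P := MonoidHom.mk'
    (fun x => ⟨((α (Subgroup.inclusion hPN x) : N) : Ω), Subgroup.mem_subgroupOf.1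
      ((hinv _).2 (Subgroup.mem_subgroupOf.2 x.2))⟩)
    (fun x y => Subtype.ext (congrArg (fun w : N => (w : Ω))
      ((congrArg α (map_mul (Subgroup.inclusion hPN) x y)).trans (map_mul α _ _))))
  have hfe : ∀ x : P, Subgroup.inclusion hPN (f x) = α (Subgroup.inclusion hPN x) := fun x => Subtype.ext rfl
  have hf : Function.Bijective f := Finite.injective_iff_bijective.1 fun x y h =>
    Subgroup.inclusion_injective hPN (α.injective (by rw [← hfe, ← hfe, h]))
  let β : MulAut P := MulEquiv.ofBijective f hf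
  refine ⟨β, hfe, orderOf_dvd_of_pow_eq_one (MulEquiv.ext fun x => Subgroup.inclusion_injective hPN ?_)⟩
  have hit : ∀ n : ℕ, Subgroup.inclusion hPN ((β ^ n) x) = (α ^ n) (Subgroup.inclusion hPN x) := by
    intro n
    induction n with
    | zero => simp
    | succ n ih =>
      rw [pow_succ', pow_succ' α, MulAut.mul_apply, MulAut.mul_apply, ← ih]
      exact hfe _
  rw [hit, pow_orderOf_eq_one, MulAut.one_apply, MulAut.one_apply]

omit [Fact p.Prime] [Finite S] in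
theorem mem_normalizer_of_le {M : Subgroup Ω} [Finite M] {t : Ω} (h : ∀ y ∈ M, t * y * t⁻¹ ∈ M) :
    t ∈ Subgroup.normalizer (M : Set Ω) := by
  refine Subgroup.mem_normalizer_iff.2 fun y => ⟨h y, fun hy => ?_⟩
  have hbij : Function.Bijective (fun m : M => (⟨t * m * t⁻¹, h m m.2⟩ : M)) :=
    Finite.injective_iff_bijective.1 fun a b hab => Subtype.ext (by
      have := congrArg Subtype.val hab
      simpa using this)
  obtain ⟨m, hm⟩ := hbij.2 ⟨_, hy⟩
  have h1 : t * (m : Ω) * t⁻¹ = t * y * t⁻¹ := congrArg Subtype.val hm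
  rw [← mul_left_cancel (mul_right_cancel h1)]
  exact m.2

theorem exists_torus_ext (hp5 : 5 ≤ p) (hS : IsPGroup p S) (hF : F.IsSaturated p)
    (hrank : ∀ E : Subgroup Ω, E ≤ S → Cfsg.IsElementaryAbelian p E → Nat.card E ≤ p ^ 2)
    {P : Subgroup Ω} (hP : F.IsEssential p P) :
    ∃ δ ∈ F.autGroup (normalizerIn S P), ∃ (z a b : normalizerIn S P) (l l' : ℤ),
      (l : ZMod p) ^ 3 ≠ 1 ∧ Ext p (P.subgroupOf (normalizerIn S P)) δ z a b l l' := by
  have hp : p.Prime := Fact.out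
  have hp2 : p ≠ 2 := by omega
  have hPS : P ≤ S := hP.1.1
  have hPlt : P < S := essential_lt_top hS hF hP
  have hC : centralizerIn S P ≤ P := centric_self hP.1
  haveI := finite_of_le hPS
  haveI : Finite (MulAut P) := Finite.of_injective _ MulEquiv.toEquiv_injective
  obtain ⟨N, hN⟩ : ∃ N, N = normalizerIn S P := ⟨_, rfl⟩
  rw [← hN]
  have hNS : N ≤ S := hN ▸ inf_le_left
  have hPN : P ≤ N := hN ▸ le_normalizerIn hPS
  haveI := finite_of_le hNS
  haveI : Finite (MulAut N) := Finite.of_injective _ MulEquiv.toEquiv_injective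
  have hInn : ∀ g : P, MulAut.conj g ∈ F.autGroup P := fun g => inn_le_autGroup hPS ⟨g, rfl⟩
  have hcore : ∀ M : Subgroup (F.autGroup P), M.Normal → IsPGroup p M →
      ∀ x ∈ M, ∃ g, (x : MulAut P) = MulAut.conj g := fun M hM hMp x hx => by
    have h1 : (x : MulAut P) ∈ Inn P := by
      rw [← (essential_radical hS hF hP).2]
      exact Subgroup.mem_map_of_mem _ (Cfsg.Agent.Core.le_pCore (hN := hM) hMp hx)
    obtain ⟨g, hg⟩ := h1
    exact ⟨g, hg.symm⟩
  obtain ⟨x₀, hx₀N, hx₀P⟩ := SetLike.exists_of_lt (lt_normalizerIn hS hPlt)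
  obtain ⟨β₀, hβ₀, hβ₀x⟩ := exists_mem_autInducedBy (P := P) hx₀N.1 hx₀N.2
  have hTp : IsPGroup p ((autInducedBy S P).subgroupOf (F.autGroup P)) :=
    (isPGroup_autInducedBy hS).comap_subtype
  have hu : ∀ g : P, β₀ ≠ MulAut.conj g := fun g hg =>
    hx₀P (mem_of_conj_mem_inn hC hPS hx₀N.1 hβ₀x ⟨g, hg.symm⟩)
  obtain ⟨z, a, b, hsh⟩ := exists_shape (A := F.autGroup P)
    (T := (autInducedBy S P).subgroupOf (F.autGroup P))
    (u := ⟨β₀, autInducedBy_le_autGroup hPS hβ₀⟩) hp2 (hS.to_le hPS) (rk_of_rank hrank hPS) hInn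
    hcore hTp (Subgroup.mem_subgroupOf.2 hβ₀) hu
  obtain ⟨l, l', hll, hl2, hl3, hhalf⟩ := exists_root (p := p) hp5
  obtain ⟨δ₀, hδ₀, hδ₀a, hδ₀b⟩ := hsh.torus l l' hll
  have hzc := hsh.central
  have hll' : ((l' * l : ℤ) : ZMod p) = 1 := by rw [mul_comm]; exact hll
  -- conjugation of `Aut_S(P)` by the torus
  have hnorm : ∀ β ∈ autInducedBy S P, δ₀ * β * δ₀⁻¹ ∈ autInducedBy S P := by
    intro β hβ
    obtain ⟨hβa, k, hβb⟩ := hsh.fix ⟨β, autInducedBy_le_autGroup hPS hβ⟩ (Subgroup.mem_subgroupOf.2 hβ)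
    obtain ⟨c, hc0, hc⟩ := hsh.moved
    have hia : Eqv z (a ^ l') (δ₀⁻¹ a) := by
      have h1 : Eqv z a (δ₀ (a ^ l')) := by
        rw [map_zpow]
        refine Eqv.trans ?_ (hδ₀a.zpow hzc l')
        rw [← zpow_mul, zcongr hsh.ap (n := 1) (by rw [hll, Int.cast_one]), zpow_one]
        exact Eqv.refl z a
      have h2 := Eqv.apply δ₀⁻¹ (hsh.zinv _) h1
      rw [MulAut.inv_apply_self] at h2
      exact h2.symm
    have hib : Eqv z (b ^ l) (δ₀⁻¹ b) := by
      have h1 : Eqv z b (δ₀ (b ^ l)) := by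
        rw [map_zpow]
        refine Eqv.trans ?_ (hδ₀b.zpow hzc l)
        rw [← zpow_mul, zcongr hsh.bp (n := 1) (by rw [hll', Int.cast_one]), zpow_one]
        exact Eqv.refl z b
      have h2 := Eqv.apply δ₀⁻¹ (hsh.zinv _) h1
      rw [MulAut.inv_apply_self] at h2
      exact h2.symm
    obtain ⟨α, hα⟩ : ∃ α, α = δ₀ * β * δ₀⁻¹ := ⟨_, rfl⟩
    have hαa : Eqv z a (α a) := by
      rw [hα, MulAut.mul_apply, MulAut.mul_apply]
      refine Eqv.trans ?_ (Eqv.apply δ₀ (hsh.zinv _) (Eqv.apply β (hsh.zinv _) hia))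
      rw [map_zpow, map_zpow]
      refine Eqv.trans ?_ ((Eqv.apply δ₀ (hsh.zinv _) hβa).zpow hzc l')
      refine Eqv.trans ?_ (hδ₀a.zpow hzc l')
      rw [← zpow_mul, zcongr hsh.ap (n := 1) (by rw [hll, Int.cast_one]), zpow_one]
      exact Eqv.refl z a
    have hαb : Eqv z (b * a ^ (k * l * l)) (α b) := by
      rw [hα, MulAut.mul_apply, MulAut.mul_apply]
      refine Eqv.trans ?_ (Eqv.apply δ₀ (hsh.zinv _) (Eqv.apply β (hsh.zinv _) hib))
      rw [map_zpow, map_zpow]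
      refine Eqv.trans ?_ ((Eqv.apply δ₀ (hsh.zinv _) hβb).zpow hzc l)
      rw [map_mul, map_zpow]
      refine Eqv.trans ?_ ((hδ₀b.mul hzc (hδ₀a.zpow hzc k)).zpow hzc l)
      refine Eqv.trans ?_ (Eqv.mul_zpow hzc ((hsh.inner ((a ^ l) ^ k)).2.zpow hzc l'
        |> fun e => by rwa [conj_zpow] at e) l)
      rw [← zpow_mul, zcongr hsh.bp (m := l' * l) (n := 1) (by rw [hll', Int.cast_one]), zpow_one,
        ← zpow_mul, ← zpow_mul, show l * (k * l) = k * l * l by ring]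
      exact Eqv.refl z _
    obtain ⟨r, hr⟩ := exists_zinv hc0
    obtain ⟨m, hm⟩ : ∃ m : ℕ, m = ((k * l * l * r : ℤ) : ZMod p).val := ⟨_, rfl⟩
    obtain ⟨hua, -⟩ := hsh.fix ⟨β₀, autInducedBy_le_autGroup hPS hβ₀⟩ (Subgroup.mem_subgroupOf.2 hβ₀)
    have hup : ∀ M : ℕ, Eqv z a ((β₀ ^ M) a) ∧ Eqv z (b * a ^ (c * M)) ((β₀ ^ M) b) := by
      intro M
      induction M with
      | zero => simpa using ⟨Eqv.refl z a, Eqv.refl z b⟩
      | succ M ih =>
        rw [pow_succ', MulAut.mul_apply, MulAut.mul_apply]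
        refine ⟨hua.trans (Eqv.apply β₀ (hsh.zinv _) ih.1), Eqv.trans ?_ (Eqv.apply β₀ (hsh.zinv _) ih.2)⟩
        rw [map_mul, map_zpow]
        refine Eqv.trans ?_ (hc.mul hzc (hua.zpow hzc _))
        rw [mul_assoc, ← zpow_add, show c + c * (M : ℤ) = c * ((M + 1 : ℕ) : ℤ) by push_cast; ring]
        exact Eqv.refl z _
    have hαu : Eqv z ((β₀ ^ m) b) (α b) := by
      refine Eqv.trans (hup m).2.symm ?_
      rw [zcongr hsh.ap (m := c * m) (n := k * l * l) (by
        rw [hm]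
        push_cast [ZMod.natCast_zmod_val] at hr ⊢
        linear_combination ((k : ZMod p) * l * l) * hr)]
      exact hαb
    have hαu' : Eqv z ((β₀ ^ m) a) (α a) := (hup m).1.symm.trans hαa
    have hαmem : α ∈ F.autGroup P :=
      hα ▸ mul_mem (mul_mem hδ₀ (autInducedBy_le_autGroup hPS hβ)) (inv_mem hδ₀)
    obtain ⟨g, hg⟩ := hsh.kernel ((β₀ ^ m)⁻¹ * α)
      (mul_mem (inv_mem (pow_mem (autInducedBy_le_autGroup hPS hβ₀) m)) hαmem)
      (by
        have := Eqv.apply (β₀ ^ m)⁻¹ (hsh.zinv _) hαu'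
        rwa [MulAut.inv_apply_self, ← MulAut.mul_apply] at this)
      (by
        have := Eqv.apply (β₀ ^ m)⁻¹ (hsh.zinv _) hαu
        rwa [MulAut.inv_apply_self, ← MulAut.mul_apply] at this)
    rw [← hα, show α = β₀ ^ m * MulAut.conj g by rw [← hg, mul_inv_cancel_left]]
    exact mul_mem (pow_mem hβ₀ m) (inn_le_autInducedBy hPS ⟨g, rfl⟩)
  -- extension to the normaliser
  have hiso := iso_apl hPS hδ₀
  obtain ⟨f, hf, hfδ⟩ := (isReceptive_iff.1 (centric_receptive hS hF hP.1)).2 P _ hiso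
  have hNle : N ≤ nPhi S P (apl δ₀) := by
    rw [hN]
    intro g hg
    obtain ⟨β, hβ, hβx⟩ := exists_mem_autInducedBy (P := P) hg.1 hg.2
    obtain ⟨w, hw, -, hwx⟩ := mem_autInducedBy_iff.1 (hnorm β hβ)
    refine ⟨hg.1, hg.2, w, hw, fun x hx => ?_⟩
    rw [← hwx _ (apl_mem δ₀ hx), apl_mul _ _ (apl_mem δ₀ hx), apl_inv_apl _ hx, apl_mul _ _ hx,
      hβx x hx]
  have hfN := hf.mono hNle
  have hfP : Iso F P P f := hiso.congr hfδ
  obtain ⟨N', hN'⟩ := hfN.exists_iso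
  have hN'eq : N' = N := eq_of_le_of_card hNS (fun y hy => by
    obtain ⟨w, hw, rfl⟩ := hN'.exists_eq hy
    have hwn : w ∈ Subgroup.normalizer (P : Set Ω) := (hN ▸ hw : w ∈ normalizerIn S P).2
    rw [hN]
    exact hfN.mem_normalizerIn hPN hfP hw hwn) hN'.card_eq.le
  rw [hN'eq] at hN'
  obtain ⟨γ, hγ, hγf⟩ := hN'.exists_mem_autGroup
  obtain ⟨k, m, hm, hkm⟩ := Nat.exists_eq_pow_mul_and_not_dvd (orderOf_pos γ).ne' p hp.ne_one
  obtain ⟨δ, hδ⟩ : ∃ δ, δ = γ ^ p ^ k := ⟨_, rfl⟩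
  refine ⟨δ, hδ ▸ pow_mem hγ _, ?_⟩
  have hδc : (orderOf δ).Coprime p := by
    rw [hδ, orderOf_pow_of_dvd (pow_ne_zero _ hp.ne_zero) (hkm ▸ Dvd.intro m rfl), hkm,
      Nat.mul_div_cancel_left _ (pow_pos hp.pos k)]
    exact ((Nat.Prime.coprime_iff_not_dvd hp).2 hm).symm
  have hγP : ∀ x ∈ P, apl γ x = apl δ₀ x := fun x hx => by rw [hγf x (hPN hx), hfδ x hx]
  obtain ⟨δ₁, hδ₁⟩ : ∃ δ₁, δ₁ = δ₀ ^ p ^ k := ⟨_, rfl⟩
  have hδval : ∀ x : P, δ (Subgroup.inclusion hPN x) = Subgroup.inclusion hPN (δ₁ x) := fun x => by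
    refine Subtype.ext ?_
    rw [← apl_coe, hδ]
    exact (apl_pow hPN hγP _ x x.2).trans (by rw [← hδ₁, apl_coe]; rfl)
  have hiter : ∀ M : ℕ, Eqv z (a ^ (l ^ M)) ((δ₀ ^ M) a) ∧ Eqv z (b ^ (l' ^ M)) ((δ₀ ^ M) b) := by
    intro M
    induction M with
    | zero => simpa using ⟨Eqv.refl z a, Eqv.refl z b⟩
    | succ M ih =>
      rw [pow_succ' δ₀, MulAut.mul_apply, MulAut.mul_apply]
      refine ⟨Eqv.trans ?_ (Eqv.apply δ₀ (hsh.zinv _) ih.1), Eqv.trans ?_ (Eqv.apply δ₀ (hsh.zinv _) ih.2)⟩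
      · rw [map_zpow]
        refine Eqv.trans ?_ (hδ₀a.zpow hzc _)
        rw [← zpow_mul, ← pow_succ']
        exact Eqv.refl z _
      · rw [map_zpow]
        refine Eqv.trans ?_ (hδ₀b.zpow hzc _)
        rw [← zpow_mul, ← pow_succ']
        exact Eqv.refl z _
  obtain ⟨ι, hι⟩ : ∃ ι : P →* N, ι = Subgroup.inclusion hPN := ⟨_, rfl⟩
  rw [← hι] at hδval
  have hιinj : Function.Injective ι := hι ▸ Subgroup.inclusion_injective hPN
  have hιE : ∀ x : P, ι x ∈ P.subgroupOf N := fun x => hι ▸ Subgroup.mem_subgroupOf.2 x.2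
  have hEι : ∀ e ∈ P.subgroupOf N, ∃ x : P, ι x = e := fun e he =>
    ⟨⟨(e : Ω), he⟩, hι ▸ Subtype.ext rfl⟩
  have hconjg : ∀ g : N, ∃ hg : (g : Ω) ∈ S, ∃ β ∈ autInducedBy S P,
      (∀ x ∈ P, apl β x = (g : Ω) * x * (g : Ω)⁻¹) ∧ ∀ x : P, ι (β x) = g * ι x * g⁻¹ := fun g => by
    have hg2 : (g : Ω) ∈ Subgroup.normalizer (P : Set Ω) := (hN ▸ g.2 : (g : Ω) ∈ normalizerIn S P).2
    obtain ⟨β, hβ, hβx⟩ := exists_mem_autInducedBy (P := P) (K := S) (hNS g.2) hg2
    refine ⟨hNS g.2, β, hβ, hβx, fun x => Subtype.ext ?_⟩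
    rw [hι]
    exact (apl_coe β x).symm.trans (hβx x x.2)
  haveI : (P.subgroupOf N).Normal := ⟨fun n hn g => by
    obtain ⟨x, rfl⟩ := hEι n hn
    obtain ⟨-, β, -, -, hβι⟩ := hconjg g
    rw [← hβι]
    exact hιE _⟩
  refine ⟨ι z, ι a, ι b, l, l', hl3, hδc, fun y => ?_, hιE z, hιE a, hιE b, ?_,
    by rw [← map_pow, hsh.zp, map_one], by rw [← map_pow, hsh.ap, map_one],
    by rw [← map_pow, hsh.bp, map_one], ?_, fun i j h => ?_, fun g => ?_, fun e he => ?_,
    fun g hga hgb => ?_, ⟨⟨x₀, hN ▸ hx₀N⟩, fun h => hx₀P (Subgroup.mem_subgroupOf.1 h)⟩,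
    fun α hα hαinv hαa hαb e he => ?_, ?_, ?_, hll, hl2, hhalf, fun hz1 w hw i hwp => ?_, ?_⟩
  · constructor
    · intro hy
      obtain ⟨x, hx⟩ := hEι _ hy
      have h1 := hδval (δ₁⁻¹ x)
      rw [MulAut.apply_inv_self, hx] at h1
      rw [← δ.injective h1]
      exact hιE _
    · intro hy
      obtain ⟨x, rfl⟩ := hEι _ hy
      rw [hδval]
      exact hιE _
  · refine Subgroup.mem_center_iff.2 fun g => ?_
    obtain ⟨-, β, hβ, -, hβι⟩ := hconjg g
    obtain ⟨e, he⟩ := (isPGroup_autInducedBy hS : IsPGroup p (autInducedBy S P)) ⟨β, hβ⟩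
    have h1 := fixed_of_invariant_line (α := β) (congrArg Subtype.val he) hsh.zp (hsh.zinv β)
    have h2 := hβι z
    rw [h1] at h2
    exact mul_inv_eq_iff_eq_mul.1 h2.symm
  · obtain ⟨s, hs⟩ := hsh.zinv δ₁
    rw [hδval]
    exact ⟨s, (map_zpow ι z s).symm.trans (congrArg ι hs)⟩
  · refine hsh.indep i j ?_
    obtain ⟨s, hs⟩ := h
    refine ⟨s, hιinj ?_⟩
    rw [map_mul, map_zpow, map_zpow, map_zpow]
    exact hs
  · obtain ⟨-, β, hβ, -, hβι⟩ := hconjg g
    obtain ⟨h1, k, h2⟩ := hsh.fix ⟨β, autInducedBy_le_autGroup hPS hβ⟩ (Subgroup.mem_subgroupOf.2 hβ)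
    exact ⟨hβι a ▸ h1.map ι, k, by
      have := h2.map ι
      rwa [map_mul, map_zpow, hβι b] at this⟩
  · obtain ⟨x, rfl⟩ := hEι e he
    have := (hsh.inner x).2.map ι
    rwa [map_mul, map_mul, map_inv] at this
  · obtain ⟨hgS, β, hβ, hβx, hβι⟩ := hconjg g
    obtain ⟨g', hg'⟩ := hsh.kernel β (autInducedBy_le_autGroup hPS hβ)
      (Eqv.of_map hιinj (by rw [hβι]; exact hga)) (Eqv.of_map hιinj (by rw [hβι]; exact hgb))
    exact Subgroup.mem_subgroupOf.2 (mem_of_conj_mem_inn hC hPS hgS hβx ⟨g', hg'.symm⟩)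
  · obtain ⟨β, hβι, hβord⟩ := exists_res hPN α hαinv
    rw [← hι] at hβι
    have h1 := hsh.coprime β (Nat.Coprime.coprime_dvd_left hβord hα)
      (Eqv.of_map hιinj (by rw [hβι]; exact hαa)) (Eqv.of_map hιinj (by rw [hβι]; exact hαb))
    obtain ⟨x, rfl⟩ := hEι e he
    rw [← hβι, h1, MulAut.one_apply]
  · rw [hδval, ← map_zpow]
    refine Eqv.map ι ?_
    rw [hδ₁]
    refine Eqv.trans ?_ (hiter _).1
    rw [zcongr hsh.ap (m := l ^ p ^ k) (n := l) (by push_cast; rw [ZMod.pow_card_pow])]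
    exact Eqv.refl z _
  · rw [hδval, ← map_zpow]
    refine Eqv.map ι ?_
    rw [hδ₁]
    refine Eqv.trans ?_ (hiter _).2
    rw [zcongr hsh.bp (m := l' ^ p ^ k) (n := l') (by push_cast; rw [ZMod.pow_card_pow])]
    exact Eqv.refl z _
  · obtain ⟨x, rfl⟩ := hEι w hw
    have hz0 : z = 1 := hιinj (by rw [hz1, map_one])
    obtain ⟨α, -, j, hα⟩ := hsh.swap
    rw [hz0, one_zpow, mul_one] at hα
    refine ⟨ι (α x), hιE _, ?_⟩
    rw [← map_pow, ← map_pow α, show x ^ p = a ^ i from hιinj (by rw [map_pow, map_zpow]; exact hwp),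
      map_zpow, hα, map_zpow]
  · rcases hsh.cases with ⟨hz0, hca, hcb, hom⟩ | ⟨hne, -, hdec⟩
    · refine Or.inl ⟨by rw [hz0, map_one], fun e he => ?_, fun g hg hgp => ?_⟩
      · obtain ⟨x, rfl⟩ := hEι e he
        exact ⟨(show Commute x a from Subgroup.mem_center_iff.1 hca x).map ι,
          (show Commute x b from Subgroup.mem_center_iff.1 hcb x).map ι⟩
      · obtain ⟨x, rfl⟩ := hEι g hg
        obtain ⟨i, j, hij⟩ := hom x (hιinj (by rw [map_pow, hgp, map_one]))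
        exact ⟨i, j, by rw [hij, map_mul, map_zpow, map_zpow]⟩
    · refine Or.inr ⟨fun h => hne (Commute.of_map hιinj h), fun g hg => ?_⟩
      obtain ⟨x, rfl⟩ := hEι g hg
      obtain ⟨i, j, c, hc, rfl⟩ := hdec x
      refine ⟨i, j, ι c, hιE c, fun e he => ?_, by rw [map_mul, map_mul, map_zpow, map_zpow]⟩
      obtain ⟨y, rfl⟩ := hEι e he
      exact (show Commute c y from (Subgroup.mem_center_iff.1 hc y).symm).map ι

theorem no_essential (hp5 : 5 ≤ p) (hS : IsPGroup p S) (hF : F.IsSaturated p)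
    (hrank : ∀ E : Subgroup Ω, E ≤ S → Cfsg.IsElementaryAbelian p E → Nat.card E ≤ p ^ 2)
    (hnot : ¬ (Nat.card S = p ^ 3 ∧ Monoid.exponent ↥S = p)) (P : Subgroup Ω) :
    ¬ F.IsEssential p P := by
  intro hP
  have hp : p.Prime := Fact.out
  have hPS : P ≤ S := hP.1.1
  have hC : centralizerIn S P ≤ P := centric_self hP.1
  obtain ⟨δ, hδ, z, a, b, l, l', hl3, hext⟩ := exists_torus_ext hp5 hS hF hrank hP
  obtain ⟨N, hN⟩ : ∃ N, N = normalizerIn S P := ⟨_, rfl⟩
  have hNS : N ≤ S := hN ▸ inf_le_left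
  have hPN : P ≤ N := hN ▸ le_normalizerIn hPS
  subst hN
  haveI := finite_of_le hNS
  haveI : Finite (MulAut (normalizerIn S P)) := Finite.of_injective _ MulEquiv.toEquiv_injective
  haveI hPn : (P.subgroupOf (normalizerIn S P)).Normal := ⟨fun n hn g => by
    have := (Subgroup.mem_normalizer_iff.1 g.2.2 (n : Ω)).1 hn
    exact Subgroup.mem_subgroupOf.2 (by simpa using this)⟩
  obtain ⟨hz1, x, n, c, hn, hc0, hxE, hxp, hxa, hxb, hδx, hδa, hδb, hab, hEelem, hgen⟩ :=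
    elementary_case hp5 (hS.to_le hNS) (rk_of_rank hrank hNS) hext
  have hane : a ≠ 1 := fun h => by
    have := (hext.indep 1 0 (by rw [h, one_zpow, zpow_zero, mul_one]; exact one_mem _)).1
    simp at this
  have hcube : Cube p a b x c := by
    have hgen' : ∀ g, ∃ i j k : ℤ, g = b ^ j * x ^ k * a ^ i := fun g => by
      obtain ⟨m, e, he, rfl⟩ := hgen g
      obtain ⟨i, j, hij⟩ := hEelem (x ^ m * e * (x ^ m)⁻¹) (hPn.conj_mem e he (x ^ m))
      refine ⟨i, j, m, ?_⟩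
      calc x ^ m * e = a ^ i * b ^ j * x ^ m := by rw [← hij, inv_mul_cancel_right]
        _ = b ^ j * x ^ m * a ^ i := by
          rw [(hab.zpow_zpow i j).eq, mul_assoc, mul_assoc, (hxa.zpow_zpow m i).eq]
    refine ⟨Subgroup.mem_center_iff.2 fun g => ?_, hext.ap, hext.bp, hxp, hane, hc0, hxb, hgen', ?_⟩
    · obtain ⟨i, j, k, rfl⟩ := hgen' g
      exact (((hab.symm.zpow_left j).mul_left (hxa.zpow_left k)).mul_left
        ((Commute.refl a).zpow_left i)).eq
    · intro j k h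
      have hk : (k : ZMod p) = 0 := by
        by_contra hk
        refine hxE (zpow_mem_cancel hxp hk ?_)
        have h1 : b ^ j * x ^ k ∈ P.subgroupOf (normalizerIn S P) :=
          (Subgroup.zpowers_le.2 hext.amem) h
        have h2 := mul_mem (inv_mem (zpow_mem hext.bmem j)) h1
        rwa [inv_mul_cancel_left] at h2
      rw [zpow_eq_one_of_cast hxp hk, mul_one] at h
      obtain ⟨s, hs⟩ := h
      refine ⟨(hext.indep (-s) j ?_).2, hk⟩
      rw [← (show a ^ s = b ^ j from hs), ← zpow_add, neg_add_cancel, zpow_zero]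
      exact one_mem _
  have hp2 : p ≠ 2 := by omega
  by_cases hNeq : normalizerIn S P = S
  · refine hnot ⟨?_, ?_⟩
    · rw [← hcube.card, hNeq]
    · have hexp : ∀ g : S, g ^ p = 1 := fun g => by
        have := congrArg Subtype.val (hcube.exponent hp2 ⟨(g : Ω), hNeq.symm ▸ g.2⟩)
        exact Subtype.ext this
      refine (Nat.dvd_prime hp).1 (Monoid.exponent_dvd_of_forall_pow_eq_one hexp) |>.resolve_left ?_
      intro h1
      refine hane (Subtype.ext ?_)
      have := Monoid.pow_exponent_eq_one (⟨(a : Ω), hNS a.2⟩ : S)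
      rw [h1, pow_one] at this
      have h2 := congrArg Subtype.val this
      exact h2
  obtain ⟨t, htS', htN⟩ := SetLike.exists_of_lt (lt_normalizerIn hS (lt_of_le_of_ne hNS hNeq))
  obtain ⟨τ, hτ, hτx⟩ := exists_mem_autInducedBy (P := normalizerIn S P) htS'.1 htS'.2
  obtain ⟨e, he⟩ := (isPGroup_autInducedBy hS : IsPGroup p (autInducedBy S (normalizerIn S P))) ⟨τ, hτ⟩
  have hτe : τ ^ p ^ e = 1 := congrArg Subtype.val he
  have hτval : ∀ y : normalizerIn S P, ((τ y : normalizerIn S P) : Ω) = t * (y : Ω) * t⁻¹ := fun y =>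
    (apl_coe τ y).symm.trans (hτx y y.2)
  have hτA : τ ∈ F.autGroup (normalizerIn S P) := autInducedBy_le_autGroup hNS hτ
  have hτa : τ a = a := fixed_of_invariant_line hτe hext.ap (hcube.map_a τ)
  have hmove : ∀ i j : ℤ, τ b ≠ b ^ j * a ^ i := by
    intro i j h
    refine htN ⟨htS'.1, ?_⟩
    haveI := finite_of_le hPS
    refine mem_normalizer_of_le fun y hy => ?_
    obtain ⟨i', j', hij⟩ := hEelem ⟨y, hPN hy⟩ (Subgroup.mem_subgroupOf.2 hy)
    have h1 : τ ⟨y, hPN hy⟩ ∈ P.subgroupOf (normalizerIn S P) := by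
      rw [hij, map_mul, map_zpow, map_zpow, hτa, h]
      exact mul_mem (zpow_mem hext.amem _)
        (zpow_mem (mul_mem (zpow_mem hext.bmem _) (zpow_mem hext.amem _)) _)
    have h2 := Subgroup.mem_subgroupOf.1 h1
    rwa [hτval] at h2
  rcases flip_or_fix hcube hτe hδa hδb hδx hext.hl hn hl3 hmove with
    ⟨ψ, hψ, i, j, hψb⟩ | ⟨-, ⟨β, hτxx⟩, k, i, hk0, hτb⟩
  · -- a conjugate of `P` with a larger normaliser
    have hψA : ψ ∈ F.autGroup (normalizerIn S P) := (Subgroup.closure_le _).2 (by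
      rintro y (hy | hy) <;> rw [hy]
      · exact hτA
      · exact hδ) hψ
    obtain ⟨M, hM⟩ := ((iso_apl hNS hψA).1.mono hPN).exists_iso
    have hMN : M ≤ normalizerIn S P := fun y hy => by
      obtain ⟨w, hw, rfl⟩ := hM.exists_eq hy
      exact apl_mem ψ (hPN hw)
    haveI := finite_of_le (hMN.trans hNS)
    have hMmem : ∀ y : normalizerIn S P, (y : Ω) ∈ M → ∃ i' j' : ℤ, y = ψ a ^ i' * ψ b ^ j' := fun y hy => by
      obtain ⟨w, hw, hwy⟩ := hM.exists_eq hy
      obtain ⟨i', j', hij⟩ := hEelem ⟨w, hPN hw⟩ (Subgroup.mem_subgroupOf.2 hw)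
      refine ⟨i', j', ?_⟩
      rw [← map_zpow, ← map_zpow, ← map_mul, ← hij]
      refine Subtype.ext ?_
      rw [← apl_coe]
      exact hwy.symm
    have hMof : ∀ w : normalizerIn S P, w ∈ P.subgroupOf (normalizerIn S P) →
        ((ψ w : normalizerIn S P) : Ω) ∈ M := fun w hw => by
      rw [← apl_coe]
      exact hM.mem hw
    have haM : ∀ s : ℤ, ((a ^ s : normalizerIn S P) : Ω) ∈ M := by
      obtain ⟨r, hr⟩ := hcube.map_a ψ⁻¹
      intro s
      have := hMof ((a ^ r) ^ s) (zpow_mem (zpow_mem hext.amem r) s)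
      rwa [map_zpow, show a ^ r = ψ⁻¹ a from hr, MulAut.apply_inv_self] at this
    have hle : normalizerIn S P ⊔ Subgroup.zpowers t ≤ normalizerIn S M := by
      refine sup_le (fun g hg => ⟨hg.1, mem_normalizer_of_le fun y hy => ?_⟩)
        (Subgroup.zpowers_le.2 ⟨htS'.1, mem_normalizer_of_le fun y hy => ?_⟩)
      · obtain ⟨s, hs⟩ := hcube.eqv_conj ⟨g, hg⟩ ⟨y, hMN hy⟩
        have h1 := congrArg Subtype.val hs
        rw [Subgroup.coe_mul, Subgroup.coe_mul, Subgroup.coe_mul, Subgroup.coe_inv] at h1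
        rw [show g * y * g⁻¹ = y * ((a ^ s : normalizerIn S P) : Ω) from h1]
        exact M.mul_mem hy (haM s)
      · obtain ⟨i', j', hij⟩ := hMmem ⟨y, hMN hy⟩ hy
        rw [← hτval ⟨y, hMN hy⟩, hij, map_mul, map_zpow, map_zpow, hψb]
        obtain ⟨s, hs⟩ := hcube.map_a ψ
        rw [← (show a ^ s = ψ a from hs), map_zpow, hτa, ← zpow_mul, Subgroup.coe_mul, Subgroup.coe_zpow]
        refine M.mul_mem (zpow_mem (by simpa using haM 1) _) ?_
        rw [Subgroup.coe_zpow, Subgroup.coe_mul, Subgroup.coe_zpow (normalizerIn S P) (ψ b)]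
        exact zpow_mem (M.mul_mem (zpow_mem (hMof b hext.bmem) j) (haM i)) _
    have hlt : normalizerIn S P < normalizerIn S M :=
      lt_of_lt_of_le (lt_of_le_of_ne le_sup_left fun h => htN (by
        rw [h]; exact Subgroup.mem_sup_right (Subgroup.mem_zpowers t))) hle
    exact absurd (hP.2.1.2 M hM.isConj) (not_le.2 (card_lt_of_lt' (normalizerIn_le S M) hlt))
  · -- the torus extends to an element of the normaliser of `N`
    obtain ⟨r, hr⟩ := exists_zinv hc0
    obtain ⟨t', ht'⟩ : ∃ t', t' = ((b ^ (β * r) : normalizerIn S P) : Ω) * t := ⟨_, rfl⟩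
    obtain ⟨τ', hτ'⟩ : ∃ τ', τ' = MulAut.conj (b ^ (β * r)) * τ := ⟨_, rfl⟩
    have hτ'val : ∀ y : normalizerIn S P, ((τ' y : normalizerIn S P) : Ω) = t' * (y : Ω) * t'⁻¹ := by
      intro y
      rw [hτ', MulAut.mul_apply, MulAut.conj_apply, Subgroup.coe_mul, Subgroup.coe_mul,
        Subgroup.coe_inv, hτval, ht']
      group
    have hτ'a : τ' a = a := by
      rw [hτ', MulAut.mul_apply, hτa, MulAut.conj_apply,
        Subgroup.mem_center_iff.1 hcube.central, mul_inv_cancel_right]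
    have hτ'x : τ' x = x := by
      rw [hτ', MulAut.mul_apply, hτxx, MulAut.conj_apply, ← conj_mul, hcube.conj_zpow_x,
        ← (hcube.hac β _).eq, mul_inv_cancel_right, mul_assoc, ← zpow_add,
        zpow_eq_one_of_cast hext.ap ?_, mul_one]
      push_cast at hr ⊢
      linear_combination (-(β : ZMod p)) * hr
    obtain ⟨i', hi'⟩ : Eqv a (b * x ^ k) (τ' b) := by
      rw [hτ', MulAut.mul_apply, hτb, MulAut.conj_apply]
      refine Eqv.trans ⟨i, rfl⟩ (hcube.eqv_conj _ _)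
    have hτ'b : τ' b = b * x ^ k * a ^ i' := hi'
    have hτ'A : τ' ∈ F.autGroup (normalizerIn S P) :=
      hτ' ▸ mul_mem (inn_le_autGroup hNS ⟨_, rfl⟩) hτA
    have ht'S : t' ∈ S := ht' ▸ S.mul_mem (hNS (b ^ (β * r) : normalizerIn S P).2) htS'.1
    have ht'n : t' ∈ Subgroup.normalizer ((normalizerIn S P : Subgroup Ω) : Set Ω) :=
      ht' ▸ mul_mem (Subgroup.le_normalizer (b ^ (β * r) : normalizerIn S P).2) htS'.2
    have ht'N : t' ∉ normalizerIn S P := fun h => htN (by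
      have := mul_mem (inv_mem (b ^ (β * r) : normalizerIn S P).2) h
      rwa [ht', inv_mul_cancel_left] at this)
    have hpowτ : ∀ M : ℕ, (τ' ^ M) a = a ∧ (τ' ^ M) x = x ∧ (τ' ^ M) b = b * x ^ (k * M) * a ^ (i' * M) := by
      intro M
      induction M with
      | zero => simp
      | succ M ih =>
        rw [pow_succ' τ', MulAut.mul_apply, MulAut.mul_apply, MulAut.mul_apply, ih.1, ih.2.1, ih.2.2,
          map_mul, map_mul, map_zpow, map_zpow, hτ'a, hτ'x, hτ'b]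
        refine ⟨rfl, rfl, ?_⟩
        calc b * x ^ k * a ^ i' * x ^ (k * M) * a ^ (i' * M)
            = b * x ^ k * (x ^ (k * M) * a ^ i') * a ^ (i' * M) := by
              rw [mul_assoc (b * x ^ k) (a ^ i'), (hcube.hac i' _).eq]
          _ = b * x ^ (k * ((M + 1 : ℕ) : ℤ)) * a ^ (i' * ((M + 1 : ℕ) : ℤ)) := by
              rw [show k * ((M + 1 : ℕ) : ℤ) = k + k * M by push_cast; ring,
                show i' * ((M + 1 : ℕ) : ℤ) = i' + i' * M by push_cast; ring, zpow_add, zpow_add]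
              group
    have hpowval : ∀ (M : ℕ) (y : normalizerIn S P),
        (((τ' ^ M) y : normalizerIn S P) : Ω) = t' ^ M * (y : Ω) * (t' ^ M)⁻¹ := by
      intro M
      induction M with
      | zero => intro y; simp
      | succ M ih =>
        intro y
        rw [pow_succ' τ', MulAut.mul_apply, hτ'val, ih, pow_succ' t']
        group
    have hll := hext.hl
    have hnl : (n : ZMod p) ≠ 0 := by
      rw [hn]
      refine pow_ne_zero _ fun h => ?_
      push_cast at hll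
      rw [h, zero_mul] at hll
      exact one_ne_zero hll.symm
    obtain ⟨n', hn'⟩ := exists_zinv hnl
    obtain ⟨J, hJ⟩ : ∃ J : ℕ, J = ((l * n : ℤ) : ZMod p).val := ⟨_, rfl⟩
    have hbll : b ^ (l' * l) = b := by
      rw [zcongr hext.bp (n := 1) (by rw [mul_comm, hext.hl, Int.cast_one]), zpow_one]
    have hall : a ^ (l * l') = a := by
      rw [zcongr hext.ap (n := 1) (by rw [hext.hl, Int.cast_one]), zpow_one]
    have hxnn : x ^ (n * n') = x := by
      rw [zcongr hxp (n := 1) (by rw [hn', Int.cast_one]), zpow_one]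
    obtain ⟨α, hα⟩ : ∃ α, α = (τ' ^ J)⁻¹ * (δ * τ' * δ⁻¹) := ⟨_, rfl⟩
    have hia : δ⁻¹ a = a ^ l' := δ.injective (by rw [MulAut.apply_inv_self, map_zpow, hδa, ← zpow_mul, hall])
    have hix : δ⁻¹ x = x ^ n' := δ.injective (by rw [MulAut.apply_inv_self, map_zpow, hδx, ← zpow_mul, hxnn])
    have hib : δ⁻¹ b = b ^ l := δ.injective (by rw [MulAut.apply_inv_self, map_zpow, hδb, ← zpow_mul, hbll])
    have hinvJ : ∀ y w : normalizerIn S P, (τ' ^ J) w = y → (τ' ^ J)⁻¹ y = w := fun y w h => by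
      rw [← h, MulAut.inv_apply_self]
    have hαa : α a = a := by
      rw [hα, MulAut.mul_apply, MulAut.mul_apply, MulAut.mul_apply, hia, map_zpow, hτ'a, map_zpow, hδa,
        ← zpow_mul, hall]
      exact hinvJ _ _ (hpowτ J).1
    have hαx : α x = x := by
      rw [hα, MulAut.mul_apply, MulAut.mul_apply, MulAut.mul_apply, hix, map_zpow, hτ'x, map_zpow, hδx,
        ← zpow_mul, hxnn]
      exact hinvJ _ _ (hpowτ J).2.1
    obtain ⟨q, hq⟩ : ∃ q : ℤ, α b = b * a ^ q := by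
      have h1 : Eqv a (b * x ^ (k * l * n)) ((δ * τ' * δ⁻¹) b) := by
        rw [MulAut.mul_apply, MulAut.mul_apply, hib, map_zpow, hτ'b, map_zpow]
        have h2 : Eqv a (δ (b * x ^ k)) (δ (b * x ^ k * a ^ i')) :=
          Eqv.apply δ (hcube.map_a δ) ⟨i', rfl⟩
        refine Eqv.trans ?_ (h2.zpow hcube.central l)
        rw [map_mul, map_zpow, hδb, hδx]
        refine Eqv.trans ?_ (Eqv.mul_zpow hcube.central (hcube.eqv_conj _ _) l)
        rw [← zpow_mul, hbll, ← zpow_mul, ← zpow_mul, show n * (k * l) = k * l * n by ring]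
        exact Eqv.refl a _
      obtain ⟨s, hs⟩ := h1
      refine ⟨s - i' * J, ?_⟩
      rw [hα, MulAut.mul_apply, hs]
      refine hinvJ _ _ ?_
      rw [map_mul, map_zpow, (hpowτ J).2.2, (hpowτ J).1, mul_assoc, ← zpow_add,
        zcongr hxp (m := k * J) (n := k * l * n) (by
          rw [hJ]; push_cast [ZMod.natCast_zmod_val]; ring),
        show i' * (J : ℤ) + (s - i' * J) = s by ring]
    obtain ⟨g, hg⟩ := hcube.exists_conj (i := 0) (j := q) hαa (by rw [hαx, zpow_zero, mul_one]) hq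
    -- `g` lies in the centraliser of `x`
    obtain ⟨gi, gj, gk, hgeq⟩ := hcube.gen g
    have hgj : b ^ gj = 1 := by
      have h1 : g * x * g⁻¹ = x := by rw [← MulAut.conj_apply, ← hg, hαx]
      rw [hgeq] at h1
      have h2 : b ^ gj * x * (b ^ gj)⁻¹ = x := by
        calc b ^ gj * x * (b ^ gj)⁻¹
            = b ^ gj * (x ^ gk * (a ^ gi * x * (a ^ gi)⁻¹) * (x ^ gk)⁻¹) * (b ^ gj)⁻¹ := by
              rw [(hcube.hac gi x).eq]; group
          _ = b ^ gj * x ^ gk * a ^ gi * x * (b ^ gj * x ^ gk * a ^ gi)⁻¹ := by group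
          _ = x := h1
      rw [hcube.conj_zpow_x, mul_eq_left, zpow_eq_one_iff hext.ap hane] at h2
      push_cast at h2
      exact zpow_eq_one_of_cast hext.bp
        ((mul_eq_zero.1 (neg_eq_zero.1 h2)).resolve_left hc0)
    -- the extension
    have hNc : F.IsCentric (normalizerIn S P) := centric_of_le hP.1 hPN hNS
    have hiso := iso_apl hNS hδ
    obtain ⟨f, hf, hfδ⟩ := (isReceptive_iff.1 (centric_receptive hS hF hNc)).2 _ _ hiso
    have hconj : ∀ y : normalizerIn S P, ((δ (τ' y) : normalizerIn S P) : Ω) =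
        (t' ^ J * (g : Ω)) * ((δ y : normalizerIn S P) : Ω) * (t' ^ J * (g : Ω))⁻¹ := by
      intro y
      have h1 : δ (τ' y) = (τ' ^ J) (MulAut.conj g (δ y)) := by
        rw [← hg, hα, MulAut.mul_apply, MulAut.apply_inv_self, MulAut.mul_apply, MulAut.mul_apply,
          MulAut.inv_apply_self]
      rw [h1, hpowval, MulAut.conj_apply, Subgroup.coe_mul, Subgroup.coe_mul, Subgroup.coe_inv]
      group
    have htphi : t' ∈ nPhi S (normalizerIn S P) (apl δ) := by
      refine ⟨ht'S, ht'n, t' ^ J * (g : Ω), S.mul_mem (pow_mem ht'S J) (hNS g.2), fun y hy => ?_⟩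
      rw [← hτ'val ⟨y, hy⟩, apl_coe, apl_apply δ hy]
      exact hconj _
    have hNphi : normalizerIn S P ≤ nPhi S (normalizerIn S P) (apl δ) := hiso.1.le_nPhi
    obtain ⟨d, hd⟩ : ∃ d, d = (t' ^ J * (g : Ω))⁻¹ * f t' := ⟨_, rfl⟩
    have hdc : ∀ y : normalizerIn S P, d * (y : Ω) = (y : Ω) * d := by
      intro y
      obtain ⟨w, rfl⟩ := δ.surjective y
      have h1 := hf.map_conj htphi (hNphi w.2)
      rw [← hτ'val w, hfδ _ (τ' w).2, apl_coe, hconj, hfδ _ w.2, apl_coe] at h1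
      rw [hd]
      calc (t' ^ J * (g : Ω))⁻¹ * f t' * ((δ w : normalizerIn S P) : Ω)
          = (t' ^ J * (g : Ω))⁻¹ * (f t' * ((δ w : normalizerIn S P) : Ω) * (f t')⁻¹) * f t' := by group
        _ = _ := by rw [← h1]; group
    have hdS : d ∈ S := hd ▸ S.mul_mem (S.inv_mem (S.mul_mem (pow_mem ht'S J) (hNS g.2))) (hf.mem_S htphi)
    have hcentN : ∀ d : Ω, d ∈ S → (∀ y : normalizerIn S P, d * (y : Ω) = (y : Ω) * d) →
        ∃ s : ℤ, d = ((a ^ s : normalizerIn S P) : Ω) := by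
      intro d hdS hdc
      have hdP : d ∈ P := hC ⟨hdS, Subgroup.mem_centralizer_iff.2 fun y hy => (hdc ⟨y, hPN hy⟩).symm⟩
      have h1 : (⟨d, hPN hdP⟩ : normalizerIn S P) ∈ Subgroup.zpowers a := by
        rw [← hcube.center_eq]
        exact Subgroup.mem_center_iff.2 fun y => Subtype.ext (hdc y).symm
      obtain ⟨s, hs⟩ := h1
      exact ⟨s, (congrArg Subtype.val hs).symm⟩
    obtain ⟨r₁, hr₁⟩ := hcentN d hdS hdc
    obtain ⟨r₂, hr₂⟩ := hcentN (t' ^ p) (S.pow_mem ht'S p) fun y => by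
      have hτp : τ' ^ p = 1 := by
        refine MulEquiv.ext fun w => ?_
        obtain ⟨i₁, j₁, k₁, rfl⟩ := hcube.gen w
        obtain ⟨e1, e2, e3⟩ := hpowτ p
        simp only [map_mul, map_zpow, e1, e2, MulAut.one_apply]
        rw [e3, zpow_eq_one_of_cast hxp (by push_cast; rw [ZMod.natCast_self, mul_zero]),
          zpow_eq_one_of_cast hext.ap (by push_cast; rw [ZMod.natCast_self, mul_zero]), mul_one, mul_one]
      have h1 := hpowval p y
      rw [hτp, MulAut.one_apply] at h1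
      exact (mul_inv_eq_iff_eq_mul.1 h1.symm)
    -- compare the `p`-th powers
    obtain ⟨A, hA⟩ : ∃ A, A = (a : Ω) := ⟨_, rfl⟩
    obtain ⟨X, hX⟩ : ∃ X, X = (x : Ω) := ⟨_, rfl⟩
    rw [Subgroup.coe_zpow, ← hA] at hr₁ hr₂
    have hXA : Commute X A := by rw [hX, hA]; exact hxa.map (normalizerIn S P).subtype
    have htA : Commute t' A := by
      have := hτ'val a
      rw [hτ'a, ← hA] at this
      exact mul_inv_eq_iff_eq_mul.1 this.symm
    have htX : Commute t' X := by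
      have := hτ'val x
      rw [hτ'x, ← hX] at this
      exact mul_inv_eq_iff_eq_mul.1 this.symm
    have hAp : A ^ p = 1 := by rw [hA, ← Subgroup.coe_pow, hext.ap, Subgroup.coe_one]
    have hXp : X ^ p = 1 := by rw [hX, ← Subgroup.coe_pow, hxp, Subgroup.coe_one]
    have hft : f t' = t' ^ J * X ^ gk * A ^ (gi + r₁) := by
      have h1 : f t' = t' ^ J * (g : Ω) * d := by rw [hd, mul_inv_cancel_left]
      rw [h1, hr₁, hgeq, hgj, one_mul, Subgroup.coe_mul, Subgroup.coe_zpow, Subgroup.coe_zpow, ← hA, ← hX]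
      group
    have hpz : ∀ (w : Ω) (m : ℤ), w ^ p = 1 → (w ^ m) ^ p = 1 := fun w m hw => by
      rw [← zpow_natCast, ← zpow_mul, mul_comm, zpow_mul, zpow_natCast, hw, one_zpow]
    have hftp : (f t') ^ p = A ^ (r₂ * J) := by
      rw [hft, Commute.mul_pow (((htA.pow_left J).mul_left (hXA.zpow_left gk)).zpow_right _),
        ((htX.pow_left J).zpow_right gk).mul_pow, hpz X gk hXp, hpz A _ hAp, mul_one, mul_one,
        ← pow_mul, mul_comm J, pow_mul, hr₂, ← zpow_natCast, ← zpow_mul]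
    have hmem : t' ^ p ∈ normalizerIn S P := by rw [hr₂, hA]; exact zpow_mem a.2 _
    have hftp' : f (t' ^ p) = A ^ (l * r₂) := by
      rw [hfδ _ hmem, apl_apply δ hmem,
        show (⟨t' ^ p, hmem⟩ : normalizerIn S P) = a ^ r₂ from Subtype.ext (by
          rw [Subgroup.coe_zpow]; exact hr₂.trans (by rw [hA])),
        map_zpow, hδa, ← zpow_mul, Subgroup.coe_zpow, ← hA]
    rw [hf.map_pow htphi, hftp] at hftp'
    have hAne : A ≠ 1 := fun h => hane (Subtype.ext (hA ▸ h))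
    have h3 : A ^ (r₂ * J - l * r₂) = 1 := by rw [zpow_sub, hftp', mul_inv_cancel]
    rw [zpow_eq_one_iff hAp hAne] at h3
    rw [hJ] at h3
    push_cast [ZMod.natCast_zmod_val] at h3
    have hr0 : (r₂ : ZMod p) = 0 := by
      have h4 : ((l : ZMod p) * ((l : ZMod p) ^ 2 - 1)) * r₂ = 0 := by
        rw [← hn]; linear_combination h3
      refine (mul_eq_zero.1 h4).resolve_left (mul_ne_zero (fun h => ?_) (sub_ne_zero.2 hext.lne))
      push_cast at hll
      rw [h, zero_mul] at hll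
      exact one_ne_zero hll.symm
    rw [zpow_eq_one_of_cast hAp hr0] at hr₂
    -- three commuting elements of order `p`
    obtain ⟨a', ha'⟩ : ∃ a' : S, a' = ⟨(a : Ω), hNS a.2⟩ := ⟨_, rfl⟩
    obtain ⟨x', hx'⟩ : ∃ x' : S, x' = ⟨(x : Ω), hNS x.2⟩ := ⟨_, rfl⟩
    have hxna : x' ∉ Subgroup.zpowers a' := by
      rintro ⟨s, hs⟩
      have h1 : x = a ^ s := Subtype.ext (by
        have := congrArg Subtype.val hs
        rw [ha', hx'] at this
        simpa using this.symm)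
      exact hxE (h1 ▸ zpow_mem hext.amem s)
    obtain ⟨i₁, j₁, hij⟩ := rk_of_rank hrank le_rfl a' x' ⟨t', ht'S⟩
      (by rw [ha']; exact Subtype.ext (by rw [Subgroup.coe_pow, Subgroup.coe_mk, ← hA, hAp, Subgroup.coe_one]))
      (by rw [hx']; exact Subtype.ext (by rw [Subgroup.coe_pow, Subgroup.coe_mk, ← hX, hXp, Subgroup.coe_one]))
      (Subtype.ext hr₂)
      (by rw [ha', hx']; exact Subtype.ext (hA ▸ hX ▸ hXA.symm.eq))
      (by rw [ha']; exact Subtype.ext (hA ▸ htA.symm.eq))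
      (by rw [hx']; exact Subtype.ext (hX ▸ htX.symm.eq))
      (fun h => hane (Subtype.ext (by rw [ha'] at h; have h2 := congrArg Subtype.val h; exact h2))) hxna
    refine ht'N ?_
    have h1 := congrArg Subtype.val hij
    rw [ha', hx', Subgroup.coe_mul, Subgroup.coe_zpow, Subgroup.coe_zpow] at h1
    rw [show t' = (a : Ω) ^ i₁ * (x : Ω) ^ j₁ from h1]
    exact mul_mem (zpow_mem a.2 _) (zpow_mem x.2 _)

/-- A `p`-group of rank two, `p ≥ 5`, other than the exceptional group of order `p³`, is resistant. -/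
theorem isNormal_of_rank_two (hp5 : 5 ≤ p) (hS : IsPGroup p S) (hF : F.IsSaturated p)
    (hrank : ∀ E : Subgroup Ω, E ≤ S → Cfsg.IsElementaryAbelian p E → Nat.card E ≤ p ^ 2)
    (hnot : ¬ (Nat.card S = p ^ 3 ∧ Monoid.exponent ↥S = p)) : F.IsNormal S := by
  refine (isNormal_iff_essential hS hF).2 fun R hR => ?_
  rcases hR with rfl | hR
  · refine ⟨le_rfl, fun α _ => ?_⟩
    rw [Subgroup.subgroupOf_self]
    exact Subgroup.map_top_of_surjective _ α.surjective
  · exact absurd hR (no_essential hp5 hS hF hrank hnot R)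

end Cfsg.Agent.FusSys.RankTwoResist
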