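import Cfsg.Agent.FusSys.RankTwoExtend

/-!
# Automorphisms of the group of order `p³` and exponent `p` with a torus
-/

set_option autoImplicit false

namespace Cfsg.Agent.FusSys.RankTwoResist

open Subgroup
open scoped commutatorElement

universe u

variable {p : ℕ} [hp : Fact p.Prime] {K : Type u} [Group K] [Finite K]

/-- A frame of a group of order `p³` and exponent `p`. -/
structure Cube (p : ℕ) (a b x : K) (c : ℤ) : Prop where
  central : a ∈ center K
  ap : a ^ p = 1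
  bp : b ^ p = 1
  xp : x ^ p = 1
  ane : a ≠ 1
  cne : (c : ZMod p) ≠ 0
  conj : x * b * x⁻¹ = b * a ^ c
  gen : ∀ g : K, ∃ i j k : ℤ, g = b ^ j * x ^ k * a ^ i
  indep : ∀ j k : ℤ, b ^ j * x ^ k ∈ zpowers a → (j : ZMod p) = 0 ∧ (k : ZMod p) = 0

variable {a b x : K} {c : ℤ}

theorem Cube.hac (h : Cube p a b x c) (i : ℤ) (g : K) : Commute (a ^ i) g :=
  (mem_center_iff.1 (zpow_mem h.central i) g).symm

theorem Cube.conj_b (h : Cube p a b x c) (j : ℤ) : x * b ^ j * x⁻¹ = b ^ j * a ^ (c * j) := by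
  rw [← conj_zpow, h.conj, (h.hac c b).symm.mul_zpow, ← zpow_mul]

theorem Cube.conj_x (h : Cube p a b x c) (k : ℤ) : b * x ^ k * b⁻¹ = x ^ k * a ^ (-c * k) := by
  have h1 : b * x * b⁻¹ = x * a ^ (-c) := by
    have h2 : x * b = b * x * a ^ c := by
      calc x * b = x * b * x⁻¹ * x := by group
        _ = b * (a ^ c * x) := by rw [h.conj, mul_assoc]
        _ = b * x * a ^ c := by rw [(h.hac c x).eq, mul_assoc]
    calc b * x * b⁻¹ = b * x * a ^ c * a ^ (-c) * b⁻¹ := by group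
      _ = x * b * (a ^ (-c) * b⁻¹) := by rw [← h2, mul_assoc]
      _ = x * a ^ (-c) := by rw [(h.hac (-c) b⁻¹).eq]; group
  rw [← conj_zpow, h1, (h.hac (-c) x).symm.mul_zpow, ← zpow_mul]

theorem Cube.center_eq (h : Cube p a b x c) : center K = zpowers a := by
  refine le_antisymm (fun g hg => ?_) (zpowers_le.2 h.central)
  obtain ⟨i, j, k, rfl⟩ := h.gen g
  have hj : (j : ZMod p) = 0 := by
    have h1 := mem_center_iff.1 hg x
    have h2 : x * (b ^ j * x ^ k * a ^ i) * x⁻¹ = b ^ j * x ^ k * a ^ i := by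
      rw [h1, mul_inv_cancel_right]
    rw [← conj_mul, ← conj_mul, h.conj_b, ← (h.hac i x).eq, mul_inv_cancel_right,
      ((Commute.refl x).zpow_right k).eq, mul_inv_cancel_right, mul_left_inj, mul_left_inj,
      mul_eq_left, zpow_eq_one_iff h.ap h.ane] at h2
    push_cast at h2
    exact (mul_eq_zero.1 h2).resolve_left h.cne
  have hk : (k : ZMod p) = 0 := by
    have h1 := mem_center_iff.1 hg b
    have h2 : b * (b ^ j * x ^ k * a ^ i) * b⁻¹ = b ^ j * x ^ k * a ^ i := by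
      rw [h1, mul_inv_cancel_right]
    rw [← conj_mul, ← conj_mul, h.conj_x, ← (h.hac i b).eq, mul_inv_cancel_right,
      ((Commute.refl b).zpow_right j).eq, mul_inv_cancel_right, mul_left_inj, mul_right_inj,
      mul_eq_left, zpow_eq_one_iff h.ap h.ane] at h2
    push_cast at h2
    exact (mul_eq_zero.1 h2).resolve_left (neg_ne_zero.2 h.cne)
  rw [zpow_eq_one_of_cast h.bp hj, zpow_eq_one_of_cast h.xp hk, one_mul, one_mul]
  exact zpow_mem (mem_zpowers a) i

theorem Cube.card (h : Cube p a b x c) : Nat.card K = p ^ 3 := by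
  let f : ZMod p × ZMod p × ZMod p → K := fun t =>
    b ^ (t.2.1.val : ℤ) * x ^ (t.2.2.val : ℤ) * a ^ (t.1.val : ℤ)
  have hf : Function.Bijective f := by
    constructor
    · rintro ⟨i, j, k⟩ ⟨i', j', k'⟩ he
      have he' : b ^ (j.val : ℤ) * x ^ (k.val : ℤ) * a ^ (i.val : ℤ) =
          b ^ (j'.val : ℤ) * x ^ (k'.val : ℤ) * a ^ (i'.val : ℤ) := he
      have hm : (b ^ (j'.val : ℤ))⁻¹ * b ^ (j.val : ℤ) * x ^ ((k.val : ℤ) - k'.val) =
          x ^ (k'.val : ℤ) * a ^ ((i'.val : ℤ) - i.val) * (x ^ (k'.val : ℤ))⁻¹ := by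
        rw [zpow_sub, zpow_sub]
        calc (b ^ (j'.val : ℤ))⁻¹ * b ^ (j.val : ℤ) * (x ^ (k.val : ℤ) * (x ^ (k'.val : ℤ))⁻¹)
            = (b ^ (j'.val : ℤ))⁻¹ * (b ^ (j.val : ℤ) * x ^ (k.val : ℤ) * a ^ (i.val : ℤ)) *
                (a ^ (i.val : ℤ))⁻¹ * (x ^ (k'.val : ℤ))⁻¹ := by group
          _ = x ^ (k'.val : ℤ) * (a ^ (i'.val : ℤ) * (a ^ (i.val : ℤ))⁻¹) * (x ^ (k'.val : ℤ))⁻¹ := by
            rw [he']; group
      rw [← (h.hac _ _).eq, mul_inv_cancel_right, ← zpow_neg, ← zpow_add] at hm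
      obtain ⟨hj, hk⟩ := h.indep _ _ (hm ▸ zpow_mem (mem_zpowers a) _)
      have e2 : j = j' := by
        push_cast [ZMod.natCast_zmod_val] at hj
        linear_combination hj
      have e3 : k = k' := by
        push_cast [ZMod.natCast_zmod_val] at hk
        linear_combination hk
      subst e2
      subst e3
      have hi := (zpow_eq_one_iff h.ap h.ane).1
        (show a ^ ((i.val : ℤ) - i'.val) = 1 by rw [zpow_sub, mul_left_cancel he', mul_inv_cancel])
      have e1 : i = i' := by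
        push_cast [ZMod.natCast_zmod_val] at hi
        linear_combination hi
      rw [e1]
    · intro g
      obtain ⟨i, j, k, rfl⟩ := h.gen g
      refine ⟨((i : ZMod p), (j : ZMod p), (k : ZMod p)), ?_⟩
      simp only [f]
      rw [zcongr h.ap (n := i) (by simp), zcongr h.bp (n := j) (by simp), zcongr h.xp (n := k) (by simp)]
  rw [← Nat.card_congr (Equiv.ofBijective f hf), Nat.card_prod, Nat.card_prod, Nat.card_zmod]
  ring

theorem Cube.commutator_le (h : Cube p a b x c) : _root_.commutator K ≤ center K := by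
  haveI : (zpowers a).Normal := ⟨fun n hn g => by
    obtain ⟨i, rfl⟩ := hn
    show g * a ^ i * g⁻¹ ∈ zpowers a
    rw [← (h.hac i g).eq, mul_inv_cancel_right]
    exact zpow_mem (mem_zpowers a) i⟩
  rw [h.center_eq, ← Subgroup.Normal.quotient_commutative_iff_commutator_le]
  refine ⟨⟨fun u v => ?_⟩⟩
  obtain ⟨B, hB⟩ : ∃ B, B = QuotientGroup.mk' (zpowers a) b := ⟨_, rfl⟩
  obtain ⟨X, hX⟩ : ∃ X, X = QuotientGroup.mk' (zpowers a) x := ⟨_, rfl⟩
  have hA : ∀ i : ℤ, QuotientGroup.mk' (zpowers a) (a ^ i) = 1 := fun i =>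
    (QuotientGroup.eq_one_iff _).2 (zpow_mem (mem_zpowers a) i)
  have hXB : Commute X B := by
    have h1 := congrArg (QuotientGroup.mk' (zpowers a)) h.conj
    rw [map_mul, map_mul, map_mul, map_inv, hA, mul_one, ← hX, ← hB] at h1
    exact mul_inv_eq_iff_eq_mul.1 h1
  have hrep : ∀ q : K ⧸ zpowers a, ∃ j k : ℤ, q = B ^ j * X ^ k := fun q => by
    obtain ⟨g, rfl⟩ := QuotientGroup.mk'_surjective (zpowers a) q
    obtain ⟨i, j, k, rfl⟩ := h.gen g
    exact ⟨j, k, by rw [map_mul, map_mul, hA, mul_one, map_zpow, map_zpow, ← hB, ← hX]⟩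
  obtain ⟨j, k, rfl⟩ := hrep u
  obtain ⟨j', k', rfl⟩ := hrep v
  exact ((((Commute.refl B).zpow_zpow j j').mul_left (hXB.zpow_zpow k j')).mul_right
    ((hXB.symm.zpow_zpow j k').mul_left ((Commute.refl X).zpow_zpow k k'))).eq

theorem Cube.eqv_conj (h : Cube p a b x c) (g y : K) : Eqv a y (g * y * g⁻¹) := by
  have h1 : ⁅g, y⁆ ∈ center K :=
    h.commutator_le (commutator_mem_commutator (mem_top g) (mem_top y))
  rw [h.center_eq] at h1
  obtain ⟨s, hs⟩ := h1
  refine ⟨s, ?_⟩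
  rw [← (h.hac s y).eq, show a ^ s = ⁅g, y⁆ from hs, commutatorElement_def]
  group

theorem Cube.conj_zpow_x (h : Cube p a b x c) (m : ℤ) : b ^ m * x * (b ^ m)⁻¹ = x * a ^ (-(c * m)) := by
  calc b ^ m * x * (b ^ m)⁻¹
      = (x * b ^ m * x⁻¹) * a ^ (-(c * m)) * x * (b ^ m)⁻¹ := by rw [h.conj_b]; group
    _ = x * b ^ m * x⁻¹ * x * a ^ (-(c * m)) * (b ^ m)⁻¹ := by
      rw [mul_assoc (x * b ^ m * x⁻¹), (h.hac _ x).eq, ← mul_assoc]
    _ = x * a ^ (-(c * m)) := by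
      rw [inv_mul_cancel_right, mul_assoc (x * b ^ m), (h.hac _ _).eq]; group

theorem Cube.exponent (h : Cube p a b x c) (hp2 : p ≠ 2) (g : K) : g ^ p = 1 := by
  refine Fusion.pow_prime_eq_one_of_mem_closure hp2 h.commutator_le ?_
  obtain ⟨i, j, k, rfl⟩ := h.gen g
  exact mul_mem (mul_mem (zpow_mem (subset_closure (by exact h.bp)) _)
    (zpow_mem (subset_closure (by exact h.xp)) _)) (zpow_mem (subset_closure (by exact h.ap)) _)

theorem Cube.map_a (h : Cube p a b x c) (α : MulAut K) : α a ∈ zpowers a := by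
  rw [← h.center_eq]
  refine mem_center_iff.2 fun g => ?_
  have := congrArg α (mem_center_iff.1 h.central (α⁻¹ g))
  simpa using this

/-- An automorphism trivial on the centre and on the central quotient is inner. -/
theorem Cube.exists_conj (h : Cube p a b x c) {α : MulAut K} {i j : ℤ} (ha : α a = a)
    (hx : α x = x * a ^ i) (hb : α b = b * a ^ j) : ∃ g, α = MulAut.conj g := by
  obtain ⟨r, hr⟩ := exists_zinv h.cne
  refine ⟨b ^ (-i * r) * x ^ (j * r), MulEquiv.ext fun g => ?_⟩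
  have hxb : x ^ (j * r) * b * (x ^ (j * r))⁻¹ = b * a ^ j := by
    have h2 : ∀ N : ℕ, x ^ N * b * (x ^ N)⁻¹ = b * a ^ (c * N) := by
      intro N
      induction N with
      | zero => simp
      | succ N ih =>
        calc x ^ (N + 1) * b * (x ^ (N + 1))⁻¹ = x * (x ^ N * b * (x ^ N)⁻¹) * x⁻¹ := by
              rw [pow_succ']; group
          _ = x * b * x⁻¹ * a ^ (c * N) := by
            rw [ih, ← conj_mul, ← (h.hac _ x).eq, mul_inv_cancel_right]
          _ = b * a ^ (c * (N + 1 : ℕ)) := by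
            rw [h.conj, mul_assoc, ← zpow_add]; congr 2; push_cast; ring
    rw [zcongr h.xp (n := (((j * r : ℤ) : ZMod p).val : ℤ)) (by simp), zpow_natCast, h2]
    refine congrArg (b * ·) (zcongr h.ap ?_)
    push_cast [ZMod.natCast_zmod_val] at hr ⊢
    linear_combination (j : ZMod p) * hr
  have hbx : b ^ (-i * r) * x * (b ^ (-i * r))⁻¹ = x * a ^ i := by
    have h2 : ∀ N : ℕ, b ^ N * x * (b ^ N)⁻¹ = x * a ^ (-c * N) := by
      intro N
      induction N with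
      | zero => simp
      | succ N ih =>
        have h3 := h.conj_x 1
        rw [zpow_one, mul_one] at h3
        calc b ^ (N + 1) * x * (b ^ (N + 1))⁻¹ = b * (b ^ N * x * (b ^ N)⁻¹) * b⁻¹ := by
              rw [pow_succ']; group
          _ = b * x * b⁻¹ * a ^ (-c * N) := by
            rw [ih, ← conj_mul, ← (h.hac _ b).eq, mul_inv_cancel_right]
          _ = x * a ^ (-c * (N + 1 : ℕ)) := by
            rw [h3, mul_assoc, ← zpow_add]; congr 2; push_cast; ring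
    rw [zcongr h.bp (n := (((-i * r : ℤ) : ZMod p).val : ℤ)) (by simp), zpow_natCast, h2]
    refine congrArg (x * ·) (zcongr h.ap ?_)
    push_cast [ZMod.natCast_zmod_val] at hr ⊢
    linear_combination (i : ZMod p) * hr
  have hca : MulAut.conj (b ^ (-i * r) * x ^ (j * r)) a = α a := by
    rw [ha, MulAut.conj_apply, mem_center_iff.1 h.central, mul_inv_cancel_right]
  have hcb : MulAut.conj (b ^ (-i * r) * x ^ (j * r)) b = α b := by
    rw [hb, MulAut.conj_apply]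
    calc b ^ (-i * r) * x ^ (j * r) * b * (b ^ (-i * r) * x ^ (j * r))⁻¹
        = b ^ (-i * r) * (x ^ (j * r) * b * (x ^ (j * r))⁻¹) * (b ^ (-i * r))⁻¹ := by group
      _ = b * a ^ j := by
        rw [hxb, ← conj_mul, ← (h.hac j (b ^ (-i * r))).eq, mul_inv_cancel_right,
          ((Commute.refl b).zpow_left _).eq, mul_inv_cancel_right]
  have hcx : MulAut.conj (b ^ (-i * r) * x ^ (j * r)) x = α x := by
    rw [hx, MulAut.conj_apply]
    calc b ^ (-i * r) * x ^ (j * r) * x * (b ^ (-i * r) * x ^ (j * r))⁻¹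
        = b ^ (-i * r) * (x ^ (j * r) * x * (x ^ (j * r))⁻¹) * (b ^ (-i * r))⁻¹ := by group
      _ = x * a ^ i := by rw [((Commute.refl x).zpow_left _).eq, mul_inv_cancel_right, hbx]
  obtain ⟨C, hC⟩ : ∃ C, C = MulAut.conj (b ^ (-i * r) * x ^ (j * r)) := ⟨_, rfl⟩
  rw [← hC] at hca hcb hcx ⊢
  obtain ⟨i', j', k', rfl⟩ := h.gen g
  simp only [map_mul, map_zpow, hca, hcb, hcx]

theorem flip_or_fix (h : Cube p a b x c) {τ δ : MulAut K} {e : ℕ} (hτ : τ ^ p ^ e = 1)
    {l l' n : ℤ} (hda : δ a = a ^ l) (hdb : δ b = b ^ l') (hdx : δ x = x ^ n)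
    (hl : ((l * l' : ℤ) : ZMod p) = 1) (hn : (n : ZMod p) = (l : ZMod p) ^ 2)
    (hl3 : (l : ZMod p) ^ 3 ≠ 1) (hmove : ∀ i j : ℤ, τ b ≠ b ^ j * a ^ i) :
    (∃ ψ ∈ Subgroup.closure ({τ, δ} : Set (MulAut K)), ∃ i j : ℤ, τ (ψ b) = ψ b ^ j * a ^ i) ∨
      (τ a = a ∧ (∃ β : ℤ, τ x = x * a ^ β) ∧
        ∃ k i : ℤ, (k : ZMod p) ≠ 0 ∧ τ b = b * x ^ k * a ^ i) := by
  haveI hZn : (zpowers a).Normal := ⟨fun n hn g => by
    obtain ⟨i, rfl⟩ := hn
    show g * a ^ i * g⁻¹ ∈ zpowers a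
    rw [← (h.hac i g).eq, mul_inv_cancel_right]
    exact zpow_mem (mem_zpowers a) i⟩
  have hcom := h.commutator_le
  rw [h.center_eq] at hcom
  let cV : CommGroup (K ⧸ zpowers a) :=
    { (inferInstance : Group (K ⧸ zpowers a)) with
      mul_comm := ((Subgroup.Normal.quotient_commutative_iff_commutator_le).2 hcom).is_comm.comm }
  letI := cV
  obtain ⟨π, hπ⟩ : ∃ π : K →* K ⧸ zpowers a, π = QuotientGroup.mk' (zpowers a) := ⟨_, rfl⟩
  have hπ1 : ∀ y : K, π y = 1 ↔ y ∈ zpowers a := fun y => by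
    rw [hπ, QuotientGroup.mk'_apply, QuotientGroup.eq_one_iff]
  have hlift : ∀ y y' : K, π y = π y' → ∃ i : ℤ, y = y' * a ^ i := fun y y' hy => by
    have h1 : π (y'⁻¹ * y) = 1 := by rw [map_mul, map_inv, hy, inv_mul_cancel]
    obtain ⟨i, hi⟩ := (hπ1 _).1 h1
    exact ⟨i, eq_mul_of_inv_mul_eq hi.symm⟩
  have hA : π a = 1 := (hπ1 a).2 (mem_zpowers a)
  obtain ⟨B, hB⟩ : ∃ B, B = π b := ⟨_, rfl⟩
  obtain ⟨X, hX⟩ : ∃ X, X = π x := ⟨_, rfl⟩
  have hrep : ∀ q : K ⧸ zpowers a, ∃ j k : ℤ, q = B ^ j * X ^ k := fun q => by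
    obtain ⟨g, rfl⟩ := (hπ ▸ QuotientGroup.mk'_surjective (zpowers a)) q
    obtain ⟨i, j, k, rfl⟩ := h.gen g
    exact ⟨j, k, by rw [map_mul, map_mul, map_zpow π a, hA, one_zpow, mul_one, map_zpow, map_zpow, ← hB, ← hX]⟩
  have hBp : B ^ p = 1 := by rw [hB, ← map_pow, h.bp, map_one]
  have hXp : X ^ p = 1 := by rw [hX, ← map_pow, h.xp, map_one]
  have hexp : ∀ q : K ⧸ zpowers a, q ^ p = 1 := fun q => by
    obtain ⟨j, k, rfl⟩ := hrep q
    rw [mul_pow, ← zpow_natCast, ← zpow_natCast, ← zpow_mul, ← zpow_mul, mul_comm j, mul_comm k,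
      zpow_mul, zpow_mul, zpow_natCast, zpow_natCast, hBp, hXp, one_zpow, one_zpow, one_mul]
  have hind : ∀ j k : ℤ, B ^ j * X ^ k = 1 → (j : ZMod p) = 0 ∧ (k : ZMod p) = 0 := fun j k hjk =>
    h.indep j k ((hπ1 _).1 (by rw [map_mul, map_zpow, map_zpow, ← hB, ← hX, hjk]))
  have hcard : Nat.card (K ⧸ zpowers a) = p ^ 2 := by
    have h1 := (zpowers a).card_eq_card_quotient_mul_card_subgroup
    rw [h.card, Nat.card_zpowers, orderOf_eq_prime h.ap h.ane, pow_succ p 2] at h1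
    exact (Nat.eq_of_mul_eq_mul_right hp.out.pos h1).symm
  have hmk : ∀ α : MulAut K, ∃ αQ : MulAut (K ⧸ zpowers a), ∀ y, π (α y) = αQ (π y) := fun α =>
    ⟨QuotientGroup.congr (zpowers a) (zpowers a) α (by
      refine Subgroup.eq_of_le_of_card_ge ?_ (card_map_of_injective α.injective).ge
      rintro _ ⟨_, ⟨i, rfl⟩, rfl⟩
      show α (a ^ i) ∈ zpowers a
      rw [map_zpow]
      exact zpow_mem (h.map_a α) i), fun y => by rw [hπ]; rfl⟩
  obtain ⟨τQ, hτQ⟩ := hmk τ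
  obtain ⟨δQ, hδQ⟩ := hmk δ
  have hτe : τQ ^ p ^ e = 1 := by
    have hit : ∀ N : ℕ, ∀ y, π ((τ ^ N) y) = (τQ ^ N) (π y) := by
      intro N
      induction N with
      | zero => simp
      | succ N ih => intro y; rw [pow_succ' τ, pow_succ' τQ, MulAut.mul_apply, MulAut.mul_apply, hτQ, ih]
    refine MulEquiv.ext fun q => ?_
    obtain ⟨y, rfl⟩ := (hπ ▸ QuotientGroup.mk'_surjective (zpowers a)) q
    rw [← hit, hτ, MulAut.one_apply, MulAut.one_apply]
  have hτa : τ a = a := by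
    obtain ⟨s, hs⟩ := h.map_a τ
    have hs' : τ a = a ^ s := hs.symm
    have hit : ∀ N : ℕ, (τ ^ N) a = a ^ (s ^ N) := by
      intro N
      induction N with
      | zero => simp
      | succ N ih => rw [pow_succ', MulAut.mul_apply, ih, map_zpow, hs', ← zpow_mul, ← pow_succ']
    have h1 := hit (p ^ e)
    rw [hτ, MulAut.one_apply] at h1
    have h2 : a ^ (s ^ p ^ e - 1) = 1 := by rw [zpow_sub, ← h1, zpow_one, mul_inv_cancel]
    rw [zpow_eq_one_iff h.ap h.ane] at h2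
    simp only [Int.cast_sub, Int.cast_pow, Int.cast_one, ZMod.pow_card_pow, sub_eq_zero] at h2
    rw [hs', zcongr h.ap (n := 1) (by rw [h2, Int.cast_one]), zpow_one]
  -- the fixed line
  obtain ⟨v, hv1, hvfix⟩ : ∃ v : K ⧸ zpowers a, v ≠ 1 ∧ τQ v = v := by
    letI : MulAction (zpowers τQ) (K ⧸ zpowers a) :=
      MulAction.compHom (K ⧸ zpowers a) (zpowers τQ).subtype
    have hP : IsPGroup p (zpowers τQ) := by
      rintro ⟨y, r, rfl⟩
      refine ⟨e, Subtype.ext ?_⟩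
      show (τQ ^ r) ^ p ^ e = 1
      rw [← zpow_natCast, ← zpow_mul, mul_comm, zpow_mul, zpow_natCast, hτe, one_zpow]
    obtain ⟨v, hv, hv1⟩ := hP.exists_fixed_point_of_prime_dvd_card_of_fixed_point (K ⧸ zpowers a)
      (hcard ▸ dvd_pow_self p two_ne_zero) (a := 1) (fun g => map_one (g : MulAut (K ⧸ zpowers a)))
    exact ⟨v, fun h' => hv1 h'.symm, hv ⟨τQ, mem_zpowers τQ⟩⟩
  have hBne : ∀ s : ℤ, τQ B ≠ B ^ s := fun s hs => by
    rw [hB, ← hτQ, ← map_zpow] at hs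
    obtain ⟨i, hi⟩ := hlift _ _ hs
    exact hmove i s hi
  obtain ⟨j₀, k₀, hv⟩ := hrep v
  have hk₀ : (k₀ : ZMod p) ≠ 0 := by
    intro hk
    rw [zpow_eq_one_of_cast hXp hk, mul_one] at hv
    have hj : (j₀ : ZMod p) ≠ 0 := fun hj => hv1 (by rw [hv, zpow_eq_one_of_cast hBp hj])
    obtain ⟨r, hr⟩ := exists_zinv hj
    have hBv : B = v ^ r := by rw [hv, ← zpow_mul, zcongr hBp (n := 1) (by rw [hr, Int.cast_one]), zpow_one]
    exact hBne 1 (by rw [zpow_one, hBv, map_zpow, hvfix])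
  obtain ⟨r, hr⟩ := exists_zinv hk₀
  obtain ⟨w, hw⟩ : ∃ w, w = B ^ (j₀ * r) * X := ⟨_, rfl⟩
  have hwfix : τQ w = w := by
    have : w = v ^ r := by
      rw [hw, hv, mul_zpow, ← zpow_mul, ← zpow_mul, zcongr hXp (m := k₀ * r) (n := 1)
        (by rw [hr, Int.cast_one]), zpow_one]
    rw [this, map_zpow, hvfix]
  obtain ⟨s, hs⟩ : ∃ s, s = j₀ * r := ⟨_, rfl⟩
  rw [← hs] at hw
  have hw1 : w ≠ 1 := fun h' => by
    have := (hind s 1 (by rw [zpow_one, ← hw, h'])).2
    simp at this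
  obtain ⟨k, hk⟩ := unip hexp hcard hτe hwfix hw1 B
  have hk0 : (k : ZMod p) ≠ 0 := fun h' => hBne 1 (by
    rw [zpow_one, hk, zpow_eq_one_of_cast (hexp w) h', mul_one])
  by_cases hs0 : (s : ZMod p) = 0
  · right
    rw [zpow_eq_one_of_cast hBp hs0, one_mul] at hw
    rw [hw, hX, ← hτQ] at hwfix
    rw [hw, hB, hX, ← hτQ, ← map_zpow, ← map_mul] at hk
    obtain ⟨i, hi⟩ := hlift _ _ hk
    exact ⟨hτa, hlift _ _ hwfix, k, i, hk0, hi⟩
  left
  have hn0 : (n : ZMod p) ≠ 0 := by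
    rw [hn]
    refine pow_ne_zero _ fun h' => ?_
    push_cast at hl
    rw [h', zero_mul] at hl
    exact one_ne_zero hl.symm
  obtain ⟨n', hn'⟩ := exists_zinv hn0
  have hnl : ((n' : ZMod p) * (l' : ZMod p) ≠ 0) ∧ 1 - (l' : ZMod p) * n' ≠ 0 := by
    have hl' := hl
    have hn'' := hn'
    push_cast at hl' hn''
    refine ⟨mul_ne_zero (fun h' => ?_) (fun h' => ?_), fun h' => ?_⟩
    · rw [h', mul_zero] at hn''; exact one_ne_zero hn''.symm
    · rw [h', mul_zero] at hl'; exact one_ne_zero hl'.symm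
    · refine hl3 ?_
      have h1 : (l' : ZMod p) * n' = 1 := (sub_eq_zero.1 h').symm
      calc (l : ZMod p) ^ 3 = (l : ZMod p) * n := by rw [hn]; ring
        _ = (l : ZMod p) * n * ((l' : ZMod p) * n') := by rw [h1, mul_one]
        _ = ((l : ZMod p) * l') * ((n : ZMod p) * n') := by ring
        _ = 1 := by rw [hl', hn'', one_mul]
  obtain ⟨i₀, hi₀⟩ := exists_zinv (k := s * k) (by push_cast; exact mul_ne_zero hs0 hk0)
  obtain ⟨m₀, hm₀⟩ := exists_zinv (k := k * s * (1 - l' * n'))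
    (by push_cast; exact mul_ne_zero (mul_ne_zero hk0 hs0) hnl.2)
  obtain ⟨w', hw'⟩ : ∃ w', w' = δQ w := ⟨_, rfl⟩
  obtain ⟨τ', hτ'⟩ : ∃ τ' : MulAut (K ⧸ zpowers a), τ' = δQ * τQ * δQ⁻¹ := ⟨_, rfl⟩
  have hδB : δQ B = B ^ l' := by rw [hB, ← hδQ, hdb, map_zpow]
  have hδX : δQ X = X ^ n := by rw [hX, ← hδQ, hdx, map_zpow]
  have hw'eq : w' = B ^ (l' * s) * X ^ n := by rw [hw', hw, map_mul, map_zpow, hδB, hδX, ← zpow_mul]
  have hτ'w : τ' w' = w' := by
    rw [hτ', hw', MulAut.mul_apply, MulAut.mul_apply, MulAut.inv_apply_self, hwfix]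
  have hll : B ^ (l' * l) = B := by
    rw [zcongr hBp (n := 1) (by rw [mul_comm, hl, Int.cast_one]), zpow_one]
  have hτ'B : τ' B = B * w' ^ (k * l) := by
    have hinv : δQ⁻¹ B = B ^ l := by
      apply δQ.injective
      rw [MulAut.apply_inv_self, map_zpow, hδB, ← zpow_mul, hll]
    rw [hτ', MulAut.mul_apply, MulAut.mul_apply, hinv, map_zpow, hk, map_zpow, map_mul, map_zpow,
      hδB, ← hw', mul_zpow, ← zpow_mul, ← zpow_mul, hll]
  obtain ⟨N, hN⟩ : ∃ N : ℕ, N = ((-i₀ : ℤ) : ZMod p).val := ⟨_, rfl⟩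
  obtain ⟨M, hM⟩ : ∃ M : ℕ, M = (m₀ : ZMod p).val := ⟨_, rfl⟩
  have hτN : (τQ ^ N) B = B * w ^ (k * N) := by
    clear hN
    induction N with
    | zero => simp
    | succ N ih =>
      rw [pow_succ', MulAut.mul_apply, ih, map_mul, map_zpow, hwfix, hk, mul_assoc, ← zpow_add]
      congr 2; push_cast; ring
  have hτ'M : (τ' ^ M) B = B * w' ^ (k * l * M) ∧ (τ' ^ M) w' = w' := by
    clear hM
    induction M with
    | zero => simp
    | succ M ih =>
      rw [pow_succ', MulAut.mul_apply, MulAut.mul_apply, ih.1, ih.2, map_mul, map_zpow, hτ'w, hτ'B,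
        mul_assoc, ← zpow_add]
      exact ⟨by congr 2; push_cast; ring, rfl⟩
  obtain ⟨ψ, hψ⟩ : ∃ ψ : MulAut K, ψ = (δ * τ * δ⁻¹) ^ M * τ ^ N := ⟨_, rfl⟩
  refine ⟨ψ, ?_, ?_⟩
  · have hτm : τ ∈ Subgroup.closure ({τ, δ} : Set (MulAut K)) := Subgroup.subset_closure (by simp)
    have hδm : δ ∈ Subgroup.closure ({τ, δ} : Set (MulAut K)) := Subgroup.subset_closure (by simp)
    rw [hψ]
    exact mul_mem (pow_mem (mul_mem (mul_mem hτm hδm) (inv_mem hδm) |> fun _ =>
      mul_mem (mul_mem hδm hτm) (inv_mem hδm)) M) (pow_mem hτm N)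
  have hδinv : ∀ y, π (δ⁻¹ y) = δQ⁻¹ (π y) := fun y => by
    apply δQ.injective
    rw [← hδQ, MulAut.apply_inv_self, MulAut.apply_inv_self]
  have hψQ : ∀ y, π (ψ y) = (τ' ^ M) ((τQ ^ N) (π y)) := by
    intro y
    have hit : ∀ (N : ℕ) y, π ((τ ^ N) y) = (τQ ^ N) (π y) := by
      intro N
      induction N with
      | zero => simp
      | succ N ih => intro y; rw [pow_succ' τ, pow_succ' τQ, MulAut.mul_apply, MulAut.mul_apply, hτQ, ih]
    have hit' : ∀ (M : ℕ) y, π (((δ * τ * δ⁻¹) ^ M) y) = (τ' ^ M) (π y) := by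
      intro M
      induction M with
      | zero => simp
      | succ M ih =>
        intro y
        have hstep : ∀ Y, π ((δ * τ * δ⁻¹) Y) = τ' (π Y) := fun Y => by
          rw [hτ']
          simp only [MulAut.mul_apply]
          rw [hδQ, hτQ, hδinv]
        rw [pow_succ' (δ * τ * δ⁻¹), pow_succ' τ']
        show π ((δ * τ * δ⁻¹) (((δ * τ * δ⁻¹) ^ M) y)) = τ' ((τ' ^ M) (π y))
        rw [hstep, ih]
    rw [hψ, MulAut.mul_apply, hit', hit]
  have hskN : ((s : ZMod p) * k) * (N : ZMod p) = -1 := by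
    rw [hN, ZMod.natCast_zmod_val]
    push_cast at hi₀ ⊢
    linear_combination -hi₀
  have hmM : (k : ZMod p) * s * (1 - l' * n') * (M : ZMod p) = 1 := by
    rw [hM, ZMod.natCast_zmod_val]
    push_cast at hm₀ ⊢
    linear_combination hm₀
  have hτNB : (τQ ^ N) B = X ^ (k * N) := by
    rw [hτN, hw, mul_zpow, ← zpow_mul, ← mul_assoc, ← zpow_one_add,
      zpow_eq_one_of_cast hBp (by push_cast; linear_combination hskN), one_mul]
  have hXn : X = (w' * B ^ (-(l' * s))) ^ n' := by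
    rw [hw'eq, mul_right_comm, ← zpow_add, add_neg_cancel, zpow_zero, one_mul, ← zpow_mul,
      zcongr hXp (n := 1) (by rw [hn', Int.cast_one]), zpow_one]
  have hτ'X : (τ' ^ M) X = B ^ (-(k * l * l' * s * s * M * l' * n')) * X ^ (1 - k * s * M) := by
    conv_lhs => rw [hXn]
    rw [map_zpow, map_mul, map_zpow, hτ'M.1, hτ'M.2, hw'eq]
    simp only [mul_zpow, ← zpow_mul]
    rw [mul_mul_mul_comm, ← zpow_add, mul_left_comm (X ^ _), ← zpow_add, ← mul_assoc, ← zpow_add]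
    have hl' := hl
    have hn'' := hn'
    push_cast at hl' hn''
    congr 1
    · refine zcongr hBp ?_
      push_cast
      ring
    · refine zcongr hXp ?_
      push_cast
      linear_combination (1 - (k : ZMod p) * s * M * (l * l' : ZMod p)) * hn'' - (k : ZMod p) * s * M * hl'
  have hfix : τQ (π (ψ b)) = π (ψ b) := by
    rw [hψQ, ← hB, hτNB, map_zpow, hτ'X]
    have hmul : B ^ (-(k * l * l' * s * s * M * l' * n')) * X ^ (1 - k * s * M) =
        w ^ (1 - k * s * M) := by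
      rw [hw, mul_zpow, ← zpow_mul]
      congr 1
      refine zcongr hBp ?_
      have hl' := hl
      push_cast at hl' ⊢
      linear_combination (s : ZMod p) * hmM - (k : ZMod p) * s * s * M * l' * n' * hl'
    rw [hmul, map_zpow, map_zpow, hwfix]
  rw [← hτQ] at hfix
  obtain ⟨i, hi⟩ := hlift _ _ hfix
  exact ⟨i, 1, by rw [zpow_one, hi]⟩

end Cfsg.Agent.FusSys.RankTwoResist
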