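import Cfsg.Agent.FusSys.RankTwoTorus

/-!
# Automorphism groups of `p`-groups of rank two without normal outer `p`-subgroup
-/

set_option autoImplicit false

namespace Cfsg.Agent.FusSys.RankTwoResist

open Subgroup
open scoped commutatorElement

universe u

variable {p : ℕ} [hp : Fact p.Prime] {G : Type u} [Group G] [Finite G]

/-- Congruence modulo the powers of a central element. -/
def Eqv (z x y : G) : Prop := ∃ i : ℤ, y = x * z ^ i

/-- The plane data of a group of automorphisms. -/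
structure Shape (p : ℕ) (A : Subgroup (MulAut G)) (T : Subgroup A) (u : A) (z a b : G) : Prop where
  zp : z ^ p = 1
  ap : a ^ p = 1
  bp : b ^ p = 1
  central : z ∈ center G
  zinv : ∀ α : MulAut G, α z ∈ zpowers z
  inner : ∀ g : G, Eqv z a (g * a * g⁻¹) ∧ Eqv z b (g * b * g⁻¹)
  indep : ∀ i j : ℤ, a ^ i * b ^ j ∈ zpowers z → (i : ZMod p) = 0 ∧ (j : ZMod p) = 0
  fix : ∀ g ∈ T, Eqv z a ((g : MulAut G) a) ∧ ∃ k : ℤ, Eqv z (b * a ^ k) ((g : MulAut G) b)
  moved : ∃ c : ℤ, (c : ZMod p) ≠ 0 ∧ Eqv z (b * a ^ c) ((u : MulAut G) b)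
  swap : ∃ α ∈ A, Eqv z b (α a)
  torus : ∀ l l' : ℤ, ((l * l' : ℤ) : ZMod p) = 1 → ∃ α ∈ A, Eqv z (a ^ l) (α a) ∧ Eqv z (b ^ l') (α b)
  kernel : ∀ α ∈ A, Eqv z a (α a) → Eqv z b (α b) → ∃ g, α = MulAut.conj g
  coprime : ∀ α : MulAut G, (orderOf α).Coprime p → Eqv z a (α a) → Eqv z b (α b) → α = 1
  cases : (z = 1 ∧ a ∈ center G ∧ b ∈ center G ∧ ∀ g : G, g ^ p = 1 → ∃ i j : ℤ, g = a ^ i * b ^ j) ∨
    (¬ Commute a b ∧ IsCyclic (center G) ∧ ∀ g : G, ∃ i j : ℤ, ∃ c ∈ center G, g = a ^ i * b ^ j * c)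

/-- The restriction of an automorphism to an invariant subgroup. -/
def resEquiv {D : Subgroup G} (hD : ∀ (α : MulAut G), ∀ x ∈ D, α x ∈ D) (α : MulAut G) : D ≃* D where
  toFun x := ⟨α x, hD α x x.2⟩
  invFun x := ⟨α⁻¹ x, hD α⁻¹ x x.2⟩
  left_inv x := Subtype.ext (MulAut.inv_apply_self G α x)
  right_inv x := Subtype.ext (MulAut.apply_inv_self G α x)
  map_mul' x y := Subtype.ext (map_mul α _ _)

variable {A : Subgroup (MulAut G)} {T : Subgroup A} {u : A}

theorem plane_facts (hInn : ∀ g : G, MulAut.conj g ∈ A)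
    (hcore : ∀ N : Subgroup A, N.Normal → IsPGroup p N → ∀ a ∈ N, ∃ g, (a : MulAut G) = MulAut.conj g)
    (hG : IsPGroup p G) (hT : IsPGroup p T) (huT : u ∈ T) (hu : ∀ g, (u : MulAut G) ≠ MulAut.conj g)
    {D : Subgroup G} (hD : ∀ (α : MulAut G), ∀ x ∈ D, α x ∈ D) {z : G} (hz : z ∈ center G)
    (hzD : z ∈ D) (hzinv : ∀ α : MulAut G, α z ∈ zpowers z) (hDexp : ∀ x ∈ D, x ^ p = 1)
    (hcomm : ∀ x ∈ D, ∀ y ∈ D, ⁅x, y⁆ ∈ zpowers z) {a₀ b₀ : G} (ha₀ : a₀ ∈ D) (hb₀ : b₀ ∈ D)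
    (hspan : ∀ d ∈ D, ∃ i j k : ℤ, d = a₀ ^ i * b₀ ^ j * z ^ k)
    (hind : ∀ i j : ℤ, a₀ ^ i * b₀ ^ j ∈ zpowers z → (i : ZMod p) = 0 ∧ (j : ZMod p) = 0)
    (hfix : ∀ δ : MulAut G, (orderOf δ).Coprime p → (∀ d ∈ D, Eqv z d (δ d)) → δ = 1) :
    ∃ a b : G, a ∈ D ∧ b ∈ D ∧ (∀ d ∈ D, ∃ i j k : ℤ, d = a ^ i * b ^ j * z ^ k) ∧
      (∀ g : G, Eqv z a (g * a * g⁻¹) ∧ Eqv z b (g * b * g⁻¹)) ∧
      (∀ i j : ℤ, a ^ i * b ^ j ∈ zpowers z → (i : ZMod p) = 0 ∧ (j : ZMod p) = 0) ∧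
      (∀ g ∈ T, Eqv z a ((g : MulAut G) a) ∧ ∃ k : ℤ, Eqv z (b * a ^ k) ((g : MulAut G) b)) ∧
      (∃ c : ℤ, (c : ZMod p) ≠ 0 ∧ Eqv z (b * a ^ c) ((u : MulAut G) b)) ∧
      (∃ α ∈ A, Eqv z b (α a)) ∧
      (∀ l l' : ℤ, ((l * l' : ℤ) : ZMod p) = 1 →
        ∃ α ∈ A, Eqv z (a ^ l) (α a) ∧ Eqv z (b ^ l') (α b)) ∧
      (∀ α ∈ A, Eqv z a (α a) → Eqv z b (α b) → ∃ g, α = MulAut.conj g) ∧
      (∀ α : MulAut G, (orderOf α).Coprime p → Eqv z a (α a) → Eqv z b (α b) → α = 1) := by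
  haveI : Finite (MulAut G) := Finite.of_injective _ MulEquiv.toEquiv_injective
  let K : Subgroup D := (zpowers z).subgroupOf D
  haveI hKn : K.Normal := ⟨fun n hn g => by
    obtain ⟨i, hi⟩ := mem_subgroupOf.1 hn
    have hi' : z ^ i = (n : G) := hi
    refine mem_subgroupOf.2 ⟨i, ?_⟩
    show z ^ i = ((g * n * g⁻¹ : D) : G)
    rw [coe_mul, coe_mul, coe_inv, ← hi', mem_center_iff.1 (zpow_mem hz i) (g : G),
      mul_inv_cancel_right]⟩
  let cV : CommGroup (D ⧸ K) :=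
    { (inferInstance : Group (D ⧸ K)) with
      mul_comm := fun x y => by
        obtain ⟨x, rfl⟩ := QuotientGroup.mk_surjective x
        obtain ⟨y, rfl⟩ := QuotientGroup.mk_surjective y
        refine QuotientGroup.eq.2 (mem_subgroupOf.2 ?_)
        have := hcomm (y : G)⁻¹ (inv_mem y.2) (x : G)⁻¹ (inv_mem x.2)
        simpa [commutatorElement_def, mul_assoc] using this }
  letI := cV
  obtain ⟨π, hπ⟩ : ∃ π : D →* D ⧸ K, π = QuotientGroup.mk' K := ⟨_, rfl⟩
  have hπs : Function.Surjective π := hπ ▸ QuotientGroup.mk'_surjective K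
  have hπ1 : ∀ x : D, π x = 1 ↔ (x : G) ∈ zpowers z := fun x => by
    rw [hπ, QuotientGroup.mk'_apply, QuotientGroup.eq_one_iff, mem_subgroupOf]
  have heqv : ∀ x y : D, π x = π y ↔ Eqv z (x : G) y := fun x y => by
    rw [← inv_mul_eq_one, ← map_inv, ← map_mul, hπ1, coe_mul, coe_inv]
    constructor
    · rintro ⟨i, hi⟩; exact ⟨i, eq_mul_of_inv_mul_eq hi.symm⟩
    · rintro ⟨i, hi⟩; exact ⟨i, (by rw [hi, inv_mul_cancel_left] : (x : G)⁻¹ * y = z ^ i).symm⟩
  have hKinv : ∀ α : A, K.map ((resEquiv hD (α : MulAut G)) : D →* D) = K := by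
    intro α
    refine Subgroup.eq_of_le_of_card_ge ?_
      (card_map_of_injective (resEquiv hD (α : MulAut G)).injective).ge
    rintro _ ⟨x, hx, rfl⟩
    obtain ⟨i, hi⟩ := mem_subgroupOf.1 hx
    refine mem_subgroupOf.2 ?_
    show (α : MulAut G) (x : G) ∈ zpowers z
    rw [← (show z ^ i = (x : G) from hi), map_zpow]
    exact zpow_mem (hzinv _) i
  let φ : A →* MulAut (D ⧸ K) := MonoidHom.mk'
    (fun α => QuotientGroup.congr K K (resEquiv hD (α : MulAut G)) (hKinv α))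
    (fun α β => MulEquiv.ext fun q => by obtain ⟨x, rfl⟩ := QuotientGroup.mk_surjective q; rfl)
  have hφ : ∀ (α : A) (x : D), φ α (π x) = π (resEquiv hD (α : MulAut G) x) := fun α x => by
    rw [hπ]; rfl
  have hexp : ∀ x : D ⧸ K, x ^ p = 1 := fun x => by
    obtain ⟨x, rfl⟩ := hπs x
    rw [← map_pow, show x ^ p = 1 from Subtype.ext (by rw [coe_pow, hDexp _ x.2, coe_one]), map_one]
  have hcard : Nat.card (D ⧸ K) = p ^ 2 := by
    let f : ZMod p × ZMod p → D ⧸ K := fun t =>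
      π (⟨a₀, ha₀⟩ ^ (t.1.val : ℤ) * ⟨b₀, hb₀⟩ ^ (t.2.val : ℤ))
    have hf : Function.Bijective f := by
      constructor
      · rintro ⟨i, j⟩ ⟨i', j'⟩ he
        have he' : π (⟨a₀, ha₀⟩ ^ ((i.val : ℤ) - i'.val) * ⟨b₀, hb₀⟩ ^ ((j.val : ℤ) - j'.val)) = 1 := by
          have h2 : f (i, j) * (f (i', j'))⁻¹ = 1 := mul_inv_eq_one.2 he
          simp only [f] at h2
          simp only [map_mul, map_zpow, map_inv, zpow_sub, mul_inv] at h2 ⊢
          rw [mul_mul_mul_comm] at h2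
          exact h2
        obtain ⟨h1, h2⟩ := hind _ _ (by simpa using (hπ1 _).1 he')
        have e1 : i = i' := by simpa [sub_eq_zero] using h1
        have e2 : j = j' := by simpa [sub_eq_zero] using h2
        rw [e1, e2]
      · intro q
        obtain ⟨⟨d, hd⟩, rfl⟩ := hπs q
        obtain ⟨i, j, k, rfl⟩ := hspan d hd
        refine ⟨((i : ZMod p), (j : ZMod p)), (heqv _ _).2 ⟨k, ?_⟩⟩
        rw [coe_mul, coe_zpow, coe_zpow,
          zcongr (hDexp _ ha₀) (m := ((i : ZMod p).val : ℤ)) (n := i) (by simp),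
          zcongr (hDexp _ hb₀) (m := ((j : ZMod p).val : ℤ)) (n := j) (by simp)]
    rw [← Nat.card_congr (Equiv.ofBijective f hf), Nat.card_prod, Nat.card_zmod, pow_two]
  have hcop : ∀ α : A, (orderOf α).Coprime p → φ α = 1 → α = 1 := fun α hα h => by
    refine Subtype.ext (hfix _ (by rwa [Subgroup.orderOf_coe]) fun d hd => ?_)
    exact (heqv ⟨d, hd⟩ (resEquiv hD (α : MulAut G) ⟨d, hd⟩)).1 (by rw [← hφ, h, MulAut.one_apply])
  have hpN : ∀ N : Subgroup A, (∀ a ∈ N, (φ a) ^ p = 1) → IsPGroup p N := fun N hN =>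
    isPGroup_of_coprime_trivial fun a ha hao => hcop a hao
      (orderOf_eq_one_iff.1 (Nat.eq_one_of_dvd_coprimes hao (orderOf_map_dvd φ a)
        (orderOf_dvd_of_pow_eq_one (hN a ha))))
  have hu1 : φ u ≠ 1 := fun h => by
    obtain ⟨g, hg⟩ := hcore φ.ker inferInstance
      (hpN _ fun a ha => by rw [MonoidHom.mem_ker.1 ha, one_pow]) u (MonoidHom.mem_ker.2 h)
    exact hu g hg
  obtain ⟨v₁, v₂, ht⟩ := exists_torus hexp hcard hT huT hu1 fun N hN hN' huN => by
    obtain ⟨g, hg⟩ := hcore N hN (hpN N hN') u huN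
    exact hu g hg
  obtain ⟨a, ha⟩ := hπs v₁
  obtain ⟨b, hb⟩ := hπs v₂
  have hi : ∀ (α : A) (x : D) (y : D), φ α (π x) = π y → Eqv z (y : G) ((α : MulAut G) x) := fun α x y h =>
    (heqv y (resEquiv hD (α : MulAut G) x)).1 (by rw [← hφ, h])
  have hconj : ∀ g : G, φ ⟨_, hInn g⟩ = 1 := fun g => by
    refine ht.kills ((MulAut.conj : G →* MulAut G).range.subgroupOf A) ⟨fun n hn α => ?_⟩ ?_ _
      (mem_subgroupOf.2 ⟨g, rfl⟩)
    · obtain ⟨x, hx⟩ := mem_subgroupOf.1 hn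
      refine mem_subgroupOf.2 ⟨(α : MulAut G) x, MulEquiv.ext fun y => ?_⟩
      rw [coe_mul, coe_mul, coe_inv, ← hx]
      simp [MulAut.conj_apply]
    · exact ((hG.to_subgroup ⊤).map MulAut.conj).to_le (by
        rw [← MonoidHom.range_eq_map]) |>.comap_subtype
  refine ⟨a, b, a.2, b.2, fun d hd => ?_, fun g => ⟨?_, ?_⟩, fun i j hij => ?_, fun g hg => ⟨?_, ?_⟩,
    ?_, ?_, fun l l' hl => ?_, fun α hα h1 h2 => ?_, fun α hα h1 h2 => ?_⟩
  · obtain ⟨i, j, hij⟩ := ht.span (π ⟨d, hd⟩)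
    rw [← ha, ← hb, ← map_zpow, ← map_zpow, ← map_mul] at hij
    obtain ⟨k, hk⟩ := (heqv _ _).1 hij.symm
    exact ⟨i, j, k, by simpa using hk⟩
  · exact hi ⟨_, hInn g⟩ a a (by rw [hconj, MulAut.one_apply])
  · exact hi ⟨_, hInn g⟩ b b (by rw [hconj, MulAut.one_apply])
  · have h1 : v₁ ^ i * v₂ ^ j = 1 := by
      rw [← ha, ← hb, ← map_zpow, ← map_zpow, ← map_mul, hπ1]
      simpa using hij
    have hj : (j : ZMod p) = 0 := by
      by_contra hj
      exact ht.indep (zpow_mem_cancel (hexp v₂) hj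
        (by rw [eq_inv_of_mul_eq_one_right h1]; exact inv_mem (zpow_mem (mem_zpowers v₁) i)))
    rw [zpow_eq_one_of_cast (hexp v₂) hj, mul_one, zpow_eq_one_iff (hexp v₁) ht.ne_one] at h1
    exact ⟨h1, hj⟩
  · exact hi g a a (by rw [ha, (ht.fix g hg).1])
  · obtain ⟨k, hk⟩ := (ht.fix g hg).2
    exact ⟨k, by simpa using hi g b (b * a ^ k) (by rw [map_mul, map_zpow, ha, hb, hk])⟩
  · obtain ⟨c, hc0, hc⟩ := ht.moved
    exact ⟨c, hc0, by simpa using hi u b (b * a ^ c) (by rw [map_mul, map_zpow, ha, hb, hc])⟩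
  · obtain ⟨α, hα⟩ := ht.swap
    exact ⟨α, α.2, hi α a b (by rw [ha, hb, hα])⟩
  · obtain ⟨α, h1, h2⟩ := ht.torus l l' hl
    exact ⟨α, α.2, by simpa using hi α a (a ^ l) (by rw [map_zpow, ha, h1]),
      by simpa using hi α b (b ^ l') (by rw [map_zpow, hb, h2])⟩
  · have hone : φ ⟨α, hα⟩ = 1 := eq_one_of_fix_two hexp hcard
      (v := v₁) (w := v₂) (by rw [← ha, hφ]; exact ((heqv _ _).2 h1).symm) ht.ne_one
      (by rw [← hb, hφ]; exact ((heqv _ _).2 h2).symm) ht.indep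
    exact hcore φ.ker inferInstance
      (hpN _ fun a ha => by rw [MonoidHom.mem_ker.1 ha, one_pow]) ⟨α, hα⟩ (MonoidHom.mem_ker.2 hone)
  · refine hfix α hα fun d hd => ?_
    obtain ⟨i, j, hij⟩ := ht.span (π ⟨d, hd⟩)
    rw [← ha, ← hb, ← map_zpow, ← map_zpow, ← map_mul] at hij
    obtain ⟨k, hk⟩ := (heqv _ _).1 hij.symm
    obtain ⟨i₁, hi₁⟩ := h1
    obtain ⟨i₂, hi₂⟩ := h2
    have hzc : ∀ (m : ℤ) (x : G), Commute (z ^ m) x := fun m x =>
      (mem_center_iff.1 (zpow_mem hz m) x).symm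
    obtain ⟨m, hm⟩ := hzinv α
    have hm' : α z = z ^ m := hm.symm
    refine ⟨i₁ * i + i₂ * j + m * k - k, ?_⟩
    rw [show d = (a : G) ^ i * (b : G) ^ j * z ^ k by simpa using hk, map_mul, map_mul, map_zpow,
      map_zpow, map_zpow, hi₁, hi₂, hm', (hzc i₁ _).symm.mul_zpow, (hzc i₂ _).symm.mul_zpow,
      ← zpow_mul, ← zpow_mul, ← zpow_mul]
    have e : z ^ k * z ^ (i₁ * i + i₂ * j + m * k - k) =
        z ^ (i₁ * i) * z ^ (i₂ * j) * z ^ (m * k) := by
      simp only [← zpow_add]; congr 1; ring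
    calc (a : G) ^ i * z ^ (i₁ * i) * ((b : G) ^ j * z ^ (i₂ * j)) * z ^ (m * k)
        = (a : G) ^ i * (z ^ (i₁ * i) * (b : G) ^ j) * z ^ (i₂ * j) * z ^ (m * k) := by group
      _ = (a : G) ^ i * (b : G) ^ j * (z ^ (i₁ * i) * z ^ (i₂ * j) * z ^ (m * k)) := by
        rw [(hzc _ _).eq]; group
      _ = (a : G) ^ i * (b : G) ^ j * z ^ k * z ^ (i₁ * i + i₂ * j + m * k - k) := by
        rw [← e]; group

theorem exists_shape (hp2 : p ≠ 2) (hG : IsPGroup p G) (hrk : Rk p G)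
    (hInn : ∀ g : G, MulAut.conj g ∈ A)
    (hcore : ∀ N : Subgroup A, N.Normal → IsPGroup p N → ∀ a ∈ N, ∃ g, (a : MulAut G) = MulAut.conj g)
    (hT : IsPGroup p T) (huT : u ∈ T) (hu : ∀ g, (u : MulAut G) ≠ MulAut.conj g) :
    ∃ z a b : G, Shape p A T u z a b := by
  haveI : Finite (MulAut G) := Finite.of_injective _ MulEquiv.toEquiv_injective
  obtain ⟨H, hH, hcl, -, hco, hcent⟩ := Fusion.exists_critical hG
  let D : Subgroup G :=
    { carrier := {x | x ∈ H ∧ x ^ p = 1}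
      one_mem' := ⟨one_mem _, one_pow p⟩
      inv_mem' := fun {x} hx => ⟨inv_mem hx.1, by rw [inv_pow, hx.2, inv_one]⟩
      mul_mem' := fun {x y} hx hy => ⟨mul_mem hx.1 hy.1, by
        have h := Fusion.pow_prime_eq_one_of_mem_closure (G := H) (p := p) hp2 hcl
          (g := ⟨x, hx.1⟩ * ⟨y, hy.1⟩) (mul_mem
            (subset_closure (show (⟨x, hx.1⟩ : H) ^ p = 1 from Subtype.ext hx.2))
            (subset_closure (show (⟨y, hy.1⟩ : H) ^ p = 1 from Subtype.ext hy.2)))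
        exact congrArg Subtype.val h⟩ }
  have hD : ∀ (α : MulAut G), ∀ x ∈ D, α x ∈ D := fun α x hx =>
    ⟨(characteristic_iff_le_comap.mp hH α) hx.1, by rw [← map_pow, hx.2, map_one]⟩
  have hDexp : ∀ x ∈ D, x ^ p = 1 := fun x hx => hx.2
  have hcrit : ∀ δ : MulAut G, (orderOf δ).Coprime p → (∀ x ∈ D, δ x = x) → δ = 1 := fun δ hδ h =>
    eq_one_of_fix_critical hp2 hG hH hcl hco hcent hδ fun x hx hxp => h x ⟨hx, hxp⟩
  have hline : ∀ d : G, d ^ p = 1 → (∀ α : MulAut G, α d ∈ zpowers d) → ¬ (∀ x ∈ D, x ∈ zpowers d) := by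
    intro d hdp hd hDd
    by_cases hd1 : d = 1
    · obtain ⟨g, hg⟩ := hcore ⊤ inferInstance (isPGroup_of_coprime_trivial fun a _ ha =>
        Subtype.ext (hcrit _ (by rwa [Subgroup.orderOf_coe]) fun x hx => by
          have := hDd x hx
          rw [hd1, zpowers_one_eq_bot, mem_bot] at this
          rw [this, map_one])) u trivial
      exact hu g hg
    let N : Subgroup A :=
      { carrier := {α | (α : MulAut G) d = d}
        one_mem' := rfl
        mul_mem' := fun {α β} ha hb => by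
          show (α : MulAut G) ((β : MulAut G) d) = d
          rw [show (β : MulAut G) d = d from hb]; exact ha
        inv_mem' := fun {α} ha => by
          show ((α : MulAut G))⁻¹ d = d
          conv_lhs => rw [← (show (α : MulAut G) d = d from ha)]
          rw [MulAut.inv_apply_self] }
    obtain ⟨g, hg⟩ := hcore N ⟨fun n hn α => by
        show (α : MulAut G) ((n : MulAut G) (((α : MulAut G))⁻¹ d)) = d
        obtain ⟨i, hi⟩ := hd (α : MulAut G)⁻¹
        rw [← (show d ^ i = (α : MulAut G)⁻¹ d from hi), map_zpow (n : MulAut G),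
          show (n : MulAut G) d = d from hn, show d ^ i = (α : MulAut G)⁻¹ d from hi,
          MulAut.apply_inv_self]⟩
      (isPGroup_of_coprime_trivial fun a ha hao =>
        Subtype.ext (hcrit _ (by rwa [Subgroup.orderOf_coe]) fun x hx => by
          obtain ⟨i, rfl⟩ := hDd x hx
          exact (map_zpow (a : MulAut G) d i).trans (by rw [show (a : MulAut G) d = d from ha])))
      u (by
        obtain ⟨k, hk⟩ := hT ⟨u, huT⟩
        have hk' : (u : MulAut G) ^ p ^ k = 1 := by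
          rw [← coe_pow, show u ^ p ^ k = 1 from congrArg Subtype.val hk, coe_one]
        obtain ⟨s, hs⟩ := hd (u : MulAut G)
        have hs' : (u : MulAut G) d = d ^ s := hs.symm
        have hit : ∀ n : ℕ, ((u : MulAut G) ^ n) d = d ^ (s ^ n) := by
          intro n
          induction n with
          | zero => simp
          | succ n ih => rw [pow_succ', MulAut.mul_apply, ih, map_zpow, hs', ← zpow_mul, ← pow_succ']
        have h1 := hit (p ^ k)
        rw [hk', MulAut.one_apply] at h1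
        have h2 : d ^ (s ^ p ^ k - 1) = 1 := by rw [zpow_sub, ← h1, zpow_one, mul_inv_cancel]
        rw [zpow_eq_one_iff hdp hd1] at h2
        simp only [Int.cast_sub, Int.cast_pow, Int.cast_one, ZMod.pow_card_pow, sub_eq_zero] at h2
        show (u : MulAut G) d = d
        rw [hs', zcongr hdp (n := 1) (by rw [h2, Int.cast_one]), zpow_one])
    exact hu g hg
  by_cases hab : ∀ x ∈ D, ∀ y ∈ D, x * y = y * x
  · -- the elements of order `p` of the critical subgroup commute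
    obtain ⟨a₀, ha₀, hane⟩ : ∃ a ∈ D, a ≠ 1 := by
      by_contra! hall
      exact hline 1 (one_pow p) (fun α => by rw [map_one]; exact one_mem _)
        fun x hx => by rw [hall x hx]; exact one_mem _
    obtain ⟨b₀, hb₀, hbne⟩ : ∃ b ∈ D, b ∉ zpowers a₀ := by
      by_contra! hall
      exact hline a₀ ha₀.2 (fun α => hall _ (hD α a₀ ha₀)) hall
    have hsp : ∀ d : G, d ^ p = 1 → Commute a₀ d → Commute b₀ d → ∃ i j : ℤ, d = a₀ ^ i * b₀ ^ j :=
      fun d hd h1 h2 => hrk a₀ b₀ d ha₀.2 hb₀.2 hd (hab _ ha₀ _ hb₀) h1 h2 hane hbne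
    have hfix1 : ∀ δ : MulAut G, (orderOf δ).Coprime p → (∀ d ∈ D, Eqv 1 d (δ d)) → δ = 1 :=
      fun δ hδ h => hcrit δ hδ fun x hx => by
        obtain ⟨i, hi⟩ := h x hx
        rw [hi, one_zpow, mul_one]
    have hind : ∀ i j : ℤ, a₀ ^ i * b₀ ^ j ∈ zpowers (1 : G) → (i : ZMod p) = 0 ∧ (j : ZMod p) = 0 := by
      intro i j h
      rw [zpowers_one_eq_bot, mem_bot] at h
      have hj : (j : ZMod p) = 0 := by
        by_contra hj
        exact hbne (zpow_mem_cancel hb₀.2 hj (by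
          rw [eq_inv_of_mul_eq_one_right h]; exact inv_mem (zpow_mem (mem_zpowers _) i)))
      rw [zpow_eq_one_of_cast hb₀.2 hj, mul_one, zpow_eq_one_iff ha₀.2 hane] at h
      exact ⟨h, hj⟩
    obtain ⟨a, b, ha, hb, hsD, hc, h1, h2, h3, h4, h5, h6, h7⟩ :=
      plane_facts hInn hcore hG hT huT hu hD (one_mem _) (one_mem _)
        (fun α => by rw [map_one]; exact one_mem _) hDexp
        (fun x hx y hy => by rw [commutatorElement_eq_one_iff_mul_comm.2 (hab x hx y hy)]; exact one_mem _)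
        ha₀ hb₀ (fun d hd => by
          obtain ⟨i, j, hij⟩ := hsp d hd.2 (hab _ ha₀ _ hd) (hab _ hb₀ _ hd)
          exact ⟨i, j, 0, by rw [zpow_zero, mul_one]; exact hij⟩) hind hfix1
    have hcen : ∀ g, g * a * g⁻¹ = a ∧ g * b * g⁻¹ = b := fun g => by
      obtain ⟨⟨i, hi⟩, ⟨j, hj⟩⟩ := hc g
      rw [hi, hj, one_zpow, one_zpow, mul_one, mul_one]; exact ⟨rfl, rfl⟩
    have hca : a ∈ center G := mem_center_iff.2 fun g => mul_inv_eq_iff_eq_mul.1 (hcen g).1
    have hcb : b ∈ center G := mem_center_iff.2 fun g => mul_inv_eq_iff_eq_mul.1 (hcen g).2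
    refine ⟨1, a, b, ⟨one_pow p, ha.2, hb.2, one_mem _, fun α => by rw [map_one]; exact one_mem _,
      hc, h1, h2, h3, h4, h5, h6, h7, Or.inl ⟨rfl, hca, hcb, fun g hg => ?_⟩⟩⟩
    refine hrk a b g ha.2 hb.2 hg (hab _ ha _ hb) (mem_center_iff.1 hca g).symm
      (mem_center_iff.1 hcb g).symm ?_ ?_
    · intro h
      have := (h1 1 0 (by rw [h]; simp)).1
      simp at this
    · rintro ⟨i, hi⟩
      have := (h1 i (-1) (by rw [show a ^ i = b from hi]; simp)).2
      simp at this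
  · -- the elements of order `p` of the critical subgroup form an extraspecial group
    push Not at hab
    obtain ⟨a₀, ha₀, b₀, hb₀, hne⟩ := hab
    have hzH : ∀ x ∈ H, ∀ y ∈ H, ∀ w ∈ H, Commute ⁅x, y⁆ w := fun x hx y hy w hw => by
      have h1 := hcl (commutator_mem_commutator (mem_top (⟨x, hx⟩ : H)) (mem_top (⟨y, hy⟩ : H)))
      exact (congrArg Subtype.val (mem_center_iff.1 h1 ⟨w, hw⟩)).symm
    obtain ⟨z, hz⟩ : ∃ z, z = ⁅a₀, b₀⁆ := ⟨_, rfl⟩
    have hmemc : ∀ x ∈ D, ∀ y ∈ D, ⁅x, y⁆ ∈ D := fun x hx y hy => by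
      rw [commutatorElement_def]; exact mul_mem (mul_mem (mul_mem hx hy) (inv_mem hx)) (inv_mem hy)
    have hzD : z ∈ D := hz ▸ hmemc _ ha₀ _ hb₀
    have hzne : z ≠ 1 := fun h => hne (commutatorElement_eq_one_iff_mul_comm.1 (hz ▸ h))
    have hzd : ∀ d ∈ D, Commute z d := fun d hd => hz ▸ hzH _ ha₀.1 _ hb₀.1 _ hd.1
    have hab0 : a₀ * b₀ * a₀⁻¹ = z * b₀ := by rw [hz, commutatorElement_def]; group
    have hpowconj : ∀ i : ℤ, a₀ * b₀ ^ i * a₀⁻¹ = z ^ i * b₀ ^ i := fun i => by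
      rw [← conj_zpow, hab0, (hzd b₀ hb₀).mul_zpow]
    have hba0 : b₀ * a₀ * b₀⁻¹ = z⁻¹ * a₀ := by
      rw [hz, commutatorElement_inv, commutatorElement_def]; group
    have hpowconj' : ∀ i : ℤ, b₀ * a₀ ^ i * b₀⁻¹ = z ^ (-i) * a₀ ^ i := fun i => by
      rw [← conj_zpow, hba0, ((hzd a₀ ha₀).inv_left).mul_zpow, inv_zpow, zpow_neg]
    have ha1 : a₀ ∉ zpowers z := fun h => hne (by
      obtain ⟨i, rfl⟩ := h; exact ((hzd b₀ hb₀).zpow_left i).eq)
    have hb1 : b₀ ∉ zpowers z := fun h => hne (by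
      obtain ⟨i, rfl⟩ := h; exact ((hzd a₀ ha₀).symm.zpow_right i).eq)
    have hcenD : ∀ x : G, x ^ p = 1 → Commute a₀ x → Commute b₀ x → Commute z x → x ∈ zpowers z := by
      intro x hx h1 h2 h3
      obtain ⟨i, j, hij⟩ := hrk z a₀ x hzD.2 ha₀.2 hx (hzd a₀ ha₀) h3 h1 hzne ha1
      have hj : (j : ZMod p) = 0 := by
        have h4 : z ^ (-j) = 1 := by
          have e1 : b₀ * (z ^ i * a₀ ^ j) * b₀⁻¹ = z ^ i * a₀ ^ j := by
            rw [← hij, h2.eq, mul_inv_cancel_right]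
          rw [← conj_mul, hpowconj', ((hzd b₀ hb₀).zpow_left i).symm.eq, mul_inv_cancel_right,
            mul_right_inj, mul_eq_right] at e1
          exact e1
        rw [zpow_eq_one_iff hzD.2 hzne] at h4
        simpa using h4
      rw [hij, zpow_eq_one_of_cast ha₀.2 hj, mul_one]
      exact zpow_mem (mem_zpowers z) i
    have hzinv : ∀ α : MulAut G, α z ∈ zpowers z := fun α => by
      have hc1 : ∀ d ∈ D, Commute (α z) d := fun d hd => by
        have := (hzd _ (hD α⁻¹ d hd)).map α.toMonoidHom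
        simpa using this
      exact hcenD _ (by rw [← map_pow, hzD.2, map_one]) (hc1 _ ha₀).symm (hc1 _ hb₀).symm
        (hc1 _ hzD).symm
    have hzc : z ∈ center G := mem_center_iff.2 fun g => by
      obtain ⟨s, hs⟩ := hzinv (MulAut.conj g)
      have hs' : g * z * g⁻¹ = z ^ s := hs.symm
      obtain ⟨k, hk⟩ := hG g
      have hit : ∀ n : ℕ, g ^ n * z * (g ^ n)⁻¹ = z ^ (s ^ n) := by
        intro n
        induction n with
        | zero => simp
        | succ n ih =>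
          calc g ^ (n + 1) * z * (g ^ (n + 1))⁻¹ = g * (g ^ n * z * (g ^ n)⁻¹) * g⁻¹ := by
                rw [pow_succ']; group
            _ = (g * z * g⁻¹) ^ (s ^ n) := by rw [ih, conj_zpow]
            _ = z ^ (s ^ (n + 1)) := by rw [hs', ← zpow_mul, ← pow_succ']
      have h1 := hit (p ^ k)
      rw [hk, one_mul, inv_one, mul_one] at h1
      have h2 : z ^ (s ^ p ^ k - 1) = 1 := by rw [zpow_sub, ← h1, zpow_one, mul_inv_cancel]
      rw [zpow_eq_one_iff hzD.2 hzne] at h2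
      simp only [Int.cast_sub, Int.cast_pow, Int.cast_one, ZMod.pow_card_pow, sub_eq_zero] at h2
      rw [zcongr hzD.2 (n := 1) (by rw [h2, Int.cast_one]), zpow_one] at hs'
      exact mul_inv_eq_iff_eq_mul.1 hs'
    have hzcomm : ∀ (m : ℤ) (x : G), Commute (z ^ m) x := fun m x =>
      (mem_center_iff.1 (zpow_mem hzc m) x).symm
    have hcomm : ∀ x ∈ D, ∀ y ∈ D, ⁅x, y⁆ ∈ zpowers z := fun x hx y hy =>
      hcenD _ (hmemc x hx y hy).2 (hzH _ hx.1 _ hy.1 _ ha₀.1).symm (hzH _ hx.1 _ hy.1 _ hb₀.1).symm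
        (hzH _ hx.1 _ hy.1 _ hzD.1).symm
    have hspan : ∀ d ∈ D, ∃ i j k : ℤ, d = a₀ ^ i * b₀ ^ j * z ^ k := by
      intro d hd
      obtain ⟨s, hs⟩ := hcomm a₀ ha₀ d hd
      obtain ⟨t, ht⟩ := hcomm b₀ hb₀ d hd
      have hs' : a₀ * d * a₀⁻¹ = z ^ s * d := by
        rw [show z ^ s = ⁅a₀, d⁆ from hs, commutatorElement_def]; group
      have ht' : b₀ * d * b₀⁻¹ = z ^ t * d := by
        rw [show z ^ t = ⁅b₀, d⁆ from ht, commutatorElement_def]; group
      obtain ⟨e, he⟩ : ∃ e, e = a₀ ^ t * (b₀ ^ (-s) * d) := ⟨_, rfl⟩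
      have heD : e ∈ D := he ▸ mul_mem (zpow_mem ha₀ t) (mul_mem (zpow_mem hb₀ _) hd)
      have hea : a₀ * e * a₀⁻¹ = e := by
        rw [he, ← conj_mul, ← conj_mul, hpowconj, hs',
          ((Commute.refl a₀).zpow_right t).eq, mul_inv_cancel_right]
        calc a₀ ^ t * (z ^ (-s) * b₀ ^ (-s) * (z ^ s * d))
            = a₀ ^ t * (z ^ (-s) * (b₀ ^ (-s) * z ^ s) * d) := by group
          _ = a₀ ^ t * (b₀ ^ (-s) * d) := by
            rw [← (hzcomm s _).eq, ← mul_assoc (z ^ (-s)), ← zpow_add, neg_add_cancel, zpow_zero,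
              one_mul]
      have heb : b₀ * e * b₀⁻¹ = e := by
        rw [he, ← conj_mul, ← conj_mul, hpowconj', ht',
          ((Commute.refl b₀).zpow_right (-s)).eq, mul_inv_cancel_right]
        calc z ^ (-t) * a₀ ^ t * (b₀ ^ (-s) * (z ^ t * d))
            = z ^ (-t) * ((a₀ ^ t * b₀ ^ (-s)) * z ^ t) * d := by group
          _ = a₀ ^ t * (b₀ ^ (-s) * d) := by
            rw [← (hzcomm t _).eq, ← mul_assoc (z ^ (-t)), ← zpow_add, neg_add_cancel, zpow_zero,
              one_mul, mul_assoc]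
      obtain ⟨k, hk⟩ := hcenD e heD.2 (mul_inv_eq_iff_eq_mul.1 hea) (mul_inv_eq_iff_eq_mul.1 heb)
        (hzd e heD)
      refine ⟨-t, s, k - s * -t, ?_⟩
      have hd' : d = b₀ ^ s * a₀ ^ (-t) * z ^ k := by
        rw [show z ^ k = e from hk, he]; group
      have hsw : b₀ ^ s * a₀ ^ (-t) = a₀ ^ (-t) * b₀ ^ s * z ^ (-(s * -t)) := by
        have hcj : ∀ n : ℕ, b₀ ^ n * a₀ ^ (-t) * (b₀ ^ n)⁻¹ = z ^ (-(n * -t) : ℤ) * a₀ ^ (-t) := by
          intro n
          induction n with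
          | zero => simp
          | succ n ih =>
            calc b₀ ^ (n + 1) * a₀ ^ (-t) * (b₀ ^ (n + 1))⁻¹
                = b₀ * (b₀ ^ n * a₀ ^ (-t) * (b₀ ^ n)⁻¹) * b₀⁻¹ := by rw [pow_succ']; group
              _ = b₀ * z ^ (-(n * -t) : ℤ) * (a₀ ^ (-t) * b₀⁻¹) := by rw [ih]; group
              _ = z ^ (-(n * -t) : ℤ) * (b₀ * a₀ ^ (-t) * b₀⁻¹) := by rw [← (hzcomm _ b₀).eq]; group
              _ = z ^ (-((n + 1 : ℕ) * -t) : ℤ) * a₀ ^ (-t) := by
                rw [hpowconj', ← mul_assoc, ← zpow_add]; congr 2; push_cast; ring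
        have h0 : b₀ ^ s = b₀ ^ ((s : ZMod p).val) := by
          rw [← zpow_natCast, zcongr hb₀.2 (n := ((s : ZMod p).val : ℤ)) (by simp)]
        have h1 := hcj ((s : ZMod p).val)
        rw [mul_inv_eq_iff_eq_mul, ← h0] at h1
        rw [h1, zcongr hzD.2 (n := -(s * -t)) (by simp), mul_assoc, (hzcomm _ _).eq]
      rw [hd', hsw, mul_assoc _ _ (z ^ k), ← zpow_add]
      congr 2
      ring
    have hind : ∀ i j : ℤ, a₀ ^ i * b₀ ^ j ∈ zpowers z → (i : ZMod p) = 0 ∧ (j : ZMod p) = 0 := by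
      intro i j h
      obtain ⟨k, hk⟩ := h
      have hk' : a₀ ^ i * b₀ ^ j = z ^ k := hk.symm
      have hj : z ^ j = 1 := by
        have e1 : a₀ * (a₀ ^ i * b₀ ^ j) * a₀⁻¹ = a₀ ^ i * b₀ ^ j := by
          rw [hk', ← (hzcomm k a₀).eq, mul_inv_cancel_right]
        rw [← conj_mul, hpowconj, ((Commute.refl a₀).zpow_right i).eq, mul_inv_cancel_right,
          mul_right_inj, mul_eq_right] at e1
        exact e1
      rw [zpow_eq_one_iff hzD.2 hzne] at hj
      rw [zpow_eq_one_of_cast hb₀.2 hj, mul_one] at hk'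
      refine ⟨?_, hj⟩
      by_contra hi
      exact ha1 (zpow_mem_cancel ha₀.2 hi (hk'.symm ▸ zpow_mem (mem_zpowers z) k))
    have hfix2 : ∀ δ : MulAut G, (orderOf δ).Coprime p → (∀ d ∈ D, Eqv z d (δ d)) → δ = 1 := by
      intro δ hδ h
      obtain ⟨i, hi⟩ := h a₀ ha₀
      obtain ⟨j, hj⟩ := h b₀ hb₀
      have hδz : δ z = z := by
        rw [hz, map_commutatorElement, hi, hj, ← hz, commutatorElement_def]
        calc a₀ * z ^ i * (b₀ * z ^ j) * (a₀ * z ^ i)⁻¹ * (b₀ * z ^ j)⁻¹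
            = a₀ * (z ^ i * b₀) * (z ^ j * (z ^ i)⁻¹) * a₀⁻¹ * (z ^ j)⁻¹ * b₀⁻¹ := by group
          _ = a₀ * b₀ * (z ^ i * (z ^ j * (z ^ i)⁻¹) * a₀⁻¹) * (z ^ j)⁻¹ * b₀⁻¹ := by
            rw [(hzcomm i b₀).eq]; group
          _ = a₀ * b₀ * (z ^ j * a₀⁻¹) * (z ^ j)⁻¹ * b₀⁻¹ := by
            rw [← mul_assoc (z ^ i), (hzcomm i (z ^ j)).eq, mul_inv_cancel_right]
          _ = a₀ * b₀ * a₀⁻¹ * b₀⁻¹ := by rw [(hzcomm j a₀⁻¹).eq]; group
          _ = z := by rw [hz, commutatorElement_def]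
      have hzi : ∀ m : ℤ, δ (z ^ m) = z ^ m := fun m => by rw [map_zpow, hδz]
      have hzp : ∀ m : ℤ, (z ^ m) ^ p ^ 1 = 1 := fun m => by
        rw [pow_one, ← zpow_natCast, ← zpow_mul, mul_comm, zpow_mul, zpow_natCast, hzD.2, one_zpow]
      refine hcrit δ hδ fun x hx => ?_
      obtain ⟨k, hk⟩ := h x hx
      exact fixed_of_coprime hδ (hzi k) (hzp k) hk
    obtain ⟨a, b, ha, hb, hsD, hc, h1, h2, h3, h4, h5, h6, h7⟩ :=
      plane_facts hInn hcore hG hT huT hu hD hzc hzD hzinv hDexp hcomm ha₀ hb₀ hspan hind hfix2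
    have hne' : ¬ Commute a b := by
      intro hcab
      refine hne ?_
      have hza : ∀ d ∈ D, Commute a d → Commute b d → d ∈ zpowers z := by
        intro d hd had hbd
        obtain ⟨i, j, k, rfl⟩ := hsD d hd
        have hnot : a ≠ 1 ∧ b ∉ zpowers a := by
          constructor
          · intro h
            have := (h1 1 0 (by rw [h]; simp)).1
            simp at this
          · rintro ⟨i, hi⟩
            have := (h1 i (-1) (by rw [show a ^ i = b from hi]; simp)).2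
            simp at this
        obtain ⟨i', j', hzab⟩ := hrk a b z ha.2 hb.2 hzD.2 hcab (hzd a ha).symm (hzd b hb).symm
          hnot.1 hnot.2
        obtain ⟨hi', hj'⟩ := h1 i' j' (hzab ▸ mem_zpowers z)
        rw [zpow_eq_one_of_cast ha.2 hi', zpow_eq_one_of_cast hb.2 hj', one_mul] at hzab
        exact absurd hzab hzne
      have hall : ∀ d ∈ D, Commute a d ∧ Commute b d := fun d hd => by
        obtain ⟨i, j, k, rfl⟩ := hsD d hd
        exact ⟨(((Commute.refl a).zpow_right i).mul_right (hcab.zpow_right j)).mul_right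
            (hzcomm k a).symm,
          ((hcab.symm.zpow_right i).mul_right ((Commute.refl b).zpow_right j)).mul_right
            (hzcomm k b).symm⟩
      obtain ⟨k, hk⟩ := hza a₀ ha₀ (hall a₀ ha₀).1 (hall a₀ ha₀).2
      exact absurd (hk ▸ zpow_mem (mem_zpowers z) k) ha1
    refine ⟨z, a, b, ⟨hzD.2, ha.2, hb.2, hzc, hzinv, hc, h1, h2, h3, h4, h5, h6, h7,
      Or.inr ⟨hne', ?_⟩⟩⟩
    -- the centralizer of the plane
    let C : Subgroup G := centralizer ({a, b} : Set G)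
    have hCmem : ∀ c, c ∈ C ↔ a * c = c * a ∧ b * c = c * b := fun c => by
      simp [C, mem_centralizer_iff]
    have hDC : ∀ c ∈ C, ∀ d ∈ D, Commute d c := fun c hc d hd => by
      obtain ⟨i, j, k, rfl⟩ := hsD d hd
      obtain ⟨hc1, hc2⟩ := (hCmem c).1 hc
      exact ((Commute.zpow_left hc1 i).mul_left (Commute.zpow_left hc2 j)).mul_left (hzcomm k c)
    have hCcyc : IsCyclic C := by
      by_contra hnc
      obtain ⟨W, -, ⟨-, hWp⟩, hWc⟩ :=
        Fusion.exists_normal_elementary_card_sq hp2 (hG.to_subgroup C) hnc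
      have hWz : W.map C.subtype ≤ zpowers z := by
        rintro _ ⟨w, hw, rfl⟩
        refine hcenD _ ?_ (hDC _ w.2 _ ha₀) (hDC _ w.2 _ hb₀) (hzcomm 1 _ |>.eq |> fun h => by
          simpa [Commute, SemiconjBy] using h)
        rw [← map_pow, hWp w hw, map_one]
      have := card_dvd_of_le hWz
      rw [card_map_of_injective C.subtype_injective, hWc, Nat.card_zpowers,
        orderOf_eq_prime hzD.2 hzne] at this
      have h3 := Nat.le_of_dvd hp.out.pos this
      nlinarith [hp.out.two_le]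
    have hCc : ∀ x ∈ C, ∀ y ∈ C, x * y = y * x := fun x hx y hy => by
      haveI := hCcyc
      letI : CommGroup C := IsCyclic.commGroup
      exact congrArg Subtype.val (mul_comm (⟨x, hx⟩ : C) ⟨y, hy⟩)
    have hdec : ∀ g : G, ∃ i j : ℤ, ∃ c ∈ C, g = a ^ i * b ^ j * c := by
      intro g
      obtain ⟨⟨s, hs⟩, ⟨t, ht⟩⟩ := hc g
      obtain ⟨q, hq⟩ := hcomm a ha b hb
      have hq0 : (q : ZMod p) ≠ 0 := fun h => hne' (commutatorElement_eq_one_iff_mul_comm.1
        (by rw [← (show z ^ q = ⁅a, b⁆ from hq), zpow_eq_one_of_cast hzD.2 h]))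
      obtain ⟨r, hr⟩ := exists_zinv hq0
      have hqa : a * b * a⁻¹ = z ^ q * b := by
        rw [show z ^ q = ⁅a, b⁆ from hq, commutatorElement_def]; group
      have hqb : b * a * b⁻¹ = z ^ (-q) * a := by
        rw [zpow_neg, show z ^ q = ⁅a, b⁆ from hq, commutatorElement_inv, commutatorElement_def]
        group
      have conjN : ∀ (x y : G) (m : ℤ), x * y * x⁻¹ = z ^ m * y → ∀ n : ℕ,
          x ^ n * y * (x ^ n)⁻¹ = z ^ (m * n) * y := by
        intro x y m hxy n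
        induction n with
        | zero => simp
        | succ n ih =>
          calc x ^ (n + 1) * y * (x ^ (n + 1))⁻¹ = x * (x ^ n * y * (x ^ n)⁻¹) * x⁻¹ := by
                rw [pow_succ']; group
            _ = z ^ (m * n) * (x * y * x⁻¹) := by
              rw [ih, ← mul_assoc x, ← (hzcomm _ x).eq]; group
            _ = z ^ (m * (n + 1 : ℕ)) * y := by
              rw [hxy, ← mul_assoc, ← zpow_add]; congr 2; push_cast; ring
      obtain ⟨I, hI⟩ : ∃ I : ℕ, I = ((t * r : ℤ) : ZMod p).val := ⟨_, rfl⟩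
      obtain ⟨J, hJ⟩ : ∃ J : ℕ, J = ((-s * r : ℤ) : ZMod p).val := ⟨_, rfl⟩
      refine ⟨I, J, (a ^ (I : ℤ) * b ^ (J : ℤ))⁻¹ * g, (hCmem _).2 ⟨?_, ?_⟩,
        (mul_inv_cancel_left _ _).symm⟩
      all_goals rw [zpow_natCast, zpow_natCast]
      · have e1 : (a ^ I * b ^ J) * a * (a ^ I * b ^ J)⁻¹ = g * a * g⁻¹ := by
          calc (a ^ I * b ^ J) * a * (a ^ I * b ^ J)⁻¹
              = a ^ I * (b ^ J * a * (b ^ J)⁻¹) * (a ^ I)⁻¹ := by group
            _ = z ^ (-q * J) * a := by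
              rw [conjN b a _ hqb J, ← mul_assoc (a ^ I), ← (hzcomm _ (a ^ I)).eq, mul_assoc (z ^ _),
                ((Commute.refl a).pow_left I).eq, ← mul_assoc, mul_inv_cancel_right]
            _ = g * a * g⁻¹ := by
              rw [hs, ← (hzcomm s a).eq]
              refine congrArg (· * a) (zcongr hzD.2 ?_)
              push_cast at hr ⊢
              rw [hJ, ZMod.natCast_zmod_val]
              push_cast
              linear_combination (s : ZMod p) * hr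
        calc a * ((a ^ I * b ^ J)⁻¹ * g)
            = (a ^ I * b ^ J)⁻¹ * ((a ^ I * b ^ J) * a * (a ^ I * b ^ J)⁻¹) * g := by group
          _ = (a ^ I * b ^ J)⁻¹ * g * a := by rw [e1]; group
      · have e1 : (a ^ I * b ^ J) * b * (a ^ I * b ^ J)⁻¹ = g * b * g⁻¹ := by
          calc (a ^ I * b ^ J) * b * (a ^ I * b ^ J)⁻¹
              = a ^ I * (b ^ J * b * (b ^ J)⁻¹) * (a ^ I)⁻¹ := by group
            _ = z ^ (q * I) * b := by
              rw [((Commute.refl b).pow_left J).eq, mul_inv_cancel_right, conjN a b _ hqa I]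
            _ = g * b * g⁻¹ := by
              rw [ht, ← (hzcomm t b).eq]
              refine congrArg (· * b) (zcongr hzD.2 ?_)
              push_cast at hr ⊢
              rw [hI, ZMod.natCast_zmod_val]
              push_cast
              linear_combination (t : ZMod p) * hr
        calc b * ((a ^ I * b ^ J)⁻¹ * g)
            = (a ^ I * b ^ J)⁻¹ * ((a ^ I * b ^ J) * b * (a ^ I * b ^ J)⁻¹) * g := by group
          _ = (a ^ I * b ^ J)⁻¹ * g * b := by rw [e1]; group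
    have hCcen : C ≤ center G := fun c hc' => mem_center_iff.2 fun g => by
      obtain ⟨i, j, c', hc'', rfl⟩ := hdec g
      obtain ⟨h1', h2'⟩ := (hCmem c).1 hc'
      exact (((Commute.zpow_left h1' i).mul_left (Commute.zpow_left h2' j)).mul_left
        (hCc c' hc'' c hc')).eq
    refine ⟨isCyclic_of_injective (inclusion (fun c hc' => (hCmem c).2
      ⟨mem_center_iff.1 hc' a, mem_center_iff.1 hc' b⟩)) (inclusion_injective _), fun g => ?_⟩
    obtain ⟨i, j, c, hc', rfl⟩ := hdec g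
    exact ⟨i, j, c, hCcen hc', rfl⟩

end Cfsg.Agent.FusSys.RankTwoResist
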