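import Cfsg.Agent.FusSys.KNorm
import Cfsg.Agent.FusSys.Alperin
import Cfsg.Agent.FusSys.InnerCrit

/-!
Reduction of global statements to normalizer systems along the chain `U, W(N_S(U)), …` of a
characteristic functor `W`.
-/

set_option autoImplicit false

namespace Cfsg.Agent.FusSys

open Cfsg Cfsg.FusionSystem

universe u

/-- A positive characteristic functor on `p`-groups. -/
structure PosFunctor (p : ℕ) (W : ∀ (Q : Type u) [Group Q], Subgroup Q) : Prop where
  ne_bot : ∀ (Q : Type u) [Group Q] [Finite Q], IsPGroup p Q → Nontrivial Q → W Q ≠ ⊥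
  map_eq : ∀ (Q R : Type u) [Group Q] [Group R] [Finite Q], IsPGroup p Q → ∀ φ : Q ≃* R,
    (W Q).map φ.toMonoidHom = W R

variable {Ω : Type u} [Group Ω] {S : Subgroup Ω} {F : FusionSystem S} {p : ℕ}
variable {W : ∀ (Q : Type u) [Group Q], Subgroup Q} {T T' : Subgroup Ω} {g : Ω → Ω}

/-- The value of the functor on a subgroup, as a subgroup of the ambient group. -/
def wsub (W : ∀ (Q : Type u) [Group Q], Subgroup Q) (T : Subgroup Ω) : Subgroup Ω :=
  (W T).map T.subtype

theorem wsub_le (W : ∀ (Q : Type u) [Group Q], Subgroup Q) (T : Subgroup Ω) : wsub W T ≤ T :=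
  Subgroup.map_subtype_le _

theorem wsub_ne_bot (hW : PosFunctor p W) [Finite T] (hT : IsPGroup p T) (h : T ≠ ⊥) :
    wsub W T ≠ ⊥ := by
  haveI : Nontrivial T := (Subgroup.nontrivial_iff_ne_bot T).2 h
  rw [wsub, Ne, Subgroup.map_eq_bot_iff_of_injective _ T.subtype_injective]
  exact hW.ne_bot T hT inferInstance

/-- Isomorphisms of the system carry the functor along. -/
theorem mem_wsub_iff (hW : PosFunctor p W) [Finite T] (hT : IsPGroup p T) (hg : Iso F T T' g)
    (y : Ω) : y ∈ wsub W T' ↔ ∃ x ∈ wsub W T, g x = y := by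
  rw [wsub, ← hW.map_eq T T' hT hg.toEquiv]
  constructor
  · rintro ⟨z, ⟨x, hx, rfl⟩, rfl⟩
    exact ⟨x, ⟨x, hx, rfl⟩, rfl⟩
  · rintro ⟨_, ⟨x, hx, rfl⟩, rfl⟩
    exact ⟨_, ⟨x, hx, rfl⟩, rfl⟩

theorem iso_wsub (hW : PosFunctor p W) [Finite T] (hT : IsPGroup p T) (hg : Iso F T T' g) :
    Iso F (wsub W T) (wsub W T') g :=
  ⟨hg.1.mono (wsub_le W T), fun y => mem_wsub_iff hW hT hg y⟩

/-- The normalizer of `T` normalizes the functor's value. -/
theorem normalizerIn_le_normalizerIn_wsub (hW : PosFunctor p W) (hTS : T ≤ S) [Finite T]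
    (hT : IsPGroup p T) : normalizerIn S T ≤ normalizerIn S (wsub W T) := by
  rintro s ⟨hs, hn⟩
  refine ⟨hs, Subgroup.mem_normalizer_iff.2 fun x => ?_⟩
  have h1 := mem_wsub_iff hW hT (iso_conj_self (F := innerFusionSystem S) hTS hs hn) (s * x * s⁻¹)
  rw [h1]
  constructor
  · exact fun hx => ⟨x, hx, rfl⟩
  · rintro ⟨z, hz, hzx⟩
    exact mul_left_cancel (mul_right_cancel hzx) ▸ hz

/-- The maps with source in the normalizer of `U` lie in the class `M`. -/
def GoodAt (F : FusionSystem S) (M : Subgroup Ω → (Ω → Ω) → Prop) (U : Subgroup Ω) : Prop :=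
  ∀ X f, Mor F X f → NRel F U X f → M X f

variable [Fact p.Prime] [Finite S] (hS : IsPGroup p S) (hF : F.IsSaturated p)
include hS hF

/-- `S` itself is not essential. -/
theorem not_essential_top : ¬ F.IsEssential p S := by
  rintro ⟨-, -, _, E, hE⟩
  haveI := innIn_normal F S
  haveI : Finite (MulAut S) := Finite.of_injective _ MulEquiv.toEquiv_injective
  obtain ⟨-, T, hT⟩ := top_fullyAutomized hS hF
  refine T.not_dvd_index (hE.1.trans ?_)
  rw [hT, ← Subgroup.index_eq_card, autInducedBy_self_eq_inn]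

/-- Every nontrivial fully normalized subgroup has a fully normalized conjugate, by a map defined
on its normalizer, whose normalizer system is good. -/
theorem exists_good_conj (hW : PosFunctor p W) {M : Subgroup Ω → (Ω → Ω) → Prop}
    (hbase : GoodAt F M (wsub W S))
    (hstep : ∀ U, U ≠ ⊥ → F.IsFullyNormalized U → ∀ N : FusionSystem (normalizerIn S U),
      F.IsNormalizerSystem U N → GoodAt N M (wsub W (normalizerIn S U)) → ∀ X f, Mor N X f → M X f) :
    ∀ U, U ≠ ⊥ → F.IsFullyNormalized U → ∃ U' g, Mor F (normalizerIn S U) g ∧ Iso F U U' g ∧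
      F.IsFullyNormalized U' ∧ GoodAt F M U' := by
  -- goodness of the normalizer system from goodness at the functor's value
  have hgood : ∀ U, U ≠ ⊥ → F.IsFullyNormalized U →
      GoodAt F M (wsub W (normalizerIn S U)) → GoodAt F M U := by
    intro U hU hUn hWgood X f hf hNf
    have hN := isNormalizerSystem_normalizerSys (F := F) hUn.1
    refine hstep U hU hUn _ hN (fun Y h hh hhW => ?_) X f ((mor_normalizerSystem hN).2 ⟨hf, hNf⟩)
    obtain ⟨hY, himg, k, hk, hkh, hkW⟩ := hhW
    exact hWgood Y h ((mor_normalizerSystem hN).1 hh).1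
      ⟨fun y hy => ⟨(hY hy).1.1, (hY hy).2⟩, fun y hy => ⟨(himg y hy).1.1, (himg y hy).2⟩,
        k, ((mor_normalizerSystem hN).1 hk).1, hkh, hkW⟩
  suffices main : ∀ n : ℕ, ∀ U, Nat.card S - Nat.card (normalizerIn S U) ≤ n → U ≠ ⊥ →
      F.IsFullyNormalized U → ∃ U' g, Mor F (normalizerIn S U) g ∧ Iso F U U' g ∧
        F.IsFullyNormalized U' ∧ GoodAt F M U' from fun U => main _ U le_rfl
  intro n
  induction n using Nat.strong_induction_on with
  | h n ih =>
    intro U hn hU hUn
    have hTS : normalizerIn S U ≤ S := inf_le_left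
    by_cases hT : normalizerIn S U = S
    · refine ⟨U, id, mor_id hTS, iso_id hUn.1, hUn, hgood U hU hUn ?_⟩
      rw [hT]
      exact hbase
    haveI : Finite (normalizerIn S U) := finite_of_le hTS
    have hTp : IsPGroup p (normalizerIn S U) := hS.to_le hTS
    have hlt : normalizerIn S U < normalizerIn S (normalizerIn S U) :=
      lt_normalizerIn hS (lt_of_le_of_ne hTS hT)
    have hTne : normalizerIn S U ≠ ⊥ := fun h =>
      hU (le_bot_iff.1 (h ▸ le_normalizerIn hUn.1))
    have hW1 := wsub_ne_bot hW hTp hTne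
    have hNN := normalizerIn_le_normalizerIn_wsub (S := S) hW hTS hTp
    obtain ⟨W1', h, hW1n, hh, hhi, hhN⟩ := exists_fullyNormalized_mor hS hF
      ((wsub_le W _).trans hTS : wsub W (normalizerIn S U) ≤ S)
    have hW1'ne : W1' ≠ ⊥ := fun e => hW1 (Subgroup.eq_bot_of_card_eq _ (by
      rw [hhi.card_eq, e, Subgroup.card_bot]))
    haveI : Finite (normalizerIn S W1') := finite_of_le inf_le_left
    have hcard : Nat.card (normalizerIn S U) < Nat.card (normalizerIn S W1') :=
      lt_of_lt_of_le (card_lt_of_lt' inf_le_left (hlt.trans_le hNN))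
        (hh.card_image_le inf_le_left hhN)
    have hcard2 : Nat.card (normalizerIn S W1') ≤ Nat.card S :=
      Subgroup.card_le_of_le inf_le_left
    obtain ⟨W2, g2, hg2, hg2i, -, hW2good⟩ :=
      ih (Nat.card S - Nat.card (normalizerIn S W1')) (by omega) W1' le_rfl hW1'ne hW1n
    have hTW : normalizerIn S U ≤ normalizerIn S (wsub W (normalizerIn S U)) :=
      (le_normalizerIn hTS).trans hNN
    have hg : Mor F (normalizerIn S U) (g2 ∘ h) :=
      (hh.mono hTW).comp hg2 fun x hx => hhN x (hTW hx)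
    obtain ⟨U', hU'⟩ := (hg.mono (le_normalizerIn hUn.1)).exists_iso
    obtain ⟨T', hT'⟩ := hg.exists_iso
    have hT'le : T' ≤ normalizerIn S U' := fun y hy => by
      obtain ⟨x, hx, rfl⟩ := hT'.exists_eq hy
      exact hg.mem_normalizerIn (le_normalizerIn hUn.1) hU' hx hx.2
    have hT'eq : normalizerIn S U' = T' :=
      (eq_of_le_of_card inf_le_left hT'le ((hUn.2 U' hU'.isConj).trans hT'.card_eq.le)).symm
    have hU'n : F.IsFullyNormalized U' := ⟨hU'.right_le, fun R hR => by
      rw [hT'eq, ← hT'.card_eq]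
      exact hUn.2 R (isConj_trans hU'.isConj hR)⟩
    refine ⟨U', g2 ∘ h, hg, hU', hU'n, hgood U' (fun e => hU (Subgroup.eq_bot_of_card_eq _ (by
      rw [hU'.card_eq, e, Subgroup.card_bot]))) hU'n ?_⟩
    have heq : wsub W T' = W2 := by
      ext y
      rw [mem_wsub_iff hW hTp hT' y]
      constructor
      · rintro ⟨x, hx, rfl⟩
        exact hg2i.mem (hhi.mem hx)
      · intro hy
        obtain ⟨z, hz, rfl⟩ := hg2i.exists_eq hy
        obtain ⟨x, hx, rfl⟩ := hhi.exists_eq hz
        exact ⟨x, hx, rfl⟩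
    rw [hT'eq, heq]
    exact hW2good

/-- The reduction theorem. -/
theorem reduce_to_normalizers (hW : PosFunctor p W) {M : Subgroup Ω → (Ω → Ω) → Prop}
    (hM : SubRel F S M) (hbase : GoodAt F M (wsub W S))
    (hstep : ∀ U, U ≠ ⊥ → F.IsFullyNormalized U → ∀ N : FusionSystem (normalizerIn S U),
      F.IsNormalizerSystem U N → GoodAt N M (wsub W (normalizerIn S U)) → ∀ X f, Mor N X f → M X f) :
    ∀ P f, Mor F P f → M P f := by
  have hle : F ≤ subSys hM := by
    refine le_of_aut_le' hS hF fun R hR hbig => ?_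
    have hsub : ∀ X f, Mor F X f → M X f → Mor (subSys hM) X f :=
      fun X f h1 h2 => (mor_subSys hM).2 ⟨h1, h2⟩
    rcases hR with rfl | hR
    · intro α hα
      refine (mem_autGroup_iff le_rfl).2 ⟨hsub _ _ (iso_apl le_rfl hα).1 (hbase _ _
        (iso_apl le_rfl hα).1 ?_), (iso_apl le_rfl hα).2⟩
      have hi := iso_wsub hW hS (iso_apl le_rfl hα)
      have hle' : R ≤ normalizerIn R (wsub W R) :=
        (le_normalizerIn le_rfl).trans (normalizerIn_le_normalizerIn_wsub hW le_rfl hS)
      exact ⟨hle', fun x hx => hle' (apl_mem α hx), apl α,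
        (iso_apl le_rfl hα).1.mono (sup_le le_rfl (wsub_le W R)), fun _ _ => rfl, hi.2⟩
    · obtain ⟨hc, hn, hR'⟩ := hR
      have hRne : R ≠ S := by
        rintro rfl
        refine not_essential_top hS hF ⟨hc, hn, hR'⟩
      have hR0 : R ≠ ⊥ := by
        intro e
        refine hRne (le_antisymm hc.1 fun x hx => centric_self hc ⟨hx, ?_⟩)
        rw [e]
        exact Subgroup.mem_centralizer_iff.2 fun y hy => by
          rw [Subgroup.mem_bot.1 hy]; group
      have hlt : R < normalizerIn S R := lt_normalizerIn hS (lt_of_le_of_ne hc.1 hRne)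
      obtain ⟨R', g, hg, hgi, -, hgood⟩ := exists_good_conj hS hF hW hbase hstep R hR0 hn
      have hgE : Mor (subSys hM) (normalizerIn S R) g :=
        hbig _ g (card_lt_of_lt' inf_le_left hlt) hg
      have hgiE : Iso (subSys hM) R R' g := ⟨hgE.mono hlt.le, hgi.2⟩
      obtain ⟨g', hg', hg'g, hgg'⟩ := hgiE.symm
      intro α hα
      refine (mem_autGroup_iff hc.1).2 ⟨?_, (iso_apl hc.1 hα).2⟩
      have hα' := iso_apl hgi.right_le (hgi.conjAut_mem hα)
      have hle' : R' ≤ normalizerIn S R' := le_normalizerIn hgi.right_le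
      have h1 : Mor (subSys hM) R' (apl (hgi.conjAut α)) :=
        hsub _ _ hα'.1 (hgood _ _ hα'.1 ⟨hle', fun x hx => hle' (apl_mem _ hx), _,
          hα'.1.mono (sup_le le_rfl le_rfl), fun _ _ => rfl, hα'.2⟩)
      refine ((hgiE.1.comp h1 fun x hx => hgi.mem hx).comp hg'.1
        fun x hx => apl_mem _ (hgi.mem hx)).congr fun x hx => ?_
      show apl α x = g' (apl (hgi.conjAut α) (g x))
      rw [hgi.conjAut_apl α hx, hg'g _ (apl_mem α hx)]
  intro P f hf
  exact ((mor_subSys hM).1 (le_iff_mor.1 hle P f hf)).2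

end Cfsg.Agent.FusSys
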