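import Cfsg.Agent.FusSys.InvariantOp

/-!
Extensions to `T C_S(T)`, trivial on `C_S(T)` modulo `T`, of the automorphisms of `T` detected on
centric subgroups of a weakly normal subsystem.
-/

set_option autoImplicit false
set_option linter.unusedSectionVars false

namespace Cfsg.Agent.FusSys

open Cfsg Cfsg.FusionSystem

universe u

variable {Ω : Type u} [Group Ω] {S T P Q R : Subgroup Ω} {F : FusionSystem S} {E : FusionSystem T}
variable {f g : Ω → Ω} {p : ℕ}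

/-- A map of `E` which, on a centric source, extends to the product with `C_S(T)` trivially modulo
`T`. -/
def ExtMap (E : FusionSystem T) (F : FusionSystem S) (P : Subgroup Ω) (f : Ω → Ω) : Prop :=
  Mor E P f ∧ (E.IsCentric P → ∃ k, Mor F (P ⊔ centralizerIn S T) k ∧ (∀ x ∈ P, k x = f x) ∧
    ∀ c ∈ centralizerIn S T, c⁻¹ * k c ∈ T)

theorem comm_centralizerIn {c x : Ω} (hc : c ∈ centralizerIn S T) (hx : x ∈ T) : x * c = c * x :=
  Subgroup.mem_centralizer_iff.1 hc.2 x hx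

/-- The displacement of an element of `C_S(T)` lies in every centric image. -/
theorem diff_mem_image {k : Ω → Ω} (hQ : E.IsCentric Q) (hPT : P ≤ T)
    (hk : Mor F (P ⊔ centralizerIn S T) k) (hi : ∀ y ∈ Q, ∃ x ∈ P, k x = y) {c : Ω}
    (hc : c ∈ centralizerIn S T) (hd : c⁻¹ * k c ∈ T) : c⁻¹ * k c ∈ Q := by
  refine centric_self hQ ⟨hd, Subgroup.mem_centralizer_iff.2 fun y hy => ?_⟩
  have hyT : y ∈ T := hQ.1 hy
  obtain ⟨x, hx, rfl⟩ := hi y hy
  have hx' : x ∈ P ⊔ centralizerIn S T := Subgroup.mem_sup_left hx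
  have hc' : c ∈ P ⊔ centralizerIn S T := Subgroup.mem_sup_right hc
  have h1 : k x * k c = k c * k x := by
    rw [← hk.map_mul hx' hc', ← hk.map_mul hc' hx', comm_centralizerIn hc (hPT hx)]
  have h2 : k x * c⁻¹ = c⁻¹ * k x := comm_centralizerIn (Subgroup.inv_mem _ hc) hyT
  rw [← mul_assoc, h2, mul_assoc, h1, ← mul_assoc]

variable [Finite S]

theorem subRel_extMap (hE : E.IsInvariantIn F) : SubRel E T (ExtMap E F) := by
  have hTS := hE.2.1.1
  have := finite_of_le hTS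
  refine ⟨fun {P f f'} h he => ⟨h.1.congr he, fun hP => ?_⟩,
    fun h => ⟨h.1.le, fun _ hx => h.1.mem_S hx⟩, fun {P s} hP hs => ⟨mor_conj hP hs,
      mor_conj hP hs, fun _ => ⟨_, mor_conj (sup_le (hP.trans hTS) inf_le_left) (hTS hs),
        fun _ _ => rfl, fun c hc => ?_⟩⟩, ?_, ?_⟩
  · obtain ⟨k, hk, hkf, hkc⟩ := h.2 hP
    exact ⟨k, hk, fun x hx => (hkf x hx).trans (he x hx).symm, hkc⟩
  · show c⁻¹ * (s * c * s⁻¹) ∈ T
    rw [comm_centralizerIn hc hs, mul_inv_cancel_right, inv_mul_cancel]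
    exact T.one_mem
  · rintro P R f g - h - h' hfR
    refine ⟨h.1.comp h'.1 hfR, fun hP => ?_⟩
    obtain ⟨k, hk, hkf, hkc⟩ := h.2 hP
    obtain ⟨P', hP'⟩ := h.1.exists_iso
    have hP'c : E.IsCentric P' := centric_of_isConj hP hP'.isConj
    have hP'R : P' ≤ R := fun y hy => by
      obtain ⟨x, hx, rfl⟩ := hP'.exists_eq hy
      exact hfR x hx
    obtain ⟨k', hk', hk'g, hk'c⟩ := h'.2 (centric_of_le hP'c hP'R h'.1.le)
    have ht : ∀ c ∈ centralizerIn S T, c⁻¹ * k c ∈ R := fun c hc => hP'R <|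
      diff_mem_image hP'c hP.1 hk (fun y hy => by
        obtain ⟨x, hx, rfl⟩ := hP'.exists_eq hy
        exact ⟨x, hx, hkf x hx⟩) hc (hkc c hc)
    have hcm : ∀ c ∈ centralizerIn S T, k c ∈ R ⊔ centralizerIn S T := fun c hc => by
      have h1 := Subgroup.mul_mem _ (Subgroup.mem_sup_right (S := R) hc)
        (Subgroup.mem_sup_left (T := centralizerIn S T) (ht c hc))
      rwa [mul_inv_cancel_left] at h1
    have hmem : ∀ x ∈ P ⊔ centralizerIn S T, k x ∈ R ⊔ centralizerIn S T := fun x hx =>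
      hk.mem_of_sup (fun a ha => Subgroup.mem_sup_left ((hkf a ha).symm ▸ hfR a ha))
        (fun c hc => hcm c hc) hx
    refine ⟨k' ∘ k, hk.comp hk' hmem, fun x hx => ?_, fun c hc => ?_⟩
    · show k' (k x) = g (f x)
      rw [hkf x hx, hk'g _ (hfR x hx)]
    · show c⁻¹ * k' (k c) ∈ T
      have e : k c = c * (c⁻¹ * k c) := by group
      rw [e, hk'.map_mul (Subgroup.mem_sup_right hc) (Subgroup.mem_sup_left (ht c hc)),
        hk'g _ (ht c hc), ← mul_assoc]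
      exact T.mul_mem (hk'c c hc) (h'.1.mem_S (ht c hc))
  · rintro P R f g hf h hg hgf
    refine ⟨hg.1, fun hR => ?_⟩
    obtain ⟨k, hk, hkf, hkc⟩ := h.2 (centric_of_isConj hR hg.isConj)
    obtain ⟨I, hI⟩ := hk.exists_iso
    obtain ⟨k', hk', hk'k, -⟩ := hI.symm
    have ht : ∀ c ∈ centralizerIn S T, c⁻¹ * k c ∈ R := fun c hc =>
      diff_mem_image hR hf.left_le hk (fun y hy => by
        obtain ⟨x, hx, rfl⟩ := hf.exists_eq hy
        exact ⟨x, hx, hkf x hx⟩) hc (hkc c hc)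
    have hRI : R ≤ I := fun y hy => by
      obtain ⟨x, hx, rfl⟩ := hf.exists_eq hy
      rw [← hkf x hx]
      exact hI.mem (Subgroup.mem_sup_left hx)
    have hCI : centralizerIn S T ≤ I := fun c hc => by
      have h1 := I.mul_mem (hI.mem (Subgroup.mem_sup_right (S := P) hc))
        (I.inv_mem (hRI (ht c hc)))
      have e : k c * (c⁻¹ * k c)⁻¹ = c := by group
      rwa [e] at h1
    have hval : ∀ y ∈ R, k' y = g y := fun y hy => by
      obtain ⟨x, hx, rfl⟩ := hf.exists_eq hy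
      rw [hgf x hx, ← hkf x hx, hk'k x (Subgroup.mem_sup_left hx)]
    refine ⟨k', hk'.1.mono (sup_le hRI hCI), hval, fun c hc => ?_⟩
    have e : c = k c * (c⁻¹ * k c)⁻¹ := by group
    have h1 : k' c = c * (g (c⁻¹ * k c))⁻¹ := by
      conv_lhs => rw [e]
      rw [hk'.1.map_mul (hI.mem (Subgroup.mem_sup_right hc)) (I.inv_mem (hRI (ht c hc))),
        hk'k c (Subgroup.mem_sup_right hc), hk'.1.map_inv (hRI (ht c hc)), hval _ (ht c hc)]
    rw [h1, inv_mul_cancel_left]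
    exact T.inv_mem (hg.1.mem_S (ht c hc))

/-- The automorphisms of `T` in `E` extending to `T C_S(T)` trivially modulo `T`. -/
def extAut (hE : E.IsInvariantIn F) : Subgroup (MulAut T) where
  carrier := {α | α ∈ E.autGroup T ∧ ExtMap E F T (apl α)}
  one_mem' := ⟨Subgroup.one_mem _, (mor_id le_rfl).congr fun x hx => apl_one hx,
    fun _ => ⟨id, mor_id (sup_le hE.2.1.1 inf_le_left), fun x hx => (apl_one hx).symm,
      fun c _ => by rw [id, inv_mul_cancel]; exact T.one_mem⟩⟩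
  mul_mem' := by
    rintro a b ⟨ha, hax⟩ ⟨hb, hbx⟩
    exact ⟨Subgroup.mul_mem _ ha hb, (subRel_extMap hE).congr
      ((subRel_extMap hE).comp (iso_apl le_rfl hb).1 hbx (iso_apl le_rfl ha).1 hax
        fun x hx => apl_mem b hx) fun x hx => apl_mul a b hx⟩
  inv_mem' := by
    rintro a ⟨ha, hax⟩
    exact ⟨Subgroup.inv_mem _ ha, (subRel_extMap hE).inv (iso_apl le_rfl ha) hax
      (iso_apl le_rfl (Subgroup.inv_mem _ ha)) fun x hx => apl_inv_apl a hx⟩

variable [Fact p.Prime] (hS : IsPGroup p S) (hE : E.IsWeaklyNormalIn F p)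
include hS hE

theorem inn_le_extAut : Inn T ≤ extAut hE.2.2 := by
  rintro _ ⟨t, rfl⟩
  have hT : (MulAut.conj t : MulAut T) ∈ E.autGroup T := inn_le_autGroup le_rfl ⟨t, rfl⟩
  exact ⟨hT, (subRel_extMap hE.2.2).congr ((subRel_extMap hE.2.2).conj le_rfl t.2).2
    fun x hx => apl_conj t hx⟩

/-- `p`-elements of the automorphism groups in `E` extend. -/
theorem extMap_pElement (hP : E.IsCentric P) {α : MulAut P} (hα : α ∈ E.autGroup P) {k : ℕ}
    (hk : α ^ p ^ k = 1) : ExtMap E F P (apl α) := by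
  have hF := hE.2.1
  have hT := hE.2.2.2.1
  have hTS := hT.1
  refine ⟨(iso_apl hP.1 hα).1, fun _ => ?_⟩
  obtain ⟨Q, g, hQn, hg, hgi, -⟩ := exists_fullyNormalized_mor hS hF (hP.1.trans hTS)
  have hQc : E.IsCentric Q := centric_of_mor hE.2.2 hP hgi
  obtain ⟨b, hb, t, ht, htx⟩ := exists_conj_pElement hS hF hE hQc.1 hQn
    (conjAut_mem_of_isInvariant hE.2.2 hP.1 hgi hα) (k := k) (by rw [← map_pow, hk, map_one])
  have hbF := iso_apl hQn.1 (autGroup_le_of_invariant hE.2.2 hb)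
  obtain ⟨kb, hkb, hkbb⟩ :=
    (isReceptive_iff.1 (receptive_of_fullyNormalized hS hF hQn)).2 Q _ hbF
  have hkbQ : Iso F Q Q kb := hbF.congr hkbb
  have hkbi := iso_core_of_mor (hkb.mono (sup_le hbF.1.le_nPhi centralizerIn_le_nPhi)) le_rfl hkbQ
  set I := Q ⊔ centralizerIn S Q with hIdef
  obtain ⟨kb', hkb', hkb'kb, -⟩ := hkbi.symm
  have htS : t ∈ S := hTS ht.1
  have htI : Iso F I I (fun y => t * y * t⁻¹) :=
    iso_core_of_mor (mor_conj (sup_le hQn.1 inf_le_left) htS) le_rfl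
      (iso_conj_self hQn.1 htS ht.2)
  have hCle : centralizerIn S T ≤ normalizerIn S P :=
    (inf_le_inf_left S (Subgroup.centralizer_le hP.1)).trans (centralizerIn_le_normalizerIn S P)
  have hPN : P ≤ normalizerIn S P := le_normalizerIn (hP.1.trans hTS)
  obtain ⟨J, hJ⟩ := hg.exists_iso
  obtain ⟨g', hg', hg'g, -⟩ := hJ.symm
  have hgC : ∀ c ∈ centralizerIn S T, g c ∈ centralizerIn S Q := fun c hc =>
    hg.mem_centralizerIn hPN hgi (hCle hc) (Subgroup.centralizer_le hP.1 hc.2)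
  have hgI : ∀ y ∈ P ⊔ centralizerIn S T, g y ∈ I := fun y hy =>
    (hg.mono (sup_le hPN hCle)).mem_of_sup (fun a ha => Subgroup.mem_sup_left (hgi.mem ha))
      (fun c hc => Subgroup.mem_sup_right (hgC c hc)) hy
  set h₀ := kb' ∘ (fun y => t * y * t⁻¹) ∘ kb ∘ g with hh₀
  have hh₀m : Mor F (P ⊔ centralizerIn S T) h₀ :=
    (((hg.mono (sup_le hPN hCle)).comp hkbi.1 hgI).comp htI.1 fun y hy =>
      hkbi.mem (hgI y hy)).comp hkb'.1 fun y hy => htI.mem (hkbi.mem (hgI y hy))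
  have hval : ∀ x ∈ P, h₀ x = g (apl α x) := fun x hx => by
    show kb' (t * kb (g x) * t⁻¹) = _
    have hgx : g x ∈ Q := hgi.mem hx
    rw [hkbb _ hgx, ← htx _ (apl_mem b hgx), apl_mul _ _ (apl_mem b hgx), apl_inv_apl b hgx,
      apl_mul _ _ hgx, hgi.conjAut_apl α hx, ← hkbb _ (hgi.mem (apl_mem α hx)),
      hkb'kb _ (Subgroup.mem_sup_left (hgi.mem (apl_mem α hx)))]
  have hvalc : ∀ c ∈ centralizerIn S T, ∃ q ∈ Q, h₀ c = g c * q := by
    intro c hc
    set v := kb (g c) with hv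
    have hvC : v ∈ centralizerIn S Q :=
      hkbi.1.mem_centralizerIn le_sup_left hkbQ (Subgroup.mem_sup_right (hgC c hc)) (hgC c hc).2
    have hz : v⁻¹ * (t * v * t⁻¹) ∈ Q := by
      refine centric_self hQc ⟨?_, Subgroup.mem_centralizer_iff.2 fun y hy => ?_⟩
      · have h1 := isStronglyClosed_normal hT (S.inv_mem hvC.1) ht.1
        have h2 := T.mul_mem h1 (T.inv_mem ht.1)
        simpa [mul_assoc] using h2
      · have hy' : t⁻¹ * y * t ∈ Q := by
          refine (Subgroup.mem_normalizer_iff.1 ht.2 _).2 ?_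
          have e : t * (t⁻¹ * y * t) * t⁻¹ = y := by group
          rwa [e]
        have h1 := Subgroup.mem_centralizer_iff.1 hvC.2 _ hy
        have h2 := Subgroup.mem_centralizer_iff.1 hvC.2 _ hy'
        calc y * (v⁻¹ * (t * v * t⁻¹)) = v⁻¹ * (v * y) * (v⁻¹ * (t * v * t⁻¹)) := by group
          _ = v⁻¹ * (y * v) * (v⁻¹ * (t * v * t⁻¹)) := by rw [← h1]
          _ = v⁻¹ * (t * ((t⁻¹ * y * t) * v) * t⁻¹) := by group
          _ = v⁻¹ * (t * (v * (t⁻¹ * y * t)) * t⁻¹) := by rw [h2]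
          _ = v⁻¹ * (t * v * t⁻¹) * y := by group
    refine ⟨kb' (v⁻¹ * (t * v * t⁻¹)), ?_, ?_⟩
    · obtain ⟨q, hq, hqz⟩ := hkbQ.exists_eq hz
      rw [← hqz, hkb'kb q (Subgroup.mem_sup_left hq)]
      exact hq
    · show kb' (t * v * t⁻¹) = _
      conv_lhs => rw [show t * v * t⁻¹ = v * (v⁻¹ * (t * v * t⁻¹)) by group]
      rw [hkb'.1.map_mul (Subgroup.mem_sup_right hvC) (Subgroup.mem_sup_left hz), hv,
        hkb'kb _ (Subgroup.mem_sup_right (hgC c hc))]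
  have hh₀J : ∀ y ∈ P ⊔ centralizerIn S T, h₀ y ∈ J := fun y hy =>
    hh₀m.mem_of_sup (fun x hx => (hval x hx).symm ▸ hJ.mem (hPN (apl_mem α hx)))
      (fun c hc => by
        obtain ⟨q, hq, hcq⟩ := hvalc c hc
        obtain ⟨x, hx, rfl⟩ := hgi.exists_eq hq
        exact hcq ▸ J.mul_mem (hJ.mem (hCle hc)) (hJ.mem (hPN hx))) hy
  refine ⟨g' ∘ h₀, hh₀m.comp hg'.1 hh₀J, fun x hx => ?_, fun c hc => ?_⟩
  · show g' (h₀ x) = _
    rw [hval x hx, hg'g _ (hPN (apl_mem α hx))]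
  · obtain ⟨q, hq, hcq⟩ := hvalc c hc
    obtain ⟨x, hx, rfl⟩ := hgi.exists_eq hq
    show c⁻¹ * g' (h₀ c) ∈ T
    rw [hcq, ← hg.map_mul (hCle hc) (hPN hx), hg'g _ (Subgroup.mul_mem _ (hCle hc) (hPN hx)),
      inv_mul_cancel_left]
    exact hP.1 hx

theorem extMap_minOp (h : Mor (minOp E p) P f) : ExtMap E F P f := by
  have hM := subRel_extMap hE.2.2
  have hC : ContainsCentricOp (subSys hM) E p := fun R hR => by
    rw [opPrime, MonoidHom.map_closure, Subgroup.closure_le]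
    rintro _ ⟨⟨α, hα⟩, ⟨k, hk⟩, rfl⟩
    rw [Subgroup.orderOf_mk] at hk
    exact Subgroup.subset_closure (((mor_subSys hM).2 ⟨(iso_apl hR.1 hα).1,
      extMap_pElement hS hE hR hα (k := k)
        (show α ^ p ^ k = 1 by rw [← hk, pow_orderOf_eq_one])⟩).hom_eq fun x => (apl_coe α x).symm)
  exact ((mor_subSys hM).1 (le_iff_mor.1 (minOp_le_of hC) P f h)).2

/-- A map of a neighbourhood extending one which fixes `R`. -/
theorem exists_climb (hR : E.IsCentric R) {θ : Ω → Ω}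
    (hθ : Iso F (R ⊔ centralizerIn S T) (R ⊔ centralizerIn S T) θ) (hθR : ∀ x ∈ R, θ x = x) :
    ∃ h, Mor F (normalizerIn T R ⊔ centralizerIn S T) h ∧
      (∀ y ∈ normalizerIn T R ⊔ centralizerIn S T, h y ∈ normalizerIn T R ⊔ centralizerIn S T) ∧
      (∀ y ∈ R ⊔ centralizerIn S T, h y = θ y) ∧
      ∀ n ∈ normalizerIn T R, n⁻¹ * h n ∈ R := by
  have hF := hE.2.1
  have hT := hE.2.2.2.1
  have hTS := hT.1
  set C := centralizerIn S T with hCdef
  set A := R ⊔ C with hAdef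
  set N := normalizerIn T R with hNdef
  have hNT : N ≤ T := inf_le_left
  have hRN : R ≤ N := le_inf hR.1 Subgroup.le_normalizer
  have hAS : A ≤ S := sup_le (hR.1.trans hTS) inf_le_left
  have := finite_of_le hAS
  have : Finite (MulAut A) := Finite.of_injective _ MulEquiv.toEquiv_injective
  have hCR : C ≤ Subgroup.normalizer (R : Set Ω) :=
    (inf_le_inf_left S (Subgroup.centralizer_le hR.1)).trans
      ((centralizerIn_le_normalizerIn S R).trans inf_le_right)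
  have hNA : ∀ n ∈ N, n ∈ Subgroup.normalizer (A : Set Ω) := fun n hn =>
    mem_normalizer_sup hn.2 (Subgroup.mem_normalizer_iff.2 fun y => by
      constructor
      · intro hy
        rw [comm_centralizerIn hy (hNT hn), mul_inv_cancel_right]
        exact hy
      · intro hy
        have h1 := comm_centralizerIn hy (T.inv_mem (hNT hn))
        have e : n⁻¹ * (n * y * n⁻¹) = y * n⁻¹ := by group
        rw [e] at h1
        have e2 : y = n * y * n⁻¹ := mul_right_cancel (h1.trans rfl) |>.trans rfl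
        exact e2 ▸ hy)
  have hdec : ∀ y ∈ A, ∃ c ∈ C, ∃ r ∈ R, c * r = y := fun y hy => by
    have hy' : y ∈ ((C ⊔ R : Subgroup Ω) : Set Ω) := sup_comm R C ▸ hy
    rw [Subgroup.coe_mul_of_left_le_normalizer_right _ _ hCR] at hy'
    exact hy'
  -- the `p`-group of automorphisms inducing an element of `Aut_T(R)`, trivial modulo `R`
  let Pg : Subgroup (MulAut A) := F.autGroup A ⊓ chainStab.subgroupOfFiniteSubmonoid
    { carrier := {α | (∃ n ∈ N, ∀ x ∈ R, apl α x = n * x * n⁻¹) ∧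
        ∀ c ∈ C, c⁻¹ * apl α c ∈ R}
      one_mem' := ⟨⟨1, N.one_mem, fun x hx => by
          rw [apl_one (Subgroup.mem_sup_left hx)]; group⟩,
        fun c hc => by rw [apl_one (Subgroup.mem_sup_right hc), inv_mul_cancel]; exact R.one_mem⟩
      mul_mem' := by
        rintro a b ⟨⟨n, hn, hax⟩, hac⟩ ⟨⟨m, hm, hbx⟩, hbc⟩
        refine ⟨⟨n * m, N.mul_mem hn hm, fun x hx => ?_⟩, fun c hc => ?_⟩
        · have hmx : m * x * m⁻¹ ∈ R := (Subgroup.mem_normalizer_iff.1 hm.2 x).1 hx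
          rw [apl_mul _ _ (Subgroup.mem_sup_left hx), hbx x hx, hax _ hmx]
          group
        · have hcA : c ∈ A := Subgroup.mem_sup_right hc
          have hrA : c⁻¹ * apl b c ∈ A := Subgroup.mem_sup_left (hbc c hc)
          rw [apl_mul _ _ hcA, show apl b c = c * (c⁻¹ * apl b c) by group, apl_apply a
            (A.mul_mem hcA hrA), show (⟨c * (c⁻¹ * apl b c), A.mul_mem hcA hrA⟩ : A) =
              ⟨c, hcA⟩ * ⟨_, hrA⟩ from rfl, map_mul, Subgroup.coe_mul, ← apl_apply a hcA,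
            ← apl_apply a hrA, hax _ (hbc c hc), ← mul_assoc]
          exact R.mul_mem (hac c hc) ((Subgroup.mem_normalizer_iff.1 hn.2 _).1 (hbc c hc)) }
  have hPm : ∀ α, α ∈ Pg ↔ α ∈ F.autGroup A ∧ (∃ n ∈ N, ∀ x ∈ R, apl α x = n * x * n⁻¹) ∧
      ∀ c ∈ C, c⁻¹ * apl α c ∈ R := fun α => Iff.rfl
  have hPp : IsPGroup p Pg := by
    rintro ⟨α, hαF, ⟨n, hn, hnx⟩, hαc⟩
    obtain ⟨j, hj⟩ := hS ⟨n, hTS (hNT hn)⟩
    have hpow : ∀ i : ℕ, α ^ i ∈ Pg ∧ ∀ x ∈ R, apl (α ^ i) x = n ^ i * x * (n ^ i)⁻¹ := by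
      intro i
      refine ⟨Subgroup.pow_mem _ ((hPm α).2 ⟨hαF, ⟨n, hn, hnx⟩, hαc⟩) i, ?_⟩
      induction i with
      | zero => intro x hx; rw [pow_zero, pow_zero, apl_one (Subgroup.mem_sup_left hx)]; group
      | succ i ih =>
        intro x hx
        rw [pow_succ' α, apl_mul _ _ (Subgroup.mem_sup_left hx), ih x hx, hnx _
          ((Subgroup.mem_normalizer_iff.1 (Subgroup.pow_mem _ hn.2 i) x).1 hx), pow_succ']
        group
    have hfix : ∀ x ∈ R, apl (α ^ p ^ j) x = x := fun x hx => by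
      rw [(hpow _).2 x hx, show n ^ p ^ j = 1 from congrArg Subtype.val hj]
      group
    have hd : Mor F A (apl (α ^ p ^ j)) := (iso_apl hAS (hpow _).1.1).1
    obtain ⟨-, -, hc2⟩ := (hpow (p ^ j)).1
    have := finite_of_le (hR.1.trans hTS)
    obtain ⟨m, hm⟩ := pow_fix (hS.to_le (hR.1.trans hTS)) hd le_sup_left hfix fun y hy => by
      obtain ⟨c, hc, r, hr, rfl⟩ := hdec y hy
      have h1 := R.mul_mem (R.mul_mem (R.inv_mem hr) (hc2 c hc)) hr
      rw [hd.map_mul (Subgroup.mem_sup_right hc) (Subgroup.mem_sup_left hr), hfix r hr]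
      have e : (c * r)⁻¹ * (apl (α ^ p ^ j) c * r) = r⁻¹ * (c⁻¹ * apl (α ^ p ^ j) c) * r := by group
      rwa [e]
    refine ⟨j + m, Subtype.ext ?_⟩
    show α ^ p ^ (j + m) = 1
    rw [pow_add, pow_mul]
    exact apl_ext fun y hy => by
      rw [autGroup_iterate (fun x _ => rfl) _ y hy, hm y hy, apl_one hy]
  -- carry it into `Aut_S`
  obtain ⟨Y, g₀, hYn, -, hg₀, -⟩ := exists_fullyNormalized_mor hS hF hAS
  have := finite_of_le hYn.1
  have : Finite (MulAut Y) := Finite.of_injective _ MulEquiv.toEquiv_injective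
  obtain ⟨-, U, hU⟩ := fullyAutomized_of_fullyNormalized hS hF hYn
  obtain ⟨d, hd⟩ := exists_conj_mem_sylow
    ((hPp.map hg₀.conjAut.toMonoidHom).comap_subtype (K := F.autGroup Y)) U
  set g := apl (d : MulAut Y) ∘ g₀ with hgdef
  have hg : Iso F A Y g := hg₀.comp (iso_apl hYn.1 d.2)
  have hgP : ∀ α ∈ Pg, ∃ s ∈ S, ∀ y ∈ A, g (apl α y) = s * g y * s⁻¹ := by
    intro α hα
    have h1 := hd ⟨_, hg₀.conjAut_mem (Subgroup.mem_inf.1 hα).1⟩
      (Subgroup.mem_map.2 ⟨α, hα, rfl⟩)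
    rw [autInducedBy_subgroupOf_eq U hU, mem_autInducedBy_iff] at h1
    obtain ⟨s, hs, -, hsx⟩ := h1
    refine ⟨s, hs, fun y hy => ?_⟩
    show apl (d : MulAut Y) (g₀ (apl α y)) = s * apl (d : MulAut Y) (g₀ y) * s⁻¹
    rw [← hsx _ (apl_mem _ (hg₀.mem hy)), ← hg₀.conjAut_apl α hy]
    show _ = apl ((d : MulAut Y) * hg₀.conjAut α * (d : MulAut Y)⁻¹) _
    rw [apl_mul _ _ (apl_mem _ (hg₀.mem hy)), apl_inv_apl _ (hg₀.mem hy),
      apl_mul _ _ (hg₀.mem hy)]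
  obtain ⟨η, hη, hηθ⟩ := hθ.exists_mem_autGroup
  -- the two maps have extensions
  have hn1 : ∀ n ∈ N, ∃ α ∈ Pg, ∀ y ∈ A, apl α y = n * y * n⁻¹ := fun n hn => by
    obtain ⟨α, hα, hαx⟩ := exists_mem_autInducedBy (P := A) (hTS (hNT hn)) (hNA n hn)
    refine ⟨α, (hPm α).2 ⟨autInducedBy_le_autGroup hAS hα,
      ⟨n, hn, fun x hx => hαx x (Subgroup.mem_sup_left hx)⟩, fun c hc => ?_⟩, hαx⟩
    rw [hαx c (Subgroup.mem_sup_right hc), comm_centralizerIn hc (hNT hn), mul_inv_cancel_right,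
      inv_mul_cancel]
    exact R.one_mem
  have hn2 : ∀ n ∈ N, ∃ α ∈ Pg, ∀ y ∈ A, apl α (θ y) = θ (n * y * n⁻¹) := fun n hn => by
    obtain ⟨α, hα, hαx⟩ := hn1 n hn
    have hmem : ∀ y ∈ A, apl (η * α * η⁻¹) (θ y) = θ (n * y * n⁻¹) := fun y hy => by
      rw [← hηθ y hy, apl_mul _ _ (apl_mem _ hy), apl_inv_apl _ hy, apl_mul _ _ hy, hαx y hy,
        hηθ _ ((Subgroup.mem_normalizer_iff.1 (hNA n hn) y).1 hy)]
    refine ⟨η * α * η⁻¹, (hPm _).2 ⟨Subgroup.mul_mem _ (Subgroup.mul_mem _ hη (Subgroup.mem_inf.1 hα).1)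
      (Subgroup.inv_mem _ hη), ⟨n, hn, fun x hx => ?_⟩, fun c hc => ?_⟩, hmem⟩
    · have h1 := hmem x (Subgroup.mem_sup_left hx)
      rw [hθR x hx, hθR _ ((Subgroup.mem_normalizer_iff.1 hn.2 x).1 hx)] at h1
      exact h1
    · obtain ⟨y, hy, hyc⟩ := hθ.exists_eq (Subgroup.mem_sup_right (S := R) hc)
      obtain ⟨c', hc', r, hr, rfl⟩ := hdec y hy
      have hq : n * r * n⁻¹ * r⁻¹ ∈ R :=
        R.mul_mem ((Subgroup.mem_normalizer_iff.1 hn.2 r).1 hr) (R.inv_mem hr)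
      have hr' : c' * (n * r * n⁻¹ * r⁻¹) = (n * r * n⁻¹ * r⁻¹) * c' :=
        (comm_centralizerIn hc' (hR.1 hq)).symm
      have e : n * (c' * r) * n⁻¹ = (n * r * n⁻¹ * r⁻¹) * (c' * r) := by
        calc n * (c' * r) * n⁻¹ = (n * c' * n⁻¹) * (n * r * n⁻¹) := by group
          _ = c' * (n * r * n⁻¹) := by rw [comm_centralizerIn hc' (hNT hn), mul_inv_cancel_right]
          _ = c' * (n * r * n⁻¹ * r⁻¹) * r := by group
          _ = (n * r * n⁻¹ * r⁻¹) * c' * r := by rw [hr']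
          _ = (n * r * n⁻¹ * r⁻¹) * (c' * r) := mul_assoc _ _ _
      rw [← hyc, hmem _ hy, e, hθ.1.map_mul (Subgroup.mem_sup_left hq) hy, hθR _ hq, hyc,
        comm_centralizerIn hc (hR.1 hq), inv_mul_cancel_left]
      exact hq
  have hDn : ∀ (k : Ω → Ω), Mor F A k → (∀ n ∈ N, ∃ s ∈ S, ∀ y ∈ A, k (n * y * n⁻¹) = s * k y * s⁻¹) →
      N ⊔ C ≤ nPhi S A k := fun k hk hks => by
    refine sup_le (fun n hn => ?_) (le_sup_right.trans hk.le_nPhi)
    obtain ⟨s, hs, hsy⟩ := hks n hn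
    exact mem_nPhi.2 ⟨hTS (hNT hn), hNA n hn, s, hs, hsy⟩
  have hgθ : Iso F A Y (g ∘ θ) := hθ.comp hg
  obtain ⟨G, hG, hGg⟩ :=
    (isReceptive_iff.1 (receptive_of_fullyNormalized hS hF hYn)).2 A g hg
  obtain ⟨Ψ, hΨ, hΨg⟩ :=
    (isReceptive_iff.1 (receptive_of_fullyNormalized hS hF hYn)).2 A _ hgθ
  have hG' : Mor F (N ⊔ C) G := hG.mono (hDn g hg.1 fun n hn => by
    obtain ⟨α, hα, hαy⟩ := hn1 n hn
    obtain ⟨s, hs, hsy⟩ := hgP α hα
    exact ⟨s, hs, fun y hy => by rw [← hαy y hy]; exact hsy y hy⟩)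
  have hΨ' : Mor F (N ⊔ C) Ψ := hΨ.mono (hDn _ hgθ.1 fun n hn => by
    obtain ⟨α, hα, hαy⟩ := hn2 n hn
    obtain ⟨s, hs, hsy⟩ := hgP α hα
    refine ⟨s, hs, fun y hy => ?_⟩
    show g (θ (n * y * n⁻¹)) = s * g (θ y) * s⁻¹
    rw [← hαy y hy]
    exact hsy _ (hθ.mem hy))
  obtain ⟨J, hJ⟩ := hG'.exists_iso
  obtain ⟨G₁, hG₁, hG₁G, -⟩ := hJ.symm
  have hAD : A ≤ N ⊔ C := sup_le_sup_right hRN C
  obtain ⟨R₂, hR₂⟩ := exists_iso_restrict hg.1 (le_sup_left : R ≤ A)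
  have hR₂c : E.IsCentric R₂ := centric_of_mor hE.2.2 hR hR₂
  have hΨn : ∀ n ∈ N, ∃ r ∈ R, Ψ n = G (n * r) := fun n hn => by
    have hnD : n ∈ N ⊔ C := Subgroup.mem_sup_left hn
    have hz : (G n)⁻¹ * Ψ n ∈ R₂ := by
      refine centric_self hR₂c ⟨T.mul_mem
        (T.inv_mem (StronglyClosed.mor_mem hT hG' hnD (hNT hn)))
        (StronglyClosed.mor_mem hT hΨ' hnD (hNT hn)), Subgroup.mem_centralizer_iff.2 fun y hy => ?_⟩
      obtain ⟨x, hx, rfl⟩ := hR₂.exists_eq hy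
      have hxA : x ∈ A := Subgroup.mem_sup_left hx
      have hnx := (Subgroup.mem_normalizer_iff.1 hn.2 x).1 hx
      have h1 := hG'.map_conj hnD (hAD hxA)
      have h2 := hΨ'.map_conj hnD (hAD hxA)
      rw [hGg _ (Subgroup.mem_sup_left hnx), hGg x hxA] at h1
      rw [hΨg _ (Subgroup.mem_sup_left hnx), hΨg x hxA] at h2
      simp only [Function.comp_apply] at h2
      rw [hθR _ hnx, hθR x hx] at h2
      calc g x * ((G n)⁻¹ * Ψ n) = (G n)⁻¹ * (G n * g x * (G n)⁻¹) * Ψ n := by group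
        _ = (G n)⁻¹ * (Ψ n * g x * (Ψ n)⁻¹) * Ψ n := by rw [← h1, h2]
        _ = (G n)⁻¹ * Ψ n * g x := by group
    obtain ⟨r, hr, hrz⟩ := hR₂.exists_eq hz
    refine ⟨r, hr, ?_⟩
    rw [hG'.map_mul hnD (Subgroup.mem_sup_left (hRN hr)), hGg r (Subgroup.mem_sup_left hr), hrz,
      mul_inv_cancel_left]
  have hΨA : ∀ y ∈ A, Ψ y = G (θ y) := fun y hy => by
    rw [hΨg y hy, hGg _ (hθ.mem hy)]
    rfl
  have hΨJ : ∀ y ∈ N ⊔ C, Ψ y ∈ J := fun y hy => hΨ'.mem_of_sup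
    (fun n hn => by
      obtain ⟨r, hr, he⟩ := hΨn n hn
      exact he ▸ hJ.mem (Subgroup.mem_sup_left (N.mul_mem hn (hRN hr))))
    (fun c hc => by
      rw [hΨA c (Subgroup.mem_sup_right hc)]
      exact hJ.mem (hAD (hθ.mem (Subgroup.mem_sup_right hc)))) hy
  refine ⟨G₁ ∘ Ψ, hΨ'.comp hG₁.1 hΨJ, fun y hy => hG₁.mem (hΨJ y hy), fun y hy => ?_, fun n hn => ?_⟩
  · show G₁ (Ψ y) = θ y
    rw [hΨA y hy, hG₁G _ (hAD (hθ.mem hy))]
  · obtain ⟨r, hr, he⟩ := hΨn n hn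
    show n⁻¹ * G₁ (Ψ n) ∈ R
    rw [he, hG₁G _ (Subgroup.mem_sup_left (N.mul_mem hn (hRN hr))), inv_mul_cancel_left]
    exact hr

/-- An automorphism of `T` in `E` extending well on a centric subgroup extends well. -/
theorem mem_extAut_of_ext (hR : E.IsCentric R) {γ : MulAut T} (hγ : γ ∈ E.autGroup T) {k : Ω → Ω}
    (hk : Mor F (R ⊔ centralizerIn S T) k) (hkγ : ∀ x ∈ R, k x = apl γ x)
    (hkc : ∀ c ∈ centralizerIn S T, c⁻¹ * k c ∈ T) : γ ∈ extAut hE.2.2 := by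
  have hF := hE.2.1
  have hT := hE.2.2.2.1
  have hTS := hT.1
  have := finite_of_le hTS
  have hTp : IsPGroup p T := hS.to_le hTS
  suffices H : ∀ d, ∀ R : Subgroup Ω, Nat.card T - Nat.card R = d → E.IsCentric R →
      ∀ γ ∈ E.autGroup T, ∀ k, Mor F (R ⊔ centralizerIn S T) k → (∀ x ∈ R, k x = apl γ x) →
        (∀ c ∈ centralizerIn S T, c⁻¹ * k c ∈ T) → γ ∈ extAut hE.2.2 from
    H _ R rfl hR γ hγ k hk hkγ hkc
  intro d
  induction d using Nat.strong_induction_on with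
  | _ d ih =>
  intro R hd hR γ hγ k hk hkγ hkc
  by_cases hRT : R = T
  · subst hRT
    exact ⟨hγ, (iso_apl le_rfl hγ).1, fun _ => ⟨k, hk, hkγ, hkc⟩⟩
  have hRN : R < normalizerIn T R := lt_normalizerIn hTp (lt_of_le_of_ne hR.1 hRT)
  have hNT : normalizerIn T R ≤ T := inf_le_left
  set C := centralizerIn S T with hCdef
  have hγF := autGroup_le_of_invariant hE.2.2 hγ
  -- the extension of `γ` to `T C`
  have hTn : F.IsFullyNormalized T := by
    refine ⟨hTS, fun Q _ => ?_⟩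
    have := finite_of_le (normalizerIn_le S T)
    exact Subgroup.card_le_of_le
      (le_inf inf_le_left (inf_le_left.trans (StronglyClosed.le_normalizer hT)))
  have hγi := iso_apl hTS hγF
  obtain ⟨kb, hkb, hkbγ⟩ :=
    (isReceptive_iff.1 (receptive_of_fullyNormalized hS hF hTn)).2 T _ hγi
  have hkbi := iso_core_of_mor (hkb.mono (sup_le hγi.1.le_nPhi centralizerIn_le_nPhi)) le_rfl
    (hγi.congr hkbγ)
  obtain ⟨b, hb, hbk⟩ := hkbi.exists_mem_autGroup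
  have hTCS : T ⊔ C ≤ S := sup_le hTS inf_le_left
  have hbT : ∀ x ∈ T, apl b x = apl γ x := fun x hx =>
    (hbk x (Subgroup.mem_sup_left hx)).trans (hkbγ x hx)
  have hbpow : ∀ j : ℕ, ∀ x ∈ T, apl (b ^ j) x = apl (γ ^ j) x := by
    intro j
    induction j with
    | zero =>
      intro x hx
      rw [pow_zero, pow_zero, apl_one (Subgroup.mem_sup_left hx), apl_one hx]
    | succ j ih =>
      intro x hx
      rw [pow_succ', pow_succ', apl_mul _ _ (Subgroup.mem_sup_left hx), apl_mul _ _ hx, ih x hx,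
        hbT _ (apl_mem _ hx)]
  have hbinv : ∀ x ∈ T, apl b⁻¹ x = apl γ⁻¹ x := fun x hx => by
    conv_lhs => rw [← apl_apl_inv γ hx, ← hbT _ (apl_mem _ hx),
      apl_inv_apl b (Subgroup.mem_sup_left (apl_mem γ⁻¹ hx))]
  have hbC : ∀ u ∈ F.autGroup (T ⊔ C), (∀ x ∈ T, apl u x ∈ T) → ∀ c ∈ C, apl u c ∈ C := by
    intro u hu huT c hc
    have hm := (iso_apl hTCS hu).1
    have hi : Iso F T T (apl u) := StronglyClosed.iso_self hT hm le_sup_left
    exact hm.mem_centralizerIn le_sup_left hi (Subgroup.mem_sup_right hc) hc.2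
  have hbiC : ∀ c ∈ C, apl b⁻¹ c ∈ C := hbC _ (Subgroup.inv_mem _ hb)
    fun x hx => (hbinv x hx).symm ▸ apl_mem _ hx
  -- the map fixing `R`
  obtain ⟨R', hR'⟩ := exists_iso_restrict (iso_apl (F := E) le_rfl hγ).1 hR.1
  have hR'c : E.IsCentric R' := centric_of_isConj hR hR'.isConj
  have ht : ∀ c ∈ C, ∃ r ∈ R, apl γ r = c⁻¹ * k c := fun c hc => hR'.exists_eq <|
    diff_mem_image hR'c hR.1 hk (fun y hy => by
      obtain ⟨x, hx, rfl⟩ := hR'.exists_eq hy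
      exact ⟨x, hx, hkγ x hx⟩) hc (hkc c hc)
  have hkm : ∀ y ∈ R ⊔ C, k y ∈ T ⊔ C := fun y hy => hk.mem_of_sup
    (fun x hx => Subgroup.mem_sup_left (hkγ x hx ▸ apl_mem γ (hR.1 hx)))
    (fun c hc => by
      have h1 := Subgroup.mul_mem _ (Subgroup.mem_sup_right (S := T) hc)
        (Subgroup.mem_sup_left (T := C) (hkc c hc))
      rwa [mul_inv_cancel_left] at h1) hy
  set θ := apl b⁻¹ ∘ k with hθdef
  have hθm : Mor F (R ⊔ C) θ :=
    hk.comp (iso_apl hTCS (Subgroup.inv_mem _ hb)).1 hkm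
  have hθR : ∀ x ∈ R, θ x = x := fun x hx => by
    show apl b⁻¹ (k x) = x
    rw [hkγ x hx, hbinv _ (apl_mem γ (hR.1 hx)), apl_inv_apl γ (hR.1 hx)]
  have hθc : ∀ c ∈ C, ∃ r ∈ R, θ c = apl b⁻¹ c * r := fun c hc => by
    obtain ⟨r, hr, hrc⟩ := ht c hc
    refine ⟨r, hr, ?_⟩
    show apl b⁻¹ (k c) = _
    have e : k c = c * apl γ r := by rw [hrc]; group
    rw [e, (iso_apl hTCS (Subgroup.inv_mem _ hb)).1.map_mul (Subgroup.mem_sup_right hc)
      (Subgroup.mem_sup_left (apl_mem γ (hR.1 hr))), hbinv _ (apl_mem γ (hR.1 hr)),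
      apl_inv_apl γ (hR.1 hr)]
  have hθmem : ∀ y ∈ R ⊔ C, θ y ∈ R ⊔ C := fun y hy => hθm.mem_of_sup
    (fun x hx => (hθR x hx).symm ▸ Subgroup.mem_sup_left hx)
    (fun c hc => by
      obtain ⟨r, hr, he⟩ := hθc c hc
      exact he ▸ Subgroup.mul_mem _ (Subgroup.mem_sup_right (hbiC c hc))
        (Subgroup.mem_sup_left hr)) hy
  have hθi : Iso F (R ⊔ C) (R ⊔ C) θ :=
    ⟨hθm, fun y => ⟨fun hy => hθm.surj_of_card hθm.le hθmem le_rfl hy,
      fun ⟨x, hx, hxy⟩ => hxy ▸ hθmem x hx⟩⟩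
  obtain ⟨h, hh, hhmem, hhθ, hhN⟩ := exists_climb hS hE hR hθi hθR
  have := finite_of_le (hR.1.trans hTS)
  obtain ⟨n, hn⟩ := pow_fix (hTp.to_le hR.1) (hh.mono le_sup_left) hRN.le
    (fun x hx => (hhθ x (Subgroup.mem_sup_left hx)).trans (hθR x hx)) hhN
  have hiter : ∀ j : ℕ, Mor F (normalizerIn T R ⊔ C) h^[j] ∧
      (∀ y ∈ normalizerIn T R ⊔ C, h^[j] y ∈ normalizerIn T R ⊔ C) ∧
      ∀ c ∈ C, ∃ r ∈ R, h^[j] c = apl (b ^ j)⁻¹ c * r := by
    intro j
    induction j with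
    | zero =>
      refine ⟨(mor_id hh.le).congr fun x _ => rfl, fun y hy => hy, fun c hc => ⟨1, R.one_mem, ?_⟩⟩
      rw [Function.iterate_zero_apply, pow_zero, inv_one, apl_one (Subgroup.mem_sup_right hc),
        mul_one]
    | succ j ih =>
      refine ⟨(ih.1.comp hh ih.2.1).congr fun x _ => Function.iterate_succ_apply' h j x,
        fun y hy => (Function.iterate_succ_apply' h j y).symm ▸ hhmem _ (ih.2.1 y hy),
        fun c hc => ?_⟩
      obtain ⟨r, hr, he⟩ := ih.2.2 c hc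
      have hu : (b ^ j)⁻¹ ∈ F.autGroup (T ⊔ C) :=
        Subgroup.inv_mem _ (Subgroup.pow_mem _ hb j)
      have hcj : apl (b ^ j)⁻¹ c ∈ C := hbC _ hu
        (fun x hx => StronglyClosed.mor_mem hT (iso_apl hTCS hu).1 (Subgroup.mem_sup_left hx) hx) c hc
      obtain ⟨r', hr', he'⟩ := hθc _ hcj
      refine ⟨r' * r, R.mul_mem hr' hr, ?_⟩
      rw [Function.iterate_succ_apply', he, hh.map_mul (Subgroup.mem_sup_right hcj)
        (Subgroup.mem_sup_left (hRN.le hr)), hhθ _ (Subgroup.mem_sup_right hcj),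
        hhθ _ (Subgroup.mem_sup_left hr), hθR r hr, he', pow_succ, mul_inv_rev,
        apl_mul _ _ (Subgroup.mem_sup_right hc), mul_assoc]
  have hm : γ ^ p ^ n ∈ extAut hE.2.2 := by
    have hcard : Nat.card T - Nat.card ↥(normalizerIn T R) < d := by
      have h1 := card_lt_of_lt' (hNT.trans hTS) hRN
      have h2 : Nat.card ↥(normalizerIn T R) ≤ Nat.card ↥T := Subgroup.card_le_of_le hNT
      omega
    refine ih _ hcard _ rfl (centric_of_le hR hRN.le hNT) _ (Subgroup.pow_mem _ hγ _)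
      (apl (b ^ p ^ n) ∘ h^[p ^ n]) ((hiter _).1.comp
        ((iso_apl hTCS (Subgroup.pow_mem _ hb _)).1) fun y hy =>
          sup_le_sup_right hNT C ((hiter _).2.1 y hy)) (fun x hx => ?_) fun c hc => ?_
    · show apl (b ^ p ^ n) (h^[p ^ n] x) = _
      rw [hn x hx, hbpow _ x (hNT hx)]
    · obtain ⟨r, hr, he⟩ := (hiter (p ^ n)).2.2 c hc
      show c⁻¹ * apl (b ^ p ^ n) (h^[p ^ n] c) ∈ T
      rw [he, (iso_apl hTCS (Subgroup.pow_mem _ hb _)).1.map_mul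
        (apl_mem _ (Subgroup.mem_sup_right hc)) (Subgroup.mem_sup_left (hR.1 hr)),
        apl_apl_inv _ (Subgroup.mem_sup_right hc), inv_mul_cancel_left, hbpow _ r (hR.1 hr)]
      exact apl_mem _ (hR.1 hr)
  obtain ⟨m, hm', hmI⟩ := exists_pow_mem_inn hTp hE.1 hγ
  exact mem_of_coprime_pows hm' hm (inn_le_extAut hS hE hmI)

theorem gamMin_le_extAut : gamMin E p ≤ extAut hE.2.2 := by
  refine (Subgroup.closure_le _).2 ?_
  rintro β ⟨hβ, R, hR, hm⟩
  obtain ⟨k, hk, hkβ, hkc⟩ := (extMap_minOp hS hE hm).2 hR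
  exact mem_extAut_of_ext hS hE hR hβ hk hkβ hkc

end Cfsg.Agent.FusSys
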