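import Cfsg.Agent.FusSys.Control
import Cfsg.Agent.FusSys.FactorFree
import Cfsg.Agent.FusSys.SolvableSys

/-!
Saturated 2-fusion systems all of whose automorphism groups are free of the symmetric group of
degree three: they are free of the symmetric group of degree four, so are their factor systems,
and they are solvable and constrained once a positive functor controls the local groups free of
the symmetric group of degree four.
-/

set_option autoImplicit false
set_option linter.style.haveILetI false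

namespace Cfsg.Agent.FusSys.SThreeFree

open Cfsg Cfsg.FusionSystem Cfsg.Agent.FusSys

universe u v

/-- The elements of the four group moving a given point to `0`. -/
private def toZero : Fin 4 → Equiv.Perm (Fin 4) :=
  ![1, Equiv.swap 0 1 * Equiv.swap 2 3, Equiv.swap 0 2 * Equiv.swap 1 3,
    Equiv.swap 0 3 * Equiv.swap 1 2]

/-- The symmetric group of degree four maps onto the one of degree three. -/
theorem exists_fourToThree :
    ∃ g : Equiv.Perm (Fin 4) →* Equiv.Perm (Fin 3), Function.Surjective g := by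
  let f : Equiv.Perm (Fin 4) → Equiv.Perm (Fin 3) := fun σ =>
    (Equiv.Perm.decomposeFin (toZero (σ 0) * σ)).2
  have hmul : ∀ a b, f (a * b) = f a * f b := by decide +kernel
  have hsurj : ∀ c, ∃ a, f a = c := by decide +kernel
  exact ⟨MonoidHom.mk' f hmul, hsurj⟩

theorem pCore_three_trivial {R : Subgroup (Equiv.Perm (Fin 3))} [R.Normal] (hR : IsPGroup 2 R) :
    R = ⊥ := by
  refine (Subgroup.eq_bot_iff_forall _).2 fun x hx => ?_
  by_contra hne
  -- a nontrivial normal subgroup contains a 3-cycle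
  have key : ∀ x : Equiv.Perm (Fin 3), x ≠ 1 →
      x ^ 3 = 1 ∨ ∃ g : Equiv.Perm (Fin 3),
        g * x * g⁻¹ * x ≠ 1 ∧ (g * x * g⁻¹ * x) ^ 3 = 1 := by
    decide +kernel
  obtain ⟨y, hy, hy1, hy3⟩ : ∃ y ∈ R, y ≠ 1 ∧ y ^ 3 = 1 := by
    rcases key x hne with h | ⟨g, hg1, hg3⟩
    · exact ⟨x, hx, hne, h⟩
    · exact ⟨_, R.mul_mem (Subgroup.Normal.conj_mem inferInstance x hx g) hx, hg1, hg3⟩
  obtain ⟨k, hk⟩ := hR ⟨y, hy⟩
  have hk' : y ^ 2 ^ k = 1 := congrArg Subtype.val hk
  have h1 : orderOf y ∣ Nat.gcd (2 ^ k) 3 :=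
    Nat.dvd_gcd (orderOf_dvd_of_pow_eq_one hk') (orderOf_dvd_of_pow_eq_one hy3)
  rw [Nat.Coprime.pow_left k (by norm_num : Nat.Coprime 2 3), Nat.dvd_one, orderOf_eq_one_iff] at h1
  exact hy1 h1

/-- A quotient by a 2-subgroup of a group involving the symmetric group of degree four involves
the one of degree three. -/
theorem involves_three_of_four {L A : Type*} [Group L] [Group A] (pr : L →* A)
    (hk : IsPGroup 2 pr.ker) (h : Involves (Equiv.Perm (Fin 4)) L) :
    Involves (Equiv.Perm (Fin 3)) A := by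
  obtain ⟨K, R, hR, ⟨e⟩⟩ := h
  haveI := hR
  obtain ⟨g, hg⟩ := exists_fourToThree
  let f : K →* Equiv.Perm (Fin 3) :=
    g.comp (e.toMonoidHom.comp (QuotientGroup.mk' (R.subgroupOf K)))
  have hf : Function.Surjective f :=
    hg.comp (e.surjective.comp (QuotientGroup.mk'_surjective _))
  let q : K →* K.map pr := pr.subgroupMap K
  have hq : Function.Surjective q := pr.subgroupMap_surjective K
  have hle : q.ker ≤ f.ker := by
    have hp : IsPGroup 2 q.ker := hk.of_injective
      (MonoidHom.mk' (fun x : q.ker => (⟨((x : K) : L),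
        congrArg Subtype.val (x.2 : q x = 1)⟩ : pr.ker)) fun _ _ => rfl)
      fun x y h => Subtype.ext (Subtype.ext (congrArg (fun z : pr.ker => (z : L)) h))
    haveI : (q.ker.map f).Normal := Subgroup.Normal.map inferInstance f hf
    have h0 := pCore_three_trivial (hp.map f)
    exact fun x hx => Subgroup.mem_bot.1 (h0 ▸ ⟨x, hx, rfl⟩ : f x ∈ (⊥ : Subgroup _))
  let l : K.map pr →* Equiv.Perm (Fin 3) := MonoidHom.liftOfSurjective q hq ⟨f, hle⟩
  have hl : Function.Surjective l := fun c => by
    obtain ⟨x, hx⟩ := hf c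
    exact ⟨q x, (MonoidHom.liftOfRightInverse_comp_apply q _ _ ⟨f, hle⟩ x).trans hx⟩
  have hn : (l.ker.map (K.map pr).subtype).subgroupOf (K.map pr) = l.ker :=
    Subgroup.comap_map_eq_self_of_injective (K.map pr).subtype_injective _
  haveI : ((l.ker.map (K.map pr).subtype).subgroupOf (K.map pr)).Normal := hn.symm ▸ l.normal_ker
  exact ⟨K.map pr, l.ker.map (K.map pr).subtype, inferInstance,
    ⟨(QuotientGroup.quotientMulEquivOfEq hn).trans
      (QuotientGroup.quotientKerEquivOfSurjective l hl)⟩⟩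

variable {Ω : Type u} [Group Ω] {S : Subgroup Ω} {F : FusionSystem S}

/-- A saturated system without automorphism group involving the symmetric group of degree three
is free of the symmetric group of degree four. -/
theorem sectionFree_four [Finite S] (hS : IsPGroup 2 S) (hF : F.IsSaturated 2)
    (h3 : ∀ U : Subgroup Ω, U ≤ S → ¬ Involves (Equiv.Perm (Fin 3)) ↥(F.autGroup U)) :
    F.IsSectionFree 2 (Equiv.Perm (Fin 4)) := by
  haveI : Fact (Nat.Prime 2) := ⟨Nat.prime_two⟩
  intro Q hQn hQc N hN L _ ι hM hinv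
  refine h3 Q hQn.1 ?_
  rw [← normalizerSystem_autGroup hS hF hN hQn.1]
  haveI : Finite (normalizerIn S Q) := finite_of_le inf_le_left
  haveI : Finite L := hM.1
  have hn := normalizerSystem_isNormal hN hQn.1
  have hc := centric_of_normal hn fun z hz => centric_self hQc ⟨hz.1.1, hz.2⟩
  have hp : IsPGroup 2 (normalizerIn S Q) := hS.to_le inf_le_left
  obtain ⟨pr, hpr, -, -⟩ := exists_autHom hM hn (inf_le_right :
    normalizerIn S Q ≤ Subgroup.normalizer (Q : Set Ω))
  refine involves_three_of_four pr ?_ hinv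
  refine ((hp.to_subgroup (Q.subgroupOf _)).map ι).to_le fun g hg =>
    model_centralizer hM hn hc (Subgroup.mem_centralizer_iff.2 ?_)
  rintro _ ⟨x, hx, rfl⟩
  have h1 : g * ι x * g⁻¹ = ι x := (hpr g x hx).trans (congrArg ι (Subtype.ext (by
    show apl (pr g : MulAut Q) x = x
    rw [show pr g = 1 from hg]
    exact apl_one hx)))
  calc ι x * g = g * ι x * g⁻¹ * g := by rw [h1]
    _ = g * ι x := by group

/-- The automorphism groups of a factor system are images of those of the system. -/
theorem autGroup_factor {Ω' : Type v} [Group Ω'] {S' : Subgroup Ω'} {E : FusionSystem S'}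
    {θ : S →* Ω'} {T : Subgroup Ω} [Finite S] {H : Type*} [Group H]
    (hE : F.IsFactorSystem T θ E) (hT : F.StronglyClosed T)
    (h3 : ∀ U : Subgroup Ω, U ≤ S → ¬ Involves H ↥(F.autGroup U)) :
    ∀ U' : Subgroup Ω', U' ≤ S' → ¬ Involves H ↥(E.autGroup U') := by
  classical
  intro U' hU' hinv
  have hU'r : U' ≤ θ.range := hE.2.2.1.symm ▸ hU'
  set P := preimageAlong θ U' with hP
  have hPS : P ≤ S := pre_le
  have hTP : T ≤ P := le_preimageAlong hE.2.1 hT.1 U'
  have himP : imageAlong θ P = U' := imageAlong_preimageAlong hU'r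
  rw [← himP] at hinv
  have hex : ∀ α : F.autGroup P, ∃ β : MulAut (imageAlong θ P), β ∈ E.autGroup (imageAlong θ P) ∧
      ∀ x ∈ P, apl β (thFn θ x) = thFn θ (apl (α : MulAut P) x) := by
    intro α
    obtain ⟨f', hf', hval⟩ := exists_iso_image hE hT (iso_apl hPS α.2) hTP
    obtain ⟨β, hβ, hβf⟩ := hf'.exists_mem_autGroup
    exact ⟨β, hβ, fun x hx => by rw [hβf _ ((mem_imageAlong hPS).2 ⟨x, hx, rfl⟩), hval x hx]⟩
  choose res hres hresx using hex
  let π : F.autGroup P →* E.autGroup (imageAlong θ P) :=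
    MonoidHom.mk' (fun α => ⟨res α, hres α⟩) fun a b => Subtype.ext <| apl_ext fun z hz => by
      obtain ⟨x, hx, rfl⟩ := (mem_imageAlong hPS).1 hz
      show apl (res (a * b)) _ = apl (res a * res b) _
      rw [hresx _ x hx, apl_mul _ _ hz, hresx b x hx, hresx a _ (apl_mem _ hx)]
      exact congrArg (thFn θ) (apl_mul _ _ hx)
  exact h3 P hPS (involves_of_surjective
    (autMap_surjective hE hT hPS hTP π fun α x hx => hresx α x hx) hinv)

variable {W : ∀ (Q : Type u) [Group Q], Subgroup Q}

/-- With a functor controlling the local groups, such a system is solvable. -/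
theorem solvable_of_functor [Finite S] (hW : PosFunctor 2 W)
    (hloc : ∀ (L : Type u) [Group L] [Finite L] (P : Sylow 2 L),
      Subgroup.centralizer ((pCore 2 L : Subgroup L) : Set L) ≤ pCore 2 L →
        ¬ Involves (Equiv.Perm (Fin 4)) L →
          (((W ↥(P : Subgroup L)).map (P : Subgroup L).subtype : Subgroup L)).Normal)
    (hS : IsPGroup 2 S) (hF : F.IsSaturated 2)
    (h3 : ∀ U : Subgroup Ω, U ≤ S → ¬ Involves (Equiv.Perm (Fin 3)) ↥(F.autGroup U)) :
    F.IsSolvableSystem := by
  haveI : Fact (Nat.Prime 2) := ⟨Nat.prime_two⟩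
  intro R hR hne hnorm E hE
  have hp : IsPGroup 2 (⊤ : Subgroup (S ⧸ R.subgroupOf S)) := (hS.to_quotient _).to_subgroup _
  have hEs : E.IsSaturated 2 := factor_saturated hS hF hE hR
  have hn : E.IsNormal (wsub W (⊤ : Subgroup (S ⧸ R.subgroupOf S))) :=
    control_normal hW hloc hp hEs (sectionFree_four hp hEs (autGroup_factor hE hR h3))
  have htop : (⊤ : Subgroup (S ⧸ R.subgroupOf S)) ≠ ⊥ := by
    intro h
    refine hne (le_antisymm hR.1 fun s hs => ?_)
    have h1 : QuotientGroup.mk' (R.subgroupOf S) ⟨s, hs⟩ = 1 :=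
      Subgroup.mem_bot.1 (h ▸ Subgroup.mem_top _)
    exact (hE.2.1 ⟨s, hs⟩).1 h1
  intro hbot
  exact wsub_ne_bot hW hp htop (le_bot_iff.1 (hbot ▸ le_core hn))

/-- With a functor controlling the local groups, such a system is constrained. -/
theorem constrained_of_functor [Finite S] (hW : PosFunctor 2 W)
    (hloc : ∀ (L : Type u) [Group L] [Finite L] (P : Sylow 2 L),
      Subgroup.centralizer ((pCore 2 L : Subgroup L) : Set L) ≤ pCore 2 L →
        ¬ Involves (Equiv.Perm (Fin 4)) L →
          (((W ↥(P : Subgroup L)).map (P : Subgroup L).subtype : Subgroup L)).Normal)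
    (hS : IsPGroup 2 S) (hF : F.IsSaturated 2)
    (h3 : ∀ U : Subgroup Ω, U ≤ S → ¬ Involves (Equiv.Perm (Fin 3)) ↥(F.autGroup U)) :
    F.IsConstrained 2 := by
  haveI : Fact (Nat.Prime 2) := ⟨Nat.prime_two⟩
  obtain ⟨n, C, h0, hn, -, hC, hab⟩ :=
    exists_series_of_solvable hS hF (solvable_of_functor hW hloc hS hF h3)
  exact constrained_of_series hS hF C h0 hn hC hab

end Cfsg.Agent.FusSys.SThreeFree
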