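import Cfsg.Agent.FusSys.SatPairs

/-!
Chains of linked subgroups in a conjugacy class: in a system generated by the maps with source in a
family, a class outside the family has a member receiving every normalizer of the class.
-/

set_option autoImplicit false

namespace Cfsg.Agent.FusSys

open Cfsg Cfsg.FusionSystem

universe u

variable {Ω : Type u} [Group Ω] {S : Subgroup Ω} {F : FusionSystem S} {P Q Q' R A B : Subgroup Ω}
variable {f g h : Ω → Ω} {p : ℕ}

/-- An isomorphism extending to a strictly bigger subgroup of the normalizer. -/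
def Link (F : FusionSystem S) (Q Q' : Subgroup Ω) (g : Ω → Ω) : Prop :=
  Iso F Q Q' g ∧ ∃ Y, Q < Y ∧ Y ≤ normalizerIn S Q ∧ Mor F Y g

/-- Compositions of links. -/
inductive Chain (F : FusionSystem S) : Subgroup Ω → Subgroup Ω → (Ω → Ω) → Prop
  | refl {Q : Subgroup Ω} {f : Ω → Ω} : Q ≤ S → (∀ x ∈ Q, f x = x) → Chain F Q Q f
  | step {Q Q' Q'' : Subgroup Ω} {f g h : Ω → Ω} : Chain F Q Q' f → Link F Q' Q'' g →
      (∀ x ∈ Q, h x = g (f x)) → Chain F Q Q'' h

theorem Chain.iso (hc : Chain F Q Q' f) : Iso F Q Q' f := by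
  induction hc with
  | refl hQ hf => exact (iso_id hQ).congr hf
  | step _ hl hh ih => exact (ih.comp hl.1).congr hh

theorem Chain.congr (hc : Chain F Q Q' f) (h : ∀ x ∈ Q, g x = f x) : Chain F Q Q' g := by
  cases hc with
  | refl hQ hf => exact .refl hQ fun x hx => (h x hx).trans (hf x hx)
  | step hc hl hh => exact .step hc hl fun x hx => (h x hx).trans (hh x hx)

theorem Chain.trans {Q'' : Subgroup Ω} (hg : Chain F Q' Q'' g) :
    ∀ {Q f}, Chain F Q Q' f → Chain F Q Q'' (g ∘ f) := by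
  induction hg with
  | refl hQ hg =>
    intro Q f hf
    exact hf.congr fun x hx => hg _ (hf.iso.mem hx)
  | step _ hl hh ih =>
    intro Q f hf
    exact .step (ih hf) hl fun x hx => hh _ (hf.iso.mem hx)

theorem Link.symm (hl : Link F Q Q' g) :
    ∃ g', Link F Q' Q g' ∧ ∀ x ∈ Q, g' (g x) = x := by
  obtain ⟨hg, Y, hQY, hYN, hY⟩ := hl
  obtain ⟨Y', hY'⟩ := hY.exists_iso
  obtain ⟨g', hg', hg'g, hgg'⟩ := hY'.symm
  have hle : Q' ≤ Y' := fun y hy => by
    obtain ⟨x, hx, rfl⟩ := hg.exists_eq hy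
    exact hY'.mem (hQY.le hx)
  have hi : Iso F Q' Q g' := by
    refine ⟨hg'.1.mono hle, fun x => ⟨fun hx => ⟨g x, hg.mem hx, hg'g x (hQY.le hx)⟩, ?_⟩⟩
    rintro ⟨y, hy, rfl⟩
    obtain ⟨x, hx, rfl⟩ := hg.exists_eq hy
    rw [hg'g x (hQY.le hx)]
    exact hx
  refine ⟨g', ⟨hi, Y', lt_of_le_of_ne hle fun he => hQY.ne ?_, fun y hy => ?_, hg'.1⟩,
    fun x hx => hg'g x (hQY.le hx)⟩
  · refine le_antisymm hQY.le fun x hx => ?_
    have h1 := hY'.mem hx
    rw [← he] at h1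
    obtain ⟨z, hz, hzx⟩ := hg.exists_eq h1
    exact hY.injOn (hQY.le hz) hx hzx ▸ hz
  · obtain ⟨x, hx, rfl⟩ := hY'.exists_eq hy
    exact hY.mem_normalizerIn hQY.le hg hx (hYN hx).2

theorem Chain.symm (hc : Chain F Q Q' f) :
    ∃ f', Chain F Q' Q f' ∧ ∀ x ∈ Q, f' (f x) = x := by
  induction hc with
  | refl hQ hf => exact ⟨id, .refl hQ fun _ _ => rfl, fun x hx => hf x hx⟩
  | @step B C a b c hc hl hh ih =>
    obtain ⟨a', ha', haa⟩ := ih
    obtain ⟨b', hb', hbb⟩ := hl.symm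
    refine ⟨a' ∘ b', ha'.trans (.step (.refl hb'.1.left_le fun _ _ => rfl) hb' fun _ _ => rfl),
      fun x hx => ?_⟩
    rw [Function.comp_apply, hh x hx, hbb _ (hc.iso.mem hx), haa x hx]

/-- The map extends to the normalizer. -/
def Reach (F : FusionSystem S) (Q Q' : Subgroup Ω) : Prop :=
  ∃ g, Mor F (normalizerIn S Q) g ∧ Iso F Q Q' g

theorem reach_refl (hQ : Q ≤ S) : Reach F Q Q := ⟨id, mor_id (normalizerIn_le S Q), iso_id hQ⟩

theorem Reach.isConj (h : Reach F Q Q') : F.IsConj Q Q' := h.choose_spec.2.isConj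

theorem Reach.trans (h : Reach F Q Q') (h' : Reach F Q' R) : Reach F Q R := by
  obtain ⟨g, hg, hgi⟩ := h
  obtain ⟨k, hk, hki⟩ := h'
  exact ⟨k ∘ g, hg.comp hk fun a ha => hg.mem_normalizerIn (le_normalizerIn hgi.left_le) hgi ha ha.2,
    hgi.comp hki⟩

theorem Reach.card_le [Finite S] (h : Reach F Q Q') :
    Nat.card ↥(normalizerIn S Q) ≤ Nat.card ↥(normalizerIn S Q') := by
  obtain ⟨g, hg, hgi⟩ := h
  exact hg.card_image_le (normalizerIn_le S Q')
    fun a ha => hg.mem_normalizerIn (le_normalizerIn hgi.left_le) hgi ha ha.2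

theorem Reach.card_centralizer_le [Finite S] (h : Reach F Q Q') :
    Nat.card ↥(centralizerIn S Q) ≤ Nat.card ↥(centralizerIn S Q') := by
  obtain ⟨g, hg, hgi⟩ := h
  exact (hg.mono (centralizerIn_le_normalizerIn S Q)).card_image_le (centralizerIn_le S Q')
    fun a ha => hg.mem_centralizerIn (le_normalizerIn hgi.left_le) hgi
      (centralizerIn_le_normalizerIn S Q ha) ha.2

theorem Reach.symm_of_card [Finite S] (h : Reach F Q Q')
    (hc : Nat.card ↥(normalizerIn S Q') ≤ Nat.card ↥(normalizerIn S Q)) : Reach F Q' Q := by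
  obtain ⟨g, hg, hgi⟩ := h
  have hmem : ∀ a ∈ normalizerIn S Q, g a ∈ normalizerIn S Q' := fun a ha =>
    hg.mem_normalizerIn (le_normalizerIn hgi.left_le) hgi ha ha.2
  have hi : Iso F (normalizerIn S Q) (normalizerIn S Q') g :=
    ⟨hg, fun y => ⟨fun hy => hg.surj_of_card (normalizerIn_le S Q') hmem hc hy,
      fun ⟨x, hx, hxy⟩ => hxy ▸ hmem x hx⟩⟩
  obtain ⟨g', hg', hg'g, -⟩ := hi.symm
  have hl := le_normalizerIn (S := S) hgi.left_le
  refine ⟨g', hg'.1, hg'.1.mono (le_normalizerIn hgi.right_le), fun x =>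
    ⟨fun hx => ⟨g x, hgi.mem hx, hg'g x (hl hx)⟩, ?_⟩⟩
  rintro ⟨y, hy, rfl⟩
  obtain ⟨x, hx, rfl⟩ := hgi.exists_eq hy
  rw [hg'g x (hl hx)]
  exact hx

/-- A member of the class from which nothing bigger is reached. -/
def IsSink (F : FusionSystem S) (Q : Subgroup Ω) : Prop :=
  ∀ Q', Reach F Q Q' → Reach F Q' Q

theorem exists_sink [Finite S] (hQ : Q ≤ S) : ∃ A, Reach F Q A ∧ IsSink F A := by
  obtain ⟨A, hA, hmax⟩ := Set.exists_max_image _ (fun A => Nat.card ↥(normalizerIn S A))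
    (finite_subgroups_le (S := S) (fun A => Reach F Q A) fun A hA => isConj_le_right hA.isConj)
    ⟨Q, reach_refl hQ⟩
  exact ⟨A, hA, fun A' hA' => hA'.symm_of_card (hmax A' (hA.trans hA'))⟩

section

variable [Finite S] [Fact p.Prime]

theorem sinks_reach (hS : IsPGroup p S) {P : Subgroup Ω} (hPS : P ≤ S) (hne : P ≠ S)
    (hbig : ∀ Y : Subgroup Ω, Y ≤ S → Nat.card P < Nat.card Y → SatClass F p Y) :
    ∀ n : ℕ,
      (∀ Q A B, F.IsConj P Q → Nat.card S - Nat.card ↥(normalizerIn S Q) = n → Reach F Q A →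
        Reach F Q B → IsSink F A → IsSink F B → Reach F A B) ∧
      (∀ Q Q' A B Y g, F.IsConj P Q → Q < Y → Y ≤ normalizerIn S Q → Mor F Y g → Iso F Q Q' g →
        Nat.card S - Nat.card Y = n → Reach F Q A → Reach F Q' B → IsSink F A → IsSink F B →
        Reach F A B) := by
  intro n
  induction n using Nat.strong_induction_on with
  | h n ih =>
  have hne' : ∀ Q, F.IsConj P Q → Q < S := fun Q hQ =>
    lt_of_le_of_ne (isConj_le_right hQ) fun he => hne (eq_of_le_of_card le_rfl hPS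
      (le_of_eq ((congrArg (fun K : Subgroup Ω => Nat.card K) he).symm.trans
        (isConj_card_eq hQ).symm)))
  -- conjugate pairs are linked to a standard pair by bigger subgroups
  have key : ∀ Q₁ Q₂ Y₁ Y₂ A B g, F.IsConj P Q₁ → Q₁ < Y₁ → Y₁ < normalizerIn S Q₁ →
      Y₂ < normalizerIn S Q₂ → Iso F Y₁ Y₂ g → Iso F Q₁ Q₂ g →
      Nat.card S - Nat.card Y₁ ≤ n → Reach F Q₁ A → Reach F Q₂ B → IsSink F A → IsSink F B →
      Reach F A B := by
    intro Q₁ Q₂ Y₁ Y₂ A B g hQ₁ hQY hY₁ hY₂ hg hgQ hn hA hB hAs hBs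
    have hY₁S : Y₁ ≤ S := hg.left_le
    have hY₂S : Y₂ ≤ S := hg.right_le
    have hsat := hbig Y₁ hY₁S ((isConj_card_eq hQ₁).trans_lt (card_lt_of_lt' hY₁S hQY))
    obtain ⟨Y', Q₀, u, hstd, hu, huQ⟩ := exists_std hS hQY.le hsat
    obtain ⟨u₁, hu₁, -, hu₁Q, -⟩ := to_std hS hstd hQY.le hu huQ
    obtain ⟨g', hg', hg'g, -⟩ := hg.symm
    have hQ₂Y : Q₂ ≤ Y₂ := fun y hy => by
      obtain ⟨x, hx, rfl⟩ := hgQ.exists_eq hy
      exact hg.mem (hQY.le hx)
    have hg'Q : Iso F Q₂ Q₁ g' := by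
      refine ⟨hg'.1.mono hQ₂Y, fun x => ⟨fun hx => ⟨g x, hgQ.mem hx, hg'g x (hQY.le hx)⟩, ?_⟩⟩
      rintro ⟨y, hy, rfl⟩
      obtain ⟨x, hx, rfl⟩ := hgQ.exists_eq hy
      rw [hg'g x (hQY.le hx)]
      exact hx
    obtain ⟨u₂, hu₂, -, hu₂Q, -⟩ := to_std hS hstd hQ₂Y (hg'.comp hu) (hg'Q.comp huQ)
    have big : ∀ Q Y, Q ≤ Y → Y < normalizerIn S Q → Y < pairNorm S Y Q := fun Q Y _ h =>
      lt_of_lt_of_le (lt_inf_normalizer hS (normalizerIn_le S Q) h)
        fun a ha => ⟨⟨ha.1.1, ha.2⟩, ha.1⟩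
    have h1 := big Q₁ Y₁ hQY.le hY₁
    have h2 := big Q₂ Y₂ hQ₂Y hY₂
    have c1 := card_lt_of_lt' (pairNorm_le S Y₁ Q₁) h1
    have c2 := card_lt_of_lt' (pairNorm_le S Y₂ Q₂) h2
    have c3 := hg.card_eq
    have d1 : Nat.card ↥(pairNorm S Y₁ Q₁) ≤ Nat.card S :=
      Nat.le_of_dvd Nat.card_pos (Subgroup.card_dvd_of_le (pairNorm_le S Y₁ Q₁))
    have d2 : Nat.card ↥(pairNorm S Y₂ Q₂) ≤ Nat.card S :=
      Nat.le_of_dvd Nat.card_pos (Subgroup.card_dvd_of_le (pairNorm_le S Y₂ Q₂))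
    obtain ⟨C, hC, hCs⟩ := exists_sink (F := F) huQ.right_le
    have hQ₂ : F.IsConj P Q₂ := isConj_trans hQ₁ hgQ.isConj
    have r1 := (ih _ (by omega)).2 Q₁ Q₀ A C _ u₁ hQ₁ (lt_of_lt_of_le hQY h1.le)
      inf_le_right hu₁ hu₁Q rfl hA hC hAs hCs
    have r2 := (ih _ (by omega)).2 Q₂ Q₀ B C _ u₂ hQ₂
      (lt_of_le_of_lt hQ₂Y h2) inf_le_right hu₂ hu₂Q rfl hB hC hBs hCs
    exact r1.trans (hBs C r2)
  have hA : ∀ m ≤ n, ∀ Q A B, F.IsConj P Q →
      Nat.card S - Nat.card ↥(normalizerIn S Q) = m → Reach F Q A →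
      Reach F Q B → IsSink F A → IsSink F B → Reach F A B := by
    intro m hm Q A B hQ hn hA hB hAs hBs
    rcases lt_or_eq_of_le hm with hm | rfl
    · exact (ih m hm).1 Q A B hQ hn hA hB hAs hBs
    rcases le_or_gt (Nat.card ↥(normalizerIn S A)) (Nat.card ↥(normalizerIn S Q)) with h | hAlt
    · exact (hA.symm_of_card h).trans hB
    rcases le_or_gt (Nat.card ↥(normalizerIn S B)) (Nat.card ↥(normalizerIn S Q)) with h | hBlt
    · exact hBs A ((hB.symm_of_card h).trans hA)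
    obtain ⟨a, ha, haQ⟩ := hA
    obtain ⟨b, hb, hbQ⟩ := hB
    obtain ⟨Ya, hYa⟩ := ha.exists_iso
    obtain ⟨Yb, hYb⟩ := hb.exists_iso
    obtain ⟨a', ha', ha'a, -⟩ := hYa.symm
    have hQN := le_normalizerIn (S := S) (isConj_le_right hQ)
    have hlt : Q < normalizerIn S Q := lt_normalizerIn hS (hne' Q hQ)
    have hYaN : Ya < normalizerIn S A := by
      refine lt_of_le_of_ne (fun y hy => ?_) fun he => hAlt.ne (by rw [← he, hYa.card_eq])
      obtain ⟨x, hx, rfl⟩ := hYa.exists_eq hy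
      exact ha.mem_normalizerIn hQN haQ hx hx.2
    have hYbN : Yb < normalizerIn S B := by
      refine lt_of_le_of_ne (fun y hy => ?_) fun he => hBlt.ne (by rw [← he, hYb.card_eq])
      obtain ⟨x, hx, rfl⟩ := hYb.exists_eq hy
      exact hb.mem_normalizerIn hQN hbQ hx hx.2
    have hAY : A < Ya := by
      refine lt_of_le_of_ne (fun y hy => ?_) fun he => ?_
      · obtain ⟨x, hx, rfl⟩ := haQ.exists_eq hy
        exact hYa.mem (hQN hx)
      · have h1 := card_lt_of_lt' (normalizerIn_le S Q) hlt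
        rw [haQ.card_eq, hYa.card_eq, he] at h1
        exact lt_irrefl _ h1
    have hi : Iso F A Q a' := by
      refine ⟨ha'.1.mono hAY.le, fun x => ⟨fun hx => ⟨a x, haQ.mem hx, ha'a x (hQN hx)⟩, ?_⟩⟩
      rintro ⟨y, hy, rfl⟩
      obtain ⟨x, hx, rfl⟩ := haQ.exists_eq hy
      rw [ha'a x (hQN hx)]
      exact hx
    exact key A B Ya Yb A B (b ∘ a') (isConj_trans hQ haQ.isConj) hAY hYaN hYbN (ha'.comp hYb)
      (hi.comp hbQ) (by rw [← hYa.card_eq]; omega) (reach_refl haQ.right_le)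
      (reach_refl hbQ.right_le) hAs hBs
  refine ⟨hA n le_rfl, fun Q Q' A B Y g hQ hQY hYN hg hgQ hn hrA hrB hAs hBs => ?_⟩
  obtain ⟨Y', hY'⟩ := hg.exists_iso
  have hY'N : Y' ≤ normalizerIn S Q' := fun y hy => by
    obtain ⟨x, hx, rfl⟩ := hY'.exists_eq hy
    exact hg.mem_normalizerIn hQY.le hgQ hx (hYN hx).2
  rcases eq_or_lt_of_le hYN with rfl | hYlt
  · exact hA n le_rfl Q A B hQ hn hrA (Reach.trans ⟨g, hg, hgQ⟩ hrB) hAs hBs
  rcases eq_or_lt_of_le hY'N with rfl | hY'lt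
  · obtain ⟨g', hg', hg'g, -⟩ := hY'.symm
    have hr : Reach F Q' Q := by
      refine ⟨g', hg'.1, hg'.1.mono (le_normalizerIn hgQ.right_le), fun x =>
        ⟨fun hx => ⟨g x, hgQ.mem hx, hg'g x (hQY.le hx)⟩, ?_⟩⟩
      rintro ⟨y, hy, rfl⟩
      obtain ⟨x, hx, rfl⟩ := hgQ.exists_eq hy
      rw [hg'g x (hQY.le hx)]
      exact hx
    exact hA n le_rfl Q' A B (isConj_trans hQ hgQ.isConj) (by rw [← hY'.card_eq]; exact hn)
      (hr.trans hrA) hrB hAs hBs
  exact key Q Q' Y Y' A B g hQ hQY hYlt hY'lt hY' hgQ hn.le hrA hrB hAs hBs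

/-- All sinks of the class are mutually reachable, when every conjugation is a chain. -/
theorem exists_top (hS : IsPGroup p S) (hPS : P ≤ S) (hne : P ≠ S)
    (hbig : ∀ Y : Subgroup Ω, Y ≤ S → Nat.card P < Nat.card Y → SatClass F p Y)
    (hch : ∀ Q f, Iso F P Q f → Chain F P Q f) :
    ∃ P₀, F.IsConj P P₀ ∧ ∀ Q, F.IsConj P Q → Reach F Q P₀ := by
  obtain ⟨P₀, hP₀, hP₀s⟩ := exists_sink (F := F) hPS
  refine ⟨P₀, hP₀.isConj, fun Q hQ => ?_⟩
  obtain ⟨f, hf⟩ := isConj_iff.1 hQ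
  have key : ∀ {A B f}, Chain F A B f → A = P → ∀ C, Reach F B C → IsSink F C → Reach F P₀ C := by
    intro A B f hc
    induction hc with
    | refl hA hf =>
      rintro rfl C hC hCs
      exact (sinks_reach hS hPS hne hbig _).1 _ P₀ C (isConj_refl hPS) rfl hP₀ hC hP₀s hCs
    | @step M B a b c hc hl hh ih =>
      rintro rfl C hC hCs
      obtain ⟨D, hD, hDs⟩ := exists_sink (F := F) hl.1.left_le
      obtain ⟨hb, Y, hMY, hYN, hbY⟩ := hl
      exact (ih rfl D hD hDs).trans ((sinks_reach hS hPS hne hbig _).2 M B D C Y b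
        hc.iso.isConj hMY hYN hbY hb rfl hD hC hDs hCs)
  obtain ⟨C, hC, hCs⟩ := exists_sink (F := F) hf.right_le
  exact hC.trans (hP₀s C (key (hch Q f hf) rfl C hC hCs))

/-- In a system generated by the maps with source in `ℋ`, conjugations outside `ℋ` are chains. -/
theorem chain_of_generated (hS : IsPGroup p S) {ℋ : Set (Subgroup Ω)} (hℋS : ∀ P ∈ ℋ, P ≤ S)
    (hℋconj : ∀ P ∈ ℋ, ∀ Q, F.IsConj P Q → Q ∈ ℋ) (hSℋ : S ∈ ℋ)
    (hgen : ∀ E : FusionSystem S, (∀ P ∈ ℋ, F.Hom P ⊆ E.Hom P) → F ≤ E)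
    (hP : P ∉ ℋ) : ∀ Q f, Iso F P Q f → Chain F P Q f := by
  let M : Subgroup Ω → (Ω → Ω) → Prop := fun A f =>
    Mor F A f ∧ ∀ R, R ≤ A → F.IsConj P R → ∀ R', Iso F R R' f → Chain F R R' f
  have hout : ∀ R, F.IsConj P R → R ∉ ℋ := fun R hR hmem => hP (hℋconj R hmem P (isConj_symm hR))
  have hM : SubRel F S M :=
    { congr := fun {A f g} hf he => ⟨hf.1.congr he, fun R hR hPR R' hi =>
        (hf.2 R hR hPR R' (hi.congr fun x hx => (he x (hR hx)).symm)).congr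
          fun x hx => he x (hR hx)⟩
      le := fun hf => ⟨hf.1.le, fun x hx => hf.1.mem_S hx⟩
      conj := fun {A s} hA hs => ⟨mor_conj hA hs, mor_conj hA hs, fun R hR hPR R' hi =>
        .step (.refl hi.left_le fun _ _ => rfl)
          ⟨hi, normalizerIn S R, lt_normalizerIn hS (lt_of_le_of_ne hi.left_le
            fun he => hout R hPR (he ▸ hSℋ)), le_rfl, mor_conj (normalizerIn_le S R) hs⟩
          fun _ _ => rfl⟩
      comp := fun {A B f g} hf hMf hg hMg hfB => ⟨hf.comp hg hfB, fun R hR hPR R'' hi => by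
        obtain ⟨R', hR'⟩ := (hf.mono hR).exists_iso
        have hR'B : R' ≤ B := fun y hy => by
          obtain ⟨x, hx, rfl⟩ := hR'.exists_eq hy
          exact hfB x (hR hx)
        obtain ⟨R₂, hR₂⟩ := (hg.mono hR'B).exists_iso
        have e : R₂ = R'' := (hR'.comp hR₂).eq_image hi
        exact e ▸ (hMg.2 R' hR'B (isConj_trans hPR hR'.isConj) R₂ hR₂).trans
          (hMf.2 R hR hPR R' hR')⟩
      inv := fun {A B f g} hf hMf hg hgf => ⟨hg.1, fun R hR hPR R' hi => by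
        have hR'A : R' ≤ A := fun y hy => by
          obtain ⟨x, hx, rfl⟩ := hi.exists_eq hy
          exact hg.mem (hR hx)
        have hback : ∀ x ∈ R, f (g x) = x := fun x hx => by
          obtain ⟨a, ha, rfl⟩ := hf.exists_eq (hR hx)
          rw [hgf a ha]
        have hfi : Iso F R' R f := by
          refine ⟨hf.1.mono hR'A, fun y => ⟨fun hy => ⟨g y, hi.mem hy, hback y hy⟩, ?_⟩⟩
          rintro ⟨x, hx, rfl⟩
          obtain ⟨z, hz, rfl⟩ := hi.exists_eq hx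
          rw [hback z hz]
          exact hz
        obtain ⟨f', hf', hf'f⟩ := (hMf.2 R' hR'A (isConj_trans hPR hi.isConj) R hfi).symm
        exact hf'.congr fun x hx => by
          obtain ⟨z, hz, rfl⟩ := hfi.exists_eq hx
          rw [hgf z (hR'A hz), hf'f z hz]⟩ }
  have hFE : F ≤ subSys hM := hgen _ fun H hH φ hφ => ⟨hφ, mor_extendFn hφ, fun R hR hPR R' hi => by
    have hlt : R < H := lt_of_le_of_ne hR fun he => hout R hPR (he ▸ hH)
    exact .step (.refl hi.left_le fun _ _ => rfl)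
      ⟨hi, _, lt_inf_normalizer hS (hℋS H hH) hlt,
        inf_le_inf_right _ (hℋS H hH), (mor_extendFn hφ).mono inf_le_left⟩ fun _ _ => rfl⟩
  intro Q f hf
  exact ((mor_subSys hM).1 (le_iff_mor.1 hFE P f hf.1)).2.2 P le_rfl (isConj_refl hf.left_le) Q hf

end

end Cfsg.Agent.FusSys
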