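import Cfsg.Agent.FusSys.Criteria
import Cfsg.Agent.FusSys.Model
import Cfsg.Agent.FusSys.SmallCentral

/-!
Saturated systems on a semi-extraspecial group with abelian centralisers (e.g. a Sylow p-subgroup of
SL(3, q)): either the core is trivial or the system is realizable.
-/

set_option autoImplicit false

namespace Cfsg.Agent.FusSys.SemiExtra

open Cfsg Cfsg.FusionSystem

universe u

variable {Ω : Type u} [Group Ω] {S Z : Subgroup Ω} {F : FusionSystem S} {p : ℕ}

/-- `Z` is central in `S`, every commutator lies in `Z`, each non-central element has full commutator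
set and abelian centraliser. -/
structure Heis (S Z : Subgroup Ω) : Prop where
  zle : Z ≤ S
  zne : ∃ z ∈ Z, z ≠ 1
  zcen : ∀ z ∈ Z, ∀ s ∈ S, s * z = z * s
  comm : ∀ a ∈ S, ∀ b ∈ S, a * b * a⁻¹ * b⁻¹ ∈ Z
  full : ∀ a ∈ S, a ∉ Z → ∀ z ∈ Z, ∃ s ∈ S, a * s * a⁻¹ * s⁻¹ = z
  ab : ∀ a ∈ S, a ∉ Z → ∀ b ∈ S, ∀ c ∈ S, Commute a b → Commute a c → Commute b c
  nonab : ∃ a ∈ S, a ∉ Z

/-- The chain `1 ≤ Z ≤ Ω`. -/
def chn (Z : Subgroup Ω) : ℕ → Subgroup Ω := fun i => if i = 0 then ⊥ else if i = 1 then Z else ⊤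

theorem chain_mono (Z : Subgroup Ω) : Monotone (chn Z) := by
  intro i j hij
  rcases i with _ | _ | i
  · simp [chn]
  · rcases j with _ | _ | j
    · omega
    · simp [chn]
    · simp [chn]
  · rcases j with _ | _ | j
    · omega
    · omega
    · simp [chn]

variable (h : Heis S Z)
include h

theorem mem_Z_of_central {x : Ω} (hx : x ∈ S) (hc : ∀ s ∈ S, Commute x s) : x ∈ Z := by
  by_contra hxZ
  obtain ⟨z, hz, hz1⟩ := h.zne
  obtain ⟨s, hs, hs'⟩ := h.full x hx hxZ z hz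
  refine hz1 (hs'.symm.trans ?_)
  rw [(hc s hs).eq]; group

/-- Conjugation by `s` on an element of `S` changes it only by `Z`. -/
theorem conj_mem_Z {s x : Ω} (hs : s ∈ S) (hx : x ∈ S) : x⁻¹ * (s * x * s⁻¹) ∈ Z := by
  have h1 := h.comm x⁻¹ (S.inv_mem hx) s hs
  have e : x⁻¹ * (s * x * s⁻¹) = x⁻¹ * s * x⁻¹⁻¹ * s⁻¹ := by group
  rw [e]; exact h1

variable [Fact p.Prime] [Finite S] (hS : IsPGroup p S) (hF : F.IsSaturated p)
include hS hF

theorem centric_Z_le {E : Subgroup Ω} (hc : F.IsCentric E) : Z ≤ E := fun z hz =>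
  centric_self hc ⟨h.zle hz, Subgroup.mem_centralizer_iff.2 fun x hx => h.zcen z hz x (hc.1 hx)⟩

theorem ne_top {E : Subgroup Ω} (hE : F.IsEssential p E) : E < S :=
  lt_of_le_of_ne hE.1.1 fun e => by subst e; exact SmallCentral.not_essential_top' hS hF hE

theorem exists_outside {E : Subgroup Ω} (hE : F.IsEssential p E) : ∃ a ∈ E, a ∉ Z := by
  by_contra hno
  push Not at hno
  obtain ⟨a, ha, haZ⟩ := h.nonab
  refine haZ (hno a (centric_self hE.1 ⟨ha, Subgroup.mem_centralizer_iff.2 fun x hx => ?_⟩))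
  exact (h.zcen x (hno x hx) a ha).symm

theorem le_normalizer {E : Subgroup Ω} (hZE : Z ≤ E) (hES : E ≤ S) :
    S ≤ Subgroup.normalizer (E : Set Ω) := by
  intro s hs
  have key : ∀ t ∈ S, ∀ x ∈ E, t * x * t⁻¹ ∈ E := fun t ht x hx => by
    have h1 := E.mul_mem hx (hZE (conj_mem_Z h ht (hES hx)))
    rwa [mul_inv_cancel_left] at h1
  refine Subgroup.mem_normalizer_iff.2 fun x => ⟨key s hs x, fun hx => ?_⟩
  have h1 := key s⁻¹ (S.inv_mem hs) _ hx
  have e : s⁻¹ * (s * x * s⁻¹) * s⁻¹⁻¹ = x := by group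
  rwa [e] at h1

theorem pCore_out_trivial {E : Subgroup Ω} (hE : F.IsEssential p E) {α : MulAut E}
    (hα : α ∈ F.autGroup E) (N : Subgroup (F.autGroup E)) [N.Normal] (hN : IsPGroup p N)
    (hαN : (⟨α, hα⟩ : F.autGroup E) ∈ N) : α ∈ Inn E := by
  have hα' := hE.1.1
  obtain ⟨-, -, hn, R, hR⟩ := hE
  haveI : (innIn F E).Normal := hn
  haveI := finite_of_le (hα' : E ≤ S)
  haveI : Finite (MulAut E) := Finite.of_injective _ MulEquiv.toEquiv_injective
  haveI := (inferInstance : N.Normal).map (QuotientGroup.mk' (innIn F E))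
    (QuotientGroup.mk'_surjective _)
  have h1 : N.map (QuotientGroup.mk' (innIn F E)) ≤ ⊥ :=
    pCore_eq_bot_of_stronglyPEmbedded hR ▸ Cfsg.Agent.Core.le_pCore (hN.map _)
  rw [le_bot_iff, Subgroup.map_eq_bot_iff, QuotientGroup.ker_mk'] at h1
  exact Subgroup.mem_subgroupOf.1 (h1 hαN)

theorem stab_isPGroup {E : Subgroup Ω} (hES : E ≤ S) :
    haveI := finite_of_le hES
    IsPGroup p ↥(F.autGroup E ⊓ chainStab (P := E) _ (chain_mono Z) 2) := by
  haveI := finite_of_le hES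
  refine isPGroup_chainStab (hS.to_le hES) _ (fun x _ => by simp [chn]) fun δ _ _ x hx hx0 => ?_
  simp only [chn, ↓reduceIte, Subgroup.mem_bot] at hx0
  subst hx0
  rw [apl_apply δ hx, show (⟨1, hx⟩ : E) = 1 from rfl, map_one, Subgroup.coe_one]

omit h hS hF in
theorem mem_stab {E : Subgroup Ω} [Finite E] {α : MulAut E} :
    α ∈ chainStab (P := E) _ (chain_mono Z) 2 ↔
      (∀ x ∈ E, x ∈ Z → apl α x = x) ∧ ∀ x ∈ E, x⁻¹ * apl α x ∈ Z := by
  rw [mem_chainStab]
  constructor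
  · intro H
    refine ⟨fun x hx hxZ => ?_, fun x hx => ?_⟩
    · have := H 0 (by norm_num) x hx (by simpa [chn] using hxZ)
      exact (inv_mul_eq_one.1 (show x⁻¹ * apl α x = 1 by simpa [chn] using this)).symm
    · simpa [chn] using H 1 (by norm_num) x hx (by simp [chn])
  · rintro ⟨H0, H1⟩ i hi x hx hxC
    rcases i with _ | _ | i
    · simp [chn] at hxC ⊢
      rw [H0 x hx hxC, inv_mul_cancel]
    · simpa [chn] using H1 x hx
    · omega

/-- Essential subgroups are abelian. -/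
theorem ess_comm {E : Subgroup Ω} (hE : F.IsEssential p E) :
    ∀ a ∈ E, ∀ b ∈ E, Commute a b := by
  by_contra hno
  push Not at hno
  obtain ⟨a, ha, b, hb, hab⟩ := hno
  have hES := hE.1.1
  haveI := finite_of_le hES
  have hZE := centric_Z_le h hS hF hE.1
  have hZchar : ∀ α ∈ F.autGroup E, ∀ x ∈ E, x ∈ Z → apl α x ∈ Z := by
    intro α hα x hx hxZ
    by_contra hn
    have hcen : ∀ y ∈ E, Commute (apl α x) y := fun y hy => by
      have h1 : x * apl α⁻¹ y = apl α⁻¹ y * x :=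
        (h.zcen x hxZ _ (hES (apl_mem _ hy))).symm
      have h2 := congrArg (apl α) h1
      rw [(iso_apl hES hα).1.map_mul hx (apl_mem _ hy),
        (iso_apl hES hα).1.map_mul (apl_mem _ hy) hx, apl_apl_inv α hy] at h2
      exact h2
    exact hab (h.ab _ (hES (apl_mem α hx)) hn a (hES ha) b (hES hb) (hcen a ha) (hcen b hb))
  set Γ := F.autGroup E ⊓ chainStab (P := E) _ (chain_mono Z) 2 with hΓ
  have hnorm : (Γ.subgroupOf (F.autGroup E)).Normal := ⟨fun γ hγ α => by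
    refine Subgroup.mem_subgroupOf.2 ⟨Subgroup.mul_mem _ (Subgroup.mul_mem _ α.2 γ.2)
      (Subgroup.inv_mem _ α.2), chainStab_conj (fun i _ x hx => ?_) (Subgroup.mem_subgroupOf.1 hγ).2⟩
    rcases i with _ | _ | i
    · simp only [chn, ↓reduceIte, Subgroup.mem_bot]
      refine ⟨fun e => ?_, fun e => ?_⟩
      · have h1 := apl_inv_apl (α : MulAut E) hx
        rw [e] at h1
        rw [← h1, apl_apply _ E.one_mem, show (⟨1, E.one_mem⟩ : E) = 1 from rfl, map_one, Subgroup.coe_one]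
      · subst e
        rw [apl_apply _ hx, show (⟨1, hx⟩ : E) = 1 from rfl, map_one, Subgroup.coe_one]
    · simp only [chn, zero_add, one_ne_zero, ↓reduceIte]
      refine ⟨fun hy => ?_, hZchar _ α.2 x hx⟩
      have h1 := hZchar _ (Subgroup.inv_mem _ α.2) _ (apl_mem _ hx) hy
      rwa [apl_inv_apl _ hx] at h1
    · simp [chn]⟩
  obtain ⟨s, hs, hsE⟩ := SetLike.exists_of_lt (ne_top h hS hF hE)
  obtain ⟨β, hβ, hβx⟩ := exists_mem_autInducedBy (P := E) hs (le_normalizer h hS hF hZE hES hs)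
  have hβA := autInducedBy_le_autGroup (F := F) hES hβ
  have hβΓ : β ∈ Γ := ⟨hβA, mem_stab.2 ⟨fun x hx hxZ => by
      rw [hβx x hx, h.zcen x hxZ s hs, mul_inv_cancel_right],
    fun x hx => by rw [hβx x hx]; exact conj_mem_Z h hs (hES hx)⟩⟩
  haveI := hnorm
  have hi := pCore_out_trivial h hS hF hE hβA (Γ.subgroupOf (F.autGroup E))
    (stab_isPGroup h hS hF hES).comap_subtype (Subgroup.mem_subgroupOf.2 hβΓ)
  exact hsE (mem_of_conj_mem_inn (centric_self hE.1) hES hs hβx hi)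

/-- An essential subgroup is the centraliser of each of its non-central elements. -/
theorem ess_eq_centralizer {E : Subgroup Ω} (hE : F.IsEssential p E) {a : Ω} (ha : a ∈ E)
    (haZ : a ∉ Z) {x : Ω} : x ∈ E ↔ x ∈ S ∧ Commute a x := by
  refine ⟨fun hx => ⟨hE.1.1 hx, ess_comm h hS hF hE a ha x hx⟩, fun ⟨hx, hax⟩ => ?_⟩
  refine centric_self hE.1 ⟨hx, Subgroup.mem_centralizer_iff.2 fun e he => ?_⟩
  exact h.ab a (hE.1.1 ha) haZ e (hE.1.1 he) x hx (ess_comm h hS hF hE a ha e he) hax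

/-- The key step: no essential subgroup when a nontrivial normal subgroup lies in the centre. -/
theorem no_essential {Q : Subgroup Ω} (hQ : F.IsNormal Q) (hQZ : Q ≤ Z) (hQ1 : Q ≠ ⊥)
    {E : Subgroup Ω} (hE : F.IsEssential p E) : False := by
  have hES := hE.1.1
  haveI := finite_of_le hES
  haveI : Finite (MulAut E) := Finite.of_injective _ MulEquiv.toEquiv_injective
  have hZE := centric_Z_le h hS hF hE.1
  have hsc := stronglyClosed_of_isNormal hQ
  obtain ⟨q₀, hq₀, hq₀1⟩ : ∃ q ∈ Q, q ≠ 1 := by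
    by_contra hno; push Not at hno
    exact hQ1 ((Subgroup.eq_bot_iff_forall Q).2 hno)
  have hnorm := le_normalizer h hS hF hZE hES
  have hInn : ∀ α : MulAut E, α ∈ Inn E → α = 1 := by
    rintro _ ⟨b, rfl⟩
    refine apl_ext fun x hx => ?_
    rw [apl_conj b hx, apl_one hx, (ess_comm h hS hF hE b b.2 x hx).eq, mul_inv_cancel_right]
  obtain ⟨-, T, hT⟩ := fullyAutomized_of_fullyNormalized hS hF hE.2.1
  have memT : ∀ β : F.autGroup E, β ∈ (T : Subgroup (F.autGroup E)) ↔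
      ∃ s ∈ S, ∀ x ∈ E, apl (β : MulAut E) x = s * x * s⁻¹ := fun β => by
    rw [hT, Subgroup.mem_subgroupOf, mem_autInducedBy_iff]
    exact ⟨fun ⟨s, hs, _, hx⟩ => ⟨s, hs, fun x hxE => (hx x hxE).symm ▸ rfl⟩,
      fun ⟨s, hs, hx⟩ => ⟨s, hs, hnorm hs, fun x hxE => hx x hxE⟩⟩
  have hTfix : ∀ β ∈ (T : Subgroup (F.autGroup E)), ∀ x ∈ E, x ∈ Z → apl (β : MulAut E) x = x := by
    intro β hβ x hx hxZ
    obtain ⟨s, hs, hsx⟩ := (memT β).1 hβ
    rw [hsx x hx, h.zcen x hxZ s hs, mul_inv_cancel_right]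
  have hTfix' : ∀ β ∈ (T : Subgroup (F.autGroup E)), β ≠ 1 → ∀ x ∈ E,
      apl (β : MulAut E) x = x → x ∈ Z := by
    intro β hβ hβ1 x hx hfix
    by_contra hxZ
    refine hβ1 (Subtype.ext (apl_ext fun e he => ?_))
    obtain ⟨s, hs, hsx⟩ := (memT β).1 hβ
    have hsE : s ∈ E := (ess_eq_centralizer h hS hF hE hx hxZ).2 ⟨hs, by
      rw [hsx x hx, mul_inv_eq_iff_eq_mul] at hfix; exact hfix.symm⟩
    rw [hsx e he, OneMemClass.coe_one, apl_one he, (ess_comm h hS hF hE s hsE e he).eq,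
      mul_inv_cancel_right]
  have hTcomm : ∀ β ∈ (T : Subgroup (F.autGroup E)), ∀ γ ∈ (T : Subgroup (F.autGroup E)),
      β * γ = γ * β := by
    intro β hβ γ hγ
    obtain ⟨s, hs, hsx⟩ := (memT β).1 hβ
    obtain ⟨r, hr, hrx⟩ := (memT γ).1 hγ
    refine Subtype.ext (apl_ext fun x hx => ?_)
    rw [Subgroup.coe_mul, Subgroup.coe_mul, apl_mul _ _ hx, apl_mul _ _ hx, hrx x hx, hsx x hx,
      hsx _ ((Subgroup.mem_normalizer_iff.1 (hnorm hr) x).1 hx),
      hrx _ ((Subgroup.mem_normalizer_iff.1 (hnorm hs) x).1 hx)]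
    have hz := h.comm s hs r hr
    calc s * (r * x * r⁻¹) * s⁻¹
        = (s * r * s⁻¹ * r⁻¹) * (r * (s * x * s⁻¹) * r⁻¹) * (s * r * s⁻¹ * r⁻¹)⁻¹ := by group
      _ = r * (s * x * s⁻¹) * r⁻¹ := by
        rw [← h.zcen _ hz _ (S.mul_mem (S.mul_mem hr (S.mul_mem (S.mul_mem hs (hES hx)) (S.inv_mem hs)))
          (S.inv_mem hr)), mul_inv_cancel_right]
  set K : Subgroup (F.autGroup E) :=
    (F.autGroup E ⊓ chainStab (P := E) _ (chain_mono Z) 2).subgroupOf (F.autGroup E) with hK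
  have hKp : IsPGroup p K := (stab_isPGroup h hS hF hES).comap_subtype
  have hTK : (T : Subgroup (F.autGroup E)) ≤ K := fun β hβ =>
    Subgroup.mem_subgroupOf.2 ⟨β.2, mem_stab.2 ⟨hTfix β hβ, fun x hx => by
      obtain ⟨s, hs, hsx⟩ := (memT β).1 hβ
      rw [hsx x hx]; exact conj_mem_Z h hs (hES hx)⟩⟩
  have hKT : K = T := T.3 hKp hTK
  -- elements preserving the centre normalise `T`
  have hNT : ∀ g : F.autGroup E, (∀ x ∈ E, apl (g : MulAut E) x ∈ Z ↔ x ∈ Z) →
      g ∈ Subgroup.normalizer ((T : Subgroup (F.autGroup E)) : Set (F.autGroup E)) := by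
    intro g hg
    refine Subgroup.mem_normalizer_fintype fun β hβ => ?_
    rw [SetLike.mem_coe, ← hKT] at hβ ⊢
    refine Subgroup.mem_subgroupOf.2 ⟨(g * β * g⁻¹).2, ?_⟩
    refine chainStab_conj (α := (g : MulAut E)) (fun i _ x hx => ?_) (Subgroup.mem_subgroupOf.1 hβ).2
    rcases i with _ | _ | i
    · simp only [chn, ↓reduceIte, Subgroup.mem_bot]
      refine ⟨fun e => ?_, fun e => ?_⟩
      · have h1 := apl_inv_apl (g : MulAut E) hx
        rw [e] at h1
        rw [← h1, apl_apply _ E.one_mem, show (⟨1, E.one_mem⟩ : E) = 1 from rfl, map_one, Subgroup.coe_one]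
      · subst e
        rw [apl_apply _ hx, show (⟨1, hx⟩ : E) = 1 from rfl, map_one, Subgroup.coe_one]
    · simp only [chn, zero_add, one_ne_zero, ↓reduceIte]
      exact hg x hx
    · simp [chn]
  -- trivial intersection
  have hTI : ∀ T₁ : Sylow p (F.autGroup E), ∀ t ∈ (T : Subgroup (F.autGroup E)), t ≠ 1 →
      t ∈ (T₁ : Subgroup (F.autGroup E)) → T₁ = T := by
    intro T₁ t ht ht1 ht₁
    refine Sylow.ext (T₁.3 T.2 ?_).symm
    intro u hu
    have hcomm : u * t = t * u := by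
      obtain ⟨g, rfl⟩ := MulAction.exists_smul_eq (F.autGroup E) T T₁
      rw [Sylow.coe_subgroup_smul] at hu ht₁
      obtain ⟨u', hu', rfl⟩ := hu
      obtain ⟨t', ht', rfl⟩ := ht₁
      exact ((map_mul _ u' t').symm.trans (congrArg _ (hTcomm u' hu' t' ht'))).trans (map_mul _ t' u')
    have hpres : ∀ w : F.autGroup E, w * t = t * w → ∀ x ∈ E, x ∈ Z → apl (w : MulAut E) x ∈ Z := by
      intro w hw x hx hxZ
      refine hTfix' t ht ht1 _ (apl_mem _ hx) ?_
      rw [← apl_mul _ _ hx, ← Subgroup.coe_mul, ← hw, Subgroup.coe_mul, apl_mul _ _ hx,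
        hTfix t ht x hx hxZ]
    have hn := hNT u fun x hx => ⟨fun hy => ?_, hpres u hcomm x hx⟩
    · obtain ⟨k, hk⟩ := T₁.2 ⟨u, hu⟩
      have hup : IsPGroup p (Subgroup.zpowers u) := by
        rintro ⟨_, i, rfl⟩
        refine ⟨k, Subtype.ext ?_⟩
        have hk' : u ^ p ^ k = 1 := congrArg Subtype.val hk
        show (u ^ i) ^ p ^ k = 1
        rw [← zpow_natCast, ← zpow_mul, mul_comm, zpow_mul, zpow_natCast, hk', one_zpow]
      have hp' : IsPGroup p ((T : Subgroup (F.autGroup E)) ⊔ Subgroup.zpowers u : Subgroup _) :=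
        IsPGroup.to_sup_of_normal_left' T.2 hup (Subgroup.zpowers_le.2 hn)
      rw [← T.3 hp' le_sup_left]
      exact Subgroup.mem_sup_right (Subgroup.mem_zpowers u)
    · have h1 := hpres u⁻¹ (by
        calc u⁻¹ * t = u⁻¹ * (t * u) * u⁻¹ := by group
          _ = t * u⁻¹ := by rw [← hcomm]; group) _ (apl_mem _ hx) hy
      rwa [Subgroup.coe_inv, apl_inv_apl _ hx] at h1
  -- a second Sylow subgroup
  obtain ⟨g, hg⟩ : ∃ g : F.autGroup E, g • T ≠ T := by
    by_contra hall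
    push Not at hall
    obtain ⟨s, hs, hsE⟩ := SetLike.exists_of_lt (ne_top h hS hF hE)
    obtain ⟨β, hβ, hβx⟩ := exists_mem_autInducedBy (P := E) hs (hnorm hs)
    have hβA := autInducedBy_le_autGroup (F := F) hES hβ
    haveI : (T : Subgroup (F.autGroup E)).Normal := by
      rw [← Subgroup.normalizer_eq_top_iff, eq_top_iff]
      intro x _
      exact Sylow.smul_eq_iff_mem_normalizer.1 (hall x)
    have hi := pCore_out_trivial h hS hF hE hβA _ T.2 (by rw [hT]; exact hβ)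
    exact hsE (mem_of_conj_mem_inn (centric_self hE.1) hES hs hβx hi)
  set T' := g • T with hT'
  set gf : Ω → Ω := apl (g : MulAut E)
  have hgQ : ∀ x ∈ Q, ∃ y ∈ Q, gf y = x := fun x hx => by
    have hxE : x ∈ E := hZE (hQZ hx)
    refine ⟨apl ((g : MulAut E))⁻¹ x, ?_, apl_apl_inv _ hxE⟩
    exact (apl_invariant_of_stronglyClosed hsc hES (Subgroup.inv_mem _ g.2) hxE).2 hx
  have hT'fix : ∀ β ∈ (T' : Subgroup (F.autGroup E)), ∀ y ∈ E, y ∈ Z →
      apl (β : MulAut E) (gf y) = gf y := by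
    intro β hβ y hy hyZ
    rw [hT', Sylow.coe_subgroup_smul] at hβ
    obtain ⟨b, hb, rfl⟩ := hβ
    show apl ((g * b * g⁻¹ : F.autGroup E) : MulAut E) (apl (g : MulAut E) y) = _
    rw [Subgroup.coe_mul, Subgroup.coe_mul, Subgroup.coe_inv, apl_mul _ _ (apl_mem _ hy),
      apl_inv_apl _ hy, apl_mul _ _ hy, hTfix b hb y hy hyZ]
  obtain ⟨y, hy, hyZ⟩ : ∃ y, y ∈ Z ∧ gf y ∉ Z := by
    by_contra hall
    push Not at hall
    refine hg (Sylow.smul_eq_iff_mem_normalizer.2 (hNT g fun x hx => ⟨fun hz => ?_, fun hz => hall x hz⟩))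
    -- the restriction of `g` to the finite group `Z` is onto
    haveI := finite_of_le (h.zle)
    let r : Z → Z := fun z => ⟨gf z, hall z z.2⟩
    have hr : Function.Injective r := fun z w e => Subtype.ext ((iso_apl hES g.2).1.injOn (hZE z.2) (hZE w.2)
      (congrArg Subtype.val e))
    obtain ⟨z, hz'⟩ := (Finite.surjective_of_injective hr) ⟨_, hz⟩
    have := (iso_apl hES g.2).1.injOn (hZE z.2) hx (congrArg Subtype.val hz')
    exact this ▸ z.2
  set a := gf y with ha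
  have hyE := hZE hy
  have haE : a ∈ E := apl_mem _ hyE
  -- the common fixed part
  set R : Set Ω := {x | x ∈ Z ∧ ∃ w ∈ Z, gf w = x} with hR
  have hRq : q₀ ∈ R := by
    obtain ⟨w, hw, e⟩ := hgQ q₀ hq₀
    exact ⟨hQZ hq₀, w, hQZ hw, e⟩
  have hR1 : (1 : Ω) ∈ R := ⟨Z.one_mem, 1, Z.one_mem, by
    show apl _ 1 = 1
    rw [apl_apply _ E.one_mem, show (⟨1, E.one_mem⟩ : E) = 1 from rfl, map_one, Subgroup.coe_one]⟩
  have hRmul : ∀ r ∈ R, ∀ r' ∈ R, r * r' ∈ R := by
    rintro r ⟨hr, w, hw, rfl⟩ r' ⟨hr', w', hw', rfl⟩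
    exact ⟨Z.mul_mem hr hr', w * w', Z.mul_mem hw hw', (iso_apl hES g.2).1.map_mul (hZE hw) (hZE hw')⟩
  have hRinv : ∀ r ∈ R, r⁻¹ ∈ R := by
    rintro r ⟨hr, w, hw, rfl⟩
    exact ⟨Z.inv_mem hr, w⁻¹, Z.inv_mem hw, (iso_apl hES g.2).1.map_inv (hZE hw)⟩
  obtain ⟨s, hs, hsq⟩ := h.full a (hES haE) hyZ q₀ (hQZ hq₀)
  obtain ⟨β, hβ, hβx⟩ := exists_mem_autInducedBy (P := E) hs (hnorm hs)
  let t : F.autGroup E := ⟨β, autInducedBy_le_autGroup hES hβ⟩
  have htT : t ∈ (T : Subgroup (F.autGroup E)) := by rw [hT]; exact hβ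
  have hta : a⁻¹ * apl (t : MulAut E) a = q₀⁻¹ := by
    rw [show apl (t : MulAut E) a = s * a * s⁻¹ from hβx a haE, ← hsq]
    have hz := h.zcen _ (Z.inv_mem (hsq.symm ▸ hQZ hq₀)) _ (hES haE)
    calc a⁻¹ * (s * a * s⁻¹) = a⁻¹ * ((a * s * a⁻¹ * s⁻¹)⁻¹ * a) := by group
      _ = (a * s * a⁻¹ * s⁻¹)⁻¹ := by rw [← hz]; group
  have ht1 : t ≠ 1 := fun e => hq₀1 (inv_eq_one.1 (by
    rw [← hta, e, OneMemClass.coe_one, apl_one haE, inv_mul_cancel]))
  set Y : Subgroup (F.autGroup E) := (T' : Subgroup (F.autGroup E)) ⊔ Subgroup.zpowers t with hY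
  have hYP : ∀ u ∈ Y, (∀ r ∈ R, apl (u : MulAut E) r = r) ∧ a⁻¹ * apl (u : MulAut E) a ∈ R := by
    intro u hu
    rw [hY, Subgroup.zpowers_eq_closure, ← Subgroup.closure_eq (T' : Subgroup (F.autGroup E)),
      ← Subgroup.closure_union] at hu
    induction hu using Subgroup.closure_induction with
    | one => exact ⟨fun r hr => apl_one (hZE hr.1), by rw [OneMemClass.coe_one, apl_one haE, inv_mul_cancel]; exact hR1⟩
    | mem u hu =>
      rcases hu with hu | rfl
      · refine ⟨?_, by rw [hT'fix u hu y hyE hy, inv_mul_cancel]; exact hR1⟩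
        rintro r ⟨hr, w, hw, rfl⟩
        exact hT'fix u hu w (hZE hw) hw
      · exact ⟨fun r hr => hTfix t htT r (hZE hr.1) hr.1, by rw [hta]; exact hRinv _ hRq⟩
    | mul u v _ _ hu hv =>
      refine ⟨fun r hr => by rw [Subgroup.coe_mul, apl_mul _ _ (hZE hr.1), hv.1 r hr, hu.1 r hr], ?_⟩
      have hv2 := hv.2
      set r := a⁻¹ * apl (v : MulAut E) a with hrdef
      have e : apl (v : MulAut E) a = a * r := by rw [hrdef, mul_inv_cancel_left]
      rw [Subgroup.coe_mul, apl_mul _ _ haE, e, (iso_apl hES u.2).1.map_mul haE (hZE hv2.1),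
        hu.1 r hv2, ← mul_assoc]
      exact hRmul _ hu.2 _ hv2
    | inv u _ hu =>
      refine ⟨fun r hr => ?_, ?_⟩
      · conv_lhs => rw [← hu.1 r hr]
        rw [Subgroup.coe_inv, apl_inv_apl _ (hZE hr.1)]
      · set r := a⁻¹ * apl (u : MulAut E) a with hrdef
        have hr := hu.2
        have e : apl (u : MulAut E) a = a * r := by rw [hrdef, mul_inv_cancel_left]
        have e1 := apl_inv_apl (u : MulAut E) haE
        have hr' : apl (u : MulAut E)⁻¹ r = r := by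
          conv_lhs => rw [← hu.1 r hr]
          rw [apl_inv_apl _ (hZE hr.1)]
        rw [e, (iso_apl hES (Subgroup.inv_mem _ u.2)).1.map_mul haE (hZE hr.1), hr'] at e1
        rw [Subgroup.coe_inv, eq_mul_inv_of_mul_eq e1, inv_mul_cancel_left]
        exact hRinv _ hr
  have htY : t ∈ Y := Subgroup.mem_sup_right (Subgroup.mem_zpowers t)
  have hT'Y : (T' : Subgroup (F.autGroup E)) ≤ Y := le_sup_left
  obtain ⟨k, hk⟩ := T.2 ⟨t, htT⟩
  have hk' : t ^ p ^ k = 1 := congrArg Subtype.val hk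
  have htY' : IsPGroup p (Subgroup.zpowers (⟨t, htY⟩ : Y)) := by
    rintro ⟨_, i, rfl⟩
    refine ⟨k, Subtype.ext (Subtype.ext ?_)⟩
    show (t ^ i) ^ p ^ k = 1
    rw [← zpow_natCast, ← zpow_mul, mul_comm, zpow_mul, zpow_natCast, hk', one_zpow]
  obtain ⟨P, hP⟩ := htY'.exists_le_sylow
  obtain ⟨v, hv⟩ := MulAction.exists_smul_eq Y (T'.subtype hT'Y) P
  have htT₁ : t ∈ (((v : F.autGroup E) • T' : Sylow p _) : Subgroup (F.autGroup E)) := by
    have h1 := hP (Subgroup.mem_zpowers _)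
    rw [← hv, Sylow.coe_subgroup_smul] at h1
    obtain ⟨w, hw, e⟩ := h1
    rw [Sylow.coe_subgroup_smul]
    exact ⟨w, hw, congrArg Subtype.val e⟩
  have hTY : (T : Subgroup (F.autGroup E)) ≤ Y := by
    rw [← hTI _ t htT ht1 htT₁, Sylow.coe_subgroup_smul]
    rintro _ ⟨w, hw, rfl⟩
    exact Y.mul_mem (Y.mul_mem v.2 (hT'Y hw)) (Y.inv_mem v.2)
  -- the contradiction
  obtain ⟨z, hz, hzR⟩ : ∃ z ∈ Z, z ∉ R := by
    by_contra hall
    push Not at hall
    refine hyZ ?_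
    haveI := finite_of_le (h.zle)
    have hw : ∀ z : Z, ∃ w : Z, gf w = z := fun z => by
      obtain ⟨-, w, hw, e⟩ := hall z z.2; exact ⟨⟨w, hw⟩, e⟩
    choose r hr using hw
    have hinj : Function.Injective r := fun z z' e => Subtype.ext (by rw [← hr z, ← hr z', e])
    obtain ⟨z, hz⟩ := Finite.surjective_of_injective hinj ⟨y, hy⟩
    have := hr z
    rw [hz] at this
    show gf y ∈ Z
    exact this ▸ z.2
  obtain ⟨s', hs', hs'z⟩ := h.full a (hES haE) hyZ z hz
  obtain ⟨γ, hγ, hγx⟩ := exists_mem_autInducedBy (P := E) hs' (hnorm hs')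
  have hγT : (⟨γ, autInducedBy_le_autGroup hES hγ⟩ : F.autGroup E) ∈ (T : Subgroup (F.autGroup E)) := by
    rw [hT]; exact hγ
  have h1 := (hYP _ (hTY hγT)).2
  rw [show apl ((⟨γ, autInducedBy_le_autGroup hES hγ⟩ : F.autGroup E) : MulAut E) a = s' * a * s'⁻¹ from
    hγx a haE] at h1
  have e : a⁻¹ * (s' * a * s'⁻¹) = z⁻¹ := by
    have hzc := h.zcen _ (Z.inv_mem hz) _ (hES haE)
    calc a⁻¹ * (s' * a * s'⁻¹) = a⁻¹ * ((a * s' * a⁻¹ * s'⁻¹)⁻¹ * a) := by group
      _ = z⁻¹ := by rw [hs'z, ← hzc]; group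
  rw [e] at h1
  exact hzR (inv_inv z ▸ hRinv _ h1)

/-- A nontrivial core makes the system realizable. -/
theorem isRealizable (hcore : F.core ≠ ⊥) : F.IsRealizable p := by
  set Q := F.core with hQdef
  have hQ : F.IsNormal Q := isNormal_core
  have hsc := stronglyClosed_of_isNormal hQ
  have hQS := hQ.1
  have hconstr : centralizerIn S Q ≤ Q → F.IsRealizable p := fun hC => by
    have hc : F.IsCentric Q := ⟨hQS, fun R ⟨φ, hφ, hφR⟩ => by
      have hRQ : R = Q := by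
        have hsub : R ≤ Q := by
          rintro _ hr
          rw [← hφR] at hr
          obtain ⟨x, rfl⟩ := hr
          exact hsc.2 Q le_rfl φ hφ x
        refine eq_of_le_of_card hQS hsub ?_
        rw [isConj_card_eq ⟨φ, hφ, hφR⟩]
      rw [hRQ]; exact hC⟩
    obtain ⟨G, hG, ι, ⟨hfin, hr, hT, -⟩, -⟩ := exists_model hS hF hQ hc
    exact ⟨G, hG, hfin, ι, hr, hT⟩
  by_cases hQZ : Q ≤ Z
  · exfalso
    have hSn : F.IsNormal S := by
      refine (isNormal_iff_essential hS hF).2 fun P hP => ?_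
      rcases hP with rfl | hP
      · exact ⟨le_rfl, fun α hα => invariant_of_apl fun x hx =>
          iff_of_true (apl_mem α hx) hx⟩
      · exact (no_essential h hS hF hQ hQZ hcore hP).elim
    obtain ⟨a, ha, haZ⟩ := h.nonab
    exact haZ (hQZ (le_core hSn ha))
  obtain ⟨a, haQ, haZ⟩ : ∃ a ∈ Q, a ∉ Z := SetLike.not_le_iff_exists.1 hQZ
  have haS := hQS haQ
  have hZQ : Z ≤ Q := fun z hz => by
    obtain ⟨s, hs, rfl⟩ := h.full a haS haZ z hz
    have e : a * s * a⁻¹ * s⁻¹ = a * (s * a⁻¹ * s⁻¹) := by group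
    rw [e]
    exact Q.mul_mem haQ ((Subgroup.mem_normalizer_iff.1 (StronglyClosed.le_normalizer hsc hs) _).1 (Q.inv_mem haQ))
  by_cases hab : ∀ x ∈ Q, ∀ y ∈ Q, Commute x y
  swap
  · refine hconstr fun c hc => hZQ ?_
    by_contra hcZ
    refine hab fun x hx y hy => ?_
    exact h.ab c hc.1 hcZ x (hQS hx) y (hQS hy) (Subgroup.mem_centralizer_iff.1 hc.2 x hx).symm
      (Subgroup.mem_centralizer_iff.1 hc.2 y hy).symm
  -- now the centraliser of `a` is normal
  set E₀ := S ⊓ Subgroup.centralizer ({a} : Set Ω) with hE₀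
  have memE₀ : ∀ x, x ∈ E₀ ↔ x ∈ S ∧ Commute a x := fun x => by
    rw [hE₀, Subgroup.mem_inf, Subgroup.mem_centralizer_singleton_iff]
    exact and_congr_right fun _ => ⟨fun e => e.symm, fun e => e.symm⟩
  refine hconstr ?_
  have hE₀n : F.IsNormal E₀ := by
    refine (isNormal_iff_essential hS hF).2 fun P hP => ?_
    rcases hP with rfl | hP
    · refine ⟨inf_le_left, fun α hα => invariant_of_apl ?_⟩
      have key : ∀ β ∈ F.autGroup P, ∀ x ∈ P, Commute a x → Commute a (apl β x) := by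
        intro β hβ x hx hax
        have hm := (iso_apl le_rfl hβ).1
        have hbQ : apl β a ∈ Q := StronglyClosed.mor_mem hsc hm haS haQ
        have hbZ : apl β a ∉ Z := fun hb => haZ <| mem_Z_of_central h haS fun s hs => by
          have e := h.zcen _ hb _ (apl_mem β hs)
          rw [← hm.map_mul hs haS, ← hm.map_mul haS hs] at e
          exact (hm.injOn (P.mul_mem hs haS) (P.mul_mem haS hs) e).symm
        refine h.ab _ (apl_mem β haS) hbZ a haS _ (apl_mem β hx) (hab _ hbQ a haQ) ?_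
        show apl β a * apl β x = apl β x * apl β a
        rw [← hm.map_mul haS hx, ← hm.map_mul hx haS, hax.eq]
      intro x hx
      rw [memE₀, memE₀]
      refine ⟨fun hh => ⟨hx, ?_⟩, fun hh => ⟨apl_mem α hx, key α hα x hx hh.2⟩⟩
      have := key α⁻¹ (Subgroup.inv_mem _ hα) _ (apl_mem α hx) hh.2
      rwa [apl_inv_apl α hx] at this
    · have haP : a ∈ P := le_of_normal_centric_radical hS hQ hP.1 (essential_radical hS hF hP) haQ
      have e : E₀ = P := Subgroup.ext fun x => by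
        rw [memE₀, ← ess_eq_centralizer h hS hF hP haP haZ]
      rw [e]
      exact ⟨le_rfl, fun α hα => invariant_of_apl fun x hx => iff_of_true (apl_mem α hx) hx⟩
  intro c hc
  exact le_core hE₀n ((memE₀ c).2 ⟨hc.1, Subgroup.mem_centralizer_iff.1 hc.2 a haQ⟩)

end Cfsg.Agent.FusSys.SemiExtra
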