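import Cfsg.Agent.FusSys.MaxNormalSmall
import Cfsg.Agent.FusSys.ElemCrit
import Cfsg.Agent.FusSys.IndexPrimeCls
import Cfsg.Agent.FusSys.Sub

/-!
Abelian subgroups of small exponent control fusion between nested saturated systems.
-/

set_option autoImplicit false

namespace Cfsg.Agent.FusSys.SmallExp

open Cfsg Cfsg.FusionSystem Cfsg.Agent.FusSys

universe u

variable {Ω : Type u} [Group Ω] {S D : Subgroup Ω} {F E : FusionSystem S} {p : ℕ}
variable {A B P R : Subgroup Ω} {f : Ω → Ω}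

/-- Abelian of exponent dividing `p`, or `4` when `p = 2`. -/
def Sm (p : ℕ) (A : Subgroup Ω) : Prop :=
  IsMulCommutative A ∧ ∀ a ∈ A, a ^ p ^ (if p = 2 then 2 else 1) = 1

theorem small_of_pow {x : Ω} (h : Small p x) : x ^ p ^ (if p = 2 then 2 else 1) = 1 := by
  rcases h with h | ⟨rfl, h⟩
  · by_cases hp : p = 2
    · rw [if_pos hp, sq, pow_mul, h, one_pow]
    · rw [if_neg hp, pow_one, h]
  · simpa using h

theorem Sm.map (hA : Sm p A) (hf : Iso F A B f) : Sm p B := by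
  refine ⟨⟨⟨fun a b => Subtype.ext ?_⟩⟩, fun b hb => ?_⟩
  · obtain ⟨x, hx, hxa⟩ := hf.exists_eq a.2
    obtain ⟨y, hy, hyb⟩ := hf.exists_eq b.2
    show (a : Ω) * b = b * a
    rw [← hxa, ← hyb, ← hf.1.map_mul hx hy, ← hf.1.map_mul hy hx]
    exact congrArg f (congrArg Subtype.val (hA.1.is_comm.comm ⟨x, hx⟩ ⟨y, hy⟩))
  · obtain ⟨x, hx, rfl⟩ := hf.exists_eq hb
    rw [← hf.1.map_pow hx, hA.2 x hx, hf.1.map_one]

variable [Fact p.Prime] [Finite S] (hS : IsPGroup p S) (hF : F.IsSaturated p) (hE : E.IsSaturated p)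
  (hEF : E.IsSubsystemOf F) (hD : F.StronglyClosed D)
  (hctl : ∀ A f, A ≤ D → Sm p A → Mor F A f → Mor E A f)
include hS hF hE hEF hD hctl

theorem isConj_small (hAD : A ≤ D) (hA : Sm p A) (h : F.IsConj A B) : E.IsConj A B := by
  obtain ⟨f, hf⟩ := isConj_iff.1 h
  exact isConj_iff.2 ⟨f, hctl A f hAD hA hf.1, hf.2⟩

/-- Maps preserving normality of a small subgroup reduce to maps fixing a conjugate of it. -/
theorem mor_of_norm (hAD : A ≤ D) (hA : Sm p A) (hAR : A ≤ R) (hRn : R ≤ normalizerIn S A)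
    (hf : Mor F R f)
    (ih : ∀ A₀, A₀ ≤ D → Sm p A₀ → F.IsFullyNormalized A₀ → Nat.card A₀ = Nat.card A →
      ∀ P k, ActRel F A₀ P k → Mor E P k) : Mor E R f := by
  have hAS := hAD.trans hD.1
  obtain ⟨A₀, hc₀, hn₀⟩ := exists_fullyNormalized_conj (F := F) hAS
  obtain ⟨a₀, ha₀⟩ := isConj_iff.1 hc₀
  have hA₀D : A₀ ≤ D := fun y hy => by
    obtain ⟨x, hx, rfl⟩ := ha₀.exists_eq hy
    exact StronglyClosed.mor_mem hD ha₀.1 hx (hAD hx)
  have hA₀ : Sm p A₀ := hA.map ha₀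
  have hn₀E : E.IsFullyNormalized A₀ := ⟨hn₀.1, fun Q hQ => hn₀.2 Q (isConj_of_sub hEF hQ)⟩
  have hAu := fullyAutomized_of_fullyNormalized hS hE hn₀E
  have hRec := receptive_of_fullyNormalized hS hE hn₀E
  obtain ⟨A', hA'⟩ := (hf.mono hAR).exists_iso
  have hA'D : A' ≤ D := fun y hy => by
    obtain ⟨x, hx, rfl⟩ := hA'.exists_eq hy
    exact StronglyClosed.mor_mem hD hA'.1 hx (hAD hx)
  have hsub := isSubsystemOf_iff_mor.1 hEF
  obtain ⟨g₁, hg₁, hg₁A, hg₁N⟩ := exists_mor_normalizerIn hS hAu hRec (isConj_small hS hF hE hEF hD hctl hAD hA hc₀)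
  obtain ⟨g₂, hg₂, hg₂A, hg₂N⟩ := exists_mor_normalizerIn hS hAu hRec
    (isConj_small hS hF hE hEF hD hctl hA'D (hA.map hA') (isConj_trans (isConj_symm hA'.isConj) hc₀))
  have hfN : ∀ x ∈ R, f x ∈ normalizerIn S A' := fun x hx => hf.mem_normalizerIn hAR hA' hx (hRn hx).2
  obtain ⟨R₁, hR₁⟩ := (hg₁.mono hRn).exists_iso
  obtain ⟨g₁', hg₁', hg₁'g, -⟩ := hR₁.symm
  obtain ⟨R₂', hR₂'⟩ := hg₂.exists_iso
  obtain ⟨g₂', hg₂', hg₂'g, -⟩ := hR₂'.symm
  set h : Ω → Ω := g₂ ∘ (f ∘ g₁') with hh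
  have hhm : Mor F R₁ h := ((hsub _ _ hg₁'.1).comp hf fun y hy => hg₁'.mem hy).comp (hsub _ _ hg₂)
    fun y hy => hfN _ (hg₁'.mem hy)
  have hhN : ∀ y ∈ R₁, h y ∈ normalizerIn S A₀ := fun y hy => hg₂N _ (hfN _ (hg₁'.mem hy))
  have hR₁N : R₁ ≤ normalizerIn S A₀ := fun y hy => by
    obtain ⟨x, hx, rfl⟩ := hR₁.exists_eq hy
    exact hg₁N x (hRn hx)
  have hA₀R₁ : A₀ ≤ R₁ := fun y hy => by
    obtain ⟨x, hx, rfl⟩ := hg₁A.exists_eq hy
    exact hR₁.mem (hAR hx)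
  have hh₀ : Iso F A₀ A₀ h := by
    refine ⟨hhm.mono hA₀R₁, fun y => ⟨fun hy => ?_, ?_⟩⟩
    · obtain ⟨z, hz, rfl⟩ := hg₂A.exists_eq hy
      obtain ⟨x, hx, rfl⟩ := hA'.exists_eq hz
      exact ⟨g₁ x, hg₁A.mem hx, by show g₂ (f (g₁' (g₁ x))) = _; rw [hg₁'g x (hAR hx)]⟩
    · rintro ⟨z, hz, rfl⟩
      obtain ⟨x, hx, rfl⟩ := hg₁A.exists_eq hz
      show g₂ (f (g₁' (g₁ x))) ∈ A₀
      rw [hg₁'g x (hAR hx)]
      exact hg₂A.mem (hA'.mem hx)
  obtain ⟨e, he, hee⟩ := (isReceptive_iff.1 hRec).2 A₀ h ⟨hctl A₀ h hA₀D hA₀ hh₀.1, hh₀.2⟩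
  have hR₁Φ : R₁ ≤ nPhi S A₀ h := fun a ha => ⟨hhm.le ha, (hR₁N ha).2, h a, hhm.mem_S ha,
    fun x hx => hhm.map_conj ha (hA₀R₁ hx)⟩
  obtain ⟨R₂, hR₂⟩ := (he.mono hR₁Φ).exists_iso
  obtain ⟨e', he', he'e, -⟩ := hR₂.symm
  have hA₀R₂ : A₀ ≤ R₂ := fun y hy => by
    obtain ⟨x, hx, rfl⟩ := hh₀.exists_eq hy
    rw [← hee x hx]
    exact hR₂.mem (hA₀R₁ hx)
  have hR₂N : R₂ ≤ normalizerIn S A₀ := fun y hy => by
    obtain ⟨x, hx, rfl⟩ := hR₂.exists_eq hy
    exact (he.mono hR₁Φ).mem_normalizerIn hA₀R₁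
      (⟨(he.mono hR₁Φ).mono hA₀R₁, fun z => by
        rw [hh₀.2 z]
        exact exists_congr fun w => ⟨fun ⟨hw, hwz⟩ => ⟨hw, (hee w hw).trans hwz⟩,
          fun ⟨hw, hwz⟩ => ⟨hw, (hee w hw).symm.trans hwz⟩⟩⟩) hx (hR₁N hx).2
  have hk : Mor E R₂ (h ∘ e') := by
    refine ih A₀ hA₀D hA₀ hn₀ (ha₀.card_eq).symm R₂ _
      ⟨(hsub _ _ he'.1).comp hhm fun y hy => he'.mem hy, hR₂N, fun y hy => hhN _ (he'.mem hy), h ∘ e', ?_,
        fun _ _ => rfl, 1, Subgroup.one_mem _, fun y hy => ?_⟩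
    · rw [sup_eq_left.2 hA₀R₂]
      exact (hsub _ _ he'.1).comp hhm fun y hy => he'.mem hy
    · obtain ⟨x, hx, rfl⟩ := hh₀.exists_eq hy
      rw [apl_one hy]
      show h (e' (h x)) = h x
      rw [← hee x hx, he'e x (hA₀R₁ hx), hee x hx]
  have hhE : Mor E R₁ h := (hR₂.1.comp hk fun y hy => hR₂.mem hy).congr fun y hy => by
    show h y = h (e' (e y))
    rw [he'e y hy]
  refine ((hR₁.1.comp hhE fun y hy => hR₁.mem hy).comp hg₂'.1 fun x hx => ?_).congr fun x hx => ?_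
  · show g₂ (f (g₁' (g₁ x))) ∈ R₂'
    rw [hg₁'g x hx]
    exact hR₂'.mem (hfN x hx)
  · show f x = g₂' (g₂ (f (g₁' (g₁ x))))
    rw [hg₁'g x hx, hg₂'g _ (hfN x hx)]

omit hF hE hEF hctl in
/-- A `p'`-automorphism fixing a small subgroup which is maximal normal inside `D` is trivial. -/
theorem eq_one_of_maximal (hPS : P ≤ S) {α : MulAut P} (hα : α ∈ F.autGroup P) (hord : (orderOf α).Coprime p)
    (hDres : ∀ x ∈ P, x⁻¹ * apl α x ∈ D) (hAP : A ≤ P) (hAD : A ≤ D) (hA : Sm p A)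
    (hPn : P ≤ normalizerIn S A)
    (hmax : ∀ X, A ≤ X → X ≤ P → X ≤ D → Sm p X → P ≤ normalizerIn S X → X ≤ A)
    (hfix : ∀ x ∈ A, apl α x = x) : α = 1 := by
  haveI := finite_of_le hPS
  have hP : IsPGroup p P := hS.to_le hPS
  have hinvD : ∀ x ∈ P ⊓ D, apl α x ∈ P ⊓ D := fun x hx =>
    ⟨apl_mem α hx.1, (apl_invariant_of_stronglyClosed hD hPS hα hx.1).2 hx.2⟩
  set W : Subgroup P := D.subgroupOf P with hW
  set A' : Subgroup P := A.subgroupOf P with hA'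
  haveI : W.Normal := ⟨fun n hn g => Subgroup.mem_subgroupOf.2 (by
    rw [Subgroup.coe_mul, Subgroup.coe_mul, Subgroup.coe_inv]
    exact StronglyClosed.mor_mem hD (mor_conj hPS (hPS g.2)) n.2 (Subgroup.mem_subgroupOf.1 hn))⟩
  haveI : A'.Normal := ⟨fun n hn g => Subgroup.mem_subgroupOf.2 (by
    rw [Subgroup.coe_mul, Subgroup.coe_mul, Subgroup.coe_inv]
    exact (Subgroup.mem_normalizer_iff.1 (hPn g.2).2 _).1 (Subgroup.mem_subgroupOf.1 hn))⟩
  set n := if p = 2 then 2 else 1 with hn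
  have hn2 : p ^ n ≠ 2 := by
    by_cases h : p = 2
    · rw [hn, if_pos h, h]; norm_num
    · rw [hn, if_neg h, pow_one]; exact h
  have key : ∀ x : P, x ∈ W → x ∈ Subgroup.centralizer (A' : Set P) → x ^ p ^ n = 1 → x ∈ A' := by
    refine fun x => MaxSmall.mem_of_maximal hP n hn2 A' ⟨⟨fun a b => Subtype.ext (Subtype.ext ?_)⟩⟩
      (fun a ha => Subtype.ext ?_) W (fun a ha => hAD ha) (fun X hX hXW hXc hXe hle => ?_) x
    · have := hA.1.is_comm.comm ⟨_, a.2⟩ ⟨_, b.2⟩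
      exact congrArg (fun z : A => (z : Ω)) this
    · rw [SubgroupClass.coe_pow]; exact hA.2 _ ha
    · have h1 : X.map P.subtype ≤ A := hmax _
        (fun a ha => ⟨⟨a, hAP ha⟩, hle (Subgroup.mem_subgroupOf.2 ha), rfl⟩)
        (Subgroup.map_subtype_le X) (by rintro _ ⟨a, ha, rfl⟩; exact hXW ha)
        ⟨⟨⟨fun a b => by
          obtain ⟨a, ha⟩ := a
          obtain ⟨b, hb⟩ := b
          obtain ⟨a', ha', rfl⟩ := ha
          obtain ⟨b', hb', rfl⟩ := hb
          exact Subtype.ext (congrArg (fun z : X => ((z : P) : Ω))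
            (hXc.is_comm.comm ⟨a', ha'⟩ ⟨b', hb'⟩))⟩⟩,
          by rintro _ ⟨a, ha, rfl⟩; rw [← map_pow, hXe a ha, map_one]⟩
        (fun g hg => ⟨hPS hg, by
          haveI : Finite ↥(X.map P.subtype) := finite_of_le ((Subgroup.map_subtype_le X).trans hPS)
          exact mem_normalizer_of_maps fun y ⟨a, ha, hay⟩ => ⟨⟨g, hg⟩ * a * ⟨g, hg⟩⁻¹, hX.conj_mem a ha _,
            by rw [← hay]; rfl⟩⟩)
      exact le_antisymm (fun a ha => Subgroup.mem_subgroupOf.2 (h1 ⟨a, ha, rfl⟩)) hle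
  set U := P ⊓ D ⊓ Subgroup.centralizer (A : Set Ω) with hU
  have hhom := (iso_apl hPS hα).1
  have hUinv : ∀ x ∈ U, apl α x ∈ U := fun x hx => ⟨hinvD x hx.1, Subgroup.mem_centralizer_iff.2 fun a ha => by
    rw [← hfix a ha, ← hhom.map_mul (hAP ha) hx.1.1, ← hhom.map_mul hx.1.1 (hAP ha),
      Subgroup.mem_centralizer_iff.1 hx.2 a ha]⟩
  have hUfix : ∀ x ∈ U, apl α x = x := by
    refine fix_of_small hP hord (inf_le_left.trans inf_le_left) hUinv fun x hx hxs => hfix x ?_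
    have h1 : (⟨x, hx.1.1⟩ : P) ∈ A' := key _ hx.1.2
      (Subgroup.mem_centralizer_iff.2 fun a ha => Subtype.ext (Subgroup.mem_centralizer_iff.1 hx.2 _ ha))
      (Subtype.ext (by rw [SubgroupClass.coe_pow]; exact small_of_pow hxs))
    exact h1
  refine eq_one_of_fixes_diff hP hord hDres fun y hy hyD _ => eq_of_fixed_quot hP hord hy ?_
  refine hUfix _ ⟨⟨P.mul_mem (P.inv_mem hy) (apl_mem α hy), hDres y hy⟩,
    Subgroup.mem_centralizer_iff.2 fun a ha => ?_⟩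
  have hc : y * a * y⁻¹ ∈ A := (Subgroup.mem_normalizer_iff.1 (hPn hy).2 a).1 ha
  have h1 : y * a * y⁻¹ = apl α y * a * (apl α y)⁻¹ := by
    conv_lhs => rw [← hfix _ hc]
    rw [hhom.map_conj hy (hAP ha), hfix a ha]
  calc a * (y⁻¹ * apl α y) = y⁻¹ * (y * a * y⁻¹) * apl α y := by group
    _ = y⁻¹ * apl α y * a := by rw [h1]; group

variable (hres : ∀ P ≤ S, ∀ α ∈ F.autGroup P, (orderOf α).Coprime p → ∀ x ∈ P, x⁻¹ * apl α x ∈ D)
include hres

theorem mor_act (n : ℕ) : ∀ B : Subgroup Ω, B ≤ D → Sm p B → F.IsFullyNormalized B →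
    Nat.card S < Nat.card B + n → ∀ P k, ActRel F B P k → Mor E P k := by
  induction n with
  | zero =>
    intro B hBD _ _ h
    exact absurd (Subgroup.card_le_of_le (hBD.trans hD.1)) (by omega)
  | succ n ih =>
    intro B hBD hB hBn hcard P k hk
    set T := normalizerIn S B with hT
    haveI : Finite T := finite_of_le inf_le_left
    have hTS : T ≤ S := inf_le_left
    set N := subSys (subRel_act (F := F) hBn.1) with hNdef
    have hN : N.IsSaturated p := act_saturated hS hF hBn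
    have hTp : IsPGroup p T := hS.to_le hTS
    have hM : SubRel N T (fun P f => Mor N P f ∧ Mor E P f) :=
      ⟨fun h he => ⟨h.1.congr he, h.2.congr he⟩, fun h => ⟨h.1.le, fun _ hx => h.1.mem_S hx⟩,
        fun hP hs => ⟨mor_conj hP hs, mor_conj hP hs, mor_conj (hP.trans hTS) hs.1⟩,
        fun _ h _ h' hfR => ⟨h.1.comp h'.1 hfR, h.2.comp h'.2 hfR⟩,
        fun {P Q f g} hf h hg hgf => ⟨hg.1, by
          obtain ⟨R, hR⟩ := h.2.exists_iso
          obtain ⟨l, hl, hlf, -⟩ := hR.symm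
          refine (hl.1.mono fun y hy => ?_).congr fun y hy => ?_
          · obtain ⟨x, hx, rfl⟩ := hf.exists_eq hy
            exact hR.mem hx
          · obtain ⟨x, hx, rfl⟩ := hf.exists_eq hy
            rw [hgf x hx, hlf x hx]⟩⟩
    have hres' : ∀ U ≤ T, (pResidual p (N.autGroup U)).map (N.autGroup U).subtype ≤ (subSys hM).autGroup U := by
      intro U hU
      have hUS := hU.trans hTS
      haveI := finite_of_le hUS
      rw [pResidual, MonoidHom.map_closure, Subgroup.closure_le]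
      rintro _ ⟨δ, hδ, rfl⟩
      rw [Set.mem_setOf_eq, ← Subgroup.orderOf_coe] at hδ
      have hi := iso_apl hU δ.2
      refine (mem_autGroup_iff hU).2 ⟨(mor_subSys hM).2 ⟨hi.1, hi.1, ?_⟩, hi.2⟩
      obtain ⟨-, -, -, -, g, hg, hgU, hgK⟩ := (mor_subSys _).1 hi.1
      set W₀ := U ⊔ B with hW₀
      have hW₀S : W₀ ≤ S := sup_le hUS hBn.1
      haveI := finite_of_le hW₀S
      have hgm : ∀ x ∈ W₀, g x ∈ W₀ := fun x hx => hg.mem_of_sup
        (fun a ha => Subgroup.mem_sup_left ((hgU a ha).symm ▸ apl_mem _ ha))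
        (fun a ha => Subgroup.mem_sup_right (hgK.mem ha)) hx
      obtain ⟨γ, hγ, hγx⟩ := Iso.exists_mem_autGroup (show Iso F W₀ W₀ g from ⟨hg, fun y =>
        ⟨fun hy => hg.surj_of_card hW₀S hgm le_rfl hy, fun ⟨x, hx, e⟩ => e ▸ hgm x hx⟩⟩)
      obtain ⟨a, m, hm, hord⟩ := Nat.exists_eq_pow_mul_and_not_dvd (isOfFinOrder_of_finite γ).orderOf_pos.ne' p
        (Fact.out : p.Prime).ne_one
      obtain ⟨κ, hκ, hκx⟩ := hgK
      obtain ⟨b, hb⟩ : ∃ b : ℕ, orderOf κ = p ^ b := by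
        obtain ⟨b, hb⟩ := IsPGroup.iff_orderOf.1 (isPGroup_autInducedBy (P := B) hS) ⟨κ, hκ⟩
        exact ⟨b, by rw [← hb, ← Subgroup.orderOf_coe]⟩
      obtain ⟨j, hj0, hj1⟩ := Nat.chineseRemainder
        ((Nat.Coprime.pow_left (a + b) hδ.symm : (p ^ (a + b)).Coprime (orderOf (δ : MulAut U)))) 0 1
      have hpowU : ∀ i : ℕ, ∀ x ∈ U, apl (γ ^ i) x = apl ((δ : MulAut U) ^ i) x := by
        intro i
        induction i with
        | zero => intro x hx; rw [pow_zero, pow_zero, apl_one (Subgroup.mem_sup_left hx), apl_one hx]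
        | succ i ihi =>
          intro x hx
          rw [pow_succ, pow_succ, apl_mul _ _ (Subgroup.mem_sup_left hx), apl_mul _ _ hx,
            hγx x (Subgroup.mem_sup_left hx), hgU x hx]
          exact ihi _ (apl_mem _ hx)
      have hpowB : ∀ i : ℕ, ∀ x ∈ B, apl (γ ^ i) x = apl (κ ^ i) x := by
        intro i
        induction i with
        | zero => intro x hx; rw [pow_zero, pow_zero, apl_one (Subgroup.mem_sup_right hx), apl_one hx]
        | succ i ihi =>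
          intro x hx
          rw [pow_succ, pow_succ, apl_mul _ _ (Subgroup.mem_sup_right hx), apl_mul _ _ hx,
            hγx x (Subgroup.mem_sup_right hx), hκx x hx]
          exact ihi _ (apl_mem _ hx)
      have hδj : (δ : MulAut U) ^ j = (δ : MulAut U) := by
        conv_rhs => rw [← pow_one (δ : MulAut U)]
        exact pow_eq_pow_iff_modEq.2 hj1
      have hκj : κ ^ j = 1 := by
        refine orderOf_dvd_iff_pow_eq_one.1 ?_
        rw [hb]
        exact (pow_dvd_pow p (Nat.le_add_left b a)).trans (Nat.modEq_zero_iff_dvd.1 hj0)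
      have hγord : (orderOf (γ ^ j)).Coprime p := by
        refine Nat.Coprime.coprime_dvd_left (orderOf_dvd_of_pow_eq_one (?_ : (γ ^ j) ^ m = 1))
          (((Fact.out : p.Prime).coprime_iff_not_dvd.2 hm).symm)
        rw [← pow_mul, ← orderOf_dvd_iff_pow_eq_one, hord]
        exact mul_dvd_mul_right ((pow_dvd_pow p (Nat.le_add_right a b)).trans (Nat.modEq_zero_iff_dvd.1 hj0)) _
      have hγF : γ ^ j ∈ F.autGroup W₀ := Subgroup.pow_mem _ hγ j
      have hfixB : ∀ x ∈ B, apl (γ ^ j) x = x := fun x hx => by rw [hpowB j x hx, hκj, apl_one hx]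
      suffices h : Mor E W₀ (apl (γ ^ j)) from (h.mono le_sup_left).congr fun x hx => by
        show apl (δ : MulAut U) x = _
        rw [hpowU j x hx, hδj]
      have hW₀B : W₀ ≤ normalizerIn S B :=
        sup_le hU (le_normalizerIn hBn.1)
      let s : Set (Subgroup Ω) :=
        {X | B ≤ X ∧ X ≤ W₀ ∧ X ≤ D ∧ Sm p X ∧ W₀ ≤ normalizerIn S X}
      have hsfin : s.Finite := by
        refine (Set.toFinite ((fun X : Subgroup S => X.map S.subtype) '' Set.univ)).subset ?_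
        intro X hX
        exact ⟨X.subgroupOf S, trivial, Subgroup.map_subgroupOf_eq_of_le (hX.2.1.trans hW₀S)⟩
      obtain ⟨A, ⟨hBA, hAW, hAD, hA, hAn⟩, hAmax⟩ := Set.exists_max_image s (fun X => Nat.card X) hsfin
        ⟨B, le_rfl, le_sup_right, hBD, hB, hW₀B⟩
      have hmax : ∀ X, A ≤ X → X ≤ W₀ → X ≤ D → Sm p X → W₀ ≤ normalizerIn S X → X ≤ A := by
        intro X hAX h1 h2 h3 h4
        haveI := finite_of_le (h1.trans hW₀S)
        exact (Subgroup.eq_of_le_of_card_ge hAX (hAmax X ⟨hBA.trans hAX, h1, h2, h3, h4⟩)).ge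
      by_cases hAB : A ≤ B
      · have h1 : γ ^ j = 1 := eq_one_of_maximal hS hD hW₀S hγF hγord
          (hres W₀ hW₀S _ hγF hγord) hAW hAD hA hAn hmax fun x hx => hfixB x (hAB hx)
        exact (mor_id hW₀S).congr fun x hx => by rw [h1, apl_one hx]; rfl
      · refine mor_of_norm hS hF hE hEF hD hctl hAD hA hAW hAn (iso_apl hW₀S hγF).1
          fun A₀ hA₀D hA₀ hn₀ hc P k => ih A₀ hA₀D hA₀ hn₀ ?_ P k
        haveI := finite_of_le (hAD.trans hD.1)
        have : Nat.card B < Nat.card A := lt_of_le_of_ne (Subgroup.card_le_of_le hBA) fun e =>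
          hAB (Subgroup.eq_of_le_of_card_ge hBA e.ge).ge
        omega
    have hall : ∀ P f, Mor N P f → Mor N P f ∧ Mor E P f := by
      refine residual_induction hTp hN hM (fun α hα => ?_) fun R hR α hα =>
        ((mor_subSys hM).1 (iso_apl hR (hres' R hR hα)).1).2
      have hn : N.IsFullyNormalized T := ⟨le_rfl, fun Q _ => by
        haveI := finite_of_le (normalizerIn_le T T)
        exact Subgroup.card_le_of_le (le_inf (normalizerIn_le T Q)
          ((normalizerIn_le T Q).trans Subgroup.le_normalizer))⟩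
      rw [autGroup_eq_residual_sup hTp hN hn] at hα
      exact ((mor_subSys hM).1 (iso_apl le_rfl
        (sup_le (hres' T le_rfl) (autInducedBy_le_autGroup le_rfl) hα)).1).2
    exact (hall P k ((mor_subSys _).2 ⟨hk.1, hk⟩)).2

theorem eq_of_small : ∀ P : Subgroup Ω, E.Hom P = F.Hom P := by
  have hn : F.IsFullyNormalized (⊥ : Subgroup Ω) := ⟨bot_le, fun Q _ => by
    haveI := finite_of_le (normalizerIn_le S (⊥ : Subgroup Ω))
    refine Subgroup.card_le_of_le (le_inf (normalizerIn_le S Q) fun s _ => ?_)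
    refine Subgroup.mem_normalizer_iff.2 fun x => ?_
    simp only [Subgroup.mem_bot, conj_eq_one_iff]⟩
  have hSm : Sm p (⊥ : Subgroup Ω) := ⟨⟨⟨fun a b => Subsingleton.elim _ _⟩⟩,
    fun a ha => by rw [Subgroup.mem_bot.1 ha, one_pow]⟩
  have hN : ∀ s ∈ S, s ∈ normalizerIn S (⊥ : Subgroup Ω) := fun s hs => ⟨hs, Subgroup.mem_normalizer_iff.2
    fun x => by simp only [Subgroup.mem_bot, conj_eq_one_iff]⟩
  intro P
  refine Set.Subset.antisymm (hEF P) fun φ hφ => mem_hom_iff.2 ?_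
  have hm := mor_extendFn hφ
  refine mor_act hS hF hE hEF hD hctl hres (Nat.card S + 1) ⊥ bot_le hSm hn (by omega) P _
    ⟨hm, fun x hx => hN x (hm.le hx), fun x hx => hN _ (hm.mem_S hx), extendFn φ, ?_, fun _ _ => rfl,
      1, Subgroup.one_mem _, fun x hx => ?_⟩
  · rw [sup_bot_eq]; exact hm
  · rw [apl_one hx, Subgroup.mem_bot.1 hx, hm.map_one]

end Cfsg.Agent.FusSys.SmallExp

namespace Cfsg.Agent.FusSys.SmallExp

open Cfsg Cfsg.FusionSystem Cfsg.Agent.FusSys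

universe u

variable {Ω : Type u} [Group Ω] {S D : Subgroup Ω} {F E : FusionSystem S} {p : ℕ} {A : Subgroup Ω}
  {f : Ω → Ω}

/-- The two-case hypothesis of the statements gives agreement on small subgroups. -/
theorem ctl_of_homSet (hD : F.StronglyClosed D)
    (hodd : p ≠ 2 → ∀ A B : Subgroup Ω, A ≤ D → B ≤ D → Cfsg.IsElementaryAbelian p A →
      Cfsg.IsElementaryAbelian p B → E.homSet A B = F.homSet A B)
    (htwo : p = 2 → ∀ A B : Subgroup Ω, A ≤ D → B ≤ D → IsMulCommutative ↥A → IsMulCommutative ↥B →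
      (∀ a ∈ A, a ^ 4 = 1) → (∀ b ∈ B, b ^ 4 = 1) → E.homSet A B = F.homSet A B)
    (hAD : A ≤ D) (hA : Sm p A) (hf : Mor F A f) : Mor E A f := by
  obtain ⟨B, hB⟩ := hf.exists_iso
  have hBD : B ≤ D := fun y hy => by
    obtain ⟨x, hx, rfl⟩ := hB.exists_eq hy
    exact StronglyClosed.mor_mem hD hB.1 hx (hAD hx)
  have hBs := hA.map hB
  have heq : E.homSet A B = F.homSet A B := by
    by_cases h : p = 2
    · subst h
      exact htwo rfl A B hAD hBD hA.1 hBs.1 (fun a ha => by simpa using hA.2 a ha)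
        fun b hb => by simpa using hBs.2 b hb
    · exact hodd h A B hAD hBD ⟨hA.1, fun a ha => by simpa [if_neg h] using hA.2 a ha⟩
        ⟨hBs.1, fun b hb => by simpa [if_neg h] using hBs.2 b hb⟩
  obtain ⟨φ, hφ, hφf⟩ := hf
  have hm : φ ∈ F.homSet A B := ⟨hφ, fun x => hφf x ▸ hB.mem x.2⟩
  exact ⟨φ, (heq.symm ▸ hm : φ ∈ E.homSet A B).1, hφf⟩

end Cfsg.Agent.FusSys.SmallExp
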