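import Cfsg.Agent.FusSys.SolvableSys
import Cfsg.Agent.FusSys.WeaklyNormalAux

/-!
Solvability and weakly normal subsystems.
-/

set_option autoImplicit false

namespace Cfsg.Agent.FusSys

open Cfsg Cfsg.FusionSystem
open scoped commutatorElement

universe u v

variable {Ω : Type u} [Group Ω] {S T R : Subgroup Ω} {F : FusionSystem S} {E : FusionSystem T}
variable {p : ℕ}

/-- Inside an invariant subsystem over `T` with solvable type, strongly closed series of `F`
continue up to `T`. -/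
theorem exists_step_below [Fact p.Prime] [Finite S] (hS : IsPGroup p S)
    (hE : E.IsWeaklyNormalIn F p) (hsol : E.IsSolvableSystem) (hR : F.StronglyClosed R)
    (hRT : R < T) : ∃ R', F.StronglyClosed R' ∧ R < R' ∧ R' ≤ T ∧ ⁅R', R'⁆ ≤ R := by
  classical
  have hT := hE.2.2.2.1
  haveI := finite_of_le hT.1
  have hTp : IsPGroup p T := hS.to_le hT.1
  have hsub := isSubsystemOf_iff_mor.1 hE.2.2.1
  have hRE : E.StronglyClosed R := stronglyClosed_iff.2
    ⟨hRT.le, fun X f hX hf x hx => StronglyClosed.mor_mem hR (hsub _ _ hf) hx (hX hx)⟩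
  haveI hn : (R.subgroupOf T).Normal :=
    (Subgroup.normal_subgroupOf_iff_le_normalizer hRT.le).2 (StronglyClosed.le_normalizer hRE)
  set θ := QuotientGroup.mk' (R.subgroupOf T) with hθ
  have hker : ∀ t : T, θ t = 1 ↔ (t : Ω) ∈ R := fun t =>
    (QuotientGroup.eq_one_iff t).trans Subgroup.mem_subgroupOf
  obtain ⟨Eb, hEb⟩ := exists_factorSystem hRE hker
    (show θ.range = (⊤ : Subgroup (T ⧸ R.subgroupOf T)) from QuotientGroup.range_mk' _)
  have hEbs : Eb.IsSaturated p := factor_saturated hTp hE.1 hEb hRE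
  have hQp : IsPGroup p ↥(⊤ : Subgroup (T ⧸ R.subgroupOf T)) := (hTp.to_quotient _).to_subgroup _
  let 𝒳 : Set (Subgroup Ω) := {X | E.StronglyClosed X ∧ R ≤ X ∧ ⁅X, X⁆ ≤ R}
  set W := sSup 𝒳 ⊔ R with hWdef
  have hfin : 𝒳.Finite := finite_subgroups_le (S := T) _ fun X hX => hX.1.1
  have hsup : E.StronglyClosed (sSup 𝒳) :=
    sSup_closed_of_finite hfin (fun X hX => hX.1) (stronglyClosed_of_isNormal isNormal_bot)
      fun X Y => stronglyClosed_sup hTp hE.1
  have hWE : E.StronglyClosed W := stronglyClosed_sup hTp hE.1 hsup hRE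
  have hWT : W ≤ T := hWE.1
  have himg : imageAlong θ W = imageAlong θ (sSup 𝒳) := by
    refine le_antisymm ?_ (Subgroup.map_mono (Subgroup.comap_mono le_sup_left))
    rintro _ ⟨⟨x, hxT⟩, hx, rfl⟩
    have hx' : x ∈ ((sSup 𝒳 ⊔ R : Subgroup Ω) : Set Ω) := hx
    rw [Subgroup.coe_mul_of_left_le_normalizer_right _ _
      (hsup.1.trans (StronglyClosed.le_normalizer hRE))] at hx'
    obtain ⟨a, ha, b, hb, hab⟩ := hx'
    refine ⟨⟨a, hsup.1 ha⟩, ha, (theta_eq_of hker ?_)⟩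
    show a⁻¹ * x ∈ R
    rw [← hab]
    simpa using hb
  have hWn : Eb.IsNormal (imageAlong θ W) := by
    have h1 : imageAlong θ (sSup 𝒳) = sSup ((fun X => imageAlong θ X) '' 𝒳) := by
      have hle : ∀ X ∈ 𝒳, X ≤ T := fun X hX => hX.1.1
      refine le_antisymm ?_ (sSup_le ?_)
      · have hU : sSup 𝒳 ≤ preimageAlong θ (sSup ((fun X => imageAlong θ X) '' 𝒳)) :=
          sSup_le fun X hX x hx => mem_pre.2 ⟨hle X hX hx,
            (le_sSup (show imageAlong θ X ∈ (fun X => imageAlong θ X) '' 𝒳 from ⟨X, hX, rfl⟩))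
              ((mem_imageAlong (hle X hX)).2 ⟨x, hx, rfl⟩)⟩
        rintro _ ⟨⟨x, hxT⟩, hx, rfl⟩
        have := (mem_pre.1 (hU hx)).2
        rwa [show T.subtype ⟨x, hxT⟩ = x from rfl, thFn_apply hxT] at this
      · rintro _ ⟨X, hX, rfl⟩
        exact Subgroup.map_mono (Subgroup.comap_mono (le_sSup hX))
    rw [himg, h1]
    refine sSup_closed_of_finite (hfin.image _) ?_ isNormal_bot fun X Y => isNormal_sup
    rintro _ ⟨X, hX, rfl⟩
    refine isNormal_of_stronglyClosed_comm hQp hEbs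
      (stronglyClosed_image hTp hE.1 hEb hRE hX.1) fun x hx y hy => ?_
    obtain ⟨a, ha, rfl⟩ := (mem_imageAlong hX.1.1).1 hx
    obtain ⟨b, hb, rfl⟩ := (mem_imageAlong hX.1.1).1 hy
    rw [thFn_apply (hX.1.1 ha), thFn_apply (hX.1.1 hb)]
    rw [← commutatorElement_eq_one_iff_mul_comm, ← map_commutatorElement, hker]
    exact hX.2.2 (Subgroup.commutator_mem_commutator ha hb)
  set Z := (Subgroup.center ↥(imageAlong θ W)).map (imageAlong θ W).subtype with hZ
  have hZle : Z ≤ imageAlong θ W := Subgroup.map_subtype_le _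
  have hZn : Eb.IsNormal Z := isNormal_of_characteristic hWn hZle (by
    rw [show Z.subgroupOf (imageAlong θ W) = Subgroup.center ↥(imageAlong θ W) from
      Subgroup.comap_map_eq_self_of_injective (imageAlong θ W).subtype_injective _]
    infer_instance)
  set R' := preimageAlong θ Z with hR'def
  have hR'E : E.StronglyClosed R' :=
    stronglyClosed_preimage hTp hE.1 hEb hRE (stronglyClosed_of_isNormal hZn)
  have hR'mem : ∀ {x}, x ∈ R' ↔ x ∈ W ∧ ∀ v ∈ W, ⁅x, v⁆ ∈ R := by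
    intro x
    rw [hR'def, mem_pre]
    constructor
    · rintro ⟨hxT, hxZ⟩
      obtain ⟨w, hw, hwx⟩ := hxZ
      have hwm : thFn θ x ∈ imageAlong θ W := hwx ▸ w.2
      obtain ⟨u, hu, hux⟩ := (mem_imageAlong hWT).1 hwm
      refine ⟨?_, fun v hv => ?_⟩
      · have h := (thFn_eq_iff hker (hWT hu) hxT).1 hux
        have := W.mul_mem hu (Subgroup.mem_sup_right h : u⁻¹ * x ∈ W)
        rwa [mul_inv_cancel_left] at this
      · have hv' : θ ⟨v, hWT hv⟩ ∈ imageAlong θ W := ⟨⟨v, hWT hv⟩, hv, rfl⟩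
        have hc := congrArg Subtype.val (Subgroup.mem_center_iff.1 hw ⟨_, hv'⟩)
        rw [Subgroup.coe_mul, Subgroup.coe_mul] at hc
        rw [show (w : T ⧸ R.subgroupOf T) = thFn θ x from hwx, thFn_apply hxT] at hc
        refine (hker ⁅(⟨x, hxT⟩ : T), ⟨v, hWT hv⟩⁆).1 ?_
        rw [map_commutatorElement, commutatorElement_eq_one_iff_mul_comm]
        exact hc.symm
    · rintro ⟨hxW, hx⟩
      have hxm : thFn θ x ∈ imageAlong θ W := (mem_imageAlong hWT).2 ⟨x, hxW, rfl⟩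
      refine ⟨hWT hxW, ⟨⟨_, hxm⟩, Subgroup.mem_center_iff.2 fun y => Subtype.ext ?_, rfl⟩⟩
      obtain ⟨v, hv, hvy⟩ := (mem_imageAlong hWT).1 y.2
      show (y : T ⧸ R.subgroupOf T) * thFn θ x = thFn θ x * y
      rw [← hvy, thFn_apply (hWT hxW), thFn_apply (hWT hv)]
      refine (commutatorElement_eq_one_iff_mul_comm.1 ?_).symm
      rw [← map_commutatorElement, hker]
      exact hx v hv
  have hR'W : R' ≤ W := fun x hx => (hR'mem.1 hx).1
  -- invariance under `Aut_F(T)`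
  have hWinv : ∀ β ∈ F.autGroup T, ∀ x ∈ W, apl β x ∈ W := by
    intro β hβ
    have hm := (iso_apl (F := F) hT.1 hβ).1
    have key : W ≤ (W.comap (T.subtype.comp β.toMonoidHom)).map T.subtype := by
      refine sup_le (sSup_le fun X hX x hx => ?_) fun x hx => ?_
      · refine ⟨⟨x, hX.1.1 hx⟩, Subgroup.mem_sup_left ?_, rfl⟩
        have hXT := hX.1.1
        refine (le_sSup (show (X.subgroupOf T).map (T.subtype.comp β.toMonoidHom) ∈ 𝒳 from ?_))
          ⟨⟨x, hXT hx⟩, hx, rfl⟩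
        refine ⟨stronglyClosed_iff.2 ⟨by rintro _ ⟨z, -, rfl⟩; exact (β z).2,
          fun Y f hY hf y hy => ?_⟩, fun r hr => ?_, ?_⟩
        · obtain ⟨h, hh, hhx⟩ := exists_transport hE.2.2 hf (Subgroup.inv_mem _ hβ)
          obtain ⟨z, hz, hzy⟩ := hY hy
          have hyT : y ∈ T := hf.le hy
          have hzy' : apl β⁻¹ y = z := by
            rw [← hzy]
            show apl β⁻¹ ((β z : T) : Ω) = z
            rw [← apl_coe β z, apl_inv_apl β z.2]
          have hmem : apl β⁻¹ y ∈ (Y.subgroupOf T).map (T.subtype.comp (β⁻¹).toMonoidHom) :=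
            ⟨⟨y, hyT⟩, hy, (apl_apply _ hyT).symm⟩
          have h1 := StronglyClosed.mor_mem hX.1 hh hmem (hzy' ▸ hz)
          rw [hhx y hy] at h1
          exact ⟨⟨_, apl_mem β⁻¹ (hf.mem_S hy)⟩, h1, (apl_coe β _).symm.trans
            (apl_apl_inv β (hf.mem_S hy))⟩
        · refine ⟨⟨_, apl_mem β⁻¹ (hRT.le hr)⟩, hX.2.1 (StronglyClosed.mor_mem hR
            (iso_apl (F := F) hT.1 (Subgroup.inv_mem _ hβ)).1 (hRT.le hr) hr), ?_⟩
          exact (apl_coe β _).symm.trans (apl_apl_inv β (hRT.le hr))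
        · rw [← Subgroup.map_commutator, Subgroup.map_le_iff_le_comap, Subgroup.commutator_le]
          intro a ha b hb
          show ((β ⁅a, b⁆ : T) : Ω) ∈ R
          rw [← apl_coe β]
          exact StronglyClosed.mor_mem hR hm (SetLike.coe_mem _)
            (hX.2.2 (Subgroup.commutator_mem_commutator ha hb))
      · refine ⟨⟨x, hRT.le hx⟩, Subgroup.mem_sup_right ?_, rfl⟩
        show ((β ⟨x, hRT.le hx⟩ : T) : Ω) ∈ R
        rw [← apl_apply β]
        exact StronglyClosed.mor_mem hR hm (hRT.le hx) hx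
    intro x hx
    obtain ⟨z, hz, hzx⟩ := key hx
    rw [← hzx]
    exact (apl_coe β z).symm ▸ hz
  have hR'inv : ∀ β ∈ F.autGroup T, ∀ x ∈ R', apl β x ∈ R' := by
    intro β hβ x hx
    obtain ⟨hxW, hxc⟩ := hR'mem.1 hx
    have hm := (iso_apl (F := F) hT.1 hβ).1
    refine hR'mem.2 ⟨hWinv β hβ x hxW, fun v hv => ?_⟩
    have hu := hWinv β⁻¹ (Subgroup.inv_mem _ hβ) v hv
    have h1 := StronglyClosed.mor_mem hR hm (SetLike.coe_mem ⁅(⟨x, hWT hxW⟩ : T), ⟨_, hWT hu⟩⁆)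
      (hxc _ hu)
    rwa [apl_coe, map_commutatorElement, show ((⁅β ⟨x, hWT hxW⟩, β ⟨_, hWT hu⟩⁆ : T) : Ω) =
      ⁅((β ⟨x, hWT hxW⟩ : T) : Ω), ((β ⟨_, hWT hu⟩ : T) : Ω)⁆ from rfl, ← apl_apply, ← apl_apply,
      apl_apl_inv β (hWT hv)] at h1
  refine ⟨R', stronglyClosed_iff.2 ⟨(hR'W.trans hWT).trans hT.1, fun X f hX hf x hx => ?_⟩, ?_,
    hR'W.trans hWT, ?_⟩
  · obtain ⟨β, hβ, g, hg, hfg⟩ := exists_frattini hE.2.2 (hX.trans (hR'W.trans hWT)) hf
    rw [hfg x hx]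
    exact hR'inv β hβ _ (StronglyClosed.mor_mem hR'E hg hx (hX hx))
  · refine lt_of_le_of_ne (le_preimageAlong hker hRT.le Z) fun e => ?_
    obtain ⟨X, hX, hXlt, hXc⟩ := exists_step_of_solvable hTp hE.1 hsol hRE hRT.ne
    obtain ⟨x, hxX, hxR⟩ := SetLike.exists_of_lt hXlt
    have hxW : x ∈ W := Subgroup.mem_sup_left (le_sSup (show X ∈ 𝒳 from ⟨hX, hXlt.le, hXc⟩) hxX)
    have hne : imageAlong θ W ≠ ⊥ := fun h => hxR ((thFn_eq_one_iff hker (hWT hxW)).1
      (Subgroup.mem_bot.1 (h ▸ (mem_imageAlong hWT).2 ⟨x, hxW, rfl⟩)))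
    haveI : Nontrivial ↥(imageAlong θ W) := (Subgroup.nontrivial_iff_ne_bot _).2 hne
    have hpW : IsPGroup p ↥(imageAlong θ W) := (hTp.to_quotient _).to_subgroup _
    haveI := hpW.center_nontrivial
    obtain ⟨⟨z, hz⟩, hz1⟩ := exists_ne (1 : Subgroup.center ↥(imageAlong θ W))
    obtain ⟨u, hu, huz⟩ := (mem_imageAlong hWT).1 z.2
    have huR : u ∈ R := e.ge (mem_pre.2 ⟨hWT hu, huz.symm ▸ ⟨z, hz, rfl⟩⟩)
    refine hz1 (Subtype.ext (Subtype.ext ?_))
    rw [← huz]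
    exact (thFn_eq_one_iff hker (hWT hu)).2 huR
  · exact Subgroup.commutator_le.2 fun a ha b hb => (hR'mem.1 ha).2 b (hR'W hb)

end Cfsg.Agent.FusSys
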