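import Cfsg.Agent.FusSys.CharAut
import Cfsg.Agent.FusSys.GenCtl

/-!
Sparse saturated systems are constrained for odd primes and for S₄-free systems.
-/

set_option autoImplicit false

namespace Cfsg.Agent.FusSys

open Cfsg Cfsg.FusionSystem

universe u

variable {Ω : Type u} [Group Ω] {S : Subgroup Ω} {F : FusionSystem S} {p : ℕ}

/-- A saturated subsystem over a subgroup equal to `S` in a sparse system is everything or inner. -/
theorem sparse_dichotomy
    (hsp : ∀ E : FusionSystem S, E.IsSaturated p → E.IsSubsystemOf F →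
      (∀ P : Subgroup Ω, E.Hom P = F.Hom P) ∨
        (∀ P : Subgroup Ω, E.Hom P = (innerFusionSystem S).Hom P))
    {T : Subgroup Ω} (hT : T = S) (E : FusionSystem T) (hE : E.IsSaturated p)
    (hEF : E.IsSubsystemOf F) :
    (∀ P f, Mor F P f → Mor E P f) ∨ AllInner E := by
  subst hT
  rcases hsp E hE hEF with h | h
  · exact Or.inl fun P f ⟨φ, hφ, hf⟩ => ⟨φ, (h P).symm ▸ hφ, hf⟩
  · exact Or.inr (allInner_iff.2 h)

/-- The automorphisms of `V` in a system which is inner at `V` form a `p`-group. -/
theorem isPGroup_autGroup_of_innerAt [Finite S] (hS : IsPGroup p S) {V : Subgroup Ω}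
    (hV : V ≤ S) (hSV : S ≤ Subgroup.normalizer (V : Set Ω)) (h : InnerAt F V) :
    IsPGroup p (F.autGroup V) := by
  refine (isPGroup_autInducedBy (P := V) hS).to_le fun α hα => ?_
  have hi := iso_apl hV hα
  obtain ⟨-, s, hs, hsx⟩ := mor_inner.1 (h V _ hi.1 (nRel_of_mapsTo (g := apl α) hV hSV
    (by rw [sup_idem]; exact hi.1) (fun _ _ => rfl) fun x hx => apl_mem _ hx))
  exact mem_autInducedBy_iff.2 ⟨s, hs, hSV hs, fun x hx => hsx x hx⟩

/-- A sparse system is constrained when `p` is odd or it is S₄-free. -/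
theorem constrained_of_sparse [Fact p.Prime] [Finite S] (hS : IsPGroup p S) (hF : F.IsSaturated p)
    (hp : p ≠ 2 ∨ F.IsSectionFree p (Equiv.Perm (Fin 4))) (hne : ¬ AllInner F)
    (hsp : ∀ E : FusionSystem S, E.IsSaturated p → E.IsSubsystemOf F →
      (∀ P : Subgroup Ω, E.Hom P = F.Hom P) ∨
        (∀ P : Subgroup Ω, E.Hom P = (innerFusionSystem S).Hom P)) :
    F.IsCentric F.core := by
  by_contra hQc
  set Q := F.core with hQdef
  have hQn : F.IsNormal Q := isNormal_core
  have hQS : Q ≤ S := hQn.1
  -- subgroups normal in `S` but not in the system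
  have hnorm : ∀ U, U ≤ S → S ≤ Subgroup.normalizer (U : Set Ω) → ¬ F.IsNormal U → InnerAt F U := by
    intro U hU hSU hUn
    refine innerAt_of_allInner_normalizer hU fun N hN => ?_
    have hfn : F.IsFullyNormalized U := ⟨hU, fun R _ => by
      rw [normalizerIn_eq_of_le hSU]
      exact Subgroup.card_le_of_le inf_le_left⟩
    refine (sparse_dichotomy hsp (normalizerIn_eq_of_le hSU) N
      (normalizerSystem_saturated hS hF hfn hN) (normalizerSystem_subsystem hS hF hN)).resolve_left
      fun hall => hUn ((isNormal_iff_nRel hSU hU).2 fun P f hf =>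
        ((mor_normalizerSystem hN).1 (hall P f hf)).2)
  have hSN : S ≤ Subgroup.normalizer (Q : Set Ω) :=
    StronglyClosed.le_normalizer (stronglyClosed_of_isNormal hQn)
  by_cases hQ0 : Q = ⊥
  · refine hne (allInner_of_charAut hS hF hp fun V hV hV0 hVc => ?_)
    have hSV : S ≤ Subgroup.normalizer (V : Set Ω) := fun s hs =>
      (normalizerIn_le_of_characteristic (S := S) hV hVc (le_normalizerIn le_rfl hs)).2
    exact isPGroup_autGroup_of_innerAt hS hV hSV
      (hnorm V hV hSV fun h => hV0 (le_bot_iff.1 (hQ0 ▸ le_core h)))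
  have hQtop : Q ≠ S := core_ne_top hQc
  have hU : Q ⊔ centralizerIn S Q ≤ S := sup_le hQS inf_le_left
  have hSU : S ≤ Subgroup.normalizer ((Q ⊔ centralizerIn S Q : Subgroup Ω) : Set Ω) :=
    fun x hx => split_maps.normalizes hSN hx
  have hUn : ¬ F.IsNormal (Q ⊔ centralizerIn S Q) := fun h =>
    (lt_sup_centralizer hQn hQc).not_ge (le_core h)
  -- every map acts on the core as an element of `S`
  have hact : ∀ P f, Mor F P f → KRel F (autInducedBy S Q) P f := by
    rcases sparse_dichotomy hsp rfl (actSys F hQS hSN) (actSys_saturated hS hF hQn) actSys_le with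
      h | h
    · exact fun P f hf => (mor_actSys.1 (h P f hf)).2
    · refine absurd ?_ hne
      refine split_step hS hF hQn (hQS := hQS) (hSN := hSN) (M := Mor (innerFusionSystem S)) (subRel_mor (innerFusionSystem S))
        (fun N hN X f hf => ?_) h
      obtain ⟨hfF, hNf⟩ := (mor_normalizerSystem hN).1 hf
      exact hnorm _ hU hSU hUn X f hfF hNf
  obtain ⟨Ω', _, S', E, θ, _, hS', hE, hEs, -, hne', hpre⟩ := exists_factor hS hF hQn hQ0 hQtop
  have hsc := stronglyClosed_of_isNormal hQn
  have hrange := hE.2.2.1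
  have hEi : AllInner E := by
    refine allInner_of_charAut hS' hEs (hp.imp id fun hf => free_factor hS hF hQn hE hf)
      fun V' hV' hV'0 hV'c => ?_
    set V := preimageAlong θ V' with hVdef
    have hVS : V ≤ S := pre_le
    have hS'V : S' ≤ Subgroup.normalizer (V' : Set Ω') := fun s hs =>
      (normalizerIn_le_of_characteristic (S := S') hV' hV'c (le_normalizerIn le_rfl hs)).2
    have hSV : S ≤ Subgroup.normalizer (V : Set Ω) := le_normalizer_preimage (hrange.le.trans hS'V)
    have hlt := hpre V' hV' hV'0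
    obtain ⟨π, hπ⟩ :=
      exists_autMap_of_morphism (isSurjectiveMorphism_of_factor hS hF hsc hE).1 hVS
    have hsurj := autMap_surjective hE hsc hVS hlt.le π hπ
    have hp' : IsPGroup p (E.autGroup (imageAlong θ V)) :=
      (isPGroup_autGroup_of_innerAt hS hVS hSV
        (hnorm V hVS hSV fun h => hlt.not_ge (le_core h))).of_surjective π hsurj
    rwa [hVdef, imageAlong_preimageAlong (hrange ▸ hV')] at hp'
  have hn := isNormal_preimage_of_act hS hF hQn hE hact hEi.isNormal
  rw [show preimageAlong θ S' = S from le_antisymm pre_le fun s hs =>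
    mem_pre.2 ⟨hs, hrange ▸ thFn_mem_range _ hs⟩] at hn
  exact hQtop (le_antisymm hQS (le_core hn))

end Cfsg.Agent.FusSys
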