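import Cfsg.Agent.FusSys.Marks
import Cfsg.Agent.FusSys.GroupSys

/-!
Finite sets whose marks are constant on the classes of a fusion system.
-/

set_option autoImplicit false

namespace Cfsg.Agent.FusSys

open Cfsg Cfsg.FusionSystem

section Pure

variable {G : Type*} [Group G] [Finite G]

/-- Repeat a list `e` times. -/
def scaleL {α : Type*} (e : ℕ) (L : List α) : List α := (List.replicate e L).flatten

theorem markL_scaleL (e : ℕ) (L : List (Subgroup G)) (H : Subgroup G) :
    markL (scaleL e L) H = e * markL L H := by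
  induction e with
  | zero => simp [scaleL, markL]
  | succ n ih =>
    have : scaleL (n + 1) L = L ++ scaleL n L := by simp [scaleL, List.replicate_succ]
    rw [this, markL_append, ih]
    ring

theorem mem_scaleL {α : Type*} {e : ℕ} {L : List α} {a : α} (h : a ∈ scaleL e L) : a ∈ L := by
  obtain ⟨l, hl, ha⟩ := List.mem_flatten.1 h
  exact List.eq_of_mem_replicate hl ▸ ha

/-- The index of `Q` in its normalizer. -/
noncomputable def wIndex (Q : Subgroup G) : ℕ := Q.relIndex (Subgroup.normalizer (Q : Set G))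

theorem card_mul_wIndex (Q : Subgroup G) :
    Nat.card Q * wIndex Q = Nat.card (Subgroup.normalizer (Q : Set G)) := by
  rw [wIndex, ← Subgroup.relIndex_bot_left Q,
    ← Subgroup.relIndex_bot_left (Subgroup.normalizer (Q : Set G))]
  exact Subgroup.relIndex_mul_relIndex ⊥ Q _ bot_le Subgroup.le_normalizer

theorem mark_conj_list (L : List (Subgroup G)) (g : G) (H : Subgroup G) :
    markL L (H.map (MulAut.conj g).toMonoidHom) = markL L H := by
  rw [← mark_lset, ← mark_lset, mark_conj]

theorem eq_conj_of_mark_ne_zero {Q R : Subgroup G} (h : mark (G ⧸ Q) R ≠ 0)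
    (hc : Nat.card Q ≤ Nat.card R) : ∃ g : G, R = Q.map (MulAut.conj g).toMonoidHom := by
  obtain ⟨g, hg⟩ := mark_quot_ne_zero h
  refine ⟨g, Subgroup.eq_of_le_of_card_ge (fun k hk => ⟨g⁻¹ * k * g, hg k hk, ?_⟩) ?_⟩
  · rw [MulEquiv.coe_toMonoidHom, MulAut.conj_apply]
    group
  · rw [Subgroup.card_map_of_injective (MulAut.conj g).injective]
    exact hc

theorem markL_eq_zero_of_class {K : Subgroup G → Prop}
    (hconj : ∀ Q g, K Q → K (Q.map (MulAut.conj g).toMonoidHom)) {c : ℕ}
    (hcard : ∀ Q, K Q → Nat.card Q = c) {A : List (Subgroup G)} (hA : ∀ Q ∈ A, K Q)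
    {R : Subgroup G} (hR : c ≤ Nat.card R) (hRK : ¬ K R) : markL A R = 0 := by
  refine List.sum_eq_zero fun m hm => ?_
  obtain ⟨Q, hQ, rfl⟩ := List.mem_map.1 hm
  by_contra hne
  obtain ⟨g, rfl⟩ := eq_conj_of_mark_ne_zero hne ((hcard Q (hA Q hQ)).le.trans hR)
  exact hRK (hconj Q g (hA Q hQ))

/-- Adjust the marks on a class of subgroups of equal order to a common value. -/
theorem exists_fix_class {K : Subgroup G → Prop}
    (hconj : ∀ Q g, K Q → K (Q.map (MulAut.conj g).toMonoidHom)) {c : ℕ}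
    (hcard : ∀ Q, K Q → Nat.card Q = c) (M : ℕ) :
    ∀ (n : ℕ) (L : List (Subgroup G)), Nat.card {Q // K Q ∧ markL L Q ≠ M} ≤ n →
      (∀ Q, K Q → markL L Q ≤ M ∧ wIndex Q ∣ M - markL L Q) →
        ∃ A : List (Subgroup G), (∀ Q ∈ A, K Q) ∧ ∀ Q, K Q → markL (L ++ A) Q = M := by
  intro n
  induction n with
  | zero =>
    intro L h _
    refine ⟨[], by simp, fun Q hQ => ?_⟩
    rw [List.append_nil]
    by_contra hne
    have h0 := Finite.card_eq_zero_iff.1 (Nat.le_zero.1 h)
    exact h0.false ⟨Q, hQ, hne⟩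
  | succ n ih =>
    intro L h hL
    by_cases hall : ∀ Q, K Q → markL L Q = M
    · exact ⟨[], by simp, fun Q hQ => by rw [List.append_nil]; exact hall Q hQ⟩
    simp only [not_forall] at hall
    obtain ⟨Q₀, hQ₀, hne⟩ := hall
    obtain ⟨hle, k, hk⟩ := hL Q₀ hQ₀
    have hnew : ∀ R, K R → markL (L ++ List.replicate k Q₀) R = M ∨
        markL (L ++ List.replicate k Q₀) R = markL L R := by
      intro R hR
      rw [markL_append, markL_replicate]
      by_cases h0 : mark (G ⧸ Q₀) R = 0
      · exact Or.inr (by rw [h0, mul_zero, add_zero])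
      · refine Or.inl ?_
        obtain ⟨g, rfl⟩ := eq_conj_of_mark_ne_zero h0 (by rw [hcard _ hQ₀, hcard _ hR])
        rw [mark_conj_list, mark_conj, mark_quot_self, ← wIndex, mul_comm k, ← hk]
        omega
    have hQ₀M : markL (L ++ List.replicate k Q₀) Q₀ = M := by
      rw [markL_append, markL_replicate, mark_quot_self, ← wIndex, mul_comm k, ← hk]
      omega
    have hlt : Nat.card {Q // K Q ∧ markL (L ++ List.replicate k Q₀) Q ≠ M} ≤ n := by
      have hinj : Nat.card {Q // K Q ∧ markL (L ++ List.replicate k Q₀) Q ≠ M} ≤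
          Nat.card {Q : {Q // K Q ∧ markL L Q ≠ M} // (Q : Subgroup G) ≠ Q₀} := by
        refine Nat.card_le_card_of_injective (fun Q => ⟨⟨Q.1, Q.2.1, ?_⟩, ?_⟩)
          fun a b hab => Subtype.ext (congrArg (fun x => (x.1 : Subgroup G)) hab)
        · rcases hnew Q.1 Q.2.1 with he | he
          · exact absurd he Q.2.2
          · exact he ▸ Q.2.2
        · intro he
          exact Q.2.2 ((congrArg _ he).trans hQ₀M)
      have hlt2 := Finite.card_subtype_lt
        (p := fun Q : {Q // K Q ∧ markL L Q ≠ M} => (Q : Subgroup G) ≠ Q₀)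
        (x := ⟨Q₀, hQ₀, hne⟩) (fun hx => hx rfl)
      omega
    obtain ⟨A, hA, hAM⟩ := ih (L ++ List.replicate k Q₀) hlt fun Q hQ => by
      rcases hnew Q hQ with he | he
      · rw [he]; exact ⟨le_rfl, by simp⟩
      · rw [he]; exact hL Q hQ
    refine ⟨List.replicate k Q₀ ++ A, fun Q hQ => ?_, fun Q hQ => ?_⟩
    · rcases List.mem_append.1 hQ with h1 | h1
      · exact List.eq_of_mem_replicate h1 ▸ hQ₀
      · exact hA Q h1
    · rw [← List.append_assoc]
      exact hAM Q hQ

end Pure

variable {Ω : Type*} [Group Ω] {S : Subgroup Ω}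
variable {F : FusionSystem S} {P Q : Subgroup Ω} {f : Ω → Ω} {p : ℕ}

theorem map_conj_subgroupOf_isConj [Finite S] (hP : F.IsConj P Q) (g : S) :
    F.IsConj P (((Q.subgroupOf S).map (MulAut.conj g).toMonoidHom).map S.subtype) := by
  have hQ : Q ≤ S := by
    obtain ⟨φ, hφ, rfl⟩ := hP
    rintro _ ⟨x, rfl⟩
    exact (F.le_of_mem hφ).2 x
  refine isConj_trans hP (Iso.isConj (f := fun x => (g : Ω) * x * (g : Ω)⁻¹)
    ⟨mor_conj hQ g.2, fun y => ⟨?_, ?_⟩⟩)
  · rintro ⟨_, ⟨x, hx, rfl⟩, rfl⟩
    exact ⟨(x : Ω), hx, rfl⟩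
  · rintro ⟨x, hx, rfl⟩
    exact ⟨_, ⟨⟨x, hQ hx⟩, hx, rfl⟩, rfl⟩

/-- The marks of a list are constant on the classes of `F`, for the subgroups not satisfying `C`. -/
def StableOff (F : FusionSystem S) (C : Subgroup Ω → Prop) (L : List (Subgroup S)) : Prop :=
  ∀ P Q f, Iso F P Q f → ¬ C P → markL L (P.subgroupOf S) = markL L (Q.subgroupOf S)

/-- A family of subgroups closed under fusion and under taking subgroups. -/
structure ClosedFam (F : FusionSystem S) (C : Subgroup Ω → Prop) : Prop where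
  le : ∀ {P}, C P → P ≤ S
  conj : ∀ {P Q f}, Iso F P Q f → C P → C Q
  down : ∀ {P R}, C P → R ≤ P → C R

theorem ClosedFam.of_conj [Finite S] {C : Subgroup Ω → Prop} (hC : ClosedFam F C)
    (h : F.IsConj P Q) : C Q → C P := by
  obtain ⟨g, hg⟩ := isConj_iff.1 (isConj_symm h)
  exact hC.conj hg

theorem subgroupOf_map_subtype_self' {G : Type*} [Group G] {H : Subgroup G} (R : Subgroup H) :
    (R.map H.subtype).subgroupOf H = R :=
  Subgroup.comap_map_eq_self_of_injective H.subtype_injective R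

/-- The general stabilization. -/
theorem exists_stable_aux [Finite S] {C₀ : Subgroup Ω → Prop} (D : ℕ → Prop) (hD1 : D 1)
    (hDm : ∀ a b, D a → D b → D (a * b))
    (hstep : ∀ (C : Subgroup Ω → Prop) (L : List (Subgroup S)), ClosedFam F C →
      StableOff F C L → ∀ P₀, C P₀ → (∀ R, C R → Nat.card R ≤ Nat.card P₀) →
      ∃ e M, D e ∧ ∀ Q, F.IsConj P₀ Q → e * markL L (Q.subgroupOf S) ≤ M ∧
        wIndex (Q.subgroupOf S) ∣ M - e * markL L (Q.subgroupOf S)) :
    ∀ (n : ℕ) (C : Subgroup Ω → Prop) (L : List (Subgroup S)),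
      Nat.card {P : Subgroup S // C (P.map S.subtype)} ≤ n → ClosedFam F C →
      (∀ R, C R → C₀ R) → StableOff F C L →
      ∃ d L', D d ∧ StableOff F (fun _ => False) L' ∧
        (∀ R ≤ S, ¬ C R → markL L' (R.subgroupOf S) = d * markL L (R.subgroupOf S)) ∧
        (∀ R ∈ L', R ∈ L ∨ C₀ (R.map S.subtype)) ∧
        ∃ A, (∀ R ∈ A, C₀ (R.map S.subtype)) ∧ ∀ H, markL L' H = d * markL L H + markL A H := by
  intro n
  induction n with
  | zero =>
    intro C L hn hC _ hst
    have hno : ∀ R, ¬ C R := fun R hR =>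
      (Finite.card_eq_zero_iff.1 (Nat.le_zero.1 hn)).false
        ⟨R.subgroupOf S, by rwa [Subgroup.map_subgroupOf_eq_of_le (hC.le hR)]⟩
    exact ⟨1, L, hD1, fun P Q f hf _ => hst P Q f hf (hno P), fun R _ _ => (one_mul _).symm,
      fun R hR => Or.inl hR, [], by simp, fun H => by simp [markL]⟩
  | succ n ih =>
    intro C L hn hC hC₀ hst
    by_cases hemp : ∀ R, ¬ C R
    · exact ⟨1, L, hD1, fun P Q f hf _ => hst P Q f hf (hemp P), fun R _ _ => (one_mul _).symm,
        fun R hR => Or.inl hR, [], by simp, fun H => by simp [markL]⟩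
    simp only [not_forall, not_not] at hemp
    obtain ⟨R₀, hR₀⟩ := hemp
    haveI : Nonempty {P : Subgroup S // C (P.map S.subtype)} :=
      ⟨⟨R₀.subgroupOf S, by rwa [Subgroup.map_subgroupOf_eq_of_le (hC.le hR₀)]⟩⟩
    obtain ⟨⟨P', hP'⟩, hmax'⟩ := Finite.exists_max
      (fun P : {P : Subgroup S // C (P.map S.subtype)} => Nat.card P.1)
    obtain ⟨P₀, hP₀def⟩ : ∃ P₀, P₀ = P'.map S.subtype := ⟨_, rfl⟩
    rw [← hP₀def] at hP'
    have hcardmap : ∀ R : Subgroup S, Nat.card (R.map S.subtype) = Nat.card R := fun R =>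
      Subgroup.card_map_of_injective S.subtype_injective
    have hmax : ∀ R, C R → Nat.card R ≤ Nat.card P₀ := by
      intro R hR
      have := hmax' ⟨R.subgroupOf S, by rwa [Subgroup.map_subgroupOf_eq_of_le (hC.le hR)]⟩
      rw [← hcardmap, ← hcardmap, Subgroup.map_subgroupOf_eq_of_le (hC.le hR), ← hP₀def] at this
      exact this
    obtain ⟨e, M, he, hM⟩ := hstep C L hC hst P₀ hP' hmax
    let K : Subgroup S → Prop := fun Q => F.IsConj P₀ (Q.map S.subtype)
    have hKconj : ∀ Q g, K Q → K (Q.map (MulAut.conj g).toMonoidHom) := fun Q g hQ => by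
      have := map_conj_subgroupOf_isConj hQ g
      rwa [subgroupOf_map_subtype_self' Q] at this
    have hKcard : ∀ Q, K Q → Nat.card Q = Nat.card P₀ := fun Q hQ => by
      rw [← hcardmap, ← isConj_card_eq hQ]
    obtain ⟨A, hA, hAM⟩ := exists_fix_class hKconj hKcard M _ (scaleL e L) le_rfl fun Q hQ => by
      rw [markL_scaleL]
      have := hM _ hQ
      rwa [subgroupOf_map_subtype_self'] at this
    let C' : Subgroup Ω → Prop := fun R => C R ∧ ¬ F.IsConj P₀ R
    have hC' : ClosedFam F C' := by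
      refine ⟨fun h => hC.le h.1, fun hf h => ⟨hC.conj hf h.1, fun h2 => h.2 ?_⟩,
        fun {P R} h hRP => ⟨hC.down h.1 hRP, fun h2 => h.2 ?_⟩⟩
      · exact isConj_trans h2 (isConj_symm hf.isConj)
      · haveI := finite_of_le (hC.le h.1)
        have : R = P := Subgroup.eq_of_le_of_card_ge hRP ((hmax P h.1).trans (isConj_card_eq h2).le)
        exact this ▸ h2
    have hkeep : ∀ R ≤ S, ¬ C' R → ¬ F.IsConj P₀ R →
        markL (scaleL e L ++ A) (R.subgroupOf S) = e * markL L (R.subgroupOf S) := by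
      intro R hRS hR hR2
      rw [markL_append, markL_scaleL]
      suffices h0 : markL A (R.subgroupOf S) = 0 by rw [h0, add_zero]
      refine List.sum_eq_zero fun m hm => ?_
      obtain ⟨Q, hQ, rfl⟩ := List.mem_map.1 hm
      by_contra hne
      obtain ⟨g, hg⟩ := mark_quot_ne_zero hne
      have hsub : R ≤ (Q.map (MulAut.conj g).toMonoidHom).map S.subtype := fun x hx =>
        ⟨⟨x, hRS hx⟩, ⟨g⁻¹ * ⟨x, hRS hx⟩ * g, hg _ hx, by
          rw [MulEquiv.coe_toMonoidHom, MulAut.conj_apply]; group⟩, rfl⟩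
      have hQC : C ((Q.map (MulAut.conj g).toMonoidHom).map S.subtype) :=
        hC.of_conj (isConj_symm (hKconj Q g (hA Q hQ))) hP'
      exact hR ⟨hC.down hQC hsub, hR2⟩
    have hst' : StableOff F C' (scaleL e L ++ A) := by
      intro P Q f hf hP
      by_cases hP2 : F.IsConj P₀ P
      · rw [hAM _ (show K _ by
            show F.IsConj P₀ _
            rwa [Subgroup.map_subgroupOf_eq_of_le hf.left_le]),
          hAM _ (show K _ by
            show F.IsConj P₀ _
            rw [Subgroup.map_subgroupOf_eq_of_le hf.right_le]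
            exact isConj_trans hP2 hf.isConj)]
      · have hQ2 : ¬ F.IsConj P₀ Q := fun h => hP2 (isConj_trans h (isConj_symm hf.isConj))
        have hQ : ¬ C' Q := fun h => hP ⟨hC.of_conj hf.isConj h.1, hP2⟩
        rw [hkeep P hf.left_le hP hP2, hkeep Q hf.right_le hQ hQ2,
          hst P Q f hf fun h => hP ⟨h, hP2⟩]
    have hlt : Nat.card {P : Subgroup S // C' (P.map S.subtype)} ≤ n := by
      have h1 : Nat.card {P : Subgroup S // C' (P.map S.subtype)} ≤
          Nat.card {Q : {P : Subgroup S // C (P.map S.subtype)} //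
            ¬ F.IsConj P₀ ((Q : Subgroup S).map S.subtype)} :=
        Nat.card_le_card_of_injective (fun Q => ⟨⟨Q.1, Q.2.1⟩, Q.2.2⟩)
          fun a b hab => Subtype.ext (congrArg (fun x => (x.1 : Subgroup S)) hab)
      have h2 := Finite.card_subtype_lt
        (p := fun Q : {P : Subgroup S // C (P.map S.subtype)} =>
          ¬ F.IsConj P₀ ((Q : Subgroup S).map S.subtype))
        (x := ⟨P', hP₀def ▸ hP'⟩) (not_not.2 (hP₀def ▸ isConj_refl (hC.le hP')))
      omega
    obtain ⟨d, L', hd, hL's, hL'm, hL'mem, A', hA', hA'm⟩ :=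
      ih C' (scaleL e L ++ A) hlt hC' (fun R h => hC₀ R h.1) hst'
    refine ⟨d * e, L', hDm _ _ hd he, hL's, fun R hRS hR => ?_, fun R hR => ?_,
      scaleL d A ++ A', fun R hR => ?_, fun H => ?_⟩
    · rw [hL'm R hRS fun h => hR h.1, hkeep R hRS (fun h => hR h.1)
        (fun h => hR (hC.of_conj (isConj_symm h) hP')), mul_assoc]
    · rcases hL'mem R hR with h | h
      · rcases List.mem_append.1 h with h1 | h1
        · exact Or.inl (mem_scaleL h1)
        · exact Or.inr (hC₀ _ (hC.of_conj (isConj_symm (hA R h1)) hP'))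
      · exact Or.inr h
    · rcases List.mem_append.1 hR with h1 | h1
      · exact hC₀ _ (hC.of_conj (isConj_symm (hA R (mem_scaleL h1))) hP')
      · exact hA' R h1
    · rw [hA'm H, markL_append, markL_append, markL_scaleL, markL_scaleL]
      ring
/-- Stabilization for an arbitrary system, up to a positive factor. -/
theorem exists_stable_scaled [Finite S] (F : FusionSystem S) {C : Subgroup Ω → Prop}
    (hC : ClosedFam F C) (L : List (Subgroup S)) (hst : StableOff F C L) :
    ∃ d L', 0 < d ∧ StableOff F (fun _ => False) L' ∧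
      (∀ R ≤ S, ¬ C R → markL L' (R.subgroupOf S) = d * markL L (R.subgroupOf S)) ∧
      (∀ R ∈ L', R ∈ L ∨ C (R.map S.subtype)) ∧
      ∃ A, (∀ R ∈ A, C (R.map S.subtype)) ∧ ∀ H, markL L' H = d * markL L H + markL A H := by
  classical
  haveI := Fintype.ofFinite (Subgroup S)
  refine exists_stable_aux (fun d => 0 < d) one_pos (fun a b => Nat.mul_pos) ?_ _ C L le_rfl hC
    (fun _ h => h) hst
  intro C L hC _ P₀ hP₀ _
  refine ⟨Nat.card S, Nat.card S * ∑ R : Subgroup S, markL L R, Nat.card_pos, fun Q hQ =>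
    ⟨Nat.mul_le_mul_left _ (Finset.single_le_sum (fun R _ => Nat.zero_le (markL L R))
      (Finset.mem_univ _)), ?_⟩⟩
  rw [← Nat.mul_sub]
  refine Dvd.dvd.mul_right ?_ _
  refine dvd_trans (dvd_mul_left _ (Nat.card (Q.subgroupOf S))) ?_
  rw [card_mul_wIndex]
  exact Subgroup.card_subgroup_dvd_card _

section Saturated

variable [Fact p.Prime] [Finite S] (hS : IsPGroup p S) (hF : F.IsSaturated p)
include hS hF

/-- The congruence between a subgroup and a fully normalized conjugate. -/
theorem mark_congruence {C : Subgroup Ω → Prop} {L : List (Subgroup S)}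
    (hst : StableOff F C L) (hP : F.IsFullyNormalized P)
    (hmax : ∀ R, C R → Nat.card R ≤ Nat.card P) (hPQ : F.IsConj P Q) :
    wIndex (Q.subgroupOf S) ∣ wIndex (P.subgroupOf S) ∧
      (wIndex (Q.subgroupOf S) : ℤ) ∣
        (markL L (Q.subgroupOf S) : ℤ) - markL L (P.subgroupOf S) := by
  classical
  obtain ⟨g, hg, hgi, hgN⟩ := exists_mor_to_fullyNormalized hS hF hP (isConj_symm hPQ)
  have hQS := hgi.left_le
  have hPS := hgi.right_le
  let N : Subgroup S := Subgroup.normalizer (Q.subgroupOf S : Set S)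
  have hN : ∀ n : S, n ∈ N ↔ (n : Ω) ∈ normalizerIn S Q := fun n => mem_normalizer_subgroupOf hQS n
  have hNP : ∀ n : S, n ∈ Subgroup.normalizer (P.subgroupOf S : Set S) ↔
      (n : Ω) ∈ normalizerIn S P := fun n => mem_normalizer_subgroupOf hPS n
  let γ : N →* S :=
    MonoidHom.mk' (fun n => ⟨g (n : S), hg.mem_S ((hN n).1 n.2)⟩) fun a b =>
      Subtype.ext (hg.map_mul ((hN a).1 a.2) ((hN b).1 b.2))
  have hγ : Function.Injective γ := fun a b hab => Subtype.ext (Subtype.ext
    (hg.injOn ((hN a).1 a.2) ((hN b).1 b.2) (congrArg Subtype.val hab)))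
  have hγN : γ.range ≤ Subgroup.normalizer (P.subgroupOf S : Set S) := by
    rintro _ ⟨n, rfl⟩
    exact (hNP _).2 (hgN _ ((hN n).1 n.2))
  have hQN : Q.subgroupOf S ≤ N := Subgroup.le_normalizer
  have hcQ : Nat.card (Q.subgroupOf S) = Nat.card Q :=
    Nat.card_congr (Subgroup.subgroupOfEquivOfLe hQS).toEquiv
  have hcP : Nat.card (P.subgroupOf S) = Nat.card P :=
    Nat.card_congr (Subgroup.subgroupOfEquivOfLe hPS).toEquiv
  have hcard : Nat.card Q = Nat.card P := hgi.card_eq
  have hγcard : Nat.card γ.range = Nat.card N :=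
    (Nat.card_congr (MonoidHom.ofInjective hγ).toEquiv).symm
  have hwN := card_mul_wIndex (Q.subgroupOf S)
  constructor
  · refine Nat.dvd_of_mul_dvd_mul_left (Nat.card_pos (α := Q.subgroupOf S)) ?_
    rw [hwN, hcQ, hcard, ← hcP, card_mul_wIndex]
    exact hγcard ▸ Subgroup.card_dvd_of_le hγN
  haveI := Fintype.ofFinite N
  haveI := Fintype.ofFinite γ.range
  have c1 := card_dvd_sum_mark (LSet L) N (Q.subgroupOf S) fun n hn h hh =>
    (Subgroup.mem_normalizer_iff''.1 hn h).1 hh
  have c2 := card_dvd_sum_mark (LSet L) γ.range (P.subgroupOf S) fun n hn h hh =>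
    (Subgroup.mem_normalizer_iff''.1 (hγN hn) h).1 hh
  simp only [mark_lset] at c1 c2
  rw [← Equiv.sum_comp (MonoidHom.ofInjective hγ).toEquiv
    (fun x => markL L (P.subgroupOf S ⊔ Subgroup.zpowers (x : S))), hγcard] at c2
  have hterm : ∀ n : N, markL L (Q.subgroupOf S ⊔ Subgroup.zpowers (n : S)) =
      if (n : S) ∈ Q.subgroupOf S then markL L (Q.subgroupOf S)
      else markL L (P.subgroupOf S ⊔ Subgroup.zpowers (γ n)) := by
    intro n
    split_ifs with hn
    · rw [sup_eq_left.2 (Subgroup.zpowers_le.2 hn)]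
    · have hnN := (hN n).1 n.2
      have hle : Q ⊔ Subgroup.zpowers ((n : S) : Ω) ≤ normalizerIn S Q :=
        sup_le (le_inf hQS Subgroup.le_normalizer) (Subgroup.zpowers_le.2 hnN)
      have hiso : Iso F (Q ⊔ Subgroup.zpowers ((n : S) : Ω))
          (P ⊔ Subgroup.zpowers (g ((n : S) : Ω))) g := by
        obtain ⟨I, hI⟩ := (hg.mono hle).exists_iso
        have : I = P ⊔ Subgroup.zpowers (g ((n : S) : Ω)) := by
          refine le_antisymm (fun y hy => ?_) (sup_le (fun y hy => ?_) (Subgroup.zpowers_le.2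
            (hI.mem (Subgroup.mem_sup_right (Subgroup.mem_zpowers _)))))
          · obtain ⟨x, hx, rfl⟩ := hI.exists_eq hy
            refine hI.1.mem_of_sup (fun a ha => Subgroup.mem_sup_left (hgi.mem ha)) ?_ hx
            intro a ha
            obtain ⟨k, rfl⟩ := Subgroup.mem_zpowers_iff.1 ha
            refine Subgroup.mem_sup_right ?_
            rw [mor_map_zpow hg hnN k]
            exact Subgroup.zpow_mem _ (Subgroup.mem_zpowers _) k
          · obtain ⟨x, hx, rfl⟩ := hgi.exists_eq hy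
            exact hI.mem (Subgroup.mem_sup_left hx)
        exact this ▸ hI
      have hC : ¬ C (Q ⊔ Subgroup.zpowers ((n : S) : Ω)) := fun h => by
        have hm := hmax _ h
        haveI := finite_of_le (hle.trans (normalizerIn_le S Q))
        have heq : Q = Q ⊔ Subgroup.zpowers ((n : S) : Ω) :=
          Subgroup.eq_of_le_of_card_ge le_sup_left (hm.trans hcard.ge)
        exact hn (Subgroup.mem_subgroupOf.2
          (heq.ge (Subgroup.mem_sup_right (Subgroup.mem_zpowers _))))
      have h := hst _ _ _ hiso hC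
      rw [Subgroup.subgroupOf_sup hQS (Subgroup.zpowers_le.2 (n : S).2),
        Subgroup.subgroupOf_sup hPS (Subgroup.zpowers_le.2 (hg.mem_S hnN))] at h
      rw [← zpowers_subgroupOf (n : S), h]
      congr 2
      exact zpowers_subgroupOf (γ n)
  have hterm2 : ∀ n : N, (n : S) ∈ Q.subgroupOf S →
      markL L (P.subgroupOf S ⊔ Subgroup.zpowers (γ n)) = markL L (P.subgroupOf S) := by
    intro n hn
    have : γ n ∈ P.subgroupOf S := hgi.mem hn
    rw [sup_eq_left.2 (Subgroup.zpowers_le.2 this)]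
  have hfilter : ((Finset.univ.filter fun n : N => (n : S) ∈ Q.subgroupOf S).card : ℕ) =
      Nat.card (Q.subgroupOf S) := by
    rw [← Fintype.card_subtype, ← Nat.card_eq_fintype_card]
    exact Nat.card_congr
      { toFun := fun x => ⟨x.1, x.2⟩
        invFun := fun x => ⟨⟨x.1, hQN x.2⟩, x.2⟩
        left_inv := fun _ => rfl
        right_inv := fun _ => rfl }
  simp only [hterm] at c1
  rw [Finset.sum_ite, Finset.sum_const, hfilter, smul_eq_mul] at c1
  have e2 : ∀ n : N, (((MonoidHom.ofInjective hγ).toEquiv n : γ.range) : S) = γ n := fun _ => rfl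
  simp only [e2] at c2
  rw [← Finset.sum_filter_add_sum_filter_not Finset.univ (fun n : N => (n : S) ∈ Q.subgroupOf S),
    Finset.sum_congr rfl (fun n hn => hterm2 n (Finset.mem_filter.1 hn).2), Finset.sum_const,
    hfilter, smul_eq_mul] at c2
  have c3 := (Int.natCast_dvd_natCast.2 c1)
  have c4 := (Int.natCast_dvd_natCast.2 c2)
  push_cast at c3 c4
  have c5 := dvd_sub c3 c4
  rw [add_sub_add_right_eq_sub, ← mul_sub] at c5
  have hN' : (Nat.card N : ℤ) =
      (Nat.card (Q.subgroupOf S) : ℤ) * wIndex (Q.subgroupOf S) := by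
    exact_mod_cast hwN.symm
  rw [hN'] at c5
  exact Int.dvd_of_mul_dvd_mul_left (by exact_mod_cast Nat.card_pos.ne') c5
where
  mem_normalizer_subgroupOf {Q : Subgroup Ω} (hQ : Q ≤ S) (n : S) :
      n ∈ Subgroup.normalizer (Q.subgroupOf S : Set S) ↔ (n : Ω) ∈ normalizerIn S Q := by
    refine ⟨fun h => ⟨n.2, Subgroup.mem_normalizer_iff.2 fun x => ⟨fun hx => ?_, fun hx => ?_⟩⟩,
      fun h => Subgroup.mem_normalizer_iff.2 fun x => Subgroup.mem_normalizer_iff.1 h.2 x⟩
    · exact (Subgroup.mem_normalizer_iff.1 h ⟨x, hQ hx⟩).1 hx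
    · have hxS : x ∈ S := by
        have := S.mul_mem (S.mul_mem (S.inv_mem n.2) (hQ hx)) n.2
        simpa [mul_assoc] using this
      exact (Subgroup.mem_normalizer_iff.1 h ⟨x, hxS⟩).2 hx
  mor_map_zpow {F : FusionSystem S} {P : Subgroup Ω} {f : Ω → Ω} (hf : Mor F P f) {x : Ω}
      (hx : x ∈ P) (k : ℤ) : f (x ^ k) = f x ^ k := by
    obtain ⟨φ, -, h⟩ := hf
    have h2 := map_zpow φ ⟨x, hx⟩ k
    rwa [h, h] at h2
  zpowers_subgroupOf (x : S) :
      (Subgroup.zpowers (x : Ω)).subgroupOf S = Subgroup.zpowers x := by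
    refine le_antisymm (fun y hy => ?_) (Subgroup.zpowers_le.2 (Subgroup.mem_zpowers (x : Ω)))
    obtain ⟨k, hk⟩ := Subgroup.mem_zpowers_iff.1 hy
    exact ⟨k, Subtype.ext hk⟩

/-- Stabilization for a saturated system. -/
theorem exists_stable {C : Subgroup Ω → Prop} (hC : ClosedFam F C) (L : List (Subgroup S))
    (hst : StableOff F C L) :
    ∃ L', StableOff F (fun _ => False) L' ∧
      (∀ R ≤ S, ¬ C R → markL L' (R.subgroupOf S) = markL L (R.subgroupOf S)) ∧
      (∀ R ∈ L', R ∈ L ∨ C (R.map S.subtype)) ∧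
      ∃ A, (∀ R ∈ A, C (R.map S.subtype)) ∧ ∀ H, markL L' H = markL L H + markL A H := by
  classical
  haveI := Fintype.ofFinite (Subgroup S)
  obtain ⟨d, L', hd, h1, h2, h3, A, hA, hAm⟩ := exists_stable_aux (F := F) (C₀ := C) (fun d => d = 1) rfl
    (fun a b ha hb => by rw [ha, hb]) (fun C L hC hst P₀ hP₀ hmax => by
      obtain ⟨P, g, hP, -, hi, -⟩ := exists_fullyNormalized_mor hS hF (P := P₀) (hC.le hP₀)
      have hcard : Nat.card P₀ = Nat.card P := hi.card_eq
      have hpos : 0 < wIndex (P.subgroupOf S) := Nat.pos_of_ne_zero fun h => by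
        have := card_mul_wIndex (P.subgroupOf S)
        rw [h, mul_zero] at this
        exact Nat.card_pos.ne' this.symm
      refine ⟨1, markL L (P.subgroupOf S) + wIndex (P.subgroupOf S) * ∑ R : Subgroup S, markL L R,
        rfl, fun Q hQ => ?_⟩
      rw [one_mul]
      obtain ⟨hdvd, hint⟩ := mark_congruence hS hF hst hP (fun R hR => hcard ▸ hmax R hR)
        (isConj_trans (isConj_symm hi.isConj) hQ)
      have hle : markL L (Q.subgroupOf S) ≤
          markL L (P.subgroupOf S) + wIndex (P.subgroupOf S) * ∑ R : Subgroup S, markL L R :=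
        le_add_left ((Finset.single_le_sum (fun R _ => Nat.zero_le (markL L R))
          (Finset.mem_univ _)).trans (Nat.le_mul_of_pos_left _ hpos))
      refine ⟨hle, Int.natCast_dvd_natCast.1 ?_⟩
      rw [Nat.cast_sub hle]
      push_cast
      have e : ((markL L (P.subgroupOf S) : ℤ) + (wIndex (P.subgroupOf S) : ℤ) *
          ∑ R : Subgroup S, (markL L R : ℤ)) - markL L (Q.subgroupOf S) =
          (wIndex (P.subgroupOf S) : ℤ) * ∑ R : Subgroup S, (markL L R : ℤ) -
            ((markL L (Q.subgroupOf S) : ℤ) - markL L (P.subgroupOf S)) := by ring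
      rw [e]
      exact dvd_sub (Dvd.dvd.mul_right (Int.natCast_dvd_natCast.2 hdvd) _) hint)
    _ C L le_rfl hC (fun _ h => h) hst
  subst hd
  exact ⟨L', h1, fun R hR hRC => (h2 R hR hRC).trans (one_mul _), h3, A, hA,
    fun H => (hAm H).trans (by rw [one_mul])⟩

end Saturated

end Cfsg.Agent.FusSys
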