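import Cfsg.Agent.FusSys.GroupSys
import Cfsg.Agent.Core.PCore
import Cfsg.Prelude.Def_LocalEven

/-!
`p`-stability in the normalizer form read through automorphism groups.
-/

set_option autoImplicit false

namespace Cfsg.Agent.FusSys

open Cfsg Cfsg.FusionSystem
open scoped commutatorElement

universe u

theorem map_pCore_subgroup {G H : Type*} [Group G] [Group H] (p : ℕ) (e : G ≃* H) (K : Subgroup G) :
    ((pCore p K).map K.subtype).map e.toMonoidHom =
      (pCore p ↥(K.map e.toMonoidHom)).map (K.map e.toMonoidHom).subtype := by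
  rw [← Cfsg.Agent.Core.map_pCore (K.equivMapOfInjective e.toMonoidHom e.injective),
    Subgroup.map_map, Subgroup.map_map]
  rfl

theorem mem_map_pCore_congr {G : Type*} [Group G] (p : ℕ) {K K' : Subgroup G} (h : K = K')
    {x : G} : x ∈ (pCore p K).map K.subtype ↔ x ∈ (pCore p K').map K'.subtype := by
  subst h; rfl

variable {G : Type u} [Group G] {p : ℕ}

/-- `χ` acts quadratically: it fixes every `a⁻¹ χ(a)`. -/
def QuadAut {Q : Subgroup G} (χ : MulAut Q) : Prop :=
  ∀ a : Q, (χ a⁻¹) * a * (χ a⁻¹) * (χ (χ a)) = 1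

theorem quadAut_iff {Q : Subgroup G} (χ : MulAut Q) :
    QuadAut χ ↔ ∀ a : Q, χ (a⁻¹ * χ a) = a⁻¹ * χ a := by
  refine forall_congr' fun a => ?_
  rw [map_mul, map_inv]
  constructor
  · intro h
    calc (χ a)⁻¹ * χ (χ a) = a⁻¹ * χ a * ((χ a)⁻¹ * a * (χ a)⁻¹ * χ (χ a)) := by group
      _ = a⁻¹ * χ a := by rw [h, mul_one]
  · intro h
    calc (χ a)⁻¹ * a * (χ a)⁻¹ * χ (χ a) = (χ a)⁻¹ * a * ((χ a)⁻¹ * χ (χ a)) := by group
      _ = (χ a)⁻¹ * a * (a⁻¹ * χ a) := by rw [h]
      _ = 1 := by group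

theorem zpow_of_fixed {H : Type*} [Group H] (χ : MulAut H)
    (h : ∀ a, χ (a⁻¹ * χ a) = a⁻¹ * χ a) (k : ℤ) (a : H) : (χ ^ k) a = a * (a⁻¹ * χ a) ^ k := by
  induction k using Int.induction_on with
  | zero => simp
  | succ k ih =>
    rw [zpow_add_one, zpow_add_one, ← mul_assoc, ← ih]
    have e : χ a = a * (a⁻¹ * χ a) := by group
    rw [MulAut.mul_apply]
    conv_lhs => rw [e, map_mul]
    have hfix : ∀ n : ℕ, (χ ^ n) (a⁻¹ * χ a) = a⁻¹ * χ a := fun n => by
      induction n with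
      | zero => simp
      | succ n ihn => rw [pow_succ', MulAut.mul_apply, ihn, h]
    rw [zpow_natCast, hfix]
  | pred k ih =>
    rw [zpow_sub_one, zpow_sub_one, MulAut.mul_apply]
    have hfix : ∀ n : ℕ, (χ ^ n)⁻¹ (a⁻¹ * χ a) = a⁻¹ * χ a := fun n => by
      induction n with
      | zero => simp
      | succ n ihn =>
        apply (χ ^ (n + 1)).injective
        rw [MulAut.apply_inv_self, pow_succ', MulAut.mul_apply]
        have : (χ ^ n) (a⁻¹ * χ a) = a⁻¹ * χ a := by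
          conv_lhs => rw [← ihn, MulAut.apply_inv_self]
        rw [this, h]
    have h1 : χ⁻¹ a = a * (a⁻¹ * χ a)⁻¹ := by
      apply χ.injective
      rw [MulAut.apply_inv_self, map_mul, map_inv, h, mul_inv_rev, inv_inv]
      group
    rw [h1, map_mul, map_inv, ih, zpow_neg χ, zpow_neg, zpow_natCast, zpow_natCast, hfix k]
    group

theorem quad_iff_commutator {Q : Subgroup G} (g : Subgroup.normalizer (Q : Set G)) :
    ⁅⁅Q, Subgroup.zpowers (g : G)⁆, Subgroup.zpowers (g : G)⁆ = ⊥ ↔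
      QuadAut (Q.normalizerMonoidHom g) := by
  rw [Subgroup.commutator_eq_bot_iff_le_centralizer, Subgroup.commutator_le, quadAut_iff]
  set χ := Q.normalizerMonoidHom g with hχ
  have hχv : ∀ a : Q, ((χ a : Q) : G) = (g : G) * a * (g : G)⁻¹ := fun a => rfl
  constructor
  · intro h a
    refine Subtype.ext ?_
    have h1 := h _ (Q.inv_mem a.2) _ (Subgroup.mem_zpowers (g : G))
    rw [Subgroup.mem_centralizer_iff] at h1
    have h2 := h1 _ (Subgroup.mem_zpowers (g : G))
    rw [hχv, Subgroup.coe_mul, Subgroup.coe_inv, hχv]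
    rw [commutatorElement_def, inv_inv] at h2
    calc (g : G) * ((a : G)⁻¹ * ((g : G) * a * (g : G)⁻¹)) * (g : G)⁻¹
        = (g : G) * ((a : G)⁻¹ * (g : G) * a * (g : G)⁻¹) * (g : G)⁻¹ := by group
      _ = (a : G)⁻¹ * (g : G) * a * (g : G)⁻¹ * (g : G) * (g : G)⁻¹ := by rw [h2]
      _ = (a : G)⁻¹ * ((g : G) * a * (g : G)⁻¹) := by group
  · intro h x hx y hy
    obtain ⟨k, rfl⟩ := Subgroup.mem_zpowers_iff.1 hy
    rw [Subgroup.mem_centralizer_iff]
    intro z hz
    obtain ⟨j, rfl⟩ := Subgroup.mem_zpowers_iff.1 hz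
    set a : Q := ⟨x, hx⟩⁻¹ with ha
    have hk : (((χ ^ k) a : Q) : G) = (g : G) ^ k * x⁻¹ * ((g : G) ^ k)⁻¹ := by
      rw [hχ, ← map_zpow]; rfl
    rw [zpow_of_fixed χ h k a] at hk
    have e : ⁅x, (g : G) ^ k⁆ = (((a⁻¹ * χ a) ^ k : Q) : G) := by
      rw [Subgroup.coe_mul] at hk
      rw [commutatorElement_def]
      calc x * (g : G) ^ k * x⁻¹ * ((g : G) ^ k)⁻¹
          = x * ((g : G) ^ k * x⁻¹ * ((g : G) ^ k)⁻¹) := by group
        _ = x * ((a : G) * (((a⁻¹ * χ a) ^ k : Q) : G)) := by rw [hk]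
        _ = (((a⁻¹ * χ a) ^ k : Q) : G) := by simp [ha]
    rw [e]
    have hc : Commute (g : G) ((a⁻¹ * χ a : Q) : G) := by
      have h3 := congrArg Subtype.val (h a)
      rw [hχv] at h3
      show (g : G) * ((a⁻¹ * χ a : Q) : G) = ((a⁻¹ * χ a : Q) : G) * g
      conv_rhs => rw [← h3]
      group
    rw [Subgroup.coe_zpow]
    exact (hc.zpow_zpow j k).eq

variable [Finite G] [Fact p.Prime]

/-- Membership in `O_p(N_G(Q)/C_G(Q))` read in `Aut(Q)`. -/
theorem mem_pCore_quotient_iff {Q : Subgroup G} (g : Subgroup.normalizer (Q : Set G)) :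
    haveI := centralizer_normal_in_normalizer Q
    QuotientGroup.mk (s := (Subgroup.centralizer (Q : Set G)).subgroupOf
        (Subgroup.normalizer (Q : Set G))) g ∈
      pCore p (↥(Subgroup.normalizer (Q : Set G)) ⧸
        (Subgroup.centralizer (Q : Set G)).subgroupOf (Subgroup.normalizer (Q : Set G))) ↔
    Q.normalizerMonoidHom g ∈
      (pCore p ↥(autInducedBy ⊤ Q)).map (autInducedBy ⊤ Q).subtype := by
  haveI := centralizer_normal_in_normalizer Q
  have hA : autInducedBy ⊤ Q = Q.normalizerMonoidHom.range := by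
    rw [autInducedBy_eq_map, Subgroup.top_subgroupOf, MonoidHom.range_eq_map]
  rw [mem_map_pCore_congr p hA]
  set e := (QuotientGroup.quotientMulEquivOfEq (Q.normalizerMonoidHom_ker).symm).trans
    (QuotientGroup.quotientKerEquivRange Q.normalizerMonoidHom) with he
  rw [← Cfsg.Agent.Core.map_pCore e, Subgroup.map_map]
  constructor
  · intro h
    exact ⟨_, h, rfl⟩
  · rintro ⟨x, hx, hxg⟩
    have : x = QuotientGroup.mk g := e.injective (Subtype.ext hxg)
    exact this ▸ hx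

/-- The condition defining `p`-stability at `Q`. -/
def StableAt (p : ℕ) (Q : Subgroup G) : Prop :=
  ∀ χ ∈ autInducedBy ⊤ Q, QuadAut χ →
    χ ∈ (pCore p ↥(autInducedBy ⊤ Q)).map (autInducedBy ⊤ Q).subtype

theorem isNormalizerPStable_iff :
    IsNormalizerPStable p G ↔ ∀ Q : Subgroup G, IsPGroup p Q → StableAt p Q := by
  constructor
  · intro h Q hQ χ hχ hq
    obtain ⟨g, -, hgn, hgx⟩ := mem_autInducedBy_iff.1 hχ
    have e : χ = Q.normalizerMonoidHom ⟨g, hgn⟩ :=
      apl_ext fun x hx => (hgx x hx).trans (apl_normalizerMonoidHom ⟨g, hgn⟩ hx).symm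
    subst e
    exact (mem_pCore_quotient_iff (p := p) ⟨g, hgn⟩).1
      (h Q hQ g hgn ((quad_iff_commutator ⟨g, hgn⟩).2 hq))
  · intro h Q hQ g hg hc
    refine (mem_pCore_quotient_iff (p := p) ⟨g, hg⟩).2 (h Q hQ _ ?_ ((quad_iff_commutator ⟨g, hg⟩).1 hc))
    exact mem_autInducedBy_iff.2 ⟨g, trivial, hg, fun x hx => apl_normalizerMonoidHom ⟨g, hg⟩ hx⟩

theorem stableAt_of_conj {Q : Subgroup G} (c : G)
    (h : StableAt p (Q.map (MulAut.conj c).toMonoidHom)) : StableAt p Q := by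
  set Q' := Q.map (MulAut.conj c).toMonoidHom with hQ'
  let e : Q ≃* Q' := Q.equivMapOfInjective _ (MulAut.conj c).injective
  let Φ : MulAut Q ≃* MulAut Q' := MulAut.congr e
  have hev : ∀ a : Q, ((e a : Q') : G) = c * (a : G) * c⁻¹ := fun a => rfl
  have hmap : (autInducedBy ⊤ Q).map Φ.toMonoidHom = autInducedBy ⊤ Q' := by
    ext β
    rw [Subgroup.mem_map]
    constructor
    · rintro ⟨α, hα, rfl⟩
      obtain ⟨g, -, hgn, hgx⟩ := mem_autInducedBy_iff.1 hα
      have hv : ∀ y ∈ Q', apl (Φ α) y = c * g * c⁻¹ * y * (c * g * c⁻¹)⁻¹ := by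
        intro y hy
        obtain ⟨x, rfl⟩ : ∃ x : Q, ((e x : Q') : G) = y := ⟨e.symm ⟨y, hy⟩, by simp⟩
        rw [apl_coe]
        show ((e (α (e.symm (e x))) : Q') : G) = _
        rw [e.symm_apply_apply, hev, hev, ← apl_coe, hgx x x.2]
        group
      refine mem_autInducedBy_iff.2 ⟨c * g * c⁻¹, trivial,
        Subgroup.mem_normalizer_iff.2 fun y => ?_, hv⟩
      rw [hQ', Subgroup.mem_map_equiv, Subgroup.mem_map_equiv, Subgroup.mem_normalizer_iff.1 hgn]
      simp [mul_assoc]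
    · intro hβ
      obtain ⟨g, -, hgn, hgx⟩ := mem_autInducedBy_iff.1 hβ
      refine ⟨Φ.symm β, mem_autInducedBy_iff.2 ⟨c⁻¹ * g * c, trivial,
        Subgroup.mem_normalizer_iff.2 fun y => ?_, fun x hx => ?_⟩, Φ.apply_symm_apply β⟩
      · have hy : ∀ z, z ∈ Q ↔ c * z * c⁻¹ ∈ Q' := fun z => by
          rw [hQ', Subgroup.mem_map_equiv]; simp [mul_assoc]
        rw [hy, hy, Subgroup.mem_normalizer_iff.1 hgn]
        simp [mul_assoc]
      · rw [apl_apply _ hx]
        show ((e.symm (β (e ⟨x, hx⟩)) : Q) : G) = _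
        have h1 := hgx _ (e ⟨x, hx⟩).2
        rw [apl_coe, hev] at h1
        have h2 : ∀ y : Q', ((e.symm y : Q) : G) = c⁻¹ * (y : G) * c := fun y => by
          conv_rhs => rw [← e.apply_symm_apply y, hev]
          group
        rw [h2, h1]
        group
  intro χ hχ hq
  have hq' : QuadAut (Φ χ) := fun a => by
    have := congrArg e (hq (e.symm a))
    rw [map_one, map_mul, map_mul, map_mul, map_inv e.symm a |>.symm] at this
    simpa [Φ, MulAut.congr] using this
  have h' := h (Φ χ) (hmap ▸ Subgroup.mem_map_of_mem _ hχ) hq'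
  rw [mem_map_pCore_congr p hmap.symm, ← map_pCore_subgroup] at h'
  obtain ⟨y, hy, hy'⟩ := h'
  exact Φ.injective hy' ▸ hy

end Cfsg.Agent.FusSys
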