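import Cfsg.Agent.FusSys.Criteria
import Cfsg.Agent.Fusion.Critical
import Cfsg.Agent.Core.Frattini
import Cfsg.Agent.S0206
import Cfsg.Prelude.Def_Transfer

/-!
A strongly closed generalized extraspecial subgroup is normal, apart from `D₈ × A` and `p^{1+2}_+ × A`.
-/

set_option autoImplicit false

namespace Cfsg.Agent.FusSys.StrongExtra

open Cfsg Cfsg.FusionSystem Cfsg.Agent.FusSys
open scoped commutatorElement

universe u

variable {Ω : Type u} [Group Ω]

/-- `a b a⁻¹ b⁻¹`. -/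
def br (a b : Ω) : Ω := a * b * a⁻¹ * b⁻¹

theorem br_eq_one {a b : Ω} : br a b = 1 ↔ a * b = b * a := by
  rw [br, mul_inv_eq_one, mul_inv_eq_iff_eq_mul]

theorem br_inv (a b : Ω) : (br a b)⁻¹ = br b a := by rw [br, br]; group

theorem mul_swap (a b : Ω) : a * b = br a b * (b * a) := by rw [br]; group

/-- The commutators of `P` are central in `P`. -/
def ClassTwo (P : Subgroup Ω) : Prop := ∀ a ∈ P, ∀ b ∈ P, ∀ c ∈ P, Commute (br a b) c

variable {P : Subgroup Ω}

theorem br_mul_left (h : ClassTwo P) {a b c : Ω} (ha : a ∈ P) (hb : b ∈ P) (hc : c ∈ P) :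
    br (a * b) c = br a c * br b c := by
  have e : br (a * b) c = a * br b c * a⁻¹ * br a c := by simp only [br]; group
  rw [e, ← (h b hb c hc a ha).eq, mul_inv_cancel_right]
  exact (h b hb c hc _ (P.mul_mem (P.mul_mem (P.mul_mem ha hc) (P.inv_mem ha)) (P.inv_mem hc))).eq

theorem br_mul_right (h : ClassTwo P) {a b c : Ω} (ha : a ∈ P) (hb : b ∈ P) (hc : c ∈ P) :
    br a (b * c) = br a b * br a c := by
  have e : br a (b * c) = br a b * (b * br a c * b⁻¹) := by simp only [br]; group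
  rw [e, ← (h a ha c hc b hb).eq, mul_inv_cancel_right]

theorem br_pow_left (h : ClassTwo P) {a c : Ω} (ha : a ∈ P) (hc : c ∈ P) :
    ∀ n : ℕ, br (a ^ n) c = br a c ^ n := by
  intro n
  induction n with
  | zero => simp [br]
  | succ n ih => rw [pow_succ, br_mul_left h (P.pow_mem ha n) ha hc, ih, pow_succ]

theorem br_pow_right (h : ClassTwo P) {a c : Ω} (ha : a ∈ P) (hc : c ∈ P) :
    ∀ n : ℕ, br a (c ^ n) = br a c ^ n := by
  intro n
  induction n with
  | zero => simp [br]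
  | succ n ih => rw [pow_succ, br_mul_right h ha (P.pow_mem hc n) hc, ih, pow_succ]

theorem mul_pow_class_two (h : ClassTwo P) {a b : Ω} (ha : a ∈ P) (hb : b ∈ P) :
    ∀ n : ℕ, (a * b) ^ n = a ^ n * b ^ n * br b a ^ n.choose 2 := by
  intro n
  induction n with
  | zero => simp
  | succ n ih =>
    have hswap : b ^ n * a = a * b ^ n * br b a ^ n := by
      rw [mul_swap (b ^ n) a, br_pow_left h hb ha]
      exact ((h b hb a ha _ (P.mul_mem ha (P.pow_mem hb n))).pow_left n).eq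
    have hc : ∀ k : ℕ, Commute (br b a ^ k) (a * b) := fun k =>
      (h b hb a ha _ (P.mul_mem ha hb)).pow_left k
    rw [pow_succ, ih, mul_assoc, (hc _).eq, ← mul_assoc,
      show a ^ n * b ^ n * (a * b) = a ^ n * (b ^ n * a) * b by group, hswap]
    have hb' : br b a ^ n * b = b * br b a ^ n := ((h b hb a ha b hb).pow_left n).eq
    calc a ^ n * (a * b ^ n * br b a ^ n) * b * br b a ^ n.choose 2
        = a ^ n * a * b ^ n * (br b a ^ n * b) * br b a ^ n.choose 2 := by group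
      _ = a ^ n * a * (b ^ n * b) * (br b a ^ n * br b a ^ n.choose 2) := by rw [hb']; group
      _ = _ := by
        rw [← pow_succ a, ← pow_succ b, ← pow_add, Nat.choose_succ_succ, Nat.choose_one_right]

variable {p : ℕ} [Fact p.Prime]

theorem exists_log {Z : Subgroup Ω} (hZ : Nat.card Z = p) {x z : Ω} (hx : x ∈ Z) (hx1 : x ≠ 1)
    (hz : z ∈ Z) : ∃ n : ℕ, x ^ n = z := by
  haveI : Finite Z := Nat.finite_of_card_ne_zero (hZ ▸ (Fact.out : p.Prime).ne_zero)
  obtain ⟨k, hk⟩ := Subgroup.mem_zpowers_iff.1 (mem_zpowers_of_prime_card hZ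
    (g := (⟨x, hx⟩ : Z)) (g' := ⟨z, hz⟩) (fun h => hx1 (congrArg Subtype.val h)))
  obtain ⟨n, hn⟩ := (Submonoid.mem_powers_iff _ _).1
    (mem_powers_iff_mem_zpowers.2 (Subgroup.mem_zpowers_iff.2 ⟨k, hk⟩))
  exact ⟨n, congrArg Subtype.val hn⟩

theorem pow_eq_one_of_card {Z : Subgroup Ω} (hZ : Nat.card Z = p) {z : Ω} (hz : z ∈ Z) : z ^ p = 1 := by
  have := pow_card_eq_one' (x := (⟨z, hz⟩ : Z))
  rw [hZ] at this
  exact congrArg Subtype.val this

/-- A subgroup of prime order normal in a p-group is central. -/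
theorem central_of_prime {S : Subgroup Ω} [Finite S] (hS : IsPGroup p S) {Z : Subgroup Ω}
    (hZS : Z ≤ S) (hZ : Nat.card Z = p) (hn : ∀ s ∈ S, ∀ z ∈ Z, s * z * s⁻¹ ∈ Z) {s z : Ω}
    (hs : s ∈ S) (hz : z ∈ Z) : Commute s z := by
  rcases eq_or_ne z 1 with rfl | hz1
  · exact Commute.one_right s
  obtain ⟨i, hi⟩ := exists_log hZ hz hz1 (hn s hs z hz)
  have hiter : ∀ n : ℕ, s ^ n * z * (s ^ n)⁻¹ = z ^ i ^ n := by
    intro n
    induction n with
    | zero => simp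
    | succ n ih =>
      calc s ^ (n + 1) * z * (s ^ (n + 1))⁻¹ = s * (s ^ n * z * (s ^ n)⁻¹) * s⁻¹ := by
            rw [pow_succ']; group
        _ = s * z ^ i ^ n * s⁻¹ := by rw [ih]
        _ = (s * z * s⁻¹) ^ i ^ n := by rw [conj_pow]
        _ = z ^ i ^ (n + 1) := by rw [← hi, ← pow_mul, pow_succ']
  obtain ⟨k, hk⟩ := hS ⟨s, hs⟩
  have hk' : s ^ p ^ k = 1 := congrArg Subtype.val hk
  have hord : orderOf z = p := orderOf_eq_prime (pow_eq_one_of_card hZ hz) hz1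
  have h1 := hiter (p ^ k)
  rw [hk', one_mul, inv_one, mul_one] at h1
  have h2 : (1 : ℕ) ≡ i ^ p ^ k [MOD orderOf z] := pow_eq_pow_iff_modEq.1 (by rw [pow_one]; exact h1)
  rw [hord] at h2
  have h3 : ((i : ZMod p)) = 1 := by
    have h4 := (ZMod.natCast_eq_natCast_iff _ _ _).2 h2
    rw [Nat.cast_one, Nat.cast_pow, ZMod.pow_card_pow] at h4
    exact h4.symm
  have h5 : z ^ i = z ^ 1 := by
    rw [pow_eq_pow_iff_modEq, hord, ← ZMod.natCast_eq_natCast_iff, h3, Nat.cast_one]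
  rw [h5, pow_one] at hi
  show s * z = z * s
  rw [← mul_inv_eq_iff_eq_mul]
  exact hi.symm

/-- The hypotheses on `P`. -/
structure Setting (p : ℕ) (S P Z : Subgroup Ω) : Prop where
  le : P ≤ S
  Zle : Z ≤ P
  card : Nat.card Z = p
  cent : ∀ s ∈ S, ∀ z ∈ Z, Commute s z
  br_mem : ∀ a ∈ P, ∀ b ∈ P, br a b ∈ Z
  pow_mem : ∀ a ∈ P, a ^ p ∈ Z
  map_mem : ∀ f : Ω → Ω, (∀ a ∈ P, f a ∈ P) → (∀ a ∈ P, ∀ b ∈ P, f (a * b) = f a * f b) →
    ∀ z ∈ Z, f z ∈ Z
  nonab : ∃ a ∈ P, ∃ b ∈ P, br a b ≠ 1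

theorem Setting.classTwo {S Z : Subgroup Ω} (h : Setting p S P Z) : ClassTwo P :=
  fun a ha b hb _ hc => (h.cent _ (h.le hc) _ (h.br_mem a ha b hb)).symm

theorem setting_of {S : Subgroup Ω} [Finite S] (hS : IsPGroup p S) (hPS : P ≤ S)
    (hn : ∀ s ∈ S, ∀ a ∈ P, s * a * s⁻¹ ∈ P)
    (hge : frattini ↥P = commutator ↥P ∧ Nat.card ↥(commutator ↥P) = p) :
    Setting p S P ((commutator ↥P).map P.subtype) := by
  classical
  haveI : Finite P := finite_of_le hPS
  set Z := (commutator ↥P).map P.subtype with hZdef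
  have hZle : Z ≤ P := Subgroup.map_subtype_le _
  have hcard : Nat.card Z = p := by rw [hZdef, Subgroup.card_subtype, hge.2]
  have hbr : ∀ a ∈ P, ∀ b ∈ P, br a b ∈ Z := fun a ha b hb =>
    ⟨⁅(⟨a, ha⟩ : P), ⟨b, hb⟩⁆,
      Subgroup.commutator_mem_commutator (Subgroup.mem_top _) (Subgroup.mem_top _), rfl⟩
  have hmap : ∀ f : Ω → Ω, (∀ a ∈ P, f a ∈ P) → (∀ a ∈ P, ∀ b ∈ P, f (a * b) = f a * f b) →
      ∀ z ∈ Z, f z ∈ Z := by
    intro f hf hfm z hz
    let φ : P →* P :=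
      MonoidHom.mk' (fun a => ⟨f a, hf a a.2⟩) fun a b => Subtype.ext (hfm a a.2 b b.2)
    obtain ⟨w, hw, rfl⟩ := hz
    have h1 : (commutator ↥P).map φ ≤ commutator ↥P := by
      rw [commutator_def, Subgroup.map_commutator]
      exact Subgroup.commutator_mono le_top le_top
    exact ⟨φ w, h1 (Subgroup.mem_map_of_mem _ hw), rfl⟩
  refine ⟨hPS, hZle, hcard, fun s hs z hz => central_of_prime hS (hZle.trans hPS) hcard
    (fun t ht w hw => hmap (fun a => t * a * t⁻¹) (fun a ha => hn t ht a ha)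
      (fun a _ b _ => by group) w hw) hs hz, hbr, fun a ha => ?_, hmap, ?_⟩
  · refine ⟨(⟨a, ha⟩ : P) ^ p, ?_, rfl⟩
    rw [SetLike.mem_coe, ← hge.1]
    exact Core.pow_mem_frattini (hS.to_le hPS) _
  · by_contra h
    push Not at h
    have : commutator ↥P = ⊥ := by
      rw [eq_bot_iff, commutator_def, Subgroup.commutator_le]
      intro a _ b _
      rw [Subgroup.mem_bot]
      exact Subtype.ext (h a a.2 b b.2)
    have h2 := hge.2
    rw [this, Subgroup.card_bot] at h2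
    exact (Fact.out : p.Prime).ne_one h2.symm

/-- Structure around a noncentral element whose centralizer in `P` is elementary abelian. -/
structure Frame (p : ℕ) (P Z : Subgroup Ω) (x w y : Ω) : Prop where
  x_mem : x ∈ Z
  x_ne : x ≠ 1
  w_mem : w ∈ P
  y_mem : y ∈ P
  br_ne : br y w ≠ 1
  comm : ∀ a ∈ P, ∀ b ∈ P, br a w = 1 → br b w = 1 → br a b = 1
  exp : ∀ a ∈ P, br a w = 1 → a ^ p = 1

variable {S Z : Subgroup Ω} {x w y : Ω}

theorem Frame.decomp (hs : Setting p S P Z) (hf : Frame p P Z x w y) {a : Ω} (ha : a ∈ P) :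
    ∃ i k : ℕ, ∃ c ∈ P, br c w = 1 ∧ br c y = 1 ∧ a = c * w ^ k * y ^ i := by
  have hct := hs.classTwo
  obtain ⟨i, hi⟩ := exists_log hs.card (hs.br_mem y hf.y_mem w hf.w_mem) hf.br_ne
    (hs.br_mem a ha w hf.w_mem)
  set m := a * (y ^ i)⁻¹ with hm
  have hmP : m ∈ P := P.mul_mem ha (P.inv_mem (P.pow_mem hf.y_mem i))
  have hma : a = m * y ^ i := by rw [hm, inv_mul_cancel_right]
  have hmw : br m w = 1 := by
    have h1 := br_mul_left hct hmP (P.pow_mem hf.y_mem i) hf.w_mem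
    rw [← hma, br_pow_left hct hf.y_mem hf.w_mem, hi] at h1
    exact mul_eq_right.1 h1.symm
  obtain ⟨k, hk⟩ := exists_log hs.card (hs.br_mem w hf.w_mem y hf.y_mem)
    (fun h => hf.br_ne (by rw [← br_inv, h, inv_one])) (hs.br_mem m hmP y hf.y_mem)
  set c := m * (w ^ k)⁻¹ with hc
  have hcP : c ∈ P := P.mul_mem hmP (P.inv_mem (P.pow_mem hf.w_mem k))
  have hmc : m = c * w ^ k := by rw [hc, inv_mul_cancel_right]
  have hww : br (w ^ k) w = 1 := by rw [br_pow_left hct hf.w_mem hf.w_mem, br]; simp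
  have hcw : br c w = 1 := by
    have h1 := br_mul_left hct hcP (P.pow_mem hf.w_mem k) hf.w_mem
    rw [← hmc, hmw, hww, mul_one] at h1
    exact h1.symm
  have hcy : br c y = 1 := by
    have h1 := br_mul_left hct hcP (P.pow_mem hf.w_mem k) hf.y_mem
    rw [← hmc, br_pow_left hct hf.w_mem hf.y_mem, hk] at h1
    exact mul_eq_right.1 h1.symm
  exact ⟨i, k, c, hcP, hcw, hcy, by rw [← hmc, ← hma]⟩

/-- Elements commuting with `w` and `y` are central in `P`. -/
theorem Frame.central (hs : Setting p S P Z) (hf : Frame p P Z x w y) {c : Ω} (hc : c ∈ P)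
    (hcw : br c w = 1) (hcy : br c y = 1) {a : Ω} (ha : a ∈ P) : Commute c a := by
  obtain ⟨i, k, d, hd, hdw, hdy, rfl⟩ := hf.decomp hs ha
  have h1 : Commute c d := br_eq_one.1 (hf.comm c hc d hd hcw hdw)
  exact (h1.mul_right (Commute.pow_right (br_eq_one.1 hcw) k)).mul_right
    (Commute.pow_right (br_eq_one.1 hcy) i)

/-- Exponents of a product of powers which commutes with `w` and `y`. -/
theorem Frame.dvd_of_central (hs : Setting p S P Z) (hf : Frame p P Z x w y) {c : Ω} (hc : c ∈ P)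
    (hcw : br c w = 1) (hcy : br c y = 1) {i k : ℕ} (hw : br (c * w ^ k * y ^ i) w = 1)
    (hy : br (c * w ^ k * y ^ i) y = 1) : p ∣ i ∧ p ∣ k := by
  have hct := hs.classTwo
  have hP1 := P.mul_mem hc (P.pow_mem hf.w_mem k)
  rw [br_mul_left hct hP1 (P.pow_mem hf.y_mem i) hf.w_mem,
    br_mul_left hct hc (P.pow_mem hf.w_mem k) hf.w_mem, hcw, br_pow_left hct hf.w_mem hf.w_mem,
    br_pow_left hct hf.y_mem hf.w_mem, show br w w = 1 by simp [br], one_pow, one_mul, one_mul] at hw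
  rw [br_mul_left hct hP1 (P.pow_mem hf.y_mem i) hf.y_mem,
    br_mul_left hct hc (P.pow_mem hf.w_mem k) hf.y_mem, hcy, br_pow_left hct hf.w_mem hf.y_mem,
    br_pow_left hct hf.y_mem hf.y_mem, show br y y = 1 by simp [br], one_pow, one_mul, mul_one] at hy
  have hne : br w y ≠ 1 := fun h => hf.br_ne (by rw [← br_inv, h, inv_one])
  constructor
  · rw [← orderOf_eq_prime (pow_eq_one_of_card hs.card (hs.br_mem y hf.y_mem w hf.w_mem)) hf.br_ne]
    exact orderOf_dvd_of_pow_eq_one hw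
  · rw [← orderOf_eq_prime (pow_eq_one_of_card hs.card (hs.br_mem w hf.w_mem y hf.y_mem)) hne]
    exact orderOf_dvd_of_pow_eq_one hy

theorem pow_eq_one_frame (hs : Setting p S P Z) (hf : Frame p P Z x w y) (hp : p ≠ 2) {a : Ω}
    (ha : a ∈ P) : ∃ i : ℕ, a ^ p = (y ^ p) ^ i ∧ (p ∣ i → br a w = 1) := by
  have hct := hs.classTwo
  obtain ⟨i, k, c, hc, hcw, hcy, rfl⟩ := hf.decomp hs ha
  have hP1 := P.mul_mem hc (P.pow_mem hf.w_mem k)
  have hw1 : br (c * w ^ k) w = 1 := by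
    rw [br_mul_left hct hc (P.pow_mem hf.w_mem k) hf.w_mem, hcw, br_pow_left hct hf.w_mem hf.w_mem,
      show br w w = 1 by simp [br], one_pow, one_mul]
  refine ⟨i, ?_, fun hi => ?_⟩
  · rw [mul_pow_class_two hct hP1 (P.pow_mem hf.y_mem i) p, hf.exp _ hP1 hw1, one_mul]
    have hdvd : p ∣ p.choose 2 := (Fact.out : p.Prime).dvd_choose_self two_ne_zero
      (lt_of_le_of_ne (Fact.out : p.Prime).two_le (Ne.symm hp))
    obtain ⟨e, he⟩ := hdvd
    rw [he, pow_mul (br _ _),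
      pow_eq_one_of_card hs.card (hs.br_mem _ (P.pow_mem hf.y_mem i) _ hP1), one_pow, mul_one,
      ← pow_mul, ← pow_mul, mul_comm]
  · obtain ⟨e, rfl⟩ := hi
    rw [br_mul_left hct hP1 (P.pow_mem hf.y_mem _) hf.w_mem, hw1, br_pow_left hct hf.y_mem hf.w_mem,
      pow_mul, pow_eq_one_of_card hs.card (hs.br_mem y hf.y_mem w hf.w_mem), one_pow, one_mul]

theorem Frame.product (hs : Setting p S P Z) (hf : Frame p P Z x w y) (hy : y ^ p = 1)
    [Finite P] : ∃ (E A : Subgroup Ω), E ≤ P ∧ A ≤ P ∧ E = Subgroup.closure {w, y} ∧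
      IsExtraspecial p E ∧ Nat.card E = p ^ 3 ∧ (p ≠ 2 → ∀ e ∈ E, e ^ p = 1) ∧
      (∀ a ∈ A, ∀ b ∈ A, Commute a b) ∧ (∀ a ∈ A, a ^ p = 1) ∧ Nonempty (P ≃* E × A) := by
  classical
  have hct := hs.classTwo
  set E := Subgroup.closure ({w, y} : Set Ω) with hE
  have hEP : E ≤ P := (Subgroup.closure_le _).2 (by
    rintro z (rfl | rfl)
    exacts [hf.w_mem, hf.y_mem])
  haveI : Finite E := Finite.of_injective _ (Subgroup.inclusion_injective hEP)
  have hwE : w ∈ E := Subgroup.subset_closure (Or.inl rfl)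
  have hyE : y ∈ E := Subgroup.subset_closure (Or.inr rfl)
  have hxE : x ∈ E := by
    obtain ⟨n, hn⟩ := exists_log hs.card (hs.br_mem y hf.y_mem w hf.w_mem) hf.br_ne hf.x_mem
    rw [← hn]
    exact E.pow_mem (E.mul_mem (E.mul_mem (E.mul_mem hyE hwE) (E.inv_mem hyE)) (E.inv_mem hwE)) n
  have hZE : Z ≤ E := fun z hz => by
    obtain ⟨n, rfl⟩ := exists_log hs.card hf.x_mem hf.x_ne hz
    exact E.pow_mem hxE n
  have hxw : br x w = 1 := br_eq_one.2 (hs.cent w (hs.le hf.w_mem) x hf.x_mem).eq.symm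
  have hxy : br x y = 1 := br_eq_one.2 (hs.cent y (hs.le hf.y_mem) x hf.x_mem).eq.symm
  have hwp : w ^ p = 1 := hf.exp w hf.w_mem (by simp [br])
  have hxp : x ^ p = 1 := pow_eq_one_of_card hs.card hf.x_mem
  have hyw : br w y ≠ 1 := fun h => hf.br_ne (by rw [← br_inv, h, inv_one])
  -- normal form in `E`
  let Nset : Set Ω := {e | ∃ l k i : ℕ, e = x ^ l * w ^ k * y ^ i}
  have hmul : ∀ a ∈ Nset, ∀ b ∈ Nset, a * b ∈ Nset := by
    rintro _ ⟨l, k, i, rfl⟩ _ ⟨l', k', i', rfl⟩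
    obtain ⟨n, hn⟩ := exists_log hs.card hf.x_mem hf.x_ne
      (hs.br_mem (y ^ i) (P.pow_mem hf.y_mem i) (w ^ k') (P.pow_mem hf.w_mem k'))
    have hcx : ∀ (m : ℕ) (z : Ω), z ∈ P → z * x ^ m = x ^ m * z := fun m z hz =>
      ((hs.cent z (hs.le hz) x hf.x_mem).pow_right m).eq
    refine ⟨l + l' + n, k + k', i + i', ?_⟩
    calc x ^ l * w ^ k * y ^ i * (x ^ l' * w ^ k' * y ^ i')
        = x ^ l * (w ^ k * (y ^ i * x ^ l')) * w ^ k' * y ^ i' := by group
      _ = x ^ l * x ^ l' * w ^ k * (y ^ i * w ^ k') * y ^ i' := by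
          rw [hcx l' _ (P.pow_mem hf.y_mem i), ← mul_assoc (w ^ k), hcx l' _ (P.pow_mem hf.w_mem k)]
          group
      _ = x ^ l * x ^ l' * (w ^ k * x ^ n) * (w ^ k' * y ^ i) * y ^ i' := by
          rw [mul_swap (y ^ i) (w ^ k'), ← hn]; group
      _ = _ := by rw [hcx n _ (P.pow_mem hf.w_mem k), pow_add, pow_add, pow_add, pow_add]; group
  have hNone : (1 : Ω) ∈ Nset := ⟨0, 0, 0, by simp⟩
  have hNpow : ∀ a ∈ Nset, ∀ n : ℕ, a ^ n ∈ Nset := by
    intro a ha n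
    induction n with
    | zero => simpa using hNone
    | succ n ih => rw [pow_succ]; exact hmul _ ih _ ha
  have hnf : ∀ e ∈ E, e ∈ Nset := by
    intro e he
    induction he using Subgroup.closure_induction with
    | mem z hz =>
      rcases hz with rfl | hz
      · exact ⟨0, 1, 0, by simp⟩
      · rw [Set.mem_singleton_iff] at hz; subst hz; exact ⟨0, 0, 1, by simp⟩
    | one => exact hNone
    | mul a b _ _ ha hb => exact hmul a ha b hb
    | inv a ha' ha =>
      have hn := pow_card_eq_one' (x := (⟨a, ha'⟩ : E))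
      have hpos : 0 < Nat.card E := Nat.card_pos
      have : a⁻¹ = a ^ (Nat.card E - 1) := by
        rw [inv_eq_iff_mul_eq_one, ← pow_succ', Nat.sub_add_cancel hpos]
        exact congrArg Subtype.val hn
      rw [this]
      exact hNpow a ha _
  have hmod : ∀ (g : Ω), g ^ p = 1 → ∀ n : ℕ, g ^ n = g ^ (n % p) := fun g hg n =>
    pow_eq_pow_mod n hg
  -- the central elements of `E`
  have hcenE : ∀ l k i : ℕ, br (x ^ l * w ^ k * y ^ i) w = 1 → br (x ^ l * w ^ k * y ^ i) y = 1 →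
      p ∣ i ∧ p ∣ k := fun l k i hw hy' =>
    hf.dvd_of_central hs (P.pow_mem (hs.Zle hf.x_mem) l)
      (by rw [br_pow_left hct (hs.Zle hf.x_mem) hf.w_mem, hxw, one_pow])
      (by rw [br_pow_left hct (hs.Zle hf.x_mem) hf.y_mem, hxy, one_pow]) hw hy'
  have hcenter : Subgroup.center E = Z.subgroupOf E := by
    ext e
    rw [Subgroup.mem_center_iff, Subgroup.mem_subgroupOf]
    constructor
    · intro h
      obtain ⟨l, k, i, he⟩ := hnf e e.2
      have hb : ∀ g (hg : g ∈ E), br (e : Ω) g = 1 := fun g hg => by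
        rw [br_eq_one]
        exact congrArg Subtype.val (h ⟨g, hg⟩).symm
      obtain ⟨⟨i', hi⟩, ⟨k', hk⟩⟩ := hcenE l k i (he ▸ hb w hwE) (he ▸ hb y hyE)
      rw [he, hi, hk, pow_mul w, pow_mul y, hwp, hy, one_pow, one_pow, mul_one, mul_one]
      exact Z.pow_mem hf.x_mem l
    · intro h g
      exact Subtype.ext (hs.cent g (hs.le (hEP g.2)) e h).eq
  have hcard : Nat.card E = p ^ 3 := by
    let f : Fin p × Fin p × Fin p → E := fun z => ⟨x ^ (z.1 : ℕ) * w ^ (z.2.1 : ℕ) * y ^ (z.2.2 : ℕ),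
      E.mul_mem (E.mul_mem (E.pow_mem hxE _) (E.pow_mem hwE _)) (E.pow_mem hyE _)⟩
    have hpos := (Fact.out : p.Prime).pos
    have hsurj : Function.Surjective f := fun e => by
      obtain ⟨l, k, i, he⟩ := hnf e e.2
      refine ⟨(⟨l % p, Nat.mod_lt _ hpos⟩, ⟨k % p, Nat.mod_lt _ hpos⟩, ⟨i % p, Nat.mod_lt _ hpos⟩),
        Subtype.ext ?_⟩
      show x ^ (l % p) * w ^ (k % p) * y ^ (i % p) = e
      rw [← hmod x hxp, ← hmod w hwp, ← hmod y hy, ← he]
    have hinj : Function.Injective f := by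
      rintro ⟨l, k, i⟩ ⟨l', k', i'⟩ h
      have h0 : x ^ (l : ℕ) * w ^ (k : ℕ) * y ^ (i : ℕ) =
          x ^ (l' : ℕ) * w ^ (k' : ℕ) * y ^ (i' : ℕ) := congrArg Subtype.val h
      -- compare commutators with `w` and `y`
      have hv : ∀ (l k i : ℕ), br (x ^ l * w ^ k * y ^ i) w = br y w ^ i ∧
          br (x ^ l * w ^ k * y ^ i) y = br w y ^ k := fun l k i => by
        have hP1 := P.mul_mem (P.pow_mem (hs.Zle hf.x_mem) l) (P.pow_mem hf.w_mem k)
        constructor <;>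
        rw [br_mul_left hct hP1 (P.pow_mem hf.y_mem i) (by first | exact hf.w_mem | exact hf.y_mem),
          br_mul_left hct (P.pow_mem (hs.Zle hf.x_mem) l) (P.pow_mem hf.w_mem k)
            (by first | exact hf.w_mem | exact hf.y_mem),
          br_pow_left hct (hs.Zle hf.x_mem) (by first | exact hf.w_mem | exact hf.y_mem),
          br_pow_left hct hf.w_mem (by first | exact hf.w_mem | exact hf.y_mem),
          br_pow_left hct hf.y_mem (by first | exact hf.w_mem | exact hf.y_mem)]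
        · rw [hxw, show br w w = 1 by simp [br], one_pow, one_pow, one_mul, one_mul]
        · rw [hxy, show br y y = 1 by simp [br], one_pow, one_pow, one_mul, mul_one]
      have heq : ∀ g : Ω, g ^ p = 1 → g ≠ 1 → ∀ a b : Fin p, g ^ (a : ℕ) = g ^ (b : ℕ) → a = b :=
        fun g hg hg1 a b hab => Fin.ext (Nat.ModEq.eq_of_lt_of_lt
          (by simpa [orderOf_eq_prime hg hg1] using pow_eq_pow_iff_modEq.1 hab) a.2 b.2)
      have hi : i = i' := heq _ (pow_eq_one_of_card hs.card (hs.br_mem y hf.y_mem w hf.w_mem)) hf.br_ne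
        i i' (by rw [← (hv l k i).1, h0, (hv l' k' i').1])
      have hk : k = k' := heq _ (pow_eq_one_of_card hs.card (hs.br_mem w hf.w_mem y hf.y_mem)) hyw
        k k' (by rw [← (hv l k i).2, h0, (hv l' k' i').2])
      subst hi hk
      rw [mul_left_inj, mul_left_inj] at h0
      obtain rfl := heq x hxp hf.x_ne l l' h0
      rfl
    rw [← Nat.card_eq_of_bijective f ⟨hinj, hsurj⟩]
    simp [Nat.card_prod, pow_succ, mul_assoc]
  have hEp : IsPGroup p E := IsPGroup.of_card hcard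
  have hcomm : commutator E = Z.subgroupOf E := by
    refine le_antisymm ?_ fun e he => ?_
    · rw [commutator_def, Subgroup.commutator_le]
      exact fun a _ b _ => hs.br_mem a (hEP a.2) b (hEP b.2)
    · obtain ⟨n, hn⟩ := exists_log hs.card (hs.br_mem y hf.y_mem w hf.w_mem) hf.br_ne
        (Subgroup.mem_subgroupOf.1 he)
      rw [show e = ⁅(⟨y, hyE⟩ : E), ⟨w, hwE⟩⁆ ^ n from Subtype.ext (by rw [Subgroup.coe_pow]; exact hn.symm)]
      exact Subgroup.pow_mem _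
        (Subgroup.commutator_mem_commutator (Subgroup.mem_top _) (Subgroup.mem_top _)) n
  have hfrat : frattini E = Z.subgroupOf E := by
    refine le_antisymm (Fusion.frattini_le_of_elementary (p := p) _ hcomm.le fun e => ?_) ?_
    · rw [Subgroup.mem_subgroupOf, Subgroup.coe_pow]
      exact hs.pow_mem _ (hEP e.2)
    · rw [← hcomm]
      haveI := hEp.isNilpotent
      exact Core.commutator_le_frattini
  have hES : IsExtraspecial p E := ⟨⟨hEp, hfrat.trans hcenter.symm, hcomm.trans hcenter.symm⟩, by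
    rw [hcenter, Nat.card_congr (Subgroup.subgroupOfEquivOfLe hZE).toEquiv, hs.card]⟩
  -- the complement
  set Zc : Subgroup Ω := P ⊓ Subgroup.centralizer ({w, y} : Set Ω) with hZc
  have hZc' : ∀ c, c ∈ Zc ↔ c ∈ P ∧ br c w = 1 ∧ br c y = 1 := fun c => by
    rw [hZc, Subgroup.mem_inf, Subgroup.mem_centralizer_iff]
    simp only [Set.mem_insert_iff, Set.mem_singleton_iff, forall_eq_or_imp, forall_eq, br_eq_one,
      eq_comm (a := w * c), eq_comm (a := y * c)]
  obtain ⟨A, hA, hAmax⟩ := Set.Finite.exists_maximal (s := {A : Subgroup Ω | A ≤ Zc ∧ A ⊓ Z = ⊥})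
    (Set.Finite.subset (Set.finite_range fun B : Subgroup P => B.map P.subtype) fun A hA =>
      ⟨A.subgroupOf P, by
        show (A.subgroupOf P).map P.subtype = A
        rw [Subgroup.subgroupOf_map_subtype, inf_eq_left]
        exact hA.1.trans inf_le_left⟩)
    ⟨⊥, bot_le, bot_inf_eq _⟩
  have hAP : A ≤ P := hA.1.trans inf_le_left
  have hAcen : ∀ a ∈ A, ∀ b ∈ P, Commute a b := fun a ha b hb =>
    have h := (hZc' a).1 (hA.1 ha)
    hf.central hs h.1 h.2.1 h.2.2 hb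
  have hAexp : ∀ a ∈ A, a ^ p = 1 := fun a ha =>
    hf.exp a (hAP ha) ((hZc' a).1 (hA.1 ha)).2.1
  have hcov : ∀ c ∈ Zc, ∃ a ∈ A, ∃ z ∈ Z, c = a * z := by
    intro c hc
    by_contra hne
    push Not at hne
    have hcP := ((hZc' c).1 hc).1
    have hnorm : ∀ a ∈ A, c * a * c⁻¹ ∈ A := fun a ha => by
      rw [← (hAcen a ha c hcP).eq, mul_inv_cancel_right]; exact ha
    set A' := A ⊔ Subgroup.zpowers c
    have hA' : A' ≤ Zc := sup_le hA.1 (Subgroup.zpowers_le.2 hc)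
    have hnle : ¬ A' ≤ A := fun h => hne c (h (le_sup_right (a := A) (Subgroup.mem_zpowers c))) 1 Z.one_mem
      (mul_one c).symm
    apply hnle (hAmax ⟨hA', ?_⟩ le_sup_left)
    rw [Subgroup.eq_bot_iff_forall]
    rintro g ⟨hg, hgZ⟩
    have hn : Subgroup.zpowers c ≤ Subgroup.normalizer (A : Set Ω) := Subgroup.zpowers_le.2
      (Subgroup.mem_normalizer_iff.2 fun a => ⟨hnorm a, fun h => by
        have h1 := hAcen _ h c hcP
        have h2 : a = c * a * c⁻¹ := by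
          calc a = c⁻¹ * ((c * a * c⁻¹) * c) := by group
            _ = c * a * c⁻¹ := by rw [h1.eq]; group
        rw [h2]; exact h⟩)
    have hg' : g ∈ ((A ⊔ Subgroup.zpowers c : Subgroup Ω) : Set Ω) := hg
    rw [Subgroup.coe_mul_of_right_le_normalizer_left _ _ hn] at hg'
    obtain ⟨a, ha, d, hd, rfl⟩ := hg'
    haveI : Finite (Subgroup.zpowers c) :=
      Finite.of_injective _ (Subgroup.inclusion_injective (Subgroup.zpowers_le.2 hcP))
    have hcord : c ^ p = 1 := hf.exp c hcP ((hZc' c).1 hc).2.1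
    obtain ⟨n, rfl⟩ : ∃ n : ℕ, c ^ n = d := by
      obtain ⟨j, rfl⟩ := Subgroup.mem_zpowers_iff.1 hd
      exact ⟨(j % p).toNat, by
        rw [← zpow_natCast, Int.toNat_of_nonneg (Int.emod_nonneg j
          (Int.natCast_ne_zero.2 (Fact.out : p.Prime).ne_zero)), ← zpow_eq_zpow_emod' j hcord]⟩
    by_cases hn0 : p ∣ n
    · obtain ⟨e, rfl⟩ := hn0
      have : a * c ^ (p * e) ∈ A ⊓ Z := by
        rw [pow_mul, hcord, one_pow, mul_one]
        exact ⟨ha, by simpa [pow_mul, hcord] using hgZ⟩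
      rw [hA.2] at this
      exact this
    · exfalso
      have hcop : Nat.Coprime n (orderOf c) := by
        refine Nat.Coprime.coprime_dvd_right (orderOf_dvd_of_pow_eq_one hcord) ?_
        exact ((Fact.out : p.Prime).coprime_iff_not_dvd.2 hn0).symm
      obtain ⟨j, hj⟩ := exists_pow_eq_self_of_coprime hcop
      have hz : Commute a⁻¹ (a * c ^ n) :=
        (hAcen a⁻¹ (A.inv_mem ha) _ (P.mul_mem (hAP ha) (P.pow_mem hcP n)))
      refine hne (a⁻¹ ^ j) (A.pow_mem (A.inv_mem ha) j) _ (Z.pow_mem hgZ j) ?_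
      rw [← hz.mul_pow, inv_mul_cancel_left, hj]
  have hAZE : ∀ e ∈ E, e ∈ A → e = 1 := by
    intro e he hea
    obtain ⟨l, k, i, he'⟩ := hnf e he
    have h := (hZc' e).1 (hA.1 hea)
    obtain ⟨⟨i', hi⟩, ⟨k', hk⟩⟩ := hcenE l k i (he' ▸ h.2.1) (he' ▸ h.2.2)
    have hmem : e ∈ A ⊓ Z := ⟨hea, by
      rw [he', hi, hk, pow_mul w, pow_mul y, hwp, hy, one_pow, one_pow, mul_one, mul_one]
      exact Z.pow_mem hf.x_mem l⟩
    rw [hA.2] at hmem
    exact hmem
  let ψ : E × A →* P :=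
    MonoidHom.mk' (fun z => ⟨(z.1 : Ω) * z.2, P.mul_mem (hEP z.1.2) (hAP z.2.2)⟩) fun u v =>
      Subtype.ext (by
        show (u.1 : Ω) * v.1 * ((u.2 : Ω) * v.2) = (u.1 : Ω) * u.2 * ((v.1 : Ω) * v.2)
        have h := (hAcen u.2 u.2.2 v.1 (hEP v.1.2)).eq
        calc (u.1 : Ω) * v.1 * ((u.2 : Ω) * v.2) = (u.1 : Ω) * (v.1 * u.2) * v.2 := by group
          _ = _ := by rw [← h]; group)
  have hbij : Function.Bijective ψ := by
    refine ⟨(injective_iff_map_eq_one ψ).2 fun ⟨e, a⟩ h => ?_, fun g => ?_⟩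
    · have h' : (e : Ω) * a = 1 := congrArg Subtype.val h
      have he : (e : Ω) = (a : Ω)⁻¹ := eq_inv_of_mul_eq_one_left h'
      have he1 := hAZE e e.2 (he ▸ A.inv_mem a.2)
      rw [he1, one_mul] at h'
      exact Prod.ext (Subtype.ext he1) (Subtype.ext h')
    · obtain ⟨i, k, c, hc, hcw, hcy, hg⟩ := hf.decomp hs g.2
      obtain ⟨a, ha, z, hz, rfl⟩ := hcov c ((hZc' c).2 ⟨hc, hcw, hcy⟩)
      refine ⟨(⟨z * w ^ k * y ^ i, E.mul_mem (E.mul_mem (hZE hz) (E.pow_mem hwE k)) (E.pow_mem hyE i)⟩,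
        ⟨a, ha⟩), Subtype.ext ?_⟩
      show z * w ^ k * y ^ i * a = g
      rw [hg, ← (hAcen a ha _ (P.mul_mem (P.mul_mem (hs.Zle hz) (P.pow_mem hf.w_mem k))
        (P.pow_mem hf.y_mem i))).eq]
      group
  refine ⟨E, A, hEP, hAP, rfl, hES, hcard, fun hp e he => ?_, fun a ha b hb => hAcen a ha b (hAP hb),
    hAexp, ⟨(MulEquiv.ofBijective ψ hbij).symm⟩⟩
  obtain ⟨i, hi, -⟩ := pow_eq_one_frame hs hf hp (hEP he)
  rw [hi, hy, one_pow]

/-! ### Fusion -/

variable [Finite S] {F : FusionSystem S}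

theorem contra_of_exp (hp : p ≠ 2) (hS : IsPGroup p S) (hF : F.IsSaturated p)
    (hP : F.StronglyClosed P) (hs : Setting p S P Z) (hf : Frame p P Z x w y)
    {f : Ω → Ω} (hmor : Mor F (Subgroup.zpowers x) f) (hfx : f x = w) (hy : y ^ p ≠ 1) : False := by
  classical
  have hct := hs.classTwo
  haveI : Finite P := finite_of_le hP.1
  have hxP := hs.Zle hf.x_mem
  have hxp : x ^ p = 1 := pow_eq_one_of_card hs.card hf.x_mem
  have hwp : w ^ p = 1 := hf.exp w hf.w_mem (by simp [br])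
  have hxw : br x w = 1 := br_eq_one.2 (hs.cent w (hs.le hf.w_mem) x hf.x_mem).eq.symm
  have hxy : br x y = 1 := br_eq_one.2 (hs.cent y (hs.le hf.y_mem) x hf.x_mem).eq.symm
  have hww : br w w = 1 := by simp [br]
  -- the subgroup of exponent `p`
  let M : Subgroup Ω :=
    { carrier := {a | a ∈ P ∧ br a w = 1}
      one_mem' := ⟨P.one_mem, by simp [br]⟩
      mul_mem' := fun {a b} ha hb => ⟨P.mul_mem ha.1 hb.1, by
        rw [br_mul_left hct ha.1 hb.1 hf.w_mem, ha.2, hb.2, one_mul]⟩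
      inv_mem' := fun {a} ha => ⟨P.inv_mem ha.1, by
        have h1 := br_mul_left hct (P.inv_mem ha.1) ha.1 hf.w_mem
        rw [inv_mul_cancel, ha.2, mul_one] at h1
        rw [← h1]; simp [br]⟩ }
  have hMP : M ≤ P := fun a ha => ha.1
  have hMS : M ≤ S := hMP.trans hP.1
  have hMiff : ∀ a, a ∈ M ↔ a ∈ P ∧ a ^ p = 1 := fun a => by
    refine ⟨fun ha => ⟨ha.1, hf.exp a ha.1 ha.2⟩, fun ha => ⟨ha.1, ?_⟩⟩
    obtain ⟨i, hi, hi'⟩ := pow_eq_one_frame hs hf hp ha.1
    rw [ha.2] at hi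
    refine hi' ?_
    rw [← orderOf_eq_prime (pow_eq_one_of_card hs.card (hs.pow_mem y hf.y_mem)) hy]
    exact orderOf_dvd_of_pow_eq_one hi.symm
  have hMsc : F.StronglyClosed M := by
    refine stronglyClosed_iff.2 ⟨hMS, fun R g hR hg a ha => (hMiff _).2 ⟨?_, ?_⟩⟩
    · exact (stronglyClosed_iff.1 hP).2 R g (hR.trans hMP) hg a ha
    · rw [← hg.map_pow ha, ((hMiff a).1 (hR ha)).2, hg.map_one]
  have hMn : F.IsNormal M := by
    refine isNormal_of_series hS hF hMsc (C := fun i => if i = 0 then ⊥ else M)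
      (monotone_nat_of_le_succ fun i => by
        by_cases hi : i = 0
        · simp [hi]
        · simp [hi]) (n := 1) (if_neg one_ne_zero) (fun Q hc hr => ⟨fun α hα i hi a ha => ?_, ?_⟩) ?_
    · by_cases h0 : i = 0
      · simp only [h0, if_true, Subgroup.mem_bot]
        refine ⟨fun h => ?_, fun h => ?_⟩
        · rw [← apl_inv_apl α ha, h, apl_apply _ Q.one_mem]
          exact congrArg Subtype.val (map_one (α⁻¹ : MulAut Q))
        · rw [h, apl_apply _ Q.one_mem]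
          exact congrArg Subtype.val (map_one (α : MulAut Q))
      · simp only [h0, if_false]
        exact apl_invariant_of_stronglyClosed hMsc hc.1 hα ha
    · intro δ _ _ a ha h0
      simp only [if_true, Subgroup.mem_bot] at h0
      rw [h0, apl_apply _ Q.one_mem]
      exact congrArg Subtype.val (map_one (δ : MulAut Q))
    · intro i hi a ha b hb
      obtain rfl : i = 0 := by omega
      simp only [zero_add, one_ne_zero, if_false] at hb
      simp only [if_true, Subgroup.mem_bot]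
      rw [inv_mul_eq_one, eq_comm, mul_inv_eq_iff_eq_mul]
      exact br_eq_one.1 (hf.comm a ha.1 b hb.1 ha.2 hb.2)
  -- the automorphism moving `x` to `w`
  have hxM : x ∈ M := ⟨hxP, hxw⟩
  have hwM : w ∈ M := ⟨hf.w_mem, hww⟩
  obtain ⟨g₀, hg₀, hg₀f, hg₀M⟩ := (isNormal_iff.1 hMn).2 _ f hmor
  have hiso₀ : Iso F M M g₀ := ⟨hg₀.mono le_sup_right, hg₀M⟩
  obtain ⟨β, hβ, hβg⟩ := hiso₀.exists_mem_autGroup
  have hβx : apl β x = w := by rw [hβg x hxM, hg₀f x (Subgroup.mem_zpowers x), hfx]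
  -- `M` is fully normalized
  have hMnS : ∀ s ∈ S, s ∈ Subgroup.normalizer (M : Set Ω) := fun s hs' =>
    StronglyClosed.le_normalizer hMsc hs'
  have hMfn : F.IsFullyNormalized M := by
    refine ⟨hMS, fun Q _ => ?_⟩
    rw [show normalizerIn S M = S from le_antisymm inf_le_left fun s hs' => ⟨hs', hMnS s hs'⟩]
    exact Subgroup.card_le_of_le inf_le_left
  haveI : Finite M := finite_of_le hMS
  haveI : Finite (MulAut M) := Finite.of_injective _ MulEquiv.toEquiv_injective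
  obtain ⟨τ, hτ, hτx⟩ := exists_mem_autInducedBy (P := M) (K := S) (hs.le hf.y_mem)
    (hMnS y (hs.le hf.y_mem))
  have hτF : τ ∈ F.autGroup M := autInducedBy_le_autGroup hMS hτ
  have hτ' : ∀ m ∈ M, apl τ m = br y m * m := fun m hm => by rw [hτx m hm, br]; group
  have hτx' : apl τ x = x := by
    rw [hτ' x hxM, ← br_inv, hxy, inv_one, one_mul]
  set τ₂ := β * τ * β⁻¹ with hτ₂
  have hτ₂F : τ₂ ∈ F.autGroup M := mul_mem (mul_mem hβ hτF) (inv_mem hβ)
  have hβmul : ∀ {γ : MulAut M}, γ ∈ F.autGroup M → ∀ a ∈ M, ∀ b ∈ M,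
      apl γ (a * b) = apl γ a * apl γ b :=
    fun hγ a ha b hb => (iso_apl hMS hγ).1.map_mul ha hb
  have hτ₂' : ∀ m ∈ M, ∃ l : ℕ, apl τ₂ m = w ^ l * m := fun m hm => by
    have hm' : apl β⁻¹ m ∈ M := apl_mem _ hm
    obtain ⟨l, hl⟩ := exists_log hs.card hf.x_mem hf.x_ne (hs.br_mem y hf.y_mem _ hm'.1)
    refine ⟨l, ?_⟩
    rw [hτ₂, apl_mul _ _ hm, apl_mul _ _ hm', hτ' _ hm', ← hl,
      hβmul hβ _ (M.pow_mem hxM l) _ hm', (iso_apl hMS hβ).1.map_pow hxM, hβx, apl_apl_inv _ hm]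
  have hτ₂w : apl τ₂ w = w := by
    have h1 : apl β⁻¹ w = x := by rw [← hβx, apl_inv_apl _ hxM]
    rw [hτ₂, apl_mul _ _ hwM, apl_mul _ _ (apl_mem _ hwM), h1, hτx', hβx]
  -- `w` is not a power of `x`
  have hwx : ∀ l : ℕ, ¬ p ∣ l → w ^ l ∉ Z := by
    intro l hl hmem
    have hcop : Nat.Coprime l (orderOf w) := Nat.Coprime.coprime_dvd_right
      (orderOf_dvd_of_pow_eq_one hwp) ((Fact.out : p.Prime).coprime_iff_not_dvd.2 hl).symm
    obtain ⟨j, hj⟩ := exists_pow_eq_self_of_coprime hcop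
    have hwZ : w ∈ Z := hj ▸ Z.pow_mem hmem j
    exact hf.br_ne (br_eq_one.2 (hs.cent y (hs.le hf.y_mem) w hwZ).eq)
  obtain ⟨l₀, hl₀⟩ := hτ₂' x hxM
  obtain ⟨j₀, hj₀⟩ := exists_log hs.card hf.x_mem hf.x_ne (hs.br_mem y hf.y_mem w hf.w_mem)
  by_cases hl₀p : p ∣ l₀
  · -- both transvections fix `x`: they generate a p-group
    have hτ₂x : apl τ₂ x = x := by
      obtain ⟨e, rfl⟩ := hl₀p
      rw [hl₀, pow_mul, hwp, one_pow, one_mul]
    set L := Subgroup.closure ({τ, τ₂} : Set (MulAut M)) with hL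
    have hLF : L ≤ F.autGroup M := (Subgroup.closure_le _).2 (by
      rintro z (rfl | rfl) <;> assumption)
    let V : Subgroup Ω := Subgroup.closure {x, w}
    let C : ℕ → Subgroup Ω := fun i => if i = 0 then ⊥ else if i = 1 then Subgroup.zpowers x
      else if i = 2 then V else M
    have hVM : V ≤ M := (Subgroup.closure_le _).2 (by rintro z (rfl | rfl) <;> assumption)
    have hxV : Subgroup.zpowers x ≤ V := Subgroup.zpowers_le.2 (Subgroup.subset_closure (Or.inl rfl))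
    have hCmono : Monotone C := monotone_nat_of_le_succ fun i => by
      rcases i with _ | _ | _ | i
      · simp [C]
      · simpa [C] using hxV
      · simpa [C] using hVM
      · simp [C]
    have hgen : ∀ γ : MulAut M, γ ∈ F.autGroup M → apl γ x = x →
        (∀ b ∈ V, b⁻¹ * apl γ b ∈ Subgroup.zpowers x) →
        (∀ b ∈ M, b⁻¹ * apl γ b ∈ V) → γ ∈ chainStab C hCmono 3 := by
      intro γ hγ hγx h2 h3
      refine mem_chainStab.2 fun i hi b hb hbC => ?_
      interval_cases i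
      · simp only [C, zero_add, one_ne_zero, if_false, if_true] at hbC ⊢
        obtain ⟨n, rfl⟩ := Subgroup.mem_zpowers_iff.1 hbC
        rw [Subgroup.mem_bot, inv_mul_eq_one, eq_comm]
        have := (iso_apl hMS hγ).1
        obtain ⟨φ, hφ, hφe⟩ := this
        rw [← hφe ⟨x ^ n, hb⟩, show (⟨x ^ n, hb⟩ : M) = ⟨x, hxM⟩ ^ n from Subtype.ext (by simp),
          map_zpow, hφe ⟨x, hxM⟩, hγx]
      · simpa [C] using h2 b (by simpa [C] using hbC)
      · simpa [C] using h3 b hb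
    have hVcomm : ∀ b ∈ V, ∀ m ∈ M, Commute b m := fun b hb m hm =>
      br_eq_one.1 (hf.comm b (hVM hb).1 m hm.1 (hVM hb).2 hm.2)
    have hτV : ∀ b ∈ M, b⁻¹ * apl τ b ∈ Subgroup.zpowers x := fun b hb => by
      obtain ⟨n, hn⟩ := exists_log hs.card hf.x_mem hf.x_ne (hs.br_mem y hf.y_mem b hb.1)
      rw [hτ' b hb, ← hn, (hVcomm _ (V.pow_mem (Subgroup.subset_closure (Or.inl rfl)) n) b hb).eq,
        inv_mul_cancel_left]
      exact Subgroup.pow_mem _ (Subgroup.mem_zpowers x) n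
    have hτ₂V : ∀ b ∈ V, b⁻¹ * apl τ₂ b ∈ Subgroup.zpowers x := by
      intro b hb
      have : apl τ₂ b = b := by
        induction hb using Subgroup.closure_induction with
        | mem z hz => rcases hz with rfl | rfl <;> assumption
        | one => exact (iso_apl hMS hτ₂F).1.map_one
        | mul a b ha hb iha ihb => rw [hβmul hτ₂F a (hVM ha) b (hVM hb), iha, ihb]
        | inv a ha iha => rw [(iso_apl hMS hτ₂F).1.map_inv (hVM ha), iha]
      rw [this, inv_mul_cancel]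
      exact Subgroup.one_mem _
    have hτ₂M : ∀ b ∈ M, b⁻¹ * apl τ₂ b ∈ V := fun b hb => by
      obtain ⟨n, hn⟩ := hτ₂' b hb
      rw [hn, (hVcomm _ (V.pow_mem (Subgroup.subset_closure (Or.inr rfl)) n) b hb).eq, inv_mul_cancel_left]
      exact V.pow_mem (Subgroup.subset_closure (Or.inr rfl)) n
    have hLp : IsPGroup p L := by
      refine IsPGroup.to_le (isPGroup_chainStab (Γ := F.autGroup M) (hS.to_le hMS) hCmono (n := 3)
        (by simp [C]) (fun δ _ _ a ha h0 => ?_)) (le_inf hLF ((Subgroup.closure_le _).2 ?_))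
      · simp only [C, if_true, Subgroup.mem_bot] at h0
        rw [h0, apl_apply _ M.one_mem]
        exact congrArg Subtype.val (map_one (δ : MulAut M))
      · rintro z (rfl | rfl)
        · exact hgen _ hτF hτx' (fun b hb => hτV b (hVM hb)) fun b hb => hxV (hτV b hb)
        · exact hgen _ hτ₂F hτ₂x hτ₂V hτ₂M
    obtain ⟨-, P₀, hP₀⟩ := fullyAutomized_of_fullyNormalized hS hF hMfn
    obtain ⟨γ, hγ⟩ := exists_conj_mem_sylow (hLp.comap_subtype : IsPGroup p (L.subgroupOf (F.autGroup M))) P₀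
    -- conjugates of `Aut_P(M)` inside `Aut_S(M)` lie in `Aut_P(M)`
    have hkey : ∀ σ : F.autGroup M, (σ : MulAut M) * τ * (σ : MulAut M)⁻¹ ∈ autInducedBy S M →
        ∃ i : ℕ, (σ : MulAut M) * τ * (σ : MulAut M)⁻¹ = τ ^ i := by
      intro σ hσ
      have hiso : Iso F M M (apl (σ : MulAut M)) := iso_apl hMS σ.2
      obtain ⟨g, hg, hgx⟩ := (isReceptive_iff.1 (receptive_of_fullyNormalized hS hF hMfn)).2 M _ hiso
      obtain ⟨h, hh, -, hhx⟩ := mem_autInducedBy_iff.1 hσ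
      have hyn : y ∈ nPhi S M (apl (σ : MulAut M)) := by
        refine ⟨hs.le hf.y_mem, hMnS y (hs.le hf.y_mem), h, hh, fun a ha => ?_⟩
        rw [← hhx _ (apl_mem _ ha), apl_mul _ _ (apl_mem _ ha), apl_mul _ _ (apl_mem _ (apl_mem _ ha)),
          apl_inv_apl _ ha, hτx a ha]
      have hgy : g y ∈ P := (stronglyClosed_iff.1 hP).2 (Subgroup.zpowers y) g
        (Subgroup.zpowers_le.2 hf.y_mem) (hg.mono (Subgroup.zpowers_le.2 hyn)) y (Subgroup.mem_zpowers y)
      obtain ⟨i, k, c, hc, hcw, hcy, hgy'⟩ := hf.decomp hs hgy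
      refine ⟨i, apl_ext fun a ha => ?_⟩
      obtain ⟨b, hb, rfl⟩ : ∃ b ∈ M, apl (σ : MulAut M) b = a :=
        ⟨apl (σ : MulAut M)⁻¹ a, apl_mem _ ha, apl_apl_inv _ ha⟩
      have hc1 : c * w ^ k ∈ M := M.mul_mem ⟨hc, hcw⟩ (M.pow_mem hwM k)
      have hτi : ∀ n : ℕ, ∀ m ∈ M, apl (τ ^ n) m = y ^ n * m * (y ^ n)⁻¹ := by
        intro n
        induction n with
        | zero => intro m hm; rw [pow_zero, apl_one hm]; simp
        | succ n ih =>
          intro m hm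
          rw [pow_succ' τ, apl_mul _ _ hm, ih m hm, hτx _ (by rw [← ih m hm]; exact apl_mem _ hm),
            pow_succ' y]
          group
      rw [apl_mul _ _ ha, apl_mul _ _ (apl_mem _ ha), apl_inv_apl _ hb, hτx b hb,
        ← hgx _ ((Subgroup.mem_normalizer_iff.1 (hMnS y (hs.le hf.y_mem)) b).1 hb),
        hg.map_conj hyn (hiso.1.le_nPhi hb), hgx b hb, hgy', hτi i _ ha]
      have hm : y ^ i * apl (σ : MulAut M) b * (y ^ i)⁻¹ ∈ M := by
        rw [← hτi i _ ha]; exact apl_mem _ ha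
      have hcomm' := br_eq_one.1 (hf.comm (c * w ^ k) hc1.1 _ hm.1 hc1.2 hm.2)
      calc c * w ^ k * y ^ i * apl (σ : MulAut M) b * (c * w ^ k * y ^ i)⁻¹
          = c * w ^ k * (y ^ i * apl (σ : MulAut M) b * (y ^ i)⁻¹) * (c * w ^ k)⁻¹ := by group
        _ = _ := by rw [hcomm', mul_inv_cancel_right]
    have hmem : ∀ z ∈ L, ∀ hz : z ∈ F.autGroup M,
        (γ : MulAut M) * z * (γ : MulAut M)⁻¹ ∈ autInducedBy S M := fun z hzL hz =>
      (autInducedBy_subgroupOf_eq P₀ hP₀).1 (hγ ⟨z, hz⟩ hzL)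
    obtain ⟨i₁, h1⟩ := hkey γ (hmem τ (Subgroup.subset_closure (Or.inl rfl)) hτF)
    obtain ⟨i₂, h2⟩ := hkey (γ * ⟨β, hβ⟩) (by
      have := hmem τ₂ (Subgroup.subset_closure (Or.inr rfl)) hτ₂F
      rw [hτ₂] at this
      simpa [mul_assoc] using this)
    have hτp : τ ^ p = 1 := by
      refine apl_ext fun m hm => ?_
      have hτn : ∀ n : ℕ, apl (τ ^ n) m = br y m ^ n * m := by
        intro n
        induction n with
        | zero => rw [pow_zero, apl_one hm, pow_zero, one_mul]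
        | succ n ih =>
          have hb : br y m ∈ M := ⟨hs.Zle (hs.br_mem y hf.y_mem m hm.1),
            br_eq_one.2 (hs.cent w (hs.le hf.w_mem) _ (hs.br_mem y hf.y_mem m hm.1)).eq.symm⟩
          have hby : apl τ (br y m) = br y m := by
            rw [hτx _ hb, (hs.cent y (hs.le hf.y_mem) _ (hs.br_mem y hf.y_mem m hm.1)).eq,
              mul_inv_cancel_right]
          rw [pow_succ' τ, apl_mul _ _ hm, ih, hβmul hτF _ (M.pow_mem hb n) _ hm,
            (iso_apl hMS hτF).1.map_pow hb, hby, hτ' m hm, pow_succ, mul_assoc]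
      rw [hτn, pow_eq_one_of_card hs.card (hs.br_mem y hf.y_mem m hm.1), one_mul, apl_one hm]
    have hcop1 : Nat.Coprime i₁ (orderOf τ) := by
      refine Nat.Coprime.coprime_dvd_right (orderOf_dvd_of_pow_eq_one hτp)
        ((Fact.out : p.Prime).coprime_iff_not_dvd.2 fun hd => ?_).symm
      obtain ⟨e, rfl⟩ := hd
      rw [pow_mul, hτp, one_pow, conj_eq_one_iff] at h1
      have := congrArg (fun z : MulAut M => apl z w) h1
      simp only [apl_one hwM, hτ' w hwM] at this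
      exact hf.br_ne (mul_eq_right.1 this)
    obtain ⟨j, hj⟩ := exists_pow_eq_self_of_coprime hcop1
    have h3 : (γ : MulAut M) * τ₂ * (γ : MulAut M)⁻¹ = τ ^ i₂ := by
      rw [← h2, hτ₂]; simp [mul_assoc]
    have h4 : τ₂ = τ ^ (j * i₂) := by
      have e1 : (γ : MulAut M) * τ ^ (j * i₂) * (γ : MulAut M)⁻¹ = τ ^ i₂ := by
        rw [← conj_pow, h1, pow_mul (τ ^ i₁), hj]
      exact mul_left_cancel (mul_right_cancel (h3.trans e1.symm))
    -- `τ₂` moves some element of `M`, along `w`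
    have h5 : apl τ₂ (apl β w) = apl β (apl τ w) := by
      rw [hτ₂, apl_mul _ _ (apl_mem _ hwM), apl_mul _ _ (apl_mem _ (apl_mem _ hwM)), apl_inv_apl _ hwM]
    obtain ⟨n, hn⟩ := hτ₂' (apl β w) (apl_mem _ hwM)
    have hnp : ¬ p ∣ n := by
      rintro ⟨e, rfl⟩
      rw [pow_mul, hwp, one_pow, one_mul] at hn
      rw [hn] at h5
      have h6 := congrArg (apl β⁻¹) h5
      rw [apl_inv_apl _ hwM, apl_inv_apl _ (apl_mem _ hwM), hτ' w hwM] at h6
      exact hf.br_ne (mul_eq_right.1 h6.symm)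
    refine hwx n hnp ?_
    obtain ⟨j₁, hj₁⟩ : ∃ q : ℕ, w ^ n = x ^ q := by
      have hm := apl_mem β hwM
      have e1 : ∀ q : ℕ, ∃ r : ℕ, apl (τ ^ q) (apl β w) = x ^ r * apl β w := by
        intro q
        induction q with
        | zero => exact ⟨0, by rw [pow_zero, apl_one hm, pow_zero, one_mul]⟩
        | succ q ih =>
          obtain ⟨r, hr⟩ := ih
          obtain ⟨r', hr'⟩ := exists_log hs.card hf.x_mem hf.x_ne (hs.br_mem y hf.y_mem _ hm.1)
          refine ⟨r + r', ?_⟩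
          rw [pow_succ' τ, apl_mul _ _ hm, hr, hβmul hτF _ (M.pow_mem hxM r) _ hm,
            (iso_apl hMS hτF).1.map_pow hxM, hτx', hτ' _ hm, ← hr', pow_add, mul_assoc]
      obtain ⟨r, hr⟩ := e1 (j * i₂)
      rw [← h4, hn] at hr
      exact ⟨r, mul_right_cancel hr⟩
    rw [hj₁]
    exact Z.pow_mem hf.x_mem j₁
  -- an element inverting `x` and `w` and centralizing a complement
  have hj₀p : ¬ p ∣ j₀ := by
    rintro ⟨e, rfl⟩
    rw [pow_mul, hxp, one_pow] at hj₀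
    exact hf.br_ne hj₀.symm
  have hord : ∀ g : Ω, g ^ p = 1 → g ≠ 1 → ∀ a : ℕ, ¬ p ∣ a → ∀ b : ℕ, ∃ e : ℕ, (g ^ a) ^ e = g ^ b := by
    intro g hg hg1 a ha b
    obtain ⟨q, hq⟩ := exists_pow_eq_self_of_coprime (x := g) (n := a)
      (Nat.Coprime.coprime_dvd_right (orderOf_dvd_of_pow_eq_one hg)
        ((Fact.out : p.Prime).coprime_iff_not_dvd.2 ha).symm)
    exact ⟨q * b, by rw [pow_mul, hq]⟩
  have hw1 : w ≠ 1 := fun h => hf.br_ne (by simp [h, br])
  have hwy : apl τ w = x ^ j₀ * w := by rw [hτ' w hwM, ← hj₀]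
  -- `C`: common fixed points
  let Cc : Subgroup Ω :=
    { carrier := {a | a ∈ M ∧ apl τ a = a ∧ apl τ₂ a = a}
      one_mem' := ⟨M.one_mem, (iso_apl hMS hτF).1.map_one, (iso_apl hMS hτ₂F).1.map_one⟩
      mul_mem' := fun {a b} ha hb => ⟨M.mul_mem ha.1 hb.1, by
        rw [hβmul hτF a ha.1 b hb.1, ha.2.1, hb.2.1], by
        rw [hβmul hτ₂F a ha.1 b hb.1, ha.2.2, hb.2.2]⟩
      inv_mem' := fun {a} ha => ⟨M.inv_mem ha.1, by
        rw [(iso_apl hMS hτF).1.map_inv ha.1, ha.2.1], by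
        rw [(iso_apl hMS hτ₂F).1.map_inv ha.1, ha.2.2]⟩ }
  have hdec : ∀ m ∈ M, ∃ a b : ℕ, ∃ c ∈ Cc, m = x ^ a * w ^ b * c := by
    intro m hm
    obtain ⟨r, hr⟩ := exists_log hs.card hf.x_mem hf.x_ne (hs.br_mem y hf.y_mem m hm.1)
    obtain ⟨q, hq⟩ := hτ₂' m hm
    obtain ⟨b, hb⟩ := hord x hxp hf.x_ne j₀ hj₀p r
    obtain ⟨a, ha⟩ := hord w hwp hw1 l₀ hl₀p q
    have hv : x ^ a * w ^ b ∈ M := M.mul_mem (M.pow_mem hxM a) (M.pow_mem hwM b)
    refine ⟨a, b, (x ^ a * w ^ b)⁻¹ * m, ⟨M.mul_mem (M.inv_mem hv) hm, ?_, ?_⟩, (mul_inv_cancel_left _ _).symm⟩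
    · rw [hβmul hτF _ (M.inv_mem hv) _ hm, (iso_apl hMS hτF).1.map_inv hv,
        hβmul hτF _ (M.pow_mem hxM a) _ (M.pow_mem hwM b), (iso_apl hMS hτF).1.map_pow hxM,
        (iso_apl hMS hτF).1.map_pow hwM, hτx', hwy, hτ' m hm, ← hr, ← hb]
      have hc : Commute (x ^ j₀) w := ((hs.cent w (hs.le hf.w_mem) x hf.x_mem).symm).pow_left j₀
      have hu : Commute (x ^ a) ((x ^ j₀) ^ b) := ((Commute.refl x).pow_pow a j₀).pow_right b
      rw [hc.mul_pow, ← mul_assoc (x ^ a), hu.eq, mul_assoc _ (x ^ a) (w ^ b), mul_inv_rev, mul_assoc,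
        inv_mul_cancel_left]
    · rw [hβmul hτ₂F _ (M.inv_mem hv) _ hm, (iso_apl hMS hτ₂F).1.map_inv hv,
        hβmul hτ₂F _ (M.pow_mem hxM a) _ (M.pow_mem hwM b), (iso_apl hMS hτ₂F).1.map_pow hxM,
        (iso_apl hMS hτ₂F).1.map_pow hwM, hl₀, hτ₂w, hq]
      have hc : Commute (w ^ l₀) x := (hs.cent w (hs.le hf.w_mem) x hf.x_mem).pow_left l₀
      rw [hc.mul_pow, ha]
      group
  obtain ⟨e₁, he₁⟩ := hord x hxp hf.x_ne j₀ hj₀p (p - 1)
  obtain ⟨e₂, he₂⟩ := hord w hwp hw1 l₀ hl₀p 1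
  -- a word sending `x ↦ w`, `w ↦ x⁻¹`
  have hxinv : x ^ (p - 1) = x⁻¹ := by
    rw [eq_inv_iff_mul_eq_one, ← pow_succ, Nat.sub_add_cancel (Fact.out : p.Prime).one_le, hxp]
  set T := τ ^ e₁ with hT
  set U := τ₂ ^ e₂ with hU
  have hTF : T ∈ F.autGroup M := pow_mem hτF e₁
  have hUF : U ∈ F.autGroup M := pow_mem hτ₂F e₂
  have hTx : apl T x = x := by
    rw [hT]
    clear he₁ hT T hTF
    induction e₁ with
    | zero => rw [pow_zero, apl_one hxM]
    | succ e ih => rw [pow_succ, apl_mul _ _ hxM, hτx', ih]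
  have hTw : apl T w = x⁻¹ * w := by
    rw [hT, ← hxinv, ← he₁]
    clear he₁ hT hTx T hTF
    induction e₁ with
    | zero => rw [pow_zero, apl_one hwM, pow_zero, one_mul]
    | succ e ih =>
      rw [pow_succ' τ, apl_mul _ _ hwM, ih, hβmul hτF _ (M.pow_mem (M.pow_mem hxM j₀) e) _ hwM,
        (iso_apl hMS hτF).1.map_pow (M.pow_mem hxM j₀), (iso_apl hMS hτF).1.map_pow hxM, hτx', hwy,
        pow_succ, mul_assoc]
  have hUw : apl U w = w := by
    rw [hU]
    clear he₂ hU U hUF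
    induction e₂ with
    | zero => rw [pow_zero, apl_one hwM]
    | succ e ih => rw [pow_succ, apl_mul _ _ hwM, hτ₂w, ih]
  have hUx : apl U x = w * x := by
    rw [hU, ← pow_one w, ← he₂]
    clear he₂ hU hUw U hUF
    induction e₂ with
    | zero => rw [pow_zero, apl_one hxM, pow_zero, one_mul]
    | succ e ih =>
      rw [pow_succ' τ₂, apl_mul _ _ hxM, ih, hβmul hτ₂F _ (M.pow_mem (M.pow_mem hwM l₀) e) _ hxM,
        (iso_apl hMS hτ₂F).1.map_pow (M.pow_mem hwM l₀), (iso_apl hMS hτ₂F).1.map_pow hwM, hτ₂w, hl₀,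
        pow_succ, mul_assoc]
  set R := T * U * T with hR
  have hRF : R ∈ F.autGroup M := mul_mem (mul_mem hTF hUF) hTF
  have hRx : apl R x = w := by
    rw [hR, apl_mul _ _ hxM, apl_mul _ _ (apl_mem _ hxM), hTx, hUx, hβmul hTF _ hwM _ hxM, hTw, hTx,
      mul_assoc, (hs.cent w (hs.le hf.w_mem) x hf.x_mem).eq, inv_mul_cancel_left]
  have hRw : apl R w = x⁻¹ := by
    rw [hR, apl_mul _ _ hwM, apl_mul _ _ (apl_mem _ hwM), hTw, hβmul hUF _ (M.inv_mem hxM) _ hwM,
      (iso_apl hMS hUF).1.map_inv hxM, hUx, hUw, mul_inv_rev, inv_mul_cancel_right,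
      (iso_apl hMS hTF).1.map_inv hxM, hTx]
  have hRC : ∀ c ∈ Cc, apl R c = c := by
    intro c hc
    have hfix : ∀ (γ : MulAut M), apl γ c = c → ∀ n : ℕ, apl (γ ^ n) c = c := by
      intro γ hγ n
      induction n with
      | zero => rw [pow_zero, apl_one hc.1]
      | succ n ih => rw [pow_succ, apl_mul _ _ hc.1, hγ, ih]
    rw [hR, apl_mul _ _ hc.1, apl_mul _ _ (apl_mem _ hc.1), hfix τ hc.2.1, hfix τ₂ hc.2.2, hfix τ hc.2.1]
  set δ := R * R with hδ
  have hδF : δ ∈ F.autGroup M := mul_mem hRF hRF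
  have hδx : apl δ x = x⁻¹ := by rw [hδ, apl_mul _ _ hxM, hRx, hRw]
  have hδw : apl δ w = w⁻¹ := by
    rw [hδ, apl_mul _ _ hwM, hRw, (iso_apl hMS hRF).1.map_inv hxM, hRx]
  have hδC : ∀ c ∈ Cc, apl δ c = c := fun c hc => by rw [hδ, apl_mul _ _ hc.1, hRC c hc, hRC c hc]
  have hδτ : ∀ m ∈ M, apl δ (apl τ m) = apl τ (apl δ m) := by
    intro m hm
    obtain ⟨a, b, c, hc, rfl⟩ := hdec m hm
    have hxa := M.pow_mem hxM a
    have hwb := M.pow_mem hwM b
    have hxj := M.pow_mem hxM j₀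
    simp only [hβmul hτF _ (M.mul_mem hxa hwb) _ hc.1, hβmul hτF _ hxa _ hwb,
      (iso_apl hMS hτF).1.map_pow hxM, (iso_apl hMS hτF).1.map_pow hwM, hτx', hwy, hc.2.1,
      hβmul hδF _ (M.mul_mem hxa (M.pow_mem (M.mul_mem hxj hwM) b)) _ hc.1,
      hβmul hδF _ hxa _ (M.pow_mem (M.mul_mem hxj hwM) b), hβmul hδF _ (M.mul_mem hxa hwb) _ hc.1,
      hβmul hδF _ hxa _ hwb, (iso_apl hMS hδF).1.map_pow hxM,
      (iso_apl hMS hδF).1.map_pow (M.mul_mem hxj hwM), hβmul hδF _ hxj _ hwM,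
      (iso_apl hMS hδF).1.map_pow hwM, hδx, hδw, hδC c hc,
      hβmul hτF _ (M.mul_mem (M.pow_mem (M.inv_mem hxM) a) (M.pow_mem (M.inv_mem hwM) b)) _ hc.1,
      hβmul hτF _ (M.pow_mem (M.inv_mem hxM) a) _ (M.pow_mem (M.inv_mem hwM) b),
      (iso_apl hMS hτF).1.map_pow (M.inv_mem hxM), (iso_apl hMS hτF).1.map_pow (M.inv_mem hwM),
      (iso_apl hMS hτF).1.map_inv hxM, (iso_apl hMS hτF).1.map_inv hwM]
    have hcomm : Commute (x ^ j₀) w := ((hs.cent w (hs.le hf.w_mem) x hf.x_mem).symm).pow_left j₀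
    rw [mul_inv_rev, inv_pow x j₀, hcomm.inv_inv.eq]
  -- extend to `P`
  have hiso : Iso F M M (apl δ) := iso_apl hMS hδF
  obtain ⟨g, hg, hgx⟩ := (isReceptive_iff.1 (receptive_of_fullyNormalized hS hF hMfn)).2 M _ hiso
  have hyn : y ∈ nPhi S M (apl δ) := by
    refine ⟨hs.le hf.y_mem, hMnS y (hs.le hf.y_mem), y, hs.le hf.y_mem, fun a ha => ?_⟩
    rw [← hτx a ha, hδτ a ha, hτx _ (apl_mem _ ha)]
  have hgy : g y ∈ P := (stronglyClosed_iff.1 hP).2 (Subgroup.zpowers y) g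
    (Subgroup.zpowers_le.2 hf.y_mem) (hg.mono (Subgroup.zpowers_le.2 hyn)) y (Subgroup.mem_zpowers y)
  obtain ⟨i, k, c, hc, hcw, hcy, hgy'⟩ := hf.decomp hs hgy
  have hc1 : c * w ^ k ∈ M := M.mul_mem ⟨hc, hcw⟩ (M.pow_mem hwM k)
  have hi1 : br y w ^ i = br y w := by
    have hw' : w⁻¹ ∈ M := M.inv_mem hwM
    have h1 : apl δ (y * w * y⁻¹) = g y * w⁻¹ * (g y)⁻¹ := by
      rw [← hgx _ ((Subgroup.mem_normalizer_iff.1 (hMnS y (hs.le hf.y_mem)) w).1 hwM),
        hg.map_conj hyn (hiso.1.le_nPhi hwM), hgx w hwM, hδw]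
    have h2 : apl δ (y * w * y⁻¹) = y * w⁻¹ * y⁻¹ := by
      rw [← hτx w hwM, hδτ w hwM, hδw, hτx _ hw']
    have h3 : br (g y) w⁻¹ = br y w⁻¹ := by
      rw [br, br, ← h1, h2]
    have hinvr : ∀ a ∈ P, br a w⁻¹ = (br a w)⁻¹ := fun a ha => by
      have := br_mul_right hct ha hf.w_mem (P.inv_mem hf.w_mem)
      rw [mul_inv_cancel, show br a 1 = 1 by simp [br]] at this
      exact eq_inv_of_mul_eq_one_right this.symm
    rw [hinvr _ hgy, hinvr _ hf.y_mem, inv_inj] at h3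
    rw [hgy', br_mul_left hct hc1.1 (P.pow_mem hf.y_mem i) hf.w_mem, hc1.2, one_mul,
      br_pow_left hct hf.y_mem hf.w_mem] at h3
    exact h3
  have hipow : (g y) ^ p = y ^ p := by
    obtain ⟨e, he⟩ : p ∣ p.choose 2 := (Fact.out : p.Prime).dvd_choose_self two_ne_zero
      (lt_of_le_of_ne (Fact.out : p.Prime).two_le (Ne.symm hp))
    rw [hgy', mul_pow_class_two hct hc1.1 (P.pow_mem hf.y_mem i) p, hf.exp _ hc1.1 hc1.2, one_mul, he,
      pow_mul (br _ _), pow_eq_one_of_card hs.card (hs.br_mem _ (P.pow_mem hf.y_mem i) _ hc1.1),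
      one_pow, mul_one]
    have hm : i ≡ 1 [MOD p] := by
      rw [← orderOf_eq_prime (pow_eq_one_of_card hs.card (hs.br_mem y hf.y_mem w hf.w_mem)) hf.br_ne,
        ← pow_eq_pow_iff_modEq, pow_one, hi1]
    rw [← pow_mul, mul_comm, pow_mul]
    have : (y ^ p) ^ i = (y ^ p) ^ 1 := by
      rw [pow_eq_pow_iff_modEq, orderOf_eq_prime (pow_eq_one_of_card hs.card (hs.pow_mem y hf.y_mem)) hy]
      exact hm
    rw [this, pow_one]
  obtain ⟨n, hn⟩ := exists_log hs.card hf.x_mem hf.x_ne (hs.pow_mem y hf.y_mem)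
  have hxn : x ^ n ∈ M := M.pow_mem hxM n
  have h1 : g (y ^ p) = y ^ p := by rw [hg.map_pow hyn, hipow]
  rw [← hn, hgx _ hxn, (iso_apl hMS hδF).1.map_pow hxM, hδx, inv_pow] at h1
  have h2 : (x ^ n) ^ 2 = 1 := by
    rw [pow_two]
    conv_lhs => arg 1; rw [← h1]
    exact inv_mul_cancel _
  have h3 := orderOf_dvd_of_pow_eq_one h2
  rw [hn, orderOf_eq_prime (pow_eq_one_of_card hs.card (hs.pow_mem y hf.y_mem)) hy] at h3
  exact hp ((Nat.prime_dvd_prime_iff_eq (Fact.out : p.Prime) Nat.prime_two).1 h3)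

/-- The exceptional shapes are the only obstruction to the centre being strongly closed. -/
theorem exception_or_closed (hS : IsPGroup p S) (hF : F.IsSaturated p) (hP : F.StronglyClosed P)
    (hs : Setting p S P Z) :
    F.StronglyClosed Z ∨ ∃ w y, ∃ x, Frame p P Z x w y ∧ y ^ p = 1 := by
  classical
  by_cases hsc : F.StronglyClosed Z
  · exact Or.inl hsc
  right
  rw [stronglyClosed_iff] at hsc
  push Not at hsc
  obtain ⟨R, f, hR, hf, x, hxR, hxw⟩ := hsc (hs.Zle.trans hs.le)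
  have hct := hs.classTwo
  haveI : Finite P := finite_of_le hP.1
  have hx : x ∈ Z := hR hxR
  have hx1 : x ≠ 1 := by
    rintro rfl
    exact hxw (by rw [hf.map_one]; exact Z.one_mem)
  set w := f x with hw
  have hwP : w ∈ P := (stronglyClosed_iff.1 hP).2 R f (hR.trans hs.Zle) hf x hxR
  have hmor : Mor F (Subgroup.zpowers x) f := hf.mono (Subgroup.zpowers_le.2 hxR)
  obtain ⟨W, hW⟩ := hmor.exists_iso
  have hwW : w ∈ W := hW.mem (Subgroup.mem_zpowers x)
  have hxS : Subgroup.zpowers x ≤ S := hmor.le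
  have hfn : F.IsFullyNormalized (Subgroup.zpowers x) := by
    refine ⟨hxS, fun Q _ => ?_⟩
    rw [show normalizerIn S (Subgroup.zpowers x) = S from le_antisymm inf_le_left fun s hs' => ⟨hs',
      Subgroup.centralizer_le_normalizer _ (Subgroup.mem_centralizer_iff.2 fun z hz => by
        obtain ⟨n, rfl⟩ := Subgroup.mem_zpowers_iff.1 hz
        exact ((hs.cent s hs' x hx).zpow_right n).eq.symm)⟩]
    exact Subgroup.card_le_of_le inf_le_left
  obtain ⟨f', hf', hf'f, -⟩ := hW.symm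
  obtain ⟨g, hg, hgf⟩ := (isReceptive_iff.1 (receptive_of_fullyNormalized hS hF hfn)).2 W f' hf'
  have hgw : g w = x := by rw [hgf w hwW, hw, hf'f x (Subgroup.mem_zpowers x)]
  have hdom : ∀ a ∈ P, br a w = 1 → a ∈ nPhi S W f' := by
    intro a ha haw
    refine centralizerIn_le_nPhi ⟨hs.le ha, Subgroup.mem_centralizer_iff.2 fun z hz => ?_⟩
    obtain ⟨u, hu, rfl⟩ := hW.exists_eq hz
    obtain ⟨n, hn⟩ := Subgroup.mem_zpowers_iff.1 hu
    obtain ⟨φ, hφ, hφf⟩ := hmor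
    have : f u = w ^ n := by
      rw [← hφf ⟨u, hu⟩, show (⟨u, hu⟩ : Subgroup.zpowers x) = ⟨x, Subgroup.mem_zpowers x⟩ ^ n from
        Subtype.ext (by simp [hn]), map_zpow, hφf ⟨x, Subgroup.mem_zpowers x⟩]
    rw [this]
    exact (Commute.zpow_right (br_eq_one.1 haw) n).eq.symm
  let MP : Subgroup Ω := P ⊓ nPhi S W f'
  have hgMP : ∀ a ∈ MP, g a ∈ P := fun a ha =>
    (stronglyClosed_iff.1 hP).2 MP g inf_le_left (hg.mono inf_le_right) a ha
  -- a nontrivial element of `Z` cannot map into `Z`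
  have hkill : ∀ u ∈ Z, u ≠ 1 → u ∈ MP → g u ∈ Z → False := by
    intro u hu hu1 hum hgu
    have hgu1 : g u ≠ 1 := fun h => hu1 (hg.injOn hum.2 (Subgroup.one_mem _) (h.trans hg.map_one.symm))
    obtain ⟨n, hn⟩ := exists_log hs.card hgu hgu1 hx
    have hwmem : w ∈ nPhi S W f' := hdom w hwP (by simp [br])
    rw [← hg.map_pow hum.2] at hn
    exact hxw (hg.injOn (Subgroup.pow_mem _ hum.2 n) hwmem (hn.trans hgw.symm) ▸ Z.pow_mem hu n)
  have hcomm : ∀ a ∈ P, ∀ b ∈ P, br a w = 1 → br b w = 1 → br a b = 1 := by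
    intro a ha b hb haw hbw
    have ha' : a ∈ MP := ⟨ha, hdom a ha haw⟩
    have hb' : b ∈ MP := ⟨hb, hdom b hb hbw⟩
    by_contra hne
    refine hkill _ (hs.br_mem a ha b hb) hne
      (MP.mul_mem (MP.mul_mem (MP.mul_mem ha' hb') (MP.inv_mem ha')) (MP.inv_mem hb')) ?_
    rw [br, hg.map_mul (Subgroup.mul_mem _ (Subgroup.mul_mem _ ha'.2 hb'.2) (Subgroup.inv_mem _ ha'.2))
        (Subgroup.inv_mem _ hb'.2), hg.map_mul (Subgroup.mul_mem _ ha'.2 hb'.2) (Subgroup.inv_mem _ ha'.2),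
      hg.map_mul ha'.2 hb'.2, hg.map_inv ha'.2, hg.map_inv hb'.2]
    exact hs.br_mem _ (hgMP a ha') _ (hgMP b hb')
  have hexp : ∀ a ∈ P, br a w = 1 → a ^ p = 1 := by
    intro a ha haw
    have ha' : a ∈ MP := ⟨ha, hdom a ha haw⟩
    by_contra hne
    refine hkill _ (hs.pow_mem a ha) hne (MP.pow_mem ha' p) ?_
    rw [hg.map_pow ha'.2]
    exact hs.pow_mem _ (hgMP a ha')
  obtain ⟨y, hy, hyw⟩ : ∃ y ∈ P, br y w ≠ 1 := by
    by_contra h
    push Not at h
    obtain ⟨a, ha, b, hb, hab⟩ := hs.nonab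
    exact hab (hcomm a ha b hb (h a ha) (h b hb))
  have hfr : Frame p P Z x w y := ⟨hx, hx1, hwP, hy, hyw, hcomm, hexp⟩
  by_cases hy1 : y ^ p = 1
  · exact ⟨w, y, x, hfr, hy1⟩
  by_cases hp : p = 2
  · subst hp
    have hyw' : br (y * w) w ≠ 1 := by
      rw [br_mul_left hct hy hwP hwP, show br w w = 1 by simp [br], mul_one]
      exact hyw
    refine ⟨w, y * w, x, ⟨hx, hx1, hwP, P.mul_mem hy hwP, hyw', hcomm, hexp⟩, ?_⟩
    rw [mul_pow_class_two hct hy hwP, hexp w hwP (by simp [br]), mul_one, Nat.choose_self, pow_one]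
    obtain ⟨n, hn⟩ := exists_log hs.card (hs.br_mem w hwP y hy)
      (fun h => hyw (by rw [← br_inv, h, inv_one])) (hs.pow_mem y hy)
    have hord : orderOf (br w y) = 2 := orderOf_eq_prime (pow_eq_one_of_card hs.card (hs.br_mem w hwP y hy))
      (fun h => hyw (by rw [← br_inv, h, inv_one]))
    have hn1 : n % 2 = 1 := by
      by_contra h
      refine hy1 ?_
      rw [← hn, ← pow_mod_orderOf, hord, show n % 2 = 0 by omega, pow_zero]
    rw [← hn, ← pow_mod_orderOf, hord, hn1, pow_one, ← pow_two]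
    exact pow_eq_one_of_card hs.card (hs.br_mem w hwP y hy)
  · exact (contra_of_exp hp hS hF hP hs hfr hmor rfl hy1).elim

theorem isNormal_of_closed (hS : IsPGroup p S) (hF : F.IsSaturated p) (hP : F.StronglyClosed P)
    (hs : Setting p S P Z) (hZ : F.StronglyClosed Z) : F.IsNormal P := by
  refine isNormal_of_series hS hF hP (C := fun i => if i = 0 then ⊥ else if i = 1 then Z else P)
    (monotone_nat_of_le_succ fun i => by
      rcases i with _ | _ | i
      · simp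
      · simpa using hs.Zle
      · simp) (n := 2) (by simp) (fun Q hc _ => ⟨fun α hα i hi a ha => ?_, ?_⟩) ?_
  · interval_cases i
    · simp only [if_true, Subgroup.mem_bot]
      refine ⟨fun h => ?_, fun h => ?_⟩
      · rw [← apl_inv_apl α ha, h, apl_apply _ Q.one_mem]
        exact congrArg Subtype.val (map_one (α⁻¹ : MulAut Q))
      · rw [h, apl_apply _ Q.one_mem]
        exact congrArg Subtype.val (map_one (α : MulAut Q))
    · simpa using apl_invariant_of_stronglyClosed hZ hc.1 hα ha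
    · simpa using apl_invariant_of_stronglyClosed hP hc.1 hα ha
  · intro δ _ _ a ha h0
    simp only [if_true, Subgroup.mem_bot] at h0
    rw [h0, apl_apply _ Q.one_mem]
    exact congrArg Subtype.val (map_one (δ : MulAut Q))
  · intro i hi a ha b hb
    interval_cases i
    · simp only [zero_add, one_ne_zero, if_false, if_true] at hb ⊢
      rw [Subgroup.mem_bot, inv_mul_eq_one, eq_comm, mul_inv_eq_iff_eq_mul]
      exact (hs.cent a (hs.le ha) b hb).eq
    · simp only [show (1 : ℕ) + 1 = 2 from rfl, show (2 : ℕ) ≠ 0 from two_ne_zero,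
        show (2 : ℕ) ≠ 1 by omega, if_false, one_ne_zero, if_true] at hb ⊢
      rw [show b⁻¹ * (a * b * a⁻¹) = br b⁻¹ a by rw [br]; group]
      exact hs.br_mem _ (P.inv_mem hb) a ha

end Cfsg.Agent.FusSys.StrongExtra
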