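import Cfsg.Agent.FusSys.SuperExamples
import Mathlib.GroupTheory.SpecificGroups.Quaternion

/-!
Supersoluble fusion systems over metacyclic groups: the characterisation.
-/

set_option autoImplicit false

open Subgroup

namespace Cfsg.Agent.FusSys.SuperFinal

open Cfsg Cfsg.FusionSystem Cfsg.Agent.FusSys Cfsg.Agent.FusSys.SuperExamples
open scoped MatrixGroups

universe u

theorem quat_involution {N : ℕ} [NeZero N] {x : QuaternionGroup N} (h : orderOf x = 2) :
    x = QuaternionGroup.a (N : ZMod (2 * N)) := by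
  rcases x with i | i
  · have h2 : (QuaternionGroup.a 1 : QuaternionGroup N) ^ (2 * i.val) = 1 := by
      rw [show 2 * i.val = i.val * 2 from mul_comm _ _, pow_mul, QuaternionGroup.a_one_pow, ZMod.natCast_zmod_val]
      rw [← h]
      exact pow_orderOf_eq_one _
    rw [← orderOf_dvd_iff_pow_eq_one, QuaternionGroup.orderOf_a_one, Nat.mul_dvd_mul_iff_left two_pos] at h2
    obtain ⟨t, ht⟩ := h2
    have hlt : i.val < 2 * N := i.val_lt
    have hN : 0 < N := NeZero.pos N
    rcases t with _ | _ | t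
    · exfalso
      rw [mul_zero, ZMod.val_eq_zero] at ht
      rw [ht, show (QuaternionGroup.a 0 : QuaternionGroup N) = 1 from rfl, orderOf_one] at h
      omega
    · congr 1
      rw [← ZMod.natCast_zmod_val i, ht]
      simp
    · exfalso
      rw [ht] at hlt
      nlinarith
  · rw [QuaternionGroup.orderOf_xa] at h
    omega

section Data

variable {q : ℕ} [Fact q.Prime]

theorem card_sl (k : ℕ) {u : ℕ} (h : q * (q ^ 2 - 1) = 2 ^ (k + 1) * u) :
    Nat.card (SL(2, ZMod q)) = 2 ^ (k + 1) * u := by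
  rw [Classical.card_sl2, ZMod.card, h]

theorem sylow_sl (hq : q ≠ 2) (k : ℕ) (hk : 2 ≤ k) {u : ℕ} (hu : Odd u) (h : q * (q ^ 2 - 1) = 2 ^ (k + 1) * u)
    (T : Sylow 2 (SL(2, ZMod q))) :
    Nonempty ((T : Subgroup (SL(2, ZMod q))) ≃* QuaternionGroup (2 ^ (k - 1))) := by
  obtain ⟨j, -, ⟨e⟩⟩ := Classical.sylow_two_sl2 (by
    rw [ZMod.card]; exact (Fact.out : q.Prime).odd_of_ne_two hq) T
  have h1 := card_sylow_two T hu (card_sl k h)
  rw [Nat.card_congr e.toEquiv, Nat.card_eq_fintype_card, QuaternionGroup.card, show 4 * 2 ^ j = 2 ^ (j + 2) by ring] at h1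
  have := Nat.pow_right_injective le_rfl h1
  rw [show j = k - 1 by omega] at e
  exact ⟨e⟩

theorem sylow_quot (hq : q ≠ 2) (k : ℕ) (hk : 2 ≤ k) {u : ℕ} (hu : Odd u)
    (h : q * (q ^ 2 - 1) = 2 ^ (k + 1) * u) (z : SL(2, ZMod q)) (hz : orderOf z = 2) [(zpowers z).Normal]
    (T : Sylow 2 (SL(2, ZMod q) ⧸ zpowers z)) :
    Nonempty ((T : Subgroup (SL(2, ZMod q) ⧸ zpowers z)) ≃* DihedralGroup (2 ^ (k - 1))) := by
  haveI : Fact (Nat.Prime 2) := ⟨Nat.prime_two⟩
  have hπs : Function.Surjective (QuotientGroup.mk' (zpowers z)) := QuotientGroup.mk'_surjective _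
  -- every Sylow subgroup of the quotient is the image of one of `SL`
  obtain ⟨T₀, hT₀⟩ := Sylow.mapSurjective_surjective hπs 2 T
  subst hT₀
  obtain ⟨e⟩ := sylow_sl hq k hk hu h T₀
  set N := 2 ^ (k - 1) with hN
  haveI : NeZero N := ⟨(Nat.two_pow_pos _).ne'⟩
  set U := (T₀ : Subgroup (SL(2, ZMod q))).map (QuotientGroup.mk' (zpowers z)) with hUdef
  show Nonempty (U ≃* DihedralGroup N)
  have hzT : z ∈ (T₀ : Subgroup (SL(2, ZMod q))) := by
    have hzp : IsPGroup 2 (zpowers z) := IsPGroup.of_card (n := 1) (by rw [Nat.card_zpowers, hz, pow_one])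
    exact (T₀.3 (T₀.2.to_sup_of_normal_right hzp) le_sup_left) ▸ mem_sup_right (mem_zpowers z)
  let f : QuaternionGroup N →* U :=
    ((QuotientGroup.mk' (zpowers z)).subgroupMap _).comp e.symm.toMonoidHom
  have hfs : Function.Surjective f := ((QuotientGroup.mk' (zpowers z)).subgroupMap_surjective _).comp e.symm.surjective
  have hzN : e ⟨z, hzT⟩ = QuaternionGroup.a (N : ZMod (2 * N)) := quat_involution (by
    rw [MulEquiv.orderOf_eq, ← Subgroup.orderOf_coe]; exact hz)
  have hz2 : z ^ (2 : ℤ) = 1 := by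
    have h2 := pow_orderOf_eq_one z
    rw [hz] at h2
    exact_mod_cast h2
  have hker : ∀ x, f x = 1 ↔ x = 1 ∨ x = QuaternionGroup.a (N : ZMod (2 * N)) := by
    intro x
    rw [← Subtype.coe_inj]
    show QuotientGroup.mk' (zpowers z) ((e.symm x : (T₀ : Subgroup (SL(2, ZMod q)))) : SL(2, ZMod q)) = 1 ↔ _
    rw [QuotientGroup.mk'_apply, QuotientGroup.eq_one_iff, ← hzN, mem_zpowers_iff]
    constructor
    · rintro ⟨i, hi⟩
      rcases Int.even_or_odd i with ⟨l, rfl⟩ | ⟨l, rfl⟩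
      · left
        rw [← two_mul, zpow_mul, hz2,
          one_zpow] at hi
        exact e.symm.injective (by rw [map_one]; exact Subtype.ext hi.symm)
      · right
        rw [zpow_add, zpow_mul, hz2,
          one_zpow, one_mul, zpow_one] at hi
        exact (MulEquiv.symm_apply_eq e).1 (Subtype.ext hi.symm)
    · rintro (rfl | rfl)
      · exact ⟨0, by rw [zpow_zero, map_one]; rfl⟩
      · exact ⟨1, by rw [zpow_one, MulEquiv.symm_apply_apply]⟩
  set A := f (QuaternionGroup.a 1)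
  set g := f (QuaternionGroup.xa 0)
  have hApow : ∀ m : ℕ, A ^ m = f (QuaternionGroup.a (m : ZMod (2 * N))) := fun m => by
    rw [← map_pow, QuaternionGroup.a_one_pow]
  have hAN : A ^ N = 1 := by rw [hApow, hker]; exact Or.inr rfl
  have hA : orderOf A = N := by
    refine (orderOf_eq_iff (NeZero.pos N)).2 ⟨hAN, fun m hm hm0 hm1 => ?_⟩
    rw [hApow, hker] at hm1
    rcases hm1 with h1 | h1
    · rw [show (1 : QuaternionGroup N) = QuaternionGroup.a ((0 : ℕ) : ZMod (2 * N)) by rw [Nat.cast_zero]; rfl] at h1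
      have h2 := congrArg ZMod.val (QuaternionGroup.a.inj h1)
      rw [ZMod.val_natCast, ZMod.val_natCast, Nat.mod_eq_of_lt (by omega), Nat.mod_eq_of_lt (by omega)] at h2
      omega
    · have h2 := congrArg ZMod.val (QuaternionGroup.a.inj h1)
      rw [ZMod.val_natCast, ZMod.val_natCast, Nat.mod_eq_of_lt (by omega), Nat.mod_eq_of_lt (by omega)] at h2
      omega
  refine MaxClass.nonempty_mulEquiv_dihedral N hA (g := g) ?_ ?_ ?_ ?_
  · rw [← map_mul, hker]
    right
    simp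
  · rw [← map_inv, ← map_mul, ← map_mul, ← map_inv]
    congr 1
    rw [mul_inv_eq_iff_eq_mul, show (QuaternionGroup.a (1 : ZMod (2 * N)))⁻¹ = QuaternionGroup.a (-1) from rfl]
    simp
  · intro hg
    obtain ⟨l, hl⟩ := (mem_powers_iff_mem_zpowers.2 hg : g ∈ Submonoid.powers A)
    change A ^ l = g at hl
    rw [hApow, ← mul_inv_eq_one, ← map_inv, ← map_mul, hker] at hl
    rcases hl with h1 | h1
    · exact absurd (mul_inv_eq_one.1 h1) (by simp)
    · rw [mul_inv_eq_iff_eq_mul] at h1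
      simp at h1
  · intro v
    obtain ⟨x, rfl⟩ := hfs v
    rcases x with i | i
    · left
      rw [← ZMod.natCast_zmod_val i, ← hApow]
      exact npow_mem_zpowers _ _
    · right
      rw [← map_inv, ← map_mul,
        show (QuaternionGroup.xa (0 : ZMod (2 * N)))⁻¹ * QuaternionGroup.xa i = QuaternionGroup.a i by
          rw [inv_mul_eq_iff_eq_mul]; simp,
        ← ZMod.natCast_zmod_val i, ← hApow]
      exact npow_mem_zpowers _ _

end Data

variable {Ω : Type u} [Group Ω] {S : Subgroup Ω} [Finite S]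

/-- Supersoluble: a chain of strongly closed subgroups with cyclic steps. -/
def Super (F : FusionSystem S) : Prop :=
  ∃ (m : ℕ) (c : Fin (m + 1) → Subgroup Ω), c 0 = ⊥ ∧ c (Fin.last m) = S ∧
    (∀ i : Fin (m + 1), F.StronglyClosed (c i)) ∧
    ∀ i : Fin m, c i.castSucc ≤ c i.succ ∧ ∃ x ∈ S, c i.succ = c i.castSucc ⊔ Subgroup.zpowers x

theorem bad_dihedral (hS : IsPGroup 2 S) (hm : Cfsg.IsMetacyclic S) {n : ℕ} (hn : 2 ≤ n)
    (e : S ≃* DihedralGroup n) : ∃ F : FusionSystem S, F.IsSaturated 2 ∧ ¬ Super F := by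
  haveI : Fact (Nat.Prime 2) := ⟨Nat.prime_two⟩
  obtain ⟨j, hj⟩ := IsPGroup.iff_card.1 hS
  rw [Nat.card_congr e.toEquiv, DihedralGroup.nat_card] at hj
  have hj2 : 2 ≤ j := by
    by_contra hlt
    have := Nat.pow_le_pow_right two_pos (show j ≤ 1 by omega)
    omega
  have hn2 : n = 2 ^ (j - 1) := by
    rw [show j = (j - 1) + 1 by omega, pow_succ] at hj
    omega
  obtain ⟨q, hq, hq4, u, v, hu, -, hcard, -⟩ := exists_prime_k j hj2
  haveI : Fact q.Prime := ⟨hq⟩
  have hq2 : q ≠ 2 := by omega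
  have h2 : (2 : ZMod q) ≠ 0 := fun h => by
    have h' : ((2 : ℕ) : ZMod q) = 0 := by exact_mod_cast h
    rw [ZMod.natCast_eq_zero_iff] at h'
    exact hq2 ((Nat.prime_dvd_prime_iff_eq hq Nat.prime_two).1 h')
  obtain ⟨i, -, -, -, -, -, -, -, -, hz1, hz2, hcen⟩ := exists_data h2
  have hz : orderOf (i * i) = 2 := orderOf_eq_prime (by rw [pow_two]; exact hz2) hz1
  have hzc : zpowers (i * i) ≤ Subgroup.center _ := zpowers_le.2 (mem_center_iff.2 hcen)
  haveI : (zpowers (i * i)).Normal := ⟨fun x hx g => by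
    rw [mem_center_iff.1 (hzc hx) g, mul_inv_cancel_right]; exact hx⟩
  refine exists_bad_image hS hm hq2 (QuotientGroup.mk' (zpowers (i * i)))
    (fun x hx g => mem_center_iff.1 (hzc ((QuotientGroup.eq_one_iff x).1 hx)) g) fun T => ?_
  obtain ⟨eT⟩ := sylow_quot hq2 j hj2 hu hcard (i * i) hz T
  subst hn2
  exact ⟨e.trans eT.symm⟩

theorem bad_quaternion (hS : IsPGroup 2 S) (hm : Cfsg.IsMetacyclic S) {n : ℕ} (hn : 2 ≤ n)
    (e : S ≃* QuaternionGroup n) : ∃ F : FusionSystem S, F.IsSaturated 2 ∧ ¬ Super F := by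
  haveI : Fact (Nat.Prime 2) := ⟨Nat.prime_two⟩
  haveI : NeZero n := ⟨by omega⟩
  obtain ⟨j, hj⟩ := IsPGroup.iff_card.1 hS
  rw [Nat.card_congr e.toEquiv, Nat.card_eq_fintype_card, QuaternionGroup.card] at hj
  have hj3 : 3 ≤ j := by
    by_contra hlt
    have := Nat.pow_le_pow_right two_pos (show j ≤ 2 by omega)
    omega
  have hn2 : n = 2 ^ (j - 1 - 1) := by
    rw [show j = (j - 1 - 1) + 2 by omega, pow_add] at hj
    omega
  obtain ⟨q, hq, hq4, u, v, hu, -, hcard, -⟩ := exists_prime_k (j - 1) (by omega)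
  haveI : Fact q.Prime := ⟨hq⟩
  have hq2 : q ≠ 2 := by omega
  refine exists_bad_image hS hm hq2 (MonoidHom.id _) (fun x hx g => by
    rw [MonoidHom.id_apply] at hx; rw [hx, mul_one, one_mul]) fun T => ?_
  obtain ⟨eT⟩ := sylow_sl hq2 (j - 1) (by omega) hu hcard T
  subst hn2
  exact ⟨e.trans eT.symm⟩

theorem bad_semidihedral (hS : IsPGroup 2 S) (hm : Cfsg.IsMetacyclic S)
    (hsd : Cfsg.IsQuasiDihedral S) : ∃ F : FusionSystem S, F.IsSaturated 2 ∧ ¬ Super F := by
  haveI : Fact (Nat.Prime 2) := ⟨Nat.prime_two⟩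
  have hsd' := hsd
  obtain ⟨n, hn, hc, -⟩ := hsd'
  obtain ⟨q, hq, hq4, u, v, -, hv, -, hcard⟩ := exists_prime_k (n - 1) (by omega)
  haveI : Fact q.Prime := ⟨hq⟩
  have hq2 : q ≠ 2 := by omega
  refine exists_bad_image hS hm hq2 (G := GL (Fin 2) (ZMod q))
    (Matrix.SpecialLinearGroup.toGL : SL(2, ZMod q) →* GL (Fin 2) (ZMod q)) (fun x hx g => ?_) fun T => ?_
  · have hx1 : x = 1 := Matrix.SpecialLinearGroup.toGL_injective (hx.trans (map_one _).symm)
    rw [hx1, mul_one, one_mul]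
  · refine qd_iso hsd ((S1217.result T).1 (by rw [ZMod.card]; exact hq4)) ?_
    rw [hc, card_sylow_two T (i := n + 1) (a := v) hv]
    rw [Classical.card_gl_eq_mul_card_sl, Classical.card_sl2, ZMod.card, hcard]
    congr 2
    omega

/-- The characterisation. -/
theorem supersoluble_iff (p : ℕ) [Fact p.Prime] (hS : IsPGroup p S) (hm : Cfsg.IsMetacyclic S) :
    (∀ F : FusionSystem S, F.IsSaturated p → Super F) ↔
      ¬ ((∃ n : ℕ, 0 < n ∧ Nonempty (S ≃* Multiplicative (ZMod (p ^ n)) × Multiplicative (ZMod (p ^ n)))) ∨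
        (p = 2 ∧ ((∃ n : ℕ, 2 ≤ n ∧ Nonempty (S ≃* DihedralGroup n)) ∨ Cfsg.IsQuasiDihedral S ∨
          (∃ n : ℕ, 2 ≤ n ∧ Nonempty (S ≃* QuaternionGroup n))))) := by
  constructor
  · rintro h (⟨n, hn, ⟨e⟩⟩ | ⟨rfl, hbad⟩)
    · let e' := e.trans (MulEquiv.prodMultiplicative (ZMod (p ^ n)) (ZMod (p ^ n))).symm
      by_cases hp2 : p = 2
      · subst hp2
        obtain ⟨F, hF, hbad⟩ := exists_bad_homo_two hS hm hn e'
        exact hbad (h F hF)
      · obtain ⟨F, hF, hbad⟩ := exists_bad_homo_odd hp2 hS hn e'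
        exact hbad (h F hF)
    · rcases hbad with ⟨n, hn, ⟨e⟩⟩ | hsd | ⟨n, hn, ⟨e⟩⟩
      · obtain ⟨F, hF, hbad⟩ := bad_dihedral hS hm hn e
        exact hbad (h F hF)
      · obtain ⟨F, hF, hbad⟩ := bad_semidihedral hS hm hsd
        exact hbad (h F hF)
      · obtain ⟨F, hF, hbad⟩ := bad_quaternion hS hm hn e
        exact hbad (h F hF)
  · intro hnot F hF
    by_cases hc : IsCyclic S
    · exact (SuperMeta.ss_of_cyclic F hc).chain
    have hh : ∀ n : ℕ, 0 < n → ¬ Nonempty (S ≃* Multiplicative (ZMod (p ^ n)) × Multiplicative (ZMod (p ^ n))) :=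
      fun n hn h => hnot (Or.inl ⟨n, hn, h⟩)
    by_cases hp2 : p = 2
    · subst hp2
      have hd : ¬ ∃ m : ℕ, Nonempty (S ≃* DihedralGroup m) := by
        rintro ⟨m, ⟨e⟩⟩
        rcases Nat.lt_or_ge m 2 with hlt | hge
        · rcases Nat.le_one_iff_eq_zero_or_eq_one.1 (show m ≤ 1 by omega) with rfl | rfl
          · haveI : Finite (DihedralGroup 0) := Finite.of_equiv _ e.toEquiv
            exact absurd (Nat.card_pos (α := DihedralGroup 0)) (by rw [DihedralGroup.nat_card]; norm_num)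
          · exact hc (isCyclic_of_prime_card (p := 2) (by
              rw [Nat.card_congr e.toEquiv, DihedralGroup.nat_card, mul_one]))
        · exact hnot (Or.inr ⟨rfl, Or.inl ⟨m, hge, ⟨e⟩⟩⟩)
      have hq : ¬ ∃ m : ℕ, Nonempty (S ≃* QuaternionGroup m) := by
        rintro ⟨m, ⟨e⟩⟩
        rcases Nat.lt_or_ge m 2 with hlt | hge
        · rcases Nat.le_one_iff_eq_zero_or_eq_one.1 (show m ≤ 1 by omega) with rfl | rfl
          · haveI : Finite (QuaternionGroup 0) := Finite.of_equiv _ e.toEquiv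
            exact absurd (show Finite (QuaternionGroup 0) from inferInstance) fun h => by
              have hinj : Function.Injective (fun i : ZMod (2 * 0) => QuaternionGroup.a (n := 0) i) :=
                fun i j hij => QuaternionGroup.a.inj hij
              haveI : Finite ℤ := (Finite.of_injective _ hinj : Finite (ZMod (2 * 0)))
              exact not_finite ℤ
          · haveI := QuaternionGroup.quaternionGroup_one_isCyclic
            exact hc (isCyclic_of_surjective e.symm.toMonoidHom e.symm.surjective)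
        · exact hnot (Or.inr ⟨rfl, Or.inr (Or.inr ⟨m, hge, ⟨e⟩⟩)⟩)
      have hsd : ¬ Cfsg.IsQuasiDihedral S := fun h => hnot (Or.inr ⟨rfl, Or.inr (Or.inl h)⟩)
      rw [StrongTwo.eq_inner_of_metacyclic' hS hF hm (fun n hn ⟨e⟩ => hh n hn
        ⟨e.trans ((AddEquiv.toMultiplicative (LinearEquiv.finTwoArrow ℤ (ZMod (2 ^ n))).toAddEquiv).trans
          (MulEquiv.prodMultiplicative _ _))⟩) hd hq hsd]
      exact (SuperMeta.ss_of_inner hm).chain
    · exact (SuperMeta.ss_odd hp2 hS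
        (StrongMeta.isNormal_of_metacyclic hp2 hS hF (SuperMeta.stronglyClosed_self F) hm) hm hc hh).chain

end Cfsg.Agent.FusSys.SuperFinal
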