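import Cfsg.Agent.FusSys.Series
import Cfsg.Agent.FusSys.Realized
import Cfsg.Agent.FusSys.Inner
import Cfsg.Agent.FusSys.AbelianAut
import Mathlib.GroupTheory.SchurZassenhaus
import Mathlib.GroupTheory.SemidirectProduct
import Mathlib.FieldTheory.Finite.Basic

/-!
Supersoluble saturated systems: chains of strongly closed subgroups with cyclic steps.
-/

set_option autoImplicit false

namespace Cfsg.Agent.FusSys

open Cfsg Cfsg.FusionSystem
open scoped commutatorElement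

universe u

variable {Ω : Type u} [Group Ω] {S : Subgroup Ω}
variable {F : FusionSystem S} {A B : Subgroup Ω} {p : ℕ}

/-- There is a chain from `⊥` to `S` of strongly closed subgroups with cyclic steps. -/
def HasCycSeries (F : FusionSystem S) : Prop :=
  ∃ (m : ℕ) (c : Fin (m + 1) → Subgroup Ω), c 0 = ⊥ ∧ c (Fin.last m) = S ∧
    (∀ i : Fin (m + 1), F.StronglyClosed (c i)) ∧
    ∀ i : Fin m, c i.castSucc ≤ c i.succ ∧ ∃ x ∈ S, c i.succ = c i.castSucc ⊔ Subgroup.zpowers x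

theorem mul_pow_div_mem {a y : Ω} (ha : a ∈ A) (hy : y ∈ Subgroup.normalizer (A : Set Ω)) :
    ∀ n : ℕ, (a * y) ^ n * (y ^ n)⁻¹ ∈ A
  | 0 => by simp
  | n + 1 => by
    have e : (a * y) ^ (n + 1) * (y ^ (n + 1))⁻¹ =
        (a * y) ^ n * (y ^ n)⁻¹ * (y ^ n * a * (y ^ n)⁻¹) := by
      rw [pow_succ, pow_succ]; group
    rw [e]
    exact A.mul_mem (mul_pow_div_mem ha hy n)
      ((Subgroup.mem_normalizer_iff.1 (Subgroup.pow_mem _ hy n) a).1 ha)

theorem mul_pow_mem_iff {a y : Ω} (ha : a ∈ A) (hy : y ∈ Subgroup.normalizer (A : Set Ω)) (n : ℕ) :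
    (a * y) ^ n ∈ A ↔ y ^ n ∈ A := by
  have h := mul_pow_div_mem ha hy n
  constructor <;> intro h'
  · simpa [mul_assoc] using A.mul_mem (A.inv_mem h) h'
  · simpa [mul_assoc] using A.mul_mem h h'

theorem exists_mem_sup_pow [Finite S] (hA : F.StronglyClosed A) {x : Ω} (hx : x ∈ S) {u : Ω}
    (hu : u ∈ A ⊔ Subgroup.zpowers x) : ∃ a ∈ A, ∃ t : ℕ, u = a * x ^ t := by
  have hle : Subgroup.zpowers x ≤ Subgroup.normalizer (A : Set Ω) :=
    Subgroup.zpowers_le.2 (StronglyClosed.le_normalizer hA hx)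
  rw [← SetLike.mem_coe, Subgroup.coe_mul_of_right_le_normalizer_left _ _ hle] at hu
  obtain ⟨a, ha, y, hy, rfl⟩ := hu
  obtain ⟨k, rfl⟩ : ∃ k : ℕ, x ^ k = y :=
    (Submonoid.mem_powers_iff _ _).1
      ((Submonoid.isOfFinOrder_coe.2 (isOfFinOrder_of_finite (⟨x, hx⟩ : S))).mem_powers_iff_mem_zpowers.2 hy)
  exact ⟨a, ha, k, rfl⟩

/-- A step of order at most `p` in a central series of strongly closed subgroups. -/
def CycStep (F : FusionSystem S) (p : ℕ) (A B : Subgroup Ω) : Prop :=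
  F.StronglyClosed B ∧ A ≤ B ∧
    ∃ w ∈ S, w ^ p ∈ A ∧ B = A ⊔ Subgroup.zpowers w ∧ ⁅S, B⁆ ≤ A

/-- Reachable from `⊥` by such steps. -/
inductive Reach (F : FusionSystem S) (p : ℕ) : Subgroup Ω → Prop
  | bot : Reach F p ⊥
  | step {A B : Subgroup Ω} : Reach F p A → CycStep F p A B → Reach F p B

theorem Reach.stronglyClosed (h : Reach F p A) : F.StronglyClosed A := by
  cases h with
  | bot => exact stronglyClosed_of_isNormal isNormal_bot
  | step _ hs => exact hs.1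

theorem Reach.chain (h : Reach F p A) : ∃ n, ∃ C : ℕ → Subgroup Ω, C 0 = ⊥ ∧ C n = A ∧
    Monotone C ∧ ∀ i < n, CycStep F p (C i) (C (i + 1)) := by
  induction h with
  | bot => exact ⟨0, fun _ => ⊥, rfl, rfl, monotone_const, fun i hi => absurd hi (Nat.not_lt_zero i)⟩
  | @step A B _ hs ih =>
    obtain ⟨n, C, h0, hn, hmono, hC⟩ := ih
    refine ⟨n + 1, fun i => if i ≤ n then C i else B, by simp [h0], by simp, ?_, ?_⟩
    · refine monotone_nat_of_le_succ fun i => ?_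
      by_cases h1 : i + 1 ≤ n
      · simp only [h1, (Nat.le_succ i).trans h1, if_true]
        exact hmono (Nat.le_succ i)
      · by_cases h2 : i ≤ n
        · simp only [h1, h2, if_true, if_false]
          exact (hmono h2).trans (hn ▸ hs.2.1)
        · simp only [h1, h2, if_false, le_refl]
    · intro i hi
      by_cases h1 : i + 1 ≤ n
      · simp only [h1, (Nat.le_succ i).trans h1, if_true]
        exact hC i h1
      · obtain rfl : i = n := by omega
        simp only [h1, le_refl, if_true, if_false, hn]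
        exact hs

section PGroup

variable [Fact p.Prime] [Finite S] (hS : IsPGroup p S)
include hS

/-- The element `x ^ (p ^ k)` of order `p` modulo `A` spans a step. -/
theorem exists_first_step (hA : F.StronglyClosed A) (hB : F.StronglyClosed B) {x : Ω} (hx : x ∈ S)
    (hAB : B = A ⊔ Subgroup.zpowers x) {k : ℕ} (hk : x ^ p ^ (k + 1) ∈ A)
    (hk' : x ^ p ^ k ∉ A) : CycStep F p A (A ⊔ Subgroup.zpowers (x ^ p ^ k)) := by
  have hp : p.Prime := Fact.out
  obtain ⟨w, hw⟩ : ∃ w, w = x ^ p ^ k := ⟨_, rfl⟩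
  rw [← hw] at hk' ⊢
  have hwS : w ∈ S := hw ▸ S.pow_mem hx _
  have hN : S ≤ Subgroup.normalizer (A : Set Ω) := StronglyClosed.le_normalizer hA
  have hwp : w ^ p ∈ A := by rw [hw, ← pow_mul, ← pow_succ]; exact hk
  have hle : A ⊔ Subgroup.zpowers w ≤ B := by
    rw [hAB, sup_le_iff, Subgroup.zpowers_le]
    exact ⟨le_sup_left, hw ▸ Subgroup.pow_mem _ (Subgroup.mem_sup_right (Subgroup.mem_zpowers x)) _⟩
  -- membership by powers
  have hpow : ∀ u ∈ A ⊔ Subgroup.zpowers w, u ^ p ∈ A := by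
    intro u hu
    obtain ⟨a, ha, t, rfl⟩ := exists_mem_sup_pow hA hwS hu
    rw [mul_pow_mem_iff ha (hN (S.pow_mem hwS t)), ← pow_mul, mul_comm, pow_mul]
    exact A.pow_mem hwp t
  have hdvd : ∀ t : ℕ, x ^ t ∈ A → p ^ (k + 1) ∣ t := by
    intro t ht
    have hg : x ^ Nat.gcd t (p ^ (k + 1)) ∈ A := by
      rw [← zpow_natCast, Nat.gcd_eq_gcd_ab, zpow_add, zpow_mul, zpow_mul, zpow_natCast,
        zpow_natCast]
      exact A.mul_mem (A.zpow_mem ht _) (A.zpow_mem hk _)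
    obtain ⟨j, hj, hgj⟩ := (Nat.dvd_prime_pow hp).1 (Nat.gcd_dvd_right t (p ^ (k + 1)))
    rcases hj.lt_or_eq with hjk | rfl
    · obtain ⟨d, hd⟩ := pow_dvd_pow p (Nat.le_of_lt_succ hjk)
      exact absurd (by rw [hgj] at hg; rw [hw, hd, pow_mul]; exact A.pow_mem hg d) hk'
    · exact hgj ▸ Nat.gcd_dvd_left t _
  have hchar : ∀ u ∈ B, u ^ p ∈ A → u ∈ A ⊔ Subgroup.zpowers w := by
    intro u hu hup
    obtain ⟨a, ha, t, rfl⟩ := exists_mem_sup_pow hA hx (hAB ▸ hu)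
    rw [mul_pow_mem_iff ha (hN (S.pow_mem hx t)), ← pow_mul] at hup
    have h1 := hdvd _ hup
    rw [pow_succ, Nat.mul_dvd_mul_iff_right hp.pos] at h1
    obtain ⟨d, rfl⟩ := h1
    rw [pow_mul, ← hw]
    exact Subgroup.mul_mem _ (Subgroup.mem_sup_left ha)
      (Subgroup.pow_mem _ (Subgroup.mem_sup_right (Subgroup.mem_zpowers w)) d)
  have hcl : F.StronglyClosed (A ⊔ Subgroup.zpowers w) := by
    refine stronglyClosed_iff.2 ⟨sup_le hA.1 (Subgroup.zpowers_le.2 hwS), fun R f hR hf z hz => ?_⟩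
    refine hchar _ (StronglyClosed.mor_mem hB hf hz (hle (hR hz))) ?_
    obtain ⟨φ, hφ, hφf⟩ := hf
    have h2 : f (z ^ p) = (f z) ^ p := by
      rw [← hφf ⟨z, hz⟩, ← map_pow, hφf]
      rfl
    rw [← h2]
    exact StronglyClosed.mor_mem hA ⟨φ, hφ, hφf⟩ (R.pow_mem hz p) (hpow z (hR hz))
  refine ⟨hcl, le_sup_left, w, hwS, hwp, rfl, Subgroup.commutator_le.2 fun s hs u hu => ?_⟩
  -- `S` centralizes the step
  have hwconj : s * w * s⁻¹ * w⁻¹ ∈ A := by
    obtain ⟨a, ha, t, ht⟩ := exists_mem_sup_pow hA hwS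
      (isStronglyClosed_normal hcl hs (Subgroup.mem_sup_right (Subgroup.mem_zpowers w)))
    have hit : ∀ m : ℕ, s ^ m * w * (s ^ m)⁻¹ * (w ^ t ^ m)⁻¹ ∈ A := by
      intro m
      induction m with
      | zero => simp
      | succ m ih =>
        have h1 : s * (s ^ m * w * (s ^ m)⁻¹ * (w ^ t ^ m)⁻¹) * s⁻¹ ∈ A :=
          isStronglyClosed_normal hA hs ih
        have h2 : (s * w * s⁻¹) ^ t ^ m * ((w ^ t) ^ t ^ m)⁻¹ ∈ A := by
          rw [ht]
          exact mul_pow_div_mem ha (hN (S.pow_mem hwS t)) _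
        have e : s ^ (m + 1) * w * (s ^ (m + 1))⁻¹ * (w ^ t ^ (m + 1))⁻¹ =
            s * (s ^ m * w * (s ^ m)⁻¹ * (w ^ t ^ m)⁻¹) * s⁻¹ *
              ((s * w * s⁻¹) ^ t ^ m * ((w ^ t) ^ t ^ m)⁻¹) := by
          rw [conj_pow, pow_succ' s, ← pow_mul, ← pow_succ']; group
        rw [e]
        exact A.mul_mem h1 h2
    obtain ⟨m, hm⟩ := hS ⟨s, hs⟩
    have hm' : s ^ p ^ m = 1 := congrArg Subtype.val hm
    have h1 := hit (p ^ m)
    rw [hm', one_mul, inv_one, mul_one] at h1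
    -- `t ≡ 1 (mod p)`
    have key : ∀ i j : ℕ, w ^ i * (w ^ j)⁻¹ ∈ A → (i : ZMod p) = (j : ZMod p) := by
      intro i j hij
      by_contra hne
      have h4 : w ^ ((i : ℤ) - j) ∈ A := by rw [zpow_sub, zpow_natCast, zpow_natCast]; exact hij
      have hcop : IsCoprime ((i : ℤ) - j) (p : ℤ) := by
        refine ((Nat.prime_iff_prime_int.1 hp).coprime_iff_not_dvd.2 fun hd => hne ?_).symm
        have := (ZMod.intCast_zmod_eq_zero_iff_dvd _ p).2 hd
        push_cast at this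
        exact sub_eq_zero.1 this
      obtain ⟨α, β, hαβ⟩ := hcop
      refine hk' ?_
      rw [← zpow_one w, ← hαβ, zpow_add, mul_comm α, mul_comm β, zpow_mul, zpow_mul, zpow_natCast]
      exact A.mul_mem (A.zpow_mem h4 _) (A.zpow_mem hwp _)
    have ht1 : (t : ZMod p) = 1 := by
      have h5 := key 1 (t ^ p ^ m) (by rwa [pow_one])
      rw [Nat.cast_one, Nat.cast_pow, ZMod.pow_card_pow] at h5
      exact h5.symm
    rw [ht, mul_assoc]
    refine A.mul_mem ha ?_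
    have h6 : (p : ℤ) ∣ (t : ℤ) - 1 := by
      rw [← ZMod.intCast_zmod_eq_zero_iff_dvd]
      push_cast
      rw [ht1, sub_self]
    obtain ⟨d, hd⟩ := h6
    rw [show w ^ t * w⁻¹ = w ^ ((t : ℤ) - 1) by rw [zpow_sub_one, zpow_natCast], hd, zpow_mul,
      zpow_natCast]
    exact A.zpow_mem hwp d
  obtain ⟨a, ha, t, rfl⟩ := exists_mem_sup_pow hA hwS hu
  rw [commutatorElement_def]
  have hw' : ∀ n : ℕ, s * w ^ n * s⁻¹ * (w ^ n)⁻¹ ∈ A := by
    intro n
    induction n with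
    | zero => simp
    | succ n ih =>
      have e : s * w ^ (n + 1) * s⁻¹ * (w ^ (n + 1))⁻¹ =
          s * w ^ n * s⁻¹ * (w ^ n)⁻¹ * (w ^ n * (s * w * s⁻¹ * w⁻¹) * (w ^ n)⁻¹) := by
        rw [pow_succ]; group
      rw [e]
      exact A.mul_mem ih (isStronglyClosed_normal hA (S.pow_mem hwS n) hwconj)
  have e : s * (a * w ^ t) * s⁻¹ * (a * w ^ t)⁻¹ =
      s * a * s⁻¹ * (s * w ^ t * s⁻¹ * (w ^ t)⁻¹) * a⁻¹ := by group
  rw [e]
  exact A.mul_mem (A.mul_mem (isStronglyClosed_normal hA hs ha) (hw' t)) (A.inv_mem ha)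

/-- A cyclic step between strongly closed subgroups is refined by steps of order `p`. -/
theorem Reach.refine_step (hA : Reach F p A) (hB : F.StronglyClosed B) {x : Ω} (hx : x ∈ S)
    (hAB : B = A ⊔ Subgroup.zpowers x) : Reach F p B := by
  obtain ⟨k, hk⟩ := hS ⟨x, hx⟩
  have hk1 : x ^ p ^ k = 1 := congrArg Subtype.val hk
  have hk' : x ^ p ^ k ∈ A := hk1 ▸ A.one_mem
  clear hk hk1
  induction k generalizing A with
  | zero =>
    rw [pow_zero, pow_one] at hk'
    rwa [hAB, sup_eq_left.2 (Subgroup.zpowers_le.2 hk')]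
  | succ k ih =>
    by_cases hw : x ^ p ^ k ∈ A
    · exact ih hA hAB hw
    · refine ih (hA.step (exists_first_step hS hA.stronglyClosed hB hx hAB hk' hw)) ?_
        (Subgroup.mem_sup_right (Subgroup.mem_zpowers _))
      rw [hAB, sup_assoc]
      congr 1
      exact (sup_eq_right.2 (Subgroup.zpowers_le.2
        (Subgroup.pow_mem _ (Subgroup.mem_zpowers x) _))).symm

theorem reach_of_cycSeries (h : HasCycSeries F) : Reach F p S := by
  obtain ⟨m, c, h0, hm, hcl, hstep⟩ := h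
  suffices H : ∀ i : Fin (m + 1), Reach F p (c i) by
    have := H (Fin.last m)
    rwa [hm] at this
  intro i
  induction i using Fin.induction with
  | zero => rw [h0]; exact Reach.bot
  | succ i ih =>
    obtain ⟨-, x, hx, he⟩ := hstep i
    exact ih.refine_step hS (hcl _) hx he

end PGroup

variable [Fact p.Prime] [Finite S] (hS : IsPGroup p S)

include hS in
theorem isNormal_top_of_cycSeries (hF : F.IsSaturated p) (h : HasCycSeries F) : F.IsNormal S := by
  obtain ⟨n, C, h0, hn, hmono, hC⟩ := (reach_of_cycSeries hS h).chain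
  refine isNormal_of_closed_series hS hF (C := fun i : Fin (n + 1) => C i) h0 hn
    (fun i j hij => hmono hij) fun i => ?_
  obtain ⟨hcl, -, w, -, -, -, hc⟩ := hC i i.2
  exact ⟨by simpa using hcl, by simpa using hc⟩

/-- Restrictions of the automorphisms of `S` in the group generated by `Inn S` and `H`. -/
theorem exists_aut_system (H : Subgroup (MulAut S)) (hS : IsPGroup p S)
    (hH : (Nat.card ↥H).Coprime p) :
    ∃ F : FusionSystem S, F.IsSaturated p ∧ H ≤ F.autGroup S ∧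
      ∀ P f, Mor F P f → ∃ β ∈ Inn S ⊔ H, ∀ x ∈ P, f x = apl β x := by
  haveI : Finite (MulAut S) := Finite.of_injective _ MulEquiv.toEquiv_injective
  let G := SemidirectProduct S H H.subtype
  haveI : Finite G := Finite.of_equiv _ SemidirectProduct.equivProd.symm
  let ι : S →* G := SemidirectProduct.inl
  have hinj : Function.Injective ι := SemidirectProduct.inl_injective
  let F : FusionSystem S :=
  { Hom := fun P => {φ | ∃ (hP : P ≤ S) (hφ : ∀ x : P, φ x ∈ S), ∃ g : G,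
      ∀ x : P, ι ⟨φ x, hφ x⟩ = g * ι ⟨x, hP x.2⟩ * g⁻¹}
    le_of_mem := fun ⟨hP, hφ, _⟩ => ⟨hP, hφ⟩
    injective_of_mem := by
      rintro P φ ⟨hP, hφ, g, hg⟩ a b hab
      have h1 : g * ι ⟨a, hP a.2⟩ * g⁻¹ = g * ι ⟨b, hP b.2⟩ * g⁻¹ := by
        rw [← hg, ← hg]
        exact congrArg ι (Subtype.ext hab)
      exact Subtype.ext (congrArg (fun z : S => (z : Ω)) (hinj (mul_left_cancel (mul_right_cancel h1))))
    conj_mem := by
      intro P g hP hg
      refine ⟨hP, fun x => S.mul_mem (S.mul_mem hg (hP x.2)) (S.inv_mem hg), ι ⟨g, hg⟩, fun x => ?_⟩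
      rw [← map_inv, ← map_mul, ← map_mul]
      rfl
    comp_mem := by
      rintro P Q φ ψ ⟨hP, hφ, g, hg⟩ ⟨hQ, hψ, g', hg'⟩ h
      refine ⟨hP, fun x => hψ _, g' * g, fun x => ?_⟩
      have h1 := hg' ⟨φ x, h x⟩
      rw [show (⟨((⟨φ x, h x⟩ : Q) : Ω), hQ (h x)⟩ : S) = ⟨φ x, hφ x⟩ from rfl, hg x] at h1
      refine h1.trans ?_
      rw [mul_inv_rev]
      simp only [mul_assoc]
    inv_mem := by
      rintro P φ ⟨hP, hφ, g, hg⟩
      have hinjφ : Function.Injective φ := fun a b hab => by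
        have h1 : g * ι ⟨a, hP a.2⟩ * g⁻¹ = g * ι ⟨b, hP b.2⟩ * g⁻¹ := by
          rw [← hg, ← hg]
          exact congrArg ι (Subtype.ext hab)
        exact Subtype.ext (congrArg (fun z : S => (z : Ω)) (hinj (mul_left_cancel (mul_right_cancel h1))))
      refine ⟨P.subtype.comp (MonoidHom.ofInjective hinjφ).symm.toMonoidHom,
        ⟨?_, fun y => hP (((MonoidHom.ofInjective hinjφ).symm y).2), g⁻¹, fun y => ?_⟩, fun x => ?_⟩
      · rintro _ ⟨x, rfl⟩
        exact hφ x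
      · obtain ⟨x, rfl⟩ := (MonoidHom.ofInjective hinjφ).surjective y
        show ι ⟨(((MonoidHom.ofInjective hinjφ).symm _ : P) : Ω), _⟩ = _
        rw [show (⟨((MonoidHom.ofInjective hinjφ x : φ.range) : Ω), _⟩ : S) = ⟨φ x, hφ x⟩ from rfl,
          hg x]
        simp only [MulEquiv.symm_apply_apply]
        simp only [mul_assoc]
        rw [inv_inv, inv_mul_cancel g, mul_one, inv_mul_cancel_left]
      · show (((MonoidHom.ofInjective hinjφ).symm _ : P) : Ω) = x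
        rw [show (⟨φ x, ⟨x, rfl⟩⟩ : φ.range) = MonoidHom.ofInjective hinjφ x from rfl,
          MulEquiv.symm_apply_apply] }
  have hr : F.IsRealizedBy ι := ⟨hinj, fun P hP φ hφ =>
    ⟨fun ⟨_, _, h⟩ => h, fun h => ⟨hP, hφ, h⟩⟩⟩
  have hcardR : Nat.card ι.range = Nat.card S :=
    (Nat.card_congr (MonoidHom.ofInjective hinj).toEquiv).symm
  have hidx : ¬ p ∣ ι.range.index := by
    have h1 := Subgroup.card_mul_index ι.range
    rw [hcardR, Nat.card_congr (SemidirectProduct.equivProd (φ := H.subtype)), Nat.card_prod] at h1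
    rw [Nat.eq_of_mul_eq_mul_left Nat.card_pos h1]
    exact (Nat.Prime.coprime_iff_not_dvd Fact.out).1 hH.symm
  have hRp : IsPGroup p ι.range := hS.of_equiv (MonoidHom.ofInjective hinj)
  refine ⟨F, realized_saturated hr ⟨hRp.toSylow hidx, rfl⟩, fun h hh => Subgroup.subset_closure ?_, ?_⟩
  rotate_left
  · rintro P f ⟨φ, ⟨hP, hφ, g, hg⟩, hφf⟩
    refine ⟨MulAut.conj g.left * (g.right : MulAut S),
      Subgroup.mul_mem _ (Subgroup.mem_sup_left ⟨g.left, rfl⟩) (Subgroup.mem_sup_right g.right.2),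
      fun x hx => ?_⟩
    rw [apl_apply _ (hP hx), ← hφf ⟨x, hx⟩]
    refine congrArg (fun z : S => (z : Ω)) (?_ : (⟨φ ⟨x, hx⟩, hφ _⟩ : S) = _)
    apply hinj
    rw [hg ⟨x, hx⟩, MulAut.mul_apply, MulAut.conj_apply, map_mul, map_mul, map_inv]
    conv_lhs => rw [← SemidirectProduct.inl_left_mul_inr_right g]
    rw [mul_inv_rev]
    have h1 := SemidirectProduct.inl_aut (φ := H.subtype) g.right (⟨x, hP hx⟩ : S)
    rw [map_inv] at h1
    show _ = SemidirectProduct.inl g.left * SemidirectProduct.inl (H.subtype g.right ⟨x, hP hx⟩) *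
      (SemidirectProduct.inl g.left)⁻¹
    rw [h1]
    simp only [mul_assoc]
    rfl
  show ∃ (hP : S ≤ S) (hφ : ∀ x : S, (S.subtype.comp h.toMonoidHom) x ∈ S), ∃ g : G,
    ∀ x : S, ι (⟨_, hφ x⟩ : S) = g * ι (⟨x, hP x.2⟩ : S) * g⁻¹
  refine ⟨le_rfl, fun x => (h x).2, SemidirectProduct.inr (⟨h, hh⟩ : H), fun x => ?_⟩
  rw [← map_inv]
  exact SemidirectProduct.inl_aut (φ := H.subtype) (⟨h, hh⟩ : H) x

omit [Fact p.Prime] in
theorem scalar_mod (hA : F.StronglyClosed A) {w : Ω} (hwS : w ∈ S)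
    (hBw : B = A ⊔ Subgroup.zpowers w) [((A).subgroupOf S).Normal] {h : MulAut S}
    (hinvA : ∀ y : S, (y : Ω) ∈ A → ((h y : S) : Ω) ∈ A) (hw : ((h ⟨w, hwS⟩ : S) : Ω) ∈ B) :
    ∃ c : ℕ, (∀ u : S, (u : Ω) ∈ B →
      QuotientGroup.mk' (A.subgroupOf S) (h u) = QuotientGroup.mk' (A.subgroupOf S) u ^ c) ∧
      (w ^ p ∈ A → w ∉ A → ¬ p ∣ c) := by
  obtain ⟨a, ha, c, hc⟩ := exists_mem_sup_pow hA hwS (hBw ▸ hw)
  let π := QuotientGroup.mk' (A.subgroupOf S)
  have e3 : π (h ⟨w, hwS⟩) = π ⟨w, hwS⟩ ^ c := by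
    rw [show h ⟨w, hwS⟩ = (⟨a, hA.1 ha⟩ : S) * ⟨w, hwS⟩ ^ c from Subtype.ext hc, map_mul, map_pow,
      show π ⟨a, hA.1 ha⟩ = 1 from (QuotientGroup.eq_one_iff _).2 ha, one_mul]
  refine ⟨c, fun u hu => ?_, fun hwp hwA => ?_⟩
  · obtain ⟨b, hb, j, hj⟩ := exists_mem_sup_pow hA hwS (hBw ▸ hu)
    have hu' : u = (⟨b, hA.1 hb⟩ : S) * ⟨w, hwS⟩ ^ j := Subtype.ext hj
    show π (h u) = π u ^ c
    rw [hu', map_mul, map_mul, map_mul, map_pow, map_pow, map_pow, e3,
      show π (h ⟨b, hA.1 hb⟩) = 1 from (QuotientGroup.eq_one_iff _).2 (hinvA _ hb),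
      show π ⟨b, hA.1 hb⟩ = 1 from (QuotientGroup.eq_one_iff _).2 hb, one_mul, one_mul, ← pow_mul,
      ← pow_mul, mul_comm]
  · rintro ⟨d, rfl⟩
    have h1 : π (h ⟨w, hwS⟩) = 1 := by
      rw [e3, pow_mul, ← map_pow, show π (⟨w, hwS⟩ ^ p) = 1 from (QuotientGroup.eq_one_iff _).2 hwp,
        one_pow]
    -- `h` maps the finite group `A` onto itself
    let g : {y : S // (y : Ω) ∈ A} → {y : S // (y : Ω) ∈ A} := fun y => ⟨h y.1, hinvA _ y.2⟩
    obtain ⟨y, hy⟩ := (Finite.injective_iff_surjective.1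
      (fun y z hyz => Subtype.ext (h.injective (congrArg Subtype.val hyz) )) :
        Function.Surjective g) ⟨h ⟨w, hwS⟩, (QuotientGroup.eq_one_iff (N := A.subgroupOf S) _).1 h1⟩
    have h2 : (y.1 : Ω) = w :=
      congrArg Subtype.val (h.injective (congrArg Subtype.val hy) : y.1 = ⟨w, hwS⟩)
    exact hwA (h2 ▸ y.2)

theorem splitAut_of_supersoluble (hS : IsPGroup p S)
    (hall : ∀ F : FusionSystem S, F.IsSaturated p → HasCycSeries F) : SplitAut p S := by
  intro H hH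
  haveI : Finite (MulAut S) := Finite.of_injective _ MulEquiv.toEquiv_injective
  obtain ⟨F, hF, hHF, -⟩ := exists_aut_system H hS hH
  obtain ⟨n, C, h0, hn, hmono, hC⟩ := (reach_of_cycSeries hS (hall F hF)).chain
  have hord : ∀ h ∈ H, (orderOf h).Coprime p := fun h hh =>
    Nat.Coprime.coprime_dvd_left (Subgroup.orderOf_dvd_natCard H hh) hH
  have hCl : ∀ i, i ≤ n → F.StronglyClosed (C i) := by
    intro i hi
    rcases Nat.eq_zero_or_pos i with rfl | hpos
    · rw [h0]; exact stronglyClosed_of_isNormal isNormal_bot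
    · have := (hC (i - 1) (by omega)).1
      rwa [Nat.sub_add_cancel hpos] at this
  have hinv : ∀ g ∈ H, ∀ i ≤ n, ∀ y : S, (y : Ω) ∈ C i → ((g y : S) : Ω) ∈ C i := by
    intro g hg i hi y hy
    rw [← apl_coe]
    exact (apl_invariant_of_stronglyClosed (hCl i hi) le_rfl (hHF hg) y.2).2 hy
  refine (fun key => ⟨⟨⟨fun a b => ?_⟩⟩, fun h hh => ?_⟩ :
    (∀ δ ∈ H, (∀ i < n, ∀ u : S, (u : Ω) ∈ C (i + 1) → ((u⁻¹ * δ u : S) : Ω) ∈ C i) → δ = 1) →
      IsMulCommutative ↥H ∧ ∀ h ∈ H, h ^ (p - 1) = 1) fun δ hδ hst => ?_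
  rotate_right
  · refine eq_one_of_chain hS (n := n) hn.ge (hord δ hδ) (fun x _ hx0 => ?_)
      fun i hi x hx hxC => ?_
    · rw [h0, Subgroup.mem_bot] at hx0
      subst hx0
      rw [apl_apply δ S.one_mem, show (⟨1, S.one_mem⟩ : S) = 1 from rfl, map_one]
      rfl
    · rw [apl_apply δ hx]
      exact hst i hi ⟨x, hx⟩ hxC
  · refine Subtype.ext (commutatorElement_eq_one_iff_mul_comm.1 (key _ ?_ fun i hi u hu => ?_))
    · rw [commutatorElement_def]
      exact H.mul_mem (H.mul_mem (H.mul_mem a.2 b.2) (H.inv_mem a.2)) (H.inv_mem b.2)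
    obtain ⟨hB, hAB, w, hwS, hwp, hBw, hcomm⟩ := hC i hi
    let K : Subgroup S := (C i).subgroupOf S
    haveI : K.Normal := ⟨fun v hv s => isStronglyClosed_normal (hCl i hi.le) s.2 hv⟩
    obtain ⟨c, hc, -⟩ := scalar_mod (p := p) (hCl i hi.le) hwS hBw (hinv _ a.2 i hi.le)
      (hinv _ a.2 (i + 1) hi ⟨w, hwS⟩ (hBw ▸ Subgroup.mem_sup_right (Subgroup.mem_zpowers w)))
    obtain ⟨d, hd, -⟩ := scalar_mod (p := p) (hCl i hi.le) hwS hBw (hinv _ b.2 i hi.le)
      (hinv _ b.2 (i + 1) hi ⟨w, hwS⟩ (hBw ▸ Subgroup.mem_sup_right (Subgroup.mem_zpowers w)))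
    let y : S := (a : MulAut S)⁻¹ ((b : MulAut S)⁻¹ u)
    have hy : (y : Ω) ∈ C (i + 1) :=
      hinv _ (H.inv_mem a.2) _ hi _ (hinv _ (H.inv_mem b.2) _ hi _ hu)
    have hu' : (b : MulAut S) ((a : MulAut S) y) = u := by simp [y]
    refine (QuotientGroup.eq (s := K)).1 (?_ : QuotientGroup.mk' K u = QuotientGroup.mk' K _)
    rw [show ⁅(a : MulAut S), (b : MulAut S)⁆ u = (a : MulAut S) ((b : MulAut S) y) from rfl, ← hu',
      hd _ (hinv _ a.2 _ hi _ hy), hc _ hy, hc _ (hinv _ b.2 _ hi _ hy), hd _ hy, ← pow_mul,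
      ← pow_mul, mul_comm]
  · refine key _ (H.pow_mem hh _) fun i hi u hu => ?_
    obtain ⟨hB, hAB, w, hwS, hwp, hBw, hcomm⟩ := hC i hi
    let K : Subgroup S := (C i).subgroupOf S
    haveI : K.Normal := ⟨fun v hv s => isStronglyClosed_normal (hCl i hi.le) s.2 hv⟩
    obtain ⟨c, hc, hc0⟩ := scalar_mod (p := p) (hCl i hi.le) hwS hBw (hinv _ hh i hi.le)
      (hinv _ hh (i + 1) hi ⟨w, hwS⟩ (hBw ▸ Subgroup.mem_sup_right (Subgroup.mem_zpowers w)))
    refine (QuotientGroup.eq (s := K)).1 (?_ : QuotientGroup.mk' K u = QuotientGroup.mk' K _)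
    by_cases hwA : w ∈ C i
    · have hle : C (i + 1) ≤ C i := hBw ▸ sup_le le_rfl (Subgroup.zpowers_le.2 hwA)
      have h1 := hinv _ (H.pow_mem hh (p - 1)) _ hi u hu
      rw [(QuotientGroup.eq_one_iff u).2 (hle hu) |> fun e => (e : QuotientGroup.mk' K u = 1)]
      exact ((QuotientGroup.eq_one_iff (N := K) _).2 (hle h1)).symm
    · have hup : QuotientGroup.mk' K u ^ p = 1 := by
        obtain ⟨b, hb, j, hj⟩ := exists_mem_sup_pow (hCl i hi.le) hwS (hBw ▸ hu)
        have hw1 : QuotientGroup.mk' K ⟨w, hwS⟩ ^ p = 1 := by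
          rw [← map_pow]; exact (QuotientGroup.eq_one_iff _).2 hwp
        have : u = (⟨b, (hCl i hi.le).1 hb⟩ : S) * ⟨w, hwS⟩ ^ j := Subtype.ext hj
        rw [this, map_mul, show QuotientGroup.mk' K ⟨b, _⟩ = 1 from (QuotientGroup.eq_one_iff _).2 hb,
          one_mul, map_pow, ← pow_mul, mul_comm, pow_mul, hw1, one_pow]
      have hit : ∀ m : ℕ, QuotientGroup.mk' K ((h ^ m) u) = QuotientGroup.mk' K u ^ c ^ m := by
        intro m
        induction m with
        | zero => simp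
        | succ m ih =>
          rw [pow_succ' h, MulAut.mul_apply, hc _ (hinv _ (H.pow_mem hh m) _ hi u hu), ih,
            ← pow_mul, ← pow_succ]
      have hc1 : c ^ (p - 1) ≡ 1 [MOD p] := by
        have := Nat.ModEq.pow_totient
          ((Nat.Prime.coprime_iff_not_dvd (Fact.out : p.Prime)).2 (hc0 hwp hwA)).symm
        rwa [Nat.totient_prime Fact.out] at this
      rw [hit, pow_eq_pow_iff_modEq.2 (Nat.ModEq.of_dvd (orderOf_dvd_of_pow_eq_one hup) hc1), pow_one]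

end Cfsg.Agent.FusSys
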