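import Cfsg.Agent.FusSys.Supersoluble
import Cfsg.Agent.FusSys.AbelianSimple
import Mathlib.RingTheory.Polynomial.Basic
import Mathlib.Algebra.Polynomial.Roots
import Mathlib.LinearAlgebra.Eigenspace.Basic

/-!
A resistant group whose `p'`-groups of automorphisms are abelian of exponent dividing `p - 1`
carries only supersoluble saturated systems.
-/

set_option autoImplicit false

namespace Cfsg.Agent.FusSys

open Cfsg Cfsg.FusionSystem Polynomial

universe u

section Eigen

variable {p : ℕ} [Fact p.Prime] {V : Type*} [AddCommGroup V] [Module (ZMod p) V]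

theorem exists_eigen_of_prod (L : Module.End (ZMod p) V) (s : Finset (ZMod p)) {v : V} (hv : v ≠ 0)
    (h : aeval L (∏ a ∈ s, (X - C a)) v = 0) : ∃ a ∈ s, ∃ w : V, w ≠ 0 ∧ L w = a • w ∧
      ∃ f : (ZMod p)[X], w = aeval L f v := by
  classical
  induction s using Finset.induction with
  | empty => simp at h; exact absurd h hv
  | insert a s ha ih =>
    rw [Finset.prod_insert ha, map_mul, Module.End.mul_apply, aeval_sub, aeval_X, aeval_C,
      LinearMap.sub_apply, sub_eq_zero, Module.algebraMap_end_apply] at h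
    by_cases h0 : aeval L (∏ b ∈ s, (X - C b)) v = 0
    · obtain ⟨b, hb, w, hw⟩ := ih h0
      exact ⟨b, Finset.mem_insert_of_mem hb, w, hw⟩
    · exact ⟨a, Finset.mem_insert_self a s, _, h0, h, _, rfl⟩

theorem prod_X_sub_C_all : ∏ a : ZMod p, (X - C a) = (X ^ p - X : (ZMod p)[X]) := by
  have hp : p.Prime := Fact.out
  have hdeg : (X ^ p - X : (ZMod p)[X]).natDegree = p :=
    FiniteField.X_pow_card_sub_X_natDegree_eq (ZMod p) hp.one_lt
  have hroots : (X ^ p - X : (ZMod p)[X]).roots = Finset.univ.val := by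
    simpa [ZMod.card] using FiniteField.roots_X_pow_card_sub_X (ZMod p)
  have h := prod_multiset_X_sub_C_of_monic_of_roots_card_eq
    (monic_X_pow_sub (n := p) (by rw [degree_X]; exact_mod_cast hp.one_lt) :
      (X ^ p - X : (ZMod p)[X]).Monic) (by rw [hroots, hdeg]; simp [ZMod.card])
  rwa [hroots] at h

variable [Finite V]

/-- Commuting maps with `L ^ p = L` have a common eigenvector. -/
theorem exists_common_eigen (hV : ∃ v : V, v ≠ 0) (s : Set (Module.End (ZMod p) V))
    (hcomm : ∀ f ∈ s, ∀ g ∈ s, f * g = g * f) (hexp : ∀ f ∈ s, f ^ p = f) :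
    ∃ v : V, v ≠ 0 ∧ ∀ f ∈ s, ∃ a : ZMod p, f v = a • v := by
  let M : Set (Submodule (ZMod p) V) := {W | W ≠ ⊥ ∧ ∀ f ∈ s, ∀ w ∈ W, f w ∈ W}
  haveI : Finite (Submodule (ZMod p) V) := Finite.of_injective _ SetLike.coe_injective
  have hM : M.Nonempty := ⟨⊤, fun h => by
    obtain ⟨v, hv⟩ := hV
    exact hv ((Submodule.mem_bot (ZMod p)).1 (h ▸ Submodule.mem_top)), fun _ _ _ _ => trivial⟩
  obtain ⟨W, hW⟩ := (Set.toFinite M).exists_minimal hM
  obtain ⟨v, hvW, hv⟩ := Submodule.exists_mem_ne_zero_of_ne_bot hW.1.1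
  refine ⟨v, hv, fun f hf => ?_⟩
  have h0 : aeval f (∏ a : ZMod p, (X - C a)) v = 0 := by
    rw [prod_X_sub_C_all, map_sub, map_pow, aeval_X, hexp f hf, sub_self, LinearMap.zero_apply]
  obtain ⟨a, -, w, hw0, hwa, q, hq⟩ := exists_eigen_of_prod f _ hv h0
  have hwW : w ∈ W := by
    have hall : ∀ q : (ZMod p)[X], aeval f q v ∈ W := by
      intro q
      induction q using Polynomial.induction_on' with
      | add q r hq hr =>
        rw [map_add, LinearMap.add_apply]
        exact W.add_mem hq hr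
      | monomial n c =>
        rw [aeval_monomial, Module.End.mul_apply, Module.algebraMap_end_apply]
        refine W.smul_mem _ ?_
        induction n with
        | zero => simpa using hvW
        | succ n ih =>
          rw [pow_succ', Module.End.mul_apply]
          exact hW.1.2 f hf _ ih
    exact hq ▸ hall q
  let W' : Submodule (ZMod p) V := W ⊓ LinearMap.ker (f - algebraMap (ZMod p) _ a)
  have hW' : W' ∈ M := by
    refine ⟨(Submodule.ne_bot_iff _).2 ⟨w, ⟨hwW, ?_⟩, hw0⟩, fun g hg x hx => ⟨hW.1.2 g hg x hx.1, ?_⟩⟩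
    · simp [hwa]
    · have h1 : f x = a • x := sub_eq_zero.1 (by simpa using hx.2)
      have h2 := LinearMap.congr_fun (hcomm f hf g hg) x
      simp only [Module.End.mul_apply] at h2
      simp [h2, h1]
  exact ⟨a, sub_eq_zero.1 (by simpa using (hW.2 hW' inf_le_left hvW).2)⟩

end Eigen

/-- Commuting endomorphisms `f` with `f^[p] = f` of a group of exponent `p` have a common eigenvector. -/
theorem exists_common_eigen_group {p : ℕ} [Fact p.Prime] {Z : Type*} [CommGroup Z] [Finite Z]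
    (hne : ∃ z : Z, z ≠ 1) (hZ : ∀ z : Z, z ^ p = 1) {ι : Type*} (T : ι → Z →* Z)
    (hcomm : ∀ i j z, T i (T j z) = T j (T i z)) (hexp : ∀ i z, (T i)^[p] z = T i z) :
    ∃ z : Z, z ≠ 1 ∧ ∀ i, ∃ a : ℕ, T i z = z ^ a := by
  have hm : Module (ZMod p) (Additive Z) :=
    AddCommGroup.zmodModule (G := Additive Z) fun v => Additive.toMul.injective (hZ v.toMul)
  let L : ι → Module.End (ZMod p) (Additive Z) := fun i =>
    AddMonoidHom.toZModLinearMap p (MonoidHom.toAdditive (T i))
  have hval : ∀ (i : ι) (v : Additive Z), L i v = Additive.ofMul (T i v.toMul) := fun _ _ => rfl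
  have hit : ∀ i (n : ℕ) (v : Additive Z), (L i ^ n) v = Additive.ofMul ((T i)^[n] v.toMul) := by
    intro i n
    induction n with
    | zero => intro v; rfl
    | succ n ih =>
      intro v
      rw [pow_succ', Module.End.mul_apply, ih, hval, Function.iterate_succ_apply']
      rfl
  obtain ⟨z, hz⟩ := hne
  obtain ⟨v, hv, heig⟩ := exists_common_eigen (p := p) (V := Additive Z)
    ⟨Additive.ofMul z, hz⟩ (Set.range L)
    (by
      rintro _ ⟨i, rfl⟩ _ ⟨j, rfl⟩
      refine LinearMap.ext fun v => ?_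
      simp only [Module.End.mul_apply, hval]
      exact congrArg Additive.ofMul (hcomm i j _))
    (by
      rintro _ ⟨i, rfl⟩
      refine LinearMap.ext fun v => ?_
      rw [hit, hexp, hval])
  refine ⟨v.toMul, hv, fun i => ?_⟩
  obtain ⟨a, ha⟩ := heig (L i) ⟨i, rfl⟩
  refine ⟨a.val, ?_⟩
  rw [← ZMod.natCast_zmod_val a, Nat.cast_smul_eq_nsmul] at ha
  exact (congrArg Additive.toMul ((hval i v).symm.trans ha))

variable {Ω : Type u} [Group Ω] {S : Subgroup Ω} {F : FusionSystem S} {A : Subgroup Ω} {p : ℕ}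
variable [Fact p.Prime] [Finite S] (hS : IsPGroup p S)

theorem stronglyClosed_of_top (hN : F.IsNormal S) (hF : F.IsSaturated p) (hS : IsPGroup p S)
    (hAS : A ≤ S) (h : ∀ α ∈ F.autGroup S, ∀ x ∈ A, apl α x ∈ A) : F.StronglyClosed A := by
  refine stronglyClosed_iff.2 ⟨hAS, fun R f hR hf x hx => ?_⟩
  obtain ⟨α, hα, he⟩ := (isNormal_iff_extends hS hF le_rfl).1 hN R f hf.le hf
  rw [← he x hx]
  exact h α hα x (hR hx)

include hS in
theorem exists_complement (hF : F.IsSaturated p) : ∃ H : Subgroup (MulAut S),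
    H ≤ F.autGroup S ∧ (Nat.card ↥H).Coprime p ∧
      ∀ α ∈ F.autGroup S, ∃ β ∈ Inn S, ∃ h ∈ H, α = β * h := by
  haveI : Finite (MulAut S) := Finite.of_injective _ MulEquiv.toEquiv_injective
  obtain ⟨-, T, hT⟩ := top_fullyAutomized hS hF
  haveI := innIn_normal F S
  have hTe : (T : Subgroup (F.autGroup S)) = innIn F S := by rw [hT, autInducedBy_self_eq_inn]
  have hnd : ¬ p ∣ (innIn F S).index := hTe ▸ T.not_dvd_index
  obtain ⟨n, hn⟩ := IsPGroup.iff_card.1 T.2
  rw [hTe] at hn
  have hcop : (innIn F S).index.Coprime p :=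
    ((Nat.Prime.coprime_iff_not_dvd Fact.out).2 hnd).symm
  obtain ⟨H, hH⟩ := Subgroup.exists_right_complement'_of_coprime (N := innIn F S)
    (by rw [hn]; exact Nat.Coprime.pow_left _ hcop.symm)
  refine ⟨H.map (F.autGroup S).subtype, Subgroup.map_subtype_le _, ?_, fun α hα => ?_⟩
  · rw [← Nat.card_congr (H.equivMapOfInjective _ (F.autGroup S).subtype_injective).toEquiv]
    rwa [hH.symm.index_eq_card] at hcop
  · have h1 : (⟨α, hα⟩ : F.autGroup S) ∈ innIn F S ⊔ H := by rw [hH.sup_eq_top]; trivial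
    rw [Subgroup.mem_sup_of_normal_left] at h1
    obtain ⟨β, hβ, h, hh, he⟩ := h1
    exact ⟨β, hβ, h, ⟨h, hh, rfl⟩, (congrArg Subtype.val he).symm⟩

include hS in
/-- The next step of a series. -/
theorem exists_next_step (hF : F.IsSaturated p) (hN : F.IsNormal S) (hsplit : SplitAut p S)
    (hA : F.StronglyClosed A) (hAne : A ≠ S) : ∃ B, F.StronglyClosed B ∧ A < B ∧
      ∃ x ∈ S, B = A ⊔ Subgroup.zpowers x := by
  classical
  haveI : Finite (MulAut S) := Finite.of_injective _ MulEquiv.toEquiv_injective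
  obtain ⟨H, hHF, hH, hdec⟩ := exists_complement hS hF
  obtain ⟨hHc, hHexp⟩ := hsplit H hH
  let D : Subgroup S := A.subgroupOf S
  haveI : D.Normal := ⟨fun v hv s => isStronglyClosed_normal hA s.2 hv⟩
  have hinvD : ∀ h ∈ H, D.map (h : S ≃* S).toMonoidHom = D := by
    intro h hh
    ext y
    rw [Subgroup.mem_map_equiv]
    have h1 := apl_invariant_of_stronglyClosed hA le_rfl (hHF (H.inv_mem hh)) y.2
    rw [apl_coe] at h1
    exact h1
  let Q := S ⧸ D
  have hQp : IsPGroup p Q := hS.to_quotient D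
  haveI : Nontrivial Q := QuotientGroup.nontrivial_iff.2 fun h =>
    hAne (le_antisymm hA.1 (Subgroup.subgroupOf_eq_top.1 h))
  let Z : Subgroup Q :=
    { carrier := {z | z ∈ Subgroup.center Q ∧ z ^ p = 1}
      one_mem' := ⟨one_mem _, one_pow p⟩
      mul_mem' := fun {a b} ha hb => ⟨mul_mem ha.1 hb.1, by
        rw [Commute.mul_pow (Subgroup.mem_center_iff.1 hb.1 a), ha.2, hb.2, one_mul]⟩
      inv_mem' := fun {a} ha => ⟨inv_mem ha.1, by rw [inv_pow, ha.2, inv_one]⟩ }
  letI : CommGroup Z :=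
    { (inferInstance : Group Z) with
      mul_comm := fun a b => Subtype.ext (Subgroup.mem_center_iff.1 b.2.1 a) }
  have hVne : ∃ v : Z, v ≠ 1 := by
    haveI := hQp.center_nontrivial
    haveI : Finite (Subgroup.center Q) := inferInstance
    have hdiv : p ∣ Nat.card (Subgroup.center Q) := by
      obtain ⟨n, hn⟩ := IsPGroup.iff_card.1 (hQp.to_subgroup (Subgroup.center Q))
      rcases n with _ | n
      · exact absurd hn (by rw [pow_zero]; exact Finite.one_lt_card.ne')
      · exact hn ▸ dvd_pow_self p n.succ_ne_zero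
    obtain ⟨z, hz⟩ := exists_prime_orderOf_dvd_card' p hdiv
    refine ⟨⟨(z : Q), z.2, ?_⟩, fun h => ?_⟩
    · have := pow_orderOf_eq_one z
      rw [hz] at this
      exact congrArg Subtype.val this
    · have h1 : (z : Q) = 1 := congrArg (fun w : Z => (w : Q)) h
      have h2 : z = 1 := Subtype.ext h1
      rw [h2, orderOf_one] at hz
      exact (Fact.out : p.Prime).one_lt.ne hz
  let qa : ∀ h : MulAut S, h ∈ H → Q ≃* Q := fun h hh =>
    QuotientGroup.congr D D (h : S ≃* S) (hinvD h hh)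
  have qa_mk : ∀ (h : MulAut S) (hh : h ∈ H) (s : S), qa h hh (s : Q) = ((h s : S) : Q) :=
    fun h hh s => rfl
  have qa_Z : ∀ (h : MulAut S) (hh : h ∈ H) (z : Q), z ∈ Z → qa h hh z ∈ Z := by
    intro h hh z hz
    refine ⟨Subgroup.mem_center_iff.2 fun g => ?_, by rw [← map_pow, hz.2, map_one]⟩
    obtain ⟨g', rfl⟩ := (qa h hh).surjective g
    rw [← map_mul, ← map_mul, Subgroup.mem_center_iff.1 hz.1]
  let T : H → Z →* Z := fun h =>
    { toFun := fun z => ⟨qa h h.2 z, qa_Z h h.2 z z.2⟩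
      map_one' := Subtype.ext (map_one (qa h h.2))
      map_mul' := fun a b => Subtype.ext (map_mul (qa h h.2) _ _) }
  have Tmk : ∀ (h : H) (z : Z) (s : S), (z : Q) = (s : Q) →
      ((T h z : Z) : Q) = (((h : MulAut S) s : S) : Q) := by
    intro h z s hs
    show qa (h : MulAut S) h.2 (z : Q) = _
    rw [hs, qa_mk _ h.2]
  obtain ⟨v, hv, heig⟩ := exists_common_eigen_group hVne (fun z => Subtype.ext z.2.2) T
    (fun a b z => Subtype.ext (by
      obtain ⟨s, hs⟩ := QuotientGroup.mk_surjective (z : Q)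
      rw [Tmk a _ _ (Tmk b z s hs.symm), Tmk b _ _ (Tmk a z s hs.symm), ← MulAut.mul_apply,
        ← MulAut.mul_apply, ← Subgroup.coe_mul, hHc.is_comm.comm, Subgroup.coe_mul]))
    (fun a z => Subtype.ext (by
      obtain ⟨s, hs⟩ := QuotientGroup.mk_surjective (z : Q)
      have hit : ∀ n : ℕ, (((T a)^[n] z : Z) : Q) = ((((a : MulAut S) ^ n) s : S) : Q) := by
        intro n
        induction n with
        | zero => exact hs.symm
        | succ n ih =>
          rw [Function.iterate_succ_apply', pow_succ', MulAut.mul_apply]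
          exact Tmk a _ _ ih
      rw [hit, Tmk a z s hs.symm]
      nth_rw 1 [show p = p - 1 + 1 from (Nat.sub_add_cancel (Fact.out : p.Prime).pos).symm]
      rw [pow_succ, hHexp _ a.2, one_mul]))
  obtain ⟨x, hxv⟩ := QuotientGroup.mk_surjective (v : Q)
  have hxA : (x : Ω) ∉ A := fun h => hv (Subtype.ext
    (hxv.symm.trans ((QuotientGroup.eq_one_iff x).2 h)))
  have hmain : ∀ α ∈ F.autGroup S, apl α x ∈ A ⊔ Subgroup.zpowers (x : Ω) := by
    intro α hα
    obtain ⟨β, hβ, h, hh, rfl⟩ := hdec α hα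
    obtain ⟨a, ha⟩ := heig ⟨h, hh⟩
    obtain ⟨g, rfl⟩ := hβ
    have e1 : ((h x : S) : Q) = (x : Q) ^ a := by
      rw [← Tmk ⟨h, hh⟩ v x hxv.symm, ha, SubmonoidClass.coe_pow, hxv]
    have e2 : ((MulAut.conj g (h x) : S) : Q) = ((x ^ a : S) : Q) := by
      rw [MulAut.conj_apply, QuotientGroup.mk_mul, QuotientGroup.mk_mul, e1, QuotientGroup.mk_pow]
      have hc : ((x : Q) ^ a) ∈ Subgroup.center Q := Subgroup.pow_mem _ (hxv ▸ v.2.1) _
      rw [Subgroup.mem_center_iff.1 hc, QuotientGroup.mk_inv, mul_inv_cancel_right]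
    have h3 := QuotientGroup.eq.1 e2.symm
    rw [apl_apply _ x.2]
    show (((MulAut.conj g * h) x : S) : Ω) ∈ _
    rw [MulAut.mul_apply, show (MulAut.conj g (h x) : S) =
      x ^ a * ((x ^ a)⁻¹ * MulAut.conj g (h x)) from (mul_inv_cancel_left _ _).symm,
      Subgroup.coe_mul, SubmonoidClass.coe_pow]
    exact Subgroup.mul_mem _ (Subgroup.pow_mem _ (Subgroup.mem_sup_right (Subgroup.mem_zpowers _)) _)
      (Subgroup.mem_sup_left h3)
  refine ⟨A ⊔ Subgroup.zpowers (x : Ω), stronglyClosed_of_top hN hF hS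
    (sup_le hA.1 (Subgroup.zpowers_le.2 x.2)) ?_, ?_, x, x.2, rfl⟩
  · intro α hα y hy
    obtain ⟨b, hb, t, rfl⟩ := exists_mem_sup_pow hA x.2 hy
    rw [apl_apply α (S.mul_mem (hA.1 hb) (S.pow_mem x.2 t)),
      show (⟨b * (x : Ω) ^ t, _⟩ : S) = ⟨b, hA.1 hb⟩ * x ^ t from rfl, map_mul, map_pow,
      Subgroup.coe_mul, SubmonoidClass.coe_pow, ← apl_coe, ← apl_coe]
    exact Subgroup.mul_mem _ (Subgroup.mem_sup_left
      ((apl_invariant_of_stronglyClosed hA le_rfl hα (hA.1 hb)).2 hb))
      (Subgroup.pow_mem _ (hmain α hα) t)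
  · exact lt_of_le_of_ne le_sup_left fun h => hxA (h ▸ Subgroup.mem_sup_right (Subgroup.mem_zpowers _))

include hS in
theorem cycSeries_of_splitAut (hF : F.IsSaturated p) (hN : F.IsNormal S) (hsplit : SplitAut p S) :
    HasCycSeries F := by
  suffices H : ∀ (d : ℕ) (A : Subgroup Ω), F.StronglyClosed A → Nat.card S - Nat.card A ≤ d →
      ∃ (m : ℕ) (c : ℕ → Subgroup Ω), c 0 = A ∧ c m = S ∧ (∀ i ≤ m, F.StronglyClosed (c i)) ∧
        ∀ i < m, c i ≤ c (i + 1) ∧ ∃ x ∈ S, c (i + 1) = c i ⊔ Subgroup.zpowers x by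
    obtain ⟨m, c, h0, hm, hcl, hst⟩ :=
      H _ ⊥ (stronglyClosed_of_isNormal isNormal_bot) le_rfl
    exact ⟨m, fun i => c i, h0, hm, fun i => hcl i (Nat.le_of_lt_succ i.2),
      fun i => by simpa using hst i i.2⟩
  intro d
  induction d with
  | zero =>
    intro A hA hd
    have : A = S := by
      by_contra hne
      have := card_lt_of_lt' (S := S) le_rfl (lt_of_le_of_ne hA.1 hne)
      omega
    exact ⟨0, fun _ => A, rfl, this, fun _ _ => hA, fun i hi => absurd hi (Nat.not_lt_zero i)⟩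
  | succ d ih =>
    intro A hA hd
    by_cases hne : A = S
    · exact ⟨0, fun _ => A, rfl, hne, fun _ _ => hA, fun i hi => absurd hi (Nat.not_lt_zero i)⟩
    obtain ⟨B, hB, hlt, x, hx, hBx⟩ := exists_next_step hS hF hN hsplit hA hne
    have := card_lt_of_lt' (S := S) hB.1 hlt
    have hBS : Nat.card B ≤ Nat.card S := Subgroup.card_le_of_le hB.1
    obtain ⟨m, c, h0, hm, hcl, hst⟩ := ih B hB (by omega)
    refine ⟨m + 1, fun i => if i = 0 then A else c (i - 1), rfl, by simpa using hm, ?_, ?_⟩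
    · intro i hi
      rcases i with _ | i
      · exact hA
      · simpa using hcl i (by omega)
    · intro i hi
      rcases i with _ | i
      · simp only [if_true, Nat.zero_add, one_ne_zero, if_false, Nat.sub_self, h0]
        exact ⟨hlt.le, x, hx, hBx⟩
      · simpa using hst i (by omega)

end Cfsg.Agent.FusSys
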