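import Cfsg.Agent.FusSys.Terminating
import Cfsg.Agent.FusSys.TateCor
import Cfsg.Agent.FusSys.IndexPrimeSys
import Cfsg.Agent.FusSys.PIndexUnique
import Cfsg.Agent.Thompson.Offender.Action
import Cfsg.Agent.S5120
import Cfsg.Agent.S5141
import Cfsg.Agent.S5158
import Cfsg.Agent.S5159

/-!
Terminating residual series and `p`-solvable models.
-/

set_option autoImplicit false

namespace Cfsg.Agent.FusSys

open Cfsg Cfsg.FusionSystem

universe u

variable {Ω : Type u} [Group Ω] {S : Subgroup Ω} {F : FusionSystem S} {p : ℕ}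

/-- A system in which the whole group is normal is solvable. -/
theorem solvable_of_top_normal [Fact p.Prime] [Finite S] (hS : IsPGroup p S) (hF : F.IsSaturated p)
    (hn : F.IsNormal S) : F.IsSolvableSystem := by
  haveI : Group.IsNilpotent S := hS.isNilpotent
  obtain ⟨m, hm⟩ := (inferInstance : Group.IsSolvable S).solvable
  refine solvable_of_series hS hF (fun i : Fin (m + 1) => (derivedSeries S (m - i)).map S.subtype)
    ?_ ?_ (fun i => ?_) fun i => ?_
  · show (derivedSeries S (m - ((0 : Fin (m + 1)) : ℕ))).map S.subtype = ⊥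
    rw [Fin.val_zero, Nat.sub_zero, hm, Subgroup.map_bot]
  · show (derivedSeries S (m - ((Fin.last m : Fin (m + 1)) : ℕ))).map S.subtype = S
    rw [Fin.val_last, Nat.sub_self, derivedSeries_zero, ← MonoidHom.range_eq_map, Subgroup.range_subtype]
  · refine stronglyClosed_of_isNormal (isNormal_of_characteristic hn (Subgroup.map_subtype_le _) ?_)
    rw [Subgroup.subgroupOf, Subgroup.comap_map_eq_self_of_injective S.subtype_injective]
    infer_instance
  · show ⁅(derivedSeries S (m - (i.succ : ℕ))).map S.subtype, _⁆ ≤ _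
    rw [← Subgroup.map_commutator, ← derivedSeries_succ]
    refine Subgroup.map_mono (le_of_eq ?_)
    congr 1
    have := i.isLt
    simp only [Fin.val_succ, Fin.val_castSucc]
    omega

theorem inner_top_normal : (innerFusionSystem S).IsNormal S := by
  refine isNormal_iff.2 ⟨le_rfl, fun P f hf => ?_⟩
  obtain ⟨hP, s, hs, hsx⟩ := mor_inner.1 hf
  refine ⟨fun x => s * x * s⁻¹, ?_, fun x hx => (hsx x hx).symm, fun z => ⟨fun hz => ?_, ?_⟩⟩
  · exact mor_conj (sup_le hP le_rfl) hs
  · exact ⟨s⁻¹ * z * s, S.mul_mem (S.mul_mem (S.inv_mem hs) hz) hs, by group⟩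
  · rintro ⟨x, hx, rfl⟩
    exact S.mul_mem (S.mul_mem hs hx) (S.inv_mem hs)

/-- The quotient of a group by a subgroup containing the hyperfocal one has a solvable system. -/
theorem solvable_of_residuals [Fact p.Prime] [Finite S] (hS : IsPGroup p S) (hF : F.IsSaturated p)
    {E : FusionSystem S} (hE : F.IsPPrimeResidual p E)
    {D : FusionSystem (E.hyperfocalSubgroup p)} (hD : E.IsPResidual p D)
    (hDsol : D.IsSolvableSystem) : F.IsSolvableSystem := by
  have hEsat := hE.1
  have hTsc : E.StronglyClosed (E.hyperfocalSubgroup p) := stronglyClosed_hyperfocal hS hEsat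
  haveI hTn : ((E.hyperfocalSubgroup p).subgroupOf S).Normal :=
    (Subgroup.normal_subgroupOf_iff_le_normalizer hTsc.1).2 (StronglyClosed.le_normalizer hTsc)
  have hEsol : E.IsSolvableSystem := by
    have hDn : D.IsNormalIn E p :=
      Cfsg.Agent.S5120.result p hS E hEsat (E.hyperfocalSubgroup p) hTsc.1 hTn le_rfl D hD.1 hD.2
    let θ : S →* S ⧸ (E.hyperfocalSubgroup p).subgroupOf S := QuotientGroup.mk' _
    have hker : ∀ s : S, θ s = 1 ↔ (s : Ω) ∈ (E.hyperfocalSubgroup p) := fun s =>
      (QuotientGroup.eq_one_iff s).trans Subgroup.mem_subgroupOf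
    have hrange : θ.range = ⊤ := MonoidHom.range_eq_top.2 (QuotientGroup.mk'_surjective _)
    obtain ⟨Q, hQ⟩ := exists_factorSystem (F := E) hTsc hker hrange
    refine (Cfsg.Agent.S5159.result p hS E hEsat D hDn θ Q hQ).2 ⟨hDsol, ?_⟩
    have hQs := factor_saturated hS hEsat hQ hTsc
    have hqp : IsPGroup p (⊤ : Subgroup (S ⧸ (E.hyperfocalSubgroup p).subgroupOf S)) :=
      (hS.of_surjective θ (QuotientGroup.mk'_surjective _)).to_subgroup _
    have hh : Q.hyperfocalSubgroup p = ⊥ := by
      rw [factor_hyperfocal hS hEsat hQ hTsc, Subgroup.map_eq_bot_iff, QuotientGroup.ker_mk']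
    refine solvable_of_top_normal hqp hQs ?_
    rw [eq_inner_of_hyperfocal_bot hqp hQs hh]
    exact inner_top_normal
  have hFw : F.IsWeaklyNormalIn F p := by
    refine ⟨hF, hF, fun _ _ h => h, stronglyClosed_iff.2 ⟨le_rfl, fun _ _ _ h x hx => h.mem_S hx⟩,
      fun P hP φ hφ α hα => ?_, fun P hP φ hφ => ?_⟩
    · have ha := iso_apl le_rfl hα
      obtain ⟨R, hR⟩ := (ha.1.mono hP).exists_iso
      obtain ⟨d, hd, hdl, -⟩ := hR.symm
      have hRe : (P.subgroupOf S).map (S.subtype.comp α.toMonoidHom) = R := by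
        ext y
        constructor
        · rintro ⟨x, hx, rfl⟩
          show ((α x : S) : Ω) ∈ R
          rw [← apl_coe α x]
          exact hR.mem hx
        · intro hy
          obtain ⟨x, hx, rfl⟩ := hR.exists_eq hy
          exact ⟨⟨x, hP hx⟩, hx, (apl_coe α ⟨x, hP hx⟩).symm⟩
      rw [hRe]
      have hm := (hd.1.comp (mor_extendFn hφ) fun x hx => hd.mem hx).comp ha.1
        fun x hx => (mor_extendFn hφ).mem_S (hd.mem hx)
      obtain ⟨χ, hχ, hχx⟩ := hm
      refine ⟨χ, hχ, fun x hφx hαx => ?_⟩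
      rw [hχx]
      show apl α (extendFn φ (d _)) = _
      rw [← apl_coe α ⟨_, hP x.2⟩, hdl _ x.2, extendFn_coe, apl_apply α hφx]
    · exact ⟨1, Subgroup.one_mem _, φ, hφ, fun x hx => rfl⟩
  have hEn : E.IsNormalIn F p := Cfsg.Agent.S5141.result p hS F hF F hFw E hE
  haveI hSn : (S.subgroupOf S).Normal := by rw [Subgroup.subgroupOf_self]; infer_instance
  let θ : S →* S ⧸ S.subgroupOf S := QuotientGroup.mk' _
  have hker : ∀ s : S, θ s = 1 ↔ (s : Ω) ∈ S := fun s =>
    (QuotientGroup.eq_one_iff s).trans Subgroup.mem_subgroupOf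
  have hrange : θ.range = ⊤ := MonoidHom.range_eq_top.2 (QuotientGroup.mk'_surjective _)
  have hSsc := hEn.1.2.2.2.1
  obtain ⟨Q, hQ⟩ := exists_factorSystem (F := F) hSsc hker hrange
  refine (Cfsg.Agent.S5159.result p hS F hF E hEn θ Q hQ).2 ⟨hEsol, ?_⟩
  intro R hR hne
  refine absurd ?_ hne
  haveI : Subsingleton (S ⧸ S.subgroupOf S) := by
    rw [Subgroup.subgroupOf_self]
    exact QuotientGroup.subsingleton_quotient_top
  exact Subsingleton.elim _ _

theorem solvable_of_bot (hS : S = ⊥) : F.IsSolvableSystem := fun R hR hne =>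
  absurd ((le_bot_iff.1 (hS ▸ hR.1)).trans hS.symm) hne

/-- Terminating residual series give solvable systems with `p`-solvable models. -/
theorem solvable_of_terminating (h : F.HasTerminatingResidualSeries p) :
    ∀ [Fact p.Prime] [Finite S], IsPGroup p S → F.IsSaturated p →
      F.IsSolvableSystem ∧ ∀ (G : Type u) [Group G] (ι : S →* G), F.IsModel p G ι → Cfsg.IsPSolvable p G := by
  induction h with
  | @trivial S F p h0 =>
    intro _ _ _ _
    refine ⟨solvable_of_bot h0, fun G _ ι hM => ?_⟩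
    haveI := hM.1
    have hsub : Subsingleton G := by
      have hrange : ι.range = ⊥ := by
        rw [eq_bot_iff]
        rintro _ ⟨x, rfl⟩
        have : x = 1 := Subtype.ext (Subgroup.mem_bot.1 (h0 ▸ x.2))
        rw [this, map_one]
        exact one_mem _
      have hcore : pCore p G = ⊥ := le_bot_iff.1 (hrange ▸ pCore_le_range hM.2.2.1)
      have h1 := hM.2.2.2
      rw [hcore] at h1
      refine ⟨fun a b => ?_⟩
      have hall : ∀ g : G, g = 1 := fun g => Subgroup.mem_bot.1 (h1 (Subgroup.mem_centralizer_iff.2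
        fun y hy => by rw [Subgroup.mem_bot.1 hy, one_mul, mul_one]))
      rw [hall a, hall b]
    exact isPSolvable_of_subsingleton G
  | @step S F E p D hE hD _ ih =>
    intro _ _ hS hF
    haveI := finite_of_le (hyperfocal_le E p)
    obtain ⟨hDsol, hDmod⟩ := ih (hS.to_le (hyperfocal_le E p)) hD.1
    refine ⟨solvable_of_residuals hS hF hE hD hDsol, fun G _ ι hM => ?_⟩
    haveI := hM.1
    obtain ⟨H, hH, hHm, hNH, hmem⟩ := exists_model_sub hS hM hE.1 hE.2.1.1
    obtain ⟨D', hD', κ, hκ⟩ := exists_model_pResidual hS hHm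
    have he : D' = D := hom_ext_iff.2 fun P =>
      eq_of_pPowerIndex (hS.to_le (hyperfocal_le E p)) hD'.1 hD.1 hD'.2 hD.2 P
    subst he
    have h1 := hDmod _ κ hκ
    haveI : (pResidual p H).Normal := by
      haveI : (pResidual p H).Characteristic := Cfsg.Agent.Fusion.pResidual_characteristic
      infer_instance
    have h2 : Cfsg.IsPSolvable p H := isPSolvable_of_normal H (pResidual p H) h1
      (Or.inl (Cfsg.Agent.Fusion.index_pResidual_eq_pow))
    set K : Subgroup G := Subgroup.closure {g | ∃ i, orderOf g = p ^ i}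
    haveI hKn : K.Normal := ⟨fun x hx g => by
      induction hx using Subgroup.closure_induction with
      | mem y hy => exact Subgroup.subset_closure ⟨hy.choose, (MulEquiv.orderOf_eq (MulAut.conj g) y).trans hy.choose_spec⟩
      | one => rw [mul_one, mul_inv_cancel]; exact one_mem _
      | mul a b _ _ ha hb => have := mul_mem ha hb; rwa [show g * a * g⁻¹ * (g * b * g⁻¹) = g * (a * b) * g⁻¹ by group] at this
      | inv a _ ha => have := inv_mem ha; rwa [show (g * a * g⁻¹)⁻¹ = g * a⁻¹ * g⁻¹ by group] at this⟩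
    have hKH : K ≤ H := (Subgroup.closure_le _).2 fun g ⟨i, hi⟩ => (hmem g).2 (mem_of_pElement hM hE.2.1 hi)
    have h3 : Cfsg.IsPSolvable p K := isPSolvable_congr (Subgroup.subgroupOfEquivOfLe hKH)
      (Cfsg.Agent.Offender.isPSolvable_subgroup h2 (K.subgroupOf H))
    refine isPSolvable_of_normal G K h3 (Or.inr ?_)
    obtain ⟨T₀, hT₀⟩ := hM.2.2.1
    have hle : (T₀ : Subgroup G) ≤ K := fun g hg => by
      obtain ⟨i, hi⟩ := (IsPGroup.iff_orderOf.1 T₀.2) ⟨g, hg⟩
      exact Subgroup.subset_closure ⟨i, by rwa [← Subgroup.orderOf_coe] at hi⟩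
    exact Nat.Coprime.coprime_dvd_left (Subgroup.index_dvd_of_le hle)
      ((Fact.out : p.Prime).coprime_iff_not_dvd.2 T₀.not_dvd_index).symm

/-- A `p`-solvable model gives a terminating residual series. -/
theorem terminating_of_model [Fact p.Prime] [hfinS : Finite S] (hS : IsPGroup p S) {G : Type u} [Group G]
    {ι : S →* G} (hM : F.IsModel p G ι) (hsolv : Cfsg.IsPSolvable p G) :
    F.HasTerminatingResidualSeries p := by
  induction hc : Nat.card S using Nat.strong_induction_on generalizing S G with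
  | _ c IH =>
  subst hc
  by_cases h0 : S = ⊥
  · exact .trivial F p h0
  haveI := hM.1
  have hF : F.IsSaturated p := (model_constrained hM).1
  obtain ⟨E, hE⟩ := exists_pPrimeResidual hS hF
  obtain ⟨H, hH, hHm, hNH, hmem⟩ := exists_model_sub hS hM hE.1 hE.2.1.1
  have hHs : Cfsg.IsPSolvable p H := Cfsg.Agent.Offender.isPSolvable_subgroup hsolv H
  obtain ⟨D, hD, κ, hκ⟩ := exists_model_pResidual hS hHm
  have hlt := hyperfocal_lt_of_model hS hHm hHs h0 hE
  haveI := finite_of_le (hyperfocal_le E p)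
  exact .step F E p D hE hD (IH _ (card_lt_of_lt' le_rfl hlt) (S := E.hyperfocalSubgroup p)
    (hS.to_le (hyperfocal_le E p)) hκ (Cfsg.Agent.Offender.isPSolvable_subgroup hHs _) rfl)

end Cfsg.Agent.FusSys
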