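import Cfsg.Agent.FusSys.Transvection
import Cfsg.Agent.FusSys.GT
import Cfsg.Agent.FusSys.FactorFree
import Cfsg.Agent.Fusion.ThompsonComplement

/-!
Thompson's normal `p`-complement theorem with the abelian-version Thompson subgroup, including
the case `p = 2` without a section isomorphic to the symmetric group of degree 4.
-/

set_option autoImplicit false

namespace Cfsg.Agent.FusSys

open Subgroup Fusion
open scoped commutatorElement Pointwise

universe u

variable {G : Type u} [Group G] {p : ℕ}

theorem thompsonSubgroupAOf_le (D : Subgroup G) : thompsonSubgroupAOf D ≤ D :=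
  map_subtype_le _

theorem thompsonSubgroupAOf_map_of_inf_ker {G' : Type*} [Group G'] (f : G →* G') {U : Subgroup G}
    (h : U ⊓ f.ker = ⊥) : (thompsonSubgroupAOf U).map f = thompsonSubgroupAOf (U.map f) := by
  have hinj : Function.Injective (f.comp U.subtype) := by
    rw [injective_iff_map_eq_one]
    intro x hx
    exact Subtype.ext (mem_bot.mp (h ▸ (⟨x.2, hx⟩ : (x : G) ∈ U ⊓ f.ker)))
  have h1 := thompsonSubgroupAOf_map hinj (⊤ : Subgroup U)
  rw [← map_map, thompsonSubgroupAOf_map U.subtype_injective, ← map_map, map_top_subtype] at h1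
  exact h1

theorem mem_normalizer_thompsonSubgroupAOf {U : Subgroup G} {g : G}
    (hg : g ∈ normalizer (U : Set G)) :
    g ∈ normalizer (thompsonSubgroupAOf U : Set G) := by
  rw [mem_normalizer_iff_map_conj_eq] at hg ⊢
  exact (thompsonSubgroupAOf_map (MulAut.conj g).injective U).trans
    (congrArg thompsonSubgroupAOf hg)

variable [Finite G] [Fact p.Prime]

theorem thompsonSubgroupAOf_ne_bot {U : Subgroup G} (hU : IsPGroup p U) (h : U ≠ ⊥) :
    thompsonSubgroupAOf U ≠ ⊥ := by
  have h1 := wsub_ne_bot (posFunctor_jW (p := p)) hU h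
  rwa [wsub_jW] at h1

/-- Thompson's normal `p`-complement theorem for odd `p` or groups without a section isomorphic to
the symmetric group of degree 4, with the abelian-version Thompson subgroup. -/
theorem hasNormalPComplement_of_thompsonA (P : Sylow p G)
    (hJ : HasNormalPComplement p (normalizer (thompsonSubgroupAOf (P : Subgroup G) : Set G)))
    (hZ : HasNormalPComplement p
      (centralizer (((P : Subgroup G) ⊓ centralizer ((P : Subgroup G) : Set G) : Subgroup G) : Set G)))
    (hodd : p ≠ 2 ∨ ¬ Involves (Equiv.Perm (Fin 4)) G) :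
    HasNormalPComplement p G := by
  induction hn : Nat.card G using Nat.strong_induction_on generalizing G with
  | _ n IH =>
  subst hn
  have hpp := (Fact.out : p.Prime)
  by_contra hG
  have hsub : ∀ (H : Subgroup G), H ≠ ⊤ → ∀ (T : Sylow p H),
      HasNormalPComplement p
        (normalizer (thompsonSubgroupAOf ((T : Subgroup H).map H.subtype) : Set G)) →
      HasNormalPComplement p (centralizer
        ((((T : Subgroup H).map H.subtype) ⊓
          centralizer (((T : Subgroup H).map H.subtype : Subgroup G) : Set G) : Subgroup G) : Set G)) →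
      HasNormalPComplement p H := by
    intro H hH T h1 h2
    refine IH _ ?_ T ?_ ?_ (hodd.imp id fun h hi => h (involves_of_injective H.subtype_injective hi)) rfl
    · exact lt_of_le_of_ne (Nat.le_of_dvd Nat.card_pos (card_subgroup_dvd_card H))
        fun e => hH (eq_top_of_card_eq H e)
    · refine hasNormalPComplement_of_map_le H.subtype_injective ?_ h1
      rw [← thompsonSubgroupAOf_map H.subtype_injective]
      exact le_normalizer_map _
    · refine hasNormalPComplement_of_map_le H.subtype_injective ?_ h2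
      rw [← map_inf_centralizer_of_inf_ker H.subtype (by rw [ker_subtype, inf_bot_eq])]
      exact (map_centralizer_le_centralizer_image _ _).trans_eq (by rw [coe_map])
  -- there is no normal `p'`-subgroup
  have hO' : pPrimeCore p G = ⊥ := by
    by_contra hne
    set M := pPrimeCore p G with hM
    set f := QuotientGroup.mk' M with hf
    have hfs := QuotientGroup.mk'_surjective M
    have hker : (Nat.card f.ker).Coprime p := by
      rw [hf, QuotientGroup.ker_mk']; exact Core.coprime_card_pPrimeCore
    have hi : (P : Subgroup G) ⊓ f.ker = ⊥ := Layer.inf_eq_bot_of_isPGroup P.2 hker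
    refine hG (hasNormalPComplement_of_quotient M Core.coprime_card_pPrimeCore ?_)
    refine IH _ ?_ (P.mapSurjective hfs) ?_ ?_
      (hodd.imp id fun h hi => h (involves_of_surjective hfs hi)) rfl
    · rw [M.card_eq_card_quotient_mul_card_subgroup]
      exact lt_mul_of_one_lt_right Nat.card_pos ((one_lt_card_iff_ne_bot M).mpr hne)
    · rw [Sylow.coe_mapSurjective, ← thompsonSubgroupAOf_map_of_inf_ker f hi,
        ← Layer.map_normalizer_of_coprime hfs hker (P.2.to_le (thompsonSubgroupAOf_le _))]
      exact hasNormalPComplement_map f hJ le_rfl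
    · rw [Sylow.coe_mapSurjective, ← map_inf_centralizer_of_inf_ker f hi,
        ← Layer.map_centralizer_of_coprime hfs hker (P.2.to_le inf_le_left)]
      exact hasNormalPComplement_map f hZ le_rfl
  obtain ⟨U, hU, hU1, hUn, hUmax⟩ := exists_normalizer_not_complement hG
  set N := normalizer (U : Set G) with hN
  obtain ⟨T⟩ := (inferInstance : Nonempty (Sylow p N))
  set S : Subgroup G := (T : Subgroup N).map N.subtype with hS
  have hSp : IsPGroup p S := T.2.map _
  obtain ⟨R, hSR⟩ := hSp.exists_le_sylow
  -- replace `P` by a Sylow subgroup containing `S`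
  obtain ⟨hJ, hZ⟩ : HasNormalPComplement p
      (normalizer (thompsonSubgroupAOf (R : Subgroup G) : Set G)) ∧ HasNormalPComplement p
      (centralizer (((R : Subgroup G) ⊓ centralizer ((R : Subgroup G) : Set G) : Subgroup G) : Set G)) := by
    obtain ⟨g, rfl⟩ := MulAction.exists_smul_eq G P R
    have e : ((g • P : Sylow p G) : Subgroup G) =
        (P : Subgroup G).map (MulAut.conj g).toMonoidHom := by
      rw [Sylow.coe_subgroup_smul]; exact Coprime.conj_smul_eq_map g _
    constructor
    · refine hasNormalPComplement_of_map_le (f := (MulAut.conj g⁻¹).toMonoidHom)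
        (MulAut.conj g⁻¹).injective ?_ hJ
      rw [e, ← thompsonSubgroupAOf_map (MulAut.conj g).injective]
      exact map_normalizer_conj g _
    · refine hasNormalPComplement_of_map_le (f := (MulAut.conj g⁻¹).toMonoidHom)
        (MulAut.conj g⁻¹).injective ?_ hZ
      rw [e, ← map_inf_centralizer_of_inf_ker (MulAut.conj g).toMonoidHom
        (by rw [(MonoidHom.ker_eq_bot_iff _).mpr (MulAut.conj g).injective, inf_bot_eq])]
      exact map_centralizer_conj g _
  clear! P
  rename' R => P
  have hSN : S ≤ N := map_subtype_le _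
  have hTS : (T : Subgroup N) = S.subgroupOf N :=
    (comap_map_eq_self_of_injective N.subtype_injective _).symm
  have hUS : U ≤ S := by
    have hUN : (U.subgroupOf N).Normal := normal_in_normalizer
    have h1 : U.subgroupOf N ≤ (T : Subgroup N) :=
      (Core.le_pCore (hN := hUN) (hU.comap_subtype (K := N))).trans (Core.pCore_le_sylow T)
    intro x hx
    exact mem_map_of_mem N.subtype (h1 (show (⟨x, le_normalizer hx⟩ : N) ∈ U.subgroupOf N from hx))
  have hS1 : S ≠ ⊥ := fun h => hU1 (le_bot_iff.mp (h ▸ hUS))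
  have hSP : S = (P : Subgroup G) := by
    by_contra hne
    have hlt : S < (P : Subgroup G) := lt_of_le_of_ne hSR hne
    obtain ⟨x, hxP, hxS, hxn⟩ : ∃ x ∈ (P : Subgroup G), x ∉ S ∧ x ∈ normalizer (S : Set G) := by
      have := P.2.isNilpotent
      have hlt' : S.subgroupOf (P : Subgroup G) < ⊤ :=
        lt_top_iff_ne_top.mpr fun ht => hne (le_antisymm hSR (subgroupOf_eq_top.mp ht))
      obtain ⟨x, hx1, hx2⟩ := SetLike.exists_of_lt (normalizerCondition_of_isNilpotent _ hlt')
      rw [← subgroupOf_normalizer_eq hSR] at hx1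
      exact ⟨x, x.2, hx2, hx1⟩
    have hS' : S ⊔ zpowers x ≤ normalizer (thompsonSubgroupAOf S : Set G) :=
      sup_le (fun s hs => mem_normalizer_thompsonSubgroupAOf (le_normalizer hs))
        (zpowers_le.mpr (mem_normalizer_thompsonSubgroupAOf hxn))
    have hJn : HasNormalPComplement p (normalizer (thompsonSubgroupAOf S : Set G)) := by
      by_contra hc
      have h1 := (hUmax _ (hSp.to_le (thompsonSubgroupAOf_le S))
        (thompsonSubgroupAOf_ne_bot hSp hS1) hc).1
      obtain ⟨i, hi⟩ := IsPGroup.iff_card.mp (P.2.to_le (sup_le hSR (zpowers_le.mpr hxP)) :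
        IsPGroup p (S ⊔ zpowers x : Subgroup G))
      have h2 : Nat.card S < Nat.card (S ⊔ zpowers x : Subgroup G) :=
        Core.card_lt_of_lt (lt_of_le_of_ne le_sup_left
          fun h => hxS (h ▸ mem_sup_right (mem_zpowers x)))
      have h3 : Nat.card S = p ^ (Nat.card N).factorization p := by
        rw [hS, card_map_of_injective N.subtype_injective, T.card_eq_multiplicity]
      rw [h3, hi] at h2
      have h4 := (Nat.pow_lt_pow_iff_right hpp.one_lt).mp h2
      have h5 : i ≤ (Nat.card (normalizer (thompsonSubgroupAOf S : Set G))).factorization p :=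
        (hpp.pow_dvd_iff_le_factorization Nat.card_pos.ne').mp (hi ▸ card_dvd_of_le hS')
      omega
    have hZS : (P : Subgroup G) ⊓ centralizer ((P : Subgroup G) : Set G) ≤ S ⊓ centralizer (S : Set G) := by
      refine le_inf ?_ (inf_le_right.trans (centralizer_le hSR))
      have h1 : (P : Subgroup G) ⊓ N ≤ S := by
        have h2 : ((P : Subgroup G).subgroupOf N) = (T : Subgroup N) :=
          T.3 (P.2.comap_subtype (K := N)) (by
            rw [hTS]; exact fun y hy => hSR hy)
        intro y hy
        exact mem_map_of_mem N.subtype (h2 ▸ (show (⟨y, hy.2⟩ : N) ∈ (P : Subgroup G).subgroupOf N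
          from hy.1))
      refine le_trans (le_inf inf_le_left ?_) h1
      exact inf_le_right.trans ((centralizer_le (hUS.trans hSR)).trans
        (centralizer_le_normalizer _))
    refine hUn (hsub N (fun ht => ?_) T hJn (hasNormalPComplement_of_le (centralizer_le hZS) hZ))
    have h1 : (P : Subgroup G).subgroupOf N = (T : Subgroup N) :=
      T.3 (P.2.comap_subtype (K := N)) (by rw [hTS]; exact fun y hy => hSR hy)
    have h2 : (⟨x, ht ▸ mem_top x⟩ : N) ∈ (P : Subgroup G).subgroupOf N := hxP
    rw [h1] at h2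
    exact hxS (mem_map_of_mem N.subtype h2)
  have hPN : (P : Subgroup G) ≤ N := hSP ▸ hSN
  have hNtop : N = ⊤ := by
    by_contra hne
    refine hUn (hsub N hne T ?_ ?_) <;> rw [← hS, hSP]
    · exact hJ
    · exact hZ
  set O := pCore p G with hO
  have hUn' : U.Normal := normalizer_eq_top_iff.mp hNtop
  have hUO : U ≤ O := Core.le_pCore hU
  have hOp : IsPGroup p O := Core.pCore_isPGroup
  have hO1 : O ≠ ⊥ := fun h => hU1 (le_bot_iff.mp (h ▸ hUO))
  have hOP : O ≤ (P : Subgroup G) := Core.pCore_le_sylow P
  have hloc : ∀ W : Subgroup G, IsPGroup p W → Nat.card O < Nat.card W →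
      (P : Subgroup G) ≤ normalizer (W : Set G) →
      HasNormalPComplement p (normalizer (W : Set G)) := by
    intro W hW hlt hPW
    by_contra hc
    have hW1 : W ≠ ⊥ := fun h => by
      rw [h, card_bot] at hlt
      exact absurd hlt (not_lt.mpr Nat.card_pos)
    have h1 := hUmax W hW hW1 hc
    have h2 : (Nat.card (normalizer (W : Set G))).factorization p =
        (Nat.card N).factorization p := by
      refine le_antisymm h1.1 ((hpp.pow_dvd_iff_le_factorization Nat.card_pos.ne').mp ?_)
      rw [hNtop, card_top, ← P.card_eq_multiplicity]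
      exact card_dvd_of_le hPW
    have h3 := h1.2 h2
    have h4 : Nat.card U ≤ Nat.card O := Nat.le_of_dvd Nat.card_pos (card_dvd_of_le hUO)
    omega
  -- `G / O` has a normal complement
  set f := QuotientGroup.mk' O with hf
  have hfs := QuotientGroup.mk'_surjective O
  have hfker : f.ker = O := QuotientGroup.ker_mk' O
  have hfO : ∀ y ∈ O, f y = 1 := fun y hy => (QuotientGroup.eq_one_iff y).mpr hy
  have hcomap : ∀ X : Subgroup (G ⧸ O), O ≤ X.comap f := fun X y hy =>
    mem_comap.mpr ((hfO y hy).symm ▸ one_mem X)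
  have hQ : HasNormalPComplement p (G ⧸ O) := by
    rcases eq_or_ne ((P : Subgroup G).map f) ⊥ with h | h
    · refine hasNormalPComplement_of_coprime (Nat.Coprime.symm ?_)
      refine hpp.coprime_iff_not_dvd.mpr fun hd => ?_
      exact (P.mapSurjective hfs).ne_bot_of_dvd_card hd (by rw [Sylow.coe_mapSurjective, h])
    have hlift : ∀ X : Subgroup (G ⧸ O), X ≤ (P : Subgroup G).map f → X ≠ ⊥ →
        (P : Subgroup G).map f ≤ normalizer (X : Set (G ⧸ O)) →
        HasNormalPComplement p (normalizer (X : Set (G ⧸ O))) := by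
      intro X hX hX1 hXn
      have hle : O ≤ X.comap f := hcomap X
      have hlt : O < X.comap f := lt_of_le_of_ne hle fun he => hX1 (by
        rw [← map_comap_eq_self_of_surjective hfs X, ← he, Subgroup.map_eq_bot_iff, hfker])
      have hXP : X.comap f ≤ (P : Subgroup G) := by
        refine (Subgroup.comap_mono hX).trans ?_
        rw [Subgroup.comap_map_eq, hfker]
        exact sup_le le_rfl hOP
      have h1 := hloc _ (P.2.to_le hXP) (Core.card_lt_of_lt hlt)
        (fun y hy => le_normalizer_comap f (hXn (mem_map_of_mem f hy)))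
      refine hasNormalPComplement_map f h1 (fun y hy => ?_)
      obtain ⟨g, rfl⟩ := hfs y
      exact mem_map_of_mem f (le_normalizer_comap f hy)
    have hPp : IsPGroup p ((P : Subgroup G).map f) := P.2.map f
    refine IH _ ?_ (P.mapSurjective hfs) ?_ ?_
      (hodd.imp id fun h hi => h (involves_of_surjective hfs hi)) rfl
    · rw [O.card_eq_card_quotient_mul_card_subgroup]
      exact lt_mul_of_one_lt_right Nat.card_pos ((one_lt_card_iff_ne_bot O).mpr hO1)
    · rw [Sylow.coe_mapSurjective]
      exact hlift _ (thompsonSubgroupAOf_le _) (thompsonSubgroupAOf_ne_bot hPp h)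
        fun y hy => mem_normalizer_thompsonSubgroupAOf (le_normalizer hy)
    · rw [Sylow.coe_mapSurjective]
      refine hasNormalPComplement_of_le (centralizer_le_normalizer _)
        (hlift _ inf_le_left ?_ ?_)
      · intro hc
        have : Nontrivial ((P : Subgroup G).map f) := (nontrivial_iff_ne_bot _).mpr h
        have := hPp.center_nontrivial
        refine not_subsingleton (center ((P : Subgroup G).map f)) ⟨fun a b => ?_⟩
        have hz : ∀ c : center ((P : Subgroup G).map f), c = 1 := fun c => by
          refine Subtype.ext (Subtype.ext (mem_bot.mp (hc ▸ ⟨c.1.2, ?_⟩)))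
          exact mem_centralizer_iff.mpr fun y hy =>
            congrArg (fun z : (P : Subgroup G).map f => (z : G ⧸ O))
              (mem_center_iff.mp c.2 ⟨y, hy⟩)
        rw [hz a, hz b]
      · intro y hy
        rw [mem_normalizer_iff_map_conj_eq]
        have hyU : ((P : Subgroup G).map f).map (MulAut.conj y).toMonoidHom =
            (P : Subgroup G).map f := mem_normalizer_iff_map_conj_eq.mp (le_normalizer hy)
        show Subgroup.map (MulAut.conj y).toMonoidHom _ = _
        rw [map_inf_centralizer_of_inf_ker (MulAut.conj y).toMonoidHom (by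
          rw [(MonoidHom.ker_eq_bot_iff _).mpr (MulAut.conj y).injective, inf_bot_eq]), hyU]
  set Mb := pResidual p (G ⧸ O) with hMb
  have hMbc : (Nat.card Mb).Coprime p := coprime_card_pResidual_of_hasNormalPComplement hQ
  set M := Mb.comap f with hM
  have hMn : M.Normal := Normal.comap inferInstance f
  have hOM : O ≤ M := hcomap Mb
  set Pb : Subgroup (G ⧸ O) := (P : Subgroup G).map f with hPb
  have htop : Mb ⊔ Pb = ⊤ := by
    have := sylow_sup_pResidual (P.mapSurjective hfs)
    rwa [Sylow.coe_mapSurjective, sup_comm] at this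
  have hPbp : IsPGroup p Pb := P.2.map f
  have hdisj : Pb ⊓ Mb = ⊥ := Layer.inf_eq_bot_of_isPGroup hPbp hMbc
  -- `G` is `p`-solvable
  have hsc : centralizer (O : Set G) ≤ O := by
    refine Layer.pCoreSelfCentral_of_isPSolvable ?_ hO'
    refine ⟨3, ![⊥, O, M, ⊤], rfl, rfl, ?_, ?_, ?_⟩
    · rw [Fin.monotone_iff_le_succ]
      intro i
      fin_cases i
      · exact bot_le
      · exact hOM
      · exact le_top
    · intro i
      fin_cases i
      · exact (inferInstance : (⊥ : Subgroup G).Normal)
      · exact (inferInstance : (pCore p G).Normal)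
      · exact hMn
      · exact (inferInstance : (⊤ : Subgroup G).Normal)
    · intro i
      fin_cases i
      · left
        obtain ⟨m, hm⟩ := IsPGroup.iff_card.mp hOp
        exact ⟨m, by show (⊥ : Subgroup G).relIndex O = _; rw [relIndex_bot_left, hm]⟩
      · right
        show (O.relIndex M).Coprime p
        have e := Subgroup.relIndex_ker f (K := M)
        rw [hfker] at e
        rw [e, hM, map_comap_eq_self_of_surjective hfs]
        exact hMbc
      · left
        obtain ⟨m, hm⟩ := index_pResidual_eq_pow (G := G ⧸ O) (p := p)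
        exact ⟨m, by show M.relIndex ⊤ = _; rw [relIndex_top_right, hM,
          index_comap_of_surjective _ hfs, hm]⟩
  -- minimality of `M / O`
  have hmin : ∀ X : Subgroup (G ⧸ O), X ≤ Mb → Pb ≤ normalizer (X : Set (G ⧸ O)) →
      X = ⊥ ∨ X = Mb := by
    intro X hX hXn
    rcases eq_or_ne ((X ⊔ Pb).comap f) ⊤ with ht | ht
    · right
      have ht' : X ⊔ Pb = ⊤ := by
        rw [← map_comap_eq_self_of_surjective hfs (X ⊔ Pb), ht, map_top_of_surjective f hfs]
      refine le_antisymm hX fun y hy => ?_
      have hy' : y ∈ ((X ⊔ Pb : Subgroup _) : Set (G ⧸ O)) := by rw [ht']; trivial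
      rw [coe_mul_of_right_le_normalizer_left _ _ hXn] at hy'
      obtain ⟨a, ha, b, hb, rfl⟩ := hy'
      have : b ∈ Pb ⊓ Mb := ⟨hb, by
        have := mul_mem (Subgroup.inv_mem _ (hX ha)) hy; rwa [inv_mul_cancel_left] at this⟩
      rw [hdisj, mem_bot] at this
      simpa [this] using ha
    · left
      set H := (X ⊔ Pb).comap f with hH
      have hPH : (P : Subgroup G) ≤ H := fun y hy =>
        mem_comap.mpr (mem_sup_right (mem_map_of_mem f hy))
      have hHc : HasNormalPComplement p H := by
        refine hsub H ht (P.subtype hPH) ?_ ?_ <;>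
          rw [Sylow.coe_subtype, map_subgroupOf_eq_of_le hPH]
        · exact hJ
        · exact hZ
      set K : Subgroup G := (pResidual p H).map H.subtype with hK
      have hKc : (Nat.card K).Coprime p := by
        rw [hK, card_map_of_injective H.subtype_injective]
        exact coprime_card_pResidual_of_hasNormalPComplement hHc
      have hOH : O ≤ H := hOP.trans hPH
      have hKn : O ≤ normalizer (K : Set G) := fun y hy => le_normalizer_map H.subtype
        ⟨⟨y, hOH hy⟩, (normalizer_eq_top (H := pResidual p H)).ge (mem_top _), rfl⟩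
      have hK1 : K = ⊥ := by
        refine Layer.eq_bot_of_isPGroup_of_coprime (hOp.to_le (le_trans ?_ hsc)) hKc
        rw [← commutator_eq_bot_iff_le_centralizer, commutator_comm, ← le_bot_iff,
          ← Layer.inf_eq_bot_of_isPGroup hOp hKc]
        exact le_inf (commutator_le_left _ _) (le_normalizer_iff_commutator_le_right.mp hKn)
      have hHp : IsPGroup p H := by
        have hb : pResidual p H = ⊥ := by
          rw [hK, Subgroup.map_eq_bot_iff, ker_subtype, le_bot_iff] at hK1; exact hK1
        exact (isPGroup_quotient_pResidual (p := p) (G := H)).of_equiv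
          ((QuotientGroup.quotientMulEquivOfEq hb).trans QuotientGroup.quotientBot)
      refine Layer.eq_bot_of_isPGroup_of_coprime ?_ (hMbc.coprime_dvd_left (card_dvd_of_le hX))
      have hXH : X ≤ H.map f := by
        rw [hH, map_comap_eq_self_of_surjective hfs]; exact le_sup_left
      exact (hHp.map f).to_le hXH
  have hMb1 : Mb ≠ ⊥ := by
    intro h
    refine hG (hasNormalPComplement_of_isPGroup ?_)
    have hM' : M = O := by rw [hM, h, MonoidHom.comap_bot, hfker]
    obtain ⟨m, hm⟩ := index_pResidual_eq_pow (G := G ⧸ O) (p := p)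
    obtain ⟨k, hk⟩ := IsPGroup.iff_card.mp hOp
    refine IsPGroup.of_card (n := k + m) ?_
    rw [← O.card_mul_index, ← hM', hM, index_comap_of_surjective _ hfs, hm, ← hM, hM', hk, pow_add]
  -- `M / O` is abelian
  have hMbcomm : IsMulCommutative Mb := by
    obtain ⟨q, hq, hqd⟩ := Nat.exists_prime_and_dvd
      (fun h => hMb1 (eq_bot_of_card_eq Mb h))
    have := Fact.mk hq
    obtain ⟨Y, hY⟩ := Coprime.exists_invariant_sylow (A := Pb) (K := Mb) le_normalizer_of_normal
      (Layer.coprime_card_of_isPGroup hPbp hMbc) (Or.inl (Layer.isSolvable_of_isPGroup hPbp)) q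
    have hYtop : (Y : Subgroup Mb).map Mb.subtype = Mb := by
      refine (hmin _ (map_subtype_le _) hY).resolve_left fun h => ?_
      rw [Subgroup.map_eq_bot_iff, ker_subtype, le_bot_iff] at h
      exact Y.ne_bot_of_dvd_card hqd h
    have hMq : IsPGroup q Mb := hYtop ▸ (Y.2.map Mb.subtype)
    rcases hmin ⁅Mb, Mb⁆ (commutator_le_self Mb) le_normalizer_of_normal with h | h
    · exact ⟨⟨fun a b => Subtype.ext (commutatorElement_eq_one_iff_mul_comm.mp
        (mem_bot.mp (h ▸ commutator_mem_commutator a.2 b.2)))⟩⟩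
    · exact absurd h (isPGroup_commutator_lt hMq hMb1).ne
  -- a complement `Q` of `O` in `M`
  obtain ⟨Q, hQM, hQc, hMQ⟩ : ∃ Q ≤ M, (Nat.card Q).Coprime p ∧ O ⊔ Q = M := by
    have hcard : Nat.card (O.subgroupOf M) = Nat.card O :=
      Nat.card_congr (subgroupOfEquivOfLe hOM).toEquiv
    have hidx : (O.subgroupOf M).index = Nat.card Mb := by
      show O.relIndex M = _
      have e := Subgroup.relIndex_ker f (K := M)
      rw [hfker] at e
      rw [e, hM, map_comap_eq_self_of_surjective hfs]
    obtain ⟨k, hk⟩ := IsPGroup.iff_card.mp hOp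
    obtain ⟨Y, hY⟩ := exists_right_complement'_of_coprime (N := O.subgroupOf M)
      (by rw [hcard, hidx, hk]; exact (hMbc.pow_right k).symm)
    refine ⟨Y.map M.subtype, map_subtype_le _, ?_, ?_⟩
    · rw [card_map_of_injective M.subtype_injective, ← hY.symm.index_eq_card, hidx]
      exact hMbc
    · have h1 := congrArg (Subgroup.map M.subtype) hY.sup_eq_top
      rwa [Subgroup.map_sup, subgroupOf_map_subtype, inf_of_le_left hOM,
        ← MonoidHom.range_eq_map, range_subtype] at h1
  have hQO : Q ⊓ O = ⊥ := by rw [inf_comm]; exact Layer.inf_eq_bot_of_isPGroup hOp hQc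
  have hfM : M.map f = Mb := map_comap_eq_self_of_surjective hfs _
  have hfinj : ∀ y ∈ Q, f y = 1 → y = 1 := fun y hy hy1 =>
    mem_bot.mp (hQO ▸ (⟨hy, hfker ▸ (MonoidHom.mem_ker.mpr hy1)⟩ : y ∈ Q ⊓ O))
  have hQcomm : IsMulCommutative Q := by
    refine ⟨⟨fun a b => Subtype.ext (commutatorElement_eq_one_iff_mul_comm.mp (hfinj _ ?_ ?_))⟩⟩
    · exact commutator_le_self Q (commutator_mem_commutator a.2 b.2)
    · rw [map_commutatorElement, commutatorElement_eq_one_iff_mul_comm]
      exact congrArg (fun z : Mb => (z : G ⧸ O))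
        (hMbcomm.is_comm.comm ⟨f a, hQM a.2⟩ ⟨f b, hQM b.2⟩)
  -- elements of `P` centralising `M / O`
  have hcent : ∀ x ∈ (P : Subgroup G), (∀ y ∈ Mb, f x * y = y * f x) → x ∈ O := by
    intro x hx hxc
    set D := Pb ⊓ centralizer (Mb : Set (G ⧸ O)) with hD
    have hDn : D.Normal := by
      rw [← normalizer_eq_top_iff, eq_top_iff, ← htop]
      refine sup_le ?_ ?_
      · exact (le_centralizer_iff.mp (inf_le_right : D ≤ centralizer (Mb : Set (G ⧸ O)))).trans
          (centralizer_le_normalizer _)
      · intro y hy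
        rw [mem_normalizer_iff]
        intro z
        have hn : (centralizer (Mb : Set (G ⧸ O))).Normal := normal_centralizer
        rw [hD, mem_inf, mem_inf, mem_normalizer_iff.mp (le_normalizer hy) z,
          hn.mem_comm_iff (a := y * z) (b := y⁻¹), inv_mul_cancel_left]
    have h1 : f x ∈ D := ⟨mem_map_of_mem f hx, mem_centralizer_iff.mpr fun y hy => (hxc y hy).symm⟩
    have h2 := Core.le_pCore (hN := hDn) (hPbp.to_le inf_le_left) h1
    have h3 : pCore p (G ⧸ O) = ⊥ := Core.pCore_quotient_eq_bot
    rw [h3, mem_bot] at h2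
    exact (QuotientGroup.eq_one_iff x).mp h2
  set ZO := O ⊓ centralizer (O : Set G) with hZO
  set V := omegaOne p ZO with hV
  have hVn : V.Normal := Thompson.omegaCenter_normal O
  have hVZ : V ≤ ZO := Thompson.omegaOne_le p ZO
  have hVea : IsElementaryAbelian p V := Thompson.omegaOne_centre_ea p O
  set C := centralizer (V : Set G) with hC
  have hCn : C.Normal := normal_centralizer
  have hOC : O ≤ C := le_centralizer_iff.mp (hVZ.trans inf_le_right)
  have hCM : ∀ y ∈ C, y ∈ M → y ∈ O := by
    rcases hmin ((C ⊓ M).map f) (hfM ▸ Subgroup.map_mono inf_le_right) (fun z hz => by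
      have : ((C ⊓ M).map f).Normal := Normal.map inferInstance f hfs
      exact le_normalizer_of_normal hz) with h | h
    · intro y hy hyM
      refine (QuotientGroup.eq_one_iff y).mp ?_
      exact mem_bot.mp (h ▸ mem_map_of_mem f (⟨hy, hyM⟩ : y ∈ C ⊓ M))
    · exfalso
      have hMC : M ≤ C := by
        intro y hy
        obtain ⟨z, hz, hzy⟩ : f y ∈ (C ⊓ M).map f := h.symm ▸ mem_comap.mp hy
        have : z⁻¹ * y ∈ O := by
          refine (QuotientGroup.eq_one_iff _).mp ?_
          show f (z⁻¹ * y) = 1
          rw [map_mul, map_inv, hzy, inv_mul_cancel]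
        simpa using mul_mem hz.1 (hOC this)
      have hZOc : IsMulCommutative ZO :=
        ⟨⟨fun a b => Subtype.ext (mem_centralizer_iff.mp b.2.2 a a.2.1)⟩⟩
      have hQZ : Q ≤ centralizer (ZO : Set G) := by
        have hZn : ZO.Normal := inferInstance
        refine Coprime.le_centralizer_of_fixes_prime_order le_normalizer_of_normal
          (Layer.coprime_card_of_isPGroup (hOp.to_le inf_le_left) hQc).symm fun v hv hvo a ha => ?_
        obtain ⟨k, hk⟩ := IsPGroup.iff_orderOf.mp (hOp.to_le (inf_le_left : ZO ≤ O)) ⟨v, hv⟩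
        rw [Subgroup.orderOf_mk] at hk
        have hvp : v ^ p = 1 := by
          rcases k with _ | k
          · rw [hk, pow_zero] at hvo; exact absurd hvo Nat.not_prime_one
          · rcases k with _ | k
            · rw [← pow_one p, ← hk, pow_orderOf_eq_one]
            · exact absurd (hk ▸ hvo) (Nat.Prime.not_prime_pow (by omega))
        exact (mem_centralizer_iff.mp (hMC (hQM ha)) v (Thompson.mem_omegaOne hv hvp)).symm
      have hZP : (P : Subgroup G) ⊓ centralizer ((P : Subgroup G) : Set G) ≤ ZO :=
        le_inf (inf_le_right.trans ((centralizer_le hOP).trans hsc))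
          (inf_le_right.trans (centralizer_le hOP))
      have htopC : centralizer (((P : Subgroup G) ⊓ centralizer ((P : Subgroup G) : Set G) : Subgroup G) : Set G)
          = ⊤ := by
        rw [eq_top_iff]
        have hMP : M ⊔ (P : Subgroup G) = ⊤ := by
          rw [eq_top_iff]
          intro y _
          have hy : f y ∈ ((Mb ⊔ Pb : Subgroup _) : Set (G ⧸ O)) := by rw [htop]; trivial
          rw [normal_mul] at hy
          obtain ⟨a, ha, _, ⟨b, hb, rfl⟩, hab⟩ := hy
          have h1 : y * b⁻¹ ∈ M := by
            rw [hM, mem_comap, map_mul, map_inv, ← hab, mul_inv_cancel_right]; exact ha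
          simpa using mul_mem (mem_sup_left h1 : y * b⁻¹ ∈ M ⊔ (P : Subgroup G)) (mem_sup_right hb)
        rw [← hMP, ← hMQ]
        refine sup_le (sup_le ?_ (hQZ.trans (centralizer_le hZP))) ?_
        · exact hOP.trans (le_centralizer_iff.mp inf_le_right)
        · exact le_centralizer_iff.mp inf_le_right
      rw [htopC] at hZ
      exact hG ((hasNormalPComplement_congr topEquiv).mp hZ)
  have hQf : Q ⊓ C = ⊥ := by
    rw [eq_bot_iff, ← hQO]
    exact fun y hy => ⟨hy.1, hCM y hy.2 (hQM hy.1)⟩
  have hPC : ∀ x ∈ (P : Subgroup G), x ∈ C → x ∈ O := by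
    intro x hx hxC
    refine hcent x hx ?_
    intro y hy
    obtain ⟨z, hz, rfl⟩ : y ∈ M.map f := hfM.symm ▸ hy
    have h1 : ⁅x, z⁆ ∈ O := hCM _
      (commutator_le_left C M (commutator_mem_commutator hxC hz))
      (commutator_le_right C M (commutator_mem_commutator hxC hz))
    have h1' := hfO _ h1
    rw [map_commutatorElement, commutatorElement_eq_one_iff_mul_comm] at h1'
    exact h1'
  -- a largest abelian subgroup outside `O`
  obtain ⟨A, hA, hAO⟩ : ∃ A, Fusion.AbMax 0 (P : Subgroup G) A ∧ ¬ A ≤ O := by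
    by_contra hno
    push Not at hno
    have h1 : thompsonSubgroupAOf (P : Subgroup G) = thompsonSubgroupAOf O := by
      rw [thompsonSubgroupAOf_eq, thompsonSubgroupAOf_eq]
      obtain ⟨A₁, hA₁⟩ := exists_abMax 0 (P : Subgroup G)
      congr 1
      ext A
      constructor
      · intro (hA : AbMax 0 (P : Subgroup G) A)
        exact ⟨⟨hno A hA, hA.comm, hA.exp⟩, fun B hB => hA.max B ⟨hB.le.trans hOP, hB.comm, hB.exp⟩⟩
      · intro (hA : AbMax 0 O A)
        exact ⟨⟨hA.le.trans hOP, hA.comm, hA.exp⟩, fun B hB =>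
          (hA₁.max B hB).trans (hA.max A₁ ⟨hno A₁ hA₁, hA₁.comm, hA₁.exp⟩)⟩
    rw [h1] at hJ
    have h2 : normalizer (thompsonSubgroupAOf O : Set G) = ⊤ :=
      eq_top_iff.mpr fun g _ =>
        mem_normalizer_thompsonSubgroupAOf ((normalizer_eq_top (H := O)).ge (mem_top g))
    rw [h2] at hJ
    exact hG ((hasNormalPComplement_congr topEquiv).mp hJ)
  have hAP : A ≤ (P : Subgroup G) := hA.le
  have hAc : ∀ {x y : G}, x ∈ A → y ∈ A → x * y = y * x := fun hx hy =>
    (commute_of_isMulCommutative hA.comm hx hy).eq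
  set A₀ := (A ⊔ O) ⊓ normalizer (Q : Set G) with hA₀
  have hA₀P : A₀ ≤ (P : Subgroup G) := inf_le_left.trans (sup_le hAP hOP)
  have hfrat : ∀ g : G, ∃ k ∈ O, k * g ∈ normalizer (Q : Set G) := by
    intro g
    have hB : Q.map (MulAut.conj g).toMonoidHom ≤ O ⊔ Q := by
      rw [hMQ]
      rintro _ ⟨y, hy, rfl⟩
      exact hMn.conj_mem y (hQM hy) g
    obtain ⟨k, hk, hkg⟩ := Coprime.exists_conj_eq (A := Q) (K := O) le_normalizer_of_normal
      (Layer.coprime_card_of_isPGroup hOp hQc).symm (Or.inr (Layer.isSolvable_of_isPGroup hOp)) hB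
      (card_map_of_injective (MulAut.conj g).injective)
    refine ⟨k, hk, Coprime.mem_normalizer_of_conj_smul_eq ?_⟩
    rw [map_mul, mul_smul, Coprime.conj_smul_eq_map g Q, hkg]
  have hA₀mem : ∀ a ∈ A, ∃ k ∈ O, k * a ∈ A₀ := fun a ha => by
    obtain ⟨k, hk, hka⟩ := hfrat a
    exact ⟨k, hk, mul_mem (mem_sup_right hk) (mem_sup_left ha), hka⟩
  set π := QuotientGroup.mk' C with hπ
  have hπO : ∀ k ∈ O, π k = 1 := fun k hk => (QuotientGroup.eq_one_iff k).mpr (hOC hk)
  have himage : A₀.map π = A.map π := by
    refine le_antisymm ?_ ?_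
    · rintro _ ⟨y, hy, rfl⟩
      have hy' : y ∈ ((A ⊔ O : Subgroup G) : Set G) := hy.1
      rw [mul_normal] at hy'
      obtain ⟨a, ha, k, hk, rfl⟩ := hy'
      exact ⟨a, ha, by rw [map_mul, hπO k hk, mul_one]⟩
    · rintro _ ⟨a, ha, rfl⟩
      obtain ⟨k, hk, hka⟩ := hA₀mem a ha
      exact ⟨k * a, hka, by rw [map_mul, hπO k hk, one_mul]⟩
  have hπA : ∀ y ∈ A₀, ∃ a ∈ A, π a = π y := fun y hy => by
    obtain ⟨a, ha, h⟩ := himage.le (mem_map_of_mem π hy)
    exact ⟨a, ha, h⟩
  have hlt := relIndex_lt_of_s4_free hodd A₀ V Q hVea (P.2.to_le hA₀P)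
    le_normalizer_of_normal le_normalizer_of_normal inf_le_right hQcomm hQc hQf
    (by
      rw [commutator_le]
      intro a ha b hb
      obtain ⟨a', ha', ea⟩ := hπA a ha
      obtain ⟨b', hb', eb⟩ := hπA b hb
      rw [← QuotientGroup.eq_one_iff]
      show π ⁅a, b⁆ = 1
      rw [map_commutatorElement, ← ea, ← eb, ← map_commutatorElement,
        commutatorElement_eq_one_iff_mul_comm.mpr (hAc ha' hb'), map_one])
    (by
      intro x hx
      refine hOC (hcent x (hA₀P hx.1) fun y hy => ?_)
      obtain ⟨z, hz, rfl⟩ : y ∈ M.map f := hfM.symm ▸ hy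
      rw [← hMQ] at hz
      have hz' : z ∈ ((O ⊔ Q : Subgroup G) : Set G) := hz
      rw [normal_mul] at hz'
      obtain ⟨k, hk, r, hr, rfl⟩ := hz'
      rw [map_mul, (MonoidHom.mem_ker.mp (hfker.symm ▸ hk : k ∈ f.ker)), one_mul, ← map_mul,
        ← map_mul, mem_centralizer_iff.mp hx.2 r hr])
    (by
      intro hle
      refine hAO fun a ha => ?_
      obtain ⟨k, hk, hka⟩ := hA₀mem a ha
      refine hPC a (hAP ha) ?_
      have := mul_mem (Subgroup.inv_mem _ (hOC hk)) (hle hka)
      rwa [inv_mul_cancel_left] at this)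
  -- compare with the maximality of `A`
  set B := (A ⊓ C) ⊔ V with hB
  have hVC : V ≤ C := (hVZ.trans inf_le_left).trans hOC
  have hBc : IsMulCommutative B := by
    have h0 : ∀ {K : Subgroup G}, IsMulCommutative K → K ≤ centralizer (K : Set G) := fun hK x hx =>
      mem_centralizer_iff.mpr fun y hy => (commute_of_isMulCommutative hK hy hx).eq
    have hle : B ≤ centralizer (B : Set G) := by
      refine sup_le ?_ ?_ <;> rw [le_centralizer_iff] <;> refine sup_le ?_ ?_
      · exact le_centralizer_iff.mp (inf_le_left.trans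
          ((h0 hA.comm).trans (centralizer_le inf_le_left)))
      · exact le_centralizer_iff.mp (inf_le_right : A ⊓ C ≤ C)
      · exact inf_le_right
      · exact h0 hVea.1
    exact isMulCommutative_of_forall fun x hx y hy => (mem_centralizer_iff.mp (hle hy) x hx)
  have h1 := hA.max B ⟨sup_le (inf_le_left.trans hAP) ((hVZ.trans inf_le_left).trans hOP), hBc,
    fun a _ => pow_zero a⟩
  have h2 := Core.card_sup_mul_card_inf (A ⊓ C) V
  rw [inf_assoc, inf_eq_right.mpr hVC] at h2
  have hC1 : Nat.card (A ⊓ C : Subgroup G) * C.relIndex A = Nat.card A := by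
    rw [← inf_relIndex_right C A, inf_comm C A, ← relIndex_bot_left, ← relIndex_bot_left,
      relIndex_mul_relIndex _ _ _ bot_le inf_le_left]
  have hV1 : Nat.card (A ⊓ V : Subgroup G) * A.relIndex V = Nat.card V := by
    rw [← inf_relIndex_right A V, ← relIndex_bot_left, ← relIndex_bot_left,
      relIndex_mul_relIndex _ _ _ bot_le inf_le_right]
  have h3 : A.relIndex V ≤ C.relIndex A := by
    rw [← hV1, ← hB] at h2
    have hpos : 0 < Nat.card (A ⊓ V : Subgroup G) := Nat.card_pos
    have hpos' : 0 < Nat.card (A ⊓ C : Subgroup G) := Nat.card_pos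
    refine Nat.le_of_mul_le_mul_left ?_ hpos'
    rw [hC1]
    refine le_trans (le_of_eq ?_) h1
    refine (Nat.eq_of_mul_eq_mul_right hpos ?_).symm
    rw [h2]; ring
  have h4 : (centralizer (A₀ : Set G)).relIndex V ∣ A.relIndex V := by
    rw [← inf_relIndex_right A V]
    refine relIndex_dvd_of_le_left V fun v hv => mem_centralizer_iff.mpr fun y hy => ?_
    have hy' : y ∈ ((A ⊔ O : Subgroup G) : Set G) := hy.1
    rw [mul_normal] at hy'
    obtain ⟨a, ha, k, hk, rfl⟩ := hy'
    have e1 : a * v = v * a :=
      hAc ha hv.1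
    have e2 : k * v = v * k := (mem_centralizer_iff.mp (hOC hk) v hv.2).symm
    rw [mul_assoc, e2, ← mul_assoc, e1, mul_assoc]
  have h5 : C.relIndex A₀ = C.relIndex A := by
    have e := fun L : Subgroup G => Subgroup.relIndex_ker π (K := L)
    simp only [hπ, QuotientGroup.ker_mk'] at e
    rw [e, e, ← hπ, himage]
  have h6 := Nat.le_of_dvd (Nat.pos_of_ne_zero index_ne_zero_of_finite) h4
  rw [← hC, h5] at hlt
  exact absurd (lt_of_lt_of_le hlt (h6.trans h3)) (lt_irrefl _)

end Cfsg.Agent.FusSys
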