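import Cfsg.Agent.FusSys.ThompsonA
import Cfsg.Agent.FusSys.GT

/-!
Thompson's criterion for fusion systems.
-/

set_option autoImplicit false

namespace Cfsg.Agent.FusSys

open Cfsg Cfsg.FusionSystem

universe u

variable {Ω : Type u} [Group Ω] {S : Subgroup Ω} {F : FusionSystem S} {p : ℕ}

/-- The centre as a functor. -/
def zW (Q : Type u) [Group Q] : Subgroup Q := Subgroup.center Q

theorem posFunctor_zW [Fact p.Prime] : PosFunctor.{u} p zW := by
  refine ⟨fun Q _ _ hQ hn h => ?_, fun Q R _ _ _ _ φ => ?_⟩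
  · haveI := hn
    haveI := hQ.center_nontrivial
    exact (Subgroup.nontrivial_iff_ne_bot _).1 (inferInstance : Nontrivial (Subgroup.center Q)) h
  · ext y
    constructor
    · rintro ⟨x, hx, rfl⟩
      refine Subgroup.mem_center_iff.2 fun z => ?_
      obtain ⟨w, rfl⟩ := φ.surjective z
      show φ w * φ x = φ x * φ w
      rw [← map_mul, ← map_mul, Subgroup.mem_center_iff.1 hx w]
    · intro hy
      refine ⟨φ.symm y, Subgroup.mem_center_iff.2 fun z => φ.injective ?_, φ.apply_symm_apply y⟩
      rw [map_mul, map_mul, φ.apply_symm_apply]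
      exact Subgroup.mem_center_iff.1 hy _

theorem wsub_zW (S : Subgroup Ω) : wsub zW S = S ⊓ Subgroup.centralizer (S : Set Ω) := by
  ext x
  constructor
  · rintro ⟨z, hz, rfl⟩
    exact ⟨z.2, Subgroup.mem_centralizer_iff.2 fun y hy =>
      congrArg Subtype.val (Subgroup.mem_center_iff.1 hz ⟨y, hy⟩)⟩
  · rintro ⟨hx, hxc⟩
    exact ⟨⟨x, hx⟩, Subgroup.mem_center_iff.2 fun y =>
      Subtype.ext (Subgroup.mem_centralizer_iff.1 hxc y y.2), rfl⟩

/-- The hypothesis of Thompson's criterion. -/
def THyp {Ω : Type u} [Group Ω] {S : Subgroup Ω} (F : FusionSystem S) : Prop :=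
  InnerAt F (thompsonSubgroupAOf S) ∧ CInnerAt F (S ⊓ Subgroup.centralizer (S : Set Ω))

theorem innerCond_thompson [Fact p.Prime] :
    InnerCond.{u} p (fun {Ω} _ {S} F => p ≠ 2 ∨ F.IsSectionFree p (Equiv.Perm (Fin 4)))
      (fun {Ω} _ {S} F => THyp F) where
  mono {Ω} _ {S} {T} F D hT hD h := by
    subst hT
    exact ⟨innerAt_of_subsystem rfl hD h.1, cInnerAt_of_subsystem rfl hD h.2⟩
  good {Ω} _ {S} _ F hS _ hne h := by
    refine ⟨?_, ?_⟩
    · rw [← wsub_jW]
      exact h _ (wsub_le _ S) (wsub_ne_bot posFunctor_jW hS hne)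
        (wsub_characteristic posFunctor_jW hS)
    · rw [← wsub_zW]
      exact (h _ (wsub_le _ S) (wsub_ne_bot posFunctor_zW hS hne)
        (wsub_characteristic posFunctor_zW hS)).cInnerAt
  centric {Ω} _ {S} _ F hS hF hfree Q hQn hQc h := by
    obtain ⟨L, hL, ι, hι, -⟩ := exists_model hS hF hQn hQc
    haveI : Finite L := hι.1
    obtain ⟨P, hP⟩ := hι.2.2.1
    have hinj := hι.2.1.1
    have himg : ∀ {W : ∀ (Q : Type u) [Group Q], Subgroup Q}, PosFunctor p W →
        ((wsub W S).subgroupOf S).map ι = wsub W (P : Subgroup L) := fun {W} hW => by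
      let e : S ≃* (P : Subgroup L) :=
        (MonoidHom.ofInjective hinj).trans (MulEquiv.subgroupCongr hP.symm)
      rw [wsub, wsub, Subgroup.subgroupOf,
        Subgroup.comap_map_eq_self_of_injective S.subtype_injective,
        ← hW.map_eq S _ hS e, Subgroup.map_map]
      rfl
    have hJ : Subgroup.normalizer (thompsonSubgroupAOf (P : Subgroup L) : Set L) ≤ P := fun l hl => by
      rw [hP]
      rw [← wsub_jW, ← himg posFunctor_jW, wsub_jW] at hl
      exact model_normalizer_le hι hQn hQc (thompsonSubgroupAOf_le S) (fun s hs => by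
        rw [← wsub_jW]
        exact (normalizerIn_le_normalizerIn_wsub posFunctor_jW le_rfl hS
          (le_normalizerIn le_rfl hs)).2) h.1 hl
    have hZ : Subgroup.centralizer (((P : Subgroup L) ⊓
        Subgroup.centralizer ((P : Subgroup L) : Set L) : Subgroup L) : Set L) ≤ P := fun l hl => by
      rw [hP]
      rw [← wsub_zW, ← himg posFunctor_zW, wsub_zW] at hl
      exact model_centralizer_le hι hQn hQc inf_le_left
        (Subgroup.le_centralizer_iff.1 inf_le_right) h.2 hl
    have hc := hasNormalPComplement_of_thompsonA P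
      (Fusion.hasNormalPComplement_of_isPGroup (P.2.to_le hJ))
      (Fusion.hasNormalPComplement_of_isPGroup (P.2.to_le hZ))
      (hfree.imp id fun hf => not_involves_model hS hF hf hQn hQc hι)
    have hp := KInf.isPGroup_of_selfCentral_of_complement hι.2.2.2 hc
    refine allInner_of_model_range hι.2.1 fun l => ?_
    rw [← hP, ← P.3 (hp.to_subgroup ⊤) le_top]
    exact Subgroup.mem_top l

/-- Thompson's criterion for fusion systems. -/
theorem allInner_of_thompson [Fact p.Prime] [Finite S] (hS : IsPGroup p S) (hF : F.IsSaturated p)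
    (hp : p ≠ 2 ∨ F.IsSectionFree p (Equiv.Perm (Fin 4)))
    (hJ : InnerAt F (thompsonSubgroupAOf S))
    (hZ : CInnerAt F (S ⊓ Subgroup.centralizer (S : Set Ω))) : AllInner F :=
  allInner_of_cond (hereditary_free _) innerCond_thompson hS hF hp ⟨hJ, hZ⟩

end Cfsg.Agent.FusSys
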