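import Cfsg.Agent.FusSys.Tate
import Cfsg.Agent.FusSys.Hyperfocal
import Mathlib.Data.ZMod.Units
import Mathlib.GroupTheory.Index

/-!
The transfer lemma of Thompson for saturated systems over 2-groups.
-/

set_option autoImplicit false

namespace Cfsg.Agent.FusSys

open Cfsg Cfsg.FusionSystem

universe u

variable {Ω : Type u} [Group Ω] {S : Subgroup Ω} {F : FusionSystem S}

theorem eq_one_or_eq_of_orderOf_two {i x : Ω} (hi : orderOf i = 2)
    (hx : x ∈ Subgroup.zpowers i) : x = 1 ∨ x = i := by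
  obtain ⟨k, rfl⟩ := hx
  have h2 : i ^ (2 : ℕ) = 1 := by rw [← hi]; exact pow_orderOf_eq_one i
  rcases Int.even_or_odd k with ⟨m, rfl⟩ | ⟨m, rfl⟩
  · left
    show i ^ (m + m) = 1
    rw [← two_mul, zpow_mul, zpow_ofNat, h2, one_zpow]
  · right
    show i ^ (2 * m + 1) = i
    rw [zpow_add_one, zpow_mul, zpow_ofNat, h2, one_zpow, one_mul]

theorem normalizer_zpowers_of_two {j : Ω} (hj : orderOf j = 2) :
    normalizerIn S (Subgroup.zpowers j) = S ⊓ Subgroup.centralizer ({j} : Set Ω) := by
  ext g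
  refine and_congr_right fun _ => ?_
  show g ∈ Subgroup.normalizer _ ↔ g ∈ Subgroup.centralizer _
  rw [Subgroup.mem_centralizer_singleton_iff]
  constructor
  · intro h
    have h1 := (Subgroup.mem_normalizer_iff.1 h j).1 (Subgroup.mem_zpowers j)
    rcases eq_one_or_eq_of_orderOf_two hj h1 with h2 | h2
    · rw [conj_eq_one_iff] at h2
      rw [h2, orderOf_one] at hj
      exact absurd hj (by decide)
    · exact mul_inv_eq_iff_eq_mul.1 h2
  · intro h
    refine Subgroup.mem_normalizer_iff.2 fun x => ⟨fun hx => ?_, fun hx => ?_⟩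
    · rcases eq_one_or_eq_of_orderOf_two hj hx with rfl | rfl
      · simp
      · rw [h, mul_inv_cancel_right]; exact Subgroup.mem_zpowers _
    · rcases eq_one_or_eq_of_orderOf_two hj hx with h2 | h2
      · rw [conj_eq_one_iff] at h2
        rw [h2]; exact Subgroup.one_mem _
      · have : x = j := by
          have h3 : g * x = j * g := mul_inv_eq_iff_eq_mul.1 h2
          rw [← h] at h3
          exact mul_left_cancel h3
        rw [this]; exact Subgroup.mem_zpowers j

variable [Finite S] (hS : IsPGroup 2 S) (hF : F.IsSaturated 2)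
include hS hF

theorem not_mem_hyperfocal_of_transfer {T : Subgroup Ω} (hT : T.relIndex S = 2) {i : Ω}
    (hi : i ∈ S) (hi2 : orderOf i = 2)
    (h : ∀ j : Ω, F.IsConjElt i j → F.IsFullyNormalized (Subgroup.zpowers j) → j ∉ T) :
    i ∉ F.hyperfocalSubgroup 2 := by
  classical
  haveI : Fact (Nat.Prime 2) := ⟨Nat.prime_two⟩
  have hT2 : (T.subgroupOf S).index = 2 := hT
  haveI : (T.subgroupOf S).Normal := Subgroup.normal_of_index_eq_two hT2
  -- the character
  let χ : S →* ℤˣ :=
    { toFun := fun x => if (x : Ω) ∈ T then 1 else -1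
      map_one' := if_pos T.one_mem
      map_mul' := fun x y => by
        have hxy := Subgroup.mul_mem_iff_of_index_two hT2 (a := x) (b := y)
        simp only [Subgroup.mem_subgroupOf, Subgroup.coe_mul] at hxy
        by_cases hx : (x : Ω) ∈ T <;> by_cases hy : (y : Ω) ∈ T <;>
          simp [hx, hy, hxy] }
  obtain ⟨B, hB⟩ := exists_bisetData_above hS hF (⊤ : Subgroup S) le_top
  have hc : ∀ k ∈ (⊤ : Subgroup S), ∀ x, χ (k * x) = χ k * χ x := fun k _ x => map_mul χ k x
  have hinv : ∀ k ∈ (⊤ : Subgroup S), ∀ x, χ (x * k * x⁻¹) = χ k := fun k _ x => by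
    rw [map_mul, map_mul, map_inv, mul_comm (χ x), mul_inv_cancel_right]
  let τ : S →* ℤˣ := MonoidHom.mk' (B.tr χ) fun u v => by
    rw [B.tr_mul hc hinv, map_mul, div_self', one_pow, mul_one]
  have hst : ∀ R f, Mor F R f → ∀ u w : S, (u : Ω) ∈ R → (w : Ω) = f u → τ w = τ u :=
    fun R f hf u w hu hw => B.tr_stable hc hinv hf hu hw (Subgroup.mem_top _) (Subgroup.mem_top _)
  have hfoc := (hom_focal_iff hS hF).2 hst
  -- a fully normalized conjugate
  obtain ⟨Q, hQ, hQn⟩ := exists_fullyNormalized_conj (F := F) (Subgroup.zpowers_le.2 hi)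
  obtain ⟨φ, hφ, hφQ⟩ := hQ
  obtain ⟨u, hu⟩ : ∃ u : S, (u : Ω) = φ ⟨i, Subgroup.mem_zpowers i⟩ :=
    ⟨⟨_, (F.le_of_mem hφ).2 _⟩, rfl⟩
  have huQ : Subgroup.zpowers (u : Ω) = Q := by
    rw [hu, ← hφQ]
    refine le_antisymm (Subgroup.zpowers_le.2 ⟨_, rfl⟩) ?_
    rintro _ ⟨⟨z, k, rfl⟩, rfl⟩
    exact ⟨k, (map_zpow φ (⟨i, Subgroup.mem_zpowers i⟩ : Subgroup.zpowers i) k).symm⟩
  have hconj_i : F.IsConjElt i u := ⟨φ, hφ, hu.symm⟩
  have hu2 : orderOf (u : Ω) = 2 := by
    rw [hu, orderOf_injective φ (F.injective_of_mem hφ), ← Subgroup.orderOf_coe]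
    exact hi2
  intro hmem
  have hone : τ u = 1 := by
    rw [hst _ _ (mor_extendFn hφ) ⟨i, hi⟩ u (Subgroup.mem_zpowers i)
      (hu.trans (extendFn_coe φ ⟨i, Subgroup.mem_zpowers i⟩).symm)]
    exact MonoidHom.mem_ker.1 (hfoc (show (⟨i, hi⟩ : S) ∈ F.focalSubgroup.subgroupOf S from
      hyperfocal_le_focal hmem))
  have huu : u * u = 1 := Subtype.ext (by
    have := pow_orderOf_eq_one (u : Ω)
    rw [hu2, pow_two] at this
    exact this)
  -- fixed points of `u`
  let M : Finset B.O := Finset.univ.filter fun o => u • o = o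
  have hfree : ∏ o ∈ Finset.univ.filter (fun o => ¬ u • o = o), χ (B.s u o) = 1 := by
    refine Finset.prod_involution (fun o _ => u • o) (fun o ho => ?_) (fun o ho _ => ?_)
      (fun o ho => ?_) (fun o ho => ?_)
    · rw [mul_comm, ← map_mul, ← B.cocycle, huu]
      have h1 := B.cocycle 1 1 o
      rw [one_smul, mul_one, right_eq_mul] at h1
      rw [h1, map_one]
    · simpa using (Finset.mem_filter.1 ho).2
    · simp only [Finset.mem_filter, Finset.mem_univ, true_and] at ho ⊢
      intro h2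
      exact ho ((MulAction.injective u) h2)
    · rw [smul_smul, huu, one_smul]
  let X : Type u := {o : B.O // u • o = o ∧ ((B.s u o : S) : Ω) ∈ T}
  -- the centralizer acts on `X`
  let C : Subgroup S := Subgroup.centralizer ({u} : Set S)
  have hCmem : ∀ c : C, (c : S) * u = u * c := fun c =>
    Subgroup.mem_centralizer_singleton_iff.1 c.2
  have hmove : ∀ (c : C) (o : B.O), u • o = o → u • ((c : S) • o) = (c : S) • o ∧
      B.s u ((c : S) • o) = B.s c o * B.s u o * (B.s c o)⁻¹ := by
    intro c o ho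
    have h1 : u • ((c : S) • o) = (c : S) • o := by rw [← mul_smul, ← hCmem c, mul_smul, ho]
    refine ⟨h1, ?_⟩
    have h2 := B.cocycle u c o
    rw [← hCmem c, B.cocycle, ho] at h2
    rw [h2, mul_inv_cancel_right]
  letI : MulAction C X :=
    { smul := fun c x => ⟨(c : S) • x.1, (hmove c x.1 x.2.1).1, by
        rw [(hmove c x.1 x.2.1).2]
        exact (Subgroup.Normal.conj_mem inferInstance (B.s u x.1) x.2.2 (B.s c x.1) :
          B.s c x.1 * B.s u x.1 * (B.s c x.1)⁻¹ ∈ T.subgroupOf S)⟩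
      one_smul := fun x => Subtype.ext (one_smul S x.1)
      mul_smul := fun a b x => Subtype.ext (mul_smul (a : S) (b : S) x.1) }
  have hfp : MulAction.fixedPoints C X = ∅ := by
    refine Set.eq_empty_iff_forall_notMem.2 fun x hx => ?_
    obtain ⟨o, hou, hoT⟩ := x
    have hfix : ∀ c : C, (c : S) • o = o := fun c => congrArg Subtype.val (hx c)
    obtain ⟨P, f, hf, huP, hfu⟩ := B.fixed u o hou
    refine h _ ?_ ?_ hoT
    · -- conjugate of `i`
      have h1 : Mor F (Subgroup.zpowers i) (f ∘ extendFn φ) := by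
        refine (mor_extendFn hφ).comp hf fun z hz => ?_
        rw [extendFn_apply φ hz]
        have : φ ⟨z, hz⟩ ∈ Q := hφQ ▸ ⟨_, rfl⟩
        rw [← huQ] at this
        exact Subgroup.zpowers_le.2 huP this
      obtain ⟨ψ, hψ, hψf⟩ := h1
      refine ⟨ψ, hψ, ?_⟩
      rw [hψf, Function.comp_apply, extendFn_apply φ (Subgroup.mem_zpowers i), ← hu, hfu]
    · have hv2 : orderOf ((B.s u o : S) : Ω) = 2 := by
        refine orderOf_eq_prime ?_ fun h1 => ?_
        · rw [hfu, ← hf.map_pow huP, ← hu2, pow_orderOf_eq_one, hf.map_one]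
        · rw [hfu] at h1
          have h3 : (u : Ω) = 1 := hf.injOn huP P.one_mem (h1.trans hf.map_one.symm)
          rw [h3, orderOf_one] at hu2
          exact absurd hu2 (by decide)
      have hinj : Function.Injective fun c : C => B.s c o := by
        intro a b hab
        refine Subtype.ext ?_
        have h1 := B.cocycle ((a : S) * (b : S)⁻¹) b o
        rw [inv_mul_cancel_right, hfix b] at h1
        simp only at hab
        rw [hab, right_eq_mul] at h1
        have hab' : ((a : S) * (b : S)⁻¹) • o = o := hfix (a * b⁻¹)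
        obtain ⟨P', g, hg, hP', hge⟩ := B.fixed _ o hab'
        rw [h1] at hge
        have h4 : (((a : S) * (b : S)⁻¹ : S) : Ω) = 1 :=
          hg.injOn hP' P'.one_mem (hge.symm.trans hg.map_one.symm)
        exact mul_inv_eq_one.1 (Subtype.ext h4)
      have hcent : ∀ c : C, B.s c o * B.s u o = B.s u o * B.s c o := by
        intro c
        have h1 := B.cocycle c u o
        rw [hCmem c, B.cocycle, hfix c, hou] at h1
        exact h1.symm
      refine ⟨Subgroup.zpowers_le.2 (B.s u o).2, fun R hR => ?_⟩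
      have hconjR : F.IsConj (Subgroup.zpowers (u : Ω)) R := by
        refine isConj_trans ?_ hR
        obtain ⟨ψ, hψ, hψf⟩ := hf.mono (Subgroup.zpowers_le.2 huP)
        refine ⟨ψ, hψ, le_antisymm ?_ (Subgroup.zpowers_le.2 ⟨⟨u, Subgroup.mem_zpowers _⟩, by
          rw [hψf]; exact hfu.symm⟩)⟩
        rintro _ ⟨⟨z, k, rfl⟩, rfl⟩
        refine ⟨k, ?_⟩
        show ((B.s u o : S) : Ω) ^ k = _
        rw [hfu, ← hψf ⟨u, Subgroup.mem_zpowers _⟩, ← map_zpow]
        rfl
      have hQn' : F.IsFullyNormalized (Subgroup.zpowers (u : Ω)) := huQ ▸ hQn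
      refine (hQn'.2 R hconjR).trans ?_
      rw [normalizer_zpowers_of_two hu2, normalizer_zpowers_of_two hv2]
      haveI : Finite ↥(S ⊓ Subgroup.centralizer ({((B.s u o : S) : Ω)} : Set Ω)) :=
        finite_of_le inf_le_left
      refine Nat.card_le_card_of_injective
        (fun c : ↥(S ⊓ Subgroup.centralizer ({(u : Ω)} : Set Ω)) =>
          (⟨(B.s (⟨c, c.2.1⟩ : S) o : S), (B.s _ o).2, Subgroup.mem_centralizer_singleton_iff.2
            (congrArg Subtype.val (hcent ⟨⟨c, c.2.1⟩, Subgroup.mem_centralizer_singleton_iff.2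
              (Subtype.ext (Subgroup.mem_centralizer_singleton_iff.1 c.2.2))⟩))⟩ :
            ↥(S ⊓ Subgroup.centralizer ({((B.s u o : S) : Ω)} : Set Ω)))) fun a b hab => ?_
      have h5 := hinj (a₁ := ⟨⟨a, a.2.1⟩, Subgroup.mem_centralizer_singleton_iff.2
              (Subtype.ext (Subgroup.mem_centralizer_singleton_iff.1 a.2.2))⟩)
        (a₂ := ⟨⟨b, b.2.1⟩, Subgroup.mem_centralizer_singleton_iff.2
              (Subtype.ext (Subgroup.mem_centralizer_singleton_iff.1 b.2.2))⟩)
        (Subtype.ext (congrArg Subtype.val hab :))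
      exact Subtype.ext (congrArg (fun c : C => ((c : S) : Ω)) h5)
  -- parity
  haveI : Finite X := Subtype.finite
  have hX : Nat.card X ≡ 0 [MOD 2] := by
    have h1 := (hS.to_subgroup C).card_modEq_card_fixedPoints X
    rw [hfp] at h1
    simpa using h1
  have hM : M.card ≡ Fintype.card B.O [MOD 2] := by
    have h1 := (hS.to_subgroup (Subgroup.zpowers u)).card_modEq_card_fixedPoints B.O
    rw [Nat.card_eq_fintype_card] at h1
    refine (show M.card = _ from ?_) ▸ h1.symm
    rw [Nat.card_eq_fintype_card, ← Fintype.card_coe]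
    refine Fintype.card_congr (Equiv.subtypeEquivRight fun o => ?_)
    simp only [M, Finset.mem_filter, Finset.mem_univ, true_and, MulAction.mem_fixedPoints]
    constructor
    · rintro ho ⟨g, k, rfl⟩
      exact MulAction.mem_stabilizer_iff.1 (Subgroup.zpow_mem _
        (MulAction.mem_stabilizer_iff.2 ho) k)
    · intro ho
      exact ho ⟨u, Subgroup.mem_zpowers u⟩
  have hval : τ u = (-1) ^ (M.filter fun o => ((B.s u o : S) : Ω) ∉ T).card := by
    show ∏ o : B.O, χ (B.s u o) = _
    rw [← Finset.prod_filter_mul_prod_filter_not Finset.univ (fun o => u • o = o), hfree, mul_one,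
      ← Finset.prod_filter_mul_prod_filter_not M (fun o => ((B.s u o : S) : Ω) ∈ T)]
    have e1 : ∏ o ∈ M.filter (fun o => ((B.s u o : S) : Ω) ∈ T), χ (B.s u o) = 1 :=
      Finset.prod_eq_one fun o ho => if_pos (Finset.mem_filter.1 ho).2
    have e2 : ∏ o ∈ M.filter (fun o => ((B.s u o : S) : Ω) ∉ T), χ (B.s u o) =
        (-1) ^ (M.filter fun o => ((B.s u o : S) : Ω) ∉ T).card :=
      Finset.prod_eq_pow_card fun o ho => if_neg (Finset.mem_filter.1 ho).2
    rw [e1, e2, one_mul]
  have hXc : Nat.card X = (M.filter fun o => ((B.s u o : S) : Ω) ∈ T).card := by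
    rw [Nat.card_eq_fintype_card, ← Fintype.card_coe]
    exact Fintype.card_congr (Equiv.subtypeEquivRight fun o => by simp [M])
  rw [hval] at hone
  have hsplit := M.card_filter_add_card_filter_not fun o => ((B.s u o : S) : Ω) ∈ T
  rw [← hXc] at hsplit
  have hev : Even (M.filter fun o => ((B.s u o : S) : Ω) ∉ T).card := by
    rcases Nat.even_or_odd (M.filter fun o => ((B.s u o : S) : Ω) ∉ T).card with he | ho
    · exact he
    · rw [ho.neg_one_pow] at hone
      exact absurd hone (by decide)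
  obtain ⟨m, hm⟩ := hev
  apply hB
  rw [Nat.dvd_iff_mod_eq_zero]
  rw [Nat.ModEq] at hM hX
  omega

end Cfsg.Agent.FusSys
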