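import Cfsg.Agent.Fusion.Quadratic
import Cfsg.Prelude.Def_LocalEven

/-!
Abelian `p`-groups acting on an abelian `p'`-group faithful on a module `V`: for odd `p`, or when
the symmetric group of degree 4 is not involved, `|V : C_V(A)| > |A : C_A(V)|`.
-/

set_option autoImplicit false

namespace Cfsg.Agent.FusSys

open Subgroup
open scoped commutatorElement

universe u

variable {G : Type u} [Group G] [Finite G] {p : ℕ}

/-- A finite commuting `p`-group with one subgroup of order `p` is cyclic. -/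
theorem exists_generator_of_unique [Fact p.Prime] {X : Type*} [Group X] [Finite X]
    (hX : IsPGroup p X) (hc : ∀ x y : X, Commute x y)
    (h : ∀ x y : X, x ^ p = 1 → y ^ p = 1 → x ≠ 1 → y ∈ zpowers x) : ∃ g : X, zpowers g = ⊤ := by
  classical
  have hp := (Fact.out : p.Prime)
  obtain ⟨g, hg⟩ := Finite.exists_max (fun x : X => orderOf x)
  refine ⟨g, eq_top_iff.mpr fun y _ => ?_⟩
  by_contra hy
  obtain ⟨m, hm⟩ := hX y
  have hex : ∃ j, y ^ p ^ j ∈ zpowers g := ⟨m, by rw [hm]; exact one_mem _⟩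
  have hj := Nat.find_spec hex
  rcases hjd : Nat.find hex with _ | j
  · rw [hjd, pow_zero, pow_one] at hj
    exact hy hj
  rw [hjd] at hj
  have hy' : y ^ p ^ j ∉ zpowers g := Nat.find_min hex (by omega)
  set z := y ^ p ^ j with hz
  have hzp : z ^ p ∈ zpowers g := by rwa [hz, ← pow_mul, ← pow_succ]
  obtain ⟨i, hi⟩ : ∃ i : ℕ, g ^ i = z ^ p :=
    Submonoid.mem_powers_iff _ _ |>.mp (mem_powers_iff_mem_zpowers.mpr hzp)
  obtain ⟨e, he⟩ := IsPGroup.iff_orderOf.mp hX g
  obtain ⟨f, hf⟩ := IsPGroup.iff_orderOf.mp hX z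
  have hfe : f ≤ e := (Nat.pow_le_pow_iff_right hp.one_lt).mp (hf ▸ he ▸ hg z)
  rcases e with _ | e
  · rw [Nat.le_zero.mp hfe, pow_zero, orderOf_eq_one_iff] at hf
    exact hy' (hf ▸ one_mem _)
  have h1 : g ^ (i * p ^ e) = 1 := by
    rw [pow_mul, hi, ← pow_mul, ← pow_succ', ← orderOf_dvd_iff_pow_eq_one, hf]
    exact pow_dvd_pow p hfe
  rw [← orderOf_dvd_iff_pow_eq_one, he, pow_succ'] at h1
  obtain ⟨i', rfl⟩ := Nat.dvd_of_mul_dvd_mul_right (pow_pos hp.pos e) h1
  have h2 : (z * (g ^ i')⁻¹) ^ p = 1 := by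
    rw [(hc z _).mul_pow, inv_pow, show (g ^ i') ^ p = z ^ p by rw [← pow_mul, mul_comm, hi],
      mul_inv_cancel]
  have hx : (g ^ p ^ e) ^ p = 1 := by rw [← pow_mul, ← pow_succ, ← he, pow_orderOf_eq_one]
  have hx1 : g ^ p ^ e ≠ 1 := fun h3 => by
    rw [← orderOf_dvd_iff_pow_eq_one, he, Nat.pow_dvd_pow_iff_le_right hp.one_lt] at h3
    omega
  have h3 : z * (g ^ i')⁻¹ ∈ zpowers g :=
    zpowers_le.mpr (pow_mem (mem_zpowers g) _) (h _ _ hx h2 hx1)
  refine hy' ?_
  simpa using mul_mem h3 (pow_mem (mem_zpowers g) i')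

/-- The image of an additive endomorphism. -/
def imEnd {M : Type*} [AddCommGroup M] (f : AddMonoid.End M) : AddSubgroup M :=
  AddMonoidHom.range (f : M →+ M)

theorem imEnd_zero {M : Type*} [AddCommGroup M] : Nat.card (imEnd (0 : AddMonoid.End M)) = 1 := by
  rw [show imEnd (0 : AddMonoid.End M) = ⊥ from (AddSubgroup.eq_bot_iff_forall _).mpr
    fun x ⟨y, hy⟩ => hy.symm, AddSubgroup.card_bot]

/-- If the centraliser of a `p`-element in an elementary abelian group has small index, some power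
of it is a transvection. -/
theorem relIndex_pow_le [Fact p.Prime] {V : Subgroup G} (hV : Cfsg.IsElementaryAbelian p V) {a : G}
    (haV : a ∈ normalizer (V : Set G)) {k : ℕ}
    (hk : a ^ p ^ (k + 1) ∈ centralizer (V : Set G))
    (hi : (centralizer ({a} : Set G)).relIndex V ≤ p ^ (k + 1)) :
    (centralizer ({a ^ p ^ k} : Set G)).relIndex V ≤ p := by
  classical
  have hp := (Fact.out : p.Prime)
  have := hV.1
  open scoped IsMulCommutative in
  let φ : normalizer (V : Set G) →* AddMonoid.End (Additive V) :=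
    { toFun := fun g => AddMonoidHom.mk'
        (fun v => Additive.ofMul (V.normalizerMonoidHom g (Additive.toMul v)))
        (fun v w => congrArg Additive.ofMul (map_mul (V.normalizerMonoidHom g) _ _))
      map_one' := AddMonoidHom.ext fun v => congrArg Additive.ofMul (by rw [map_one]; rfl)
      map_mul' := fun g h => AddMonoidHom.ext fun v =>
        congrArg Additive.ofMul (by rw [map_mul]; rfl) }
  -- the index of the fixed points is the size of the image of `g - 1`
  open scoped IsMulCommutative in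
  have hidx : ∀ g : normalizer (V : Set G), (centralizer ({(g : G)} : Set G)).relIndex V =
      Nat.card (imEnd (φ g - 1)) := by
    intro g
    unfold imEnd
    refine Eq.trans ?_ (AddSubgroup.index_ker _)
    show ((centralizer ({(g : G)} : Set G)).subgroupOf V).index = _
    rw [← Subgroup.index_toAddSubgroup]
    congr 1
    ext v
    obtain ⟨v, rfl⟩ := Additive.ofMul.surjective v
    show ((v : G) ∈ centralizer ({(g : G)} : Set G)) ↔
      (φ g - 1 : AddMonoid.End (Additive V)) (Additive.ofMul v) = 0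
    rw [mem_centralizer_singleton_iff]
    have e : (φ g - 1 : AddMonoid.End (Additive V)) (Additive.ofMul v) = 0 ↔
        (g : G) * v * (g : G)⁻¹ = v := by
      show Additive.ofMul (V.normalizerMonoidHom g v) - Additive.ofMul v = 0 ↔ _
      rw [sub_eq_zero, Additive.ofMul.injective.eq_iff, Subtype.ext_iff]
      rfl
    rw [e, mul_inv_eq_iff_eq_mul]
    exact eq_comm
  rcases eq_or_ne V ⊥ with rfl | hV0
  · rw [relIndex_bot_right]
    exact hp.one_lt.le
  open scoped IsMulCommutative in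
  have : Nontrivial V := (nontrivial_iff_ne_bot V).mpr hV0
  open scoped IsMulCommutative in
  have h0 : (p : AddMonoid.End (Additive V)) = 0 := by
    refine AddMonoidHom.ext fun v => Additive.toMul.injective (Subtype.ext ?_)
    show ((Additive.toMul ((p : AddMonoid.End (Additive V)) v) : V) : G) = 1
    rw [AddMonoid.End.natCast_apply, toMul_nsmul, SubmonoidClass.coe_pow]
    exact hV.2 _ (Additive.toMul v).2
  open scoped IsMulCommutative in
  have h10 : (1 : AddMonoid.End (Additive V)) ≠ 0 := by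
    intro h
    obtain ⟨v, hv⟩ := exists_ne (1 : V)
    exact hv (Additive.ofMul.injective (DFunLike.congr_fun h (Additive.ofMul v)))
  open scoped IsMulCommutative in
  have : CharP (AddMonoid.End (Additive V)) p := by
    refine ⟨fun x => ⟨fun hx => ?_, fun ⟨c, hc⟩ => by rw [hc, Nat.cast_mul, h0, zero_mul]⟩⟩
    by_contra hd
    obtain ⟨r, s, hrs⟩ : ∃ r s : ℤ, r * x + s * p = 1 :=
      ⟨_, _, ((Nat.isCoprime_iff_coprime.mpr
        ((Nat.Prime.coprime_iff_not_dvd hp).mpr hd).symm)).choose_spec.choose_spec⟩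
    have h1 := congrArg (Int.cast : ℤ → AddMonoid.End (Additive V)) hrs
    push_cast at h1
    rw [hx, h0, mul_zero, mul_zero, zero_add] at h1
    exact h10 h1.symm
  open scoped IsMulCommutative in
  set n : AddMonoid.End (Additive V) := φ ⟨a, haV⟩ - 1 with hn
  have hpow : ∀ j, n ^ p ^ j = φ ⟨a ^ p ^ j, pow_mem haV _⟩ - 1 := fun j => by
    rw [hn, sub_pow_char_pow_of_commute _ _ (Commute.one_right _), one_pow, ← map_pow]
    rfl
  have hnil : n ^ p ^ (k + 1) = 0 := by
    rw [hpow, sub_eq_zero]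
    refine AddMonoidHom.ext fun v => Additive.toMul.injective (Subtype.ext ?_)
    show a ^ p ^ (k + 1) * ((Additive.toMul v : V) : G) * (a ^ p ^ (k + 1))⁻¹ = _
    rw [← mem_centralizer_iff.mp hk _ (Additive.toMul v).2, mul_inv_cancel_right]
    rfl
  -- the sizes of the images
  let r : ℕ → ℕ := fun i => Nat.card (imEnd (n ^ i))
  have hle : ∀ i, imEnd (n ^ (i + 1)) ≤
      imEnd (n ^ i) := by
    rintro i _ ⟨v, rfl⟩
    exact ⟨n v, by rw [pow_succ]; rfl⟩
  have hstep : ∀ i, n ^ i ≠ 0 → r (i + 1) * p ≤ r i := by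
    intro i hne
    have hlt : imEnd (n ^ (i + 1)) <
        imEnd (n ^ i) := by
      refine lt_of_le_of_ne (hle i) fun heq => hne ?_
      have hst : ∀ j, imEnd (n ^ (i + j)) =
          imEnd (n ^ i) := by
        intro j
        induction j with
        | zero => rfl
        | succ j ih =>
          refine le_antisymm ((hle (i + j)).trans ih.le) ?_
          rintro _ ⟨v, rfl⟩
          obtain ⟨w, hw⟩ : (n ^ i : AddMonoid.End (Additive V)) v ∈
              imEnd (n ^ (i + 1)) := heq.ge ⟨v, rfl⟩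
          obtain ⟨u, hu⟩ : (n ^ i : AddMonoid.End (Additive V)) w ∈
              imEnd (n ^ (i + j)) := ih.ge ⟨w, rfl⟩
          refine ⟨u, ?_⟩
          refine Eq.trans ?_ hw
          rw [show i + (j + 1) = (i + j) + 1 by omega, pow_succ' n (i + j), pow_succ' n i]
          exact congrArg n hu
      have hz := hst (p ^ (k + 1))
      have hz' : n ^ (i + p ^ (k + 1)) = 0 := by rw [pow_add, hnil, mul_zero]
      refine AddMonoidHom.ext fun v => ?_
      have hm : (n ^ i : AddMonoid.End (Additive V)) v ∈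
          imEnd (n ^ (i + p ^ (k + 1))) := hz.ge ⟨v, rfl⟩
      rw [hz'] at hm
      obtain ⟨u, hu⟩ := hm
      exact hu.symm
    have hVp : IsPGroup p (Multiplicative (Additive V)) := fun v =>
      ⟨1, congrArg (fun x : V => Multiplicative.ofAdd (Additive.ofMul x))
        (show (Additive.toMul (Multiplicative.toAdd v) : V) ^ p ^ 1 = 1 from
          Subtype.ext (by simpa using hV.2 _ (Additive.toMul (Multiplicative.toAdd v)).2))⟩
    obtain ⟨c, hc⟩ := IsPGroup.iff_card.mp (hVp.to_subgroup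
      (AddSubgroup.toSubgroup (imEnd (n ^ i))))
    obtain ⟨d, hd⟩ := IsPGroup.iff_card.mp (hVp.to_subgroup
      (AddSubgroup.toSubgroup (imEnd (n ^ (i + 1)))))
    have hcard : r (i + 1) < r i :=
      lt_of_le_of_ne (Nat.card_le_card_of_injective _ (AddSubgroup.inclusion_injective (hle i)))
        fun e => hlt.ne (AddSubgroup.eq_of_le_of_card_ge (hle i) e.ge)
    have hc' : r i = p ^ c := hc
    have hd' : r (i + 1) = p ^ d := hd
    rw [hc', hd'] at hcard
    rw [hc', hd', ← pow_succ]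
    exact Nat.pow_le_pow_right hp.pos ((Nat.pow_lt_pow_iff_right hp.one_lt).mp hcard)
  have hb := hidx ⟨a ^ p ^ k, pow_mem haV _⟩
  rw [← hpow] at hb
  rw [hb]
  rcases eq_or_ne (n ^ p ^ k) 0 with h | h
  · rw [h]
    exact imEnd_zero.le.trans hp.one_lt.le
  have hne : ∀ i ≤ p ^ k, n ^ i ≠ 0 := fun i hi h' => h (by
    rw [← Nat.add_sub_cancel' hi, pow_add, h', zero_mul])
  have hchain : ∀ i, i + 1 ≤ p ^ k → r (i + 1) * p ^ i ≤ r 1 := by
    intro i
    induction i with
    | zero => intro _; rw [pow_zero, mul_one]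
    | succ i ih =>
      intro hi
      refine le_trans ?_ (ih (by omega))
      rw [pow_succ' p i, ← mul_assoc]
      exact Nat.mul_le_mul_right _ (hstep (i + 1) (hne _ (by omega)))
  have h1 : r 1 ≤ p ^ (k + 1) := by
    rw [show r 1 = (centralizer ({a} : Set G)).relIndex V by rw [hidx ⟨a, haV⟩]; simp [r, hn]]
    exact hi
  have hpk : k + 1 ≤ p ^ k := Nat.lt_pow_self hp.one_lt
  have h2 := (hchain (p ^ k - 1) (by omega)).trans
    (h1.trans (Nat.pow_le_pow_right hp.pos hpk))
  rw [show p ^ k - 1 + 1 = p ^ k by omega] at h2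
  refine Nat.le_of_mul_le_mul_right ?_ (pow_pos hp.pos (p ^ k - 1))
  rw [← pow_succ', show p ^ k - 1 + 1 = p ^ k by omega]
  exact h2

/-- An element inducing a transvection and not centralising an odd abelian group which is faithful
on the module yields a section isomorphic to the symmetric group of degree 4. -/
theorem involves_s4_of_transvection {V K : Subgroup G} (hV : Cfsg.IsElementaryAbelian 2 V)
    (hK : IsMulCommutative K) (hKo : (Nat.card K).Coprime 2) (hKV : K ≤ normalizer (V : Set G))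
    (hKf : K ⊓ centralizer (V : Set G) = ⊥) {t : G} (htV : t ∈ normalizer (V : Set G))
    (htK : t ∈ normalizer (K : Set G)) (ht2 : t * t ∈ centralizer (V : Set G))
    (hti : (centralizer ({t} : Set G)).relIndex V ≤ 2) (htn : t ∉ centralizer (K : Set G)) :
    Cfsg.Involves (Equiv.Perm (Fin 4)) G := by
  classical
  have hone : ∀ {y : G}, y ∈ K → y ∈ centralizer (V : Set G) → y = 1 := fun hy hy' =>
    mem_bot.mp (hKf ▸ (⟨hy, hy'⟩ : _ ∈ K ⊓ centralizer (V : Set G)))
  have hKc : ∀ {x y : G}, x ∈ K → y ∈ K → x * y = y * x := fun hx hy =>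
    congrArg (fun z : K => (z : G)) (hK.is_comm.comm ⟨_, hx⟩ ⟨_, hy⟩)
  have hVc : ∀ {x y : G}, x ∈ V → y ∈ V → x * y = y * x := fun hx hy =>
    congrArg (fun z : V => (z : G)) (hV.1.is_comm.comm ⟨_, hx⟩ ⟨_, hy⟩)
  obtain ⟨r, hr, hrt⟩ : ∃ r ∈ K, t * r ≠ r * t := by
    by_contra hh
    push Not at hh
    exact htn (mem_centralizer_iff.mpr fun y hy => (hh y hy).symm)
  set s := t * r * t⁻¹ * r⁻¹ with hs
  have hsK : s ∈ K := mul_mem ((mem_normalizer_iff.mp htK r).mp hr) (inv_mem hr)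
  have hs1 : s ≠ 1 := fun h => hrt (by
    rw [hs, mul_inv_eq_one, mul_inv_eq_iff_eq_mul] at h; exact h)
  have ht2K : ∀ x ∈ K, t * t * x = x * (t * t) := by
    intro x hx
    have h1 : t * t * x * (t * t)⁻¹ * x⁻¹ = 1 := by
      refine hone (mul_mem ((mem_normalizer_iff.mp (mul_mem htK htK) x).mp hx) (inv_mem hx))
        (mem_centralizer_iff.mpr fun v hv => ?_)
      have hv' : x⁻¹ * v * x ∈ V := (mem_normalizer_iff''.mp (hKV hx) v).mp hv
      have e1 := mem_centralizer_iff.mp ht2 _ hv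
      have e3 : ∀ w ∈ V, (t * t)⁻¹ * w = w * (t * t)⁻¹ := fun w hw => by
        have := mem_centralizer_iff.mp (inv_mem ht2) w hw
        exact this.symm
      calc v * (t * t * x * (t * t)⁻¹ * x⁻¹)
          = (v * (t * t)) * x * (t * t)⁻¹ * x⁻¹ := by group
        _ = t * t * x * ((x⁻¹ * v * x) * (t * t)⁻¹) * x⁻¹ := by rw [e1]; group
        _ = t * t * x * ((t * t)⁻¹ * (x⁻¹ * v * x)) * x⁻¹ := by rw [e3 _ hv']
        _ = t * t * x * (t * t)⁻¹ * x⁻¹ * v := by group
    rw [mul_inv_eq_one, mul_inv_eq_iff_eq_mul] at h1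
    exact h1
  -- `t` inverts `s`
  have hts : t * s * t⁻¹ = s⁻¹ := by
    have e1 : t * t * r = r * (t * t) := ht2K r hr
    calc t * s * t⁻¹ = (t * t * r) * (t * t)⁻¹ * (t * r⁻¹ * t⁻¹) := by rw [hs]; group
      _ = r * (t * r⁻¹ * t⁻¹) := by rw [e1]; group
      _ = s⁻¹ := by rw [hs]; group
  -- the commutator map of `s`
  have hcj : ∀ {u : G}, u ∈ V → s * u * s⁻¹ ∈ V := fun hu =>
    (mem_normalizer_iff.mp (hKV hsK) _).mp hu
  let θ : V →* G := MonoidHom.mk' (fun u => s * u * s⁻¹ * (u : G)⁻¹) fun u w => by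
    have h1 : (s * w * s⁻¹ * (w : G)⁻¹) * (u : G)⁻¹ = (u : G)⁻¹ * (s * w * s⁻¹ * (w : G)⁻¹) :=
      hVc (mul_mem (hcj w.2) (inv_mem w.2)) (inv_mem u.2)
    calc s * ((u : G) * w) * s⁻¹ * ((u : G) * w)⁻¹
        = (s * u * s⁻¹) * ((s * w * s⁻¹ * (w : G)⁻¹) * (u : G)⁻¹) := by group
      _ = (s * u * s⁻¹) * ((u : G)⁻¹ * (s * w * s⁻¹ * (w : G)⁻¹)) := by rw [h1]
      _ = (s * u * s⁻¹ * (u : G)⁻¹) * (s * w * s⁻¹ * (w : G)⁻¹) := by group
  set W := θ.range with hW
  have hWV : W ≤ V := by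
    rintro _ ⟨u, rfl⟩
    exact mul_mem (hcj u.2) (inv_mem u.2)
  have hW4 : Nat.card W ≤ 4 := by
    rw [hW, ← index_ker]
    have hker : θ.ker = (centralizer ({s} : Set G)).subgroupOf V := by
      ext u
      rw [MonoidHom.mem_ker, mem_subgroupOf, mem_centralizer_singleton_iff]
      show s * u * s⁻¹ * (u : G)⁻¹ = 1 ↔ _
      rw [mul_inv_eq_one, mul_inv_eq_iff_eq_mul]
      exact eq_comm
    rw [hker]
    show (centralizer ({s} : Set G)).relIndex V ≤ 4
    set t' := r * t * r⁻¹ with ht'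
    have hle : centralizer ({t} : Set G) ⊓ centralizer ({t'} : Set G) ≤
        centralizer ({s} : Set G) := by
      intro v hv
      have h1 : v * t = t * v := mem_centralizer_singleton_iff.mp hv.1
      have h2 : v * t' = t' * v := mem_centralizer_singleton_iff.mp hv.2
      rw [mem_centralizer_singleton_iff]
      have c1 : Commute v t := h1
      have c2 : Commute v t' := h2
      have e : s = t * t'⁻¹ := by rw [hs, ht']; group
      rw [e]
      exact (c1.mul_right c2.inv_right).eq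
    have ht'i : (centralizer ({t'} : Set G)).relIndex V =
        (centralizer ({t} : Set G)).relIndex V := by
      have hVmap : V.map (MulAut.conj r).toMonoidHom = V :=
        mem_normalizer_iff_map_conj_eq.mp (hKV hr)
      have hCmap : (centralizer ({t} : Set G)).map (MulAut.conj r).toMonoidHom =
          centralizer ({t'} : Set G) := by
        ext v
        rw [mem_centralizer_singleton_iff]
        constructor
        · rintro ⟨c, hc, rfl⟩
          show r * c * r⁻¹ * t' = t' * (r * c * r⁻¹)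
          rw [ht', show r * c * r⁻¹ * (r * t * r⁻¹) = r * (c * t) * r⁻¹ by group,
            mem_centralizer_singleton_iff.mp hc]
          group
        · intro hc
          refine ⟨r⁻¹ * v * r, mem_centralizer_singleton_iff.mpr ?_, by simp [mul_assoc]⟩
          rw [show r⁻¹ * v * r * t = r⁻¹ * (v * t') * r by rw [ht']; group, hc, ht']
          group
      conv_lhs => rw [← hVmap, ← hCmap]
      exact relIndex_map_map_of_injective _ _ (MulAut.conj r).injective
    refine le_trans (Nat.le_of_dvd ?_ (relIndex_dvd_of_le_left V hle)) ?_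
    · exact Nat.pos_of_ne_zero index_ne_zero_of_finite
    refine le_trans relIndex_inf_le ?_
    rw [ht'i]
    exact le_trans (Nat.mul_le_mul hti hti) le_rfl
  -- `s` has no fixed point on `W` but `1`
  obtain ⟨m, hm, hsm⟩ : ∃ m, Odd m ∧ s ^ m = 1 := by
    refine ⟨orderOf s, ?_, pow_orderOf_eq_one s⟩
    exact Nat.Coprime.odd_of_right (hKo.coprime_dvd_left (orderOf_dvd_natCard K hsK))
  have hWfix : ∀ w ∈ W, s * w * s⁻¹ = w → w = 1 := by
    rintro w ⟨u, rfl⟩ hfix
    set w := θ u with hw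
    have hwV : w ∈ V := hWV ⟨u, rfl⟩
    have hit : ∀ i : ℕ, s ^ i * (u : G) * (s ^ i)⁻¹ = w ^ i * u := by
      intro i
      induction i with
      | zero => simp
      | succ i ih =>
        have hc : Commute s w := by
          rw [commute_iff_eq]; exact mul_inv_eq_iff_eq_mul.mp hfix
        have hsu : s * u * s⁻¹ = w * u := by
          rw [hw]; show _ = s * u * s⁻¹ * (u : G)⁻¹ * u; group
        calc s ^ (i + 1) * (u : G) * (s ^ (i + 1))⁻¹
            = s * (s ^ i * u * (s ^ i)⁻¹) * s⁻¹ := by rw [pow_succ' s i]; group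
          _ = (s * w ^ i) * u * s⁻¹ := by rw [ih]; group
          _ = w ^ i * (s * u * s⁻¹) := by rw [(hc.pow_right i).eq]; group
          _ = w ^ (i + 1) * u := by rw [hsu, pow_succ w i]; group
    have h1 := hit m
    rw [hsm, one_mul, inv_one, mul_one, eq_comm, mul_eq_right] at h1
    obtain ⟨q, rfl⟩ := hm
    rw [pow_succ, pow_mul, hV.2 w hwV, one_pow, one_mul] at h1
    exact h1
  have hWs : ∀ w ∈ W, s * w * s⁻¹ ∈ W := by
    rintro _ ⟨u, rfl⟩
    refine ⟨⟨s * u * s⁻¹, hcj u.2⟩, ?_⟩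
    show s * (s * u * s⁻¹) * s⁻¹ * (s * u * s⁻¹)⁻¹ = s * (s * u * s⁻¹ * (u : G)⁻¹) * s⁻¹
    group
  have hWt : ∀ w ∈ W, t * w * t⁻¹ ∈ W := by
    rintro _ ⟨u, rfl⟩
    have hu' : t * u * t⁻¹ ∈ V := (mem_normalizer_iff.mp htV _).mp u.2
    have hu'' : s⁻¹ * (t * u * t⁻¹) * s ∈ V := by
      simpa using (mem_normalizer_iff.mp (hKV (inv_mem hsK)) _).mp hu'
    refine ⟨(⟨s⁻¹ * (t * u * t⁻¹) * s, hu''⟩ : V)⁻¹, ?_⟩
    rw [map_inv]
    show (s * (s⁻¹ * (t * u * t⁻¹) * s) * s⁻¹ * (s⁻¹ * (t * u * t⁻¹) * s)⁻¹)⁻¹ =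
      t * (s * u * s⁻¹ * (u : G)⁻¹) * t⁻¹
    have e : t * (s * u * s⁻¹ * (u : G)⁻¹) * t⁻¹ =
        (t * s * t⁻¹) * (t * u * t⁻¹) * (t * s * t⁻¹)⁻¹ * (t * u * t⁻¹)⁻¹ := by group
    rw [e, hts]
    group
  have hWne : W ≠ ⊥ := by
    intro h
    refine hs1 (hone hsK (mem_centralizer_iff.mpr fun v hv => ?_))
    have : s * v * s⁻¹ * v⁻¹ = 1 := mem_bot.mp (h ▸ (⟨⟨v, hv⟩, rfl⟩ : s * v * s⁻¹ * v⁻¹ ∈ W))
    rw [mul_inv_eq_one, mul_inv_eq_iff_eq_mul] at this
    exact this.symm
  have hW2 : IsPGroup 2 W := (Thompson.ea_isPGroup hV).to_le hWV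
  have hWcard : Nat.card W = 4 := by
    have := Fact.mk Nat.prime_two
    obtain ⟨n, hn⟩ := IsPGroup.iff_card.mp hW2
    match n, hn with
    | 0, hn => exact absurd (eq_bot_of_card_eq _ (by simpa using hn)) hWne
    | 1, hn =>
      exfalso
      have : Nat.card W ≤ 2 := by omega
      have hnW := (nontrivial_iff_ne_bot W).mpr hWne
      obtain ⟨⟨w, hw⟩, hw1⟩ := exists_ne (1 : W)
      have hw1' : w ≠ 1 := fun h => hw1 (Subtype.ext h)
      refine hw1' (hWfix w hw ?_)
      by_contra hne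
      have h3 : ({1, w, s * w * s⁻¹} : Finset G).card ≤ 2 := by
        refine le_trans ?_ this
        rw [← Nat.card_eq_finsetCard]
        refine Nat.card_le_card_of_injective
          (fun x => (⟨x.1, by
            have hx := x.2
            simp only [Finset.mem_insert, Finset.mem_singleton] at hx
            rcases hx with h | h | h <;> rw [h]
            exacts [one_mem _, hw, hWs w hw]⟩ : W))
          fun x y hxy => Subtype.ext (congrArg (fun w : W => (w : G)) hxy :)
      rw [Finset.card_insert_of_notMem, Finset.card_pair (Ne.symm hne)] at h3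
      · omega
      · simp only [Finset.mem_insert, Finset.mem_singleton, not_or]
        exact ⟨Ne.symm hw1', fun h => hw1' (conj_eq_one_iff.mp h.symm)⟩
    | 2, hn => simpa using hn
    | n + 3, hn =>
      exfalso
      have : 2 ^ 3 ≤ 2 ^ (n + 3) := Nat.pow_le_pow_right (by omega) (by omega)
      omega
  -- the group `W⟨s,t⟩` acting on the cosets of `⟨s,t⟩`
  set L₀ : Subgroup G := closure {s, t} with hL₀
  have hgenle : ∀ H : Subgroup G, s ∈ H → t ∈ H → L₀ ≤ H := fun H h1 h2 =>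
    (closure_le H).mpr (by rintro x (rfl | rfl) <;> assumption)
  have hsL : s ∈ L₀ := subset_closure (Or.inl rfl)
  have htL : t ∈ L₀ := subset_closure (Or.inr rfl)
  have hL₀W : L₀ ≤ normalizer (W : Set G) := hgenle _
    (mem_normalizer_iff_map_conj_eq.mpr (eq_of_le_of_card_ge (by
      rintro _ ⟨w, hw, rfl⟩; exact hWs w hw) (card_map_of_injective (MulAut.conj s).injective).ge))
    (mem_normalizer_iff_map_conj_eq.mpr (eq_of_le_of_card_ge (by
      rintro _ ⟨w, hw, rfl⟩; exact hWt w hw) (card_map_of_injective (MulAut.conj t).injective).ge))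
  -- `⟨s, t⟩` meets `W` trivially
  have hdisj : W ⊓ L₀ = ⊥ := by
    rw [eq_bot_iff]
    rintro w ⟨hw, hwL⟩
    refine mem_bot.mpr (hWfix w hw ?_)
    have hZn : L₀ ≤ normalizer (zpowers s : Set G) := by
      refine hgenle _ (le_normalizer (mem_zpowers s)) (mem_normalizer_iff_map_conj_eq.mpr ?_)
      rw [MonoidHom.map_zpowers]
      show zpowers (t * s * t⁻¹) = _
      rw [hts, zpowers_inv]
    have h1 : s * w * s⁻¹ * w⁻¹ ∈ zpowers s := by
      rw [show s * w * s⁻¹ * w⁻¹ = s * (w * s⁻¹ * w⁻¹) by group]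
      exact mul_mem (mem_zpowers s)
        ((mem_normalizer_iff.mp (hZn hwL) _).mp (inv_mem (mem_zpowers s)))
    have h2 : s * w * s⁻¹ * w⁻¹ ∈ W := mul_mem (hWs w hw) (inv_mem hw)
    have h3 : W ⊓ K = ⊥ := by
      refine disjoint_iff.mp (disjoint_of_coprime_natCard ?_)
      rw [hWcard, show 4 = 2 ^ 2 by rfl]
      exact hKo.symm.pow_left 2
    have h4 : s * w * s⁻¹ * w⁻¹ ∈ W ⊓ K := ⟨h2, zpowers_le.mpr hsK h1⟩
    rw [h3, mem_bot, mul_inv_eq_one] at h4
    exact h4
  set L := W ⊔ L₀ with hL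
  have hWL : (W.subgroupOf L).Normal := (normal_subgroupOf_iff_le_normalizer le_sup_left).mpr
    (sup_le le_normalizer hL₀W)
  have hindex : (L₀.subgroupOf L).index = 4 := by
    have hcompl : IsComplement' (W.subgroupOf L) (L₀.subgroupOf L) := by
      refine isComplement'_of_disjoint_and_mul_eq_univ ?_ ?_
      · rw [disjoint_def]
        intro x hx hx'
        exact Subtype.ext (mem_bot.mp (hdisj ▸ (⟨hx, hx'⟩ : (x : G) ∈ W ⊓ L₀)))
      · rw [← normal_mul, ← subgroupOf_sup le_sup_left le_sup_right, subgroupOf_self, coe_top]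
    rw [hcompl.index_eq_card, Nat.card_congr (subgroupOfEquivOfLe le_sup_left).toEquiv, hWcard]
  let e4 : (L ⧸ L₀.subgroupOf L) ≃ Fin 4 := Finite.equivFinOfCardEq hindex
  let ψ : L →* Equiv.Perm (Fin 4) :=
    e4.permCongrHom.toMonoidHom.comp (MulAction.toPermHom L (L ⧸ L₀.subgroupOf L))
  have hker : ψ.ker = (L₀.subgroupOf L).normalCore := by
    rw [normalCore_eq_ker]
    ext x
    simp only [ψ, MonoidHom.mem_ker, MonoidHom.comp_apply]
    exact e4.permCongrHom.map_eq_one_iff
  have hker₀ : ∀ x : L, x ∈ ψ.ker → (x : G) ∈ L₀ := fun x hx => (L₀.subgroupOf L).normalCore_le (hker.le hx)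
  have hkerW : ∀ x : L, x ∈ ψ.ker → ∀ w ∈ W, (x : G) * w = w * x := by
    intro x hx w hw
    set w' : L := ⟨w, mem_sup_left hw⟩
    have hK' : (w' * x * w'⁻¹ * x⁻¹) ∈ ψ.ker :=
      mul_mem (ψ.normal_ker.conj_mem x hx w') (inv_mem hx)
    have hW' : (w' * x * w'⁻¹ * x⁻¹ : L) ∈ W.subgroupOf L := by
      rw [show w' * x * w'⁻¹ * x⁻¹ = w' * (x * w'⁻¹ * x⁻¹) by group]
      exact mul_mem hw (hWL.conj_mem _ (inv_mem hw) x)
    have : w * (x : G) * w⁻¹ * (x : G)⁻¹ = 1 :=
      mem_bot.mp (hdisj ▸ (⟨hW', hker₀ _ hK'⟩ : _ ∈ W ⊓ L₀))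
    rw [mul_inv_eq_one, mul_inv_eq_iff_eq_mul] at this
    exact this.symm
  obtain ⟨w₀, hw₀, hw₀1⟩ := (ne_bot_iff_exists_ne_one).mp hWne |> fun ⟨⟨x, hx⟩, h⟩ =>
    (⟨x, hx, fun e => h (Subtype.ext e)⟩ : ∃ w ∈ W, w ≠ 1)
  have hs' : (⟨s, mem_sup_right hsL⟩ : L) ∉ ψ.ker := fun h =>
    hw₀1 (hWfix w₀ hw₀ (by rw [hkerW _ h w₀ hw₀, mul_inv_cancel_right]))
  have ht' : (⟨t, mem_sup_right htL⟩ : L) ∉ ψ.ker := by
    intro h
    have hc : ∀ w ∈ W, t * w * t⁻¹ = w := fun w hw => by
      rw [hkerW _ h w hw, mul_inv_cancel_right]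
    refine hw₀1 (hWfix w₀ hw₀ ?_)
    have h1 : s * (s * w₀ * s⁻¹) * s⁻¹ = w₀ := by
      have e1 := hc _ (hWs w₀ hw₀)
      have e2 : t * (s * w₀ * s⁻¹) * t⁻¹ = s⁻¹ * (t * w₀ * t⁻¹) * s := by
        rw [show t * (s * w₀ * s⁻¹) * t⁻¹ = (t * s * t⁻¹) * (t * w₀ * t⁻¹) * (t * s * t⁻¹)⁻¹
          by group, hts, inv_inv]
      rw [e2, hc w₀ hw₀] at e1
      calc s * (s * w₀ * s⁻¹) * s⁻¹ = s * (s⁻¹ * w₀ * s) * s⁻¹ := by rw [e1]
        _ = w₀ := by group
    obtain ⟨q, rfl⟩ := hm
    have hcomm : Commute (s * s) w₀ := by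
      rw [commute_iff_eq]
      calc s * s * w₀ = s * (s * w₀ * s⁻¹) * s⁻¹ * (s * s) := by group
        _ = w₀ * (s * s) := by rw [h1]
    have h2 : (s * s) ^ (q + 1) = s := by
      rw [← pow_two, ← pow_mul, show 2 * (q + 1) = 2 * q + 1 + 1 by ring, pow_succ, hsm, one_mul]
    have h3 := (hcomm.pow_left (q + 1)).eq
    rw [h2] at h3
    rw [h3, mul_inv_cancel_right]
  -- counting
  have hK0 : ψ.ker ≤ L₀.subgroupOf L := hker₀
  have hcard : Nat.card ψ.range = 24 := by
    have h24 : Nat.card ψ.range ∣ 24 := by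
      have := card_subgroup_dvd_card ψ.range
      rwa [Nat.card_perm, Nat.card_fin] at this
    have hR : Nat.card ψ.range = ψ.ker.relIndex (L₀.subgroupOf L) * 4 := by
      rw [← index_ker, ← relIndex_mul_index hK0, hindex]
    have hr : ∀ (x : L), (x : G) ∈ L₀ → orderOf (ψ x) ∣ ψ.ker.relIndex (L₀.subgroupOf L) := by
      intro x hx
      rw [Subgroup.relIndex_ker ψ (K := L₀.subgroupOf L)]
      exact orderOf_dvd_natCard _ (mem_map_of_mem ψ hx)
    have ho1 : 2 ∣ ψ.ker.relIndex (L₀.subgroupOf L) := by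
      refine dvd_trans ?_ (hr ⟨t, mem_sup_right htL⟩ htL)
      have htt : (⟨t, mem_sup_right htL⟩ : L) ^ 2 ∈ ψ.ker := by
        rw [hker, pow_two]
        intro y
        have hyc : (y : G) * (t * t) = (t * t) * y := by
          have hle : L ≤ centralizer ({t * t} : Set G) := by
            refine sup_le (fun w hw => mem_centralizer_singleton_iff.mpr
              (mem_centralizer_iff.mp ht2 w (hWV hw))) (hgenle _ ?_ ?_)
            · exact mem_centralizer_singleton_iff.mpr (ht2K s hsK).symm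
            · exact mem_centralizer_singleton_iff.mpr (mul_assoc t t t).symm
          exact mem_centralizer_singleton_iff.mp (hle y.2)
        show (y : G) * (t * t) * (y : G)⁻¹ ∈ L₀
        rw [hyc, mul_inv_cancel_right]
        exact mul_mem htL htL
      rw [MonoidHom.mem_ker, map_pow] at htt
      exact (orderOf_eq_prime htt fun h => ht' h).symm.dvd
    have ho2 : 3 ∣ ψ.ker.relIndex (L₀.subgroupOf L) := by
      refine dvd_trans ?_ (hr ⟨s, mem_sup_right hsL⟩ hsL)
      have hd : orderOf (ψ ⟨s, mem_sup_right hsL⟩) ∣ 24 := by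
        have := _root_.orderOf_dvd_natCard (ψ ⟨s, mem_sup_right hsL⟩)
        rwa [Nat.card_perm, Nat.card_fin] at this
      have hodd : Odd (orderOf (ψ ⟨s, mem_sup_right hsL⟩)) := by
        refine hm.of_dvd_nat (orderOf_dvd_of_pow_eq_one ?_)
        rw [← map_pow, ← map_one ψ]
        exact congrArg ψ (Subtype.ext hsm)
      have h3 : orderOf (ψ ⟨s, mem_sup_right hsL⟩) ∣ 3 :=
        Nat.Coprime.dvd_of_dvd_mul_left
          ((Nat.coprime_primes Nat.prime_two Nat.prime_two) |> fun _ =>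
            ((Nat.Coprime.pow_right 3 (Nat.coprime_two_right.mpr hodd)))) hd
      rcases (Nat.dvd_prime Nat.prime_three).mp h3 with h | h
      · exact absurd (orderOf_eq_one_iff.mp h) hs'
      · exact h ▸ dvd_rfl
    refine Nat.dvd_antisymm h24 ?_
    rw [hR]
    exact Nat.mul_dvd_mul_right (Nat.Coprime.mul_dvd_of_dvd_of_dvd (by norm_num) ho1 ho2 :
      6 ∣ _) 4
  have hsurj : Function.Surjective ψ := by
    rw [← MonoidHom.range_eq_top]
    refine eq_top_of_card_eq _ ?_
    rw [hcard, Nat.card_perm, Nat.card_fin]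
    rfl
  have hnk : (ψ.ker.map L.subtype).subgroupOf L = ψ.ker :=
    comap_map_eq_self_of_injective L.subtype_injective _
  haveI : ((ψ.ker.map L.subtype).subgroupOf L).Normal := hnk.symm ▸ ψ.normal_ker
  exact ⟨L, ψ.ker.map L.subtype, inferInstance,
    ⟨(QuotientGroup.quotientMulEquivOfEq hnk).trans
      (QuotientGroup.quotientKerEquivOfSurjective ψ hsurj)⟩⟩

/-- An abelian (modulo the kernel) `p`-group `A` acting faithfully on an abelian `p'`-group `Q`
which is faithful on `V` has `|V : C_V(A)| > |A : C_A(V)|` for odd `p` or in the absence of a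
section isomorphic to the symmetric group of degree 4. -/
theorem relIndex_lt_of_s4_free [Fact p.Prime]
    (hodd : p ≠ 2 ∨ ¬ Cfsg.Involves (Equiv.Perm (Fin 4)) G) (A V Q : Subgroup G)
    (hV : Cfsg.IsElementaryAbelian p V)
    (hA : IsPGroup p A) (hAV : A ≤ normalizer (V : Set G)) (hQV : Q ≤ normalizer (V : Set G))
    (hAQ : A ≤ normalizer (Q : Set G)) (hQc : IsMulCommutative Q) (hQ : (Nat.card Q).Coprime p)
    (hQf : Q ⊓ centralizer (V : Set G) = ⊥) (hder : ⁅A, A⁆ ≤ centralizer (V : Set G))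
    (hfaith : A ⊓ centralizer (Q : Set G) ≤ centralizer (V : Set G))
    (hne : ¬ A ≤ centralizer (V : Set G)) :
    (centralizer (V : Set G)).relIndex A < (centralizer (A : Set G)).relIndex V := by
  induction A using WellFoundedLT.induction with
  | _ A IH =>
  have hp := (Fact.out : p.Prime)
  have hQone : ∀ {y : G}, y ∈ Q → y ∈ centralizer (V : Set G) → y = 1 := fun hy hy' =>
    mem_bot.mp (hQf ▸ (⟨hy, hy'⟩ : _ ∈ Q ⊓ centralizer (V : Set G)))
  have hCn : ∀ {g : G}, g ∈ normalizer (V : Set G) → ∀ {c : G},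
      c ∈ centralizer (V : Set G) → g * c * g⁻¹ ∈ centralizer (V : Set G) := by
    intro g hg c hc
    rw [mem_centralizer_iff] at hc ⊢
    intro w hw
    have := hc _ ((mem_normalizer_iff''.mp hg w).mp hw)
    calc w * (g * c * g⁻¹) = g * ((g⁻¹ * w * g) * c) * g⁻¹ := by group
      _ = g * (c * (g⁻¹ * w * g)) * g⁻¹ := by rw [this]
      _ = g * c * g⁻¹ * w := by group
  have hAQone : ∀ {a : G}, a ∈ A → a ∈ centralizer (V : Set G) → a ∈ centralizer (Q : Set G) := by
    intro a ha hac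
    rw [mem_centralizer_iff]
    intro r hr
    have h1 : a * r * a⁻¹ * r⁻¹ = 1 := by
      refine hQone (mul_mem ((mem_normalizer_iff.mp (hAQ ha) r).mp hr) (inv_mem hr)) ?_
      rw [mul_assoc, mul_assoc, ← mul_assoc r]
      exact mul_mem hac (hCn (hQV hr) (inv_mem hac))
    rw [mul_inv_eq_one, mul_inv_eq_iff_eq_mul] at h1
    exact h1.symm
  set S : Set (Subgroup G) := {B | B < A ∧ A ⊓ centralizer (V : Set G) ≤ B ∧
    ¬ Q ⊓ centralizer (B : Set G) ≤ centralizer (A : Set G)} with hS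
  have hS0 : A ⊓ centralizer (V : Set G) ∈ S := by
    refine ⟨lt_of_le_of_ne inf_le_left fun h => hne (inf_eq_left.mp h), le_rfl, fun hle => hne ?_⟩
    intro a ha
    refine hfaith ⟨ha, mem_centralizer_iff.mpr fun r hr => ?_⟩
    refine (mem_centralizer_iff.mp (hle ⟨hr, mem_centralizer_iff.mpr fun b hb => ?_⟩) a ha).symm
    exact (mem_centralizer_iff.mp (hAQone hb.1 hb.2) r hr).symm
  obtain ⟨B, hBS, hBmax⟩ := wellFounded_gt.has_min S ⟨_, hS0⟩
  obtain ⟨hBA, hB0, hBQ⟩ := hBS
  have hderB : ∀ {a b : G}, a ∈ A → b ∈ A → a * b * a⁻¹ * b⁻¹ ∈ B := fun {a b} ha hb =>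
    hB0 ⟨A.mul_mem (A.mul_mem (A.mul_mem ha hb) (A.inv_mem ha)) (A.inv_mem hb),
      hder (commutator_mem_commutator ha hb)⟩
  have hBnorm : A ≤ normalizer (B : Set G) := by
    intro a ha
    rw [mem_normalizer_iff_map_conj_eq]
    refine eq_of_le_of_card_ge ?_ (card_map_of_injective (MulAut.conj a).injective).ge
    rintro _ ⟨b, hb, rfl⟩
    have := mul_mem (hderB ha (hBA.le hb)) hb
    rwa [inv_mul_cancel_right] at this
  set K := Q ⊓ centralizer (B : Set G) with hK
  have hCB : ∀ a ∈ A, a ∈ normalizer (centralizer (B : Set G) : Set G) := by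
    intro a ha
    rw [mem_normalizer_iff_map_conj_eq]
    refine eq_of_le_of_card_ge ?_ (card_map_of_injective (MulAut.conj a).injective).ge
    rintro _ ⟨c, hc, rfl⟩
    replace hc := mem_centralizer_iff.mp hc
    refine mem_centralizer_iff.mpr fun b hb => ?_
    have := hc _ ((mem_normalizer_iff''.mp (hBnorm ha) b).mp hb)
    show b * (a * c * a⁻¹) = a * c * a⁻¹ * b
    calc b * (a * c * a⁻¹) = a * ((a⁻¹ * b * a) * c) * a⁻¹ := by group
      _ = a * (c * (a⁻¹ * b * a)) * a⁻¹ := by rw [this]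
      _ = a * c * a⁻¹ * b := by group
  have hAK : A ≤ normalizer (K : Set G) := by
    intro a ha
    rw [mem_normalizer_iff]
    intro x
    rw [hK, mem_inf, mem_inf, ← mem_normalizer_iff.mp (hAQ ha) x,
      ← mem_normalizer_iff.mp (hCB a ha) x]
  have hKc : IsMulCommutative K :=
    ⟨⟨fun x y => Subtype.ext (congrArg (fun z : Q => (z : G))
      (hQc.is_comm.comm ⟨x.1, x.2.1⟩ ⟨y.1, y.2.1⟩))⟩⟩
  -- fixed points in `K` of elements outside `B` are fixed by `A`
  have hfix : ∀ c ∈ A, c ∉ B → ∀ x ∈ K, c * x * c⁻¹ = x → x ∈ centralizer (A : Set G) := by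
    intro c hc hcB x hx hcx
    have hsub : B ⊔ zpowers c ≤ centralizer ({x} : Set G) := by
      refine sup_le (fun y hy => ?_) (zpowers_le.mpr ?_)
      · rw [mem_centralizer_singleton_iff]; exact mem_centralizer_iff.mp hx.2 y hy
      · rw [mem_centralizer_singleton_iff]; exact mul_inv_eq_iff_eq_mul.mp hcx
    by_contra hxA
    rcases (sup_le hBA.le (zpowers_le.mpr hc) : B ⊔ zpowers c ≤ A).eq_or_lt with heq | hlt
    · exact hxA (mem_centralizer_iff.mpr fun y hy =>
        mem_centralizer_singleton_iff.mp (hsub (heq ▸ hy)))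
    · exact hBmax (B ⊔ zpowers c) ⟨hlt, hB0.trans le_sup_left, fun hle' => hxA (hle' ⟨hx.1,
        mem_centralizer_iff.mpr fun y hy => mem_centralizer_singleton_iff.mp (hsub hy)⟩)⟩
        (lt_of_le_of_ne le_sup_left fun h => hcB (h ▸ mem_sup_right (mem_zpowers c)))
  -- `A / B` is cyclic
  have hBn : (B.subgroupOf A).Normal := (normal_subgroupOf_iff_le_normalizer hBA.le).mpr hBnorm
  obtain ⟨g, hgtop⟩ := exists_generator_of_unique (p := p) (X := A ⧸ B.subgroupOf A)
    (hA.to_quotient _) (fun x y => by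
      obtain ⟨⟨x, hx⟩, rfl⟩ := QuotientGroup.mk_surjective x
      obtain ⟨⟨y, hy⟩, rfl⟩ := QuotientGroup.mk_surjective y
      rw [commute_iff_eq, ← QuotientGroup.mk_mul, ← QuotientGroup.mk_mul, QuotientGroup.eq,
        mem_subgroupOf]
      have h1 := hderB (A.inv_mem hy) (A.inv_mem hx)
      simpa [mul_assoc] using h1)
    (fun x y hx hy hx1 => by
      obtain ⟨⟨c, hc⟩, rfl⟩ := QuotientGroup.mk_surjective x
      obtain ⟨⟨d, hd⟩, rfl⟩ := QuotientGroup.mk_surjective y
      rw [← QuotientGroup.mk_pow, QuotientGroup.eq_one_iff, mem_subgroupOf] at hx hy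
      rw [Ne, QuotientGroup.eq_one_iff, mem_subgroupOf] at hx1
      by_contra hno
      refine hBQ fun r hr => ?_
      open scoped IsMulCommutative in
      let ψ : A →* MulAut K := K.normalizerMonoidHom.comp (inclusion hAK)
      open scoped IsMulCommutative in
      have hψ : ∀ e : A, (e : G) ∈ B → ψ e = 1 := fun e he => by
        refine MulEquiv.ext fun z => Subtype.ext ?_
        show (e : G) * z * (e : G)⁻¹ = z
        rw [mem_centralizer_iff.mp z.2.2 e he, mul_inv_cancel_right]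
      open scoped IsMulCommutative in
      have h := Coprime.pow_mem_closure_fixed (α := ψ ⟨c, hc⟩) (β := ψ ⟨d, hd⟩) hp
        (by rw [← map_pow]; exact hψ _ (by simpa using hx))
        (by rw [← map_pow]; exact hψ _ (by simpa using hy))
        (by
          rw [commute_iff_eq, ← mul_inv_eq_one, mul_inv_rev, ← mul_assoc, ← map_inv, ← map_inv,
            ← map_mul, ← map_mul, ← map_mul]
          exact hψ _ (hderB hc hd))
        (⟨r, hr⟩ : K)
      have hcl : ∀ z : K, z ∈ Subgroup.closure {w : K | ψ ⟨c, hc⟩ w = w ∨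
          ∃ i : ℕ, ((ψ ⟨c, hc⟩) ^ i * ψ ⟨d, hd⟩) w = w} → (z : G) ∈ centralizer (A : Set G) := by
        intro z hz
        refine mem_subgroupOf.mp
          ((Subgroup.closure_le ((centralizer (A : Set G)).subgroupOf K)).mpr ?_ hz)
        rintro w (hw | ⟨i, hw⟩)
        · exact hfix c hc hx1 w w.2 (congrArg (fun z : K => (z : G)) hw)
        · refine hfix (c ^ i * d) (mul_mem (pow_mem hc i) hd) (fun hin => hno ?_) w w.2 ?_
          · refine ⟨-(i : ℤ), ?_⟩
            show (QuotientGroup.mk ⟨c, hc⟩ : A ⧸ B.subgroupOf A) ^ (-(i : ℤ)) = _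
            rw [zpow_neg, zpow_natCast, ← QuotientGroup.mk_pow, ← QuotientGroup.mk_inv,
              QuotientGroup.eq, mem_subgroupOf]
            simpa using hin
          · rw [← map_pow, ← map_mul] at hw
            exact congrArg (fun z : K => (z : G)) hw
      have hrp : r ^ p ∈ centralizer (A : Set G) := by simpa using hcl _ h
      obtain ⟨m, hm⟩ := exists_pow_eq_self_of_coprime
        (hQ.coprime_dvd_left (orderOf_dvd_natCard Q hr.1)).symm
      exact hm ▸ pow_mem hrp m)
  obtain ⟨⟨a, ha⟩, rfl⟩ := QuotientGroup.mk_surjective g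
  obtain ⟨e, he⟩ := IsPGroup.iff_orderOf.mp (hA.to_quotient (B.subgroupOf A))
    (QuotientGroup.mk ⟨a, ha⟩ : A ⧸ B.subgroupOf A)
  have hBidx : B.relIndex A = p ^ e := by
    rw [relIndex, index_eq_card, ← card_top, ← hgtop, Nat.card_zpowers, he]
  have hgen : B ⊔ zpowers a = A := by
    refine le_antisymm (sup_le hBA.le (zpowers_le.mpr ha)) fun z hz => ?_
    obtain ⟨j, hj⟩ : (QuotientGroup.mk ⟨z, hz⟩ : A ⧸ B.subgroupOf A) ∈
        zpowers (QuotientGroup.mk ⟨a, ha⟩) := hgtop ▸ mem_top _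
    replace hj : (QuotientGroup.mk ⟨a, ha⟩ : A ⧸ B.subgroupOf A) ^ j =
        QuotientGroup.mk ⟨z, hz⟩ := hj
    rw [← QuotientGroup.mk_zpow, QuotientGroup.eq, mem_subgroupOf] at hj
    have h1 : (a ^ j)⁻¹ * z ∈ B := by simpa using hj
    have h2 := mul_mem (zpow_mem (mem_sup_right (mem_zpowers a) : a ∈ B ⊔ zpowers a) j)
      (mem_sup_left h1 : (a ^ j)⁻¹ * z ∈ B ⊔ zpowers a)
    rwa [mul_inv_cancel_left] at h2
  obtain ⟨k, rfl⟩ : ∃ k, e = k + 1 := by
    rcases e with _ | k
    · exact absurd (relIndex_eq_one.mp (by simpa using hBidx)) hBA.not_ge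
    · exact ⟨k, rfl⟩
  have hmkpow : ∀ n : ℕ, a ^ n ∈ B ↔ p ^ (k + 1) ∣ n := fun n => by
    rw [← he, orderOf_dvd_iff_pow_eq_one, ← QuotientGroup.mk_pow, QuotientGroup.eq_one_iff,
      mem_subgroupOf]
    simp
  set b := a ^ p ^ k with hb
  have hbA : b ∈ A := pow_mem ha _
  have hbB : b ∉ B := fun h => by
    have := (Nat.pow_dvd_pow_iff_le_right hp.one_lt).mp ((hmkpow _).mp h)
    omega
  have hbp : b ^ p ∈ B := by
    rw [hb, ← pow_mul, ← pow_succ]; exact (hmkpow _).mpr dvd_rfl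
  -- the fixed points of `B` on `V`
  set V₁ := V ⊓ centralizer (B : Set G) with hV₁
  have hV₁ea : Cfsg.IsElementaryAbelian p V₁ := Thompson.ea_mono hV inf_le_left
  have hnV₁ : ∀ g : G, g ∈ normalizer (V : Set G) → g ∈ normalizer (centralizer (B : Set G) : Set G) →
      g ∈ normalizer (V₁ : Set G) := fun g h1 h2 => by
    rw [mem_normalizer_iff]
    intro x
    rw [hV₁, mem_inf, mem_inf, ← mem_normalizer_iff.mp h1 x, ← mem_normalizer_iff.mp h2 x]
  have hAV₁ : ∀ c ∈ A, c ∈ normalizer (V₁ : Set G) := fun c hc => hnV₁ c (hAV hc) (hCB c hc)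
  have hKV₁ : K ≤ normalizer (V₁ : Set G) := fun x hx =>
    hnV₁ x (hQV hx.1) (le_normalizer (hx.2 : x ∈ centralizer (B : Set G)))
  have hKf : K ⊓ centralizer (V₁ : Set G) = ⊥ := by
    rw [eq_bot_iff]
    rintro x ⟨hx, hxc⟩
    refine mem_bot.mpr (hQone hx.1 (zpowers_le.mp (Coprime.thompson_pxq (P := B) (U := V)
      (hA.to_le hBA.le) ?_ (Thompson.ea_isPGroup hV) ?_ (hBA.le.trans hAV)
      (zpowers_le.mpr (hQV hx.1)) ?_)))
    · rw [Nat.card_zpowers]
      exact hQ.coprime_dvd_left (orderOf_dvd_natCard Q hx.1)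
    · rw [le_centralizer_iff, zpowers_le]
      exact hx.2
    · intro v hv
      refine mem_centralizer_iff.mpr ?_
      rintro _ ⟨i, rfl⟩
      exact ((show Commute x v from
        (mem_centralizer_iff.mp hxc v hv).symm).zpow_left i).eq
  have hb2 : b ^ p ∈ centralizer (V₁ : Set G) :=
    mem_centralizer_iff.mpr fun v hv => (mem_centralizer_iff.mp hv.2 _ hbp).symm
  have hbn : b ∉ centralizer (K : Set G) := fun hbc => hBQ fun x hx =>
    hfix b hbA hbB x hx (by rw [← mem_centralizer_iff.mp hbc x hx, mul_inv_cancel_right])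
  have hnot : ¬ (centralizer ({b} : Set G)).relIndex V₁ ≤ p := by
    intro hi
    rcases eq_or_ne p 2 with rfl | h2
    · refine (hodd.resolve_left (fun h => h rfl)) (involves_s4_of_transvection hV₁ea hKc
        (hQ.coprime_dvd_left (card_dvd_of_le inf_le_left)) hKV₁ hKf (hAV₁ b hbA) (hAK hbA)
        (by rw [← pow_two]; exact hb2) hi hbn)
    · refine hbn (mem_centralizer_iff.mpr fun r hr => ?_)
      have h1 : b * r * b⁻¹ * r⁻¹ = 1 := mem_bot.mp (hKf ▸
        (⟨K.mul_mem ((mem_normalizer_iff.mp (hAK hbA) r).mp hr) (K.inv_mem hr),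
          Fusion.mem_centralizer_of_quadratic (hp.odd_of_ne_two h2) hV₁ea (hAV₁ b hbA) hKV₁
            (fun v hv => Fusion.quadratic_of_relIndex_le hV₁ea
              (hA.to_le (zpowers_le.mpr hbA)) (hAV₁ b hbA) hi hv) hKc
            (hQ.coprime_dvd_left (card_dvd_of_le inf_le_left)) (hAK hbA) hr⟩ :
          b * r * b⁻¹ * r⁻¹ ∈ K ⊓ centralizer (V₁ : Set G)))
      rw [mul_inv_eq_one, mul_inv_eq_iff_eq_mul] at h1
      exact h1.symm
  have hlt : p ^ (k + 1) < (centralizer (A : Set G)).relIndex V₁ := by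
    by_contra hle
    push Not at hle
    refine hnot (relIndex_pow_le hV₁ea (hAV₁ a ha) ?_ ?_)
    · refine mem_centralizer_iff.mpr fun v hv => (mem_centralizer_iff.mp hv.2 _ ?_).symm
      exact (hmkpow _).mpr dvd_rfl
    refine le_trans (le_of_eq ?_) hle
    rw [← inf_relIndex_right, ← inf_relIndex_right (centralizer (A : Set G))]
    congr 1
    refine le_antisymm (fun v hv => ⟨?_, hv.2⟩) (inf_le_inf_right _ ?_)
    · exact centralizer_le (by simpa using ha)
    · refine mem_centralizer_iff.mpr fun y hy => ?_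
      have hsub : A ≤ centralizer ({v} : Set G) := by
        rw [← hgen]
        refine sup_le (fun z hz => ?_) (zpowers_le.mpr ?_)
        · rw [mem_centralizer_singleton_iff]; exact mem_centralizer_iff.mp hv.2.2 z hz
        · rw [mem_centralizer_singleton_iff]
          exact (mem_centralizer_singleton_iff.mp hv.1).symm
      exact mem_centralizer_singleton_iff.mp (hsub hy)
  have hCA : (centralizer (V : Set G)).relIndex A =
      (centralizer (V : Set G)).relIndex B * p ^ (k + 1) := by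
    have h2 := relIndex_mul_relIndex (centralizer (V : Set G) ⊓ A) B A
      (by rw [inf_comm]; exact hB0) hBA.le
    rw [inf_relIndex_right, hBidx] at h2
    rw [← h2, ← inf_relIndex_right (centralizer (V : Set G) ⊓ A), inf_assoc,
      inf_eq_right.mpr hBA.le, inf_relIndex_right]
  have hVA : (centralizer (A : Set G)).relIndex V =
      (centralizer (A : Set G)).relIndex V₁ * (centralizer (B : Set G)).relIndex V := by
    have h2 := relIndex_mul_relIndex (centralizer (A : Set G) ⊓ V) V₁ V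
      (le_inf inf_le_right (inf_le_left.trans (centralizer_le hBA.le))) inf_le_left
    rw [inf_relIndex_right] at h2
    rw [← h2, ← inf_relIndex_right (centralizer (A : Set G) ⊓ V), inf_assoc,
      inf_eq_right.mpr (inf_le_left : V₁ ≤ V), inf_relIndex_right, hV₁, inf_comm V,
      inf_relIndex_right]
  rw [hCA, hVA, mul_comm]
  have hpos : 0 < (centralizer (B : Set G)).relIndex V := Nat.pos_of_ne_zero index_ne_zero_of_finite
  by_cases hBV : B ≤ centralizer (V : Set G)
  · rw [relIndex_eq_one.mpr hBV, mul_one]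
    exact lt_of_lt_of_le hlt (Nat.le_mul_of_pos_right _ hpos)
  · have hIH := IH B hBA (hA.to_le hBA.le) (hBA.le.trans hAV) (hBA.le.trans hAQ)
      ((commutator_mono hBA.le hBA.le).trans hder) ((inf_le_inf_right _ hBA.le).trans hfaith) hBV
    exact Nat.mul_lt_mul'' hlt hIH

end Cfsg.Agent.FusSys
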