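import Cfsg.Agent.FusSys.TransvS4
import Cfsg.Agent.FusSys.GenCtl

/-!
Glauberman's theorem on weakly closed central elements: for odd `p` or without a section isomorphic
to the symmetric group of degree 4, central elements of a Sylow subgroup fixed by `N(J(P))` are
central in a constrained group.
-/

set_option autoImplicit false

namespace Cfsg.Agent.FusSys

open Subgroup
open scoped commutatorElement

universe u

variable {p : ℕ}

/-- A proper subgroup of a `p`-group lies in a normalized subgroup of index `p`. -/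
theorem exists_index_p_ge [Fact p.Prime] {G : Type u} [Group G] [Finite G] {R Q : Subgroup G}
    (hR : IsPGroup p R) (hQR : Q < R) :
    ∃ M, Q ≤ M ∧ M < R ∧ M.relIndex R = p ∧ R ≤ normalizer (M : Set G) := by
  have hp := (Fact.out : p.Prime)
  haveI : Finite R := inferInstance
  obtain ⟨a, ha⟩ := IsPGroup.iff_card.1 hR
  obtain ⟨b, hb⟩ := IsPGroup.iff_card.1 (hR.to_le hQR.le)
  have hlt : b < a := by
    have h := Cfsg.Agent.Core.card_lt_of_lt hQR
    rw [ha, hb] at h
    exact (Nat.pow_lt_pow_iff_right hp.one_lt).1 h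
  obtain ⟨K, hKc, hQK⟩ := Sylow.exists_subgroup_card_pow_prime_le (G := R) p
    (m := a - 1) (by rw [ha]; exact pow_dvd_pow p (by omega)) (Q.subgroupOf R)
    (show Nat.card (Q.subgroupOf R) = p ^ b by
      rw [Nat.card_congr (subgroupOfEquivOfLe hQR.le).toEquiv, hb]) (by omega)
  set M := K.map R.subtype with hM
  have hMR : M ≤ R := map_subtype_le _
  have hMc : Nat.card M = p ^ (a - 1) := by
    rw [hM, card_map_of_injective R.subtype_injective, hKc]
  have hidx : M.relIndex R = p := by
    have h := relIndex_mul_relIndex (⊥ : Subgroup G) M R bot_le hMR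
    simp only [relIndex_bot_left] at h
    rw [hMc, ha] at h
    have h' : p ^ (a - 1) * M.relIndex R = p ^ (a - 1) * p := by
      rw [h, ← pow_succ]; congr 1; omega
    exact Nat.eq_of_mul_eq_mul_left (pow_pos hp.pos _) h'
  have hMlt : M < R := lt_of_le_of_ne hMR fun e => by
    rw [e, relIndex_self] at hidx
    exact hp.one_lt.ne hidx
  refine ⟨M, fun x hx => ⟨⟨x, hQR.le hx⟩, hQK hx, rfl⟩, hMlt, hidx, ?_⟩
  have hlt' := lt_inf_normalizer (p := p) (S := R) hR le_rfl hMlt
  set N := R ⊓ normalizer (M : Set G) with hN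
  have h := relIndex_mul_relIndex M N R hlt'.le inf_le_left
  rw [hidx] at h
  rcases hp.eq_one_or_self_of_dvd _ (Dvd.intro_left _ h) with h1 | h1
  · exact (relIndex_eq_one.1 h1).trans inf_le_right
  · rw [h1, Nat.mul_eq_right hp.ne_zero] at h
    exact absurd (relIndex_eq_one.1 h) hlt'.not_ge

variable {G : Type u} [Group G] [Finite G]

/-- An abelian subgroup of `P` not centralizing `V` which centralizes a subgroup of `V` of index
at most the index of its own centralizer of `V`. -/
def Offender (P V X : Subgroup G) : Prop :=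
  X ≤ P ∧ IsMulCommutative X ∧ ¬ X ≤ centralizer (V : Set G) ∧
    (centralizer (X : Set G)).relIndex V ≤ (centralizer (V : Set G)).relIndex X

/-- A minimal offender. -/
def MinOffender (P V X : Subgroup G) : Prop :=
  Offender P V X ∧ ∀ Y, Y < X → ¬ Offender P V Y

omit [Finite G] in
theorem centralizer_map_conj (y : G) (H : Subgroup G) :
    (centralizer (H : Set G)).map (MulAut.conj y).toMonoidHom =
      centralizer ((H.map (MulAut.conj y).toMonoidHom : Subgroup G) : Set G) := by
  ext c
  rw [mem_map_equiv, mem_centralizer_iff, mem_centralizer_iff]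
  constructor
  · rintro h _ ⟨x, hx, rfl⟩
    have h1 := congrArg (MulAut.conj y) (h x hx)
    rwa [map_mul, map_mul, MulEquiv.apply_symm_apply] at h1
  · intro h x hx
    apply (MulAut.conj y).injective
    rw [map_mul, map_mul, MulEquiv.apply_symm_apply]
    exact h _ ⟨x, hx, rfl⟩

omit [Finite G] in
theorem offender_conj {P V X : Subgroup G} [V.Normal] (hX : Offender P V X) {y : G}
    (h : X.map (MulAut.conj y).toMonoidHom ≤ P) :
    Offender P V (X.map (MulAut.conj y).toMonoidHom) := by
  obtain ⟨-, hc, hne, hi⟩ := hX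
  have hV : V.map (MulAut.conj y).toMonoidHom = V := mem_normalizer_iff_map_conj_eq.1
    (show y ∈ normalizer (V : Set G) by rw [normalizer_eq_top]; exact mem_top y)
  have hCV : (centralizer (V : Set G)).map (MulAut.conj y).toMonoidHom = centralizer (V : Set G) := by
    rw [centralizer_map_conj, hV]
  refine ⟨h, ⟨⟨?_⟩⟩, fun hle => hne ?_, ?_⟩
  · rintro ⟨_, a, ha, rfl⟩ ⟨_, b, hb, rfl⟩
    refine Subtype.ext ?_
    show (MulAut.conj y).toMonoidHom a * (MulAut.conj y).toMonoidHom b =
      (MulAut.conj y).toMonoidHom b * (MulAut.conj y).toMonoidHom a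
    have hab : a * b = b * a := congrArg Subtype.val (hc.is_comm.comm ⟨a, ha⟩ ⟨b, hb⟩)
    rw [← map_mul, hab, map_mul]
  · rw [← hCV] at hle
    exact (map_le_map_iff_of_injective (MulAut.conj y).injective).1 hle
  · conv_lhs => rw [← centralizer_map_conj, ← hV]
    conv_rhs => rw [← hCV]
    rw [relIndex_map_map_of_injective _ _ (f := (MulAut.conj y).toMonoidHom)
      (MulAut.conj y).injective, relIndex_map_map_of_injective _ _
      (f := (MulAut.conj y).toMonoidHom) (MulAut.conj y).injective]
    exact hi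

theorem minOffender_conj {P V X : Subgroup G} [V.Normal] (hX : MinOffender P V X) {y : G}
    (h : X.map (MulAut.conj y).toMonoidHom ≤ P) :
    MinOffender P V (X.map (MulAut.conj y).toMonoidHom) := by
  refine ⟨offender_conj hX.1 h, fun Y hY hYo => ?_⟩
  have e : ∀ Z : Subgroup G, (Z.map (MulAut.conj y).toMonoidHom).map (MulAut.conj y⁻¹).toMonoidHom
      = Z := fun Z => by
    rw [map_map]
    convert map_id Z
    ext w
    simp [mul_assoc]
  have hlt : Y.map (MulAut.conj y⁻¹).toMonoidHom < X := by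
    have h1 := (map_lt_map_iff_of_injective
      (f := (MulAut.conj y⁻¹).toMonoidHom) (MulAut.conj y⁻¹).injective).2 hY
    rwa [e] at h1
  exact hX.2 _ hlt (offender_conj hYo (hlt.le.trans hX.1.1))

/-- The subgroup generated by the minimal offenders. -/
def offGen (P V : Subgroup G) : Subgroup G := sSup {X | MinOffender P V X}

theorem mem_normalizer_offGen {P V : Subgroup G} [V.Normal] {y : G}
    (h : ∀ x ∈ offGen P V, y * x * y⁻¹ ∈ P) :
    y ∈ normalizer (offGen P V : Set G) := by
  refine mem_normalizer_of_maps fun x hx => ?_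
  have hle : offGen P V ≤ (offGen P V).comap (MulAut.conj y).toMonoidHom := by
    refine sSup_le fun X hX => ?_
    rw [← map_le_iff_le_comap]
    refine le_sSup (minOffender_conj hX ?_)
    rintro _ ⟨a, ha, rfl⟩
    exact h a (le_sSup (a := X) hX ha)
  exact hle hx

section Orbits

variable {V : Subgroup G} [V.Normal]

open Classical in
/-- The orbit of an element of a normal subgroup under conjugation by a subgroup. -/
noncomputable def conjOrbit (R : Subgroup G) (w : V) : Finset V :=
  (Set.toFinite (Set.range fun r : R => MulAut.conjNormal (r : G) w)).toFinset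

theorem mem_conjOrbit {R : Subgroup G} {w u : V} :
    u ∈ conjOrbit R w ↔ ∃ r ∈ R, MulAut.conjNormal r w = u := by
  classical
  simp [conjOrbit]

end Orbits

set_option maxHeartbeats 800000 in
/-- The main step: if every element of `V` has central `p`-th power, `z ∈ V` is fixed by `P`, by
`N(D)` for the subgroup `D` generated by the minimal offenders, and only such elements are fixed
by all minimal offenders, then `z` is central. -/
theorem mem_center_of_offenders [Fact p.Prime] (P : Sylow p G) {V : Subgroup G} [V.Normal]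
    (hVc : IsMulCommutative V) (hVp : ∀ v ∈ V, v ^ p ∈ center G)
    (hVPg : IsPGroup p V) {z : G} (hz : z ∈ V) (hPz : (P : Subgroup G) ≤ centralizer ({z} : Set G))
    (hND : normalizer (offGen (P : Subgroup G) V : Set G) ≤ centralizer ({z} : Set G))
    (hodd : p ≠ 2 ∨ ¬ Cfsg.Involves (Equiv.Perm (Fin 4)) G)
    (hT : ∀ T : Subgroup G, T.Normal → centralizer (V : Set G) ≤ T →
      (∀ t ∈ T, ∃ k, t ^ p ^ k ∈ centralizer (V : Set G)) →
      ∀ x ∈ (P : Subgroup G), x ∈ T → x ∈ centralizer (V : Set G)) :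
    z ∈ center G := by
  classical
  have hp := (Fact.out : p.Prime)
  letI : CommGroup V :=
    { (inferInstance : Group V) with mul_comm := fun a b => hVc.is_comm.comm a b }
  let α : G →* MulAut V := MulAut.conjNormal
  have hα : ∀ (g : G) (v : V), ((α g v : V) : G) = g * v * g⁻¹ :=
    fun g v => MulAut.conjNormal_apply g v
  set Zc := (center G).subgroupOf V with hZc
  have hfix : ∀ c ∈ Zc, ∀ g : G, α g c = c := fun c hc g => Subtype.ext (by
    rw [hα, mem_center_iff.1 (mem_subgroupOf.1 hc) g, mul_inv_cancel_right])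
  have hpow : ∀ v : V, v ^ p ∈ Zc := fun v => mem_subgroupOf.2 (by
    rw [SubgroupClass.coe_pow]; exact hVp v v.2)
  have hcent : ∀ {g : G} {v : V}, g ∈ centralizer ({(v : G)} : Set G) ↔ α g v = v := fun {g v} => by
    rw [mem_centralizer_singleton_iff, Subtype.ext_iff, hα, mul_inv_eq_iff_eq_mul]
  -- products over orbits of subgroups containing an offender that moves the element
  have key : ∀ R : Subgroup G, R ≤ (P : Subgroup G) → ∀ w : V,
      (∃ X, MinOffender (P : Subgroup G) V X ∧ X ≤ R ∧ ¬ X ≤ centralizer ({(w : G)} : Set G)) →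
      ∏ u ∈ conjOrbit R w, u ∈ Zc := by
    intro R
    induction R using WellFoundedLT.induction with
    | _ R IH =>
    rintro hRP w ⟨X, hX, hXR, hXw⟩
    have hQ : R ⊓ centralizer ({(w : G)} : Set G) < R := lt_of_le_of_ne inf_le_left fun e =>
      hXw (hXR.trans (inf_eq_left.1 e))
    obtain ⟨M, hQM, hMR, hidx, hMn⟩ := exists_index_p_ge (P.2.to_le hRP) hQ
    set v := ∏ u ∈ conjOrbit M w, u with hv
    have hMv : ∀ m ∈ M, α m v = v := by
      intro m hm
      rw [hv, map_prod]
      refine Finset.prod_nbij' (fun u => α m u) (fun u => α m⁻¹ u) ?_ ?_ ?_ ?_ ?_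
      · intro u hu
        obtain ⟨r, hr, rfl⟩ := mem_conjOrbit.1 hu
        exact mem_conjOrbit.2 ⟨m * r, mul_mem hm hr, by simp [α]⟩
      · intro u hu
        obtain ⟨r, hr, rfl⟩ := mem_conjOrbit.1 hu
        exact mem_conjOrbit.2 ⟨m⁻¹ * r, mul_mem (inv_mem hm) hr, by simp [α]⟩
      · intro u _
        show α m⁻¹ (α m u) = u
        rw [map_inv]; exact MulEquiv.symm_apply_apply _ _
      · intro u _
        show α m (α m⁻¹ u) = u
        rw [map_inv]; exact MulEquiv.apply_symm_apply _ _
      · intro u _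
        rfl
    -- the decomposition along a transversal
    have hMnR : (M.subgroupOf R).Normal := (normal_subgroupOf_iff_le_normalizer hMR.le).2 hMn
    have hpowM : ∀ c ∈ R, c ^ p ∈ M := fun c hc => by
      have h := Subgroup.pow_index_mem (M.subgroupOf R) (⟨c, hc⟩ : R)
      rw [show (M.subgroupOf R).index = p from hidx] at h
      exact h
    have hdec : ∀ c ∈ R, c ∉ M →
        ∏ u ∈ conjOrbit R w, u = ∏ i ∈ Finset.range p, α (c ^ i) v := by
      intro c hc hcM
      have hord : orderOf (QuotientGroup.mk (⟨c, hc⟩ : R) : R ⧸ M.subgroupOf R) = p :=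
        orderOf_eq_prime ((QuotientGroup.eq_one_iff _).2 (mem_subgroupOf.2 (hpowM c hc)))
          fun h => hcM (mem_subgroupOf.1 ((QuotientGroup.eq_one_iff _).1 h))
      have hmem : ∀ r ∈ R, ∃ i < p, (c ^ i)⁻¹ * r ∈ M := by
        intro r hr
        have htop : zpowers (QuotientGroup.mk (⟨c, hc⟩ : R) : R ⧸ M.subgroupOf R) = ⊤ :=
          eq_top_of_card_eq _ (by rw [Nat.card_zpowers, hord, ← index_eq_card]; exact hidx.symm)
        obtain ⟨i, hi, hir⟩ : ∃ i < p, (QuotientGroup.mk (⟨c, hc⟩ : R) : R ⧸ M.subgroupOf R) ^ i =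
            QuotientGroup.mk ⟨r, hr⟩ := by
          have h := htop ▸ mem_top (QuotientGroup.mk ⟨r, hr⟩ : R ⧸ M.subgroupOf R)
          rw [← mem_powers_iff_mem_zpowers, mem_powers_iff_mem_range_orderOf, hord,
            Finset.mem_image] at h
          obtain ⟨i, hi, hir⟩ := h
          exact ⟨i, Finset.mem_range.1 hi, hir⟩
        rw [← QuotientGroup.mk_pow, QuotientGroup.eq, mem_subgroupOf] at hir
        exact ⟨i, hi, by simpa using hir⟩
      have huniq : ∀ i < p, ∀ j < p, (c ^ i)⁻¹ * c ^ j ∈ M → i = j := by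
        intro i hi j hj h
        have h1 : (QuotientGroup.mk (⟨c, hc⟩ : R) : R ⧸ M.subgroupOf R) ^ i =
            (QuotientGroup.mk (⟨c, hc⟩ : R)) ^ j := by
          rw [← QuotientGroup.mk_pow, ← QuotientGroup.mk_pow, QuotientGroup.eq, mem_subgroupOf]
          simpa using h
        exact pow_injOn_Iio_orderOf (hord.symm ▸ hi) (hord.symm ▸ hj) h1
      rw [hv]
      simp_rw [map_prod]
      rw [← Finset.prod_product' (Finset.range p) (conjOrbit M w) fun i u => α (c ^ i) u]
      symm
      refine Finset.prod_bij (fun iu _ => α (c ^ iu.1) iu.2) ?_ ?_ ?_ ?_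
      · rintro ⟨i, u⟩ hiu
        obtain ⟨-, hu⟩ := Finset.mem_product.1 hiu
        obtain ⟨m, hm, rfl⟩ := mem_conjOrbit.1 hu
        exact mem_conjOrbit.2 ⟨c ^ i * m, mul_mem (pow_mem hc i) (hMR.le hm), by simp [α]⟩
      · rintro ⟨i, u⟩ h1 ⟨j, u'⟩ h2 he
        obtain ⟨hi, hu⟩ := Finset.mem_product.1 h1
        obtain ⟨hj, hu'⟩ := Finset.mem_product.1 h2
        obtain ⟨m, hm, rfl⟩ := mem_conjOrbit.1 hu
        obtain ⟨m', hm', rfl⟩ := mem_conjOrbit.1 hu'
        have he' : α (c ^ i * m) w = α (c ^ j * m') w := by simpa [α] using he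
        have hst : (c ^ j * m')⁻¹ * (c ^ i * m) ∈ M := by
          refine hQM ⟨R.mul_mem (R.inv_mem (R.mul_mem (pow_mem hc _) (hMR.le hm')))
            (mul_mem (pow_mem hc _) (hMR.le hm)), hcent.2 ?_⟩
          rw [map_mul, MulAut.mul_apply, he', map_inv]
          exact MulEquiv.symm_apply_apply _ _
        have hij : j = i := huniq j (Finset.mem_range.1 hj) i (Finset.mem_range.1 hi) (by
          have h3 := M.mul_mem (M.mul_mem hm' hst) (M.inv_mem hm)
          have e : m' * ((c ^ j * m')⁻¹ * (c ^ i * m)) * m⁻¹ = (c ^ j)⁻¹ * c ^ i := by group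
          rwa [e] at h3)
        subst hij
        exact Prod.ext rfl ((α (c ^ j)).injective he)
      · intro u hu
        obtain ⟨r, hr, rfl⟩ := mem_conjOrbit.1 hu
        obtain ⟨i, hi, him⟩ := hmem r hr
        refine ⟨(i, α ((c ^ i)⁻¹ * r) w), Finset.mem_product.2
          ⟨Finset.mem_range.2 hi, mem_conjOrbit.2 ⟨_, him, rfl⟩⟩, ?_⟩
        show α (c ^ i) (α ((c ^ i)⁻¹ * r) w) = _
        rw [← MulAut.mul_apply, ← map_mul, mul_inv_cancel_left]
      · rintro ⟨i, u⟩ -
        rfl
    -- the cyclic norm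
    have hnorm : ∀ c, α c v = v → ∏ i ∈ Finset.range p, α (c ^ i) v = v ^ p := by
      intro c hc
      have h : ∀ i, α (c ^ i) v = v := fun i => by
        induction i with
        | zero => simp
        | succ i ih => rw [pow_succ, map_mul, MulAut.mul_apply, hc, ih]
      rw [Finset.prod_congr rfl fun i _ => h i, Finset.prod_const, Finset.card_range]
    by_cases hall : ∀ Y, MinOffender (P : Subgroup G) V Y → Y ≤ R → Y ≤ M
    · obtain ⟨c, hc, hcM⟩ := SetLike.exists_of_lt hMR
      have hvZ := IH M hMR (hMR.le.trans hRP) w ⟨X, hX, hall X hX hXR, hXw⟩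
      rw [hdec c hc hcM, hnorm c (hfix v hvZ c)]
      exact hpow v
    push Not at hall
    obtain ⟨Y, hY, hYR, hYM⟩ := hall
    obtain ⟨c, hcY, hcM⟩ := SetLike.not_le_iff_exists.1 hYM
    set B := Y ⊓ M with hB
    have hBY : B < Y := lt_of_le_of_ne inf_le_left fun e => hYM (inf_eq_left.1 e)
    have hgen : Y ≤ B ⊔ zpowers c := by
      intro y hy
      have htop : zpowers (QuotientGroup.mk (⟨c, hYR hcY⟩ : R) : R ⧸ M.subgroupOf R) = ⊤ := by
        have hord : orderOf (QuotientGroup.mk (⟨c, hYR hcY⟩ : R) : R ⧸ M.subgroupOf R) = p :=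
          orderOf_eq_prime ((QuotientGroup.eq_one_iff _).2 (mem_subgroupOf.2 (hpowM c (hYR hcY))))
            fun h => hcM (mem_subgroupOf.1 ((QuotientGroup.eq_one_iff _).1 h))
        exact eq_top_of_card_eq _ (by rw [Nat.card_zpowers, hord, ← index_eq_card]; exact hidx.symm)
      obtain ⟨i, hi⟩ := mem_zpowers_iff.1
        (htop ▸ mem_top (QuotientGroup.mk ⟨y, hYR hy⟩ : R ⧸ M.subgroupOf R))
      rw [← QuotientGroup.mk_zpow, QuotientGroup.eq, mem_subgroupOf] at hi
      have h1 : (c ^ i)⁻¹ * y ∈ M := by simpa using hi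
      have h2 := mul_mem (zpow_mem (mem_sup_right (mem_zpowers c) : c ∈ B ⊔ zpowers c) i)
        (mem_sup_left (⟨Y.mul_mem (Y.inv_mem (zpow_mem hcY i)) hy, h1⟩ : (c ^ i)⁻¹ * y ∈ B))
      rwa [mul_inv_cancel_left] at h2
    rw [hdec c (hYR hcY) hcM]
    obtain ⟨⟨hYP, hYc, hYV, hYi⟩, hYmin⟩ := hY
    have hBc : IsMulCommutative B := ⟨⟨fun a b => Subtype.ext (congrArg Subtype.val
      (hYc.is_comm.comm ⟨a, a.2.1⟩ ⟨b, b.2.1⟩) :)⟩⟩
    by_cases hBV : B ≤ centralizer (V : Set G)
    swap
    · -- `Y` centralizes the fixed points of `B`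
      have hBo := hYmin B hBY
      unfold Offender at hBo
      push Not at hBo
      have hlt := hBo (hBY.le.trans hYP) hBc hBV
      have hBidx : (centralizer (V : Set G)).relIndex Y ≤
          (centralizer (V : Set G)).relIndex B * p := by
        rw [← inf_relIndex_right (centralizer (V : Set G)) B]
        have hBYp : B.relIndex Y ≤ p := by
          rw [hB, inf_relIndex_left]
          refine le_trans (relIndex_le_of_le_right hYR index_ne_zero_of_finite) hidx.le
        refine le_trans ?_ (Nat.mul_le_mul_left _ hBYp)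
        rw [relIndex_mul_relIndex _ _ _ inf_le_right hBY.le]
        exact Nat.le_of_dvd (Nat.pos_of_ne_zero index_ne_zero_of_finite)
          (relIndex_dvd_of_le_left Y inf_le_left)
      have heq : centralizer (B : Set G) ⊓ V ≤ centralizer (Y : Set G) := by
        have h2 := relIndex_mul_relIndex (centralizer (Y : Set G) ⊓ V)
          (centralizer (B : Set G) ⊓ V) V (inf_le_inf_right _ (centralizer_le hBY.le)) inf_le_right
        rw [inf_relIndex_right, inf_relIndex_right] at h2
        obtain ⟨k, hk⟩ := IsPGroup.index (hVPg.to_le inf_le_right :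
          IsPGroup p (centralizer (B : Set G) ⊓ V : Subgroup G))
          (((centralizer (Y : Set G)) ⊓ V).subgroupOf (centralizer (B : Set G) ⊓ V))
        change (centralizer (Y : Set G) ⊓ V).relIndex (centralizer (B : Set G) ⊓ V) = p ^ k at hk
        rcases k with _ | k
        · rw [pow_zero] at hk
          exact (relIndex_eq_one.1 hk).trans inf_le_left
        · exfalso
          have hge : p ≤ p ^ (k + 1) := Nat.le_self_pow (Nat.succ_ne_zero k) p
          rw [hk] at h2
          have h3 : p * (centralizer (B : Set G)).relIndex V ≤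
              (centralizer (Y : Set G)).relIndex V := h2 ▸ Nat.mul_le_mul_right _ hge
          have h4 := (h3.trans hYi).trans hBidx
          rw [mul_comm _ p] at h4
          exact absurd (Nat.le_of_mul_le_mul_left h4 hp.pos) (not_le.2 hlt)
      have hvB : (v : G) ∈ centralizer (B : Set G) ⊓ V := by
        refine ⟨mem_centralizer_iff.2 fun b hb => ?_, v.2⟩
        exact mem_centralizer_singleton_iff.1 (hcent.2 (hMv b hb.2))
      rw [hnorm c (hcent.1 (mem_centralizer_singleton_iff.2
        (mem_centralizer_iff.1 (heq hvB) c hcY)))]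
      exact hpow v
    -- `c` induces a transvection
    have hcV : c ∉ centralizer (V : Set G) := fun hc' => hYV (hgen.trans (sup_le hBV
      (zpowers_le.2 hc')))
    have hcp : c ^ p ∈ centralizer (V : Set G) := hBV ⟨pow_mem hcY p, hpowM c (hYR hcY)⟩
    have hCVY : (centralizer (V : Set G)).relIndex Y ≤ p := by
      refine le_trans (Nat.le_of_dvd (Nat.pos_of_ne_zero index_ne_zero_of_finite)
        (relIndex_dvd_of_le_left Y hBV)) ?_
      show (Y ⊓ M).relIndex Y ≤ p
      rw [inf_relIndex_left]
      exact le_trans (relIndex_le_of_le_right hYR index_ne_zero_of_finite) hidx.le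
    have hci : (centralizer ({c} : Set G)).relIndex V ≤ p := by
      refine le_trans (Nat.le_of_dvd (Nat.pos_of_ne_zero index_ne_zero_of_finite)
        (relIndex_dvd_of_le_left V (centralizer_le (show ({c} : Set G) ⊆ (Y : Set G) by
          simpa using hcY)))) (hYi.trans hCVY)
    rcases eq_or_ne p 2 with rfl | hp2
    · exact absurd (involves_s4_of_transvection_mod V hVc hVPg hcV (by rwa [← pow_two]) hci
        fun T hTn hCT hT2 hcT => hcV (hT T hTn hCT hT2 c (hRP (hYR hcY)) hcT))
        (hodd.resolve_left fun h => h rfl)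
    -- the image of `c - 1`
    let δ : V →* V := MonoidHom.mk' (fun u => α c u * u⁻¹) fun a b => by
      rw [map_mul, mul_inv, mul_mul_mul_comm]
    have hker : δ.ker = (centralizer ({c} : Set G)).subgroupOf V := by
      ext u
      rw [MonoidHom.mem_ker, mem_subgroupOf, mem_centralizer_singleton_iff]
      show α c u * u⁻¹ = 1 ↔ _
      rw [mul_inv_eq_one, Subtype.ext_iff, hα, mul_inv_eq_iff_eq_mul]
      exact eq_comm
    have him : Nat.card δ.range ≤ p := by
      rw [← index_ker, hker]
      exact hci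
    have hinv : ∀ y ∈ δ.range, α c y ∈ δ.range := by
      rintro _ ⟨u, rfl⟩
      exact ⟨α c u, by show α c (α c u) * (α c u)⁻¹ = α c (α c u * u⁻¹); rw [map_mul, map_inv]⟩
    set d := δ v with hd
    have hdR : d ∈ δ.range := ⟨v, rfl⟩
    have hfixd : α c d = d ∧ d ^ p = 1 := by
      by_cases hd1 : d = 1
      · rw [hd1, map_one, one_pow]; exact ⟨rfl, rfl⟩
      obtain ⟨k, hk⟩ := IsPGroup.iff_card.1 (hVPg.to_subgroup δ.range)
      have hk1 : k ≤ 1 := (Nat.pow_le_pow_iff_right hp.one_lt).1 (by rw [← hk, pow_one]; exact him)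
      have hk0 : k ≠ 0 := by
        rintro rfl
        rw [pow_zero, card_eq_one] at hk
        exact hd1 (mem_bot.1 (hk ▸ hdR))
      obtain rfl : k = 1 := by omega
      rw [pow_one] at hk
      have hdo : orderOf d = p := by
        have h := orderOf_dvd_natCard δ.range hdR
        rw [hk] at h
        exact (hp.eq_one_or_self_of_dvd _ h).resolve_left fun h => hd1 (orderOf_eq_one_iff.1 h)
      have hR' : δ.range = zpowers d := (eq_of_le_of_card_ge (zpowers_le.2 hdR)
        (by rw [hk, Nat.card_zpowers, hdo])).symm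
      obtain ⟨a, ha⟩ := mem_zpowers_iff.1 (hR' ▸ hinv d hdR)
      have hiter : ∀ i : ℕ, α (c ^ i) d = d ^ (a ^ i) := by
        intro i
        induction i with
        | zero => simp
        | succ i ih =>
          rw [pow_succ', map_mul, MulAut.mul_apply, ih, map_zpow, ← ha, ← zpow_mul, pow_succ' a]
      have hcd : α (c ^ p) d = d := hcent.1 (mem_centralizer_singleton_iff.2
        (mem_centralizer_iff.1 hcp d d.2).symm)
      rw [hiter, ← div_eq_one, div_eq_mul_inv, ← zpow_sub_one, ← orderOf_dvd_iff_zpow_eq_one,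
        hdo, ← ZMod.intCast_zmod_eq_zero_iff_dvd] at hcd
      push_cast at hcd
      rw [ZMod.pow_card, sub_eq_zero] at hcd
      have ha1 : (p : ℤ) ∣ a - 1 := by
        rw [← ZMod.intCast_zmod_eq_zero_iff_dvd]; push_cast; rw [hcd, sub_self]
      refine ⟨?_, by rw [← hdo, pow_orderOf_eq_one]⟩
      rw [← ha, ← div_eq_one, div_eq_mul_inv, ← zpow_sub_one, ← orderOf_dvd_iff_zpow_eq_one, hdo]
      exact ha1
    have hiter : ∀ i : ℕ, α (c ^ i) v = d ^ i * v := by
      intro i
      induction i with
      | zero => simp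
      | succ i ih =>
        have h1 : α c v = d * v := by
          show α c v = α c v * v⁻¹ * v
          rw [inv_mul_cancel_right]
        rw [pow_succ', map_mul, MulAut.mul_apply, ih, map_mul, map_pow, hfixd.1, h1, ← mul_assoc,
          ← pow_succ]
    rw [Finset.prod_congr rfl fun i _ => hiter i, Finset.prod_mul_distrib,
      Finset.prod_pow_eq_pow_sum, Finset.prod_const, Finset.card_range, Finset.sum_range_id]
    have hdvd : p ∣ p * (p - 1) / 2 := by
      obtain ⟨l, hl⟩ := hp.odd_of_ne_two hp2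
      rw [Nat.mul_div_assoc _ (show 2 ∣ p - 1 from ⟨l, by omega⟩)]
      exact dvd_mul_right _ _
    obtain ⟨l, hl⟩ := hdvd
    rw [hl, pow_mul, hfixd.2, one_pow, one_mul]
    exact hpow v
  -- only `z` is fixed by all minimal offenders
  have honly : ∀ g : G,
      (∀ X, MinOffender (P : Subgroup G) V X → X ≤ centralizer ({g * z * g⁻¹} : Set G)) →
      g * z * g⁻¹ = z := by
    intro g hg
    have hD : offGen (P : Subgroup G) V ≤ centralizer ({g * z * g⁻¹} : Set G) := sSup_le hg
    set A := (offGen (P : Subgroup G) V).map (MulAut.conj g⁻¹).toMonoidHom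
    have hAC : A ≤ centralizer ({z} : Set G) := by
      rintro _ ⟨x, hx, rfl⟩
      rw [mem_centralizer_singleton_iff, MulEquiv.coe_toMonoidHom, MulAut.conj_apply]
      have h := mem_centralizer_singleton_iff.1 (hD hx)
      calc g⁻¹ * x * g⁻¹⁻¹ * z = g⁻¹ * (x * (g * z * g⁻¹)) * g := by group
        _ = g⁻¹ * (g * z * g⁻¹ * x) * g := by rw [h]
        _ = z * (g⁻¹ * x * g⁻¹⁻¹) := by group
    have hsyl : SylIn p (P : Subgroup G) (centralizer ({z} : Set G)) :=
      ⟨hPz, fun h => P.not_dvd_index (h.trans (relIndex_dvd_index_of_le hPz))⟩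
    obtain ⟨m, hm, hmx⟩ := exists_conj_mem_of_sylIn P.2 hsyl
      (A := A) ((P.2.to_le (sSup_le fun X hX => hX.1.1)).map _) hAC
    have hy : m * g⁻¹ ∈ normalizer (offGen (P : Subgroup G) V : Set G) := by
      refine mem_normalizer_offGen fun x hx => ?_
      have := hmx _ (mem_map_of_mem _ hx)
      rw [MulEquiv.coe_toMonoidHom, MulAut.conj_apply] at this
      rwa [show m * g⁻¹ * x * (m * g⁻¹)⁻¹ = m * (g⁻¹ * x * g⁻¹⁻¹) * m⁻¹ by group]
    have h1 : g ∈ centralizer ({z} : Set G) := by
      have h := mul_mem (inv_mem hm) (hND hy)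
      rw [inv_mul_cancel_left] at h
      simpa using inv_mem h
    rw [mem_centralizer_singleton_iff.1 h1, mul_inv_cancel_right]
  -- the product over the conjugacy class
  set zV : V := ⟨z, hz⟩
  set K₀ := conjOrbit (⊤ : Subgroup G) zV with hK₀
  have hsum : ∀ s : Finset V, s ⊆ K₀.erase zV →
      (∀ r ∈ (P : Subgroup G), ∀ u ∈ s, α r u ∈ s) → ∏ u ∈ s, u ∈ Zc := by
    intro s
    induction s using Finset.strongInduction with
    | _ s IH =>
    intro hs hinv
    rcases s.eq_empty_or_nonempty with rfl | ⟨w, hw⟩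
    · simp
    have hsub : conjOrbit (P : Subgroup G) w ⊆ s := fun u hu => by
      obtain ⟨r, hr, rfl⟩ := mem_conjOrbit.1 hu
      exact hinv r hr w hw
    rw [← Finset.prod_sdiff hsub]
    refine Zc.mul_mem (IH _ ?_ ((Finset.sdiff_subset).trans hs) fun r hr u hu => ?_) ?_
    · refine Finset.sdiff_ssubset hsub ⟨w, mem_conjOrbit.2 ⟨1, one_mem _, by simp⟩⟩
    · obtain ⟨hus, huo⟩ := Finset.mem_sdiff.1 hu
      refine Finset.mem_sdiff.2 ⟨hinv r hr u hus, fun h => huo ?_⟩
      obtain ⟨r', hr', hru⟩ := mem_conjOrbit.1 h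
      refine mem_conjOrbit.2 ⟨r⁻¹ * r', mul_mem (inv_mem hr) hr', ?_⟩
      rw [map_mul, MulAut.mul_apply, hru, map_inv]
      exact MulEquiv.symm_apply_apply _ _
    · refine key _ le_rfl w ?_
      obtain ⟨hne, hwK⟩ := Finset.mem_erase.1 (hs hw)
      obtain ⟨g, -, hgw⟩ := mem_conjOrbit.1 hwK
      have hwg : (w : G) = g * z * g⁻¹ := by rw [← hgw]; exact hα g zV
      by_contra hno
      push Not at hno
      refine hne (Subtype.ext ?_)
      rw [hwg]
      exact honly g fun X hX => hwg ▸ hno X hX hX.1.1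
  have hzK : zV ∈ K₀ := mem_conjOrbit.2 ⟨1, mem_top _, by simp⟩
  have hrest : ∏ u ∈ K₀.erase zV, u ∈ Zc := by
    refine hsum _ subset_rfl fun r hr u hu => ?_
    obtain ⟨hne, huK⟩ := Finset.mem_erase.1 hu
    obtain ⟨g, -, rfl⟩ := mem_conjOrbit.1 huK
    refine Finset.mem_erase.2 ⟨fun h => hne ?_, mem_conjOrbit.2 ⟨r * g, mem_top _, by simp [α]⟩⟩
    exact (α r).injective (h.trans (hcent.1 (hPz hr)).symm)
  have hall : ∏ u ∈ K₀, u ∈ Zc := by
    refine mem_subgroupOf.2 (mem_center_iff.2 fun g => ?_)
    refine mul_inv_eq_iff_eq_mul.1 ?_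
    rw [← hα g]
    refine congrArg Subtype.val ?_
    rw [map_prod]
    refine Finset.prod_nbij' (fun u => α g u) (fun u => α g⁻¹ u) ?_ ?_ ?_ ?_ (fun u _ => rfl)
    · intro u hu
      obtain ⟨r, -, rfl⟩ := mem_conjOrbit.1 hu
      exact mem_conjOrbit.2 ⟨g * r, mem_top _, by simp [α]⟩
    · intro u hu
      obtain ⟨r, -, rfl⟩ := mem_conjOrbit.1 hu
      exact mem_conjOrbit.2 ⟨g⁻¹ * r, mem_top _, by simp [α]⟩
    · intro u _
      show α g⁻¹ (α g u) = u
      rw [map_inv]; exact MulEquiv.symm_apply_apply _ _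
    · intro u _
      show α g (α g⁻¹ u) = u
      rw [map_inv]; exact MulEquiv.apply_symm_apply _ _
  rw [← Finset.mul_prod_erase _ _ hzK, Zc.mul_mem_cancel_right hrest] at hall
  exact mem_subgroupOf.1 hall

/-- Subgroups inherit the hypothesis. -/
theorem not_involves_subgroup {N : Subgroup G}
    (h : p ≠ 2 ∨ ¬ Cfsg.Involves (Equiv.Perm (Fin 4)) G) :
    p ≠ 2 ∨ ¬ Cfsg.Involves (Equiv.Perm (Fin 4)) N :=
  h.imp id fun h hi => h (involves_of_injective (θ := N.subtype) N.subtype_injective hi)

/-- Glauberman's theorem for constrained groups. -/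
theorem mem_center_of_constrained [Fact p.Prime] {G : Type u} [Group G] [Finite G]
    (hc : centralizer ((Cfsg.pCore p G : Subgroup G) : Set G) ≤ Cfsg.pCore p G)
    (hodd : p ≠ 2 ∨ ¬ Cfsg.Involves (Equiv.Perm (Fin 4)) G) (P : Sylow p G) {z : G}
    (hz : z ∈ (P : Subgroup G) ⊓ centralizer ((P : Subgroup G) : Set G))
    (hN : normalizer (wsub jW (P : Subgroup G) : Set G) ≤ centralizer ({z} : Set G)) :
    z ∈ center G := by
  classical
  induction hn : Nat.card G using Nat.strong_induction_on generalizing G with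
  | _ n IH =>
  subst hn
  by_cases hJn : (wsub jW (P : Subgroup G)).Normal
  · rw [normalizer_eq_top] at hN
    exact mem_center_iff.2 fun g => mem_centralizer_singleton_iff.1 (hN (mem_top g))
  -- proper overgroups of `P` fix `z`
  have hstep : ∀ N : Subgroup G, (P : Subgroup G) ≤ N → N ≠ ⊤ → N ≤ centralizer ({z} : Set G) := by
    intro N hPN hNtop
    have hcN : centralizer ((Cfsg.pCore p N : Subgroup N) : Set N) ≤ Cfsg.pCore p N := by
      have hON : (Cfsg.pCore p G).subgroupOf N ≤ Cfsg.pCore p N := by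
        refine Core.le_pCore (hN := ?_) (Core.pCore_isPGroup.comap_subtype (K := N))
        exact (inferInstance : (Cfsg.pCore p G).Normal).subgroupOf N
      intro x hx
      refine hON (mem_subgroupOf.mpr (hc (mem_centralizer_iff.mpr fun o ho => ?_)))
      exact congrArg Subtype.val (mem_centralizer_iff.mp hx
        ⟨o, hPN (Core.pCore_le_sylow P ho)⟩ (hON ho))
    have hlt : Nat.card N < Nat.card G := lt_of_le_of_ne
      (Nat.le_of_dvd Nat.card_pos (card_subgroup_dvd_card N))
      fun e => hNtop (eq_top_of_card_eq N e)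
    have hWmap : (wsub jW ((P.subtype hPN : Sylow p N) : Subgroup N)).map N.subtype =
        wsub jW (P : Subgroup G) := by
      have e := subgroupOfEquivOfLe hPN
      rw [wsub, wsub, Sylow.coe_subtype, ← (posFunctor_jW (p := p)).map_eq _ _
        (P.2.comap_subtype (K := N)) (subgroupOfEquivOfLe hPN), map_map, map_map]
      rfl
    have h := IH _ hlt hcN (not_involves_subgroup hodd) (P.subtype hPN) (z := ⟨z, hPN hz.1⟩)
      ⟨by rw [Sylow.coe_subtype]; exact hz.1, mem_centralizer_iff.2 fun y hy => Subtype.ext (by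
        rw [Sylow.coe_subtype] at hy
        exact mem_centralizer_iff.1 hz.2 _ hy)⟩
      (fun x hx => mem_centralizer_singleton_iff.2 (Subtype.ext
        (mem_centralizer_singleton_iff.1 (hN (hWmap ▸ le_normalizer_map N.subtype ⟨x, hx, rfl⟩)))))
      rfl
    exact fun x hx => mem_centralizer_singleton_iff.2
      (congrArg Subtype.val (mem_center_iff.1 h ⟨x, hx⟩))
  set O := Cfsg.pCore p G with hO
  have hOP : O ≤ (P : Subgroup G) := Core.pCore_le_sylow P
  -- `p`-th powers
  have hzp : z ^ p ∈ center G := by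
    have hV : ∀ x ∈ zpowers (z ^ p), ∃ w ∈ (P : Subgroup G) ⊓
        centralizer ((P : Subgroup G) : Set G), w ^ p = x := by
      rintro _ ⟨i, rfl⟩
      exact ⟨z ^ i, zpow_mem hz i, by rw [← zpow_natCast, ← zpow_mul, mul_comm, zpow_mul, zpow_natCast]⟩
    have h := agemo_generation posFunctor_jW quadCond_jW hc P (zpowers (z ^ p)) hV
      (centralizer ({z ^ p} : Set G)) (hN.trans fun x hx => ?_) ?_
    · refine mem_center_iff.2 fun g => mem_centralizer_singleton_iff.1 ?_
      rw [h]; exact mem_top g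
    · exact mem_centralizer_singleton_iff.2
        ((show Commute x z from mem_centralizer_singleton_iff.1 hx).pow_right p).eq
    · exact centralizer_le (by simp)
  -- the module
  set B := O ⊓ centralizer (O : Set G) with hB
  have hBc : ∀ {a b : G}, a ∈ B → b ∈ B → Commute a b := fun ha hb =>
    (mem_centralizer_iff.1 ha.2 _ hb.1).symm
  let V : Subgroup G :=
    { carrier := {v | v ∈ B ∧ v ^ p ∈ center G}
      mul_mem' := fun {a b} ha hb => ⟨B.mul_mem ha.1 hb.1, by
        rw [(hBc ha.1 hb.1).mul_pow]; exact (center G).mul_mem ha.2 hb.2⟩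
      one_mem' := ⟨B.one_mem, by rw [one_pow]; exact (center G).one_mem⟩
      inv_mem' := fun {a} ha => ⟨B.inv_mem ha.1, by
        rw [inv_pow]; exact (center G).inv_mem ha.2⟩ }
  have hVB : V ≤ B := fun v hv => hv.1
  haveI hVn : V.Normal := ⟨fun v hv g => ⟨(inferInstance : B.Normal).conj_mem v hv.1 g, by
    rw [conj_pow, mem_center_iff.1 hv.2 g, mul_inv_cancel_right]; exact hv.2⟩⟩
  have hVc : IsMulCommutative V := ⟨⟨fun a b => Subtype.ext (hBc (hVB a.2) (hVB b.2)).eq⟩⟩
  have hzV : z ∈ V := ⟨⟨hc (centralizer_le hOP hz.2), centralizer_le hOP hz.2⟩, hzp⟩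
  have hOV : O ≤ centralizer (V : Set G) := fun o ho => mem_centralizer_iff.2 fun v hv =>
    (mem_centralizer_iff.1 (hVB hv).2 o ho).symm
  have hPz : (P : Subgroup G) ≤ centralizer ({z} : Set G) := fun x hx =>
    mem_centralizer_singleton_iff.2 (mem_centralizer_iff.1 hz.2 x hx)
  -- the largest normal subgroup fixing `z` meets `P` in `O`
  set T₀ := (centralizer ({z} : Set G)).normalCore
  have hCVz : centralizer (V : Set G) ≤ centralizer ({z} : Set G) :=
    centralizer_le (by simpa using hzV)
  by_cases hPT : ¬ (P : Subgroup G) ⊓ T₀ ≤ O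
  · set N := normalizer (((P : Subgroup G) ⊓ T₀ : Subgroup G) : Set G) with hNdef
    have hd : ¬ p ∣ (P : Subgroup G).relIndex T₀ := fun h =>
      P.not_dvd_index (h.trans (relIndex_normal_dvd _ _))
    have hfr := Sylow.normalizer_sup_eq_top ((P.2.comap_subtype (K := T₀)).toSylow hd)
    change normalizer ((((P : Subgroup G).subgroupOf T₀).map T₀.subtype : Subgroup G) : Set G) ⊔ T₀ = ⊤
      at hfr
    rw [subgroupOf_map_subtype] at hfr
    have hPN : (P : Subgroup G) ≤ N := fun x hx => by
      rw [hNdef, mem_normalizer_iff]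
      intro w
      rw [mem_inf, mem_inf, mem_normalizer_iff.mp (le_normalizer hx) w,
        (inferInstance : T₀.Normal).mem_comm_iff (a := x * w) (b := x⁻¹), inv_mul_cancel_left]
    have hle := hstep N hPN fun h => hPT (Core.le_pCore (hN := normalizer_eq_top_iff.mp h)
      (P.2.to_le inf_le_left))
    have htop : (⊤ : Subgroup G) ≤ centralizer ({z} : Set G) :=
      hfr ▸ sup_le hle (normalCore_le _)
    exact mem_center_iff.2 fun g => mem_centralizer_singleton_iff.1 (htop (mem_top g))
  push Not at hPT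
  have hPT₀ : ∀ x ∈ (P : Subgroup G), x ∈ T₀ → x ∈ centralizer (V : Set G) :=
    fun x hx hxT => hOV (hPT ⟨hx, hxT⟩)
  have hCT₀ : centralizer (V : Set G) ≤ T₀ := normal_le_normalCore.2 hCVz
  -- an offender
  obtain ⟨A, hA, hAO⟩ : ∃ A, Fusion.AbMax 0 (P : Subgroup G) A ∧ ¬ A ≤ O := by
    by_contra hno
    push Not at hno
    refine hJn ?_
    have h1 : thompsonSubgroupAOf (P : Subgroup G) = thompsonSubgroupAOf O := by
      rw [Fusion.thompsonSubgroupAOf_eq, Fusion.thompsonSubgroupAOf_eq]
      obtain ⟨A₁, hA₁⟩ := Fusion.exists_abMax 0 (P : Subgroup G)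
      congr 1
      ext A
      constructor
      · intro (hA : Fusion.AbMax 0 (P : Subgroup G) A)
        exact ⟨⟨hno A hA, hA.comm, hA.exp⟩,
          fun C hC => hA.max C ⟨hC.le.trans hOP, hC.comm, hC.exp⟩⟩
      · intro (hA : Fusion.AbMax 0 O A)
        exact ⟨⟨hA.le.trans hOP, hA.comm, hA.exp⟩, fun C hC =>
          (hA₁.max C hC).trans (hA.max A₁ ⟨hno A₁ hA₁, hA₁.comm, hA₁.exp⟩)⟩
    refine normalizer_eq_top_iff.mp (eq_top_iff.mpr fun g _ => ?_)
    rw [wsub_jW, h1]
    exact mem_normalizer_thompsonSubgroupAOf ((normalizer_eq_top (H := O)).ge (mem_top g))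
  have hAV : ¬ A ≤ centralizer (V : Set G) := fun h => hAO fun x hx =>
    hPT ⟨hA.le hx, hCT₀ (h hx)⟩
  have hAoff : Offender (P : Subgroup G) V A := by
    refine ⟨hA.le, hA.comm, hAV, ?_⟩
    set A₁ := A ⊓ centralizer (V : Set G) with hA₁
    set U := A₁ ⊔ V with hU
    have hVV : V ≤ centralizer (V : Set G) := fun a ha => mem_centralizer_iff.2 fun b hb =>
      (hBc (hVB hb) (hVB ha)).eq
    have hUc : IsMulCommutative U := Fusion.isMulCommutative_of_forall fun a ha b hb => by
      have h1 : U ≤ centralizer (A₁ : Set G) := sup_le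
        (fun a ha => mem_centralizer_iff.2 fun b hb =>
          (Fusion.commute_of_isMulCommutative hA.comm hb.1 ha.1).eq)
        (le_centralizer_iff.1 inf_le_right)
      have h2 : U ≤ centralizer (U : Set G) := sup_le (le_centralizer_iff.1 h1)
        (le_centralizer_iff.1 (sup_le inf_le_right hVV))
      exact mem_centralizer_iff.1 (h2 hb) a ha
    have hcard : Nat.card U ≤ Nat.card A := hA.max U
      ⟨sup_le (inf_le_left.trans hA.le) (hVB.trans (inf_le_left.trans hOP)), hUc,
        fun a _ => pow_zero a⟩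
    have e : centralizer (A : Set G) ⊓ V ≤ A₁ := fun v hv =>
      ⟨Fusion.mem_of_commute hA (hOP (hVB hv.2).1) (pow_zero v) fun a ha =>
        mem_centralizer_iff.1 hv.1 a ha, hVV hv.2⟩
    have e2 : A₁ ⊓ V ≤ centralizer (A : Set G) ⊓ V := fun v hv =>
      ⟨mem_centralizer_iff.2 fun a ha =>
        (Fusion.commute_of_isMulCommutative hA.comm ha hv.1.1).eq, hv.2⟩
    have h3 : (centralizer (A : Set G)).relIndex V = A₁.relIndex V := by
      rw [← inf_relIndex_right, ← inf_relIndex_right A₁]
      congr 1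
      exact le_antisymm (le_inf e inf_le_right) e2
    rw [h3]
    conv_rhs => rw [← inf_relIndex_right, inf_comm]
    refine (relIndex_le_of_le_right (le_sup_right : V ≤ U) index_ne_zero_of_finite).trans ?_
    have h4 := relIndex_mul_relIndex (⊥ : Subgroup G) A₁ U bot_le le_sup_left
    have h5 := relIndex_mul_relIndex (⊥ : Subgroup G) A₁ A bot_le inf_le_left
    simp only [relIndex_bot_left] at h4 h5
    exact Nat.le_of_mul_le_mul_left (h4.trans_le (hcard.trans h5.ge)) Nat.card_pos
  obtain ⟨X, hX, hXmin⟩ := wellFounded_lt.has_min {X | Offender (P : Subgroup G) V X} ⟨A, hAoff⟩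
  have hXM : MinOffender (P : Subgroup G) V X := ⟨hX, fun Y hY hYo => hXmin Y hYo hY⟩
  -- the normalizer of the subgroup generated by the minimal offenders
  have hDP : offGen (P : Subgroup G) V ≤ (P : Subgroup G) := sSup_le fun Y hY => hY.1.1
  have hPD : (P : Subgroup G) ≤ normalizer (offGen (P : Subgroup G) V : Set G) := fun y hy =>
    mem_normalizer_offGen fun x hx => mul_mem (mul_mem hy (hDP hx)) (inv_mem hy)
  have hND := hstep _ hPD fun h => hX.2.2.1 (le_trans
    ((le_sSup (a := X) hXM).trans (Core.le_pCore (hN := normalizer_eq_top_iff.mp h) (P.2.to_le hDP))) hOV)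
  refine mem_center_of_offenders P hVc (fun v hv => hv.2)
    (Core.pCore_isPGroup.to_le (hVB.trans inf_le_left)) hzV hPz hND hodd
    fun T hTn hCT hTp x hx hxT => hPT₀ x hx ?_
  -- normal subgroups which are `p`-groups modulo `C(V)` fix `z`
  refine normal_le_normalCore.2 ?_ hxT
  intro t ht
  let q := QuotientGroup.mk' (centralizer (V : Set G))
  have hTq : T.map q ≤ Cfsg.pCore p (G ⧸ centralizer (V : Set G)) := by
    refine Core.le_pCore (hN := hTn.map q (QuotientGroup.mk'_surjective _)) ?_
    rintro ⟨_, y, hy, rfl⟩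
    obtain ⟨k, hk⟩ := hTp y hy
    exact ⟨k, Subtype.ext (by
      show q y ^ p ^ k = 1
      rw [← map_pow]
      exact (QuotientGroup.eq_one_iff _).2 hk)⟩
  have h1 := hTq.trans (Core.pCore_le_sylow (P.mapSurjective (QuotientGroup.mk'_surjective _)))
    (mem_map_of_mem q ht)
  rw [Sylow.coe_mapSurjective, mem_map] at h1
  obtain ⟨a, ha, hat⟩ := h1
  have h2 : a⁻¹ * t ∈ centralizer (V : Set G) := QuotientGroup.eq.1 hat
  have h3 := mul_mem (hPz ha) (hCVz h2)
  rwa [mul_inv_cancel_left] at h3

/-- The class of systems for odd `p` or without sections isomorphic to the symmetric group of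
degree 4 satisfies the local condition for `J`. -/
theorem localCond_jW [Fact p.Prime] :
    LocalCond.{u} p jW True 1
      (fun L _ => p ≠ 2 ∨ ¬ Cfsg.Involves (Equiv.Perm (Fin 4)) L) := by
  intro L _ _ P hc hodd V hV hfx hn
  refine ⟨⊤, inferInstance, fun g _ => mem_centralizer_iff.2 fun x hx => ?_, fun h => hn ?_⟩
  · obtain ⟨w, hw, hwx⟩ := hV x hx
    rw [pow_one] at hwx
    subst hwx
    refine (mem_center_iff.1 (mem_center_of_constrained hc hodd P hw fun y hy => ?_) g).symm
    exact mem_centralizer_singleton_iff.2 (mem_centralizer_iff.1 (hfx trivial hy) w hx).symm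
  · rw [inf_top_eq] at h
    refine normalizer_eq_top_iff.1 (eq_top_iff.2 fun g _ => ?_)
    rw [wsub_jW]
    exact mem_normalizer_thompsonSubgroupAOf
      ((normalizer_eq_top (H := (P : Subgroup L))).ge (mem_top g))

/-- The Thompson subgroup controls the centre. -/
theorem thompson_center_eq [Fact p.Prime] {Ω : Type u} [Group Ω] {S : Subgroup Ω} [Finite S]
    {F : Cfsg.FusionSystem S} (hS : IsPGroup p S) (hF : F.IsSaturated p)
    (h : p ≠ 2 ∨ F.IsSectionFree p (Equiv.Perm (Fin 4)))
    {N : Cfsg.FusionSystem (Cfsg.FusionSystem.normalizerIn S (wsub jW S))}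
    (hN : F.IsNormalizerSystem (wsub jW S) N) : N.center = F.center :=
  normalizer_center_eq posFunctor_jW (hereditary_free (Equiv.Perm (Fin 4)))
    (fun {_} _ {_} _ _ hS hF hc _ hQn hQc {_} _ _ hM =>
      hc.imp id fun hf => not_involves_model hS hF hf hQn hQc hM)
    localCond_jW hS hF h hN

end Cfsg.Agent.FusSys
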