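import Cfsg.Agent.FusSys.InnerCtl
import Cfsg.Agent.FusSys.SolvableSys
import Cfsg.Agent.FusSys.FactorFree
import Cfsg.Agent.Fusion.PGroup

/-!
A nilpotency criterion by weakly embedded subgroups of a fixed order.
-/

set_option autoImplicit false

namespace Cfsg.Agent.FusSys.WeakEmbed

open Cfsg Cfsg.FusionSystem Cfsg.Agent.FusSys

universe u

variable {Ω : Type u} [Group Ω] {S : Subgroup Ω} {F : FusionSystem S} {p : ℕ}

/-- The hypothesis at the order `p ^ k`. -/
structure Hyp (F : FusionSystem S) (p k : ℕ) : Prop where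
  pos : 1 ≤ k
  lt : p ^ k < Nat.card S
  weak : ∀ Q ≤ S, Nat.card Q = p ^ k →
    ∃ P, F.StronglyClosed P ∧ F.StronglyClosed (Q ⊔ P) ∧ F.StronglyClosed (Q ⊓ P)
  inner : ∀ H ≤ S, S ≤ Subgroup.normalizer (H : Set Ω) → Nat.card H = p ^ k → InnerAt F H

/-- A minimal nontrivial strongly closed subgroup. -/
structure MinClosed (F : FusionSystem S) (X : Subgroup Ω) : Prop where
  sc : F.StronglyClosed X
  ne : X ≠ ⊥
  min : ∀ Y, F.StronglyClosed Y → Y ≤ X → Y ≠ ⊥ → Y = X

theorem stronglyClosed_inter {A B : Subgroup Ω} (hA : F.StronglyClosed A)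
    (hB : F.StronglyClosed B) : F.StronglyClosed (A ⊓ B) :=
  stronglyClosed_iff.2 ⟨inf_le_left.trans hA.1, fun _ _ hR hf _ hx =>
    ⟨StronglyClosed.mor_mem hA hf hx (hR hx).1, StronglyClosed.mor_mem hB hf hx (hR hx).2⟩⟩

theorem MinClosed.inf_cases {X Y : Subgroup Ω} (hX : MinClosed F X) (hY : F.StronglyClosed Y) :
    Y ⊓ X = ⊥ ∨ X ≤ Y := by
  by_cases h : Y ⊓ X = ⊥
  · exact Or.inl h
  · exact Or.inr ((hX.min _ (stronglyClosed_inter hY hX.sc) inf_le_right h).ge.trans inf_le_left)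

theorem exists_minClosed [Finite S] {X : Subgroup Ω} (hX : F.StronglyClosed X) (hne : X ≠ ⊥) :
    ∃ R, MinClosed F R ∧ R ≤ X := by
  suffices h : ∀ n, ∀ Y, F.StronglyClosed Y → Y ≠ ⊥ → Nat.card Y = n →
      ∃ R, MinClosed F R ∧ R ≤ Y from h _ X hX hne rfl
  intro n
  induction n using Nat.strong_induction_on with
  | h n ih =>
    intro Y hY hY0 hn
    by_cases hmin : ∀ Z, F.StronglyClosed Z → Z ≤ Y → Z ≠ ⊥ → Z = Y
    · exact ⟨Y, ⟨hY, hY0, hmin⟩, le_rfl⟩
    · push Not at hmin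
      obtain ⟨Z, hZ, hZY, hZ0, hZne⟩ := hmin
      obtain ⟨R, hR, hRZ⟩ := ih (Nat.card Z)
        (hn ▸ card_lt_of_lt' hY.1 (lt_of_le_of_ne hZY hZne)) Z hZ hZ0 rfl
      exact ⟨R, hR, hRZ.trans hZY⟩

section Counting

variable [Fact p.Prime] [Finite S] (hS : IsPGroup p S)
include hS

theorem exists_card_eq {A : Subgroup Ω} (hA : A ≤ S) : ∃ i, Nat.card A = p ^ i := by
  haveI := finite_of_le hA
  exact IsPGroup.iff_card.1 (hS.to_le hA)

theorem exists_between {A B : Subgroup Ω} {k : ℕ} (hAB : A ≤ B) (hB : B ≤ S)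
    (h1 : Nat.card A ≤ p ^ k) (h2 : p ^ k ≤ Nat.card B) :
    ∃ Q, A ≤ Q ∧ Q ≤ B ∧ Nat.card Q = p ^ k := by
  haveI := finite_of_le hB
  have hp := (Fact.out : p.Prime)
  obtain ⟨i, hi⟩ := exists_card_eq hS (hAB.trans hB)
  obtain ⟨j, hj⟩ := exists_card_eq hS hB
  obtain ⟨K, hK, hAK⟩ := Sylow.exists_subgroup_card_pow_prime_le (G := B) p
    (n := i) (m := k)
    (hj ▸ Nat.pow_dvd_pow p ((Nat.pow_le_pow_iff_right hp.one_lt).1 (hj ▸ h2)))
    (A.subgroupOf B) ((Nat.card_congr (Subgroup.subgroupOfEquivOfLe hAB).toEquiv).trans hi)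
    ((Nat.pow_le_pow_iff_right hp.one_lt).1 (hi ▸ h1))
  refine ⟨K.map B.subtype, ?_, Subgroup.map_subtype_le K, ?_⟩
  · exact (Subgroup.map_subgroupOf_eq_of_le hAB).ge.trans (Subgroup.map_mono hAK)
  · rw [Subgroup.card_subtype]
    exact hK

theorem exists_normal_between {A : Subgroup Ω} {k : ℕ} (hA : A ≤ S)
    (hAn : S ≤ Subgroup.normalizer (A : Set Ω)) (h1 : Nat.card A ≤ p ^ k)
    (h2 : p ^ k ≤ Nat.card S) :
    ∃ L, A ≤ L ∧ L ≤ S ∧ S ≤ Subgroup.normalizer (L : Set Ω) ∧ Nat.card L = p ^ k := by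
  have hp := (Fact.out : p.Prime)
  haveI : (A.subgroupOf S).Normal := (Subgroup.normal_subgroupOf_iff_le_normalizer hA).2 hAn
  obtain ⟨i, hi⟩ := exists_card_eq hS hA
  have hik := (Nat.pow_le_pow_iff_right hp.one_lt).1 (hi ▸ h1)
  have key : ∀ m, i + m ≤ k → ∃ L : Subgroup S, L.Normal ∧ A.subgroupOf S ≤ L ∧
      Nat.card L = p ^ (i + m) := by
    intro m
    induction m with
    | zero =>
      exact fun _ => ⟨A.subgroupOf S, inferInstance, le_rfl,
        (Nat.card_congr (Subgroup.subgroupOfEquivOfLe hA).toEquiv).trans hi⟩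
    | succ m ih =>
      intro hm
      obtain ⟨L, hL, hAL, hLc⟩ := ih (by omega)
      have hlt : L < ⊤ := lt_top_iff_ne_top.2 fun e => by
        subst e
        rw [Subgroup.card_top] at hLc
        have h3 := (Nat.pow_le_pow_iff_right hp.one_lt).1 (hLc ▸ h2)
        omega
      obtain ⟨L', hL', hLL', -, hL'c, -⟩ := Cfsg.Agent.Fusion.exists_normal_card_succ hS L ⊤ hlt
      exact ⟨L', hL', hAL.trans hLL', by rw [hL'c, hLc, ← add_assoc, pow_succ']⟩
  obtain ⟨L, hL, hAL, hLc⟩ := key (k - i) (by omega)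
  refine ⟨L.map S.subtype, (Subgroup.map_subgroupOf_eq_of_le hA).ge.trans (Subgroup.map_mono hAL),
    Subgroup.map_subtype_le L, ?_, by rw [Subgroup.card_subtype, hLc, Nat.add_sub_cancel' hik]⟩
  refine Subgroup.le_normalizer_iff.2 fun s hs x hx => ?_
  obtain ⟨y, hy, rfl⟩ := hx
  exact ⟨_, hL.conj_mem y hy ⟨s, hs⟩, rfl⟩

/-- A group which is a `p`-group as soon as its residual is. -/
theorem isPGroup_of_residual {G : Type*} [Group G] [Finite G] (h : IsPGroup p (pResidual p G)) :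
    IsPGroup p G := by
  intro g
  obtain ⟨e, he⟩ := Cfsg.Agent.Fusion.isPGroup_quotient_pResidual (G := G) (p := p)
    (g : G ⧸ pResidual p G)
  rw [← QuotientGroup.mk_pow, QuotientGroup.eq_one_iff] at he
  obtain ⟨f, hf⟩ := h ⟨_, he⟩
  refine ⟨e + f, ?_⟩
  rw [pow_add, pow_mul]
  exact congrArg Subtype.val hf

end Counting

theorem innerAt_top [Finite S] {H : Subgroup Ω} (h : InnerAt F H)
    (hn : S ≤ Subgroup.normalizer (H : Set Ω)) {P : Subgroup Ω} {f g : Ω → Ω} (hf : Mor F P f)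
    (hg : Mor F (P ⊔ H) g) (hgf : ∀ x ∈ P, g x = f x) (hgH : ∀ y, y ∈ H ↔ ∃ x ∈ H, g x = y) :
    Mor (innerFusionSystem S) P f :=
  h P f hf ⟨fun _ hx => ⟨hf.le hx, hn (hf.le hx)⟩,
    fun _ hx => ⟨hf.mem_S hx, hn (hf.mem_S hx)⟩, g, hg, hgf, hgH⟩

variable [Fact p.Prime] [Finite S] {k : ℕ} (hS : IsPGroup p S) (hF : F.IsSaturated p)

theorem allInner_of_normal {X : Subgroup Ω} (hX : F.IsNormal X) (h : InnerAt F X) :
    AllInner F := fun P f hf => by
  obtain ⟨g, hg, hgf, hgX⟩ := (isNormal_iff.1 hX).2 P f hf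
  exact innerAt_top h (StronglyClosed.le_normalizer (stronglyClosed_of_isNormal hX)) hf hg hgf hgX

include hS

/-- A subgroup of order `p ^ k` meeting a minimal strongly closed subgroup properly. -/
theorem split (hyp : Hyp F p k) {X : Subgroup Ω} (hX : MinClosed F X) {Q : Subgroup Ω}
    (hQ : Q ≤ S) (hc : Nat.card Q = p ^ k) (h0 : Q ⊓ X ≠ ⊥) (h1 : ¬ X ≤ Q) :
    ∃ P, F.StronglyClosed P ∧ P ⊓ X = ⊥ ∧ X ≤ Q ⊔ P ∧ P ≠ ⊥ := by
  have _ := hS
  obtain ⟨P, hP, hQP, hQi⟩ := hyp.weak Q hQ hc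
  have hPX : P ⊓ X = ⊥ := by
    refine (hX.inf_cases hP).resolve_right fun hle => ?_
    rcases hX.inf_cases hQi with h | h
    · refine h0 (eq_bot_iff.2 fun x hx => ?_)
      rw [← h]
      exact ⟨⟨hx.1, hle hx.2⟩, hx.2⟩
    · exact h1 (h.trans inf_le_left)
  have hle : X ≤ Q ⊔ P := (hX.inf_cases hQP).resolve_left fun h => h0 (eq_bot_iff.2 fun x hx => by
    rw [← h]
    exact ⟨Subgroup.mem_sup_left hx.1, hx.2⟩)
  refine ⟨P, hP, hPX, hle, fun e => h1 ?_⟩
  rwa [e, sup_bot_eq] at hle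

include hF

theorem allInner_of_large (hyp : Hyp F p k) {X : Subgroup Ω} (hX : MinClosed F X)
    (hXk : p ^ k ≤ Nat.card X) : AllInner F := by
  have hp := (Fact.out : p.Prime)
  have hXS := hX.sc.1
  haveI := finite_of_le hXS
  have hXn := StronglyClosed.le_normalizer hX.sc
  have hk := hyp.pos
  have hcard : Nat.card X = p ^ k := by
    obtain ⟨Q, -, hQX, hQc⟩ := exists_between hS (A := ⊥) (B := X) (k := k) bot_le hXS
      (by rw [Subgroup.card_bot]; exact Nat.one_le_pow _ _ hp.pos) hXk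
    by_contra hne
    have hQ0 : Q ⊓ X ≠ ⊥ := by
      rw [inf_eq_left.2 hQX]
      intro e
      rw [e, Subgroup.card_bot] at hQc
      exact absurd hQc.symm (Nat.one_lt_pow (by omega) hp.one_lt).ne'
    have hXQ : ¬ X ≤ Q := fun h => hne (le_antisymm hQX h ▸ hQc)
    obtain ⟨P, hP, hPX, hle, -⟩ := split hS hyp hX (hQX.trans hXS) hQc hQ0 hXQ
    refine hXQ fun x hx => ?_
    have hxQP : x ∈ ((Q ⊔ P : Subgroup Ω) : Set Ω) := hle hx
    rw [Subgroup.coe_mul_of_left_le_normalizer_right _ _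
      ((hQX.trans hXS).trans (StronglyClosed.le_normalizer hP))] at hxQP
    obtain ⟨a, ha, b, hb, hab⟩ := hxQP
    have hbX : b ∈ P ⊓ X := ⟨hb, by
      have e : b = a⁻¹ * x := by rw [← hab]; group
      exact e ▸ X.mul_mem (X.inv_mem (hQX ha)) hx⟩
    rw [hPX, Subgroup.mem_bot] at hbX
    rw [← hab]
    show a * b ∈ Q
    rwa [hbX, mul_one]
  by_cases hab : ∀ x ∈ X, ∀ y ∈ X, x * y = y * x
  · exact allInner_of_normal (isNormal_of_stronglyClosed_comm hS hF hX.sc hab)
      (hyp.inner X hXS hXn hcard)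
  exfalso
  have hk2 : 2 ≤ k := by
    by_contra hk2
    have h1 : Nat.card X = p := by rw [hcard, show k = 1 by omega, pow_one]
    haveI := isCyclic_of_prime_card h1
    exact hab fun x hx y hy => congrArg Subtype.val (mul_comm' (⟨x, hx⟩ : X) ⟨y, hy⟩)
  obtain ⟨W, hXW, hWS, hWc⟩ := exists_between hS (A := X) (B := S) (k := k + 1) hXS le_rfl
    (hcard ▸ Nat.pow_le_pow_right hp.pos k.le_succ) (by
      obtain ⟨j, hj⟩ := exists_card_eq hS (le_refl S)
      have h1 := hyp.lt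
      rw [hj] at h1 ⊢
      exact Nat.pow_le_pow_right hp.pos ((Nat.pow_lt_pow_iff_right hp.one_lt).1 h1))
  haveI := finite_of_le hWS
  obtain ⟨q, hqW, hqX⟩ := SetLike.exists_of_lt (lt_of_le_of_ne hXW fun e => by
    rw [e, hWc] at hcard
    exact absurd ((Nat.pow_right_injective hp.two_le) hcard) k.succ_ne_self)
  have hzW : Subgroup.zpowers q ≤ W := Subgroup.zpowers_le.2 hqW
  obtain ⟨j, hj⟩ := exists_card_eq hS (hzW.trans hWS)
  have hjk : j ≤ k := by
    by_contra hjk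
    have e : Subgroup.zpowers q = W := Subgroup.eq_of_le_of_card_ge hzW (by
      rw [hj, hWc]; exact Nat.pow_le_pow_right hp.pos (by omega))
    refine hab fun x hx y hy => ?_
    obtain ⟨a, rfl⟩ := Subgroup.mem_zpowers_iff.1 (e ▸ hXW hx)
    obtain ⟨b, rfl⟩ := Subgroup.mem_zpowers_iff.1 (e ▸ hXW hy)
    rw [← zpow_add, ← zpow_add, add_comm]
  obtain ⟨M, hzM, hMW, hMc⟩ := exists_between hS (k := k) hzW hWS
    (hj ▸ Nat.pow_le_pow_right hp.pos hjk) (hWc ▸ Nat.pow_le_pow_right hp.pos k.le_succ)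
  haveI := finite_of_le (hMW.trans hWS)
  have hXM : ¬ X ≤ M := fun h => hqX ((Subgroup.eq_of_le_of_card_ge h
    (by rw [hMc, hcard])).symm ▸ hzM (Subgroup.mem_zpowers q))
  have hidx : X.relIndex W = p := by
    have h1 := Subgroup.relIndex_mul_relIndex ⊥ X W bot_le hXW
    rw [Subgroup.relIndex_bot_left, Subgroup.relIndex_bot_left, hcard, hWc, pow_succ] at h1
    exact Nat.eq_of_mul_eq_mul_left (pow_pos hp.pos k) h1
  have hMX : M ⊓ X ≠ ⊥ := fun e => by
    have h1 : X.relIndex M = Nat.card M := by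
      rw [← Subgroup.inf_relIndex_left, e, Subgroup.relIndex_bot_left]
    have h2 : X.relIndex M ≤ p := hidx ▸
      Subgroup.relIndex_le_of_le_right hMW (by rw [hidx]; exact hp.pos.ne')
    rw [h1, hMc] at h2
    have h3 : p ^ k ≤ p ^ 1 := by rwa [pow_one]
    have := (Nat.pow_le_pow_iff_right hp.one_lt).1 h3
    omega
  obtain ⟨P, hP, hPX, -, hP0⟩ := split hS hyp hX (hMW.trans hWS) hMc hMX hXM
  haveI := finite_of_le hP.1
  obtain ⟨X₀, -, hX₀X, hX₀c⟩ := exists_between hS (A := ⊥) (B := X) (k := k - 1) bot_le hXS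
    (by rw [Subgroup.card_bot]; exact Nat.one_le_pow _ _ hp.pos)
    (hcard ▸ Nat.pow_le_pow_right hp.pos (Nat.sub_le k 1))
  have hX₀S := hX₀X.trans hXS
  haveI := finite_of_le (sup_le hX₀S hP.1)
  have hlt : p ^ k ≤ Nat.card ↥(X₀ ⊔ P) := by
    obtain ⟨i, hi⟩ := exists_card_eq hS (sup_le hX₀S hP.1)
    have hne : X₀ ≠ X₀ ⊔ P := fun e => hP0 (eq_bot_iff.2 fun x hx => by
      rw [← hPX]
      exact ⟨hx, hX₀X (e.ge (Subgroup.mem_sup_right hx))⟩)
    have h1 := card_lt_of_lt' (sup_le hX₀S hP.1) (lt_of_le_of_ne le_sup_left hne)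
    rw [hX₀c, hi] at h1
    have := (Nat.pow_lt_pow_iff_right hp.one_lt).1 h1
    rw [hi]
    exact Nat.pow_le_pow_right hp.pos (by omega)
  obtain ⟨Q, hX₀Q, hQle, hQc⟩ := exists_between hS (k := k) (le_sup_left : X₀ ≤ X₀ ⊔ P)
    (sup_le hX₀S hP.1) (hX₀c ▸ Nat.pow_le_pow_right hp.pos (Nat.sub_le k 1)) hlt
  have hQX : ∀ x ∈ Q, x ∈ X → x ∈ X₀ := fun x hx hxX => by
    have hx' : x ∈ ((X₀ ⊔ P : Subgroup Ω) : Set Ω) := hQle hx
    rw [Subgroup.coe_mul_of_left_le_normalizer_right _ _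
      (hX₀S.trans (StronglyClosed.le_normalizer hP))] at hx'
    obtain ⟨a, ha, b, hb, hab'⟩ := hx'
    have hbX : b ∈ P ⊓ X := ⟨hb, by
      have e : b = a⁻¹ * x := by rw [← hab']; group
      exact e ▸ X.mul_mem (X.inv_mem (hX₀X ha)) hxX⟩
    rw [hPX, Subgroup.mem_bot] at hbX
    rw [← hab']
    show a * b ∈ X₀
    rwa [hbX, mul_one]
  have hXX₀ : ¬ X ≤ X₀ := fun h => by
    haveI := finite_of_le hX₀S
    have := Subgroup.card_le_of_le h
    rw [hcard, hX₀c] at this
    have := (Nat.pow_le_pow_iff_right hp.one_lt).1 this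
    omega
  have hX₀0 : X₀ ≠ ⊥ := fun e => by
    rw [e, Subgroup.card_bot] at hX₀c
    exact absurd hX₀c.symm (Nat.one_lt_pow (by omega) hp.one_lt).ne'
  obtain ⟨P', hP', hP'X, hle, -⟩ := split hS hyp hX (hQle.trans (sup_le hX₀S hP.1)) hQc
    (fun e => hX₀0 (eq_bot_iff.2 fun x hx => e ▸ ⟨hX₀Q hx, hX₀X hx⟩))
    fun h => hXX₀ fun x hx => hQX x (h hx) hx
  set P₂ := P ⊔ P' with hP₂
  have hP₂c := stronglyClosed_sup hS hF hP hP'
  have hXle : X ≤ X₀ ⊔ P₂ := hle.trans (sup_le (hQle.trans (sup_le le_sup_left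
    (le_sup_left.trans le_sup_right))) (le_sup_right.trans le_sup_right))
  have hW2 : P₂ ⊓ X ≠ ⊥ := fun e => hXX₀ fun x hx => by
    have hx' : x ∈ ((X₀ ⊔ P₂ : Subgroup Ω) : Set Ω) := hXle hx
    rw [Subgroup.coe_mul_of_left_le_normalizer_right _ _
      (hX₀S.trans (StronglyClosed.le_normalizer hP₂c))] at hx'
    obtain ⟨a, ha, b, hb, hab'⟩ := hx'
    have hbX : b ∈ P₂ ⊓ X := ⟨hb, by
      have e : b = a⁻¹ * x := by rw [← hab']; group
      exact e ▸ X.mul_mem (X.inv_mem (hX₀X ha)) hx⟩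
    rw [e, Subgroup.mem_bot] at hbX
    rw [← hab']
    show a * b ∈ X₀
    rwa [hbX, mul_one]
  have hXP : X ≤ P₂ := (hX.inf_cases hP₂c).resolve_left hW2
  have hcomm : ∀ {Z : Subgroup Ω}, F.StronglyClosed Z → Z ⊓ X = ⊥ → ∀ z ∈ Z, ∀ x ∈ X,
      z * x = x * z := fun {Z} hZ hZX z hz x hx => by
    have h1 : z * x * z⁻¹ * x⁻¹ ∈ Z ⊓ X := ⟨by
      have := Z.mul_mem hz ((Subgroup.mem_normalizer_iff.1 (StronglyClosed.le_normalizer hZ
        (hXS hx)) z⁻¹).1 (Z.inv_mem hz))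
      rwa [← mul_assoc, ← mul_assoc] at this,
      X.mul_mem ((Subgroup.mem_normalizer_iff.1 (hXn (hZ.1 hz)) x).1 hx) (X.inv_mem hx)⟩
    rw [hZX, Subgroup.mem_bot] at h1
    calc z * x = z * x * z⁻¹ * x⁻¹ * (x * z) := by group
      _ = x * z := by rw [h1, one_mul]
  refine hab fun x hx y hy => ?_
  have hc : P₂ ≤ Subgroup.centralizer (X : Set Ω) := sup_le
    (fun z hz => Subgroup.mem_centralizer_iff.2 fun w hw => (hcomm hP hPX z hz w hw).symm)
    (fun z hz => Subgroup.mem_centralizer_iff.2 fun w hw => (hcomm hP' hP'X z hz w hw).symm)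
  exact Subgroup.mem_centralizer_iff.1 (hc (hXP hy)) x hx

omit hS hF in
/-- An inner system has trivial hyperfocal subgroup. -/
theorem hyperfocal_eq_bot (hS : IsPGroup p S) (h : AllInner F) :
    F.hyperfocalSubgroup p = ⊥ := by
  refine le_bot_iff.1 ((Subgroup.closure_le _).2 ?_)
  rintro _ ⟨P, α, x, hP, hα, rfl⟩
  haveI := finite_of_le hP
  haveI : Finite (MulAut P) := Finite.of_injective _ MulEquiv.toEquiv_injective
  have hp : IsPGroup p (F.autGroup P) := by
    refine (isPGroup_autInducedBy (P := P) hS).to_le fun β hβ => ?_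
    obtain ⟨-, g, hg, hgx⟩ := mor_inner.1 (h P _ (iso_apl hP hβ).1)
    refine mem_autInducedBy_iff.2 ⟨g, hg, ?_, hgx⟩
    refine Subgroup.mem_normalizer_iff.2 fun y => ⟨fun hy => hgx y hy ▸ apl_mem β hy, fun hy => ?_⟩
    have h3 := hgx _ (apl_mem β⁻¹ hy)
    rw [apl_apl_inv β hy] at h3
    rw [show y = apl β⁻¹ (g * y * g⁻¹) from mul_left_cancel (mul_right_cancel h3)]
    exact apl_mem _ hy
  have h1 : α = 1 := by
    have h2 := Cfsg.Agent.Fusion.pResidual_le_ker (MonoidHom.id (F.autGroup P)) hp hα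
    exact h2
  show (x : Ω)⁻¹ * _ ∈ (⊥ : Subgroup Ω)
  rw [h1]
  simp

/-- The case of a hyperfocal subgroup of order `p`. -/
theorem allInner_of_hyperfocal_prime (hyp : Hyp F p k)
    (hc : Nat.card ↥(F.hyperfocalSubgroup p) = p) : AllInner F := by
  have hp := (Fact.out : p.Prime)
  have hHc := stronglyClosed_hyperfocal hS hF
  set H := F.hyperfocalSubgroup p
  have hHS := hHc.1
  haveI := finite_of_le hHS
  have hHn := StronglyClosed.le_normalizer hHc
  haveI : (H.subgroupOf S).Normal := (Subgroup.normal_subgroupOf_iff_le_normalizer hHS).2 hHn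
  have hz : H.subgroupOf S ≤ Subgroup.center S :=
    Cfsg.Agent.Fusion.le_center_of_card_eq_prime hS _
      ((Nat.card_congr (Subgroup.subgroupOfEquivOfLe hHS).toEquiv).trans hc)
  have hcen : ∀ s ∈ S, ∀ z ∈ H, s * z = z * s := fun s hs z hz' =>
    congrArg Subtype.val (Subgroup.mem_center_iff.1
      (hz (show (⟨z, hHS hz'⟩ : S) ∈ H.subgroupOf S from hz')) ⟨s, hs⟩)
  have hHnorm : F.IsNormal H := isNormal_of_stronglyClosed_comm hS hF hHc
    fun x hx y hy => hcen x (hHS hx) y hy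
  obtain ⟨L, hHL, hLS, hLn, hLc⟩ := exists_normal_between hS (k := k) hHS hHn
    (by rw [hc]; exact Nat.le_self_pow (by have := hyp.pos; omega) p) hyp.lt.le
  haveI : Finite (MulAut S) := Finite.of_injective _ MulEquiv.toEquiv_injective
  have hres : ∀ {P : Subgroup Ω}, P ≤ S → ∀ α : F.autGroup P, α ∈ pResidual p (F.autGroup P) →
      ∀ x ∈ P, x⁻¹ * apl (α : MulAut P) x ∈ H := fun {P} hP α hα x hx =>
    residual_quot_mem_hyperfocal hP (Subgroup.mem_map_of_mem _ hα) hx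
  have htop : IsPGroup p (F.autGroup S) := by
    refine isPGroup_of_residual hS ?_
    have hle : (pResidual p (F.autGroup S)).map (F.autGroup S).subtype ≤ autInducedBy S S := by
      rintro _ ⟨α, hα, rfl⟩
      have hi := iso_apl le_rfl α.2
      have hL : ∀ y ∈ L, apl (α : MulAut S) y ∈ L := fun y hy => by
        have := L.mul_mem hy (hHL (hres le_rfl α hα y (hLS hy)))
        rwa [mul_inv_cancel_left] at this
      obtain ⟨-, g, hg, hgx⟩ := mor_inner.1 (innerAt_top (hyp.inner L hLS hLn hLc) hLn hi.1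
        (g := apl (α : MulAut S)) (hi.1.mono (sup_le le_rfl hLS)) (fun _ _ => rfl) fun y =>
          ⟨fun hy => (hi.1.mono hLS).surj_of_card hLS hL le_rfl hy,
            fun ⟨v, hv, hvy⟩ => hvy ▸ hL v hv⟩)
      exact mem_autInducedBy_iff.2 ⟨g, hg, Subgroup.le_normalizer hg, hgx⟩
    exact ((isPGroup_autInducedBy hS).to_le hle).of_equiv
      (Subgroup.equivMapOfInjective _ _ (F.autGroup S).subtype_injective).symm
  have hinner := eq_inner_of_no_essential hS hF htop fun P hess => ?_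
  · rw [hinner]
    exact fun P f hf => hf
  refine not_essential_of_isPGroup hS hF ?_ hess
  have hPS : P ≤ S := hess.1.1
  haveI := finite_of_le hPS
  haveI : Finite (MulAut P) := Finite.of_injective _ MulEquiv.toEquiv_injective
  have hHP : H ≤ P := le_of_normal_centric_radical hS hHnorm hess.1 (essential_radical hS hF hess)
  haveI := finite_of_le (centralizerIn_le S H)
  have hfn : F.IsFullyCentralized H := ⟨hHS, fun Q _ => Subgroup.card_le_of_le
    fun x hx => ⟨hx.1, Subgroup.mem_centralizer_iff.2 fun z hz' => (hcen x hx.1 z hz').symm⟩⟩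
  refine isPGroup_of_residual hS fun α => ⟨1, Subtype.ext ?_⟩
  have hfix : ∀ z ∈ H, apl ((α : F.autGroup P) : MulAut P) z = z := by
    have hi := (iso_apl hPS (α : F.autGroup P).2)
    have hi' : Iso F H H (apl ((α : F.autGroup P) : MulAut P)) :=
      StronglyClosed.iso_self hHc hi.1 hHP
    obtain ⟨g, hg, hgx⟩ :=
      (isReceptive_iff.1 (receptive_of_fullyCentralized hS hF hfn)).2 H _ hi'
    have hS' : S ≤ nPhi S H (apl ((α : F.autGroup P) : MulAut P)) := fun s hs =>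
      ⟨hs, hHn hs, 1, S.one_mem, fun z hz' => by
        rw [hcen s hs z hz', mul_inv_cancel_right, one_mul, inv_one, mul_one]⟩
    obtain ⟨β, hβ⟩ := (show Iso F S S g from ⟨hg.mono hS', fun y =>
      ⟨fun hy => (hg.mono hS').surj_of_card le_rfl (fun x hx => (hg.mono hS').mem_S hx) le_rfl hy,
        fun ⟨v, hv, hvy⟩ => hvy ▸ (hg.mono hS').mem_S hv⟩⟩).exists_aut
    have hβm : β ∈ F.autGroup S := (mem_autGroup_iff le_rfl).2
      ⟨(hg.mono hS').congr hβ, fun y => ⟨fun hy => ⟨apl β⁻¹ y, apl_mem _ hy, apl_apl_inv β hy⟩,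
        fun ⟨v, hv, hvy⟩ => hvy ▸ apl_mem β hv⟩⟩
    rw [autGroup_top_eq_inn hS hF htop, ← autInducedBy_self_eq_inn] at hβm
    obtain ⟨s, hs, -, hsx⟩ := mem_autInducedBy_iff.1 hβm
    intro z hz'
    rw [← hgx z hz', ← hβ z (hHS hz'), hsx z (hHS hz'), hcen s hs z hz', mul_inv_cancel_right]
  have hpow : ∀ (n : ℕ), ∀ x ∈ P, apl ((((α : F.autGroup P) ^ n : F.autGroup P) : MulAut P)) x =
      x * (x⁻¹ * apl ((α : F.autGroup P) : MulAut P) x) ^ n := by
    intro n
    induction n with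
    | zero => intro x hx; rw [pow_zero, OneMemClass.coe_one, apl_one hx, pow_zero, mul_one]
    | succ n ih =>
      intro x hx
      have hi := (iso_apl hPS (α : F.autGroup P).2).1
      have hh := hres hPS _ α.2 x hx
      have hhn := H.pow_mem hh n
      rw [pow_succ', Subgroup.coe_mul, apl_mul _ _ hx, ih x hx, hi.map_mul hx (hHP hhn),
        hfix _ hhn, pow_succ' (x⁻¹ * _), ← mul_assoc, mul_inv_cancel_left]
  refine Subtype.ext (apl_ext fun x hx => ?_)
  have hh := hres hPS _ α.2 x hx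
  have h1 : (x⁻¹ * apl ((α : F.autGroup P) : MulAut P) x) ^ p = 1 := by
    have h2 := pow_card_eq_one' (x := (⟨_, hh⟩ : H))
    rw [hc] at h2
    exact congrArg Subtype.val h2
  rw [pow_one, Subgroup.coe_pow, hpow p x hx, h1, mul_one, OneMemClass.coe_one,
    OneMemClass.coe_one, apl_one hx]

omit [Fact p.Prime] [Finite S] hS hF in
theorem innerAt_factor' [Finite S] {Ω' : Type u} [Group Ω'] {S' : Subgroup Ω'}
    {E : FusionSystem S'} {T : Subgroup Ω} {θ : S →* Ω'} (hT : F.StronglyClosed T)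
    (hE : F.IsFactorSystem T θ E) {V' : Subgroup Ω'}
    (hSV : S ≤ Subgroup.normalizer (preimageAlong θ V' : Set Ω))
    (h : InnerAt F (preimageAlong θ V')) : InnerAt E V' := by
  have hrange := hE.2.2.1
  rintro X' f' - ⟨hX', -, g', hg', hg'f, hg'V⟩
  obtain ⟨hsup, g, hg, hgi⟩ := (mor_factor hE hT).1 hg'
  have hX'S : X' ≤ S' := le_sup_left.trans hsup
  have hXle : preimageAlong θ X' ≤ preimageAlong θ (X' ⊔ V') := fun x hx =>
    mem_pre.2 ⟨(mem_pre.1 hx).1, Subgroup.mem_sup_left (mem_pre.1 hx).2⟩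
  have hVle : preimageAlong θ V' ≤ preimageAlong θ (X' ⊔ V') := fun x hx =>
    mem_pre.2 ⟨(mem_pre.1 hx).1, Subgroup.mem_sup_right (mem_pre.1 hx).2⟩
  have hgV : ∀ v ∈ preimageAlong θ V', g v ∈ preimageAlong θ V' := fun v hv => by
    refine mem_pre.2 ⟨hg.mem_S (hVle hv), ?_⟩
    rw [← hgi v (hVle hv)]
    exact (hg'V _).2 ⟨_, (mem_pre.1 hv).2, rfl⟩
  obtain ⟨-, s, hs, hsg⟩ := mor_inner.1 (innerAt_top h hSV (hg.mono hXle)
    (hg.mono (sup_le hXle hVle)) (fun _ _ => rfl) fun y =>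
      ⟨fun hy => (hg.mono hVle).surj_of_card pre_le hgV le_rfl hy,
        fun ⟨v, hv, hvy⟩ => hvy ▸ hgV v hv⟩)
  refine mor_inner.2 ⟨hX'S, thFn θ s, hrange ▸ thFn_mem_range _ hs, fun z hz => ?_⟩
  obtain ⟨x, hx, rfl⟩ := exists_pre (hrange ▸ hX'S) hz
  rw [← hg'f _ hz, hgi x (hXle hx), hsg x hx, thFn_conj hs (pre_le hx)]

/-- The hypothesis passes to factor systems modulo small strongly closed subgroups. -/
theorem hyp_factor (hyp : Hyp F p k) {T : Subgroup Ω} (hT : F.StronglyClosed T) {i : ℕ}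
    (hTc : Nat.card T = p ^ i) (hik : i < k) {Ω' : Type u} [Group Ω'] {S' : Subgroup Ω'}
    {θ : S →* Ω'} {E : FusionSystem S'} (hE : F.IsFactorSystem T θ E) : Hyp E p (k - i) := by
  have hp := (Fact.out : p.Prime)
  have hker := hE.2.1
  have hrange := hE.2.2.1
  have hcard : ∀ X' ≤ S', Nat.card (preimageAlong θ X') = p ^ i * Nat.card X' := fun X' hX' => by
    rw [card_preimageAlong hT.1 hker (hrange ▸ hX'), hTc]
  have hsplit : p ^ k = p ^ i * p ^ (k - i) := by rw [← pow_add]; congr 1; omega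
  refine ⟨by omega, ?_, fun Q' hQ' hc => ?_, fun H' hH' hn hc => ?_⟩
  · have e : preimageAlong θ S' = S := le_antisymm pre_le fun x hx =>
      mem_pre.2 ⟨hx, hrange ▸ thFn_mem_range _ hx⟩
    have h1 := hcard S' le_rfl
    rw [e] at h1
    have h2 := hyp.lt
    rw [h1, hsplit] at h2
    exact Nat.lt_of_mul_lt_mul_left h2
  · obtain ⟨P, hP, hQP, hQi⟩ := hyp.weak (preimageAlong θ Q') pre_le
      (by rw [hcard Q' hQ', hc, hsplit])
    have hmono : ∀ {A B : Subgroup Ω}, A ≤ B → B ≤ S → imageAlong θ A ≤ imageAlong θ B :=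
      fun {A B} hAB hB z hz => by
        obtain ⟨x, hx, rfl⟩ := (mem_imageAlong (hAB.trans hB)).1 hz
        exact (mem_imageAlong hB).2 ⟨x, hAB hx, rfl⟩
    have himQ : imageAlong θ (preimageAlong θ Q') = Q' := imageAlong_preimageAlong (hrange ▸ hQ')
    refine ⟨imageAlong θ P, stronglyClosed_image hS hF hE hT hP, ?_, ?_⟩
    · have e : imageAlong θ (preimageAlong θ Q' ⊔ P) = Q' ⊔ imageAlong θ P := by
        refine le_antisymm (fun z hz => ?_) (sup_le
          (himQ.ge.trans (hmono le_sup_left hQP.1)) (hmono le_sup_right hQP.1))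
        obtain ⟨x, hx, rfl⟩ := (mem_imageAlong hQP.1).1 hz
        have hle : preimageAlong θ Q' ⊔ P ≤ preimageAlong θ (Q' ⊔ imageAlong θ P) :=
          sup_le (fun y hy => mem_pre.2 ⟨(mem_pre.1 hy).1, Subgroup.mem_sup_left (mem_pre.1 hy).2⟩)
            fun y hy => mem_pre.2 ⟨hP.1 hy,
              Subgroup.mem_sup_right ((mem_imageAlong hP.1).2 ⟨y, hy, rfl⟩)⟩
        exact (mem_pre.1 (hle hx)).2
      exact e ▸ stronglyClosed_image hS hF hE hT hQP
    · have e : imageAlong θ (preimageAlong θ Q' ⊓ P) = Q' ⊓ imageAlong θ P := by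
        refine le_antisymm (le_inf ((hmono inf_le_left pre_le).trans himQ.le)
          (hmono inf_le_right hP.1)) fun z hz => ?_
        obtain ⟨x, hx, hxz⟩ := (mem_imageAlong hP.1).1 hz.2
        exact (mem_imageAlong hQi.1).2
          ⟨x, ⟨mem_pre.2 ⟨hP.1 hx, hxz.symm ▸ hz.1⟩, hx⟩, hxz⟩
      exact e ▸ stronglyClosed_image hS hF hE hT hQi
  · have hSV : S ≤ Subgroup.normalizer (preimageAlong θ H' : Set Ω) := by
      refine Subgroup.le_normalizer_iff.2 fun s hs x hx => ?_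
      obtain ⟨hxS, hx'⟩ := mem_pre.1 hx
      refine mem_pre.2 ⟨S.mul_mem (S.mul_mem hs hxS) (S.inv_mem hs), ?_⟩
      rw [thFn_conj hs hxS]
      exact (Subgroup.mem_normalizer_iff.1 (hn (hrange ▸ thFn_mem_range _ hs)) _).1 hx'
    exact innerAt_factor' hT hE hSV (hyp.inner _ pre_le hSV (by rw [hcard H' hH', hc, hsplit]))

omit hS hF [Finite S] in
/-- The criterion. -/
theorem allInner : ∀ (n : ℕ) {Ω : Type u} [Group Ω] {S : Subgroup Ω} [Finite S]
    {F : FusionSystem S}, IsPGroup p S → F.IsSaturated p → Nat.card S = n →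
    ∀ {k : ℕ}, Hyp F p k → AllInner F := by
  intro n
  induction n using Nat.strong_induction_on with
  | h n ih =>
  intro Ω _ S _ F hS hF hn k hyp
  have hp := (Fact.out : p.Prime)
  have hinner : F.hyperfocalSubgroup p = ⊥ → AllInner F := fun h => by
    rw [eq_inner_of_hyperfocal_bot hS hF h]
    exact fun P f hf => hf
  by_cases hH0 : F.hyperfocalSubgroup p = ⊥
  · exact hinner hH0
  have hHc := stronglyClosed_hyperfocal hS hF
  obtain ⟨R, hR, hRH⟩ := exists_minClosed hHc hH0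
  by_cases hRk : p ^ k ≤ Nat.card R
  · exact allInner_of_large hS hF hyp hR hRk
  have small : ∀ T, F.StronglyClosed T → T ≠ ⊥ → Nat.card T < p ^ k →
      F.hyperfocalSubgroup p ≤ T := by
    intro T hT hT0 hTk
    haveI := finite_of_le hT.1
    obtain ⟨i, hi⟩ := exists_card_eq hS hT.1
    haveI : (T.subgroupOf S).Normal :=
      (Subgroup.normal_subgroupOf_iff_le_normalizer hT.1).2 (StronglyClosed.le_normalizer hT)
    let θ : S →* S ⧸ T.subgroupOf S := QuotientGroup.mk' (T.subgroupOf S)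
    have hker : ∀ s : S, θ s = 1 ↔ (s : Ω) ∈ T := fun s =>
      (QuotientGroup.eq_one_iff s).trans Subgroup.mem_subgroupOf
    obtain ⟨E, hE⟩ := exists_factorSystem hT hker
      (show θ.range = (⊤ : Subgroup (S ⧸ T.subgroupOf S)) from QuotientGroup.range_mk' _)
    have hlt : Nat.card (⊤ : Subgroup (S ⧸ T.subgroupOf S)) < n := by
      have h1 := Subgroup.card_eq_card_quotient_mul_card_subgroup (T.subgroupOf S)
      rw [Nat.card_congr (Subgroup.subgroupOfEquivOfLe hT.1).toEquiv, hn] at h1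
      have h2 : 1 < Nat.card T := (Subgroup.one_lt_card_iff_ne_bot T).2 hT0
      have h3 : 0 < Nat.card (S ⧸ T.subgroupOf S) := Nat.card_pos
      rw [Subgroup.card_top, h1]
      exact lt_mul_of_one_lt_right h3 h2
    have hEp : IsPGroup p (⊤ : Subgroup (S ⧸ T.subgroupOf S)) := (hS.to_quotient _).to_subgroup _
    have hik : i < k := by
      rw [hi] at hTk
      exact (Nat.pow_lt_pow_iff_right hp.one_lt).1 hTk
    have hEh := hyperfocal_eq_bot hEp (ih _ hlt hEp (factor_saturated hS hF hE hT) rfl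
      (hyp_factor hS hF hyp hT hi hik hE))
    rw [factor_hyperfocal hS hF hE hT, Subgroup.map_eq_bot_iff, QuotientGroup.ker_mk'] at hEh
    exact fun x hx => Subgroup.mem_subgroupOf.1
      (hEh (show (⟨x, hHc.1 hx⟩ : S) ∈ (F.hyperfocalSubgroup p).subgroupOf S from hx))
  obtain rfl : R = F.hyperfocalSubgroup p :=
    le_antisymm hRH (small R hR.sc hR.ne (not_le.1 hRk))
  by_cases hΦ : F.hyperfocalSubgroup p ≤ (frattini S).map S.subtype
  · have hcΦ : ⁅S, S⁆ ≤ (frattini S).map S.subtype := by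
      rw [← map_subtype_commutator_eq]
      exact Subgroup.map_mono (by have := hS.isNilpotent; exact Cfsg.Agent.Core.commutator_le_frattini)
    have hinn := inner_saturated hS hF
    have hb := hyperfocal_eq_bot (F := innerFusionSystem S) hS fun _ _ hf => hf
    have e1 : F.focalSubgroup ≤ (frattini S).map S.subtype := by
      rw [focal_eq hS hF]; exact sup_le hΦ hcΦ
    have e2 : (innerFusionSystem S).focalSubgroup ≤ (frattini S).map S.subtype := by
      rw [focal_eq hS hinn, hb, bot_sup_eq]; exact hcΦ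
    have hsub : (innerFusionSystem S).IsSubsystemOf F := fun P => inner_le F P
    have h1 := focal_eq_of_elementary hS hF hsub (by rw [sup_eq_left.2 e1, sup_eq_left.2 e2])
    exact absurd ((hyperfocal_eq_of_focal hS hF hinn hsub h1).trans hb) hH0
  obtain ⟨M, hM, hHM⟩ : ∃ M : Subgroup S, IsCoatom M ∧
      ¬ (F.hyperfocalSubgroup p).subgroupOf S ≤ M := by
    by_contra h
    push Not at h
    refine hΦ ((Subgroup.map_subgroupOf_eq_of_le hHc.1).ge.trans (Subgroup.map_mono ?_))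
    exact le_iInf₂ fun M hM => h M hM
  set H := F.hyperfocalSubgroup p
  set M' := M.map S.subtype
  have hMS : M' ≤ S := Subgroup.map_subtype_le M
  haveI := finite_of_le hMS
  haveI := finite_of_le hHc.1
  have hHM' : ¬ H ≤ M' := fun h => hHM fun x hx => by
    obtain ⟨y, hy, hyx⟩ := h (Subgroup.mem_subgroupOf.1 hx)
    exact Subtype.ext hyx ▸ hy
  have hidx : M.index = p := by
    obtain ⟨j, hj⟩ := exists_card_eq hS hMS
    obtain ⟨l, hl⟩ := exists_card_eq hS (le_refl S)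
    rw [Subgroup.card_subtype] at hj
    have hjl : j < l := by
      have h1 := card_lt_of_lt' (le_refl S) (lt_of_le_of_ne hMS fun e => hHM' (e ▸ hHc.1))
      rw [Subgroup.card_subtype, hj, hl] at h1
      exact (Nat.pow_lt_pow_iff_right hp.one_lt).1 h1
    obtain ⟨K, hK, hMK⟩ := Sylow.exists_subgroup_card_pow_prime_le (G := S) p (n := j) (m := j + 1)
      (hl ▸ Nat.pow_dvd_pow p hjl) M hj j.le_succ
    have hKtop : K = ⊤ := hM.2 K (lt_of_le_of_ne hMK fun e => by
      rw [← e, hj] at hK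
      exact absurd (Nat.pow_right_injective hp.two_le hK) (by omega))
    rw [hKtop, Subgroup.card_top] at hK
    have h1 := M.card_mul_index
    rw [hj, hK, pow_succ] at h1
    exact Nat.eq_of_mul_eq_mul_left (pow_pos hp.pos j) h1
  by_cases hHM0 : H ⊓ M' = ⊥
  · refine allInner_of_hyperfocal_prime hS hF hyp ?_
    have h1 : (M.relIndex (H.subgroupOf S)) = Nat.card H := by
      have e : M ⊓ H.subgroupOf S = ⊥ := eq_bot_iff.2 fun x hx => Subgroup.mem_bot.2 (Subtype.ext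
        (Subgroup.mem_bot.1 (hHM0 ▸ (⟨hx.2, ⟨x, hx.1, rfl⟩⟩ : (x : Ω) ∈ H ⊓ M'))))
      rw [← Subgroup.inf_relIndex_right, e, Subgroup.relIndex_bot_left,
        Nat.card_congr (Subgroup.subgroupOfEquivOfLe hHc.1).toEquiv]
    have h2 : M.relIndex (H.subgroupOf S) ≤ p := by
      rw [← hidx, ← Subgroup.relIndex_top_right]
      exact Subgroup.relIndex_le_of_le_right le_top
        (by rw [Subgroup.relIndex_top_right, hidx]; exact hp.pos.ne')
    obtain ⟨j, hj⟩ := exists_card_eq hS hHc.1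
    rw [h1, hj] at h2
    have hj1 : j ≤ 1 := (Nat.pow_le_pow_iff_right hp.one_lt).1 (by rwa [pow_one])
    have hj0 : j ≠ 0 := fun e => hH0 (Subgroup.eq_bot_of_card_eq _ (by rw [hj, e, pow_zero]))
    rw [hj, show j = 1 by omega, pow_one]
  obtain ⟨Q, hAQ, hQM, hQc⟩ := exists_between hS (k := k) (inf_le_right : H ⊓ M' ≤ M') hMS
    ((Subgroup.card_le_of_le (inf_le_left : H ⊓ M' ≤ H)).trans (not_le.1 hRk).le) (by
      rw [Subgroup.card_subtype]
      obtain ⟨l, hl⟩ := exists_card_eq hS (le_refl S)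
      have h1 := M.card_mul_index
      rw [hidx, hl] at h1
      have hl0 : k < l := (Nat.pow_lt_pow_iff_right hp.one_lt).1 (hl ▸ hyp.lt)
      have h2 : Nat.card M = p ^ (l - 1) := by
        rw [show l = l - 1 + 1 by omega, pow_succ] at h1
        exact Nat.eq_of_mul_eq_mul_right hp.pos h1
      rw [h2]
      exact Nat.pow_le_pow_right hp.pos (by omega))
  obtain ⟨P, hP, hPH, -, hP0⟩ := split hS hyp hR (hQM.trans hMS) hQc
    (fun e => hHM0 (eq_bot_iff.2 fun x hx => e ▸ ⟨hAQ hx, hx.1⟩))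
    fun h => hHM' (h.trans hQM)
  obtain ⟨R', hR', hR'P⟩ := exists_minClosed hP hP0
  by_cases hR'k : p ^ k ≤ Nat.card R'
  · exact allInner_of_large hS hF hyp hR' hR'k
  exact absurd (eq_bot_iff.2 fun x hx => hPH ▸
      ⟨hR'P (small R' hR'.sc hR'.ne (not_le.1 hR'k) hx), hx⟩) hH0

end Cfsg.Agent.FusSys.WeakEmbed
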