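import Mathlib.GroupTheory.Sylow
import Mathlib.GroupTheory.GroupAction.Quotient
import Mathlib.GroupTheory.Perm.Sign
import Mathlib.RingTheory.Polynomial.Basic
import Mathlib.Data.Nat.Choose.Factorization
import Mathlib.Algebra.Module.ZMod
import Mathlib.Algebra.CharP.Lemmas
import Mathlib.Algebra.Field.ZMod
import Mathlib.Data.Fintype.Perm
import Mathlib.GroupTheory.SpecificGroups.Cyclic

/-!
A criterion for a `p`-group to map onto a Sylow `p`-subgroup of `Sym(p ^ 2)`.
-/

set_option autoImplicit false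

namespace Cfsg.Agent.FusSys

open Polynomial

variable {p : ℕ} [hp : Fact p.Prime]

/-- The shift of functions on `ZMod p`. -/
def shiftEnd (p : ℕ) : Module.End (ZMod p) (ZMod p → ZMod p) where
  toFun w := fun a => w (a + 1)
  map_add' _ _ := rfl
  map_smul' _ _ := rfl

theorem shiftEnd_pow_apply (j : ℕ) : ∀ (w : ZMod p → ZMod p) (a : ZMod p),
    (shiftEnd p ^ j) w a = w (a + j) := by
  induction j with
  | zero => intro w a; simp
  | succ j ih =>
    intro w a
    rw [pow_succ, Module.End.mul_apply, ih]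
    show w (a + j + 1) = _
    rw [Nat.cast_succ, add_assoc]

theorem shiftEnd_pow_self : shiftEnd p ^ p = 1 :=
  LinearMap.ext fun w => funext fun a => by rw [shiftEnd_pow_apply]; simp

theorem shift_sub_one_pow : (shiftEnd p - 1) ^ p = 0 ∧
    (shiftEnd p - 1) ^ (p - 1) = ∑ j ∈ Finset.range p, shiftEnd p ^ j := by
  have h0 : ((X : (ZMod p)[X]) - 1) ^ p = X ^ p - 1 := by rw [sub_pow_char, one_pow]
  have h1 : ((X : (ZMod p)[X]) - 1) ^ (p - 1) = ∑ j ∈ Finset.range p, X ^ j := by
    refine mul_right_cancel₀ (b := (X : (ZMod p)[X]) - 1)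
      (by simpa using X_sub_C_ne_zero (1 : ZMod p)) ?_
    rw [← pow_succ, Nat.sub_add_cancel hp.out.pos, h0, geom_sum_mul]
  have h2 := congrArg (aeval (shiftEnd p)) h0
  have h3 := congrArg (aeval (shiftEnd p)) h1
  simp only [map_pow, map_sub, aeval_X, map_one, shiftEnd_pow_self, sub_self] at h2
  simp only [map_pow, map_sub, map_sum, aeval_X, map_one] at h3
  exact ⟨h2, h3⟩

/-- A shift-invariant group of functions containing one of non-zero sum contains all. -/
theorem mem_of_shift_invariant (I : Submodule (ZMod p) (ZMod p → ZMod p))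
    (hI : ∀ w ∈ I, shiftEnd p w ∈ I) {w : ZMod p → ZMod p} (hw : w ∈ I)
    (hsum : ∑ j ∈ Finset.range p, w j ≠ 0) (v : ZMod p → ZMod p) : v ∈ I := by
  obtain ⟨hp0, hp1⟩ := shift_sub_one_pow (p := p)
  obtain ⟨D, hD⟩ : ∃ D, D = shiftEnd p - 1 := ⟨_, rfl⟩
  rw [← hD] at hp0 hp1
  have hDI : ∀ n : ℕ, ∀ u ∈ I, (D ^ n) u ∈ I := by
    intro n
    induction n with
    | zero => intro u hu; simpa using hu
    | succ n ih =>
      intro u hu
      rw [pow_succ, Module.End.mul_apply]
      refine ih _ ?_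
      rw [hD, LinearMap.sub_apply, Module.End.one_apply]
      exact I.sub_mem (hI u hu) hu
  have hconst : ∀ u : ZMod p → ZMod p, D u = 0 → ∀ a, u a = u 0 := by
    intro u hu a
    have h1 : ∀ b, u (b + 1) = u b := fun b => by
      have := congrFun hu b
      rw [hD] at this
      exact sub_eq_zero.1 this
    rw [← ZMod.natCast_zmod_val a]
    induction a.val with
    | zero => rw [Nat.cast_zero]
    | succ n ih => rw [Nat.cast_succ, h1, ih]
  have hnorm : ((D ^ (p - 1)) w) 0 ≠ 0 := by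
    rw [hp1, LinearMap.sum_apply, Finset.sum_apply]
    simpa [shiftEnd_pow_apply] using hsum
  suffices H : ∀ j ≤ p, ∀ u, (D ^ j) u = 0 → u ∈ I from H p le_rfl v (by rw [hp0]; rfl)
  intro j
  induction j with
  | zero => intro _ u hu; simp at hu; rw [hu]; exact I.zero_mem
  | succ j ih =>
    intro hj u hu
    have hu1 : D ((D ^ j) u) = 0 := by rwa [← Module.End.mul_apply, ← pow_succ']
    have hw1 : D ((D ^ (p - 1)) w) = 0 := by
      rw [← Module.End.mul_apply, ← pow_succ', Nat.sub_add_cancel hp.out.pos, hp0]; rfl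
    obtain ⟨c, hc⟩ : ∃ c : ZMod p, (D ^ j) u = c • (D ^ (p - 1)) w := by
      refine ⟨((D ^ j) u) 0 * (((D ^ (p - 1)) w) 0)⁻¹, funext fun a => ?_⟩
      rw [Pi.smul_apply, smul_eq_mul, hconst _ hw1 a, hconst _ hu1 a, mul_assoc,
        inv_mul_cancel₀ hnorm, mul_one]
    have hmem : (D ^ (p - 1 - j)) w ∈ I := hDI _ w hw
    have hu' : u - c • (D ^ (p - 1 - j)) w ∈ I := by
      refine ih (by omega) _ ?_
      rw [map_sub, map_smul, ← Module.End.mul_apply, ← pow_add,
        show j + (p - 1 - j) = p - 1 by omega, hc, sub_self]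
    have := I.add_mem hu' (I.smul_mem c hmem)
    rwa [sub_add_cancel] at this

theorem card_sylow_perm_sq (W : Sylow p (Equiv.Perm (Fin (p ^ 2)))) : Nat.card W = p ^ (p + 1) := by
  rw [Sylow.card_eq_multiplicity, Nat.card_eq_fintype_card (α := Equiv.Perm (Fin (p ^ 2))),
    Fintype.card_perm, Fintype.card_fin]
  congr 1
  rw [Nat.factorization_factorial hp.out (b := 3)
    (Nat.log_lt_of_lt_pow (pow_ne_zero 2 hp.out.ne_zero) (Nat.pow_lt_pow_right hp.out.one_lt (by norm_num))),
    show Finset.Ico 1 3 = {1, 2} by decide, Finset.sum_pair (by norm_num), pow_one,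
    Nat.div_self (pow_pos hp.out.pos 2), pow_two, Nat.mul_div_cancel _ hp.out.pos]

/-- A homomorphism on a normal subgroup of index `p` whose norm does not vanish gives a map onto a
Sylow `p`-subgroup of `Sym(p ^ 2)`. -/
theorem exists_onto_sylow {P : Type*} [Group P] [Finite P] (hP : IsPGroup p P)
    (Q : Subgroup P) [hQn : Q.Normal] (hQ : Q.index = p) (x : P)
    (ν : Q →* Multiplicative (ZMod p)) (u : Q)
    (hne : ∏ i ∈ Finset.range p,
      ν ⟨x ^ i * (u : P) * (x ^ i)⁻¹, hQn.conj_mem _ u.2 _⟩ ≠ 1) :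
    ∃ (W : Sylow p (Equiv.Perm (Fin (p ^ 2))))
      (f : P →* ↥(W : Subgroup (Equiv.Perm (Fin (p ^ 2))))), Function.Surjective f := by
  classical
  let cj : ℕ → Q → Q := fun i v => ⟨x ^ i * (v : P) * (x ^ i)⁻¹, hQn.conj_mem _ v.2 _⟩
  have cj_mul : ∀ i v w, cj i (v * w) = cj i v * cj i w := fun i v w => Subtype.ext (by
    simp [cj, mul_assoc])
  have hxp : x ^ p ∈ Q := hQ ▸ Q.pow_index_mem x
  have hper : ∀ (i : ℕ) (v : Q), ν (cj (i + p) v) = ν (cj i v) := by
    intro i v
    have e : cj (i + p) v = ⟨x ^ p, hxp⟩ * cj i v * (⟨x ^ p, hxp⟩ : Q)⁻¹ := Subtype.ext (by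
      simp [cj, add_comm i p, pow_add, mul_assoc])
    rw [e, map_mul, map_mul, map_inv, mul_comm (ν _) (ν (cj i v)), mul_inv_cancel_right]
  have hmod : ∀ (i : ℕ) (v : Q), ν (cj (i % p) v) = ν (cj i v) := by
    intro i v
    conv_rhs => rw [← Nat.mod_add_div i p]
    induction i / p with
    | zero => rw [Nat.mul_zero, Nat.add_zero]
    | succ k ih => rw [Nat.mul_succ, ← Nat.add_assoc, hper, ih]
  let φ : Q →* Multiplicative (ZMod p → ZMod p) :=
    { toFun := fun v => Multiplicative.ofAdd fun a => (ν (cj a.val v)).toAdd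
      map_one' := by
        apply Multiplicative.toAdd.injective
        funext a
        have : cj a.val 1 = 1 := Subtype.ext (by simp [cj])
        simp [this]
      map_mul' := fun v w => by
        apply Multiplicative.toAdd.injective
        funext a
        simp [cj_mul] }
  have hφ : ∀ v a, (φ v).toAdd a = (ν (cj a.val v)).toAdd := fun _ _ => rfl
  let I : Submodule (ZMod p) (ZMod p → ZMod p) :=
    AddSubgroup.toZModSubmodule p (Subgroup.toAddSubgroup' φ.range)
  have hImem : ∀ w, w ∈ I ↔ ∃ v, φ v = Multiplicative.ofAdd w := fun w => Iff.rfl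
  have hshift : ∀ w ∈ I, shiftEnd p w ∈ I := by
    intro w hw
    obtain ⟨v, hv⟩ := (hImem w).1 hw
    refine (hImem _).2 ⟨cj 1 v, ?_⟩
    apply Multiplicative.toAdd.injective
    funext a
    rw [hφ, toAdd_ofAdd]
    show _ = w (a + 1)
    have e : cj a.val (cj 1 v) = cj (a.val + 1) v := Subtype.ext (by
      simp [cj, pow_succ, mul_assoc])
    have h1 : (φ v).toAdd (a + 1) = w (a + 1) := by rw [hv]; rfl
    rw [e, ← h1, hφ, ← hmod (a.val + 1), ZMod.val_add, ZMod.val_one]
  have hu : ∑ j ∈ Finset.range p, (φ u).toAdd (j : ZMod p) ≠ 0 := by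
    intro h
    apply hne
    apply Multiplicative.toAdd.injective
    rw [toAdd_prod, toAdd_one, ← h]
    refine Finset.sum_congr rfl fun j hj => ?_
    rw [hφ, ZMod.val_cast_of_lt (Finset.mem_range.1 hj)]
  have hsurj : Function.Surjective φ := fun w => by
    obtain ⟨v, hv⟩ := (hImem w.toAdd).1 (mem_of_shift_invariant I hshift
      ((hImem (φ u).toAdd).2 ⟨u, rfl⟩) hu w.toAdd)
    exact ⟨v, hv⟩
  have hνs : Function.Surjective ν := by
    intro c
    obtain ⟨v, hv⟩ := hsurj (Multiplicative.ofAdd fun _ => c.toAdd)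
    refine ⟨cj 0 v, Multiplicative.toAdd.injective ?_⟩
    have h1 := congrFun (congrArg Multiplicative.toAdd hv) 0
    rwa [hφ, ZMod.val_zero, toAdd_ofAdd] at h1
  -- the permutation representation
  let K' : Subgroup P := ν.ker.map Q.subtype
  have hK' : K'.index = p ^ 2 := by
    rw [show K' = ν.ker.map Q.subtype from rfl, Subgroup.index_map_subtype, hQ,
      Subgroup.index_ker, MonoidHom.range_eq_top.2 hνs, Subgroup.card_top,
      Nat.card_congr Multiplicative.toAdd, Nat.card_zmod, pow_two]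
  let e : P ⧸ K' ≃ Fin (p ^ 2) := Finite.equivFinOfCardEq hK'
  let ρ : P →* Equiv.Perm (Fin (p ^ 2)) :=
    (Equiv.permCongrHom e).toMonoidHom.comp (MulAction.toPermHom P (P ⧸ K'))
  obtain ⟨W, hW⟩ := (hP.of_surjective ρ.rangeRestrict ρ.rangeRestrict_surjective).exists_le_sylow
  have hker : ρ.ker ≤ K'.normalCore := by
    intro g hg
    rw [Subgroup.normalCore_eq_ker]
    exact MonoidHom.mem_ker.2 ((Equiv.permCongrHom e).injective
      ((MonoidHom.mem_ker.1 hg).trans (map_one (Equiv.permCongrHom e)).symm))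
  have hkerQ : ρ.ker ≤ Q :=
    hker.trans (K'.normalCore_le.trans (Subgroup.map_subtype_le _))
  have hkerφ : ρ.ker.subgroupOf Q ≤ φ.ker := by
    intro v hv
    refine MonoidHom.mem_ker.2 (Multiplicative.toAdd.injective (funext fun a => ?_))
    obtain ⟨w, hw, hwe⟩ := hker hv (x ^ a.val)
    have h1 : w = cj a.val v := Subtype.ext hwe
    rw [hφ, ← h1, MonoidHom.mem_ker.1 hw]
    rfl
  have hcard : p ^ (p + 1) ∣ Nat.card ρ.range := by
    rw [← Subgroup.index_ker, ← Subgroup.relIndex_mul_index hkerQ, hQ, pow_succ]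
    refine Nat.mul_dvd_mul_right ?_ p
    have h1 := Subgroup.index_dvd_of_le hkerφ
    rw [Subgroup.index_ker, MonoidHom.range_eq_top.2 hsurj, Subgroup.card_top,
      Nat.card_congr Multiplicative.toAdd, Nat.card_fun, Nat.card_zmod] at h1
    exact h1
  refine ⟨W, ρ.codRestrict _ fun g => hW ⟨g, rfl⟩, fun w => ?_⟩
  have heq : ρ.range = (W : Subgroup (Equiv.Perm (Fin (p ^ 2)))) :=
    Subgroup.eq_of_le_of_card_ge hW
      (by rw [card_sylow_perm_sq]; exact Nat.le_of_dvd Nat.card_pos hcard)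
  have hw : (w : Equiv.Perm (Fin (p ^ 2))) ∈ ρ.range := by rw [heq]; exact w.2
  obtain ⟨g, hg⟩ := hw
  exact ⟨g, Subtype.ext hg⟩

end Cfsg.Agent.FusSys
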