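import Cfsg.Agent.FusSys.Tate
import Cfsg.Agent.FusSys.WeakClosed
import Cfsg.Agent.FusSys.WreathImage
import Cfsg.Agent.FusSys.FocalCtl
import Cfsg.Agent.Core.Frattini

/-!
Yoshida's theorem for saturated systems: if the normalizer of `S` does not control transfer then
`S` maps onto a Sylow subgroup of `Sym(p ^ 2)`.
-/

set_option autoImplicit false

namespace Cfsg.Agent.FusSys

open Cfsg Cfsg.FusionSystem

universe u

variable {Ω : Type u} [Group Ω] {S : Subgroup Ω} {F : FusionSystem S} {p : ℕ}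

/-- `S` maps onto a Sylow `p`-subgroup of `Sym(p ^ 2)`. -/
def HasWreathImage (p : ℕ) (P : Type*) [Group P] : Prop :=
  ∃ (W : Sylow p (Equiv.Perm (Fin (p ^ 2))))
    (f : P →* ↥(W : Subgroup (Equiv.Perm (Fin (p ^ 2))))), Function.Surjective f

section Cocycle

variable {G : Type*} [Group G] {X : Type*} [MulAction G X] {A : Type*} [CommGroup A]
  {β : G → X → A}

theorem cocycle_one (hco : ∀ g h o, β (g * h) o = β g (h • o) * β h o) (o : X) : β 1 o = 1 := by
  have h := hco 1 1 o
  rw [one_smul, mul_one, right_eq_mul] at h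
  exact h

/-- The product over a cycle of `u`. -/
theorem cocycle_cycle (hco : ∀ g h o, β (g * h) o = β g (h • o) * β h o) (u : G) (o : X) :
    ∀ n : ℕ, ∏ k ∈ Finset.range n, β u (u ^ k • o) = β (u ^ n) o := by
  intro n
  induction n with
  | zero => rw [Finset.range_zero, Finset.prod_empty, pow_zero, cocycle_one hco]
  | succ n ih => rw [Finset.prod_range_succ, ih, pow_succ', hco, mul_comm]

/-- An invariant set without fixed points contributes nothing, when proper powers of `u` do. -/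
theorem cocycle_prod_eq_one [DecidableEq X] (hco : ∀ g h o, β (g * h) o = β g (h • o) * β h o) (u : G)
    (hu : IsOfFinOrder u)
    (hsmall : ∀ (L : ℕ) (o : X), 1 < L → L ∣ orderOf u → u ^ L • o = o → β (u ^ L) o = 1)
    (D : Finset X) (hD : ∀ o ∈ D, u • o ∈ D) (hfree : ∀ o ∈ D, u • o ≠ o) :
    ∏ o ∈ D, β u o = 1 := by
  induction D using Finset.strongInduction with
  | H D ih =>
    rcases D.eq_empty_or_nonempty with rfl | ⟨o, ho⟩
    · rfl
    obtain ⟨L, hL⟩ : ∃ L, L = Function.minimalPeriod (fun z : X => u • z) o := ⟨_, rfl⟩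
    have hiter : ∀ (k : ℕ) (z : X), (fun z : X => u • z)^[k] z = u ^ k • z := by
      intro k
      induction k with
      | zero => intro z; rw [pow_zero, one_smul]; rfl
      | succ k ihk => intro z; rw [Function.iterate_succ_apply', ihk, pow_succ', mul_smul]
    have hper : Function.IsPeriodicPt (fun z : X => u • z) (orderOf u) o := by
      show _ = o
      rw [hiter, pow_orderOf_eq_one, one_smul]
    have hLdvd : L ∣ orderOf u := hL ▸ hper.minimalPeriod_dvd
    have hL0 : 0 < L := hL ▸ hper.minimalPeriod_pos hu.orderOf_pos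
    have hfix : u ^ L • o = o := by
      rw [← hiter, hL]
      exact Function.iterate_minimalPeriod
    have hL1 : 1 < L := by
      rcases Nat.lt_or_ge 1 L with h | h
      · exact h
      · exfalso
        obtain rfl : L = 1 := by omega
        rw [pow_one] at hfix
        exact hfree o ho hfix
    let C : Finset X := (Finset.range L).image fun k => u ^ k • o
    have hCD : C ⊆ D := by
      intro z hz
      obtain ⟨k, -, rfl⟩ := Finset.mem_image.1 hz
      clear hz
      induction k with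
      | zero => rwa [pow_zero, one_smul]
      | succ k ihk => rw [pow_succ', mul_smul]; exact hD _ ihk
    have hCprod : ∏ z ∈ C, β u z = 1 := by
      rw [Finset.prod_image, cocycle_cycle hco, hsmall L o hL1 hLdvd hfix]
      intro a ha b hb hab
      simp only [Finset.coe_range, Set.mem_Iio] at ha hb
      rw [hL] at ha hb
      exact Function.iterate_injOn_Iio_minimalPeriod ha hb
        (show (fun z : X => u • z)^[a] o = (fun z : X => u • z)^[b] o by
          rw [hiter, hiter]; exact hab)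
    have hCinv : ∀ z, u • z ∈ C → z ∈ C := by
      intro z hz
      obtain ⟨k, hk, hkz⟩ := Finset.mem_image.1 hz
      rw [Finset.mem_range] at hk
      rcases k with _ | k
      · refine Finset.mem_image.2 ⟨L - 1, Finset.mem_range.2 (by omega), ?_⟩
        refine (smul_left_cancel_iff u).1 ?_
        rw [← mul_smul, ← pow_succ', Nat.sub_add_cancel hL0, hfix, ← hkz, pow_zero, one_smul]
      · refine Finset.mem_image.2 ⟨k, Finset.mem_range.2 (by omega), ?_⟩
        refine (smul_left_cancel_iff u).1 ?_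
        rw [← mul_smul, ← pow_succ', hkz]
    rw [← Finset.prod_sdiff hCD, hCprod, mul_one]
    refine ih (D \ C) ?_ (fun z hz => ?_) (fun z hz => hfree z (Finset.mem_sdiff.1 hz).1)
    · refine Finset.sdiff_ssubset hCD ?_
      exact ⟨o, Finset.mem_image.2 ⟨0, Finset.mem_range.2 hL0, by rw [pow_zero, one_smul]⟩⟩
    · obtain ⟨h1, h2⟩ := Finset.mem_sdiff.1 hz
      exact Finset.mem_sdiff.2 ⟨hD z h1, fun h => h2 (hCinv z h)⟩

/-- The contribution of a non-trivial orbit. -/
theorem orbit_prod_eq_one [Fintype X] [DecidableEq X] [Finite G] {p : ℕ} [Fact p.Prime]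
    (hG : IsPGroup p G) {β : G → X → Multiplicative (ZMod p)}
    (hco : ∀ g h o, β (g * h) o = β g (h • o) * β h o) (u : G)
    (hsmall : ∀ (L : ℕ) (o : X), 1 < L → L ∣ orderOf u → u ^ L • o = o → β (u ^ L) o = 1)
    (o : X) (hmov : ∃ g : G, g • o ≠ o) (hno : ¬ HasWreathImage p G)
    (D : Finset X) (hD : ∀ z, z ∈ D ↔ z ∈ MulAction.orbit G o) : ∏ z ∈ D, β u z = 1 := by
  classical
  haveI : Fintype G := Fintype.ofFinite G
  have hp : p.Prime := Fact.out
  obtain ⟨g₀, hg₀⟩ := hmov
  obtain ⟨Q, hle, hlt, hidx, hnorm⟩ := exists_index_p_ge (R := (⊤ : Subgroup G))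
    (Q := MulAction.stabilizer G o) (hG.to_subgroup ⊤)
    (lt_top_iff_ne_top.2 fun h => hg₀ (MulAction.mem_stabilizer_iff.1 (h ▸ Subgroup.mem_top g₀)))
  rw [Subgroup.relIndex_top_right] at hidx
  haveI hQn : Q.Normal := Subgroup.normalizer_eq_top_iff.1 (top_le_iff.1 hnorm)
  obtain ⟨x, -, hx⟩ := SetLike.exists_of_lt hlt
  by_cases huQ : u ∈ Q
  swap
  · refine cocycle_prod_eq_one hco u (isOfFinOrder_of_finite u) hsmall D (fun z hz => ?_) fun z hz h => ?_
    · rw [hD] at hz ⊢
      exact (MulAction.mem_orbit_iff.1 hz).elim fun g hg => ⟨u * g, by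
        show (u * g) • o = u • z
        rw [mul_smul, hg]⟩
    · obtain ⟨g, rfl⟩ := (hD z).1 hz
      change u • g • o = g • o at h
      have h1 : g⁻¹ * u * g ∈ Q := hle (MulAction.mem_stabilizer_iff.2 (by
        rw [mul_smul, mul_smul, h, inv_smul_smul]))
      exact huQ (by simpa [mul_assoc] using hQn.conj_mem _ h1 g)
  -- the blocks
  let B₀ : Finset X := (Finset.univ : Finset Q).image fun q => (q : G) • o
  have hB₀ : ∀ z, z ∈ B₀ ↔ ∃ q ∈ Q, q • o = z := fun z => by simp [B₀]
  have hperm : ∀ (q : G), q ∈ Q → ∀ F : X → Multiplicative (ZMod p),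
      ∏ z ∈ B₀, F (q • z) = ∏ z ∈ B₀, F z := by
    intro q hq F
    refine Finset.prod_bij (fun z _ => q • z) (fun z hz => ?_) (fun a _ b _ h => smul_left_cancel q h)
      (fun z hz => ?_) (fun _ _ => rfl)
    · obtain ⟨r, hr, rfl⟩ := (hB₀ z).1 hz
      exact (hB₀ _).2 ⟨q * r, Q.mul_mem hq hr, mul_smul _ _ _⟩
    · obtain ⟨r, hr, rfl⟩ := (hB₀ z).1 hz
      exact ⟨q⁻¹ • r • o, (hB₀ _).2 ⟨q⁻¹ * r, Q.mul_mem (Q.inv_mem hq) hr, mul_smul _ _ _⟩,
        smul_inv_smul _ _⟩
  let ν : Q →* Multiplicative (ZMod p) :=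
    { toFun := fun v => ∏ z ∈ B₀, β (v : G) z
      map_one' := Finset.prod_eq_one fun z _ => cocycle_one hco z
      map_mul' := fun v w => by
        simp only [Subgroup.coe_mul, hco, Finset.prod_mul_distrib]
        rw [hperm _ w.2 fun z => β (v : G) z] }
  have hconj : ∀ i : ℕ, ∏ z ∈ B₀, β u (x ^ i • z) =
      ν ⟨(x ^ i)⁻¹ * u * x ^ i, by simpa using hQn.conj_mem u huQ (x ^ i)⁻¹⟩ := by
    intro i
    have hv : (x ^ i)⁻¹ * u * x ^ i ∈ Q := by simpa using hQn.conj_mem u huQ (x ^ i)⁻¹
    have h2 : ∏ z ∈ B₀, (β u (x ^ i • z) * β (x ^ i) z) =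
        ∏ z ∈ B₀, (β (x ^ i) (((x ^ i)⁻¹ * u * x ^ i) • z) * β ((x ^ i)⁻¹ * u * x ^ i) z) :=
      Finset.prod_congr rfl fun z _ => by
        rw [← hco, ← hco]; congr 1; group
    rw [Finset.prod_mul_distrib, Finset.prod_mul_distrib, hperm _ hv fun z => β (x ^ i) z,
      mul_comm (∏ z ∈ B₀, β (x ^ i) z)] at h2
    exact mul_right_cancel h2
  have hQidx : ∀ g : G, ∃ i < p, (x ^ i)⁻¹ * g ∈ Q := by
    intro g
    have hne : (x : G ⧸ Q) ≠ 1 := fun h => hx ((QuotientGroup.eq_one_iff x).1 h)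
    obtain ⟨k, hk⟩ := (Submonoid.mem_powers_iff _ _).1 (mem_powers_of_prime_card hidx (g' := (g : G ⧸ Q)) hne)
    refine ⟨k % p, Nat.mod_lt _ hp.pos, ?_⟩
    rw [← QuotientGroup.eq, QuotientGroup.mk_pow, ← hk]
    refine pow_eq_pow_iff_modEq.2 (Nat.ModEq.of_dvd ?_ (Nat.mod_modEq k p))
    have := orderOf_dvd_natCard (x : G ⧸ Q)
    rwa [← Subgroup.index_eq_card, hidx] at this
  have hprod : ∏ z ∈ D, β u z = ∏ i ∈ Finset.range p, ∏ z ∈ B₀, β u (x ^ i • z) := by
    rw [← Finset.prod_product' (f := fun i z => β u (x ^ i • z))]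
    refine (Finset.prod_bij (fun iz _ => x ^ iz.1 • iz.2) (fun iz hiz => ?_) (fun a ha b hb h => ?_)
      (fun z hz => ?_) (fun _ _ => rfl)).symm
    · obtain ⟨r, -, hr⟩ := (hB₀ _).1 (Finset.mem_product.1 hiz).2
      rw [hD, ← hr]
      exact ⟨x ^ iz.1 * r, mul_smul _ _ _⟩
    · obtain ⟨i, a⟩ := a
      obtain ⟨j, b⟩ := b
      obtain ⟨hi, ha⟩ := Finset.mem_product.1 ha
      obtain ⟨hj, hb⟩ := Finset.mem_product.1 hb
      obtain ⟨r, hr, rfl⟩ := (hB₀ _).1 ha
      obtain ⟨s, hs, rfl⟩ := (hB₀ _).1 hb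
      have h1 : (x ^ i * r)⁻¹ * (x ^ j * s) ∈ Q := hle (MulAction.mem_stabilizer_iff.2 (by
        rw [mul_smul, mul_smul (x ^ j), ← h, inv_smul_eq_iff, mul_smul]))
      have h2 : ((x ^ i : G) : G ⧸ Q) = ((x ^ j : G) : G ⧸ Q) := by
        refine QuotientGroup.eq.2 ?_
        have h3 := Q.mul_mem (Q.mul_mem hr h1) (Q.inv_mem hs)
        simpa [mul_assoc] using h3
      rw [QuotientGroup.mk_pow, QuotientGroup.mk_pow, pow_eq_pow_iff_modEq] at h2
      have hord : orderOf (x : G ⧸ Q) = p := orderOf_eq_prime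
        (by rw [← hidx, Subgroup.index_eq_card]; exact pow_card_eq_one')
        (fun h => hx ((QuotientGroup.eq_one_iff x).1 h))
      rw [hord] at h2
      obtain rfl : i = j :=
        h2.eq_of_lt_of_lt (Finset.mem_range.1 hi) (Finset.mem_range.1 hj)
      exact Prod.ext rfl (smul_left_cancel _ h)
    · obtain ⟨g, rfl⟩ := (hD z).1 hz
      obtain ⟨i, hi, hiQ⟩ := hQidx g
      refine ⟨(i, ((x ^ i)⁻¹ * g) • o),
        Finset.mem_product.2 ⟨Finset.mem_range.2 hi, (hB₀ _).2 ⟨_, hiQ, rfl⟩⟩, ?_⟩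
      show x ^ i • ((x ^ i)⁻¹ * g) • o = g • o
      rw [← mul_smul, mul_inv_cancel_left]
  rw [hprod]
  by_contra hne
  apply hno
  refine exists_onto_sylow hG Q hidx x⁻¹ ν ⟨u, huQ⟩ ?_
  intro h
  apply hne
  rw [← h]
  refine Finset.prod_congr rfl fun i _ => ?_
  rw [hconj i]
  congr 1
  exact Subtype.ext (by simp)

end Cocycle

section Saturated

variable [Fact p.Prime] [Finite S] (hS : IsPGroup p S) (hF : F.IsSaturated p)
include hS hF

theorem hasWreathImage_of_focal {N : FusionSystem (normalizerIn S S)}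
    (hN : F.IsNormalizerSystem S N) (hne : N.focalSubgroup ≠ F.focalSubgroup) :
    HasWreathImage p S := by
  classical
  by_contra hno
  have hp : p.Prime := Fact.out
  have hSS : normalizerIn S S = S :=
    le_antisymm inf_le_left (le_inf le_rfl Subgroup.le_normalizer)
  have hle : N.focalSubgroup ≤ F.focalSubgroup := focal_le_iff.2 fun X f hf x hx =>
    quot_mem_focal ((mor_normalizerSystem hN).1 hf).1 hx
  obtain ⟨M, hM⟩ : ∃ M, M = N.focalSubgroup.subgroupOf S := ⟨_, rfl⟩
  have hMc : commutator S ≤ M := by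
    intro z hz
    rw [hM, Subgroup.mem_subgroupOf]
    have h1 : (z : Ω) ∈ ⁅S, S⁆ := by
      rw [← Subgroup.map_subtype_commutator]; exact Subgroup.mem_map_of_mem _ hz
    exact commutator_le_focal (F := N) (by rwa [hSS])
  haveI : M.Normal := Subgroup.Normal.of_commutator_le _ hMc
  have hnot : ¬ F.focalSubgroup.subgroupOf S ≤ M ⊔ frattini S := fun h => hne (le_antisymm hle
    fun z hz => by
      have h1 := focal_le_of_elementary hS hF hMc h
        (by rw [hM]; exact fun z hz => hle hz) (show (⟨z, focal_le F hz⟩ : S) ∈ _ from hz)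
      rw [hM] at h1
      exact h1)
  obtain ⟨y, hy, hyJ⟩ := SetLike.not_le_iff_exists.1 hnot
  -- a coatom
  obtain ⟨L, hLco, hJL, hyL⟩ : ∃ L : Subgroup S, IsCoatom L ∧ M ⊔ frattini S ≤ L ∧ y ∉ L := by
    haveI : (frattini S).Normal := inferInstance
    let J := M ⊔ frattini S
    have hy1 : QuotientGroup.mk' J y ∉ frattini (S ⧸ J) := by
      intro h
      apply hyJ
      rw [← QuotientGroup.eq_one_iff (N := J)]
      have hbot : frattini (S ⧸ J) ≤ ⊥ :=
        Cfsg.Agent.Fusion.frattini_le_of_elementary (p := p) ⊥ (by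
          rw [commutator_def, ← Subgroup.map_top_of_surjective _ (QuotientGroup.mk'_surjective J),
            ← Subgroup.map_commutator, Subgroup.map_le_iff_le_comap, MonoidHom.comap_bot,
            QuotientGroup.ker_mk', ← commutator_def]
          exact hMc.trans le_sup_left) fun z => by
            obtain ⟨z, rfl⟩ := QuotientGroup.mk'_surjective J z
            rw [← map_pow, Subgroup.mem_bot]
            exact (QuotientGroup.eq_one_iff _).2
              (Subgroup.mem_sup_right (Cfsg.Agent.Core.pow_mem_frattini hS z))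
      exact Subgroup.mem_bot.1 (hbot h)
    obtain ⟨C, hCo, hyC⟩ : ∃ C : Subgroup (S ⧸ J), IsCoatom C ∧ QuotientGroup.mk' J y ∉ C := by
      by_contra hall
      push Not at hall
      apply hy1
      unfold frattini Order.radical
      simp only [Subgroup.mem_iInf]
      exact fun C hC => hall C hC
    exact ⟨C.comap (QuotientGroup.mk' J), Subgroup.isCoatom_comap_of_surjective
      (QuotientGroup.mk'_surjective J) hCo, QuotientGroup.le_comap_mk' J C, hyC⟩
  haveI : Group.IsNilpotent S := hS.isNilpotent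
  haveI hLn : L.Normal := Subgroup.NormalizerCondition.normal_of_coatom L
    Group.normalizerCondition_of_isNilpotent hLco
  have hLidx : L.index = p := by
    obtain ⟨M', hLM, hlt, hidx, -⟩ := exists_index_p_ge (R := (⊤ : Subgroup S)) (Q := L)
      (hS.to_subgroup ⊤) (lt_top_iff_ne_top.2 hLco.1)
    rcases hLM.lt_or_eq with h | rfl
    · exact absurd (hLco.2 M' h) hlt.ne
    · rwa [Subgroup.relIndex_top_right] at hidx
  haveI : Fact p.Prime := ⟨hp⟩
  let eA : S ⧸ L ≃* Multiplicative (ZMod p) := mulEquivOfPrimeCardEq hLidx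
    (by rw [Nat.card_congr Multiplicative.toAdd, Nat.card_zmod])
  let χ : S →* Multiplicative (ZMod p) := eA.toMonoidHom.comp (QuotientGroup.mk' L)
  have hχker : ∀ z ∈ L, χ z = 1 := fun z hz => by
    show eA (QuotientGroup.mk' L z) = 1
    rw [show QuotientGroup.mk' L z = 1 from (QuotientGroup.eq_one_iff z).2 hz, map_one]
  have hχy : χ y ≠ 1 := fun h => hyL ((QuotientGroup.eq_one_iff y).1
    ((MulEquiv.map_eq_one_iff eA).1 h))
  have hstab : ∀ f, Mor F S f → ∀ a b : S, (b : Ω) = f a → χ b = χ a := by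
    intro f hf a b hb
    have hN' : Mor N S f := by
      refine (mor_normalizerSystem hN).2 ⟨hf, hSS.symm.le, fun z hz => hSS.symm ▸ hf.mem_S hz,
        f, by rwa [sup_idem], fun _ _ => rfl, fun z => ?_⟩
      obtain ⟨R, hR⟩ := hf.exists_iso
      obtain rfl : R = S := eq_of_le_of_card le_rfl hR.right_le hR.card_eq.le
      exact hR.2 z
    have h1 : a⁻¹ * b ∈ M := by
      rw [hM, Subgroup.mem_subgroupOf, Subgroup.coe_mul, Subgroup.coe_inv, hb]
      exact quot_mem_focal hN' a.2
    have h2 := hχker _ (hJL (Subgroup.mem_sup_left h1))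
    rw [map_mul, map_inv, inv_mul_eq_one] at h2
    exact h2.symm
  -- an element of smallest order
  have hex : ∃ n, ∃ w : S, (w : Ω) ∈ F.focalSubgroup ∧ χ w ≠ 1 ∧ orderOf w = n :=
    ⟨_, y, hy, hχy, rfl⟩
  obtain ⟨u, huF, huχ, huord⟩ := Nat.find_spec hex
  have hmin : ∀ w : S, (w : Ω) ∈ F.focalSubgroup → orderOf w < orderOf u → χ w = 1 := by
    intro w hw hlt
    by_contra h
    exact Nat.find_min hex (m := orderOf w) (by rwa [← huord]) ⟨w, hw, h, rfl⟩
  obtain ⟨B, hB⟩ := exists_bisetData_above hS hF (⊤ : Subgroup S) le_top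
  have hc : ∀ k ∈ (⊤ : Subgroup S), ∀ x, χ (k * x) = χ k * χ x := fun k _ x => map_mul χ k x
  have hinv : ∀ k ∈ (⊤ : Subgroup S), ∀ x, χ (x * k * x⁻¹) = χ k := fun k _ x => by
    rw [map_mul, map_mul, map_inv, mul_comm (χ x), mul_inv_cancel_right]
  let τ : S →* Multiplicative (ZMod p) := MonoidHom.mk' (B.tr χ) fun a b => by
    rw [B.tr_mul hc hinv, map_mul, div_self', one_pow, mul_one]
  have hτu : B.tr χ u = 1 := MonoidHom.mem_ker.1 ((hom_focal_iff (τ := τ) hS hF).2
    (fun R f hf a b ha hb =>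
      B.tr_stable hc hinv hf ha hb (Subgroup.mem_top _) (Subgroup.mem_top _))
    (show u ∈ F.focalSubgroup.subgroupOf S from huF))
  let β : S → B.O → Multiplicative (ZMod p) := fun g o => χ (B.s g o)
  have hco : ∀ g h o, β (g * h) o = β g (h • o) * β h o := fun g h o => by
    show χ (B.s (g * h) o) = _
    rw [B.cocycle, map_mul]
  have hsmall : ∀ (L' : ℕ) (o : B.O), 1 < L' → L' ∣ orderOf u → u ^ L' • o = o → β (u ^ L') o = 1 := by
    intro L' o hL' hdvd ho
    obtain ⟨P, f, hf, huP, hfu⟩ := B.fixed _ o ho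
    have hord : orderOf (B.s (u ^ L') o) < orderOf u := by
      have h1 : orderOf (B.s (u ^ L') o) ∣ orderOf (u ^ L') := by
        refine orderOf_dvd_of_pow_eq_one (Subtype.ext ?_)
        rw [SubmonoidClass.coe_pow, hfu, ← hf.map_pow huP, ← SubmonoidClass.coe_pow,
          pow_orderOf_eq_one, OneMemClass.coe_one, hf.map_one]
      refine (Nat.le_of_dvd (orderOf_pos _) h1).trans_lt ?_
      rw [orderOf_pow_of_dvd (by omega) hdvd]
      exact Nat.div_lt_self (orderOf_pos u) hL'
    refine hmin _ ?_ hord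
    rw [hfu, show f ((u ^ L' : S) : Ω) =
      ((u ^ L' : S) : Ω) * (((u ^ L' : S) : Ω)⁻¹ * f ((u ^ L' : S) : Ω)) from
        (mul_inv_cancel_left _ _).symm]
    exact Subgroup.mul_mem _ (by rw [SubmonoidClass.coe_pow]; exact Subgroup.pow_mem _ huF _)
      (quot_mem_focal hf huP)
  let Fx : Finset B.O := Finset.univ.filter fun o => ∀ g : S, g • o = o
  have hFx : ∀ o ∈ Fx, β u o = χ u := by
    intro o ho
    have ho' : ∀ g : S, g • o = o := (Finset.mem_filter.1 ho).2
    obtain ⟨P, f, hf, hPf⟩ := B.fixedMap o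
    have hfS : Mor F S f := hf.mono fun z hz => (hPf ⟨z, hz⟩ (ho' _)).1
    exact hstab f hfS u _ (hPf u (ho' u)).2
  have hrest : ∏ o ∈ Finset.univ \ Fx, β u o = 1 := by
    rw [← Finset.prod_fiberwise_of_maps_to (s := Finset.univ \ Fx)
      (t := (Finset.univ \ Fx).image fun o => (Quotient.mk (MulAction.orbitRel S B.O) o))
      (g := fun o => Quotient.mk (MulAction.orbitRel S B.O) o)
      (fun o ho => Finset.mem_image_of_mem _ ho)]
    refine Finset.prod_eq_one fun q hq => ?_
    obtain ⟨o, ho, rfl⟩ := Finset.mem_image.1 hq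
    have hmov : ∃ g : S, g • o ≠ o := by
      simpa [Fx] using (Finset.mem_sdiff.1 ho).2
    refine orbit_prod_eq_one hS hco u hsmall o hmov hno _ fun z => ?_
    rw [Finset.mem_filter, Quotient.eq]
    constructor
    · exact fun h => h.2
    · intro h
      refine ⟨?_, h⟩
      obtain ⟨g, rfl⟩ := h
      simp only [Finset.mem_sdiff, Finset.mem_univ, Fx, Finset.mem_filter, true_and]
      intro hall
      obtain ⟨k, hk⟩ := hmov
      apply hk
      have h1 : g • o = o := by
        have := hall g⁻¹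
        rw [inv_smul_smul] at this
        exact this.symm
      have := hall k
      rwa [h1] at this
  have hcard : Fx.card ≡ Fintype.card B.O [MOD p] := by
    have h1 := hS.card_modEq_card_fixedPoints B.O
    rw [Nat.card_eq_fintype_card] at h1
    refine (show Fx.card = _ from ?_) ▸ h1.symm
    rw [Nat.card_eq_fintype_card, ← Fintype.card_coe]
    exact Fintype.card_congr (Equiv.subtypeEquivRight fun o => by
      simp [Fx, MulAction.mem_fixedPoints])
  have hval : χ u ^ Fx.card = 1 := by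
    rw [← hτu]
    show _ = ∏ o : B.O, β u o
    rw [← Finset.prod_sdiff (Finset.subset_univ Fx), hrest, one_mul,
      Finset.prod_eq_pow_card hFx]
  have hndvd : ¬ p ∣ Fx.card := fun h => hB ((Nat.modEq_zero_iff_dvd).1
    (hcard.symm.trans (Nat.modEq_zero_iff_dvd.2 h)))
  apply huχ
  have hpow : χ u ^ p = 1 := by
    have := pow_card_eq_one' (x := χ u)
    rwa [Nat.card_congr Multiplicative.toAdd, Nat.card_zmod] at this
  exact orderOf_eq_one_iff.1 (Nat.eq_one_of_dvd_coprimes
    (hp.coprime_iff_not_dvd.2 hndvd) (orderOf_dvd_of_pow_eq_one hpow)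
    (orderOf_dvd_of_pow_eq_one hval))

end Saturated

end Cfsg.Agent.FusSys
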